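/-
helper2: transitivity of induction, kernels of constituents, nilpotent groups are M-groups.
-/
import Mathlib
import Cfsg.Prelude.Def_Characters
import Cfsg.Agent.Lib.Lead.CharInd
import Cfsg.Agent.Lib.Lead.CharComplete
import Cfsg.Agent.Lib.Lead.CharBurnside
import Cfsg.Agent.Lib.Helper6.CliffordCorr
import Cfsg.Agent.Lib.Helper6.CentralHom
import Cfsg.Agent.Lib.Helper6.CharNorm
import Cfsg.Agent.Lib.Helper6.LinChar

set_option autoImplicit false
open scoped ComplexConjugate

namespace Cfsg.Agent.Lib.Helper2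

open Cfsg Cfsg.Agent.CharLib Cfsg.Agent.Lib.Helper6 Module
open scoped commutatorElement

universe u

section trans
variable {G : Type u} [Group G] [Fintype G]

/-- restriction of a class function is a class function -/
theorem isClassFunction_restrict {χ : G → ℂ} (hχ : IsClassFunction G χ) (T : Subgroup G) :
    IsClassFunction T (fun t : T => χ t) := by
  intro g h
  exact hχ g h

/-- transitivity of induction of functions -/
theorem indFun_trans (T : Subgroup G) [Fintype T] (U : Subgroup T) [Fintype U]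
    [Fintype (U.map T.subtype)] (μ : U → ℂ) :
    indFun T (indFun U μ) = indFun (U.map T.subtype)
      (μ ∘ (U.equivMapOfInjective T.subtype T.subtype_injective).symm) := by
  classical
  set e := (U.equivMapOfInjective T.subtype T.subtype_injective).symm with he
  have hcf1 : IsClassFunction G (indFun T (indFun U μ)) := indFun_isClassFunction _ _
  have hcf2 : IsClassFunction G (indFun (U.map T.subtype) (μ ∘ e)) := indFun_isClassFunction _ _
  have hsub : indFun T (indFun U μ) - indFun (U.map T.subtype) (μ ∘ e) = 0 := by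
    apply eq_zero_of_classInner_irr_eq_zero (IsClassFunction.sub hcf1 hcf2)
    intro χ
    have hχ : IsClassFunction G (χ : G → ℂ) :=
      IsCharacter.isClassFunction (IsIrrCharacter.isCharacter χ.2)
    rw [classInner_sub_left, frobenius_reciprocity T _ hχ,
      frobenius_reciprocity U μ (isClassFunction_restrict hχ T),
      frobenius_reciprocity (U.map T.subtype) _ hχ]
    rw [sub_eq_zero]
    have h1 : (fun h : (U.map T.subtype) => (χ : G → ℂ) h) =
        (fun u : U => (χ : G → ℂ) ((u : T) : G)) ∘ e := by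
      funext h
      show (χ : G → ℂ) (h : G) = (χ : G → ℂ) (((e h : U) : T) : G)
      have := (U.equivMapOfInjective T.subtype T.subtype_injective).apply_symm_apply h
      have h2 := congrArg Subtype.val this
      rw [Subgroup.coe_equivMapOfInjective_apply] at h2
      have h3 : (((e h : U) : T) : G) = (h : G) := h2
      rw [h3]
    rw [h1, classInner_comp_mulEquiv e]
  exact sub_eq_zero.mp hsub

/-- a class function is induced from itself on the full group -/
theorem indFun_top {χ : G → ℂ} (hχ : IsClassFunction G χ) [Fintype (⊤ : Subgroup G)] :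
    indFun (⊤ : Subgroup G) (fun h => χ h) = χ := by
  classical
  funext g
  unfold indFun
  have h1 : ∀ x : G, extendByZero (⊤ : Subgroup G) (fun h => χ h) (x⁻¹ * g * x) = χ g := by
    intro x
    have := extendByZero_apply_coe (⊤ : Subgroup G) (fun h => χ h) ⟨x⁻¹ * g * x, Subgroup.mem_top _⟩
    rw [this]
    have h2 := hχ g x⁻¹
    rw [inv_inv] at h2
    exact h2
  simp_rw [h1]
  rw [Finset.sum_const, Finset.card_univ, nsmul_eq_mul]
  have : Nat.card (⊤ : Subgroup G) = Fintype.card G := by
    rw [Subgroup.card_top, Nat.card_eq_fintype_card]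
  rw [this]
  have hne : (Fintype.card G : ℂ) ≠ 0 := by exact_mod_cast Fintype.card_ne_zero
  field_simp

end trans

section kernel
variable {A : Type u} [Group A] [Fintype A]

/-- if `Φ g = Φ 1` for a character `Φ`, the same holds for every irreducible constituent -/
theorem constituent_apply_eq {Φ θ : A → ℂ} (hΦ : IsCharacter A Φ) (hθ : IsIrrCharacter A θ)
    (hne : classInner Φ θ ≠ 0) (g : A) (hg : Φ g = Φ 1) : θ g = θ 1 := by
  classical
  let _ := fintypeIrr A
  obtain ⟨m, hm, hcoef⟩ := IsCharacter.exists_decomp_sum hΦ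
  -- each irreducible has Re ψ g ≤ ψ 1
  have hre : ∀ ψ : IrrCharacter A, ((ψ : A → ℂ) g).re ≤ ((ψ : A → ℂ) 1).re := by
    intro ψ
    obtain ⟨n, ρ, hirr, hρ⟩ := ψ.2
    rw [← hρ, Representation.char_one]
    have h1 := norm_char_le ρ g
    have h2 := Complex.re_le_norm (ρ.character g)
    simp only [Complex.natCast_re]
    linarith
  have hsum : ∑ ψ : IrrCharacter A, (m ψ : ℝ) * (((ψ : A → ℂ) 1).re - ((ψ : A → ℂ) g).re) = 0 := by
    have h1 := congrFun hm 1
    have h2 := congrFun hm g
    rw [Finset.sum_apply] at h1 h2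
    have h3 : (Φ 1).re - (Φ g).re = 0 := by rw [hg]; ring
    rw [h1, h2] at h3
    rw [← h3, Complex.re_sum, Complex.re_sum, ← Finset.sum_sub_distrib]
    apply Finset.sum_congr rfl
    intro ψ _
    simp only [Pi.smul_apply, nsmul_eq_mul, Complex.mul_re, Complex.natCast_re,
      Complex.natCast_im, zero_mul, sub_zero]
    ring
  have hnonneg : ∀ ψ ∈ (Finset.univ : Finset (IrrCharacter A)),
      0 ≤ (m ψ : ℝ) * (((ψ : A → ℂ) 1).re - ((ψ : A → ℂ) g).re) := by
    intro ψ _
    apply mul_nonneg (Nat.cast_nonneg _)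
    linarith [hre ψ]
  have hz := (Finset.sum_eq_zero_iff_of_nonneg hnonneg).mp hsum ⟨θ, hθ⟩ (Finset.mem_univ _)
  have hmθ : (m ⟨θ, hθ⟩ : ℝ) ≠ 0 := by
    have := hcoef ⟨θ, hθ⟩
    intro h0
    apply hne
    rw [this]
    have : m ⟨θ, hθ⟩ = 0 := by exact_mod_cast h0
    rw [this, Nat.cast_zero]
  have hre_eq : (θ g).re = (θ 1).re := by
    have h := (mul_eq_zero.mp hz).resolve_left hmθ
    have h' : (θ 1).re - (θ g).re = 0 := h
    linarith
  -- norm bound forces equality
  obtain ⟨n, ρ, hirr, hρ⟩ := hθ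
  rw [← hρ] at hre_eq ⊢
  rw [Representation.char_one] at hre_eq ⊢
  have h1 := norm_char_le ρ g
  simp only [Complex.natCast_re] at hre_eq
  apply Complex.ext
  · simp only [Complex.natCast_re]; exact hre_eq
  · simp only [Complex.natCast_im]
    have h2 := Complex.sq_norm (ρ.character g)
    rw [Complex.normSq_apply, hre_eq] at h2
    have h3 : ‖ρ.character g‖ ^ 2 ≤ (finrank ℂ (Fin n → ℂ) : ℝ) ^ 2 :=
      pow_le_pow_left₀ (norm_nonneg _) h1 2
    nlinarith [sq_nonneg (ρ.character g).im]

end kernel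

section opcent
variable {G : Type u} [Group G] {V : Type*} [AddCommGroup V] [Module ℂ V]

/-- the elements whose operators commute with a given set of operators -/
def opCentralizer (ρ : Representation ℂ G V) (S : Set (Module.End ℂ V)) : Subgroup G where
  carrier := {g | ∀ s ∈ S, ρ g * s = s * ρ g}
  one_mem' := by intro s _; simp
  mul_mem' := by
    intro a b ha hb s hs
    rw [map_mul, mul_assoc, hb s hs, ← mul_assoc, ha s hs, mul_assoc]
  inv_mem' := by
    intro a ha s hs
    have h1 : ρ a⁻¹ * ρ a = 1 := by rw [← map_mul, inv_mul_cancel, map_one]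
    have h2 : ρ a * ρ a⁻¹ = 1 := by rw [← map_mul, mul_inv_cancel, map_one]
    calc ρ a⁻¹ * s = ρ a⁻¹ * s * (ρ a * ρ a⁻¹) := by rw [h2, mul_one]
      _ = ρ a⁻¹ * (s * ρ a) * ρ a⁻¹ := by simp only [mul_assoc]
      _ = ρ a⁻¹ * (ρ a * s) * ρ a⁻¹ := by rw [ha s hs]
      _ = (ρ a⁻¹ * ρ a) * s * ρ a⁻¹ := by simp only [mul_assoc]
      _ = s * ρ a⁻¹ := by rw [h1, one_mul]

theorem mem_opCentralizer {ρ : Representation ℂ G V} {S : Set (Module.End ℂ V)} {g : G} :
    g ∈ opCentralizer ρ S ↔ ∀ s ∈ S, ρ g * s = s * ρ g := Iff.rfl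

end opcent

section main

/-- the inertia subgroup of a function on a normal subgroup -/
def inertia {G : Type u} [Group G] (A : Subgroup G) [A.Normal] (θ : A → ℂ) : Subgroup G where
  carrier := {g | conjFun A g θ = θ}
  one_mem' := conjFun_one A θ
  mul_mem' := by
    intro a b ha hb
    show conjFun A (a * b) θ = θ
    rw [conjFun_mul, ha, hb]
  inv_mem' := by
    intro a ha
    show conjFun A a⁻¹ θ = θ
    have := conjFun_inv_conjFun A a θ
    rw [ha] at this
    exact this

theorem mem_inertia {G : Type u} [Group G] (A : Subgroup G) [A.Normal] (θ : A → ℂ) (g : G) :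
    g ∈ inertia A θ ↔ conjFun A g θ = θ := Iff.rfl

/-- key step: a nonlinear irreducible character of a nilpotent group is induced from a proper
subgroup -/
theorem exists_proper_induced {G : Type u} [Group G] [Fintype G] [Group.IsNilpotent G]
    {χ : G → ℂ} (hχ : IsIrrCharacter G χ) (hnl : χ 1 ≠ 1) :
    ∃ (T : Subgroup G) (_ : Fintype T) (ψ : T → ℂ), T ≠ ⊤ ∧ IsIrrCharacter T ψ ∧
      indFun T ψ = χ := by
  classical
  obtain ⟨n, ρ, hirr, hρ⟩ := hχ
  have hirr' : ρ.IsIrreducible := hirr
  have hχ : IsIrrCharacter G χ := ⟨n, ρ, hirr, hρ⟩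
  -- Z₁
  set Z₁ : Subgroup G := opCentralizer ρ (Set.range ρ) with hZ₁
  have hZ₁mem : ∀ g : G, g ∈ Z₁ ↔ ∀ k : G, ρ g * ρ k = ρ k * ρ g := by
    intro g
    rw [hZ₁, mem_opCentralizer]
    constructor
    · intro h k; exact h _ ⟨k, rfl⟩
    · rintro h _ ⟨k, rfl⟩; exact h k
  have hZ₁ne : Z₁ ≠ ⊤ := by
    intro htop
    apply hnl
    have hcomm : ∀ g k : G, ρ g ∘ₗ ρ k = ρ k ∘ₗ ρ g := by
      intro g k
      have hg : g ∈ Z₁ := by rw [htop]; trivial
      exact (hZ₁mem g).mp hg k
    have := finrank_eq_one_of_forall_comm ρ hcomm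
    rw [← hρ, Representation.char_one, this]
    norm_num
  have hZ₁conj : ∀ g h : G, g ∈ Z₁ → ρ (h * g * h⁻¹) = ρ g := by
    intro g h hg
    rw [map_mul, map_mul, ← (hZ₁mem g).mp hg h, mul_assoc, ← map_mul, mul_inv_cancel, map_one,
      mul_one]
  have hZ₁normal : Z₁.Normal := by
    constructor
    intro g hg h
    rw [hZ₁mem]
    intro k
    rw [hZ₁conj g h hg]
    exact (hZ₁mem g).mp hg k
  -- an element of the second centre outside Z₁
  obtain ⟨x, hxZ, hx2⟩ : ∃ x : G, x ∉ Z₁ ∧ ∀ g : G, ⁅x, g⁆ ∈ Z₁ := by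
    obtain ⟨c, hc⟩ := Subgroup.nilpotent_iff_lowerCentralSeries.mp
      (inferInstance : Group.IsNilpotent G)
    have hex : ∃ k, (⊤ : Subgroup G).lowerCentralSeries k ≤ Z₁ := ⟨c, by rw [hc]; exact bot_le⟩
    have hk0 : Nat.find hex ≠ 0 := by
      intro h0
      have := Nat.find_spec hex
      rw [h0, Subgroup.lowerCentralSeries_zero] at this
      exact hZ₁ne (top_le_iff.mp this)
    obtain ⟨j, hj⟩ := Nat.exists_eq_succ_of_ne_zero hk0
    have hjn : ¬ (⊤ : Subgroup G).lowerCentralSeries j ≤ Z₁ := Nat.find_min hex (by omega)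
    have hj1 : (⊤ : Subgroup G).lowerCentralSeries (j + 1) ≤ Z₁ := by
      have := Nat.find_spec hex
      rw [hj] at this
      exact this
    obtain ⟨x, hxj, hxZ⟩ := SetLike.not_le_iff_exists.mp hjn
    refine ⟨x, hxZ, fun g => hj1 ?_⟩
    rw [Subgroup.lowerCentralSeries_succ]
    exact Subgroup.commutator_mem_commutator hxj (Subgroup.mem_top g)
  -- the normal subgroup A
  set A : Subgroup G := Z₁ ⊔ Subgroup.zpowers x with hA
  have hxA : x ∈ A := (le_sup_right : Subgroup.zpowers x ≤ A) (Subgroup.mem_zpowers x)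
  have hZA : Z₁ ≤ A := le_sup_left
  have hAnormal : A.Normal := by
    constructor
    intro a ha g
    have hmap : A.map (MulAut.conj g).toMonoidHom ≤ A := by
      rw [hA, Subgroup.map_sup]
      apply sup_le
      · rintro _ ⟨z, hz, rfl⟩
        apply hZA
        exact hZ₁normal.conj_mem z hz g
      · rw [MonoidHom.map_zpowers, Subgroup.zpowers_le]
        have h1 : (MulAut.conj g).toMonoidHom x = ⁅g, x⁆ * x := by
          simp [commutatorElement_def, MulAut.conj_apply]
        rw [h1]
        apply A.mul_mem _ hxA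
        apply hZA
        have : ⁅g, x⁆ = ⁅x, g⁆⁻¹ := (commutatorElement_inv x g).symm
        rw [this]
        exact Z₁.inv_mem (hx2 g)
    exact hmap ⟨a, ha, by simp [MulAut.conj_apply]⟩
  -- operators of A commute
  have hAx : A ≤ opCentralizer ρ {ρ x} := by
    rw [hA]
    apply sup_le
    · intro z hz s hs
      rw [Set.mem_singleton_iff] at hs
      subst hs
      exact (hZ₁mem z).mp hz x
    · rw [Subgroup.zpowers_le]
      intro s hs
      rw [Set.mem_singleton_iff] at hs
      subst hs
      rfl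
  have hAA : A ≤ opCentralizer ρ (ρ '' (A : Set G)) := by
    rw [hA]
    apply sup_le
    · rintro z hz _ ⟨a, _, rfl⟩
      exact (hZ₁mem z).mp hz a
    · rw [Subgroup.zpowers_le]
      rintro _ ⟨a, ha, rfl⟩
      exact (hAx ha _ rfl).symm
  have hcommA : ∀ a ∈ A, ∀ b ∈ A, ρ a * ρ b = ρ b * ρ a := by
    intro a ha b hb
    exact hAA ha _ ⟨b, hb, rfl⟩
  have : Fintype A := Fintype.ofFinite A
  -- a constituent of the restriction
  have hχc : IsCharacter G χ := IsIrrCharacter.isCharacter hχ
  have hχ1 : χ 1 ≠ 0 := by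
    obtain ⟨k, hk, hk1⟩ := IsIrrCharacter.apply_one_pos hχ
    rw [hk1]; exact_mod_cast hk.ne'
  have hres0 : resFun A χ ≠ 0 := by
    intro h
    apply hχ1
    have := congrFun h 1
    exact this
  obtain ⟨θ, hθ, hθne⟩ := IsCharacter.exists_constituent (isCharacter_resFun A hχc) hres0
  -- θ is linear
  have hθlin : θ 1 = 1 := by
    apply IsIrrCharacter.apply_one_eq_one_of_commutator hθ
    intro a b
    apply constituent_apply_eq (isCharacter_resFun A hχc) hθ hθne
    rw [resFun_apply, resFun_apply]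
    show χ ((⁅a, b⁆ : A) : G) = χ 1
    rw [← hρ]
    unfold Representation.character
    congr 1
    rw [commutatorElement_def]
    push_cast
    rw [map_mul, map_mul, map_mul, hcommA a a.2 b b.2, mul_assoc (ρ b), ← map_mul ρ (a : G),
      mul_inv_cancel, map_one, mul_one, ← map_mul, mul_inv_cancel, map_one]
  -- the inertia group
  set T : Subgroup G := inertia A θ with hT
  have hTmem : ∀ g : G, g ∈ T ↔ conjFun A g θ = θ := fun g => Iff.rfl
  have hAT : A ≤ T := by
    intro a ha
    rw [hTmem]
    exact conjFun_of_mem A (IsCharacter.isClassFunction (IsIrrCharacter.isCharacter hθ)) ha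
  have hTne : T ≠ ⊤ := by
    intro htop
    have hinv : ∀ g : G, conjFun A g θ = θ := by
      intro g
      rw [← hTmem, htop]; trivial
    have hcl := clifford_of_invariant A hχ hθ hθne hinv
    -- so ρ x is a scalar
    have h1 := congrFun hcl 1
    have hx' := congrFun hcl ⟨x, hxA⟩
    rw [resFun_apply, Pi.smul_apply, smul_eq_mul] at h1 hx'
    rw [hθlin, mul_one] at h1
    have h1' : χ 1 = classInner (resFun A χ) θ := h1
    rw [← h1'] at hx'
    have hnorm : ‖θ ⟨x, hxA⟩‖ = 1 :=
      IsCharacter.norm_eq_one_of_apply_one (IsIrrCharacter.isCharacter hθ) hθlin _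
    have hx'' : χ x = χ 1 * θ ⟨x, hxA⟩ := hx'
    have hnx : ‖ρ.character x‖ = (finrank ℂ (Fin n → ℂ) : ℝ) := by
      rw [hρ, hx'', norm_mul, hnorm, mul_one, ← hρ, Representation.char_one]
      simp
    obtain ⟨ω, hω⟩ := exists_scalar_of_norm_char_eq ρ x hnx
    apply hxZ
    rw [hZ₁mem]
    intro k
    rw [hω]
    ext v
    simp
  have hFT : Fintype T := Fintype.ofFinite T
  obtain ⟨ψ, hψ, hψind, _⟩ := exists_indFun_inertia_eq hAT hθ hTmem hχ hθne
  exact ⟨T, hFT, ψ, hTne, hψ, hψind⟩

/-- auxiliary induction statement -/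
theorem mgroup_aux (N : ℕ) : ∀ (G : Type u) [Group G] [Fintype G] [Group.IsNilpotent G],
    Fintype.card G = N → ∀ χ : G → ℂ, IsIrrCharacter G χ →
      ∃ (H : Subgroup G) (lam : H →* ℂˣ), χ = indFun H (fun h => ((lam h : ℂˣ) : ℂ)) := by
  induction N using Nat.strong_induction_on with
  | _ N ih =>
    intro G _ _ _ hcard χ hχ
    classical
    by_cases hlin : χ 1 = 1
    · -- linear: induced from the whole group
      have hχc : IsCharacter G χ := IsIrrCharacter.isCharacter hχ
      let lam : G →* ℂˣ := linCharUnitsHom hχc hlin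
      refine ⟨⊤, lam.comp (⊤ : Subgroup G).subtype, ?_⟩
      have h1 : (fun h : (⊤ : Subgroup G) => (((lam.comp (⊤ : Subgroup G).subtype) h : ℂˣ) : ℂ)) =
          fun h : (⊤ : Subgroup G) => χ h := by
        funext h
        rfl
      rw [h1]
      have hFtop : Fintype (⊤ : Subgroup G) := Fintype.ofFinite _
      exact (indFun_top (IsCharacter.isClassFunction hχc)).symm
    · obtain ⟨T, hFT, ψ, hTne, hψ, hψind⟩ := exists_proper_induced hχ hlin
      have hlt : Fintype.card T < N := by
        rw [← hcard]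
        have h1 : Nat.card T < Nat.card G := by
          apply lt_of_le_of_ne (Subgroup.card_le_card_group T)
          intro h
          exact hTne (Subgroup.card_eq_iff_eq_top T |>.mp h)
        rwa [Nat.card_eq_fintype_card, Nat.card_eq_fintype_card] at h1
      obtain ⟨U, μ, hμ⟩ := ih (Fintype.card T) hlt T rfl ψ hψ
      have hFU : Fintype U := Fintype.ofFinite U
      have hFU' : Fintype (U.map T.subtype) := Fintype.ofFinite _
      let e := (U.equivMapOfInjective T.subtype T.subtype_injective).symm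
      refine ⟨U.map T.subtype, μ.comp e.toMonoidHom, ?_⟩
      rw [← hψind, hμ, indFun_trans T U]
      rfl

end main

end Cfsg.Agent.Lib.Helper2
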