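/-
helper2: Artin's induction theorem.
-/
import Mathlib
import Cfsg.Prelude.Def_Characters
import Cfsg.Agent.Lib.Lead.CharInd
import Cfsg.Agent.Lib.Lead.CharMore
import Cfsg.Agent.Lib.Helper6.LinChar
import Cfsg.Agent.Lib.Helper6.CharExtra
import Cfsg.Agent.Lib.Helper2.MGroup

set_option autoImplicit false
open scoped ComplexConjugate

namespace Cfsg.Agent.Lib.Helper2

open Cfsg Cfsg.Agent.CharLib Cfsg.Agent.Lib.Helper6 Module

universe u

section linear
variable {G : Type u} [Group G]

theorem extendByZero_add' (H : Subgroup G) (f g : H → ℂ) :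
    extendByZero H (f + g) = extendByZero H f + extendByZero H g := by
  funext y
  by_cases hy : y ∈ H
  · have e : y = ((⟨y, hy⟩ : H) : G) := rfl
    rw [Pi.add_apply, e, extendByZero_apply_coe, extendByZero_apply_coe, extendByZero_apply_coe]
    rfl
  · rw [Pi.add_apply, extendByZero_apply_of_not_mem _ _ hy, extendByZero_apply_of_not_mem _ _ hy,
      extendByZero_apply_of_not_mem _ _ hy, add_zero]

theorem extendByZero_smul' (H : Subgroup G) (c : ℂ) (f : H → ℂ) :
    extendByZero H (c • f) = c • extendByZero H f := by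
  funext y
  by_cases hy : y ∈ H
  · have e : y = ((⟨y, hy⟩ : H) : G) := rfl
    rw [Pi.smul_apply, e, extendByZero_apply_coe, extendByZero_apply_coe]
    rfl
  · rw [Pi.smul_apply, extendByZero_apply_of_not_mem _ _ hy, extendByZero_apply_of_not_mem _ _ hy,
      smul_zero]

theorem extendByZero_mul_restrict (H : Subgroup G) (f : H → ℂ) (χ : G → ℂ) (y : G) :
    extendByZero H (f * fun h : H => χ h) y = extendByZero H f y * χ y := by
  by_cases hy : y ∈ H
  · have e : y = ((⟨y, hy⟩ : H) : G) := rfl
    rw [e, extendByZero_apply_coe, extendByZero_apply_coe]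
    rfl
  · rw [extendByZero_apply_of_not_mem _ _ hy, extendByZero_apply_of_not_mem _ _ hy, zero_mul]

variable [Fintype G]

/-- induction of functions as a linear map -/
noncomputable def indFunLin (H : Subgroup G) : (H → ℂ) →ₗ[ℂ] (G → ℂ) where
  toFun := indFun H
  map_add' f g := by
    funext x
    simp only [indFun, Pi.add_apply]
    rw [extendByZero_add']
    simp only [Pi.add_apply, Finset.sum_add_distrib, mul_add]
  map_smul' c f := by
    funext x
    simp only [indFun, Pi.smul_apply, RingHom.id_apply, smul_eq_mul]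
    rw [extendByZero_smul']
    simp only [Pi.smul_apply, smul_eq_mul, ← Finset.mul_sum]
    ring

theorem indFunLin_apply (H : Subgroup G) (f : H → ℂ) : indFunLin H f = indFun H f := rfl

/-- projection formula -/
theorem indFun_mul_classFunction (H : Subgroup G) (f : H → ℂ) {χ : G → ℂ}
    (hχ : IsClassFunction G χ) :
    indFun H f * χ = indFun H (f * fun h : H => χ h) := by
  funext g
  simp only [indFun, Pi.mul_apply]
  rw [mul_assoc, Finset.sum_mul]
  congr 1
  apply Finset.sum_congr rfl
  intro x _
  rw [extendByZero_mul_restrict]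
  congr 1
  have := hχ g x⁻¹
  rw [inv_inv] at this
  exact this.symm

end linear

section genchar
variable {G : Type u} [Group G]

theorem isGenChar_of_isCharacter {χ : G → ℂ} (h : IsCharacter G χ) : IsGeneralizedCharacter G χ :=
  ⟨χ, 0, h, isCharacter_zero, by rw [sub_zero]⟩

theorem isGenChar_zero : IsGeneralizedCharacter G (0 : G → ℂ) :=
  isGenChar_of_isCharacter isCharacter_zero

theorem IsGenChar.add {f g : G → ℂ} (hf : IsGeneralizedCharacter G f)
    (hg : IsGeneralizedCharacter G g) : IsGeneralizedCharacter G (f + g) := by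
  obtain ⟨a, b, ha, hb, rfl⟩ := hf
  obtain ⟨c, d, hc, hd, rfl⟩ := hg
  exact ⟨a + c, b + d, IsCharacter.add ha hc, IsCharacter.add hb hd, by ring⟩

theorem IsGenChar.neg {f : G → ℂ} (hf : IsGeneralizedCharacter G f) :
    IsGeneralizedCharacter G (-f) := by
  obtain ⟨a, b, ha, hb, rfl⟩ := hf
  exact ⟨b, a, hb, ha, by ring⟩

theorem IsGenChar.sub {f g : G → ℂ} (hf : IsGeneralizedCharacter G f)
    (hg : IsGeneralizedCharacter G g) : IsGeneralizedCharacter G (f - g) := by
  rw [sub_eq_add_neg]
  exact IsGenChar.add hf (IsGenChar.neg hg)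

theorem IsGenChar.sum {ι : Type*} (s : Finset ι) {f : ι → G → ℂ}
    (h : ∀ i ∈ s, IsGeneralizedCharacter G (f i)) : IsGeneralizedCharacter G (∑ i ∈ s, f i) := by
  classical
  induction s using Finset.induction_on with
  | empty => rw [Finset.sum_empty]; exact isGenChar_zero
  | insert a s ha ih =>
    rw [Finset.sum_insert ha]
    exact IsGenChar.add (h a (Finset.mem_insert_self a s))
      (ih (fun i hi => h i (Finset.mem_insert_of_mem hi)))

theorem IsGenChar.mul_isCharacter {f χ : G → ℂ} (hf : IsGeneralizedCharacter G f)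
    (hχ : IsCharacter G χ) : IsGeneralizedCharacter G (f * χ) := by
  obtain ⟨a, b, ha, hb, rfl⟩ := hf
  exact ⟨a * χ, b * χ, IsCharacter.mul ha hχ, IsCharacter.mul hb hχ, by ring⟩

theorem IsGenChar.indFun [Fintype G] (H : Subgroup G) {f : H → ℂ}
    (hf : IsGeneralizedCharacter H f) : IsGeneralizedCharacter G (indFun H f) := by
  obtain ⟨a, b, ha, hb, rfl⟩ := hf
  refine ⟨Cfsg.indFun H a, Cfsg.indFun H b, IsCharacter.indFun H ha, IsCharacter.indFun H hb, ?_⟩
  rw [← indFunLin_apply, ← indFunLin_apply, ← indFunLin_apply, map_sub]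

end genchar

section genfun

/-- the function `|A|` on generators of `A`, zero elsewhere -/
noncomputable def genFun (A : Type u) [Group A] : A → ℂ :=
  fun a => by
    classical
    exact if Subgroup.zpowers a = ⊤ then (Nat.card A : ℂ) else 0

theorem genFun_apply (A : Type u) [Group A] [DecidableEq (Subgroup A)] (a : A) :
    genFun A a = if Subgroup.zpowers a = ⊤ then (Nat.card A : ℂ) else 0 := by
  unfold genFun
  congr

theorem genFun_isClassFunction (A : Type u) [Group A] : IsClassFunction A (genFun A) := by
  classical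
  intro g h
  rw [genFun_apply, genFun_apply]
  have : Subgroup.zpowers (h * g * h⁻¹) = ⊤ ↔ Subgroup.zpowers g = ⊤ := by
    have e : Subgroup.zpowers (h * g * h⁻¹) = (Subgroup.zpowers g).map (MulAut.conj h).toMonoidHom := by
      rw [MonoidHom.map_zpowers]
      rfl
    rw [e]
    constructor
    · intro ht
      have := congrArg (Subgroup.map (MulAut.conj h⁻¹).toMonoidHom) ht
      rw [Subgroup.map_map] at this
      have hid : (MulAut.conj h⁻¹).toMonoidHom.comp (MulAut.conj h).toMonoidHom = MonoidHom.id A := by
        ext x; simp [MulAut.conj_apply]; group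
      rw [hid, Subgroup.map_id] at this
      rw [this]
      exact Subgroup.map_top_of_surjective _ (MulAut.conj h⁻¹).surjective
    · intro ht
      rw [ht]
      exact Subgroup.map_top_of_surjective _ (MulAut.conj h).surjective
  by_cases hg : Subgroup.zpowers g = ⊤
  · rw [if_pos hg, if_pos (this.mpr hg)]
  · rw [if_neg hg, if_neg (fun h' => hg (this.mp h'))]

/-- extension by zero of `genFun B` -/
theorem extendByZero_genFun {A : Type u} [Group A] [DecidableEq (Subgroup A)] (B : Subgroup A)
    (y : A) :
    extendByZero B (genFun B) y = if Subgroup.zpowers y = B then (Nat.card B : ℂ) else 0 := by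
  classical
  by_cases hy : y ∈ B
  · have e : y = ((⟨y, hy⟩ : B) : A) := rfl
    conv_lhs => rw [e, extendByZero_apply_coe, genFun_apply]
    have hiff : Subgroup.zpowers (⟨y, hy⟩ : B) = ⊤ ↔ Subgroup.zpowers y = B := by
      have h1 : (Subgroup.zpowers (⟨y, hy⟩ : B)).map B.subtype = Subgroup.zpowers y := by
        rw [MonoidHom.map_zpowers]; rfl
      have h2 : (⊤ : Subgroup B).map B.subtype = B := by
        rw [← MonoidHom.range_eq_map, Subgroup.range_subtype]
      constructor
      · intro h; rw [← h1, h, h2]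
      · intro h
        apply Subgroup.map_injective B.subtype_injective
        rw [h1, h2, h]
    by_cases hz : Subgroup.zpowers y = B
    · rw [if_pos hz, if_pos (hiff.mpr hz)]
    · rw [if_neg hz, if_neg (fun h => hz (hiff.mp h))]
  · rw [extendByZero_apply_of_not_mem _ _ hy, if_neg]
    intro h
    apply hy
    rw [← h]
    exact Subgroup.mem_zpowers y

/-- the basic identity: the sum of the induced generator functions is the constant `|A|` -/
theorem sum_indFun_genFun (A : Type u) [Group A] [Fintype A] [Fintype (Subgroup A)] :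
    ∑ B : Subgroup A, indFun B (genFun B) = fun _ => (Nat.card A : ℂ) := by
  classical
  funext a
  rw [Finset.sum_apply]
  have h1 : ∀ B : Subgroup A, indFun B (genFun B) a =
      ∑ x : A, if Subgroup.zpowers (x⁻¹ * a * x) = B then (1 : ℂ) else 0 := by
    intro B
    unfold indFun
    simp_rw [extendByZero_genFun]
    rw [Finset.mul_sum]
    apply Finset.sum_congr rfl
    intro x _
    have hne : (Nat.card B : ℂ) ≠ 0 := by
      exact_mod_cast (Nat.card_pos (α := B)).ne'
    split_ifs
    · field_simp
    · rw [mul_zero]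
  simp_rw [h1]
  rw [Finset.sum_comm]
  simp only [Finset.sum_ite_eq, Finset.mem_univ, if_true, Finset.sum_const, Finset.card_univ,
    nsmul_eq_mul, mul_one, Nat.card_eq_fintype_card]

theorem genFun_top (A : Type u) [Group A] :
    genFun (⊤ : Subgroup A) = fun h : (⊤ : Subgroup A) => genFun A h := by
  classical
  funext h
  have h1 := extendByZero_genFun (⊤ : Subgroup A) (h : A)
  rw [extendByZero_apply_coe] at h1
  rw [h1, genFun_apply, Subgroup.card_top]

/-- the generator function is a generalized character -/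
theorem isGenChar_genFun_aux (N : ℕ) : ∀ (A : Type u) [Group A] [Fintype A],
    Fintype.card A = N → IsGeneralizedCharacter A (genFun A) := by
  induction N using Nat.strong_induction_on with
  | _ N ih =>
    intro A _ _ hcard
    classical
    have : Fintype (Subgroup A) := Fintype.ofFinite _
    have hI := sum_indFun_genFun A
    rw [← Finset.add_sum_erase Finset.univ _ (Finset.mem_univ (⊤ : Subgroup A))] at hI
    have htop : indFun (⊤ : Subgroup A) (genFun (⊤ : Subgroup A)) = genFun A := by
      rw [genFun_top]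
      exact indFun_top (genFun_isClassFunction A)
    rw [htop] at hI
    have hgen : genFun A = (fun _ => (Nat.card A : ℂ)) -
        ∑ B ∈ Finset.univ.erase (⊤ : Subgroup A), indFun B (genFun B) := eq_sub_of_add_eq hI
    rw [hgen]
    apply IsGenChar.sub
    · have h1 := IsCharacter.nsmul (isCharacter_one (G := A)) (Nat.card A)
      have h2 : (Nat.card A) • (1 : A → ℂ) = fun _ => (Nat.card A : ℂ) := by
        funext x; simp
      rw [h2] at h1
      exact isGenChar_of_isCharacter h1
    · apply IsGenChar.sum
      intro B hB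
      have hBne : B ≠ ⊤ := Finset.ne_of_mem_erase hB
      apply IsGenChar.indFun
      have hFB : Fintype B := Fintype.ofFinite B
      have hlt : Fintype.card B < N := by
        rw [← hcard]
        have h1 : Nat.card B < Nat.card A := by
          apply lt_of_le_of_ne (Subgroup.card_le_card_group B)
          intro h
          exact hBne (Subgroup.card_eq_iff_eq_top B |>.mp h)
        rwa [Nat.card_eq_fintype_card, Nat.card_eq_fintype_card] at h1
      exact ih (Fintype.card B) hlt B rfl

theorem isGenChar_genFun (A : Type u) [Group A] [Finite A] :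
    IsGeneralizedCharacter A (genFun A) := by
  have : Fintype A := Fintype.ofFinite A
  exact isGenChar_genFun_aux (Fintype.card A) A rfl

theorem genFun_eq_zero_of_not_isCyclic (A : Type u) [Group A] (h : ¬ IsCyclic A) :
    genFun A = 0 := by
  classical
  funext a
  rw [genFun_apply, if_neg]
  · rfl
  · intro ha
    apply h
    exact ⟨⟨a, fun x => by
      have : x ∈ Subgroup.zpowers a := by rw [ha]; trivial
      exact this⟩⟩

end genfun

section artin
variable {G : Type u} [Group G] [Fintype G]

/-- characters induced from homomorphisms of cyclic subgroups into `ℂˣ` -/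
def artinGen (G : Type u) [Group G] [Fintype G] : Set (G → ℂ) :=
  {f | ∃ (A : Subgroup G) (lam : A →* ℂˣ), IsCyclic A ∧ f = indFun A (fun a => ((lam a : ℂˣ) : ℂ))}

/-- their integral span -/
def artinSpan (G : Type u) [Group G] [Fintype G] : AddSubgroup (G → ℂ) :=
  AddSubgroup.closure (artinGen G)

theorem indFun_char_mem_artinSpan (A : Subgroup G) (hA : IsCyclic A) {φ : A → ℂ}
    (hφ : IsCharacter A φ) : indFun A φ ∈ artinSpan G := by
  classical
  have : Fintype A := Fintype.ofFinite A
  let _ := fintypeIrr A
  obtain ⟨m, hm, _⟩ := IsCharacter.exists_decomp_sum hφ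
  rw [hm, ← indFunLin_apply, map_sum]
  apply AddSubgroup.sum_mem
  intro ψ _
  rw [map_nsmul]
  apply AddSubgroup.nsmul_mem
  apply AddSubgroup.subset_closure
  have hcomm : ∀ a b : A, a * b = b * a := by
    have := hA.isMulCommutative
    exact fun a b => this.is_comm.comm a b
  have hψ1 : (ψ : A → ℂ) 1 = 1 := (comm_iff_forall_irr_apply_one.mp hcomm) ψ
  have hψc : IsCharacter A (ψ : A → ℂ) := IsIrrCharacter.isCharacter ψ.2
  exact ⟨A, linCharUnitsHom hψc hψ1, hA, rfl⟩

theorem indFun_genChar_mem_artinSpan (A : Subgroup G) (hA : IsCyclic A) {φ : A → ℂ}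
    (hφ : IsGeneralizedCharacter A φ) : indFun A φ ∈ artinSpan G := by
  obtain ⟨a, b, ha, hb, rfl⟩ := hφ
  rw [← indFunLin_apply, map_sub]
  exact AddSubgroup.sub_mem _ (indFun_char_mem_artinSpan A hA ha) (indFun_char_mem_artinSpan A hA hb)

/-- Artin's theorem, span form -/
theorem artin_span {χ : G → ℂ} (hχ : IsCharacter G χ) :
    (Nat.card G : ℂ) • χ ∈ artinSpan G := by
  classical
  have : Fintype (Subgroup G) := Fintype.ofFinite _
  have hI := sum_indFun_genFun G
  have h1 : (Nat.card G : ℂ) • χ = (∑ B : Subgroup G, indFun B (genFun B)) * χ := by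
    rw [hI]
    funext g
    simp
  rw [h1, Finset.sum_mul]
  apply AddSubgroup.sum_mem
  intro B _
  rw [indFun_mul_classFunction B _ (IsCharacter.isClassFunction hχ)]
  by_cases hB : IsCyclic B
  · apply indFun_genChar_mem_artinSpan B hB
    exact IsGenChar.mul_isCharacter (isGenChar_genFun B) (IsCharacter.restrict hχ B)
  · rw [genFun_eq_zero_of_not_isCyclic B hB, zero_mul, ← indFunLin_apply, map_zero]
    exact AddSubgroup.zero_mem _

theorem artin_list_sum_neg (l : List ((A : Subgroup G) × ((A →* ℂˣ) × ℤ))) :
    -(l.map fun t => (t.2.2 : ℂ) • indFun t.1 (fun a => ((t.2.1 a : ℂˣ) : ℂ))).sum =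
      ((l.map (fun t => (⟨t.1, t.2.1, -t.2.2⟩ : (A : Subgroup G) × ((A →* ℂˣ) × ℤ)))).map
        fun t => (t.2.2 : ℂ) • indFun t.1 (fun a => ((t.2.1 a : ℂˣ) : ℂ))).sum := by
  induction l with
  | nil => simp
  | cons a l ih =>
    rw [List.map_cons, List.map_cons, List.map_cons, List.sum_cons, List.sum_cons, neg_add, ih]
    congr 1
    simp

/-- conversion of span membership into an explicit list -/
theorem exists_list_of_mem_artinSpan {f : G → ℂ} (hf : f ∈ artinSpan G) :
    ∃ l : List ((A : Subgroup G) × ((A →* ℂˣ) × ℤ)), (∀ t ∈ l, IsCyclic t.1) ∧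
      f = (l.map fun t => (t.2.2 : ℂ) • indFun t.1 (fun a => ((t.2.1 a : ℂˣ) : ℂ))).sum := by
  unfold artinSpan at hf
  induction hf using AddSubgroup.closure_induction with
  | mem x hx =>
    obtain ⟨A, lam, hA, rfl⟩ := hx
    refine ⟨[⟨A, lam, 1⟩], ?_, ?_⟩
    · intro t ht
      rw [List.mem_singleton] at ht
      rw [ht]; exact hA
    · simp
  | zero => exact ⟨[], by simp, by simp⟩
  | add x y _ _ hx hy =>
    obtain ⟨l₁, h₁, rfl⟩ := hx
    obtain ⟨l₂, h₂, rfl⟩ := hy
    refine ⟨l₁ ++ l₂, ?_, ?_⟩
    · intro t ht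
      rcases List.mem_append.mp ht with h | h
      · exact h₁ t h
      · exact h₂ t h
    · rw [List.map_append, List.sum_append]
  | neg x _ hx =>
    obtain ⟨l, h₁, rfl⟩ := hx
    refine ⟨l.map (fun t => ⟨t.1, t.2.1, -t.2.2⟩), ?_, ?_⟩
    · intro t ht
      obtain ⟨s, hs, rfl⟩ := List.mem_map.mp ht
      exact h₁ s hs
    · exact artin_list_sum_neg l

/-- Artin's induction theorem -/
theorem artin {χ : G → ℂ} (hχ : IsCharacter G χ) :
    ∃ l : List ((A : Subgroup G) × ((A →* ℂˣ) × ℤ)), (∀ t ∈ l, IsCyclic t.1) ∧
      (Nat.card G : ℂ) • χ =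
        (l.map fun t => (t.2.2 : ℂ) • indFun t.1 (fun a => ((t.2.1 a : ℂˣ) : ℂ))).sum :=
  exists_list_of_mem_artinSpan (artin_span hχ)

end artin

end Cfsg.Agent.Lib.Helper2
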