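/-
helper2: quasi-elementary groups: irreducible characters are integral combinations of characters
induced from linear characters of elementary subgroups (towards the Brauer induction theorem).
-/
import Mathlib
import Cfsg.Prelude.Def_Characters
import Cfsg.Agent.Lib.Helper2.MGroup
import Cfsg.Agent.Lib.Helper2.Artin
import Cfsg.Agent.Lib.Helper6.AbelianQuot
import Cfsg.Agent.S0873
import Cfsg.Agent.S0872

set_option autoImplicit false
open scoped ComplexConjugate

namespace Cfsg.Agent.Lib.Helper2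

open Cfsg Cfsg.Agent.CharLib Cfsg.Agent.Lib.Helper6 Module
open scoped commutatorElement

universe u

section proper

/-- key step, general form: if every proper normal subgroup `Z` admits `x ∉ Z` with `Z ⊔ ⟨x⟩`
normal, then a nonlinear irreducible character is induced from a proper subgroup -/
theorem exists_proper_induced' {G : Type u} [Group G] [Fintype G]
    (hsup : ∀ Z : Subgroup G, Z.Normal → Z ≠ ⊤ →
      ∃ x : G, x ∉ Z ∧ (Z ⊔ Subgroup.zpowers x).Normal)
    {χ : G → ℂ} (hχ : IsIrrCharacter G χ) (hnl : χ 1 ≠ 1) :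
    ∃ (T : Subgroup G) (_ : Fintype T) (ψ : T → ℂ), T ≠ ⊤ ∧ IsIrrCharacter T ψ ∧
      indFun T ψ = χ := by
  classical
  obtain ⟨n, ρ, hirr, hρ⟩ := hχ
  have hirr' : ρ.IsIrreducible := hirr
  have hχ : IsIrrCharacter G χ := ⟨n, ρ, hirr, hρ⟩
  -- Z₁
  set Z₁ : Subgroup G := opCentralizer ρ (Set.range ρ) with hZ₁
  have hZ₁mem : ∀ g : G, g ∈ Z₁ ↔ ∀ k : G, ρ g * ρ k = ρ k * ρ g := by
    intro g
    rw [hZ₁, mem_opCentralizer]
    constructor
    · intro h k; exact h _ ⟨k, rfl⟩
    · rintro h _ ⟨k, rfl⟩; exact h k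
  have hZ₁ne : Z₁ ≠ ⊤ := by
    intro htop
    apply hnl
    have hcomm : ∀ g k : G, ρ g ∘ₗ ρ k = ρ k ∘ₗ ρ g := by
      intro g k
      have hg : g ∈ Z₁ := by rw [htop]; trivial
      exact (hZ₁mem g).mp hg k
    have := finrank_eq_one_of_forall_comm ρ hcomm
    rw [← hρ, Representation.char_one, this]
    norm_num
  have hZ₁conj : ∀ g h : G, g ∈ Z₁ → ρ (h * g * h⁻¹) = ρ g := by
    intro g h hg
    rw [map_mul, map_mul, ← (hZ₁mem g).mp hg h, mul_assoc, ← map_mul, mul_inv_cancel, map_one,
      mul_one]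
  have hZ₁normal : Z₁.Normal := by
    constructor
    intro g hg h
    rw [hZ₁mem]
    intro k
    rw [hZ₁conj g h hg]
    exact (hZ₁mem g).mp hg k
  obtain ⟨x, hxZ, hAnormal⟩ := hsup Z₁ hZ₁normal hZ₁ne
  -- the normal subgroup A
  set A : Subgroup G := Z₁ ⊔ Subgroup.zpowers x with hA
  have hxA : x ∈ A := (le_sup_right : Subgroup.zpowers x ≤ A) (Subgroup.mem_zpowers x)
  have hZA : Z₁ ≤ A := le_sup_left
  -- operators of A commute
  have hAx : A ≤ opCentralizer ρ {ρ x} := by
    rw [hA]
    apply sup_le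
    · intro z hz s hs
      rw [Set.mem_singleton_iff] at hs
      subst hs
      exact (hZ₁mem z).mp hz x
    · rw [Subgroup.zpowers_le]
      intro s hs
      rw [Set.mem_singleton_iff] at hs
      subst hs
      rfl
  have hAA : A ≤ opCentralizer ρ (ρ '' (A : Set G)) := by
    rw [hA]
    apply sup_le
    · rintro z hz _ ⟨a, _, rfl⟩
      exact (hZ₁mem z).mp hz a
    · rw [Subgroup.zpowers_le]
      rintro _ ⟨a, ha, rfl⟩
      exact (hAx ha _ rfl).symm
  have hcommA : ∀ a ∈ A, ∀ b ∈ A, ρ a * ρ b = ρ b * ρ a := by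
    intro a ha b hb
    exact hAA ha _ ⟨b, hb, rfl⟩
  have : Fintype A := Fintype.ofFinite A
  -- a constituent of the restriction
  have hχc : IsCharacter G χ := IsIrrCharacter.isCharacter hχ
  have hχ1 : χ 1 ≠ 0 := by
    obtain ⟨k, hk, hk1⟩ := IsIrrCharacter.apply_one_pos hχ
    rw [hk1]; exact_mod_cast hk.ne'
  have hres0 : resFun A χ ≠ 0 := by
    intro h
    apply hχ1
    have := congrFun h 1
    exact this
  obtain ⟨θ, hθ, hθne⟩ := IsCharacter.exists_constituent (isCharacter_resFun A hχc) hres0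
  -- θ is linear
  have hθlin : θ 1 = 1 := by
    apply IsIrrCharacter.apply_one_eq_one_of_commutator hθ
    intro a b
    apply constituent_apply_eq (isCharacter_resFun A hχc) hθ hθne
    rw [resFun_apply, resFun_apply]
    show χ ((⁅a, b⁆ : A) : G) = χ 1
    rw [← hρ]
    unfold Representation.character
    congr 1
    rw [commutatorElement_def]
    push_cast
    rw [map_mul, map_mul, map_mul, hcommA a a.2 b b.2, mul_assoc (ρ b), ← map_mul ρ (a : G),
      mul_inv_cancel, map_one, mul_one, ← map_mul, mul_inv_cancel, map_one]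
  -- the inertia group
  set T : Subgroup G := inertia A θ with hT
  have hTmem : ∀ g : G, g ∈ T ↔ conjFun A g θ = θ := fun g => Iff.rfl
  have hAT : A ≤ T := by
    intro a ha
    rw [hTmem]
    exact conjFun_of_mem A (IsCharacter.isClassFunction (IsIrrCharacter.isCharacter hθ)) ha
  have hTne : T ≠ ⊤ := by
    intro htop
    have hinv : ∀ g : G, conjFun A g θ = θ := by
      intro g
      rw [← hTmem, htop]; trivial
    have hcl := clifford_of_invariant A hχ hθ hθne hinv
    -- so ρ x is a scalar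
    have h1 := congrFun hcl 1
    have hx' := congrFun hcl ⟨x, hxA⟩
    rw [resFun_apply, Pi.smul_apply, smul_eq_mul] at h1 hx'
    rw [hθlin, mul_one] at h1
    have h1' : χ 1 = classInner (resFun A χ) θ := h1
    rw [← h1'] at hx'
    have hnorm : ‖θ ⟨x, hxA⟩‖ = 1 :=
      IsCharacter.norm_eq_one_of_apply_one (IsIrrCharacter.isCharacter hθ) hθlin _
    have hx'' : χ x = χ 1 * θ ⟨x, hxA⟩ := hx'
    have hnx : ‖ρ.character x‖ = (finrank ℂ (Fin n → ℂ) : ℝ) := by
      rw [hρ, hx'', norm_mul, hnorm, mul_one, ← hρ, Representation.char_one]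
      simp
    obtain ⟨ω, hω⟩ := exists_scalar_of_norm_char_eq ρ x hnx
    apply hxZ
    rw [hZ₁mem]
    intro k
    rw [hω]
    ext v
    simp
  have hFT : Fintype T := Fintype.ofFinite T
  obtain ⟨ψ, hψ, hψind, _⟩ := exists_indFun_inertia_eq hAT hθ hTmem hχ hθne
  exact ⟨T, hFT, ψ, hTne, hψ, hψind⟩

end proper

section qe

/-- intrinsic form: `K` is quasi-elementary for the prime `p` -/
def IsQE (p : ℕ) (K : Type u) [Group K] : Prop :=
  ∃ C : Subgroup K, C.Normal ∧ IsCyclic C ∧ Nat.Coprime (Nat.card C) p ∧ ∃ k : ℕ, C.index = p ^ k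

theorem subgroupComap_subtype_injective {K : Type u} [Group K] (C T : Subgroup K) :
    Function.Injective ((T.subtype).subgroupComap C) := by
  intro x y hxy
  have h1 := congrArg Subtype.val hxy
  apply Subtype.ext
  apply Subtype.ext
  exact h1

theorem IsQE.subgroup {p : ℕ} (hp : p.Prime) {K : Type u} [Group K] [Finite K] (h : IsQE p K)
    (T : Subgroup K) : IsQE p T := by
  obtain ⟨C, hCn, hcyc, hcop, k, hk⟩ := h
  have hinj := subgroupComap_subtype_injective C T
  refine ⟨C.subgroupOf T, hCn.subgroupOf T, ?_, ?_, ?_⟩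
  · exact isCyclic_of_injective _ hinj
  · exact Nat.Coprime.coprime_dvd_left (Subgroup.card_dvd_of_injective _ hinj) hcop
  · have h1 : C.relIndex T ∣ C.index := Subgroup.relIndex_dvd_index_of_normal C T
    rw [hk] at h1
    obtain ⟨j, _, hj⟩ := (Nat.dvd_prime_pow hp).mp h1
    exact ⟨j, hj⟩

theorem isQE_of_QE {p : ℕ} {G : Type u} [Group G] {H : Subgroup G}
    (h : Cfsg.Agent.S0872.QE p H) : IsQE p H := by
  obtain ⟨C, hCH, hHN, hcyc, hcop, k, hk⟩ := h
  have e := Subgroup.subgroupOfEquivOfLe hCH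
  refine ⟨C.subgroupOf H, (Subgroup.normal_subgroupOf_iff_le_normalizer hCH).mpr hHN, ?_, ?_,
    k, hk⟩
  · exact isCyclic_of_injective e.toMonoidHom e.injective
  · rw [Nat.card_congr e.toEquiv]; exact hcop

theorem normal_of_le_center {K : Type u} [Group K] {H : Subgroup K}
    (h : H ≤ Subgroup.center K) : H.Normal := by
  constructor
  intro n hn g
  have := Subgroup.mem_center_iff.mp (h hn) g
  rw [this, mul_inv_cancel_right]
  exact hn

theorem IsQE.exists_sup_zpowers_normal {p : ℕ} [Fact p.Prime] {K : Type u} [Group K] [Finite K]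
    (h : IsQE p K) (Z : Subgroup K) (hZn : Z.Normal) (hZ : Z ≠ ⊤) :
    ∃ x : K, x ∉ Z ∧ (Z ⊔ Subgroup.zpowers x).Normal := by
  obtain ⟨C, hCn, hcyc, hcop, k, hk⟩ := h
  by_cases hCZ : C ≤ Z
  · -- the quotient is a nontrivial p-group
    have hidx : Z.index ∣ p ^ k := by rw [← hk]; exact Subgroup.index_dvd_of_le hCZ
    obtain ⟨j, _, hj⟩ := (Nat.dvd_prime_pow Fact.out).mp hidx
    have hpg : IsPGroup p (K ⧸ Z) := by
      apply IsPGroup.of_card (n := j)
      rw [← hj]; rfl
    have hnt : Nontrivial (K ⧸ Z) := by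
      rw [← not_subsingleton_iff_nontrivial]
      intro hs
      apply hZ
      exact QuotientGroup.subgroup_eq_top_of_subsingleton Z hs
    have hcn := hpg.center_nontrivial
    obtain ⟨⟨q, hq⟩, hq1⟩ := exists_ne (1 : Subgroup.center (K ⧸ Z))
    obtain ⟨x, rfl⟩ := QuotientGroup.mk_surjective q
    refine ⟨x, ?_, ?_⟩
    · intro hx
      apply hq1
      apply Subtype.ext
      exact (QuotientGroup.eq_one_iff x).mpr hx
    · have hn : (Subgroup.zpowers (x : K ⧸ Z)).Normal := by
        apply normal_of_le_center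
        rw [Subgroup.zpowers_le]
        exact hq
      have h1 := QuotientGroup.comap_map_mk' Z (Subgroup.zpowers x)
      rw [MonoidHom.map_zpowers] at h1
      rw [← h1]
      exact hn.comap _
  · obtain ⟨c, hc⟩ := (Subgroup.isCyclic_iff_exists_zpowers_eq_top C).mp hcyc
    refine ⟨c, ?_, ?_⟩
    · intro hcZ
      apply hCZ
      rw [← hc, Subgroup.zpowers_le]
      exact hcZ
    · rw [hc]
      exact Subgroup.sup_normal Z C

end qe

section elem

theorem isElementary_of_mulEquiv {p : ℕ} {E E' : Type u} [Group E] [Group E'] (e : E ≃* E')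
    (h : IsElementary p E) : IsElementary p E' := by
  obtain ⟨x, hx, hcop, k, hk⟩ := h
  refine ⟨e x, ?_, ?_, k, ?_⟩
  · rw [Subgroup.mem_center_iff] at hx ⊢
    intro g
    obtain ⟨g', rfl⟩ := e.surjective g
    rw [← map_mul, ← map_mul, hx g']
  · rw [MulEquiv.orderOf_eq]; exact hcop
  · have h1 : Subgroup.zpowers (e x) = (Subgroup.zpowers x).map (e : E →* E') := by
      rw [MonoidHom.map_zpowers]; rfl
    rw [h1, Subgroup.index_map_equiv, hk]

/-- a group generated by a central element of order prime to `p` and a `p`-subgroup is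
elementary -/
theorem isElementary_of_sup {p : ℕ} (hp : p.Prime) {E : Type u} [Group E] [Finite E] (z : E)
    (hz : z ∈ Subgroup.center E) (hcop : Nat.Coprime (orderOf z) p) (P : Subgroup E)
    (hP : IsPGroup p P) (hsup : Subgroup.zpowers z ⊔ P = ⊤) : IsElementary p E := by
  refine ⟨z, hz, hcop, ?_⟩
  have hn : (Subgroup.zpowers z).Normal := by
    constructor
    intro n hn g
    have h1 : n ∈ Subgroup.center E := by
      have : Subgroup.zpowers z ≤ Subgroup.center E := by
        rw [Subgroup.zpowers_le]; exact hz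
      exact this hn
    have := Subgroup.mem_center_iff.mp h1 g
    rw [this, mul_inv_cancel_right]
    exact hn
  have h1 : (Subgroup.zpowers z).index = (Subgroup.zpowers z).relIndex P := by
    rw [← Subgroup.relIndex_sup_left P (Subgroup.zpowers z), hsup, Subgroup.relIndex_top_right]
  have h2 : (Subgroup.zpowers z).relIndex P ∣ Nat.card P := Subgroup.index_dvd_card _
  have : Fact p.Prime := ⟨hp⟩
  obtain ⟨n, hn⟩ := IsPGroup.iff_card.mp hP
  rw [hn] at h2
  obtain ⟨j, _, hj⟩ := (Nat.dvd_prime_pow hp).mp h2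
  exact ⟨j, by rw [h1, hj]⟩

end elem

section span
variable {G : Type u} [Group G] [Fintype G]

/-- functions induced from homomorphisms `E →* ℂˣ` of subgroups `E` satisfying `Q` -/
def linGen (Q : Subgroup G → Prop) : Set (G → ℂ) :=
  {f | ∃ (E : Subgroup G) (lam : E →* ℂˣ), Q E ∧ f = indFun E (fun e => ((lam e : ℂˣ) : ℂ))}

/-- their integral span -/
def linSpan (Q : Subgroup G → Prop) : AddSubgroup (G → ℂ) :=
  AddSubgroup.closure (linGen Q)

theorem linSpan_mono {Q Q' : Subgroup G → Prop} (h : ∀ E, Q E → Q' E) :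
    linSpan Q ≤ linSpan Q' := by
  apply AddSubgroup.closure_mono
  rintro f ⟨E, lam, hE, rfl⟩
  exact ⟨E, lam, h E hE, rfl⟩

/-- induction maps the span of a subgroup into the span of the group -/
theorem indFun_mem_linSpan (T : Subgroup G) [Fintype T] {Q : Subgroup G → Prop}
    {Q' : Subgroup T → Prop}
    (hQ : ∀ U : Subgroup T, Q' U → Q (U.map T.subtype)) {f : T → ℂ}
    (hf : f ∈ linSpan Q') :
    indFun T f ∈ linSpan Q := by
  classical
  unfold linSpan at hf
  induction hf using AddSubgroup.closure_induction with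
  | mem x hx =>
    obtain ⟨U, lam, hU, rfl⟩ := hx
    have hFU : Fintype U := Fintype.ofFinite U
    have hFU' : Fintype (U.map T.subtype) := Fintype.ofFinite _
    apply AddSubgroup.subset_closure
    let e := (U.equivMapOfInjective T.subtype T.subtype_injective).symm
    refine ⟨U.map T.subtype, lam.comp e.toMonoidHom, hQ U hU, ?_⟩
    exact indFun_trans T U (fun u => ((lam u : ℂˣ) : ℂ))
  | zero =>
    rw [← indFunLin_apply, map_zero]
    exact AddSubgroup.zero_mem _
  | add x y _ _ hx hy =>
    rw [← indFunLin_apply, map_add]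
    exact AddSubgroup.add_mem _ hx hy
  | neg x _ hx =>
    rw [← indFunLin_apply, map_neg]
    exact AddSubgroup.neg_mem _ hx

end span

section lin0

/-- the elementary subgroup `C_C(P) P` of a quasi-elementary group -/
theorem exists_elementary_sup {p : ℕ} [Fact p.Prime] {K : Type u} [Group K] [Finite K]
    (C : Subgroup K) (hcyc : IsCyclic C) (hcop : Nat.Coprime (Nat.card C) p)
    (P : Subgroup K) (hP : IsPGroup p P) :
    IsElementary p ↥((C ⊓ Subgroup.centralizer (P : Set K)) ⊔ P) := by
  set Z := C ⊓ Subgroup.centralizer (P : Set K) with hZ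
  have hZC : Z ≤ C := inf_le_left
  have hZcyc : IsCyclic Z := Subgroup.isCyclic_of_le hZC
  obtain ⟨z, hz⟩ := (Subgroup.isCyclic_iff_exists_zpowers_eq_top Z).mp hZcyc
  have hzZ : z ∈ Z := by rw [← hz]; exact Subgroup.mem_zpowers z
  set E := Z ⊔ P with hE
  have hzE : z ∈ E := (le_sup_left : Z ≤ E) hzZ
  -- z commutes with everything in E
  have hcomm : E ≤ Subgroup.centralizer {z} := by
    apply sup_le
    · intro y hy
      rw [Subgroup.mem_centralizer_singleton_iff]
      have hyC : y ∈ C := hZC hy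
      have hzC : z ∈ C := hZC hzZ
      have := hcyc.isMulCommutative
      have h1 := this.is_comm.comm (⟨y, hyC⟩ : C) ⟨z, hzC⟩
      exact (congrArg Subtype.val h1)
    · intro y hy
      rw [Subgroup.mem_centralizer_singleton_iff]
      have h1 : z ∈ Subgroup.centralizer (P : Set K) := hzZ.2
      exact Subgroup.mem_centralizer_iff.mp h1 y hy
  apply isElementary_of_sup Fact.out (⟨z, hzE⟩ : E) _ _ (P.subgroupOf E) hP.comap_subtype
  · -- the join
    have h1 : Subgroup.zpowers (⟨z, hzE⟩ : E) = Z.subgroupOf E := by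
      ext x
      rw [Subgroup.mem_subgroupOf, ← hz, Subgroup.mem_zpowers_iff, Subgroup.mem_zpowers_iff]
      constructor
      · rintro ⟨n, hn⟩
        exact ⟨n, by rw [← hn]; rfl⟩
      · rintro ⟨n, hn⟩
        exact ⟨n, Subtype.ext (by rw [← hn]; rfl)⟩
    rw [h1, ← Subgroup.subgroupOf_sup le_sup_left le_sup_right, Subgroup.subgroupOf_self]
  · rw [Subgroup.mem_center_iff]
    intro g
    apply Subtype.ext
    have := hcomm g.2
    rw [Subgroup.mem_centralizer_singleton_iff] at this
    exact this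
  · have h1 : orderOf (⟨z, hzE⟩ : E) = orderOf z := Subgroup.orderOf_mk z hzE
    rw [h1, ← Nat.card_zpowers, hz]
    exact Nat.Coprime.coprime_dvd_left (Subgroup.card_dvd_of_le hZC) hcop


end lin0

section lin
variable {K : Type u} [Group K] [Fintype K]

/-- a linear constituent of the permutation character on `E ⊇ C_C(P), P` is trivial -/
theorem eq_one_of_linear_constituent {p : ℕ} [Fact p.Prime] (C P E : Subgroup K) [Fintype E]
    (hCn : C.Normal)
    (hP : IsPGroup p P) (hcop : Nat.Coprime (Nat.card C) p) (hCP : C ⊔ P = ⊤)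
    (hZE : C ⊓ Subgroup.centralizer (P : Set K) ≤ E) (hPE : P ≤ E)
    {ψ : K → ℂ} (hψ : IsCharacter K ψ) (hψ1 : ψ 1 = 1)
    (hne : classInner (indFun E (1 : E → ℂ)) ψ ≠ 0) : ψ = fun _ => 1 := by
  classical
  have hcf : IsClassFunction K ψ := IsCharacter.isClassFunction hψ
  rw [frobenius_reciprocity E _ hcf] at hne
  have hres : IsIrrCharacter E (fun e : E => ψ e) :=
    IsCharacter.isIrrCharacter_of_apply_one (IsCharacter.restrict hψ E) hψ1
  have hone : IsIrrCharacter E (1 : E → ℂ) :=
    IsCharacter.isIrrCharacter_of_apply_one isCharacter_one rfl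
  rw [classInner_irr hone hres] at hne
  have hEq : (1 : E → ℂ) = fun e : E => ψ e := by
    by_contra h
    rw [if_neg h] at hne
    exact hne rfl
  have hE1 : ∀ e ∈ E, ψ e = 1 := by
    intro e he
    exact (congrFun hEq ⟨e, he⟩).symm
  -- trivial on C
  have hC1 : (fun c : C => ψ c) = fun _ => 1 := by
    apply Cfsg.Agent.S0873.result p C P hP hcop hCP (fun c : C => ψ c)
      ⟨IsCharacter.restrict hψ C, hψ1⟩
    · intro g c
      exact hcf c g
    · intro c hc
      exact hE1 c (hZE ⟨c.2, hc⟩)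
  let φ : K →* ℂˣ := linCharUnitsHom hψ hψ1
  have hφ : ∀ g, ((φ g : ℂˣ) : ℂ) = ψ g := fun g => rfl
  have hker : (⊤ : Subgroup K) ≤ φ.ker := by
    rw [← hCP]
    apply sup_le
    · intro c hc
      rw [MonoidHom.mem_ker]
      apply Units.ext
      rw [hφ]
      exact congrFun hC1 ⟨c, hc⟩
    · intro x hx
      rw [MonoidHom.mem_ker]
      apply Units.ext
      rw [hφ]
      exact hE1 x (hPE hx)
  funext g
  have := hker (Subgroup.mem_top g)
  rw [MonoidHom.mem_ker] at this
  rw [← hφ, this]
  rfl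


/-- the span for the prime `p` -/
abbrev brauerSpan (p : ℕ) (K : Type u) [Group K] [Fintype K] : AddSubgroup (K → ℂ) :=
  linSpan (fun E : Subgroup K => IsElementary p E)

/-- the linear characters of a quasi-elementary group are in the span, if the nonlinear irreducible
characters are -/
theorem linear_mem_brauerSpan {p : ℕ} [Fact p.Prime] (hQE : IsQE p K)
    (hnl : ∀ ψ : K → ℂ, IsIrrCharacter K ψ → ψ 1 ≠ 1 → ψ ∈ brauerSpan p K)
    {lam : K → ℂ} (hlam : IsCharacter K lam) (h1 : lam 1 = 1) : lam ∈ brauerSpan p K := by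
  classical
  obtain ⟨C, hCn, hcyc, hcop, k, hk⟩ := hQE
  obtain ⟨P⟩ : Nonempty (Sylow p K) := inferInstance
  have hPp : IsPGroup p (P : Subgroup K) := P.isPGroup'
  -- C ⊔ P = ⊤
  have hCP : C ⊔ (P : Subgroup K) = ⊤ := by
    rw [← Subgroup.index_eq_one]
    have h1 : (C ⊔ (P : Subgroup K)).index ∣ p ^ k := by
      rw [← hk]; exact Subgroup.index_dvd_of_le le_sup_left
    have h2 : (C ⊔ (P : Subgroup K)).index ∣ (P : Subgroup K).index :=
      Subgroup.index_dvd_of_le le_sup_right
    obtain ⟨j, _, hj⟩ := (Nat.dvd_prime_pow Fact.out).mp h1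
    rw [hj] at h2 ⊢
    rcases Nat.eq_zero_or_pos j with h0 | hpos
    · rw [h0, pow_zero]
    · exfalso
      apply P.not_dvd_index
      exact (dvd_pow_self p hpos.ne').trans h2
  set E : Subgroup K := (C ⊓ Subgroup.centralizer ((P : Subgroup K) : Set K)) ⊔ (P : Subgroup K)
    with hE
  have hEel : IsElementary p E := exists_elementary_sup C hcyc hcop (P : Subgroup K) hPp
  have hFE : Fintype E := Fintype.ofFinite E
  set Φ : K → ℂ := indFun E (1 : E → ℂ) with hΦdef
  have hΦ : IsCharacter K Φ := IsCharacter.indFun E isCharacter_one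
  have hcf : IsClassFunction K lam := IsCharacter.isClassFunction hlam
  -- lam * Φ is a generator
  have hgen : lam * Φ ∈ brauerSpan p K := by
    apply AddSubgroup.subset_closure
    refine ⟨E, (linCharUnitsHom hlam h1).comp E.subtype, hEel, ?_⟩
    rw [mul_comm, hΦdef, indFun_mul_classFunction E _ hcf, one_mul]
    rfl
  let _ := fintypeIrr K
  obtain ⟨m, hm, hcoef⟩ := IsCharacter.exists_decomp_sum hΦ
  have hone : IsIrrCharacter K (fun _ => (1 : ℂ)) :=
    IsCharacter.isIrrCharacter_of_apply_one isCharacter_one rfl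
  let ψ₀ : IrrCharacter K := ⟨fun _ => 1, hone⟩
  have hm0 : m ψ₀ = 1 := by
    have h2 := hcoef ψ₀
    rw [hΦdef, frobenius_reciprocity E _ (IsCharacter.isClassFunction (IsIrrCharacter.isCharacter hone))] at h2
    have hone' : IsIrrCharacter E (1 : E → ℂ) :=
      IsCharacter.isIrrCharacter_of_apply_one isCharacter_one rfl
    have h3 : (fun h : E => (ψ₀ : K → ℂ) h) = (1 : E → ℂ) := rfl
    rw [h3, classInner_irr hone' hone', if_pos rfl] at h2
    exact_mod_cast h2.symm
  have hexp : lam * Φ = ∑ ψ : IrrCharacter K, m ψ • (lam * (ψ : K → ℂ)) := by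
    rw [hm, Finset.mul_sum]
    apply Finset.sum_congr rfl
    intro ψ _
    rw [mul_smul_comm]
  rw [← Finset.add_sum_erase _ _ (Finset.mem_univ ψ₀), hm0, one_smul] at hexp
  have hlam0 : lam * (ψ₀ : K → ℂ) = lam := by
    funext g
    simp [ψ₀]
  rw [hlam0] at hexp
  have hlam_eq : lam = lam * Φ - ∑ ψ ∈ Finset.univ.erase ψ₀, m ψ • (lam * (ψ : K → ℂ)) := by
    rw [hexp]; abel
  rw [hlam_eq]
  apply AddSubgroup.sub_mem _ hgen
  apply AddSubgroup.sum_mem
  intro ψ hψ
  have hψne : ψ ≠ ψ₀ := (Finset.mem_erase.mp hψ).1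
  by_cases hmz : m ψ = 0
  · rw [hmz, zero_smul]; exact AddSubgroup.zero_mem _
  apply AddSubgroup.nsmul_mem
  have hψ1 : (ψ : K → ℂ) 1 ≠ 1 := by
    intro hψ1
    apply hψne
    apply Subtype.ext
    apply eq_one_of_linear_constituent C (P : Subgroup K) E hCn hPp hcop hCP le_sup_left
      le_sup_right (IsIrrCharacter.isCharacter ψ.2) hψ1
    rw [← hΦdef, hcoef ψ]
    exact_mod_cast hmz
  apply hnl _ (isIrrCharacter_linear_mul hlam h1 ψ.2)
  rw [Pi.mul_apply, h1, one_mul]
  exact hψ1

end lin

section main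

/-- irreducible characters of quasi-elementary groups lie in the span -/
theorem isQE_irr_mem_brauerSpan {p : ℕ} [Fact p.Prime] (N : ℕ) :
    ∀ (K : Type u) [Group K] [Fintype K], Fintype.card K = N → IsQE p K →
      ∀ ψ : K → ℂ, IsIrrCharacter K ψ → ψ ∈ brauerSpan p K := by
  induction N using Nat.strong_induction_on with
  | _ N ih =>
    intro K _ _ hcard hQE
    have hnl : ∀ ψ : K → ℂ, IsIrrCharacter K ψ → ψ 1 ≠ 1 → ψ ∈ brauerSpan p K := by
      intro ψ hψ hψ1
      obtain ⟨T, hFT, θ, hTne, hθ, hind⟩ := exists_proper_induced'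
        (fun Z hZn hZ => hQE.exists_sup_zpowers_normal Z hZn hZ) hψ hψ1
      have hlt : Fintype.card T < N := by
        rw [← hcard]
        have h1 : Nat.card T < Nat.card K := by
          apply lt_of_le_of_ne (Subgroup.card_le_card_group T)
          intro h
          exact hTne (Subgroup.card_eq_iff_eq_top T |>.mp h)
        rwa [Nat.card_eq_fintype_card, Nat.card_eq_fintype_card] at h1
      have hθmem := ih (Fintype.card T) hlt T rfl (hQE.subgroup Fact.out T) θ hθ
      rw [← hind]
      exact indFun_mem_linSpan T (fun U hU => isElementary_of_mulEquiv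
        (U.equivMapOfInjective T.subtype T.subtype_injective) hU) hθmem
    intro ψ hψ
    by_cases h1 : ψ 1 = 1
    · exact linear_mem_brauerSpan hQE hnl (IsIrrCharacter.isCharacter hψ) h1
    · exact hnl ψ hψ h1

/-- characters of quasi-elementary groups lie in the span -/
theorem isQE_char_mem_brauerSpan {p : ℕ} [Fact p.Prime] {K : Type u} [Group K] [Fintype K]
    (hQE : IsQE p K) {ψ : K → ℂ} (hψ : IsCharacter K ψ) : ψ ∈ brauerSpan p K := by
  classical
  let _ := fintypeIrr K
  obtain ⟨m, hm, _⟩ := IsCharacter.exists_decomp_sum hψ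
  rw [hm]
  apply AddSubgroup.sum_mem
  intro θ _
  apply AddSubgroup.nsmul_mem
  exact isQE_irr_mem_brauerSpan (Fintype.card K) K rfl hQE θ θ.2

end main

end Cfsg.Agent.Lib.Helper2
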