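/-
helper2: the Brauer induction theorem and Brauer's characterization of characters.
-/
import Mathlib
import Cfsg.Prelude.Def_Characters
import Cfsg.Agent.Lib.Helper2.BrauerQE

set_option autoImplicit false
open scoped ComplexConjugate

namespace Cfsg.Agent.Lib.Helper2

open Cfsg Cfsg.Agent.CharLib Cfsg.Agent.Lib.Helper6 Module

universe u

section brauer
variable {G : Type u} [Group G] [Fintype G]

/-- local form: a multiple prime to `p` of every character lies in the `p`-span -/
theorem exists_smul_mem_brauerSpan (p : ℕ) [Fact p.Prime] {χ : G → ℂ} (hχ : IsCharacter G χ) :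
    ∃ m : ℤ, ¬ (p : ℤ) ∣ m ∧ m • χ ∈ brauerSpan p G := by
  classical
  obtain ⟨m, a, hm, ha, hsum⟩ := Cfsg.Agent.S0872.result (G := G) p Fact.out
  refine ⟨m, hm, ?_⟩
  have hcf : IsClassFunction G χ := IsCharacter.isClassFunction hχ
  have h1 : m • χ = (fun _ : G => (m : ℂ)) * χ := by
    funext g
    simp
  rw [h1, hsum, Finset.sum_mul]
  apply AddSubgroup.sum_mem
  intro H _
  rw [smul_mul_assoc, Int.cast_smul_eq_zsmul]
  by_cases haH : a H = 0
  · rw [haH, zero_smul]; exact AddSubgroup.zero_mem _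
  apply AddSubgroup.zsmul_mem
  have hFH : Fintype H := Fintype.ofFinite H
  have hQE : IsQE p H := isQE_of_QE (ha H haH)
  rw [indFun_mul_classFunction H _ hcf]
  apply indFun_mem_linSpan H (fun U hU => isElementary_of_mulEquiv
    (U.equivMapOfInjective H.subtype H.subtype_injective) hU)
  apply isQE_char_mem_brauerSpan hQE
  have h2 : ((fun _ : H => (1 : ℂ)) * fun h : H => χ h) = fun h : H => χ h := by
    funext h; simp
  rw [h2]
  exact IsCharacter.restrict hχ H

/-- the span over all primes -/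
abbrev brauerSpanAll (G : Type u) [Group G] [Fintype G] : AddSubgroup (G → ℂ) :=
  linSpan (fun E : Subgroup G => ∃ p : ℕ, p.Prime ∧ IsElementary p E)

/-- **Brauer's induction theorem**, span form -/
theorem char_mem_brauerSpanAll {χ : G → ℂ} (hχ : IsCharacter G χ) : χ ∈ brauerSpanAll G := by
  classical
  let S : AddSubgroup ℤ := (brauerSpanAll G).comap (zmultiplesHom (G → ℂ) χ)
  have hS : ∀ n : ℤ, n ∈ S ↔ n • χ ∈ brauerSpanAll G := fun n => Iff.rfl
  obtain ⟨d, hd⟩ := Int.subgroup_cyclic S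
  have hd1 : d.natAbs = 1 := by
    by_contra hne
    obtain ⟨q, hq, hqd⟩ := Nat.exists_prime_and_dvd hne
    have : Fact q.Prime := ⟨hq⟩
    obtain ⟨m, hm, hmem⟩ := exists_smul_mem_brauerSpan q hχ
    have hmS : m ∈ S := by
      rw [hS]
      exact linSpan_mono (fun E hE => ⟨q, hq, hE⟩) hmem
    rw [hd, AddSubgroup.mem_closure_singleton] at hmS
    obtain ⟨n, hn⟩ := hmS
    apply hm
    have h1 : (q : ℤ) ∣ d := Int.natCast_dvd.mpr hqd
    rw [← hn]
    exact Dvd.dvd.mul_left h1 n
  have h1S : (1 : ℤ) ∈ S := by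
    rw [hd, AddSubgroup.mem_closure_singleton]
    rcases Int.natAbs_eq d with h | h
    · exact ⟨1, by rw [h, hd1]; simp⟩
    · exact ⟨-1, by rw [h, hd1]; simp⟩
  have := (hS 1).mp h1S
  rwa [one_smul] at this

/-- conversion of span membership into an explicit list -/
theorem exists_list_of_mem_linSpan {Q : Subgroup G → Prop} {f : G → ℂ} (hf : f ∈ linSpan Q) :
    ∃ l : List ((A : Subgroup G) × ((A →* ℂˣ) × ℤ)), (∀ t ∈ l, Q t.1) ∧
      f = (l.map fun t => (t.2.2 : ℂ) • indFun t.1 (fun a => ((t.2.1 a : ℂˣ) : ℂ))).sum := by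
  unfold linSpan at hf
  induction hf using AddSubgroup.closure_induction with
  | mem x hx =>
    obtain ⟨A, lam, hA, rfl⟩ := hx
    refine ⟨[⟨A, lam, 1⟩], ?_, ?_⟩
    · intro t ht
      rw [List.mem_singleton] at ht
      rw [ht]; exact hA
    · simp
  | zero => exact ⟨[], by simp, by simp⟩
  | add x y _ _ hx hy =>
    obtain ⟨l₁, h₁, rfl⟩ := hx
    obtain ⟨l₂, h₂, rfl⟩ := hy
    refine ⟨l₁ ++ l₂, ?_, ?_⟩
    · intro t ht
      rcases List.mem_append.mp ht with h | h
      · exact h₁ t h
      · exact h₂ t h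
    · rw [List.map_append, List.sum_append]
  | neg x _ hx =>
    obtain ⟨l, h₁, rfl⟩ := hx
    refine ⟨l.map (fun t => ⟨t.1, t.2.1, -t.2.2⟩), ?_, ?_⟩
    · intro t ht
      obtain ⟨s, hs, rfl⟩ := List.mem_map.mp ht
      exact h₁ s hs
    · exact artin_list_sum_neg l

/-- **Brauer's induction theorem** -/
theorem brauer_induction {χ : G → ℂ} (hχ : IsCharacter G χ) :
    ∃ l : List ((E : Subgroup G) × ((E →* ℂˣ) × ℤ)),
      (∀ t ∈ l, ∃ p : ℕ, p.Prime ∧ IsElementary p t.1) ∧
      χ = (l.map fun t => (t.2.2 : ℂ) • indFun t.1 (fun e => ((t.2.1 e : ℂˣ) : ℂ))).sum :=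
  exists_list_of_mem_linSpan (char_mem_brauerSpanAll hχ)

/-- **Brauer's characterization of characters** -/
theorem brauer_characterization {θ : G → ℂ} (hθ : IsClassFunction G θ)
    (hE : ∀ (E : Subgroup G) (p : ℕ), p.Prime → IsElementary p E →
      IsGeneralizedCharacter E (fun e : E => θ e)) : IsGeneralizedCharacter G θ := by
  classical
  have h1 : (1 : G → ℂ) ∈ brauerSpanAll G := char_mem_brauerSpanAll isCharacter_one
  have key : ∀ f ∈ brauerSpanAll G, IsGeneralizedCharacter G (f * θ) := by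
    intro f hf
    induction hf using AddSubgroup.closure_induction with
    | mem x hx =>
      obtain ⟨E, lam, ⟨p, hp, hEl⟩, rfl⟩ := hx
      rw [indFun_mul_classFunction E _ hθ]
      apply IsGenChar.indFun
      rw [mul_comm]
      exact IsGenChar.mul_isCharacter (hE E p hp hEl) (isCharacter_of_hom lam)
    | zero => rw [zero_mul]; exact isGenChar_zero
    | add x y _ _ hx hy => rw [add_mul]; exact IsGenChar.add hx hy
    | neg x _ hx => rw [neg_mul]; exact IsGenChar.neg hx
  have := key 1 h1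
  rwa [one_mul] at this

end brauer
end Cfsg.Agent.Lib.Helper2
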