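/-
helper2: irreducible characters of p-defect zero vanish on p-singular elements
(via Brauer's characterization of characters).
-/
import Mathlib
import Cfsg.Prelude.Def_Characters
import Cfsg.Agent.Lib.Helper24.CentralChar
import Cfsg.Agent.Lib.Helper24.IntLemmas
import Cfsg.Agent.Lib.Lead.CharBasic
import Cfsg.Agent.Lib.Helper2.BrauerInd
import Cfsg.Agent.Lib.Helper10.GenChar

set_option autoImplicit false
open scoped ComplexConjugate
namespace Cfsg.Agent.Lib.Helper2
open Cfsg Module Cfsg.Agent.CharLib
universe u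

section fact

/-- an elementary group is the product of commuting `p`- and `p'`-subgroups -/
theorem exists_hall_factorization {q : ℕ} (p : ℕ) [Fact p.Prime] {E : Type u} [Group E] [Finite E]
    (hq : q.Prime) (hE : IsElementary q E) :
    ∃ P Q : Subgroup E, IsPGroup p P ∧ (Nat.card Q).Coprime p ∧
      (∀ u ∈ P, ∀ y ∈ Q, u * y = y * u) ∧ Subgroup.IsComplement' P Q := by
  obtain ⟨x, hxc, hcop, k, hk⟩ := hE
  have hZc : Subgroup.zpowers x ≤ Subgroup.center E := by
    rw [Subgroup.zpowers_le]; exact hxc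
  obtain ⟨P⟩ : Nonempty (Sylow p E) := inferInstance
  by_cases hqp : q = p
  · subst hqp
    refine ⟨P, Subgroup.zpowers x, P.isPGroup', ?_, ?_, ?_⟩
    · rw [Nat.card_zpowers]; exact hcop
    · intro u _ y hy
      exact (Subgroup.mem_center_iff.mp (hZc hy) u)
    · have hcardE : Nat.card E = Nat.card (Subgroup.zpowers x) * q ^ k := by
        rw [← hk, Subgroup.card_mul_index]
      have hnd : ¬ q ∣ Nat.card (Subgroup.zpowers x) := by
        rw [Nat.card_zpowers]
        exact (Nat.Prime.coprime_iff_not_dvd hq).mp hcop.symm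
      have hfac : (Nat.card E).factorization q = k := by
        rw [hcardE, Nat.factorization_mul Nat.card_pos.ne' (pow_ne_zero _ hq.ne_zero),
          Finsupp.add_apply, Nat.factorization_eq_zero_of_not_dvd hnd,
          Nat.Prime.factorization_pow hq]
        simp
      have hPcard : Nat.card (P : Subgroup E) = q ^ k := by
        rw [Sylow.card_eq_multiplicity, hfac]
      apply Subgroup.isComplement'_of_coprime
      · rw [hPcard, hcardE, mul_comm]
      · rw [hPcard, Nat.card_zpowers]
        exact Nat.Coprime.pow_left k hcop.symm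
  · -- the Sylow p-subgroup is central
    have hPZ : (P : Subgroup E) ≤ Subgroup.zpowers x := by
      intro u hu
      have hn : (Subgroup.zpowers x).Normal := by
        constructor
        intro n hn g
        have := Subgroup.mem_center_iff.mp (hZc hn) g
        rw [this, mul_inv_cancel_right]
        exact hn
      rw [← QuotientGroup.eq_one_iff]
      obtain ⟨a, ha⟩ := P.isPGroup' ⟨u, hu⟩
      have ha' : u ^ p ^ a = 1 := by
        have := congrArg Subtype.val ha
        simpa using this
      have h1 : ((u : E) : E ⧸ Subgroup.zpowers x) ^ p ^ a = 1 := by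
        rw [← QuotientGroup.mk_pow, ha']; rfl
      have h2 : ((u : E) : E ⧸ Subgroup.zpowers x) ^ q ^ k = 1 := by
        have hc : Nat.card (E ⧸ Subgroup.zpowers x) = q ^ k := by rw [← hk]; rfl
        rw [← hc]
        exact pow_card_eq_one'
      have h3 := orderOf_dvd_of_pow_eq_one h1
      have h4 := orderOf_dvd_of_pow_eq_one h2
      have hcop' : Nat.Coprime (p ^ a) (q ^ k) := by
        apply Nat.Coprime.pow
        exact (Nat.coprime_primes Fact.out hq).mpr (Ne.symm hqp)
      have h5 : orderOf ((u : E) : E ⧸ Subgroup.zpowers x) = 1 :=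
        Nat.eq_one_of_dvd_coprimes hcop' h3 h4
      exact orderOf_eq_one_iff.mp h5
    have hPc : (P : Subgroup E) ≤ Subgroup.center E := hPZ.trans hZc
    have hPn : (P : Subgroup E).Normal := by
      constructor
      intro n hn g
      have := Subgroup.mem_center_iff.mp (hPc hn) g
      rw [this, mul_inv_cancel_right]
      exact hn
    obtain ⟨Q, hQ⟩ := Subgroup.exists_right_complement'_of_coprime P.card_coprime_index
    refine ⟨P, Q, P.isPGroup', ?_, ?_, hQ⟩
    · have h1 : Nat.card Q = (P : Subgroup E).index := hQ.symm.index_eq_card.symm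
      rw [h1]
      exact (Nat.Prime.coprime_iff_not_dvd Fact.out).mpr P.not_dvd_index |>.symm
    · intro u hu y _
      exact (Subgroup.mem_center_iff.mp (hPc hu) y).symm

end fact

section reg

/-- in a product of commuting `p`- and `p'`-subgroups the `p`-regular elements are those of the
`p'`-factor -/
theorem mem_iff_not_dvd_orderOf {p : ℕ} [Fact p.Prime] {E : Type u} [Group E] [Finite E]
    {P Q : Subgroup E} (hP : IsPGroup p P) (hQ : (Nat.card Q).Coprime p)
    (hcomm : ∀ u ∈ P, ∀ y ∈ Q, u * y = y * u) (hPQ : Subgroup.IsComplement' P Q) (e : E) :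
    e ∈ Q ↔ ¬ p ∣ orderOf e := by
  have hp : p.Prime := Fact.out
  constructor
  · intro he hdvd
    have h1 : orderOf e ∣ Nat.card Q := by
      have := orderOf_dvd_natCard (⟨e, he⟩ : Q)
      rwa [Subgroup.orderOf_mk] at this
    exact (Nat.Prime.coprime_iff_not_dvd hp).mp hQ.symm (hdvd.trans h1)
  · intro hnd
    obtain ⟨⟨u, y⟩, huy⟩ := hPQ.2 e
    have huy' : (u : E) * (y : E) = e := huy
    set n := Nat.card Q with hn
    have hyn : (y : E) ^ n = 1 := by
      have h1 : y ^ n = 1 := pow_card_eq_one'
      have h2 := congrArg Subtype.val h1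
      rwa [Subgroup.coe_pow] at h2
    have hen : e ^ n = (u : E) ^ n := by
      have hc : Commute (u : E) (y : E) := hcomm u u.2 y y.2
      rw [← huy', hc.mul_pow, hyn, mul_one]
    obtain ⟨a, ha⟩ := hP u
    have ha' : (u : E) ^ p ^ a = 1 := by
      have := congrArg Subtype.val ha
      simpa using this
    -- the order of u^n divides both a power of p and the order of e
    have h1 : orderOf ((u : E) ^ n) ∣ p ^ a := by
      apply orderOf_dvd_of_pow_eq_one
      rw [← pow_mul, mul_comm, pow_mul, ha', one_pow]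
    have h2 : orderOf ((u : E) ^ n) ∣ orderOf e := by
      rw [← hen]
      exact orderOf_pow_dvd n
    have hcop : Nat.Coprime (p ^ a) (orderOf e) :=
      Nat.Coprime.pow_left a ((Nat.Prime.coprime_iff_not_dvd hp).mpr hnd)
    have h3 : orderOf ((u : E) ^ n) = 1 := Nat.eq_one_of_dvd_coprimes hcop h1 h2
    have h4 : (u : E) ^ n = 1 := orderOf_eq_one_iff.mp h3
    have h5 : orderOf (u : E) ∣ n := orderOf_dvd_of_pow_eq_one h4
    have h6 : orderOf (u : E) ∣ p ^ a := orderOf_dvd_of_pow_eq_one ha'
    have hcop2 : Nat.Coprime (p ^ a) n := Nat.Coprime.pow_left a hQ.symm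
    have h7 : orderOf (u : E) = 1 := Nat.eq_one_of_dvd_coprimes hcop2 h6 h5
    have h8 : (u : E) = 1 := orderOf_eq_one_iff.mp h7
    rw [← huy', h8, one_mul]
    exact y.2

end reg

section integ
variable {G : Type u} [Group G] [Finite G] {V : Type*} [AddCommGroup V] [Module ℂ V]
  [FiniteDimensional ℂ V]

/-- for a character of `p`-defect zero, `χ(g)/p^j` is an algebraic integer when `p^j` divides the
order of the centralizer of `g` -/
theorem isIntegral_char_div_of_defect_zero (ρ : Representation ℂ G V) [ρ.IsIrreducible]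
    {p n : ℕ} (hp : p.Prime) (hn : p ^ n ∣ Nat.card G) (hn' : ¬ p ^ (n + 1) ∣ Nat.card G)
    (hdeg : p ^ n ∣ finrank ℂ V) (g : G) (j : ℕ)
    (hj : p ^ j ∣ Nat.card (Subgroup.centralizer ({g} : Set G))) :
    IsIntegral ℤ (ρ.character g / (p : ℂ) ^ j) := by
  obtain ⟨m', hm'⟩ := hn
  obtain ⟨d, hd⟩ := hdeg
  obtain ⟨c', hc'⟩ := hj
  have hpm : ¬ p ∣ m' := by
    intro h
    apply hn'
    rw [hm', pow_succ]
    exact mul_dvd_mul_left _ h
  set I := (Subgroup.centralizer ({g} : Set G)).index with hI
  have hIc : I * (p ^ j * c') = p ^ n * m' := by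
    rw [← hc', ← hm', hI, Subgroup.index_mul_card]
  have hω := Cfsg.Agent.Lib.Helper24.isIntegral_index_mul_char_div ρ g
  rw [← hI, hd] at hω
  have hfpos : 0 < finrank ℂ V := Cfsg.Agent.Lib.Helper24.finrank_pos_of_isIrreducible ρ
  have hd0 : d ≠ 0 := by
    rintro rfl
    rw [mul_zero] at hd
    omega
  have hp0 : (p : ℂ) ≠ 0 := by exact_mod_cast hp.ne_zero
  have hdC : (d : ℂ) ≠ 0 := by exact_mod_cast hd0
  have hIcC : (I : ℂ) * ((p : ℂ) ^ j * c') = (p : ℂ) ^ n * m' := by exact_mod_cast hIc
  -- m' * (χ g / p^j) is integral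
  have h1 : IsIntegral ℤ ((m' : ℂ) * (ρ.character g / (p : ℂ) ^ j)) := by
    have h2 : (m' : ℂ) * (ρ.character g / (p : ℂ) ^ j) =
        ((I : ℂ) * ρ.character g / ((p ^ n * d : ℕ) : ℂ)) * ((d : ℂ) * (c' : ℂ)) := by
      push_cast
      field_simp
      linear_combination (-(ρ.character g)) * hIcC
    rw [h2]
    apply IsIntegral.mul hω
    have hnat : ∀ k : ℕ, IsIntegral ℤ (k : ℂ) := by
      intro k
      have := isIntegral_algebraMap (R := ℤ) (A := ℂ) (x := (k : ℤ))
      simpa using this
    exact IsIntegral.mul (hnat d) (hnat c')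
  have h3 : IsIntegral ℤ (((p ^ j : ℕ) : ℂ) * (ρ.character g / (p : ℂ) ^ j)) := by
    have : ((p ^ j : ℕ) : ℂ) * (ρ.character g / (p : ℂ) ^ j) = ρ.character g := by
      push_cast
      field_simp
    rw [this]
    exact Cfsg.Agent.CharLib.isIntegral_char ρ g
  -- Bezout
  have hcop : Nat.Coprime m' (p ^ j) :=
    Nat.Coprime.pow_right j ((Nat.Prime.coprime_iff_not_dvd hp).mpr hpm).symm
  have hbez := Nat.gcd_eq_gcd_ab m' (p ^ j)
  rw [hcop] at hbez
  have hbezC : (1 : ℂ) = (m' : ℂ) * (Nat.gcdA m' (p ^ j) : ℂ) +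
      ((p ^ j : ℕ) : ℂ) * (Nat.gcdB m' (p ^ j) : ℂ) := by
    have := congrArg (Int.cast : ℤ → ℂ) hbez
    push_cast at this ⊢
    exact this
  have h4 : ρ.character g / (p : ℂ) ^ j =
      (Nat.gcdA m' (p ^ j) : ℂ) * ((m' : ℂ) * (ρ.character g / (p : ℂ) ^ j)) +
      (Nat.gcdB m' (p ^ j) : ℂ) * (((p ^ j : ℕ) : ℂ) * (ρ.character g / (p : ℂ) ^ j)) := by
    linear_combination (ρ.character g / (p : ℂ) ^ j) * hbezC
  rw [h4]
  apply IsIntegral.add
  · exact IsIntegral.mul isIntegral_algebraMap h1
  · exact IsIntegral.mul isIntegral_algebraMap h3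

end integ

section trunc
variable {G : Type u} [Group G]

/-- the truncation of a function to the `p`-regular elements -/
noncomputable def pRegPart (p : ℕ) (χ : G → ℂ) : G → ℂ :=
  fun g => if p ∣ orderOf g then 0 else χ g

theorem pRegPart_isClassFunction (p : ℕ) {χ : G → ℂ} (hχ : IsClassFunction G χ) :
    IsClassFunction G (pRegPart p χ) := by
  intro g h
  unfold pRegPart
  have h1 : orderOf (h * g * h⁻¹) = orderOf g := by
    have := MulEquiv.orderOf_eq (MulAut.conj h) g
    rwa [MulAut.conj_apply] at this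
  rw [h1, hχ g h]

variable [Fintype G] {V : Type*} [AddCommGroup V] [Module ℂ V] [FiniteDimensional ℂ V]

/-- the truncation of a character of `p`-defect zero restricts to a character on every elementary
subgroup -/
theorem pRegPart_restrict_isCharacter (ρ : Representation ℂ G V) [ρ.IsIrreducible]
    {p n : ℕ} [Fact p.Prime] (hn : p ^ n ∣ Nat.card G) (hn' : ¬ p ^ (n + 1) ∣ Nat.card G)
    (hdeg : p ^ n ∣ finrank ℂ V) (E : Subgroup G) {q : ℕ} (hq : q.Prime) (hE : IsElementary q E) :
    IsCharacter E (fun e : E => pRegPart p ρ.character e) := by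
  classical
  have hp : p.Prime := Fact.out
  have hFE : Fintype E := Fintype.ofFinite E
  obtain ⟨P, Q, hP, hQ, hcomm, hPQ⟩ := exists_hall_factorization p hq hE
  have hFQ : Fintype Q := Fintype.ofFinite Q
  have hχ : IsCharacter G ρ.character := isCharacter_of_rep ρ
  have hcf : IsClassFunction G ρ.character := IsCharacter.isClassFunction hχ
  apply isCharacter_of_classInner_nat
    (isClassFunction_restrict (pRegPart_isClassFunction p hcf) E)
  intro ψ
  obtain ⟨j, hj⟩ := IsPGroup.iff_card.mp hP
  -- the restricted function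
  have hθ : ∀ e : E, pRegPart p ρ.character e = if e ∈ Q then ρ.character e else 0 := by
    intro e
    unfold pRegPart
    rw [Subgroup.orderOf_coe, mem_iff_not_dvd_orderOf hP hQ hcomm hPQ e]
    by_cases h : p ∣ orderOf e
    · rw [if_pos h, if_neg (not_not.mpr h)]
    · rw [if_neg h, if_pos h]
  have hsum : ∑ e : E, pRegPart p ρ.character e * conj ((ψ : E → ℂ) e) =
      ∑ y : Q, ρ.character ((y : E) : G) * conj ((ψ : E → ℂ) y) := by
    simp_rw [hθ, ite_mul, zero_mul]
    rw [← Finset.sum_filter]
    exact Finset.sum_subtype (Finset.univ.filter (· ∈ Q)) (by simp) _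
  -- the inner product on Q
  have hχQ : IsCharacter Q (fun y : Q => ρ.character ((y : E) : G)) :=
    IsCharacter.comp_hom hχ (E.subtype.comp Q.subtype)
  have hψQ : IsCharacter Q (fun y : Q => (ψ : E → ℂ) y) :=
    IsCharacter.restrict (IsIrrCharacter.isCharacter ψ.2) Q
  obtain ⟨N₀, hN₀⟩ := IsCharacter.classInner_nat hχQ hψQ
  have hcardE : Nat.card E = p ^ j * Nat.card Q := by
    rw [← hj]; exact hPQ.card_mul_card.symm
  -- integrality
  have hint : ∀ y : Q, IsIntegral ℤ (ρ.character ((y : E) : G) / (p : ℂ) ^ j) := by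
    intro y
    apply isIntegral_char_div_of_defect_zero ρ hp hn hn' hdeg
    have hle : P.map E.subtype ≤ Subgroup.centralizer ({((y : E) : G)} : Set G) := by
      rintro _ ⟨u, hu, rfl⟩
      rw [Subgroup.mem_centralizer_singleton_iff]
      have := hcomm u hu y y.2
      have h2 := congrArg Subtype.val this
      exact h2
    have h3 := Subgroup.card_dvd_of_le hle
    rwa [Subgroup.card_map_of_injective E.subtype_injective, hj] at h3
  set β : ℂ := ∑ y : Q, (ρ.character ((y : E) : G) / (p : ℂ) ^ j) * conj ((ψ : E → ℂ) y) with hβ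
  have hβint : IsIntegral ℤ β := by
    apply IsIntegral.sum
    intro y _
    apply IsIntegral.mul (hint y)
    obtain ⟨k, σ, hσ, hσψ⟩ := ψ.2
    have : conj ((ψ : E → ℂ) y) = (ψ : E → ℂ) (y : E)⁻¹ := by
      rw [IsCharacter.apply_inv (IsIrrCharacter.isCharacter ψ.2)]
    rw [this, ← hσψ]
    exact isIntegral_char σ _
  have hp0 : (p : ℂ) ≠ 0 := by exact_mod_cast hp.ne_zero
  have hsumβ : ∑ y : Q, ρ.character ((y : E) : G) * conj ((ψ : E → ℂ) y) = (p : ℂ) ^ j * β := by
    rw [hβ, Finset.mul_sum]
    apply Finset.sum_congr rfl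
    intro y _
    field_simp
  -- N₀ in terms of the sum
  have hQne : (Nat.card Q : ℂ) ≠ 0 := by
    have : 0 < Nat.card Q := Nat.card_pos
    exact_mod_cast this.ne'
  have hN₀' : (Nat.card Q : ℂ) * (N₀ : ℂ) = (p : ℂ) ^ j * β := by
    rw [← hN₀, ← hsumβ]
    unfold classInner
    field_simp
  have hdvd : p ^ j ∣ Nat.card Q * N₀ := by
    apply Cfsg.Agent.Lib.Helper24.nat_dvd_of_eq_mul_isIntegral (pow_pos hp.pos j) hβint
    push_cast
    exact hN₀'
  have hcop : Nat.Coprime (p ^ j) (Nat.card Q) := Nat.Coprime.pow_left j hQ.symm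
  obtain ⟨N, hN⟩ := hcop.dvd_of_dvd_mul_left hdvd
  refine ⟨N, ?_⟩
  unfold classInner
  rw [hsum, hsumβ, hcardE]
  have hβ' : β = (Nat.card Q : ℂ) * N := by
    have h1 : (p : ℂ) ^ j * β = (p : ℂ) ^ j * ((Nat.card Q : ℂ) * N) := by
      rw [← hN₀', hN]; push_cast; ring
    exact mul_left_cancel₀ (pow_ne_zero j hp0) h1
  rw [hβ']
  push_cast
  field_simp

end trunc

section main
variable {G : Type u} [Group G] [Finite G] {V : Type*} [AddCommGroup V] [Module ℂ V]
  [FiniteDimensional ℂ V]

/-- characters of `p`-defect zero vanish on `p`-singular elements -/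
theorem character_eq_zero_of_defect_zero (ρ : Representation ℂ G V) [hirr : ρ.IsIrreducible]
    (p n : ℕ) (hp : p.Prime) (hn : p ^ n ∣ Nat.card G) (hn' : ¬ p ^ (n + 1) ∣ Nat.card G)
    (hdeg : p ^ n ∣ finrank ℂ V) (x : G) (hx : p ∣ orderOf x) : ρ.character x = 0 := by
  classical
  have hFG : Fintype G := Fintype.ofFinite G
  have : Fact p.Prime := ⟨hp⟩
  have hχirr : IsIrrCharacter G ρ.character := isIrrCharacter_of_rep ρ hirr
  have hχ : IsCharacter G ρ.character := IsIrrCharacter.isCharacter hχirr
  have hcf : IsClassFunction G ρ.character := IsCharacter.isClassFunction hχ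
  have hθg : IsGeneralizedCharacter G (pRegPart p ρ.character) := by
    apply brauer_characterization (pRegPart_isClassFunction p hcf)
    intro E q hq hE
    exact isGenChar_of_isCharacter (pRegPart_restrict_isCharacter ρ hn hn' hdeg E hq hE)
  obtain ⟨k, hk⟩ := Cfsg.Agent.Lib.Helper10.genChar_classInner_int hθg hχ
  set A : G → ℝ := fun g => Complex.normSq (ρ.character g) with hA
  have hA0 : ∀ g, 0 ≤ A g := fun g => Complex.normSq_nonneg _
  have hGpos : (0 : ℝ) < Nat.card G := by exact_mod_cast Nat.card_pos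
  have hGne : (Nat.card G : ℂ) ≠ 0 := by
    have : 0 < Nat.card G := Nat.card_pos
    exact_mod_cast this.ne'
  -- total sum
  have h1 : ∑ g : G, A g = Nat.card G := by
    have h := classInner_irr hχirr hχirr
    rw [if_pos rfl] at h
    unfold classInner at h
    have h2 : ∑ g : G, ρ.character g * conj (ρ.character g) = ((∑ g : G, A g : ℝ) : ℂ) := by
      push_cast
      apply Finset.sum_congr rfl
      intro g _
      rw [Complex.mul_conj]
    rw [h2] at h
    have h3 : ((∑ g : G, A g : ℝ) : ℂ) = ((Nat.card G : ℝ) : ℂ) := by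
      push_cast
      field_simp at h
      push_cast at h
      exact h
    exact_mod_cast h3
  -- regular part
  have h2 : ∑ g : G, (if p ∣ orderOf g then 0 else A g) = (k : ℝ) * Nat.card G := by
    unfold classInner at hk
    have h2 : ∑ g : G, pRegPart p ρ.character g * conj (ρ.character g) =
        ((∑ g : G, (if p ∣ orderOf g then 0 else A g) : ℝ) : ℂ) := by
      push_cast
      apply Finset.sum_congr rfl
      intro g _
      unfold pRegPart
      by_cases h : p ∣ orderOf g
      · rw [if_pos h, if_pos h, zero_mul, Complex.ofReal_zero]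
      · rw [if_neg h, if_neg h, Complex.mul_conj]
    rw [h2] at hk
    have h3 : ((∑ g : G, (if p ∣ orderOf g then 0 else A g) : ℝ) : ℂ) =
        (((k : ℝ) * Nat.card G : ℝ) : ℂ) := by
      push_cast
      field_simp at hk
      push_cast at hk
      rw [hk, mul_comm]
    exact_mod_cast h3
  -- k ≥ 1
  have hk1 : 1 ≤ k := by
    by_contra hlt
    have hk0 : k ≤ 0 := by omega
    have hle : ∑ g : G, (if p ∣ orderOf g then 0 else A g) ≤ 0 := by
      rw [h2]
      apply mul_nonpos_of_nonpos_of_nonneg _ hGpos.le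
      exact_mod_cast hk0
    have hterm : (if p ∣ orderOf (1 : G) then 0 else A 1) ≤
        ∑ g : G, (if p ∣ orderOf g then 0 else A g) := by
      apply Finset.single_le_sum (f := fun g => if p ∣ orderOf g then 0 else A g)
      · intro g _
        show 0 ≤ if p ∣ orderOf g then 0 else A g
        split_ifs
        · exact le_refl _
        · exact hA0 g
      · exact Finset.mem_univ _
    have hp1 : ¬ p ∣ orderOf (1 : G) := by
      rw [orderOf_one]
      exact hp.one_lt.ne' ∘ Nat.dvd_one.mp
    rw [if_neg hp1] at hterm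
    have hA1 : 0 < A 1 := by
      rw [hA]
      simp only
      rw [Complex.normSq_pos, Representation.char_one]
      have := Cfsg.Agent.Lib.Helper24.finrank_pos_of_isIrreducible ρ
      exact_mod_cast this.ne'
    linarith
  -- the singular part vanishes
  have h3 : ∑ g : G, (if p ∣ orderOf g then A g else 0) ≤ 0 := by
    have hsplit : ∑ g : G, A g = ∑ g : G, (if p ∣ orderOf g then A g else 0) +
        ∑ g : G, (if p ∣ orderOf g then 0 else A g) := by
      rw [← Finset.sum_add_distrib]
      apply Finset.sum_congr rfl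
      intro g _
      split_ifs <;> simp
    have hk1' : (1 : ℝ) ≤ k := by exact_mod_cast hk1
    nlinarith
  have h4 : ∀ g ∈ (Finset.univ : Finset G), 0 ≤ (if p ∣ orderOf g then A g else 0) := by
    intro g _
    split_ifs
    · exact hA0 g
    · exact le_refl _
  have h5 := (Finset.sum_eq_zero_iff_of_nonneg h4).mp (le_antisymm h3 (Finset.sum_nonneg h4)) x
    (Finset.mem_univ _)
  rw [if_pos hx] at h5
  exact Complex.normSq_eq_zero.mp h5

end main
end Cfsg.Agent.Lib.Helper2
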