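/-
helper2: truncations of irreducible characters to p-regular elements, suitably scaled, are
generalized characters (via Brauer's characterization).
-/
import Mathlib
import Cfsg.Prelude.Def_Characters
import Cfsg.Agent.Lib.Helper2.DefectZero

set_option autoImplicit false
open scoped ComplexConjugate
namespace Cfsg.Agent.Lib.Helper2
open Cfsg Module Cfsg.Agent.CharLib
universe u

section scaled
variable {G : Type u} [Group G] [Fintype G]

/-- if `c χ(g) / p^j` is an algebraic integer whenever `p^j` divides the order of the centralizer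
of `g`, then `c` times the truncation of `χ` restricts to a character on every elementary
subgroup -/
theorem scaled_pRegPart_restrict_isCharacter {χ : G → ℂ} (hχ : IsCharacter G χ)
    {p : ℕ} [Fact p.Prime] (c : ℕ)
    (hc : ∀ (g : G) (j : ℕ), p ^ j ∣ Nat.card (Subgroup.centralizer ({g} : Set G)) →
      IsIntegral ℤ ((c : ℂ) * χ g / (p : ℂ) ^ j))
    (E : Subgroup G) {q : ℕ} (hq : q.Prime) (hE : IsElementary q E) :
    IsCharacter E (fun e : E => (c : ℂ) * pRegPart p χ e) := by
  classical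
  have hp : p.Prime := Fact.out
  have hFE : Fintype E := Fintype.ofFinite E
  obtain ⟨P, Q, hP, hQ, hcomm, hPQ⟩ := exists_hall_factorization p hq hE
  have hFQ : Fintype Q := Fintype.ofFinite Q
  have hcf : IsClassFunction G χ := IsCharacter.isClassFunction hχ
  have hcf' : IsClassFunction G (fun g => (c : ℂ) * pRegPart p χ g) := by
    intro g h
    show (c : ℂ) * pRegPart p χ (h * g * h⁻¹) = (c : ℂ) * pRegPart p χ g
    rw [pRegPart_isClassFunction p hcf g h]
  apply isCharacter_of_classInner_nat (isClassFunction_restrict hcf' E)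
  intro ψ
  obtain ⟨j, hj⟩ := IsPGroup.iff_card.mp hP
  -- the restricted function
  have hθ : ∀ e : E, (c : ℂ) * pRegPart p χ e = if e ∈ Q then (c : ℂ) * χ e else 0 := by
    intro e
    unfold pRegPart
    rw [Subgroup.orderOf_coe, mem_iff_not_dvd_orderOf hP hQ hcomm hPQ e]
    by_cases h : p ∣ orderOf e
    · rw [if_pos h, if_neg (not_not.mpr h), mul_zero]
    · rw [if_neg h, if_pos h]
  have hsum : ∑ e : E, ((c : ℂ) * pRegPart p χ e) * conj ((ψ : E → ℂ) e) =
      ∑ y : Q, ((c : ℂ) * χ ((y : E) : G)) * conj ((ψ : E → ℂ) y) := by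
    simp_rw [hθ, ite_mul, zero_mul]
    rw [← Finset.sum_filter]
    exact Finset.sum_subtype (Finset.univ.filter (· ∈ Q)) (by simp) _
  -- the inner product on Q
  have hχQ : IsCharacter Q (fun y : Q => χ ((y : E) : G)) :=
    IsCharacter.comp_hom hχ (E.subtype.comp Q.subtype)
  have hψQ : IsCharacter Q (fun y : Q => (ψ : E → ℂ) y) :=
    IsCharacter.restrict (IsIrrCharacter.isCharacter ψ.2) Q
  obtain ⟨N₀, hN₀⟩ := IsCharacter.classInner_nat hχQ hψQ
  have hcardE : Nat.card E = p ^ j * Nat.card Q := by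
    rw [← hj]; exact hPQ.card_mul_card.symm
  -- integrality
  have hint : ∀ y : Q, IsIntegral ℤ ((c : ℂ) * χ ((y : E) : G) / (p : ℂ) ^ j) := by
    intro y
    apply hc
    have hle : P.map E.subtype ≤ Subgroup.centralizer ({((y : E) : G)} : Set G) := by
      rintro _ ⟨u, hu, rfl⟩
      rw [Subgroup.mem_centralizer_singleton_iff]
      have := hcomm u hu y y.2
      have h2 := congrArg Subtype.val this
      exact h2
    have h3 := Subgroup.card_dvd_of_le hle
    rwa [Subgroup.card_map_of_injective E.subtype_injective, hj] at h3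
  set β : ℂ := ∑ y : Q, ((c : ℂ) * χ ((y : E) : G) / (p : ℂ) ^ j) * conj ((ψ : E → ℂ) y) with hβ
  have hβint : IsIntegral ℤ β := by
    apply IsIntegral.sum
    intro y _
    apply IsIntegral.mul (hint y)
    obtain ⟨k, σ, hσ, hσψ⟩ := ψ.2
    have : conj ((ψ : E → ℂ) y) = (ψ : E → ℂ) (y : E)⁻¹ := by
      rw [IsCharacter.apply_inv (IsIrrCharacter.isCharacter ψ.2)]
    rw [this, ← hσψ]
    exact isIntegral_char σ _
  have hp0 : (p : ℂ) ≠ 0 := by exact_mod_cast hp.ne_zero
  have hsumβ : ∑ y : Q, ((c : ℂ) * χ ((y : E) : G)) * conj ((ψ : E → ℂ) y) = (p : ℂ) ^ j * β := by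
    rw [hβ, Finset.mul_sum]
    apply Finset.sum_congr rfl
    intro y _
    field_simp
  have hQne : (Nat.card Q : ℂ) ≠ 0 := by
    have : 0 < Nat.card Q := Nat.card_pos
    exact_mod_cast this.ne'
  have hN₀' : (c : ℂ) * ((Nat.card Q : ℂ) * (N₀ : ℂ)) = (p : ℂ) ^ j * β := by
    rw [← hN₀, ← hsumβ]
    unfold classInner
    rw [Finset.mul_sum, Finset.mul_sum, Finset.mul_sum]
    apply Finset.sum_congr rfl
    intro y _
    field_simp
  have hdvd : p ^ j ∣ Nat.card Q * (c * N₀) := by
    apply Cfsg.Agent.Lib.Helper24.nat_dvd_of_eq_mul_isIntegral (pow_pos hp.pos j) hβint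
    push_cast
    rw [← hN₀']
    ring
  have hcop : Nat.Coprime (p ^ j) (Nat.card Q) := Nat.Coprime.pow_left j hQ.symm
  obtain ⟨N, hN⟩ := hcop.dvd_of_dvd_mul_left hdvd
  refine ⟨N, ?_⟩
  unfold classInner
  rw [hsum, hsumβ, hcardE]
  have hβ' : β = (Nat.card Q : ℂ) * N := by
    have h1 : (p : ℂ) ^ j * β = (p : ℂ) ^ j * ((Nat.card Q : ℂ) * N) := by
      rw [← hN₀']
      have : ((c * N₀ : ℕ) : ℂ) = ((p ^ j * N : ℕ) : ℂ) := by rw [hN]
      push_cast at this
      linear_combination (Nat.card Q : ℂ) * this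
    exact mul_left_cancel₀ (pow_ne_zero j hp0) h1
  rw [hβ']
  push_cast
  field_simp

/-- the scaled truncation is a generalized character -/
theorem scaled_pRegPart_isGenChar {χ : G → ℂ} (hχ : IsCharacter G χ)
    {p : ℕ} [Fact p.Prime] (c : ℕ)
    (hc : ∀ (g : G) (j : ℕ), p ^ j ∣ Nat.card (Subgroup.centralizer ({g} : Set G)) →
      IsIntegral ℤ ((c : ℂ) * χ g / (p : ℂ) ^ j)) :
    IsGeneralizedCharacter G (fun g => (c : ℂ) * pRegPart p χ g) := by
  have hcf : IsClassFunction G χ := IsCharacter.isClassFunction hχ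
  have hcf' : IsClassFunction G (fun g => (c : ℂ) * pRegPart p χ g) := by
    intro g h
    show (c : ℂ) * pRegPart p χ (h * g * h⁻¹) = (c : ℂ) * pRegPart p χ g
    rw [pRegPart_isClassFunction p hcf g h]
  apply brauer_characterization hcf'
  intro E q hq hE
  exact isGenChar_of_isCharacter (scaled_pRegPart_restrict_isCharacter hχ c hc E hq hE)

end scaled
section integ2
variable {G : Type u} [Group G] [Finite G] {V : Type*} [AddCommGroup V] [Module ℂ V]
  [FiniteDimensional ℂ V]

/-- `p^(a-d) χ(g)/p^j` is an algebraic integer when `p^j` divides the order of the centralizer of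
`g`, where `a, d` are the `p`-adic valuations of `|G|` and `χ(1)` -/
theorem isIntegral_pow_mul_char_div (ρ : Representation ℂ G V) [ρ.IsIrreducible]
    {p : ℕ} (hp : p.Prime) (g : G) (j : ℕ)
    (hj : p ^ j ∣ Nat.card (Subgroup.centralizer ({g} : Set G))) :
    IsIntegral ℤ (((p ^ ((Nat.card G).factorization p - (finrank ℂ V).factorization p) : ℕ) : ℂ) *
      ρ.character g / (p : ℂ) ^ j) := by
  set a := (Nat.card G).factorization p with ha
  set d := (finrank ℂ V).factorization p with hd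
  have hfpos : 0 < finrank ℂ V := Cfsg.Agent.Lib.Helper24.finrank_pos_of_isIrreducible ρ
  have hGpos : 0 < Nat.card G := Nat.card_pos
  obtain ⟨m', hm'⟩ : ∃ m', Nat.card G = p ^ a * m' :=
    ⟨_, (Nat.ordProj_mul_ordCompl_eq_self (Nat.card G) p).symm⟩
  have hpm : ¬ p ∣ m' := by
    have h1 := Nat.not_dvd_ordCompl hp hGpos.ne'
    have h2 : m' = Nat.card G / p ^ a := by
      rw [hm']; exact (Nat.mul_div_cancel_left m' (pow_pos hp.pos a)).symm
    rw [h2]; exact h1
  obtain ⟨d', hd'⟩ : ∃ d', finrank ℂ V = p ^ d * d' :=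
    ⟨_, (Nat.ordProj_mul_ordCompl_eq_self (finrank ℂ V) p).symm⟩
  have hda : d ≤ a := by
    have h1 : finrank ℂ V ∣ Nat.card G := Cfsg.Agent.Lib.Helper24.finrank_dvd_card ρ
    exact (Nat.factorization_le_iff_dvd hfpos.ne' hGpos.ne').mpr h1 p
  obtain ⟨c', hc'⟩ := hj
  set I := (Subgroup.centralizer ({g} : Set G)).index with hI
  have hIc : I * (p ^ j * c') = p ^ a * m' := by
    rw [← hc', ← hm', hI, Subgroup.index_mul_card]
  have hω := Cfsg.Agent.Lib.Helper24.isIntegral_index_mul_char_div ρ g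
  rw [← hI, hd'] at hω
  have hd0 : d' ≠ 0 := by
    rintro rfl
    rw [mul_zero] at hd'
    omega
  have hp0 : (p : ℂ) ≠ 0 := by exact_mod_cast hp.ne_zero
  have hdC : (d' : ℂ) ≠ 0 := by exact_mod_cast hd0
  have hIcC : (I : ℂ) * ((p : ℂ) ^ j * c') = (p : ℂ) ^ a * m' := by exact_mod_cast hIc
  have hpow : (p : ℂ) ^ a = (p : ℂ) ^ (a - d) * (p : ℂ) ^ d := by
    rw [← pow_add, Nat.sub_add_cancel hda]
  have hnat : ∀ k : ℕ, IsIntegral ℤ (k : ℂ) := by
    intro k
    have := isIntegral_algebraMap (R := ℤ) (A := ℂ) (x := (k : ℤ))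
    simpa using this
  set X : ℂ := ((p ^ (a - d) : ℕ) : ℂ) * ρ.character g / (p : ℂ) ^ j with hX
  have h1 : IsIntegral ℤ ((m' : ℂ) * X) := by
    have h2 : (m' : ℂ) * X =
        ((I : ℂ) * ρ.character g / ((p ^ d * d' : ℕ) : ℂ)) * ((d' : ℂ) * (c' : ℂ)) := by
      rw [hX]
      push_cast
      rw [hpow] at hIcC
      field_simp
      linear_combination (-(ρ.character g)) * hIcC
    rw [h2]
    apply IsIntegral.mul hω
    exact IsIntegral.mul (hnat d') (hnat c')
  have h3 : IsIntegral ℤ (((p ^ j : ℕ) : ℂ) * X) := by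
    have : ((p ^ j : ℕ) : ℂ) * X = ((p ^ (a - d) : ℕ) : ℂ) * ρ.character g := by
      rw [hX]
      push_cast
      field_simp
    rw [this]
    exact IsIntegral.mul (hnat _) (Cfsg.Agent.CharLib.isIntegral_char ρ g)
  have hcop : Nat.Coprime m' (p ^ j) :=
    Nat.Coprime.pow_right j ((Nat.Prime.coprime_iff_not_dvd hp).mpr hpm).symm
  have hbez := Nat.gcd_eq_gcd_ab m' (p ^ j)
  rw [hcop] at hbez
  have hbezC : (1 : ℂ) = (m' : ℂ) * (Nat.gcdA m' (p ^ j) : ℂ) +
      ((p ^ j : ℕ) : ℂ) * (Nat.gcdB m' (p ^ j) : ℂ) := by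
    have := congrArg (Int.cast : ℤ → ℂ) hbez
    push_cast at this ⊢
    exact this
  have h4 : X = (Nat.gcdA m' (p ^ j) : ℂ) * ((m' : ℂ) * X) +
      (Nat.gcdB m' (p ^ j) : ℂ) * (((p ^ j : ℕ) : ℂ) * X) := by
    linear_combination X * hbezC
  rw [h4]
  apply IsIntegral.add
  · exact IsIntegral.mul isIntegral_algebraMap h1
  · exact IsIntegral.mul isIntegral_algebraMap h3

end integ2
end Cfsg.Agent.Lib.Helper2
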