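import Mathlib

/-!
# Subgroups generated by two involutions (helper2 library)
-/

set_option autoImplicit false

namespace Cfsg.Agent.Lib.Helper2

section Invol

variable {G : Type*} [Group G]

theorem invol_mul_self {t : G} (h : orderOf t = 2) : t * t = 1 := by
  have := pow_orderOf_eq_one t
  rwa [h, pow_two] at this

theorem invol_inv {t : G} (h : orderOf t = 2) : t⁻¹ = t := by
  rw [inv_eq_iff_mul_eq_one]; exact invol_mul_self h

theorem invol_ne_one {t : G} (h : orderOf t = 2) : t ≠ 1 := by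
  intro h1
  rw [h1, orderOf_one] at h
  omega

theorem orderOf_two_of {t : G} (h1 : t ≠ 1) (h2 : t * t = 1) : orderOf t = 2 := by
  have : t ^ 2 = 1 := by rw [pow_two]; exact h2
  exact orderOf_eq_prime this h1

theorem orderOf_two_iff {t : G} : orderOf t = 2 ↔ t ≠ 1 ∧ t * t = 1 :=
  ⟨fun h => ⟨invol_ne_one h, invol_mul_self h⟩, fun h => orderOf_two_of h.1 h.2⟩

theorem orderOf_conj_two {t : G} (g : G) (h : orderOf t = 2) : orderOf (g * t * g⁻¹) = 2 := by
  rw [orderOf_two_iff] at h ⊢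
  refine ⟨?_, ?_⟩
  · intro h1
    apply h.1
    have : t = g⁻¹ * (g * t * g⁻¹) * g := by group
    rw [this, h1]; group
  · have : g * t * g⁻¹ * (g * t * g⁻¹) = g * (t * t) * g⁻¹ := by group
    rw [this, h.2]; group

end Invol

section Dih

variable {G : Type*} [Group G] {x y : G}

/-- `x` inverts `x * y`. -/
theorem dih_conj_rot (hx : x * x = 1) (hy : y * y = 1) : x * (x * y) * x⁻¹ = (x * y)⁻¹ := by
  have hx' : x⁻¹ = x := by rw [inv_eq_iff_mul_eq_one]; exact hx
  have hy' : y⁻¹ = y := by rw [inv_eq_iff_mul_eq_one]; exact hy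
  rw [mul_inv_rev, hx', hy']
  rw [← mul_assoc, hx, one_mul]

theorem dih_conj_rot_zpow (hx : x * x = 1) (hy : y * y = 1) (i : ℤ) :
    x * (x * y) ^ i * x⁻¹ = (x * y) ^ (-i) := by
  have h := dih_conj_rot hx hy
  have : x * (x * y) ^ i * x⁻¹ = (x * (x * y) * x⁻¹) ^ i := by
    rw [conj_zpow]
  rw [this, h, inv_zpow, zpow_neg]

/-- `x * r^i = r^(-i) * x` -/
theorem dih_x_mul_zpow (hx : x * x = 1) (hy : y * y = 1) (i : ℤ) :
    x * (x * y) ^ i = (x * y) ^ (-i) * x := by
  have h := dih_conj_rot_zpow hx hy i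
  rw [← h]; group

theorem dih_zpow_mul_x (hx : x * x = 1) (hy : y * y = 1) (i : ℤ) :
    (x * y) ^ i * x = x * (x * y) ^ (-i) := by
  have h := dih_x_mul_zpow hx hy (-i)
  rw [neg_neg] at h
  exact h.symm

theorem dih_y_eq (hx : x * x = 1) : y = x * (x * y) := by
  rw [← mul_assoc, hx, one_mul]

/-- Elements of the subgroup generated by two involutions: rotations and reflections. -/
theorem dih_mem_closure (hx : x * x = 1) (hy : y * y = 1) (d : G) :
    d ∈ Subgroup.closure ({x, y} : Set G) ↔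
      ∃ i : ℤ, d = (x * y) ^ i ∨ d = (x * y) ^ i * x := by
  have hx' : x⁻¹ = x := by rw [inv_eq_iff_mul_eq_one]; exact hx
  constructor
  · intro hd
    induction hd using Subgroup.closure_induction with
    | mem z hz =>
      rcases hz with rfl | hz
      · exact ⟨0, Or.inr (by simp)⟩
      · rw [Set.mem_singleton_iff] at hz
        subst hz
        refine ⟨-1, Or.inr ?_⟩
        rw [← dih_x_mul_zpow hx hy 1, zpow_one, ← mul_assoc, hx, one_mul]
    | one => exact ⟨0, Or.inl (by simp)⟩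
    | mul a b _ _ ha hb =>
      obtain ⟨i, hi | hi⟩ := ha <;> obtain ⟨j, hj | hj⟩ := hb
      · exact ⟨i + j, Or.inl (by rw [hi, hj, zpow_add])⟩
      · exact ⟨i + j, Or.inr (by rw [hi, hj, zpow_add, mul_assoc])⟩
      · refine ⟨i - j, Or.inr ?_⟩
        rw [hi, hj, mul_assoc, dih_x_mul_zpow hx hy j, ← mul_assoc, ← zpow_add, sub_eq_add_neg]
      · refine ⟨i - j, Or.inl ?_⟩
        rw [hi, hj, mul_assoc, ← mul_assoc x, dih_x_mul_zpow hx hy j, mul_assoc, hx, mul_one,
          ← zpow_add, sub_eq_add_neg]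
    | inv a _ ha =>
      obtain ⟨i, hi | hi⟩ := ha
      · exact ⟨-i, Or.inl (by rw [hi, zpow_neg])⟩
      · refine ⟨i, Or.inr ?_⟩
        rw [hi, mul_inv_rev, hx', ← zpow_neg, dih_x_mul_zpow hx hy, neg_neg]
  · have hxm : x ∈ Subgroup.closure ({x, y} : Set G) := Subgroup.subset_closure (by simp)
    have hym : y ∈ Subgroup.closure ({x, y} : Set G) := Subgroup.subset_closure (by simp)
    rintro ⟨i, rfl | rfl⟩
    · exact Subgroup.zpow_mem _ (Subgroup.mul_mem _ hxm hym) i
    · exact Subgroup.mul_mem _ (Subgroup.zpow_mem _ (Subgroup.mul_mem _ hxm hym) i) hxm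

/-- reflections square to one -/
theorem dih_refl_sq (hx : x * x = 1) (hy : y * y = 1) (i : ℤ) :
    ((x * y) ^ i * x) * ((x * y) ^ i * x) = 1 := by
  rw [mul_assoc, ← mul_assoc x, dih_x_mul_zpow hx hy i, mul_assoc, hx, mul_one, ← zpow_add]
  simp

/-- an involution `x` never lies in the rotation subgroup generated by `x * y`,
`y` another involution. -/
theorem dih_x_not_mem_zpowers (hx : orderOf x = 2) (hy : orderOf y = 2) :
    x ∉ Subgroup.zpowers (x * y) := by
  have hx2 := invol_mul_self hx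
  have hy2 := invol_mul_self hy
  intro hmem
  -- x commutes with x*y, so (x*y)^2 = 1
  have hcomm : Commute x (x * y) := by
    obtain ⟨k, hk⟩ := Subgroup.mem_zpowers_iff.mp hmem
    have hc : Commute ((x * y) ^ k) (x * y) := (Commute.refl (x * y)).zpow_left k
    rwa [hk] at hc
  have h1 : x * (x * y) * x⁻¹ = x * y := by
    rw [hcomm.eq]; group
  rw [dih_conj_rot hx2 hy2] at h1
  -- (x*y)⁻¹ = x*y; so y * x = x * y
  have h2 : y * x = x * y := by
    rw [mul_inv_rev, invol_inv hx, invol_inv hy] at h1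
    exact h1
  -- hence x = (x y)^k with (xy)^2=1 : x = 1 or x = x y
  have h3 : (x * y) * (x * y) = 1 := by
    rw [mul_assoc, ← mul_assoc y, h2, mul_assoc, hy2, mul_one, hx2]
  obtain ⟨k, hk⟩ := Subgroup.mem_zpowers_iff.mp hmem
  have h4 : (x * y) ^ (2 : ℤ) = 1 := by
    rw [zpow_two]; exact h3
  have h5 : (x * y) ^ k = (x * y) ^ (k % 2) := by
    conv_lhs => rw [← Int.emod_add_mul_ediv k 2, zpow_add, zpow_mul, h4, one_zpow, mul_one]
  rw [h5] at hk
  rcases Int.emod_two_eq_zero_or_one k with h | h <;> rw [h] at hk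
  · rw [zpow_zero] at hk
    exact invol_ne_one hx hk.symm
  · rw [zpow_one] at hk
    have : y = 1 := by
      have := congrArg (fun z => x⁻¹ * z) hk
      simpa using this
    exact invol_ne_one hy this

/-- conjugating `x` by a rotation -/
theorem dih_rot_conj_x (hx : x * x = 1) (hy : y * y = 1) (a : ℤ) :
    (x * y) ^ a * x * ((x * y) ^ a)⁻¹ = (x * y) ^ (2 * a) * x := by
  rw [← zpow_neg, mul_assoc, dih_x_mul_zpow hx hy (-a), neg_neg, ← mul_assoc, ← zpow_add, two_mul]

/-- conjugating `x` by a reflection -/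
theorem dih_refl_conj_x (hx : x * x = 1) (hy : y * y = 1) (a : ℤ) :
    ((x * y) ^ a * x) * x * ((x * y) ^ a * x)⁻¹ = (x * y) ^ (2 * a) * x := by
  have hx' : x⁻¹ = x := by rw [inv_eq_iff_mul_eq_one]; exact hx
  rw [mul_inv_rev, hx', mul_assoc ((x * y) ^ a) x x, hx, mul_one, ← mul_assoc,
    dih_rot_conj_x hx hy a]

/-- all conjugates of `x` in the group generated by `x, y` -/
theorem dih_conj_x (hx : x * x = 1) (hy : y * y = 1) (d : G)
    (hd : d ∈ Subgroup.closure ({x, y} : Set G)) :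
    ∃ a : ℤ, d * x * d⁻¹ = (x * y) ^ (2 * a) * x := by
  obtain ⟨i, h | h⟩ := (dih_mem_closure hx hy d).mp hd
  · exact ⟨i, by rw [h, dih_rot_conj_x hx hy]⟩
  · exact ⟨i, by rw [h, dih_refl_conj_x hx hy]⟩

theorem dih_y_eq' (hx : x * x = 1) (hy : y * y = 1) : y = (x * y) ^ (-1 : ℤ) * x := by
  have hx' : x⁻¹ = x := by rw [inv_eq_iff_mul_eq_one]; exact hx
  have hy' : y⁻¹ = y := by rw [inv_eq_iff_mul_eq_one]; exact hy
  rw [zpow_neg, zpow_one, mul_inv_rev, hx', hy', mul_assoc, hx, mul_one]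

/-- If the product of two involutions has odd order they are conjugate in the group
they generate. -/
theorem dih_conj_of_odd (hx : x * x = 1) (hy : y * y = 1) (hodd : Odd (orderOf (x * y))) :
    ∃ d ∈ Subgroup.closure ({x, y} : Set G), d * x * d⁻¹ = y := by
  obtain ⟨k, hk⟩ := hodd
  have hxm : x ∈ Subgroup.closure ({x, y} : Set G) := Subgroup.subset_closure (by simp)
  have hym : y ∈ Subgroup.closure ({x, y} : Set G) := Subgroup.subset_closure (by simp)
  refine ⟨(x * y) ^ (-(k + 1 : ℤ)), Subgroup.zpow_mem _ (Subgroup.mul_mem _ hxm hym) _, ?_⟩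
  rw [dih_rot_conj_x hx hy]
  have h1 : (2 * (-(k + 1 : ℤ))) = (-1 : ℤ) + (-((orderOf (x * y) : ℕ) : ℤ)) := by
    rw [hk]; push_cast; ring
  rw [h1, zpow_add, zpow_neg _ ((orderOf (x * y) : ℕ) : ℤ), zpow_natCast, pow_orderOf_eq_one,
    inv_one, mul_one]
  exact (dih_y_eq' hx hy).symm

/-- If the product of two involutions has even (nonzero) order `n`, then `(x*y)^(n/2)` is an
involution commuting with both. -/
theorem dih_central_invol (hx : x * x = 1) (hy : y * y = 1) (hpos : 0 < orderOf (x * y))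
    (heven : Even (orderOf (x * y))) :
    orderOf ((x * y) ^ (orderOf (x * y) / 2)) = 2 ∧
      Commute ((x * y) ^ (orderOf (x * y) / 2)) x ∧
      Commute ((x * y) ^ (orderOf (x * y) / 2)) y := by
  obtain ⟨k, hk⟩ := heven
  have hn2 : orderOf (x * y) / 2 = k := by omega
  have hnk : orderOf (x * y) = 2 * k := by omega
  have hk0 : k ≠ 0 := by omega
  rw [hn2]
  have hz2 : (x * y) ^ k * (x * y) ^ k = 1 := by
    rw [← pow_add, ← two_mul, ← hnk, pow_orderOf_eq_one]
  have hzinv : ((x * y) ^ k)⁻¹ = (x * y) ^ k := by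
    rw [inv_eq_iff_mul_eq_one]; exact hz2
  have hord : orderOf ((x * y) ^ k) = 2 := by
    rw [orderOf_pow' _ hk0, hnk]
    have : Nat.gcd (2 * k) k = k := by
      rw [Nat.gcd_comm]; exact Nat.gcd_eq_left (Dvd.intro_left 2 rfl)
    rw [this]
    exact Nat.mul_div_cancel 2 (Nat.pos_of_ne_zero hk0)
  have hcx : Commute ((x * y) ^ k) x := by
    have h := dih_conj_rot_zpow hx hy (k : ℤ)
    rw [zpow_neg, zpow_natCast, hzinv] at h
    have : x * (x * y) ^ k = (x * y) ^ k * x := by
      conv_rhs => rw [← h]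
      group
    exact this.symm
  refine ⟨hord, hcx, ?_⟩
  have hyy : y = x * (x * y) := dih_y_eq hx
  have := hcx.mul_right ((Commute.refl (x * y)).pow_left k)
  rwa [← hyy] at this

end Dih

end Cfsg.Agent.Lib.Helper2
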