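import Mathlib
import Cfsg.Agent.Lib.Helper2.Dihedral

/-!
# Groups with Klein four Sylow 2-subgroups (helper2 library)
-/

set_option autoImplicit false

namespace Cfsg.Agent.Lib.Helper2

section KleinSylow

variable {G : Type*} [Group G] [Finite G] (P : Sylow 2 G)

theorem klein_comm (hP : IsKleinFour (P : Subgroup G)) :
    ∀ x ∈ P, ∀ y ∈ P, x * y = y * x := by
  intro x hx y hy
  have hc := isMulCommutative_iff.mp hP.isMulCommutative
  have h := hc (⟨x, hx⟩ : (P : Subgroup G)) ⟨y, hy⟩
  have := congrArg Subtype.val h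
  simpa using this

theorem klein_sq (hP : IsKleinFour (P : Subgroup G)) : ∀ x ∈ P, x * x = 1 := by
  intro x hx
  have h := IsKleinFour.mul_self (⟨x, hx⟩ : (P : Subgroup G))
  have := congrArg Subtype.val h
  simpa using this

theorem klein_orderOf (hP : IsKleinFour (P : Subgroup G)) {x : G} (hx : x ∈ P) (hx1 : x ≠ 1) :
    orderOf x = 2 := orderOf_two_of hx1 (klein_sq P hP x hx)

theorem klein_exists_gens (hP : IsKleinFour (P : Subgroup G)) :
    ∃ a b : G, a ∈ P ∧ b ∈ P ∧ a ≠ 1 ∧ b ≠ 1 ∧ a ≠ b ∧
      (∀ v ∈ P, v = 1 ∨ v = a ∨ v = b ∨ v = a * b) := by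
  classical
  have hfin : Fintype (P : Subgroup G) := Fintype.ofFinite _
  have hcard : Fintype.card (P : Subgroup G) = 4 := by
    rw [← Nat.card_eq_fintype_card]; exact hP.card_four
  -- a ≠ 1
  have hnt : Nontrivial (P : Subgroup G) := by
    rw [← Fintype.one_lt_card_iff_nontrivial, hcard]; norm_num
  obtain ⟨a, ha⟩ := exists_ne (1 : (P : Subgroup G))
  -- b ∉ {1, a}
  have hb : ∃ b : (P : Subgroup G), b ≠ 1 ∧ b ≠ a := by
    by_contra hne
    push Not at hne
    have hsub : (Finset.univ : Finset (P : Subgroup G)) ⊆ {1, a} := by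
      intro v _
      by_cases hv : v = 1
      · simp [hv]
      · simp [hne v hv]
    have : Fintype.card (P : Subgroup G) ≤ 2 :=
      calc Fintype.card (P : Subgroup G) = (Finset.univ : Finset (P : Subgroup G)).card := rfl
        _ ≤ ({1, a} : Finset (P : Subgroup G)).card := Finset.card_le_card hsub
        _ ≤ 2 := Finset.card_le_two
    omega
  obtain ⟨b, hb1, hba⟩ := hb
  refine ⟨a.1, b.1, a.2, b.2, ?_, ?_, ?_, ?_⟩
  · intro h; exact ha (Subtype.ext h)
  · intro h; exact hb1 (Subtype.ext h)
  · intro h; exact hba (Subtype.ext h.symm)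
  · intro v hv
    have huniv := IsKleinFour.eq_finset_univ (G := (P : Subgroup G)) ha hb1 (Ne.symm hba)
    have hmem : (⟨v, hv⟩ : (P : Subgroup G)) ∈ ({a * b, a, b, 1} : Finset (P : Subgroup G)) := by
      rw [huniv]; exact Finset.mem_univ _
    simp only [Finset.mem_insert, Finset.mem_singleton] at hmem
    rcases hmem with h | h | h | h
    · right; right; right
      have := congrArg Subtype.val h
      simpa using this
    · right; left; exact congrArg Subtype.val h
    · right; right; left; exact congrArg Subtype.val h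
    · left; exact congrArg Subtype.val h

/-- every involution is conjugate into `P` -/
theorem invol_conj_into (t : G) (ht : orderOf t = 2) : ∃ g : G, g * t * g⁻¹ ∈ P := by
  have : Fact (Nat.Prime 2) := ⟨Nat.prime_two⟩
  have hpg : IsPGroup 2 (Subgroup.zpowers t) := by
    apply IsPGroup.of_card (n := 1)
    rw [Nat.card_zpowers, ht, pow_one]
  obtain ⟨Q, hQ⟩ := hpg.exists_le_sylow
  obtain ⟨g, hg⟩ := MulAction.exists_smul_eq G Q P
  refine ⟨g, ?_⟩
  have h1 : t ∈ (Q : Subgroup G) := hQ (Subgroup.mem_zpowers t)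
  have h2 := Subgroup.smul_mem_pointwise_smul t (MulAut.conj g) (Q : Subgroup G) h1
  rw [← Sylow.coe_subgroup_smul, hg, MulAut.smul_def, MulAut.conj_apply] at h2
  exact h2

/-- a 2-element normalizing `P` centralizes `P` when `P` is abelian -/
theorem two_elt_normalizer_commute (hP : IsKleinFour (P : Subgroup G)) (n : G) (k : ℕ)
    (hn : orderOf n = 2 ^ k) (hnN : n ∈ Subgroup.normalizer ((P : Subgroup G) : Set G))
    (x : G) (hx : x ∈ P) : n * x = x * n := by
  have : Fact (Nat.Prime 2) := ⟨Nat.prime_two⟩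
  have hpg : IsPGroup 2 (Subgroup.zpowers n) := by
    apply IsPGroup.of_card (n := k)
    rw [Nat.card_zpowers, hn]
  have h3 : Subgroup.zpowers n ⊓ Subgroup.normalizer ((P : Subgroup G) : Set G) =
      Subgroup.zpowers n ⊓ (P : Subgroup G) := hpg.inf_normalizer_sylow P
  have h4 := Subgroup.mem_inf.mpr ⟨Subgroup.mem_zpowers n, hnN⟩
  rw [h3] at h4
  exact klein_comm P hP n (Subgroup.mem_inf.mp h4).2 x hx

/-- third element of a Klein four-group -/
theorem klein_third (hP : IsKleinFour (P : Subgroup G)) {x y z : G} (hx : x ∈ P) (hy : y ∈ P)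
    (hz : z ∈ P) (hx1 : x ≠ 1) (hy1 : y ≠ 1) (hxy : x ≠ y) (hz1 : z ≠ 1) (hzx : z ≠ x)
    (hzy : z ≠ y) : z = x * y := by
  have h := IsKleinFour.eq_mul_of_ne_all (G := (P : Subgroup G))
    (x := ⟨x, hx⟩) (y := ⟨y, hy⟩) (z := ⟨z, hz⟩)
    (fun h => hx1 (congrArg Subtype.val h)) (fun h => hy1 (congrArg Subtype.val h))
    (fun h => hxy (congrArg Subtype.val h)) (fun h => hz1 (congrArg Subtype.val h))
    (fun h => hzx (congrArg Subtype.val h)) (fun h => hzy (congrArg Subtype.val h))
  have := congrArg Subtype.val h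
  simpa using this

omit [Finite G] in
theorem alternating_conj {n x y : G} (h1 : n⁻¹ * x * n = y) (h2 : n⁻¹ * y * n = x) (j : ℕ) :
    (n ^ (2 * j))⁻¹ * x * n ^ (2 * j) = x ∧ (n ^ (2 * j + 1))⁻¹ * x * n ^ (2 * j + 1) = y := by
  induction j with
  | zero => simp [h1]
  | succ j ih =>
    have step : ∀ k : ℕ, (n ^ (k + 1))⁻¹ * x * n ^ (k + 1) = n⁻¹ * ((n ^ k)⁻¹ * x * n ^ k) * n := by
      intro k
      rw [pow_succ]; group
    have e1 : (n ^ (2 * (j + 1)))⁻¹ * x * n ^ (2 * (j + 1)) = x := by
      have : 2 * (j + 1) = (2 * j + 1) + 1 := by ring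
      rw [this, step, ih.2, h2]
    refine ⟨e1, ?_⟩
    rw [step, e1, h1]

/-- Fusion in a group with Klein four Sylow 2-subgroup: if two involutions of `P` are conjugate
then all three are. -/
theorem fusion_third (hP : IsKleinFour (P : Subgroup G)) {x y : G} (hx : x ∈ P) (hy : y ∈ P)
    (hx1 : x ≠ 1) (hy1 : y ≠ 1) (hxy : x ≠ y) (h : IsConj x y) : IsConj x (x * y) := by
  have hF : Fact (Nat.Prime 2) := ⟨Nat.prime_two⟩
  have hcomm : IsMulCommutative (P : Subgroup G) := hP.isMulCommutative
  obtain ⟨g, hg⟩ := isConj_iff.mp h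
  have hgP : (g⁻¹)⁻¹ * x * g⁻¹ ∈ P := by rw [inv_inv, hg]; exact hy
  obtain ⟨n, hnN, hn⟩ := P.conj_eq_normalizer_conj_of_mem x g⁻¹ hx hgP
  rw [inv_inv, hg] at hn
  -- hn : y = n⁻¹ * x * n
  have hnN' : n⁻¹ ∈ Subgroup.normalizer ((P : Subgroup G) : Set G) := Subgroup.inv_mem _ hnN
  have hwP : n⁻¹ * y * n ∈ P := by
    have := (Subgroup.mem_normalizer_iff.mp hnN' y).mp hy
    rwa [inv_inv] at this
  by_cases hw : n⁻¹ * y * n = x
  · -- impossible: n swaps x and y
    exfalso
    have hn0 : orderOf n ≠ 0 := (orderOf_pos n).ne'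
    obtain ⟨e, m, hm, hom⟩ := Nat.exists_eq_two_pow_mul_odd hn0
    obtain ⟨j, hj⟩ := hm
    have hm0 : m ≠ 0 := by omega
    have hord : orderOf (n ^ m) = 2 ^ e := by
      rw [orderOf_pow' _ hm0, hom]
      have : Nat.gcd (2 ^ e * m) m = m := by
        rw [Nat.gcd_comm]; exact Nat.gcd_eq_left (Dvd.intro_left _ rfl)
      rw [this]
      exact Nat.mul_div_cancel _ (Nat.pos_of_ne_zero hm0)
    have hmN : n ^ m ∈ Subgroup.normalizer ((P : Subgroup G) : Set G) := Subgroup.pow_mem _ hnN m
    have hc := two_elt_normalizer_commute P hP (n ^ m) e hord hmN x hx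
    have halt := (alternating_conj hn.symm hw j).2
    rw [← hj] at halt
    apply hxy
    rw [← halt, mul_assoc, ← hc]; group
  · -- n⁻¹ y n is the third involution
    have hw1 : n⁻¹ * y * n ≠ 1 := by
      intro h1
      apply hy1
      have : y = n * (n⁻¹ * y * n) * n⁻¹ := by group
      rw [this, h1]; group
    have hwy : n⁻¹ * y * n ≠ y := by
      intro h1
      apply hxy
      have h2 : n⁻¹ * y * n = n⁻¹ * x * n := by rw [h1, hn]
      have h3 := mul_right_cancel h2
      exact (mul_left_cancel h3).symm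
    have h3 := klein_third P hP hx hy hwP hx1 hy1 hxy hw1 hw hwy
    rw [← h3]
    refine h.trans (isConj_iff.mpr ⟨n⁻¹, ?_⟩)
    rw [inv_inv]

open Classical in
/-- the classes of involutions are the classes of the three involutions of `P` -/
theorem card_invol_classes (hP : IsKleinFour (P : Subgroup G)) {a b : G} (ha : a ∈ P) (hb : b ∈ P)
    (ha1 : a ≠ 1) (hb1 : b ≠ 1) (hab : a ≠ b)
    (hall : ∀ v ∈ P, v = 1 ∨ v = a ∨ v = b ∨ v = a * b) :
    Nat.card {C : ConjClasses G // ∃ t : G, orderOf t = 2 ∧ ConjClasses.mk t = C} =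
      ({ConjClasses.mk a, ConjClasses.mk b, ConjClasses.mk (a * b)} :
        Finset (ConjClasses G)).card := by
  have habP : a * b ∈ P := (P : Subgroup G).mul_mem ha hb
  have hab1 : a * b ≠ 1 := by
    intro h
    apply hab
    have h2 := klein_sq P hP b hb
    have : a = a * (b * b) := by rw [h2, mul_one]
    rw [this, ← mul_assoc, h, one_mul]
  rw [← Fintype.card_coe, ← Nat.card_eq_fintype_card]
  apply Nat.card_congr
  apply Equiv.subtypeEquivRight
  intro C
  simp only [Finset.mem_insert, Finset.mem_singleton]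
  constructor
  · rintro ⟨t, ht, rfl⟩
    obtain ⟨g, hg⟩ := invol_conj_into P t ht
    have hconj : ConjClasses.mk t = ConjClasses.mk (g * t * g⁻¹) :=
      ConjClasses.mk_eq_mk_iff_isConj.mpr (isConj_iff.mpr ⟨g, rfl⟩)
    have hne : g * t * g⁻¹ ≠ 1 := invol_ne_one (orderOf_conj_two g ht)
    rcases hall _ hg with h | h | h | h
    · exact absurd h hne
    · left; rw [hconj, h]
    · right; left; rw [hconj, h]
    · right; right; rw [hconj, h]
  · rintro (h | h | h)
    · exact ⟨a, klein_orderOf P hP ha ha1, h.symm⟩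
    · exact ⟨b, klein_orderOf P hP hb hb1, h.symm⟩
    · exact ⟨a * b, klein_orderOf P hP habP hab1, h.symm⟩

/-- one or three classes of involutions -/
theorem klein_one_or_three (hP : IsKleinFour (P : Subgroup G)) :
    Nat.card {C : ConjClasses G // ∃ t : G, orderOf t = 2 ∧ ConjClasses.mk t = C} = 1 ∨
    Nat.card {C : ConjClasses G // ∃ t : G, orderOf t = 2 ∧ ConjClasses.mk t = C} = 3 := by
  classical
  obtain ⟨a, b, ha, hb, ha1, hb1, hab, hall⟩ := klein_exists_gens P hP
  rw [card_invol_classes P hP ha hb ha1 hb1 hab hall]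
  have habP : a * b ∈ P := (P : Subgroup G).mul_mem ha hb
  have hab1 : a * b ≠ 1 := by
    intro h
    apply hab
    have h2 := klein_sq P hP b hb
    have : a = a * (b * b) := by rw [h2, mul_one]
    rw [this, ← mul_assoc, h, one_mul]
  have haab : a ≠ a * b := by
    intro h
    apply hb1
    have := congrArg (fun z => a⁻¹ * z) h
    simpa using this.symm
  have hbab : b ≠ a * b := by
    intro h
    apply ha1
    have := congrArg (fun z => z * b⁻¹) h
    simpa using this.symm
  have e1 : a * (a * b) = b := by rw [← mul_assoc, klein_sq P hP a ha, one_mul]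
  have e2 : b * (a * b) = a := by
    rw [klein_comm P hP a ha b hb, ← mul_assoc, klein_sq P hP b hb, one_mul]
  -- if any two are conjugate then all are
  have hall_eq : (IsConj a b ∨ IsConj a (a * b) ∨ IsConj b (a * b)) →
      ConjClasses.mk a = ConjClasses.mk b ∧ ConjClasses.mk a = ConjClasses.mk (a * b) := by
    rintro (h | h | h)
    · have h2 := fusion_third P hP ha hb ha1 hb1 hab h
      exact ⟨ConjClasses.mk_eq_mk_iff_isConj.mpr h, ConjClasses.mk_eq_mk_iff_isConj.mpr h2⟩
    · have h2 := fusion_third P hP ha habP ha1 hab1 haab h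
      rw [e1] at h2
      exact ⟨ConjClasses.mk_eq_mk_iff_isConj.mpr h2, ConjClasses.mk_eq_mk_iff_isConj.mpr h⟩
    · have h2 := fusion_third P hP hb habP hb1 hab1 hbab h
      rw [e2] at h2
      have h3 : IsConj a b := h2.symm
      have h4 : IsConj a (a * b) := h3.trans h
      exact ⟨ConjClasses.mk_eq_mk_iff_isConj.mpr h3, ConjClasses.mk_eq_mk_iff_isConj.mpr h4⟩
  by_cases hc : IsConj a b ∨ IsConj a (a * b) ∨ IsConj b (a * b)
  · left
    obtain ⟨h1, h2⟩ := hall_eq hc
    rw [← h1, ← h2]
    simp
  · right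
    push Not at hc
    obtain ⟨h1, h2, h3⟩ := hc
    rw [Finset.card_eq_three]
    refine ⟨_, _, _, ?_, ?_, ?_, rfl⟩
    · intro h; exact h1 (ConjClasses.mk_eq_mk_iff_isConj.mp h)
    · intro h; exact h2 (ConjClasses.mk_eq_mk_iff_isConj.mp h)
    · intro h; exact h3 (ConjClasses.mk_eq_mk_iff_isConj.mp h)

/-- three classes of involutions iff `P` has a normal complement -/
theorem klein_three_iff (hP : IsKleinFour (P : Subgroup G)) :
    Nat.card {C : ConjClasses G // ∃ t : G, orderOf t = 2 ∧ ConjClasses.mk t = C} = 3 ↔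
      ∃ N : Subgroup G, N.Normal ∧ Subgroup.IsComplement' N (P : Subgroup G) := by
  classical
  have hF : Fact (Nat.Prime 2) := ⟨Nat.prime_two⟩
  obtain ⟨a, b, ha, hb, ha1, hb1, hab, hall⟩ := klein_exists_gens P hP
  rw [card_invol_classes P hP ha hb ha1 hb1 hab hall]
  have habP : a * b ∈ P := (P : Subgroup G).mul_mem ha hb
  have hab1 : a * b ≠ 1 := by
    intro h
    apply hab
    have h2 := klein_sq P hP b hb
    have : a = a * (b * b) := by rw [h2, mul_one]
    rw [this, ← mul_assoc, h, one_mul]
  have haab : a ≠ a * b := by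
    intro h
    apply hb1
    have := congrArg (fun z => a⁻¹ * z) h
    simpa using this.symm
  have hbab : b ≠ a * b := by
    intro h
    apply ha1
    have := congrArg (fun z => z * b⁻¹) h
    simpa using this.symm
  -- both sides are equivalent to: conjugate elements of P are equal
  have key1 : ({ConjClasses.mk a, ConjClasses.mk b, ConjClasses.mk (a * b)} :
      Finset (ConjClasses G)).card = 3 ↔ (∀ x ∈ P, ∀ y ∈ P, IsConj x y → x = y) := by
    constructor
    · intro h3
      have hn1 : ¬ IsConj a b := by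
        intro h
        rw [ConjClasses.mk_eq_mk_iff_isConj.mpr h] at h3
        have := Finset.card_le_two (a := ConjClasses.mk b) (b := ConjClasses.mk (a * b))
        simp only [Finset.mem_insert, Finset.mem_singleton, true_or, Finset.insert_eq_of_mem] at h3
        omega
      have hn2 : ¬ IsConj a (a * b) := by
        intro h
        rw [ConjClasses.mk_eq_mk_iff_isConj.mpr h] at h3
        have := Finset.card_le_two (a := ConjClasses.mk (a * b)) (b := ConjClasses.mk b)
        have e : ({ConjClasses.mk (a * b), ConjClasses.mk b, ConjClasses.mk (a * b)} :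
            Finset (ConjClasses G)) = {ConjClasses.mk (a * b), ConjClasses.mk b} := by
          ext C; simp only [Finset.mem_insert, Finset.mem_singleton]; tauto
        rw [e] at h3
        omega
      have hn3 : ¬ IsConj b (a * b) := by
        intro h
        rw [ConjClasses.mk_eq_mk_iff_isConj.mpr h] at h3
        have := Finset.card_le_two (a := ConjClasses.mk a) (b := ConjClasses.mk (a * b))
        have e : ({ConjClasses.mk a, ConjClasses.mk (a * b), ConjClasses.mk (a * b)} :
            Finset (ConjClasses G)) = {ConjClasses.mk a, ConjClasses.mk (a * b)} := by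
          ext C; simp only [Finset.mem_insert, Finset.mem_singleton]; tauto
        rw [e] at h3
        omega
      intro x hx y hy hxy
      by_cases hx1 : x = 1
      · subst hx1
        obtain ⟨g, hg⟩ := isConj_iff.mp hxy
        rw [← hg]; group
      by_cases hy1 : y = 1
      · subst hy1
        obtain ⟨g, hg⟩ := isConj_iff.mp hxy.symm
        rw [← hg]; group
      rcases hall x hx with h | h | h | h
      · exact absurd h hx1
      · rcases hall y hy with h' | h' | h' | h'
        · exact absurd h' hy1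
        · rw [h, h']
        · rw [h, h'] at hxy; exact absurd hxy hn1
        · rw [h, h'] at hxy; exact absurd hxy hn2
      · rcases hall y hy with h' | h' | h' | h'
        · exact absurd h' hy1
        · rw [h, h'] at hxy; exact absurd hxy.symm hn1
        · rw [h, h']
        · rw [h, h'] at hxy; exact absurd hxy hn3
      · rcases hall y hy with h' | h' | h' | h'
        · exact absurd h' hy1
        · rw [h, h'] at hxy; exact absurd hxy.symm hn2
        · rw [h, h'] at hxy; exact absurd hxy.symm hn3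
        · rw [h, h']
    · intro h
      rw [Finset.card_eq_three]
      refine ⟨_, _, _, ?_, ?_, ?_, rfl⟩
      · intro h1; exact hab (h a ha b hb (ConjClasses.mk_eq_mk_iff_isConj.mp h1))
      · intro h1; exact haab (h a ha _ habP (ConjClasses.mk_eq_mk_iff_isConj.mp h1))
      · intro h1; exact hbab (h b hb _ habP (ConjClasses.mk_eq_mk_iff_isConj.mp h1))
  rw [key1]
  constructor
  · intro h
    -- N(P) ≤ C(P)
    have hNC : Subgroup.normalizer ((P : Subgroup G) : Set G) ≤
        Subgroup.centralizer ((P : Subgroup G) : Set G) := by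
      intro n hn
      rw [Subgroup.mem_centralizer_iff]
      intro v hv
      have hw : n * v * n⁻¹ ∈ P := (Subgroup.mem_normalizer_iff.mp hn v).mp hv
      have := h v hv _ hw (isConj_iff.mpr ⟨n, rfl⟩)
      conv_lhs => rw [this]
      group
    exact ⟨_, inferInstance, MonoidHom.ker_transferSylow_isComplement' P hNC⟩
  · rintro ⟨N, hN, hc⟩ x hx y hy hxy
    obtain ⟨g, hg⟩ := isConj_iff.mp hxy
    have htop : N ⊔ (P : Subgroup G) = ⊤ := hc.sup_eq_top
    have hgm : g ∈ ((N ⊔ (P : Subgroup G) : Subgroup G) : Set G) := by rw [htop]; trivial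
    rw [Subgroup.normal_mul] at hgm
    obtain ⟨n, hn, p, hp, rfl⟩ := Set.mem_mul.mp hgm
    -- y = n x n⁻¹
    have hy' : y = n * x * n⁻¹ := by
      rw [← hg]
      have hpx : p * x = x * p := klein_comm P hP p hp x hx
      calc n * p * x * (n * p)⁻¹ = n * (p * x) * p⁻¹ * n⁻¹ := by group
        _ = n * (x * p) * p⁻¹ * n⁻¹ := by rw [hpx]
        _ = n * x * n⁻¹ := by group
    have hmemN : x⁻¹ * y ∈ N := by
      rw [hy']
      have h1 : x⁻¹ * n * x⁻¹⁻¹ ∈ N := hN.conj_mem n hn x⁻¹
      have : x⁻¹ * (n * x * n⁻¹) = (x⁻¹ * n * x⁻¹⁻¹) * n⁻¹ := by group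
      rw [this]
      exact N.mul_mem h1 (N.inv_mem hn)
    have hmemP : x⁻¹ * y ∈ (P : Subgroup G) := (P : Subgroup G).mul_mem ((P : Subgroup G).inv_mem hx) hy
    have hdis := hc.disjoint
    have : x⁻¹ * y = 1 := by
      have := (Subgroup.disjoint_def.mp hdis) hmemN hmemP
      exact this
    exact inv_mul_eq_one.mp this

end KleinSylow

end Cfsg.Agent.Lib.Helper2
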