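import Mathlib
import Cfsg.Agent.Lib.Helper18.UniqueInvolution

/-!
Groups with a generalized quaternion Sylow `2`-subgroup: explicit generator data, uniqueness of
involutions in `2`-subgroups, the TI-set of Isaacs (7.8).
-/

set_option autoImplicit false
open scoped commutatorElement
namespace Cfsg.Agent.Lib.Helper2
universe u

section quat
variable {G : Type u} [Group G]

/-- generalized quaternion data for a subgroup `S` of order `4m` -/
structure QuatData (S : Subgroup G) (m : ℕ) (a b : G) : Prop where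
  ha : a ∈ S
  hb : b ∈ S
  order_a : orderOf a = 2 * m
  conj : b * a * b⁻¹ = a⁻¹
  sq : b * b = a ^ m
  not_mem : b ∉ Subgroup.zpowers a
  cover : ∀ s ∈ S, (∃ i : ℕ, s = a ^ i) ∨ (∃ i : ℕ, s = b * a ^ i)
  card : Nat.card S = 4 * m

theorem exists_quatData {S : Subgroup G} {m : ℕ} [NeZero m] (e : ↥S ≃* QuaternionGroup m) :
    ∃ a b : G, QuatData S m a b := by
  have h2m : ((m : ZMod (2 * m)) + m) = 0 := by
    have := ZMod.natCast_self (2 * m)
    rw [two_mul] at this
    push_cast at this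
    rwa [two_mul]
  have hcast : ∀ i : ZMod (2 * m), (QuaternionGroup.a 1 : QuaternionGroup m) ^ i.val =
      QuaternionGroup.a i := by
    intro i
    rw [QuaternionGroup.a_one_pow]
    congr 1
    exact ZMod.natCast_zmod_val i
  refine ⟨(e.symm (QuaternionGroup.a 1) : G), (e.symm (QuaternionGroup.xa 0) : G), ?_⟩
  refine ⟨(e.symm _).2, (e.symm _).2, ?_, ?_, ?_, ?_, ?_, ?_⟩
  · rw [Subgroup.orderOf_coe, MulEquiv.orderOf_eq, QuaternionGroup.orderOf_a_one]
  · have h : (QuaternionGroup.xa 0 : QuaternionGroup m) * QuaternionGroup.a 1 *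
        (QuaternionGroup.xa 0)⁻¹ = (QuaternionGroup.a 1)⁻¹ := by
      rw [eq_inv_iff_mul_eq_one, mul_assoc, mul_assoc]
      have hinv : (QuaternionGroup.xa 0 : QuaternionGroup m)⁻¹ = QuaternionGroup.xa (m + 0) := rfl
      rw [hinv, QuaternionGroup.xa_mul_a, QuaternionGroup.a_mul_xa, QuaternionGroup.xa_mul_xa,
        QuaternionGroup.one_def]
      congr 1
      calc (m : ZMod (2 * m)) + (↑m + 0 + 1 - 1) - 0 = (m : ZMod (2 * m)) + m := by ring
        _ = 0 := h2m
    have h2 := congrArg e.symm h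
    rw [map_mul, map_mul, map_inv, map_inv] at h2
    exact congrArg Subtype.val h2
  · have h : (QuaternionGroup.xa 0 : QuaternionGroup m) * QuaternionGroup.xa 0 =
        (QuaternionGroup.a 1) ^ m := by
      rw [QuaternionGroup.a_one_pow, QuaternionGroup.xa_mul_xa]
      congr 1
      ring
    have h2 := congrArg e.symm h
    rw [map_mul, map_pow] at h2
    exact congrArg Subtype.val h2
  · intro hmem
    obtain ⟨k, hk⟩ := hmem
    have h1 : (e.symm (QuaternionGroup.a 1)) ^ k = e.symm (QuaternionGroup.xa 0) := by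
      apply Subtype.ext
      rw [Subgroup.coe_zpow]
      exact hk
    rw [← map_zpow] at h1
    have h3 := e.symm.injective h1
    have h4 : (QuaternionGroup.xa 0 : QuaternionGroup m) ∈
        Subgroup.zpowers (QuaternionGroup.a 1 : QuaternionGroup m) := ⟨k, h3⟩
    rw [← mem_powers_iff_mem_zpowers] at h4
    obtain ⟨j, hj⟩ := h4
    have hj' : (QuaternionGroup.a 1 : QuaternionGroup m) ^ j = QuaternionGroup.xa 0 := hj
    rw [QuaternionGroup.a_one_pow] at hj'
    cases hj'
  · intro s hs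
    have hs' : s = ((e.symm (e ⟨s, hs⟩) : S) : G) := by simp
    rcases hq : e ⟨s, hs⟩ with i | i
    · left
      refine ⟨i.val, ?_⟩
      rw [hs', hq, ← hcast i, map_pow]
      rfl
    · right
      refine ⟨i.val, ?_⟩
      have : (QuaternionGroup.xa i : QuaternionGroup m) =
          QuaternionGroup.xa 0 * (QuaternionGroup.a 1) ^ i.val := by
        rw [hcast i, QuaternionGroup.xa_mul_a, zero_add]
      rw [hs', hq, this, map_mul, map_pow]
      rfl
  · rw [Nat.card_congr e.toEquiv, Nat.card_eq_fintype_card, QuaternionGroup.card]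

namespace QuatData
variable {S : Subgroup G} {m : ℕ} {a b : G}

theorem conj_pow (h : QuatData S m a b) (i : ℕ) : b * a ^ i * b⁻¹ = (a ^ i)⁻¹ := by
  have h1 := map_pow (MulAut.conj b) a i
  simp only [MulAut.conj_apply] at h1
  rw [h1, h.conj, inv_pow]

theorem conj_mul_pow (h : QuatData S m a b) (i j : ℕ) :
    (b * a ^ i) * a ^ j * (b * a ^ i)⁻¹ = (a ^ j)⁻¹ := by
  calc (b * a ^ i) * a ^ j * (b * a ^ i)⁻¹ = b * (a ^ i * a ^ j * (a ^ i)⁻¹) * b⁻¹ := by group
    _ = b * a ^ j * b⁻¹ := by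
        rw [← pow_add, add_comm, pow_add, mul_inv_cancel_right]
    _ = (a ^ j)⁻¹ := h.conj_pow j

theorem mul_self_of_not_mem (h : QuatData S m a b) (i : ℕ) :
    (b * a ^ i) * (b * a ^ i) = a ^ m := by
  calc b * a ^ i * (b * a ^ i) = (b * a ^ i * b⁻¹) * (b * b) * a ^ i := by group
    _ = (a ^ i)⁻¹ * a ^ m * a ^ i := by rw [h.conj_pow, h.sq]
    _ = a ^ m := by
        rw [mul_assoc, ← pow_add, add_comm, pow_add, ← mul_assoc, inv_mul_cancel, one_mul]

theorem pow_m_ne_one (h : QuatData S m a b) (hm : 0 < m) : a ^ m ≠ 1 := by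
  intro h1
  have := orderOf_dvd_of_pow_eq_one h1
  rw [h.order_a] at this
  have := Nat.le_of_dvd hm this
  omega

theorem orderOf_pow_m (h : QuatData S m a b) (hm : 0 < m) : orderOf (a ^ m) = 2 := by
  rw [orderOf_pow_of_dvd hm.ne' (by rw [h.order_a]; exact Dvd.intro_left 2 rfl), h.order_a]
  exact Nat.mul_div_cancel _ hm

theorem unique_involution (h : QuatData S m a b) (hm : 0 < m) :
    ∀ s ∈ S, orderOf s = 2 → s = a ^ m := by
  intro s hs hs2
  rcases h.cover s hs with ⟨i, rfl⟩ | ⟨i, rfl⟩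
  · have h1 : (a ^ i) ^ 2 = 1 := by rw [← hs2]; exact pow_orderOf_eq_one _
    rw [← pow_mul] at h1
    have h2 := orderOf_dvd_of_pow_eq_one h1
    rw [h.order_a, mul_comm i 2] at h2
    have h3 : m ∣ i := Nat.dvd_of_mul_dvd_mul_left (by norm_num) h2
    obtain ⟨j, rfl⟩ := h3
    rcases Nat.even_or_odd j with ⟨k, rfl⟩ | ⟨k, rfl⟩
    · exfalso
      have : a ^ (m * (k + k)) = 1 := by
        rw [show m * (k + k) = (2 * m) * k by ring, pow_mul, ← h.order_a, pow_orderOf_eq_one,
          one_pow]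
      rw [this, orderOf_one] at hs2
      omega
    · rw [show m * (2 * k + 1) = (2 * m) * k + m by ring, pow_add, pow_mul, ← h.order_a,
        pow_orderOf_eq_one, one_pow, one_mul]
  · exfalso
    have h1 : (b * a ^ i) ^ 2 = 1 := by rw [← hs2]; exact pow_orderOf_eq_one _
    rw [pow_two, h.mul_self_of_not_mem] at h1
    exact h.pow_m_ne_one hm h1

theorem a_pow_four_ne_one (h : QuatData S m a b) (hm : 2 < m) : a ^ 4 ≠ 1 := by
  intro h1
  have := orderOf_dvd_of_pow_eq_one h1
  rw [h.order_a] at this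
  have := Nat.le_of_dvd (by norm_num) this
  omega

theorem mem_zpowers_of_commute_sq (h : QuatData S m a b) (hm : 2 < m) :
    ∀ s ∈ S, s * a ^ 2 = a ^ 2 * s → s ∈ Subgroup.zpowers a := by
  intro s hs hcomm
  rcases h.cover s hs with ⟨i, rfl⟩ | ⟨i, rfl⟩
  · exact Subgroup.npow_mem_zpowers a i
  · exfalso
    have h1 := h.conj_mul_pow i 2
    rw [hcomm, mul_inv_cancel_right] at h1
    apply h.a_pow_four_ne_one hm
    have : a ^ 4 = a ^ 2 * a ^ 2 := by rw [← pow_add]
    rw [this]
    nth_rewrite 1 [h1]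
    rw [inv_mul_cancel]

theorem commutator_eq (h : QuatData S m a b) : ⁅S, S⁆ = Subgroup.zpowers (a ^ 2) := by
  apply le_antisymm
  · rw [Subgroup.commutator_le]
    have key : ∀ i j : ℕ, ⁅a ^ i, b * a ^ j⁆ ∈ Subgroup.zpowers (a ^ 2) := by
      intro i j
      have h1 : ⁅a ^ i, b * a ^ j⁆ = (a ^ 2) ^ i := by
        rw [commutatorElement_def]
        calc a ^ i * (b * a ^ j) * (a ^ i)⁻¹ * (b * a ^ j)⁻¹
            = a ^ i * ((b * a ^ j) * a ^ i * (b * a ^ j)⁻¹)⁻¹ := by group
          _ = a ^ i * a ^ i := by rw [h.conj_mul_pow, inv_inv]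
          _ = (a ^ 2) ^ i := by rw [← pow_add, ← pow_mul, two_mul]
      rw [h1]
      exact Subgroup.npow_mem_zpowers _ i
    intro x hx y hy
    rcases h.cover x hx with ⟨i, rfl⟩ | ⟨i, rfl⟩
    · rcases h.cover y hy with ⟨j, rfl⟩ | ⟨j, rfl⟩
      · have : ⁅a ^ i, a ^ j⁆ = 1 := by
          rw [commutatorElement_eq_one_iff_commute]
          exact (Commute.refl a).pow_pow i j
        rw [this]
        exact one_mem _
      · exact key i j
    · rcases h.cover y hy with ⟨j, rfl⟩ | ⟨j, rfl⟩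
      · rw [← commutatorElement_inv]
        exact inv_mem (key j i)
      · have h1 : ⁅b * a ^ i, b * a ^ j⁆ = ((a ^ 2) ^ j) * ((a ^ 2) ^ i)⁻¹ := by
          rw [commutatorElement_def]
          have e1 : (b * a ^ i) * (b * a ^ j) * (b * a ^ i)⁻¹ * (b * a ^ j)⁻¹ =
              ((b * a ^ i) * b * (b * a ^ i)⁻¹) * (((b * a ^ i) * a ^ j * (b * a ^ i)⁻¹) *
                (b * a ^ j)⁻¹) := by group
          rw [e1, h.conj_mul_pow]
          have e2 : (b * a ^ i) * b * (b * a ^ i)⁻¹ = b * ((a ^ i) * (b * (a ^ i)⁻¹ * b⁻¹)) := by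
            group
          have e3 : b * (a ^ i)⁻¹ * b⁻¹ = a ^ i := by
            have := h.conj_pow i
            have h3 : b * (a ^ i)⁻¹ * b⁻¹ = (b * a ^ i * b⁻¹)⁻¹ := by group
            rw [h3, this, inv_inv]
          rw [e2, e3]
          have e4 : (b * a ^ j)⁻¹ = (a ^ j)⁻¹ * b⁻¹ := by group
          rw [e4]
          have e5 : b * (a ^ i * a ^ i) * ((a ^ j)⁻¹ * ((a ^ j)⁻¹ * b⁻¹)) =
              b * ((a ^ i * a ^ i) * ((a ^ j)⁻¹ * (a ^ j)⁻¹)) * b⁻¹ := by group
          rw [e5]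
          have e6 : (a ^ i * a ^ i) * ((a ^ j)⁻¹ * (a ^ j)⁻¹) = a ^ (2 * i) * (a ^ (2 * j))⁻¹ := by
            rw [← pow_add, ← two_mul, ← mul_inv_rev, ← pow_add, ← two_mul]
          rw [e6]
          have e7 : b * (a ^ (2 * i) * (a ^ (2 * j))⁻¹) * b⁻¹ =
              (b * a ^ (2 * i) * b⁻¹) * (b * a ^ (2 * j) * b⁻¹)⁻¹ := by group
          rw [e7, h.conj_pow, h.conj_pow, inv_inv, pow_mul, pow_mul]
          exact ((Commute.refl (a ^ 2)).pow_pow i j).inv_left.eq
        rw [h1]
        exact mul_mem (Subgroup.npow_mem_zpowers _ j) (inv_mem (Subgroup.npow_mem_zpowers _ i))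
  · rw [Subgroup.zpowers_le]
    have h1 : ⁅a, b⁆ = a ^ 2 := by
      rw [commutatorElement_def]
      have : a * b * a⁻¹ * b⁻¹ = a * (b * a * b⁻¹)⁻¹ := by group
      rw [this, h.conj, inv_inv, pow_two]
    rw [← h1]
    exact Subgroup.commutator_mem_commutator h.ha h.hb

end QuatData

/-- a `p`-subgroup can be conjugated into a given Sylow `p`-subgroup -/
theorem exists_inv_conj_mem_sylow [Finite G] {p : ℕ} [Fact p.Prime] (P : Sylow p G)
    (Q : Subgroup G) (hQ : IsPGroup p Q) : ∃ g : G, ∀ y ∈ Q, g⁻¹ * y * g ∈ (P : Subgroup G) := by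
  obtain ⟨P', hP'⟩ := hQ.exists_le_sylow
  obtain ⟨g, hg⟩ := MulAction.exists_smul_eq G P P'
  refine ⟨g, fun y hy => ?_⟩
  have h1 : y ∈ ((g • P : Sylow p G) : Subgroup G) := by rw [hg]; exact hP' hy
  rw [Sylow.coe_subgroup_smul, Subgroup.mem_pointwise_smul_iff_inv_smul_mem] at h1
  have h2 : ((MulAut.conj g)⁻¹ • y : G) = g⁻¹ * y * g := by
    rw [← map_inv, MulAut.smul_def, MulAut.conj_apply, inv_inv]
  rwa [h2] at h1

/-- in a finite group, closedness under conjugation by `g` gives membership in the normalizer -/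
theorem mem_normalizer_of_forall_conj_mem_fin [Finite G] (g : G) (A : Subgroup G)
    (h : ∀ x ∈ A, g * x * g⁻¹ ∈ A) : g ∈ Subgroup.normalizer (A : Set G) := by
  have hpow : ∀ n : ℕ, ∀ x ∈ A, g ^ n * x * (g ^ n)⁻¹ ∈ A := by
    intro n
    induction n with
    | zero => intro x hx; simpa using hx
    | succ n ih =>
      intro x hx
      have := h _ (ih x hx)
      have e : g ^ (n + 1) * x * (g ^ (n + 1))⁻¹ = g * (g ^ n * x * (g ^ n)⁻¹) * g⁻¹ := by
        rw [pow_succ']; group
      rw [e]; exact this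
  have hinv : g⁻¹ = g ^ (orderOf g - 1) := by
    apply inv_eq_of_mul_eq_one_left
    rw [← pow_succ, Nat.sub_add_cancel (orderOf_pos g), pow_orderOf_eq_one]
  rw [Subgroup.mem_normalizer_iff]
  intro x
  constructor
  · exact h x
  · intro hx
    have := hpow (orderOf g - 1) _ hx
    rw [← hinv, inv_inv] at this
    have e : g⁻¹ * (g * x * g⁻¹) * g = x := by group
    rwa [e] at this

/-- membership in the centralizer of a cyclic subgroup -/
theorem mem_centralizer_zpowers_iff (d y : G) :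
    y ∈ Subgroup.centralizer ((Subgroup.zpowers d : Subgroup G) : Set G) ↔ y * d = d * y := by
  rw [Subgroup.mem_centralizer_iff]
  constructor
  · intro h
    exact (h d (Subgroup.mem_zpowers d)).symm
  · intro h x hx
    obtain ⟨k, rfl⟩ := hx
    exact ((show Commute y d from h).zpow_right k).eq.symm

variable [Finite G] {S : Sylow 2 G} {m : ℕ} {a b : G}

/-- a `2`-subgroup of a group with quaternion Sylow `2`-subgroups has at most one involution -/
theorem QuatData.involution_unique (h : QuatData (S : Subgroup G) m a b) (hm : 0 < m)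
    (A : Subgroup G) (hA : IsPGroup 2 A) (s t : G) (hs : s ∈ A) (ht : t ∈ A)
    (hs2 : orderOf s = 2) (ht2 : orderOf t = 2) : s = t := by
  obtain ⟨g, hg⟩ := exists_inv_conj_mem_sylow S A hA
  have hord : ∀ x : G, orderOf (g⁻¹ * x * g) = orderOf x := by
    intro x
    have := orderOf_injective (MulAut.conj g⁻¹).toMonoidHom (MulAut.conj g⁻¹).injective x
    simpa using this
  have h1 := h.unique_involution hm _ (hg s hs) ((hord s).trans hs2)
  have h2 := h.unique_involution hm _ (hg t ht) ((hord t).trans ht2)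
  have h3 : g⁻¹ * s * g = g⁻¹ * t * g := h1.trans h2.symm
  exact mul_left_cancel (mul_right_cancel h3)

/-- abelian `2`-subgroups are cyclic -/
theorem QuatData.isCyclic_of_comm (h : QuatData (S : Subgroup G) m a b) (hm : 0 < m)
    (A : Subgroup G) (hA : IsPGroup 2 A) (hAc : IsMulCommutative A) : IsCyclic A := by
  have huniq : ∀ s t : A, orderOf s = 2 → orderOf t = 2 → s = t := by
    intro s t hs ht
    apply Subtype.ext
    apply h.involution_unique hm A hA s t s.2 t.2
    · rw [← hs, Subgroup.orderOf_coe]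
    · rw [← ht, Subgroup.orderOf_coe]
  have htop : IsMulCommutative (⊤ : Subgroup A) :=
    ⟨⟨fun x y => Subtype.ext (mul_comm' (x : A) (y : A))⟩⟩
  have := Cfsg.Agent.Lib.Helper18.isCyclic_of_comm_of_unique_involution hA huniq ⊤ htop
  exact isCyclic_of_surjective (Subgroup.topEquiv : (⊤ : Subgroup A) ≃* A)
    Subgroup.topEquiv.surjective

omit [Finite G] in
/-- the order of `a ^ 2` -/
theorem QuatData.orderOf_sq (h : QuatData (S : Subgroup G) m a b) :
    orderOf (a ^ 2) = m := by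
  rw [orderOf_pow_of_dvd (by norm_num) (by rw [h.order_a]; exact Dvd.intro _ rfl), h.order_a]
  exact Nat.mul_div_cancel_left _ (by norm_num)

/-- Isaacs (7.8), first step: an element of `C(D)` of order divisible by `|D|` has `D ≤ ⟨y⟩` -/
theorem QuatData.sq_mem_zpowers (h : QuatData (S : Subgroup G) m a b) {r : ℕ} (hmr : m = 2 ^ r)
    (y : G) (hy : y * a ^ 2 = a ^ 2 * y) (hdvd : m ∣ orderOf y) : a ^ 2 ∈ Subgroup.zpowers y := by
  have hm : 0 < m := by rw [hmr]; positivity
  have hy0 : orderOf y ≠ 0 := (orderOf_pos y).ne'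
  obtain ⟨s, t, ht, hst⟩ := Nat.exists_eq_pow_mul_and_not_dvd hy0 2 (by norm_num)
  have hrs : 2 ^ r ∣ 2 ^ s := by
    have h1 : (2 ^ r).Coprime t := by
      apply Nat.Coprime.pow_left
      rw [Nat.coprime_comm]
      exact (Nat.Prime.coprime_iff_not_dvd Nat.prime_two).mpr ht |>.symm
    rw [← hmr]
    rw [hst, hmr] at hdvd
    rw [hmr]
    exact h1.dvd_of_dvd_mul_right hdvd
  have ht0 : t ≠ 0 := by
    rintro rfl
    rw [mul_zero] at hst
    exact hy0 hst
  have hy2 : orderOf (y ^ t) = 2 ^ s := by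
    rw [orderOf_pow_of_dvd ht0 (by rw [hst]; exact Dvd.intro_left _ rfl), hst]
    exact Nat.mul_div_cancel _ (Nat.pos_of_ne_zero ht0)
  -- the abelian 2-group generated by y^t and a^2
  let A : Subgroup G := Subgroup.closure {y ^ t, a ^ 2}
  have hcomm : Commute (y ^ t) (a ^ 2) := (show Commute y (a ^ 2) from hy).pow_left t
  have hAc : IsMulCommutative A := by
    apply Subgroup.isMulCommutative_closure
    intro x hx z hz
    rcases hx with rfl | rfl <;> rcases hz with rfl | rfl
    · rfl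
    · exact hcomm.eq
    · exact hcomm.eq.symm
    · rfl
  have hA : IsPGroup 2 A := by
    have hA' : A = Subgroup.zpowers (y ^ t) ⊔ Subgroup.zpowers (a ^ 2) := by
      show Subgroup.closure {y ^ t, a ^ 2} = _
      rw [Set.insert_eq, Subgroup.closure_union, Subgroup.zpowers_eq_closure,
        Subgroup.zpowers_eq_closure]
    rw [hA']
    apply IsPGroup.to_sup_of_normal_right'
    · apply IsPGroup.of_card (n := s)
      rw [Nat.card_zpowers, hy2]
    · apply IsPGroup.of_card (n := r)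
      rw [Nat.card_zpowers, h.orderOf_sq, hmr]
    · rw [Subgroup.zpowers_le]
      apply mem_normalizer_of_forall_conj_mem_fin
      intro x hx
      obtain ⟨k, rfl⟩ := hx
      have : y ^ t * (a ^ 2) ^ k * (y ^ t)⁻¹ = (a ^ 2) ^ k := by
        rw [(hcomm.zpow_right k).eq, mul_inv_cancel_right]
      rw [this]
      exact ⟨k, rfl⟩
  have hcyc := h.isCyclic_of_comm hm A hA hAc
  obtain ⟨⟨c, hcA⟩, hc⟩ := hcyc.exists_generator
  have hmemc : ∀ x ∈ A, x ∈ Subgroup.zpowers c := by
    intro x hx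
    obtain ⟨k, hk⟩ := hc ⟨x, hx⟩
    refine ⟨k, ?_⟩
    have := congrArg Subtype.val hk
    simpa using this
  have h1 : y ^ t ∈ A := Subgroup.subset_closure (Set.mem_insert _ _)
  have h2 : a ^ 2 ∈ A := Subgroup.subset_closure (Set.mem_insert_of_mem _ rfl)
  have h3 := Cfsg.Agent.Lib.Helper18.mem_zpowers_of_orderOf_dvd c (a ^ 2) (y ^ t)
    (orderOf_pos c).ne' (hmemc _ h2) (hmemc _ h1) (by rw [h.orderOf_sq, hy2, hmr]; exact hrs)
  exact (Subgroup.zpowers_le.mpr (Subgroup.npow_mem_zpowers y t)) h3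

/-- Isaacs (7.8): the elements of `C(D)` of order divisible by `|D|` form a TI-set with
normalizer `N(D)` -/
theorem QuatData.conj_mem_normalizer (h : QuatData (S : Subgroup G) m a b) {r : ℕ}
    (hmr : m = 2 ^ r) (g y : G) (hy : y * a ^ 2 = a ^ 2 * y) (hdvd : m ∣ orderOf y)
    (hgy : (g * y * g⁻¹) * a ^ 2 = a ^ 2 * (g * y * g⁻¹)) :
    g ∈ Subgroup.normalizer ((Subgroup.zpowers (a ^ 2) : Subgroup G) : Set G) := by
  have hord : orderOf (g * y * g⁻¹) = orderOf y := by
    have := orderOf_injective (MulAut.conj g).toMonoidHom (MulAut.conj g).injective y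
    simpa using this
  have h1 := h.sq_mem_zpowers hmr y hy hdvd
  have h2 := h.sq_mem_zpowers hmr (g * y * g⁻¹) hgy (by rw [hord]; exact hdvd)
  have h3 : g * a ^ 2 * g⁻¹ ∈ Subgroup.zpowers (g * y * g⁻¹) := by
    obtain ⟨k, hk⟩ := h1
    refine ⟨k, ?_⟩
    show (g * y * g⁻¹) ^ k = g * a ^ 2 * g⁻¹
    rw [← hk]
    have := map_zpow (MulAut.conj g) y k
    simpa using this.symm
  have hord2 : orderOf (g * a ^ 2 * g⁻¹) = orderOf (a ^ 2) := by
    have := orderOf_injective (MulAut.conj g).toMonoidHom (MulAut.conj g).injective (a ^ 2)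
    simpa using this
  have h4 := Cfsg.Agent.Lib.Helper18.mem_zpowers_of_orderOf_dvd (g * y * g⁻¹) (g * a ^ 2 * g⁻¹)
    (a ^ 2) (orderOf_pos _).ne' h3 h2 (by rw [hord2])
  apply mem_normalizer_of_forall_conj_mem_fin
  intro x hx
  obtain ⟨k, rfl⟩ := hx
  have e1 : g * (a ^ 2) ^ k * g⁻¹ = (g * a ^ 2 * g⁻¹) ^ k := by
    have := map_zpow (MulAut.conj g) (a ^ 2) k
    simpa using this
  rw [e1]
  exact Subgroup.zpow_mem _ h4 k

/-- the statement S0843 -/
theorem brauer_suzuki_ti (S : Sylow 2 G) (n : ℕ)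
    (e : (S : Subgroup G) ≃* QuaternionGroup (2 ^ (n + 2))) (D : Subgroup G)
    (hD : D = ⁅(S : Subgroup G), (S : Subgroup G)⁆) :
    (∀ y : G, y ∈ Subgroup.centralizer (D : Set G) → Nat.card D ∣ orderOf y →
      D ≤ Subgroup.zpowers y) ∧
    (∀ g y : G, y ∈ Subgroup.centralizer (D : Set G) → Nat.card D ∣ orderOf y →
      g * y * g⁻¹ ∈ Subgroup.centralizer (D : Set G) → g ∈ Subgroup.normalizer (D : Set G)) ∧
    (∀ g y : G, g ∈ Subgroup.normalizer (D : Set G) → y ∈ Subgroup.centralizer (D : Set G) →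
      Nat.card D ∣ orderOf y → g * y * g⁻¹ ∈ Subgroup.centralizer (D : Set G) ∧
        Nat.card D ∣ orderOf (g * y * g⁻¹)) := by
  have : NeZero (2 ^ (n + 2)) := ⟨by positivity⟩
  obtain ⟨a, b, h⟩ := exists_quatData e
  rw [h.commutator_eq] at hD
  subst hD
  have hcard : Nat.card (Subgroup.zpowers (a ^ 2)) = 2 ^ (n + 2) := by
    rw [Nat.card_zpowers, h.orderOf_sq]
  rw [hcard]
  refine ⟨?_, ?_, ?_⟩
  · intro y hy hdvd
    rw [Subgroup.zpowers_le]
    exact h.sq_mem_zpowers rfl y ((mem_centralizer_zpowers_iff _ _).mp hy) hdvd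
  · intro g y hy hdvd hgy
    exact h.conj_mem_normalizer rfl g y ((mem_centralizer_zpowers_iff _ _).mp hy) hdvd
      ((mem_centralizer_zpowers_iff _ _).mp hgy)
  · intro g y hg hy hdvd
    constructor
    · rw [Subgroup.mem_centralizer_iff]
      intro x hx
      have hx' : g⁻¹ * x * g ∈ Subgroup.zpowers (a ^ 2) :=
        (Subgroup.mem_normalizer_iff''.mp hg x).mp hx
      have := (Subgroup.mem_centralizer_iff.mp hy) _ hx'
      calc x * (g * y * g⁻¹) = g * ((g⁻¹ * x * g) * y) * g⁻¹ := by group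
        _ = g * (y * (g⁻¹ * x * g)) * g⁻¹ := by rw [this]
        _ = g * y * g⁻¹ * x := by group
    · have hord : orderOf (g * y * g⁻¹) = orderOf y := by
        have := orderOf_injective (MulAut.conj g).toMonoidHom (MulAut.conj g).injective y
        simpa using this
      rw [hord]
      exact hdvd

end quat
end Cfsg.Agent.Lib.Helper2
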