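/-
helper2 (Brauer–Suzuki for `Q₈`, assembly part): an irreducible character `χ ≠ 1` with
`χ(t) = ±χ(1)` and `t ∈ G'` yields a proper normal subgroup containing `t`.
-/
import Mathlib
import Cfsg.Agent.Lib.Lead.CharBurnside
import Cfsg.Agent.Lib.Lead.BlockBasic
import Cfsg.Agent.Lib.Helper25.Gagola
import Cfsg.Agent.Lib.Helper2.QuatSylow
import Cfsg.Agent.Lib.Helper29.Q8Wrap

set_option autoImplicit false
open scoped commutatorElement

namespace Cfsg.Agent.Lib.Helper2

open Cfsg Cfsg.Agent.CharLib Cfsg.Agent.Lib.Helper25 Module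

universe u

variable {G : Type u} [Group G]

/-- The kernel of a nontrivial irreducible character is a proper subgroup. -/
theorem irrKer_ne_top [Finite G] (χ : IrrCharacter G) (hχ : χ ≠ trivIrr G) : irrKer χ ≠ ⊤ := by
  intro htop
  apply hχ
  have hall : ∀ g : G, (χ : G → ℂ) g = (χ : G → ℂ) 1 := by
    intro g
    rw [← mem_irrKer, htop]
    exact Subgroup.mem_top g
  obtain ⟨χf, n, ρ, hirr, rfl⟩ := χ
  have : ρ.IsIrreducible := hirr
  have h1 : ∀ g : G, ρ g = 1 := by
    intro g
    apply Cfsg.Agent.Lib.Helper24.rep_eq_one_of_char_eq_finrank ρ g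
    rw [show ρ.character g = ρ.character 1 from hall g, Representation.char_one]
  have h2 : finrank ℂ (Fin n → ℂ) = 1 := finrank_eq_one_of_forall_eq_one ρ h1
  apply Subtype.ext
  funext g
  show ρ.character g = (1 : G → ℂ) g
  rw [show ρ.character g = ρ.character 1 from hall g, Representation.char_one, h2]
  simp

/-- If `χ ≠ 1` is irreducible, `χ(t) = ±χ(1)` and `t` is a product of commutators, then `t` lies in
a proper normal subgroup. -/
theorem exists_proper_normal_of_irr [Finite G] (χ : IrrCharacter G) (hχ : χ ≠ trivIrr G) (t : G)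
    (ht : (χ : G → ℂ) t = (χ : G → ℂ) 1 ∨ (χ : G → ℂ) t = -(χ : G → ℂ) 1)
    (htc : t ∈ commutator G) : ∃ L : Subgroup G, L.Normal ∧ t ∈ L ∧ L ≠ ⊤ := by
  have hker := irrKer_ne_top χ hχ
  obtain ⟨χf, n, ρ, hirr, rfl⟩ := χ
  have : ρ.IsIrreducible := hirr
  -- `ρ t` is a scalar
  have hnorm : ‖ρ.character t‖ = (finrank ℂ (Fin n → ℂ) : ℝ) := by
    have h1 : ρ.character 1 = (finrank ℂ (Fin n → ℂ) : ℂ) := Representation.char_one ρ
    rcases ht with h | h
    · rw [show ρ.character t = ρ.character 1 from h, h1, Complex.norm_natCast]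
    · rw [show ρ.character t = -ρ.character 1 from h, norm_neg, h1, Complex.norm_natCast]
  obtain ⟨ω, hω⟩ := exists_scalar_of_norm_char_eq ρ t hnorm
  -- the subgroup of elements acting as scalars
  let L : Subgroup G :=
    { carrier := {g | ∃ c : ℂ, ρ g = c • (1 : Module.End ℂ (Fin n → ℂ))}
      one_mem' := ⟨1, by rw [map_one, one_smul]⟩
      mul_mem' := by
        rintro a b ⟨c, hc⟩ ⟨d, hd⟩
        refine ⟨c * d, ?_⟩
        rw [map_mul, hc, hd, smul_mul_smul_comm, mul_one]
      inv_mem' := by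
        rintro a ⟨c, hc⟩
        have h1 : ρ a⁻¹ * ρ a = 1 := by rw [← map_mul, inv_mul_cancel, map_one]
        rw [hc, mul_smul_comm, mul_one] at h1
        refine ⟨c * c * (c⁻¹ * c⁻¹ * c⁻¹), ?_⟩
        by_cases h0 : c = 0
        · rw [h0, zero_smul] at h1
          rw [h0, mul_zero, zero_mul, zero_smul]
          calc ρ a⁻¹ = ρ a⁻¹ * 1 := (mul_one _).symm
            _ = ρ a⁻¹ * 0 := by rw [h1]
            _ = 0 := mul_zero _
        · have h2 : ρ a⁻¹ = c⁻¹ • (1 : Module.End ℂ (Fin n → ℂ)) := by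
            rw [← h1, smul_smul, inv_mul_cancel₀ h0, one_smul]
          rw [h2]
          congr 1
          field_simp }
  have hLmem : ∀ g : G, g ∈ L ↔ ∃ c : ℂ, ρ g = c • (1 : Module.End ℂ (Fin n → ℂ)) :=
    fun g => Iff.rfl
  have hLn : L.Normal := by
    constructor
    intro a ha g
    rw [hLmem] at ha ⊢
    obtain ⟨c, hc⟩ := ha
    refine ⟨c, ?_⟩
    rw [map_mul, map_mul, hc, mul_smul_comm, mul_one, smul_mul_assoc, ← map_mul, mul_inv_cancel,
      map_one]
  by_cases hL : L = ⊤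
  · -- all elements act as scalars, so commutators act trivially
    refine ⟨irrKer ⟨ρ.character, n, ρ, hirr, rfl⟩, inferInstance, ?_, hker⟩
    have hcomm : commutator G ≤ MonoidHom.ker ρ := by
      rw [commutator_eq_closure, Subgroup.closure_le]
      rintro _ ⟨a, b, rfl⟩
      have ha : a ∈ L := by rw [hL]; exact Subgroup.mem_top a
      have hb : b ∈ L := by rw [hL]; exact Subgroup.mem_top b
      obtain ⟨c, hc⟩ := (hLmem a).mp ha
      obtain ⟨d, hd⟩ := (hLmem b).mp hb
      show ρ ⁅a, b⁆ = 1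
      have h1 : ρ a * ρ b = ρ b * ρ a := by
        rw [hc, hd, smul_mul_smul_comm, smul_mul_smul_comm, mul_comm c d]
      rw [commutatorElement_def, map_mul, map_mul, map_mul, h1, mul_assoc (ρ b), ← map_mul ρ a,
        mul_inv_cancel, map_one, mul_one, ← map_mul, mul_inv_cancel, map_one]
    have h2 := hcomm htc
    rw [MonoidHom.mem_ker] at h2
    rw [mem_irrKer]
    show ρ.character t = ρ.character 1
    simp only [Representation.character, h2, map_one]
  · exact ⟨L, hLn, (hLmem t).mpr ⟨ω, hω⟩, hL⟩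

section quat

variable {X : Type u} [Group X] [Finite X]

/-- The involution of a quaternion Sylow `2`-subgroup of order `8` is a commutator. -/
theorem invol_mem_commutator_of_q8 (S : Sylow 2 X) (e : ↥(S : Subgroup X) ≃* QuaternionGroup 2)
    (t : X) (ht : t ∈ (S : Subgroup X)) (hto : orderOf t = 2) : t ∈ commutator X := by
  obtain ⟨a, b, h⟩ := exists_quatData e
  have h4 : a ^ 4 = 1 := by
    have := pow_orderOf_eq_one a
    rwa [h.order_a] at this
  have h2 : a ^ 2 ≠ 1 := by
    intro h2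
    have := orderOf_dvd_of_pow_eq_one h2
    rw [h.order_a] at this
    omega
  have hc : ⁅b, a⁆ = a⁻¹ * a⁻¹ := by
    rw [commutatorElement_def, h.conj]
  have hmem : a⁻¹ * a⁻¹ ∈ (S : Subgroup X) :=
    Subgroup.mul_mem _ (Subgroup.inv_mem _ h.ha) (Subgroup.inv_mem _ h.ha)
  have hord : orderOf (a⁻¹ * a⁻¹) = 2 := by
    apply orderOf_eq_prime
    · calc (a⁻¹ * a⁻¹) ^ 2 = (a ^ 4)⁻¹ := by group
        _ = 1 := by rw [h4, inv_one]
    · intro h1
      apply h2
      calc a ^ 2 = (a⁻¹ * a⁻¹)⁻¹ := by group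
        _ = 1 := by rw [h1, inv_one]
  have heq := Cfsg.Agent.Lib.Helper29.Q8Wrap.invol_unique S e _ _ hmem hord ht hto
  rw [← heq, ← hc, commutator_def]
  exact Subgroup.commutator_mem_commutator (Subgroup.mem_top b) (Subgroup.mem_top a)

/-- The induction step of the Brauer–Suzuki theorem for `Q₈`, from the main character theorem
(given as a hypothesis `hmct` on `X`). -/
theorem exists_proper_normal_of_q8 (S : Sylow 2 X) (e : ↥(S : Subgroup X) ≃* QuaternionGroup 2)
    (hO : ∀ N : Subgroup X, N.Normal → Odd (Nat.card N) → N = ⊥) (hG : (S : Subgroup X) ≠ ⊤)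
    (hmct : ∀ t u : X, QuatFacts X t u →
      (∀ (C : Subgroup X), C = Subgroup.centralizer {t} → ∀ (tC uC : C), (tC : X) = t →
        (uC : X) = u → QuatFacts C tC uC) →
      ∃ χ : IrrCharacter X, χ ≠ trivIrr X ∧
        ((χ : X → ℂ) t = (χ : X → ℂ) 1 ∨ (χ : X → ℂ) t = -(χ : X → ℂ) 1))
    (t : X) (ht : t ∈ (S : Subgroup X)) (hto : orderOf t = 2) :
    ∃ L : Subgroup X, L.Normal ∧ t ∈ L ∧ L ≠ ⊤ := by
  obtain ⟨t', u, ht', -, hto', -, hQ, hQC⟩ :=
    Cfsg.Agent.Lib.Helper29.Q8Wrap.exists_quatFacts S e hO hG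
  have heq := Cfsg.Agent.Lib.Helper29.Q8Wrap.invol_unique S e _ _ ht' hto' ht hto
  subst heq
  obtain ⟨χ, hχ, hval⟩ := hmct t' u hQ hQC
  exact exists_proper_normal_of_irr χ hχ t' hval (invol_mem_commutator_of_q8 S e t' ht hto)

end quat

end Cfsg.Agent.Lib.Helper2
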