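import Mathlib
import Cfsg.Prelude.Def_Characters
import Cfsg.Agent.Lib.Lead.CharMain
import Cfsg.Agent.Lib.Lead.CharInd
import Cfsg.Agent.Lib.Helper6.LinChar
import Cfsg.Agent.Lib.Helper6.CharNorm
import Cfsg.Agent.Lib.Helper6.IndFun
import Cfsg.Agent.Lib.Helper10.GenChar
import Cfsg.Agent.Lib.Helper10.TIInd

/-!
Exceptional characters from a TI-set inside a subgroup `C` with a linear character `λ` inverted by
an element `b` normalizing `C` (the character-theoretic core of Isaacs (7.8), Brauer-Suzuki).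
-/

set_option autoImplicit false
open scoped ComplexConjugate
namespace Cfsg.Agent.Lib.Helper2
open Cfsg Cfsg.Agent.CharLib Cfsg.Agent.Lib.Helper6
universe u

section excpair
variable {G : Type u} [Group G] [Fintype G]

/-- sum of a nontrivial linear character is zero -/
theorem sum_units_hom_eq_zero {C : Type*} [Group C] [Fintype C] (lam : C →* ℂˣ) (h : lam ≠ 1) :
    ∑ c : C, ((lam c : ℂˣ) : ℂ) = 0 := by
  have h1 : (Units.coeHom ℂ).comp lam ≠ 1 := by
    intro hcon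
    apply h
    ext c
    have := DFunLike.congr_fun hcon c
    simpa using this
  exact sum_hom_units_eq_zero ((Units.coeHom ℂ).comp lam) h1

/-- conjugate of a value of a linear character of a finite group -/
theorem conj_units_hom {C : Type*} [Group C] [Finite C] (lam : C →* ℂˣ) (c : C) :
    conj ((lam c : ℂˣ) : ℂ) = (((lam c)⁻¹ : ℂˣ) : ℂ) := by
  have h1 := IsCharacter.mul_conj_eq_one_of_apply_one (isCharacter_of_hom lam)
    (by show ((lam 1 : ℂˣ) : ℂ) = 1; rw [map_one]; rfl) c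
  have h2 : ((lam c : ℂˣ) : ℂ) * (((lam c)⁻¹ : ℂˣ) : ℂ) = 1 := by
    rw [← Units.val_mul, mul_inv_cancel]; rfl
  have h3 : ((lam c : ℂˣ) : ℂ) ≠ 0 := Units.ne_zero _
  exact mul_left_cancel₀ h3 (h1.trans h2.symm)


theorem classInner_sub_right' (φ ψ₁ ψ₂ : G → ℂ) :
    classInner φ (ψ₁ - ψ₂) = classInner φ ψ₁ - classInner φ ψ₂ := by
  simp only [classInner, Pi.sub_apply, map_sub, mul_sub, Finset.sum_sub_distrib]

variable (C : Subgroup G) [Fintype C] (b : G) (lam : C →* ℂˣ)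

/-- the value of the induced function of `1 - λ` on the TI-set -/
theorem indFun_one_sub_apply (hbC : b ∉ C) (hbn : ∀ c ∈ C, b⁻¹ * c * b ∈ C)
    (hinv : ∀ c : C, lam ⟨b⁻¹ * c * b, hbn c c.2⟩ = (lam c)⁻¹)
    (hTI : ∀ (x : G) (c : C), lam c ≠ 1 → ∀ hx : x⁻¹ * c * x ∈ C,
      lam ⟨x⁻¹ * c * x, hx⟩ ≠ 1 → x ∈ C ∨ b⁻¹ * x ∈ C)
    (c : C) (hc : lam c ≠ 1) :
    indFun C (fun c : C => 1 - ((lam c : ℂˣ) : ℂ)) (c : G) =
      (1 - ((lam c : ℂˣ) : ℂ)) + conj (1 - ((lam c : ℂˣ) : ℂ)) := by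
  classical
  set φ : C → ℂ := fun c : C => 1 - ((lam c : ℂˣ) : ℂ) with hφ
  have hC0 : (Nat.card C : ℂ) ≠ 0 := Nat.cast_ne_zero.mpr Nat.card_pos.ne'
  have hconjinv : ∀ (y d : C), lam ⟨(y : G)⁻¹ * d * y, C.mul_mem (C.mul_mem (C.inv_mem y.2) d.2) y.2⟩
      = lam d := by
    intro y d
    have : (⟨(y : G)⁻¹ * d * y, C.mul_mem (C.mul_mem (C.inv_mem y.2) d.2) y.2⟩ : C) = y⁻¹ * d * y :=
      rfl
    rw [this, map_mul, map_mul, map_inv, mul_comm, mul_inv_cancel_left]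
  -- split the sum
  have hsplit : ∑ x : G, extendByZero C φ (x⁻¹ * (c : G) * x) =
      (∑ x : G, if x ∈ C then extendByZero C φ (x⁻¹ * (c : G) * x) else 0) +
      ∑ x : G, if x ∈ C then 0 else extendByZero C φ (x⁻¹ * (c : G) * x) := by
    rw [← Finset.sum_add_distrib]
    apply Finset.sum_congr rfl
    intro x _
    by_cases hx : x ∈ C
    · rw [if_pos hx, if_pos hx, add_zero]
    · rw [if_neg hx, if_neg hx, zero_add]
  have h1 : (∑ x : G, if x ∈ C then extendByZero C φ (x⁻¹ * (c : G) * x) else 0) =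
      (Nat.card C : ℂ) * φ c := by
    have : ∀ x : G, (if x ∈ C then extendByZero C φ (x⁻¹ * (c : G) * x) else 0) =
        if x ∈ C then φ c else 0 := by
      intro x
      by_cases hx : x ∈ C
      · rw [if_pos hx, if_pos hx]
        have hm : x⁻¹ * (c : G) * x ∈ C := C.mul_mem (C.mul_mem (C.inv_mem hx) c.2) hx
        rw [extendByZero_mem C φ hm]
        show 1 - ((lam ⟨x⁻¹ * (c : G) * x, hm⟩ : ℂˣ) : ℂ) = 1 - ((lam c : ℂˣ) : ℂ)
        rw [hconjinv ⟨x, hx⟩ c]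
      · rw [if_neg hx, if_neg hx]
    rw [Finset.sum_congr rfl (fun x _ => this x), ← Finset.sum_filter, Finset.sum_const,
      nsmul_eq_mul]
    congr 1
    rw [Nat.card_eq_fintype_card, ← Fintype.card_subtype]
  have h2 : (∑ x : G, if x ∈ C then 0 else extendByZero C φ (x⁻¹ * (c : G) * x)) =
      (Nat.card C : ℂ) * conj (φ c) := by
    rw [← Equiv.sum_comp (Equiv.mulLeft b)]
    have : ∀ y : G, (if (Equiv.mulLeft b y) ∈ C then 0 else
        extendByZero C φ ((Equiv.mulLeft b y)⁻¹ * (c : G) * (Equiv.mulLeft b y))) =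
        if y ∈ C then conj (φ c) else 0 := by
      intro y
      show (if b * y ∈ C then 0 else extendByZero C φ ((b * y)⁻¹ * (c : G) * (b * y))) = _
      by_cases hy : y ∈ C
      · have hby : b * y ∉ C := by
          intro hcon
          apply hbC
          have := C.mul_mem hcon (C.inv_mem hy)
          rwa [mul_inv_cancel_right] at this
        rw [if_neg hby, if_pos hy]
        have e1 : (b * y)⁻¹ * (c : G) * (b * y) = y⁻¹ * (b⁻¹ * c * b) * y := by group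
        have hm : y⁻¹ * (b⁻¹ * (c : G) * b) * y ∈ C :=
          C.mul_mem (C.mul_mem (C.inv_mem hy) (hbn c c.2)) hy
        rw [e1, extendByZero_mem C φ hm]
        show 1 - ((lam ⟨y⁻¹ * (b⁻¹ * (c : G) * b) * y, hm⟩ : ℂˣ) : ℂ) = conj (1 - ((lam c : ℂˣ) : ℂ))
        have := hconjinv ⟨y, hy⟩ ⟨b⁻¹ * (c : G) * b, hbn c c.2⟩
        rw [this, hinv c, map_sub, map_one, conj_units_hom]
      · rw [if_neg hy]
        by_cases hby : b * y ∈ C
        · rw [if_pos hby]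
        · rw [if_neg hby]
          by_cases hm : (b * y)⁻¹ * (c : G) * (b * y) ∈ C
          · rw [extendByZero_mem C φ hm]
            show 1 - ((lam ⟨(b * y)⁻¹ * (c : G) * (b * y), hm⟩ : ℂˣ) : ℂ) = 0
            by_cases hl : lam ⟨(b * y)⁻¹ * (c : G) * (b * y), hm⟩ = 1
            · rw [hl]; simp
            · exfalso
              rcases hTI (b * y) c hc hm hl with h3 | h3
              · exact hby h3
              · rw [inv_mul_cancel_left] at h3
                exact hy h3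
          · exact extendByZero_not_mem C φ hm
    rw [Finset.sum_congr rfl (fun y _ => this y), ← Finset.sum_filter, Finset.sum_const,
      nsmul_eq_mul]
    congr 1
    rw [Nat.card_eq_fintype_card, ← Fintype.card_subtype]
  rw [indFun_apply, hsplit, h1, h2, ← mul_add, ← mul_assoc, inv_mul_cancel₀ hC0, one_mul]

/-- the norm of the induced function of `1 - λ` -/
theorem classInner_indFun_one_sub (hbC : b ∉ C) (hbn : ∀ c ∈ C, b⁻¹ * c * b ∈ C)
    (hinv : ∀ c : C, lam ⟨b⁻¹ * c * b, hbn c c.2⟩ = (lam c)⁻¹)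
    (hTI : ∀ (x : G) (c : C), lam c ≠ 1 → ∀ hx : x⁻¹ * c * x ∈ C,
      lam ⟨x⁻¹ * c * x, hx⟩ ≠ 1 → x ∈ C ∨ b⁻¹ * x ∈ C)
    (hsq : ∃ c : C, (lam c) ^ 2 ≠ 1) :
    classInner (indFun C (fun c : C => 1 - ((lam c : ℂˣ) : ℂ)))
      (indFun C (fun c : C => 1 - ((lam c : ℂˣ) : ℂ))) = 3 := by
  classical
  set φ : C → ℂ := fun c : C => 1 - ((lam c : ℂˣ) : ℂ) with hφ
  have hC0 : (Nat.card C : ℂ) ≠ 0 := Nat.cast_ne_zero.mpr Nat.card_pos.ne'
  obtain ⟨c₀, hc₀⟩ := hsq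
  have hl1 : lam ≠ 1 := by
    rintro rfl
    exact hc₀ (by simp)
  have hl2 : lam ^ 2 ≠ 1 := by
    intro hcon
    apply hc₀
    have := DFunLike.congr_fun hcon c₀
    simpa using this
  have hl3 : lam⁻¹ ≠ 1 := by
    intro hcon
    apply hl1
    ext c
    have h1 := DFunLike.congr_fun hcon c
    have h2 : (lam c)⁻¹ = 1 := h1
    rw [inv_eq_one] at h2
    rw [h2]
    rfl
  have S1 := sum_units_hom_eq_zero lam hl1
  have S2 := sum_units_hom_eq_zero (lam ^ 2) hl2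
  have S3 := sum_units_hom_eq_zero lam⁻¹ hl3
  rw [frobenius_reciprocity C φ (indFun_isClassFunction C φ)]
  unfold classInner
  have hterm : ∀ c : C, φ c * conj (indFun C φ (c : G)) =
      3 - 3 * ((lam c : ℂˣ) : ℂ) + (((lam ^ 2) c : ℂˣ) : ℂ) - (((lam⁻¹) c : ℂˣ) : ℂ) := by
    intro c
    have hinvmul : ((lam c : ℂˣ) : ℂ) * (((lam c)⁻¹ : ℂˣ) : ℂ) = 1 := by
      rw [← Units.val_mul, mul_inv_cancel]; rfl
    by_cases hc : lam c = 1
    · have h0 : φ c = 0 := by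
        show 1 - ((lam c : ℂˣ) : ℂ) = 0
        rw [hc]; simp
      rw [h0, zero_mul]
      show (0 : ℂ) = 3 - 3 * ((lam c : ℂˣ) : ℂ) + (((lam c) ^ 2 : ℂˣ) : ℂ) - (((lam c)⁻¹ : ℂˣ) : ℂ)
      rw [hc]
      simp
    · rw [indFun_one_sub_apply C b lam hbC hbn hinv hTI c hc]
      show (1 - ((lam c : ℂˣ) : ℂ)) * conj ((1 - ((lam c : ℂˣ) : ℂ)) + conj (1 - ((lam c : ℂˣ) : ℂ)))
        = 3 - 3 * ((lam c : ℂˣ) : ℂ) + (((lam c) ^ 2 : ℂˣ) : ℂ) - (((lam c)⁻¹ : ℂˣ) : ℂ)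
      rw [map_add, Complex.conj_conj, map_sub, map_one, conj_units_hom, Units.val_pow_eq_pow_val]
      linear_combination hinvmul
  rw [Finset.sum_congr rfl (fun c _ => hterm c)]
  rw [Finset.sum_sub_distrib, Finset.sum_add_distrib, Finset.sum_sub_distrib, ← Finset.mul_sum, S1,
    S2, S3, Finset.sum_const, Finset.card_univ, nsmul_eq_mul, ← Nat.card_eq_fintype_card]
  field_simp
  ring

/-- Exceptional characters à la Brauer–Suzuki: `χ₁ - χ₂ = 1` off the conjugates of the TI-set -/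
theorem exists_exceptional_pair (hbC : b ∉ C) (hbn : ∀ c ∈ C, b⁻¹ * c * b ∈ C)
    (hinv : ∀ c : C, lam ⟨b⁻¹ * c * b, hbn c c.2⟩ = (lam c)⁻¹)
    (hTI : ∀ (x : G) (c : C), lam c ≠ 1 → ∀ hx : x⁻¹ * c * x ∈ C,
      lam ⟨x⁻¹ * c * x, hx⟩ ≠ 1 → x ∈ C ∨ b⁻¹ * x ∈ C)
    (hsq : ∃ c : C, (lam c) ^ 2 ≠ 1) :
    ∃ χ₁ χ₂ : G → ℂ, IsIrrCharacter G χ₁ ∧ IsIrrCharacter G χ₂ ∧ χ₁ ≠ (fun _ => 1) ∧
      χ₂ ≠ (fun _ => 1) ∧ χ₁ 1 = χ₂ 1 + 1 ∧
      ∀ g : G, (∀ x : G, ∀ hx : x⁻¹ * g * x ∈ C, lam ⟨x⁻¹ * g * x, hx⟩ = 1) →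
        χ₁ g - χ₂ g = 1 := by
  classical
  set φ : C → ℂ := fun c : C => 1 - ((lam c : ℂˣ) : ℂ) with hφ
  set Θ : G → ℂ := indFun C φ with hΘ
  have hC0 : (Nat.card C : ℂ) ≠ 0 := Nat.cast_ne_zero.mpr Nat.card_pos.ne'
  have hG0 : (Nat.card G : ℂ) ≠ 0 := Nat.cast_ne_zero.mpr Nat.card_pos.ne'
  have hl1 : lam ≠ 1 := by
    obtain ⟨c₀, hc₀⟩ := hsq
    rintro rfl
    exact hc₀ (by simp)
  have S1 := sum_units_hom_eq_zero lam hl1
  have hnorm : classInner Θ Θ = 3 := classInner_indFun_one_sub C b lam hbC hbn hinv hTI hsq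
  have hΘcls : IsClassFunction G Θ := indFun_isClassFunction C φ
  have h1cls : IsClassFunction G (fun _ : G => (1 : ℂ)) := fun _ _ => rfl
  have h1irr : IsIrrCharacter G (fun _ : G => (1 : ℂ)) := isIrrCharacter_of_hom (1 : G →* ℂˣ)
  -- inner product with the principal character
  have hΘ1 : classInner Θ (fun _ : G => (1 : ℂ)) = 1 := by
    rw [hΘ, frobenius_reciprocity C φ h1cls]
    unfold classInner
    have : ∀ c : C, φ c * conj ((fun _ : G => (1 : ℂ)) (c : G)) = 1 - ((lam c : ℂˣ) : ℂ) := by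
      intro c
      show (1 - ((lam c : ℂˣ) : ℂ)) * conj (1 : ℂ) = _
      rw [map_one, mul_one]
    rw [Finset.sum_congr rfl (fun c _ => this c), Finset.sum_sub_distrib, S1, sub_zero,
      Finset.sum_const, Finset.card_univ, nsmul_eq_mul, mul_one, ← Nat.card_eq_fintype_card,
      inv_mul_cancel₀ hC0]
  have h1Θ : classInner (fun _ : G => (1 : ℂ)) Θ = 1 := by
    rw [← classInner_conj_symm, hΘ1, map_one]
  have h11 : classInner (fun _ : G => (1 : ℂ)) (fun _ : G => (1 : ℂ)) = 1 := by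
    rw [classInner_irr h1irr h1irr, if_pos rfl]
  -- value at one
  have hΘone : Θ 1 = 0 := by
    rw [hΘ, Cfsg.Agent.Lib.Helper10.indFun_apply_one]
    have : φ 1 = 0 := by
      show 1 - ((lam 1 : ℂˣ) : ℂ) = 0
      rw [map_one]; simp
    rw [this, mul_zero, mul_zero]
  -- vanishing
  have hvan : ∀ g : G, (∀ x : G, ∀ hx : x⁻¹ * g * x ∈ C, lam ⟨x⁻¹ * g * x, hx⟩ = 1) → Θ g = 0 := by
    intro g hg
    rw [hΘ, indFun_apply]
    have : ∀ x : G, extendByZero C φ (x⁻¹ * g * x) = 0 := by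
      intro x
      by_cases hx : x⁻¹ * g * x ∈ C
      · rw [extendByZero_mem C φ hx]
        show 1 - ((lam ⟨x⁻¹ * g * x, hx⟩ : ℂˣ) : ℂ) = 0
        rw [hg x hx]; simp
      · exact extendByZero_not_mem C φ hx
    rw [Finset.sum_congr rfl (fun x _ => this x), Finset.sum_const_zero, mul_zero]
  -- Θ - 1 is a generalized character of norm 2
  set lamC : C → ℂ := fun c : C => ((lam c : ℂˣ) : ℂ) with hlamC
  have hφeq : φ = (1 : C → ℂ) - lamC := by
    funext c; rfl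
  have hΘsplit : Θ = indFun C (1 : C → ℂ) - indFun C lamC := by
    rw [hΘ, hφeq, Cfsg.Agent.Lib.Helper10.indFun_sub]
  have hgen : IsGeneralizedCharacter G (Θ - (fun _ : G => (1 : ℂ))) := by
    refine ⟨indFun C (1 : C → ℂ), indFun C lamC + (fun _ : G => (1 : ℂ)),
      IsCharacter.indFun C isCharacter_one,
      IsCharacter.add (IsCharacter.indFun C (isCharacter_of_hom lam))
        (IsIrrCharacter.isCharacter h1irr), ?_⟩
    rw [hΘsplit]
    funext g
    simp only [Pi.sub_apply, Pi.add_apply]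
    ring
  have hnorm2 : classInner (Θ - (fun _ : G => (1 : ℂ))) (Θ - (fun _ : G => (1 : ℂ))) = 2 := by
    rw [classInner_sub_left, classInner_sub_right', classInner_sub_right', hnorm, hΘ1, h1Θ, h11]
    norm_num
  obtain ⟨ξ₁, ξ₂, hξ₁, hξ₂, hne, ε₁, ε₂, hε₁, hε₂, heq⟩ :=
    Cfsg.Agent.Lib.Helper10.genChar_norm_two hgen hnorm2
  -- inner product of Θ - 1 with 1 vanishes
  have hzero : classInner (Θ - (fun _ : G => (1 : ℂ))) (fun _ : G => (1 : ℂ)) = 0 := by
    rw [classInner_sub_left, hΘ1, h11, sub_self]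
  rw [heq, classInner_add_left, classInner_smul_left, classInner_smul_left,
    classInner_irr hξ₁ h1irr, classInner_irr hξ₂ h1irr] at hzero
  have hε₁0 : ε₁ ≠ 0 := by rcases hε₁ with rfl | rfl <;> norm_num
  have hε₂0 : ε₂ ≠ 0 := by rcases hε₂ with rfl | rfl <;> norm_num
  have hξ₁ne : ξ₁ ≠ (fun _ : G => (1 : ℂ)) := by
    intro h
    have h2 : ξ₂ ≠ (fun _ : G => (1 : ℂ)) := fun h' => hne (h.trans h'.symm)
    rw [if_pos h, if_neg h2, mul_one, mul_zero, add_zero] at hzero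
    exact hε₁0 hzero
  have hξ₂ne : ξ₂ ≠ (fun _ : G => (1 : ℂ)) := by
    intro h
    rw [if_neg hξ₁ne, if_pos h, mul_one, mul_zero, zero_add] at hzero
    exact hε₂0 hzero
  obtain ⟨d₁, hd₁pos, hd₁⟩ := IsIrrCharacter.apply_one_pos hξ₁
  obtain ⟨d₂, hd₂pos, hd₂⟩ := IsIrrCharacter.apply_one_pos hξ₂
  have hval : ε₁ * (d₁ : ℂ) + ε₂ * (d₂ : ℂ) = -1 := by
    have := congrFun heq 1
    simp only [Pi.add_apply, Pi.sub_apply, Pi.smul_apply, smul_eq_mul, hd₁, hd₂, hΘone] at this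
    rw [← this]; ring
  have hΘeq : ∀ g, Θ g = 1 + ε₁ * ξ₁ g + ε₂ * ξ₂ g := by
    intro g
    have := congrFun heq g
    simp only [Pi.add_apply, Pi.sub_apply, Pi.smul_apply, smul_eq_mul] at this
    linear_combination this
  rcases hε₁ with rfl | rfl <;> rcases hε₂ with rfl | rfl
  · exfalso
    have hc : ((d₁ + d₂ + 1 : ℕ) : ℂ) = 0 := by push_cast; linear_combination hval
    have := Nat.cast_eq_zero.mp hc
    omega
  · -- ξ₁ - ξ₂ = -1 at one: ξ₂ is the larger one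
    refine ⟨ξ₂, ξ₁, hξ₂, hξ₁, hξ₂ne, hξ₁ne, ?_, ?_⟩
    · rw [hd₁, hd₂]; linear_combination (-1 : ℂ) * hval
    · intro g hg
      have := hΘeq g
      rw [hvan g hg] at this
      linear_combination this
  · refine ⟨ξ₁, ξ₂, hξ₁, hξ₂, hξ₁ne, hξ₂ne, ?_, ?_⟩
    · rw [hd₁, hd₂]; linear_combination (-1 : ℂ) * hval
    · intro g hg
      have := hΘeq g
      rw [hvan g hg] at this
      linear_combination this
  · exfalso
    have hc : ((d₁ + d₂ : ℕ) : ℂ) = 1 := by push_cast; linear_combination (-1 : ℂ) * hval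
    have : d₁ + d₂ = 1 := by exact_mod_cast hc
    omega

end excpair
end Cfsg.Agent.Lib.Helper2
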