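import Mathlib
import Cfsg.Agent.Lib.Helper2.QuatSylow

/-!
Generalized quaternion Sylow `2`-subgroup `S` of order at least 16, `D = S'`: the structure of
`C(D)` and `N(D)` (Isaacs (7.8), first step).
-/

set_option autoImplicit false
open scoped commutatorElement
namespace Cfsg.Agent.Lib.Helper2
universe u

section quat2
variable {G : Type u} [Group G] [Finite G] {S : Sylow 2 G} {m : ℕ} {a b : G}


theorem QuatData.le_normalizer_sq (h : QuatData (S : Subgroup G) m a b) :
    (S : Subgroup G) ≤ Subgroup.normalizer ((Subgroup.zpowers (a ^ 2) : Subgroup G) : Set G) := by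
  intro s hs
  apply mem_normalizer_of_forall_conj_mem_fin
  intro x hx
  obtain ⟨k, rfl⟩ := hx
  have e1 : s * (a ^ 2) ^ k * s⁻¹ = (s * a ^ 2 * s⁻¹) ^ k := by
    have := map_zpow (MulAut.conj s) (a ^ 2) k
    simpa using this
  rw [e1]
  apply Subgroup.zpow_mem
  rcases h.cover s hs with ⟨i, rfl⟩ | ⟨i, rfl⟩
  · have : a ^ i * a ^ 2 * (a ^ i)⁻¹ = a ^ 2 := by
      rw [← pow_add, add_comm, pow_add, mul_inv_cancel_right]
    rw [this]
    exact Subgroup.mem_zpowers _
  · rw [h.conj_mul_pow]
    exact inv_mem (Subgroup.mem_zpowers _)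

omit [Finite G] in

theorem QuatData.inf_centralizer_sq (h : QuatData (S : Subgroup G) m a b) (hm : 2 < m) :
    (S : Subgroup G) ⊓ Subgroup.centralizer ((Subgroup.zpowers (a ^ 2) : Subgroup G) : Set G) =
      Subgroup.zpowers a := by
  apply le_antisymm
  · intro s hs
    obtain ⟨hsS, hsC⟩ := Subgroup.mem_inf.mp hs
    exact h.mem_zpowers_of_commute_sq hm s hsS ((mem_centralizer_zpowers_iff _ _).mp hsC)
  · rw [Subgroup.zpowers_le]
    refine Subgroup.mem_inf.mpr ⟨h.ha, (mem_centralizer_zpowers_iff _ _).mpr ?_⟩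
    rw [← pow_succ, ← pow_succ']


theorem QuatData.b_not_mem_centralizer (h : QuatData (S : Subgroup G) m a b) (hm : 2 < m) :
    b ∉ Subgroup.centralizer ((Subgroup.zpowers (a ^ 2) : Subgroup G) : Set G) := by
  intro hb
  have : b ∈ (S : Subgroup G) ⊓
      Subgroup.centralizer ((Subgroup.zpowers (a ^ 2) : Subgroup G) : Set G) :=
    Subgroup.mem_inf.mpr ⟨h.hb, hb⟩
  rw [h.inf_centralizer_sq hm] at this
  exact h.not_mem this


theorem QuatData.relIndex_centralizer_dvd (h : QuatData (S : Subgroup G) m a b) {n : ℕ}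
    (hmn : m = 2 ^ (n + 2)) :
    (Subgroup.centralizer ((Subgroup.zpowers (a ^ 2) : Subgroup G) : Set G)).relIndex
      (Subgroup.normalizer ((Subgroup.zpowers (a ^ 2) : Subgroup G) : Set G)) ∣ 2 ^ (n + 1) := by
  have key := Subgroup.card_dvd_of_injective _
    (QuotientGroup.kerLift_injective (Subgroup.zpowers (a ^ 2)).normalizerMonoidHom)
  rw [Subgroup.normalizerMonoidHom_ker, ← Subgroup.index, ← Subgroup.relIndex] at key
  rw [IsCyclic.card_mulAut, Nat.card_zpowers, h.orderOf_sq, hmn,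
    Nat.totient_prime_pow Nat.prime_two (by omega)] at key
  simpa using key


theorem QuatData.normalizer_le_sup (h : QuatData (S : Subgroup G) m a b) {n : ℕ}
    (hmn : m = 2 ^ (n + 2)) :
    Subgroup.normalizer ((Subgroup.zpowers (a ^ 2) : Subgroup G) : Set G) ≤
      Subgroup.centralizer ((Subgroup.zpowers (a ^ 2) : Subgroup G) : Set G) ⊔ (S : Subgroup G) := by
  rw [← Subgroup.relIndex_eq_one]
  have h1 : (Subgroup.centralizer ((Subgroup.zpowers (a ^ 2) : Subgroup G) : Set G) ⊔
      (S : Subgroup G)).relIndex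
        (Subgroup.normalizer ((Subgroup.zpowers (a ^ 2) : Subgroup G) : Set G)) ∣ 2 ^ (n + 1) :=
    (Subgroup.relIndex_dvd_of_le_left _ le_sup_left).trans (h.relIndex_centralizer_dvd hmn)
  have h2 : (Subgroup.centralizer ((Subgroup.zpowers (a ^ 2) : Subgroup G) : Set G) ⊔
      (S : Subgroup G)).relIndex
        (Subgroup.normalizer ((Subgroup.zpowers (a ^ 2) : Subgroup G) : Set G)) ∣
          (S : Subgroup G).index :=
    (Subgroup.relIndex_dvd_of_le_left _ le_sup_right).trans
      (Subgroup.relIndex_dvd_index_of_le h.le_normalizer_sq)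
  have h3 : Nat.Coprime (2 ^ (n + 1)) (S : Subgroup G).index := by
    apply Nat.Coprime.pow_left
    exact (Nat.Prime.coprime_iff_not_dvd Nat.prime_two).mpr S.not_dvd_index
  exact Nat.eq_one_of_dvd_coprimes h3 h1 h2


theorem QuatData.index_centralizer (h : QuatData (S : Subgroup G) m a b) {n : ℕ}
    (hmn : m = 2 ^ (n + 2)) :
    ((Subgroup.centralizer ((Subgroup.zpowers (a ^ 2) : Subgroup G) : Set G)).subgroupOf
      (Subgroup.normalizer ((Subgroup.zpowers (a ^ 2) : Subgroup G) : Set G))).index = 2 := by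
  have hm : 2 < m := by
    rw [hmn]
    calc 2 < 2 ^ 2 := by norm_num
      _ ≤ 2 ^ (n + 2) := Nat.pow_le_pow_right (by norm_num) (by omega)
  set C := Subgroup.centralizer ((Subgroup.zpowers (a ^ 2) : Subgroup G) : Set G) with hC
  set N := Subgroup.normalizer ((Subgroup.zpowers (a ^ 2) : Subgroup G) : Set G) with hN
  have hCN : C ≤ N := Subgroup.centralizer_le_normalizer _
  have hSN : (S : Subgroup G) ≤ N := h.le_normalizer_sq
  have hnorm : (C.subgroupOf N).Normal := by
    rw [← Subgroup.normalizerMonoidHom_ker]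
    infer_instance
  have htop : (S : Subgroup G).subgroupOf N ⊔ C.subgroupOf N = ⊤ := by
    rw [← Subgroup.subgroupOf_sup hSN hCN, Subgroup.subgroupOf_eq_top, sup_comm]
    exact h.normalizer_le_sup hmn
  rw [← Subgroup.relIndex_top_right, ← htop, Subgroup.relIndex_sup_right,
    Subgroup.relIndex_eq_two_iff]
  refine ⟨⟨b, hSN h.hb⟩, Subgroup.mem_subgroupOf.mpr h.hb, ?_⟩
  rintro ⟨s, hsN⟩ hs
  have hsS : s ∈ (S : Subgroup G) := Subgroup.mem_subgroupOf.mp hs
  have hza : Subgroup.zpowers a ≤ C := by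
    rw [← h.inf_centralizer_sq hm]
    exact inf_le_right
  have hbC : b ∉ C := h.b_not_mem_centralizer hm
  show Xor ((⟨s, hsN⟩ * ⟨b, hSN h.hb⟩ : N) ∈ C.subgroupOf N) ((⟨s, hsN⟩ : N) ∈ C.subgroupOf N)
  rw [Subgroup.mem_subgroupOf, Subgroup.mem_subgroupOf]
  show Xor (s * b ∈ C) (s ∈ C)
  rcases h.cover s hsS with ⟨i, rfl⟩ | ⟨i, rfl⟩
  · have hai : a ^ i ∈ C := hza (Subgroup.npow_mem_zpowers a i)
    right
    refine ⟨hai, fun hcon => hbC ?_⟩
    have := C.mul_mem (C.inv_mem hai) hcon
    rwa [inv_mul_cancel_left] at this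
  · left
    constructor
    · have e1 : b * a ^ i * b = (b * a ^ i * b⁻¹) * (b * b) := by group
      rw [e1, h.conj_pow, h.sq]
      exact hza (mul_mem (inv_mem (Subgroup.npow_mem_zpowers a i)) (Subgroup.npow_mem_zpowers a m))
    · intro hcon
      apply hbC
      have hai : a ^ i ∈ C := hza (Subgroup.npow_mem_zpowers a i)
      have := C.mul_mem hcon (C.inv_mem hai)
      rwa [mul_inv_cancel_right] at this

omit [Finite G] in
/-- elements of order prime to `p` lie in every normal subgroup of `p`-power index -/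
theorem mem_of_coprime_orderOf_of_index_pow {H : Type*} [Group H] [Finite H] {p : ℕ}
    (N : Subgroup H) [hN : N.Normal] {k : ℕ}
    (hk : N.index = p ^ k) {x : H} (hx : Nat.Coprime (orderOf x) p) : x ∈ N := by
  rw [← QuotientGroup.eq_one_iff, ← orderOf_eq_one_iff]
  have h1 : orderOf (x : H ⧸ N) ∣ orderOf x := orderOf_map_dvd (QuotientGroup.mk' N) x
  have h2 : orderOf (x : H ⧸ N) ∣ p ^ k := by
    rw [← hk, Subgroup.index_eq_card]
    exact orderOf_dvd_natCard _
  exact Nat.eq_one_of_dvd_coprimes (Nat.Coprime.pow_right k hx) h1 h2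

/-- the 2-part of the order of `C(D)` -/
theorem QuatData.factorization_card_centralizer (h : QuatData (S : Subgroup G) m a b) {n : ℕ}
    (hmn : m = 2 ^ (n + 2)) :
    (Nat.card (Subgroup.centralizer ((Subgroup.zpowers (a ^ 2) : Subgroup G) : Set G))).factorization
      2 = n + 3 := by
  set C := Subgroup.centralizer ((Subgroup.zpowers (a ^ 2) : Subgroup G) : Set G) with hC
  set N := Subgroup.normalizer ((Subgroup.zpowers (a ^ 2) : Subgroup G) : Set G) with hN
  have hCN : C ≤ N := Subgroup.centralizer_le_normalizer _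
  have hSN : (S : Subgroup G) ≤ N := h.le_normalizer_sq
  have hcardS : Nat.card (S : Subgroup G) = 2 ^ (n + 4) := by
    rw [h.card, hmn]; ring
  have hfG : (Nat.card G).factorization 2 = n + 4 := by
    have := S.card_eq_multiplicity
    rw [hcardS] at this
    exact (Nat.pow_right_injective (le_refl 2) this).symm
  have hN0 : Nat.card N ≠ 0 := Nat.card_pos.ne'
  have hC0 : Nat.card C ≠ 0 := Nat.card_pos.ne'
  have hfN : (Nat.card N).factorization 2 = n + 4 := by
    apply le_antisymm
    · rw [← hfG]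
      exact (Nat.factorization_le_iff_dvd hN0 Nat.card_pos.ne').mpr (Subgroup.card_subgroup_dvd_card N) 2
    · apply (Nat.Prime.pow_dvd_iff_le_factorization Nat.prime_two hN0).mp
      rw [← hcardS]
      exact Subgroup.card_dvd_of_le hSN
  have hNC : Nat.card N = Nat.card C * 2 := by
    rw [← Subgroup.card_mul_index (C.subgroupOf N), h.index_centralizer hmn,
      Nat.card_congr (Subgroup.subgroupOfEquivOfLe hCN).toEquiv]
  rw [hNC, Nat.factorization_mul hC0 (by norm_num)] at hfN
  have h2 : (Nat.factorization 2) 2 = 1 := Nat.Prime.factorization_self Nat.prime_two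
  rw [Finsupp.add_apply, h2] at hfN
  omega

/-- `C(D)` has a normal `2`-complement -/
theorem QuatData.exists_normal_complement (h : QuatData (S : Subgroup G) m a b) {n : ℕ}
    (hmn : m = 2 ^ (n + 2)) :
    ∃ K₀ : Subgroup ↥(Subgroup.centralizer ((Subgroup.zpowers (a ^ 2) : Subgroup G) : Set G)),
      K₀.Normal ∧ ¬ 2 ∣ Nat.card K₀ ∧
      K₀.IsComplement' ((Subgroup.zpowers a).subgroupOf
        (Subgroup.centralizer ((Subgroup.zpowers (a ^ 2) : Subgroup G) : Set G))) ∧
      ∀ x : ↥(Subgroup.centralizer ((Subgroup.zpowers (a ^ 2) : Subgroup G) : Set G)),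
        Odd (orderOf x) → x ∈ K₀ := by
  have hm : 2 < m := by
    rw [hmn]
    calc 2 < 2 ^ 2 := by norm_num
      _ ≤ 2 ^ (n + 2) := Nat.pow_le_pow_right (by norm_num) (by omega)
  set C := Subgroup.centralizer ((Subgroup.zpowers (a ^ 2) : Subgroup G) : Set G) with hC
  have hza : Subgroup.zpowers a ≤ C := by
    rw [← h.inf_centralizer_sq hm]
    exact inf_le_right
  have hcardP : Nat.card ((Subgroup.zpowers a).subgroupOf C) = 2 ^ (n + 3) := by
    rw [Nat.card_congr (Subgroup.subgroupOfEquivOfLe hza).toEquiv, Nat.card_zpowers, h.order_a, hmn]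
    ring
  have hfC := h.factorization_card_centralizer hmn
  have : Fact (Nat.Prime 2) := ⟨Nat.prime_two⟩
  let P : Sylow 2 ↥C := Sylow.ofCard ((Subgroup.zpowers a).subgroupOf C) (by rw [hcardP, hfC])
  have hPcoe : (P : Subgroup ↥C) = (Subgroup.zpowers a).subgroupOf C := Sylow.coe_ofCard _ _
  have hcyc : IsCyclic (P : Subgroup ↥C) := by
    rw [hPcoe]
    exact isCyclic_of_surjective (Subgroup.subgroupOfEquivOfLe hza).symm
      (Subgroup.subgroupOfEquivOfLe hza).symm.surjective
  have hmin : (Nat.card ↥C).minFac = 2 := by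
    rw [Nat.minFac_eq_two_iff]
    have h1 : 2 ^ (n + 3) ∣ Nat.card ↥C := by
      rw [← hfC]
      exact Nat.ordProj_dvd _ _
    exact (dvd_pow_self 2 (by omega)).trans h1
  have hcomp := IsCyclic.isComplement' hmin hcyc
  have hker_normal : (MonoidHom.transferSylow P (hcyc.normalizer_le_centralizer hmin)).ker.Normal :=
    inferInstance
  refine ⟨(MonoidHom.transferSylow P (hcyc.normalizer_le_centralizer hmin)).ker, hker_normal,
    MonoidHom.not_dvd_card_ker_transferSylow P _, ?_, ?_⟩
  · rw [← hPcoe]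
    exact hcomp
  · intro x hx
    have hidx : (MonoidHom.transferSylow P (hcyc.normalizer_le_centralizer hmin)).ker.index =
        2 ^ (n + 3) := by
      rw [hcomp.symm.index_eq_card, hPcoe, hcardP]
    exact mem_of_coprime_orderOf_of_index_pow _ hidx (Nat.Coprime.symm
      ((Nat.Prime.coprime_iff_not_dvd Nat.prime_two).mpr (fun h2 => by
        rcases hx with ⟨k, hk⟩
        omega)))

omit [Finite G] in
/-- the normalizer of a subgroup normalizes its centralizer -/
theorem conj_mem_centralizer_of_mem_normalizer (H : Subgroup G) {g c : G}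
    (hg : g ∈ Subgroup.normalizer (H : Set G)) (hc : c ∈ Subgroup.centralizer (H : Set G)) :
    g * c * g⁻¹ ∈ Subgroup.centralizer (H : Set G) := by
  rw [Subgroup.mem_centralizer_iff]
  intro x hx
  have hx' : g⁻¹ * x * g ∈ H := (Subgroup.mem_normalizer_iff''.mp hg x).mp hx
  have := (Subgroup.mem_centralizer_iff.mp hc) _ hx'
  calc x * (g * c * g⁻¹) = g * ((g⁻¹ * x * g) * c) * g⁻¹ := by group
    _ = g * (c * (g⁻¹ * x * g)) * g⁻¹ := by rw [this]
    _ = g * c * g⁻¹ * x := by group

/-- the statement S0842 -/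
theorem brauer_suzuki_local (S : Sylow 2 G) (n : ℕ)
    (e : (S : Subgroup G) ≃* QuaternionGroup (2 ^ (n + 2))) (D : Subgroup G)
    (hD : D = ⁅(S : Subgroup G), (S : Subgroup G)⁆) :
    ∃ K : Subgroup G, Odd (Nat.card K) ∧ K ≤ Subgroup.centralizer (D : Set G) ∧
      Subgroup.normalizer (D : Set G) ≤ Subgroup.normalizer (K : Set G) ∧
      K ⊔ (S : Subgroup G) = Subgroup.normalizer (D : Set G) ∧
      K ⊔ ((S : Subgroup G) ⊓ Subgroup.centralizer (D : Set G)) = Subgroup.centralizer (D : Set G) ∧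
      ((Subgroup.centralizer (D : Set G)).subgroupOf (Subgroup.normalizer (D : Set G))).index = 2 := by
  have : NeZero (2 ^ (n + 2)) := ⟨by positivity⟩
  obtain ⟨a, b, h⟩ := exists_quatData e
  rw [h.commutator_eq] at hD
  subst hD
  have hm : 2 < 2 ^ (n + 2) := by
    calc 2 < 2 ^ 2 := by norm_num
      _ ≤ 2 ^ (n + 2) := Nat.pow_le_pow_right (by norm_num) (by omega)
  set C := Subgroup.centralizer ((Subgroup.zpowers (a ^ 2) : Subgroup G) : Set G) with hC
  set N := Subgroup.normalizer ((Subgroup.zpowers (a ^ 2) : Subgroup G) : Set G) with hN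
  have hCN : C ≤ N := Subgroup.centralizer_le_normalizer _
  have hSN : (S : Subgroup G) ≤ N := h.le_normalizer_sq
  have hinf := h.inf_centralizer_sq hm
  have hza : Subgroup.zpowers a ≤ C := by
    rw [← hinf]
    exact inf_le_right
  obtain ⟨K₀, hK₀n, hK₀odd, hcomp, hK₀mem⟩ := h.exists_normal_complement rfl
  have hKC : K₀.map C.subtype ⊔ ((S : Subgroup G) ⊓ C) = C := by
    have h1 := hcomp.sup_eq_top
    have h2 := congrArg (Subgroup.map C.subtype) h1
    rw [Subgroup.map_sup, Subgroup.subgroupOf_map_subtype, inf_of_le_left hza,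
      ← MonoidHom.range_eq_map, Subgroup.range_subtype] at h2
    rw [hinf]
    exact h2
  refine ⟨K₀.map C.subtype, ?_, Subgroup.map_subtype_le _, ?_, ?_, hKC, h.index_centralizer rfl⟩
  · rw [Subgroup.card_map_of_injective C.subtype_injective]
    exact Nat.odd_iff.mpr (Nat.two_dvd_ne_zero.mp hK₀odd)
  · rw [Subgroup.le_normalizer_iff]
    intro g hg k hk
    obtain ⟨k₀, hk₀, rfl⟩ := Subgroup.mem_map.mp hk
    have hgC : g * (k₀ : G) * g⁻¹ ∈ C := conj_mem_centralizer_of_mem_normalizer _ hg k₀.2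
    refine Subgroup.mem_map.mpr ⟨⟨g * (k₀ : G) * g⁻¹, hgC⟩, ?_, rfl⟩
    apply hK₀mem
    have h1 : orderOf (⟨g * (k₀ : G) * g⁻¹, hgC⟩ : C) = orderOf k₀ := by
      rw [← Subgroup.orderOf_coe, ← Subgroup.orderOf_coe k₀]
      have := orderOf_injective (MulAut.conj g).toMonoidHom (MulAut.conj g).injective (k₀ : G)
      simpa using this
    rw [h1]
    have h2 : orderOf k₀ ∣ Nat.card K₀ := by
      have := orderOf_dvd_natCard (⟨k₀, hk₀⟩ : K₀)
      rwa [Subgroup.orderOf_mk] at this
    rw [← Nat.not_even_iff_odd, even_iff_two_dvd]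
    exact fun h3 => hK₀odd (h3.trans h2)
  · have hNeq : N = C ⊔ (S : Subgroup G) :=
      le_antisymm (h.normalizer_le_sup rfl) (sup_le hCN hSN)
    calc K₀.map C.subtype ⊔ (S : Subgroup G)
        = K₀.map C.subtype ⊔ (((S : Subgroup G) ⊓ C) ⊔ (S : Subgroup G)) := by
          rw [sup_of_le_right (inf_le_left : (S : Subgroup G) ⊓ C ≤ S)]
      _ = (K₀.map C.subtype ⊔ ((S : Subgroup G) ⊓ C)) ⊔ (S : Subgroup G) := (sup_assoc _ _ _).symm
      _ = C ⊔ (S : Subgroup G) := by rw [hKC]
      _ = N := hNeq.symm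

end quat2
end Cfsg.Agent.Lib.Helper2
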