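import Mathlib
import Cfsg.Agent.Lib.Helper2.QuatLocal
import Cfsg.Agent.Lib.Helper2.ExcPair
import Cfsg.Agent.Lib.Helper1.ComplProj

/-!
Generalized quaternion Sylow `2`-subgroup of order at least 16: the exceptional characters
`χ₁, χ₂` with `χ₁ - χ₂ = 1` on elements of order not divisible by 4 (Brauer–Suzuki, Isaacs (7.8)).
-/

set_option autoImplicit false
namespace Cfsg.Agent.Lib.Helper2
universe u
open Cfsg

section quat3

/-- a subgroup of odd order containing all elements of odd order is stable under conjugation -/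
theorem mem_of_conj_of_odd {G : Type u} [Group G] [Finite G] {C : Subgroup G} (K₀ : Subgroup ↥C)
    (hodd : ¬ 2 ∣ Nat.card K₀) (hmem : ∀ x : ↥C, Odd (orderOf x) → x ∈ K₀) (g : G) (k : ↥C)
    (hk : k ∈ K₀) (y : ↥C) (hy : (y : G) = g * k * g⁻¹) : y ∈ K₀ := by
  apply hmem
  have h1 : orderOf y = orderOf k := by
    rw [← Subgroup.orderOf_coe, ← Subgroup.orderOf_coe k, hy]
    have := orderOf_injective (MulAut.conj g).toMonoidHom (MulAut.conj g).injective (k : G)
    simpa using this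
  rw [h1]
  have h2 : orderOf k ∣ Nat.card K₀ := by
    have := orderOf_dvd_natCard (⟨k, hk⟩ : K₀)
    rwa [Subgroup.orderOf_mk] at this
  rw [← Nat.not_even_iff_odd, even_iff_two_dvd]
  exact fun h3 => hodd (h3.trans h2)

variable {G : Type u} [Group G] [Finite G] {S : Sylow 2 G} {m : ℕ} {a b : G}

/-- the linear character of `C(a²)` of order 4, inverted by `b`, nontrivial only on elements
of order divisible by `m` -/
theorem QuatData.exists_lam (h : QuatData (S : Subgroup G) m a b) {n : ℕ}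
    (hmn : m = 2 ^ (n + 2)) :
    ∃ lam : ↥(Subgroup.centralizer ((Subgroup.zpowers (a ^ 2) : Subgroup G) : Set G)) →* ℂˣ,
      (∀ c, lam c ≠ 1 → m ∣ orderOf (c : G)) ∧
      (∀ (c : ↥(Subgroup.centralizer ((Subgroup.zpowers (a ^ 2) : Subgroup G) : Set G)))
        (hc : b⁻¹ * (c : G) * b ∈
          Subgroup.centralizer ((Subgroup.zpowers (a ^ 2) : Subgroup G) : Set G)),
        lam ⟨b⁻¹ * c * b, hc⟩ = (lam c)⁻¹) ∧
      (∃ c, (lam c) ^ 2 ≠ 1) := by
  have hm : 2 < m := by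
    rw [hmn]
    calc 2 < 2 ^ 2 := by norm_num
      _ ≤ 2 ^ (n + 2) := Nat.pow_le_pow_right (by norm_num) (by omega)
  set C := Subgroup.centralizer ((Subgroup.zpowers (a ^ 2) : Subgroup G) : Set G) with hC
  have hinf := h.inf_centralizer_sq hm
  have hza : Subgroup.zpowers a ≤ C := by
    rw [← hinf]
    exact inf_le_right
  obtain ⟨K₀, hK₀n, hK₀odd, hcomp, hK₀mem⟩ := h.exists_normal_complement hmn
  have := hK₀n
  set P₀ : Subgroup ↥C := (Subgroup.zpowers a).subgroupOf C with hP₀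
  have haC : a ∈ C := hza (Subgroup.mem_zpowers a)
  have hacP : (⟨a, haC⟩ : ↥C) ∈ P₀ := Subgroup.mem_subgroupOf.mpr (Subgroup.mem_zpowers a)
  set â : ↥P₀ := ⟨⟨a, haC⟩, hacP⟩ with hâ
  have hcoe_zpow : ∀ j : ℤ, (((â ^ j : ↥P₀) : ↥C) : G) = a ^ j := by
    intro j
    simp [hâ]
  have hgen : ∀ x : ↥P₀, x ∈ Subgroup.zpowers â := by
    intro x
    have hx : ((x : ↥C) : G) ∈ Subgroup.zpowers a := Subgroup.mem_subgroupOf.mp x.2
    obtain ⟨j, hj⟩ := Subgroup.mem_zpowers_iff.mp hx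
    refine Subgroup.mem_zpowers_iff.mpr ⟨j, ?_⟩
    apply Subtype.ext
    apply Subtype.ext
    rw [hcoe_zpow, hj]
  have hordâ : orderOf â = 2 ^ (n + 3) := by
    rw [← Subgroup.orderOf_coe, ← Subgroup.orderOf_coe]
    show orderOf a = _
    rw [h.order_a, hmn]
    ring
  set ζ : ℂˣ := Units.mk0 Complex.I Complex.I_ne_zero with hζ
  have hζ4 : ζ ^ 4 = 1 := by
    ext
    simp [hζ, Complex.I_pow_four]
  have hζ2 : ζ ^ 2 ≠ 1 := by
    intro h2
    have := congrArg Units.val h2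
    simp [hζ] at this
    norm_num [Complex.ext_iff] at this
  have hordζ : orderOf ζ ∣ orderOf â := by
    rw [hordâ]
    exact (orderOf_dvd_of_pow_eq_one hζ4).trans ⟨2 ^ (n + 1), by ring⟩
  set μ : ↥P₀ →* ℂˣ := monoidHomOfForallMemZpowers hgen hordζ with hμdef
  have hμ : μ â = ζ := monoidHomOfForallMemZpowers_apply_gen hgen hordζ
  set π : ↥C →* ↥P₀ := Helper1.complProj hcomp with hπ
  have hb_conj : ∀ u : G, u ∈ Subgroup.zpowers a → b⁻¹ * u * b = u⁻¹ := by
    intro u hu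
    obtain ⟨j, rfl⟩ := Subgroup.mem_zpowers_iff.mp hu
    have h1 : b⁻¹ * a * b = a⁻¹ := by
      have := h.conj
      calc b⁻¹ * a * b = (b⁻¹ * a⁻¹ * b)⁻¹ := by group
        _ = (b⁻¹ * (b * a * b⁻¹) * b)⁻¹ := by rw [this]
        _ = a⁻¹ := by group
    have hz := map_zpow (MulAut.conj b⁻¹) a j
    simp only [MulAut.conj_apply, inv_inv] at hz
    rw [hz, h1, inv_zpow]
  refine ⟨μ.comp π, ?_, ?_, ?_⟩
  · intro c hc
    have hc' : μ (π c) ≠ 1 := hc
    obtain ⟨j, hj⟩ := Subgroup.mem_zpowers_iff.mp (hgen (π c))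
    have h1 : orderOf (π c) ∣ orderOf (c : G) := by
      rw [Subgroup.orderOf_coe]
      exact orderOf_map_dvd π c
    refine Dvd.dvd.trans ?_ h1
    have h2 : orderOf (π c) ∣ 2 ^ (n + 3) := by
      rw [← hordâ]
      exact orderOf_dvd_of_mem_zpowers (hgen (π c))
    obtain ⟨k, hk, hk2⟩ := (Nat.dvd_prime_pow Nat.prime_two).mp h2
    rw [hk2, hmn]
    apply Nat.pow_dvd_pow
    by_contra hlt
    have hk1 : k ≤ n + 1 := by omega
    apply hc'
    have h3 : (π c) ^ (2 ^ (n + 1)) = 1 := by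
      apply orderOf_dvd_iff_pow_eq_one.mp
      rw [hk2]
      exact Nat.pow_dvd_pow 2 hk1
    rw [← hj, ← zpow_natCast, ← zpow_mul] at h3
    have h4 := orderOf_dvd_iff_zpow_eq_one.mpr h3
    rw [hordâ] at h4
    obtain ⟨t, ht⟩ := h4
    have h5 : j = 4 * t := by
      have h6 : j * (2 ^ (n + 1) : ℤ) = (4 * t) * (2 ^ (n + 1) : ℤ) := by
        push_cast at ht
        rw [ht]
        ring
      exact mul_right_cancel₀ (by positivity) h6
    rw [← hj, map_zpow, hμ, h5, zpow_mul, zpow_ofNat, hζ4, one_zpow]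
  · intro c hc
    show μ (π ⟨b⁻¹ * c * b, hc⟩) = (μ (π c))⁻¹
    rw [← map_inv]
    congr 1
    apply Subtype.ext
    apply Helper1.complProj_unique hcomp (y := (((π c)⁻¹ : ↥P₀) : ↥C)) (SetLike.coe_mem _)
    have hk : ((π c : ↥P₀) : ↥C)⁻¹ * c ∈ K₀ := Helper1.complProj_inv_mul_mem hcomp c
    refine mem_of_conj_of_odd K₀ hK₀odd hK₀mem b⁻¹ _ hk _ ?_
    have hu : (((π c : ↥P₀) : ↥C) : G) ∈ Subgroup.zpowers a :=
      Subgroup.mem_subgroupOf.mp (π c).2
    have hub := hb_conj _ hu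
    simp only [Subgroup.coe_mul, Subgroup.coe_inv, inv_inv]
    set u : G := (((π c : ↥P₀) : ↥C) : G) with hu_def
    calc u * (b⁻¹ * (c : G) * b) = (b⁻¹ * u * b)⁻¹ * (b⁻¹ * (c : G) * b) := by rw [hub, inv_inv]
      _ = b⁻¹ * (u⁻¹ * (c : G)) * b := by group
  · refine ⟨⟨a, haC⟩, ?_⟩
    show (μ (π ⟨a, haC⟩)) ^ 2 ≠ 1
    have h1 : π ⟨a, haC⟩ = â := by
      apply Subtype.ext
      exact Helper1.complProj_of_mem hcomp hacP
    rw [h1, hμ]
    exact hζ2

end quat3

section main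
variable {G : Type u} [Group G] [Fintype G]

/-- the statement S0844 -/
theorem quat_exceptional_pair (S : Sylow 2 G) (n : ℕ)
    (e : (S : Subgroup G) ≃* QuaternionGroup (2 ^ (n + 2))) :
    ∃ χ₁ χ₂ : G → ℂ, IsIrrCharacter G χ₁ ∧ IsIrrCharacter G χ₂ ∧ χ₁ ≠ (fun _ => 1) ∧
      χ₂ ≠ (fun _ => 1) ∧ χ₁ 1 = χ₂ 1 + 1 ∧ ∀ g : G, ¬ 4 ∣ orderOf g → χ₁ g - χ₂ g = 1 := by
  have : NeZero (2 ^ (n + 2)) := ⟨by positivity⟩
  obtain ⟨a, b, h⟩ := exists_quatData e
  have hm : 2 < 2 ^ (n + 2) := by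
    calc 2 < 2 ^ 2 := by norm_num
      _ ≤ 2 ^ (n + 2) := Nat.pow_le_pow_right (by norm_num) (by omega)
  set C := Subgroup.centralizer ((Subgroup.zpowers (a ^ 2) : Subgroup G) : Set G) with hC
  set N := Subgroup.normalizer ((Subgroup.zpowers (a ^ 2) : Subgroup G) : Set G) with hN
  obtain ⟨lam, hA, hinv, hsq⟩ := h.exists_lam rfl
  have hbN : b ∈ N := h.le_normalizer_sq h.hb
  have hbC : b ∉ C := h.b_not_mem_centralizer hm
  have hbn : ∀ c ∈ C, b⁻¹ * c * b ∈ C := by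
    intro c hc
    have := conj_mem_centralizer_of_mem_normalizer _ (inv_mem hbN) hc
    simpa using this
  letI : Fintype ↥C := Fintype.ofFinite _
  have hTI : ∀ (x : G) (c : C), lam c ≠ 1 → ∀ hx : x⁻¹ * c * x ∈ C,
      lam ⟨x⁻¹ * c * x, hx⟩ ≠ 1 → x ∈ C ∨ b⁻¹ * x ∈ C := by
    intro x c hc hx hcx
    have h1 := hA c hc
    have hxN : x⁻¹ ∈ N := h.conj_mem_normalizer rfl x⁻¹ c
      ((mem_centralizer_zpowers_iff _ _).mp c.2) h1 (by
        have := (mem_centralizer_zpowers_iff _ _).mp hx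
        simpa using this)
    have hxN' : x ∈ N := by simpa using inv_mem hxN
    have hidx := h.index_centralizer (n := n) rfl
    by_cases hxC : x ∈ C
    · left; exact hxC
    · right
      have h2 := Subgroup.mul_mem_iff_of_index_two hidx (a := ⟨b⁻¹, inv_mem hbN⟩)
        (b := ⟨x, hxN'⟩)
      simp only [Subgroup.mem_subgroupOf, Subgroup.coe_mul] at h2
      rw [h2]
      constructor
      · intro h3
        exact absurd (by simpa using inv_mem h3) hbC
      · intro h3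
        exact absurd h3 hxC
  obtain ⟨χ₁, χ₂, h1, h2, h3, h4, h5, h6⟩ :=
    exists_exceptional_pair C b lam hbC hbn (fun c => hinv c _) hTI hsq
  refine ⟨χ₁, χ₂, h1, h2, h3, h4, h5, fun g hg => h6 g ?_⟩
  intro x hx
  by_contra hne
  have h7 := hA _ hne
  have h8 : orderOf (x⁻¹ * g * x) = orderOf g := by
    have := orderOf_injective (MulAut.conj x⁻¹).toMonoidHom (MulAut.conj x⁻¹).injective g
    simpa using this
  apply hg
  rw [← h8]
  refine Dvd.dvd.trans ?_ h7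
  exact ⟨2 ^ n, by ring⟩

end main
end Cfsg.Agent.Lib.Helper2
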