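import Mathlib
import Cfsg.Agent.Lib.Helper2.QuatExc
import Cfsg.Agent.Lib.Helper6.ClassMult
import Cfsg.Agent.Lib.Helper6.CentralHom
import Cfsg.Agent.Lib.Helper25.Gagola

/-!
Generalized quaternion Sylow `2`-subgroup of order at least 16: the involutions lie in the kernel
of the exceptional characters, hence a normal subgroup of even order with nonabelian quotient
(Brauer–Suzuki, Isaacs (7.8)).
-/

set_option autoImplicit false
open scoped commutatorElement
namespace Cfsg.Agent.Lib.Helper2
universe u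
open Cfsg Cfsg.Agent.Lib.Helper6 Cfsg.Agent.Lib.Helper24 Module

section quat4
variable {G : Type u} [Group G] [Finite G] {S : Sylow 2 G} {m : ℕ} {a b : G}

/-- commuting involutions are equal -/
theorem QuatData.eq_of_commute_involutions (h : QuatData (S : Subgroup G) m a b) (hm : 0 < m)
    (x w : G) (hx : orderOf x = 2) (hw : orderOf w = 2) (hc : x * w = w * x) : x = w := by
  have hPx : IsPGroup 2 (Subgroup.zpowers x) := by
    apply IsPGroup.of_card (n := 1)
    rw [Nat.card_zpowers, hx, pow_one]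
  have hPw : IsPGroup 2 (Subgroup.zpowers w) := by
    apply IsPGroup.of_card (n := 1)
    rw [Nat.card_zpowers, hw, pow_one]
  have hle : Subgroup.zpowers x ≤ Subgroup.normalizer ((Subgroup.zpowers w : Subgroup G) : Set G) := by
    rw [Subgroup.zpowers_le]
    exact Subgroup.centralizer_le_normalizer _ ((mem_centralizer_zpowers_iff w x).mpr hc)
  have hA := IsPGroup.to_sup_of_normal_right' hPx hPw hle
  exact h.involution_unique hm _ hA x w (Subgroup.mem_sup_left (Subgroup.mem_zpowers x))
    (Subgroup.mem_sup_right (Subgroup.mem_zpowers w)) hx hw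

/-- the product of two involutions has order not divisible by 4 -/
theorem QuatData.not_four_dvd_orderOf_mul (h : QuatData (S : Subgroup G) m a b) (hm : 0 < m)
    (x y : G) (hx : orderOf x = 2) (hy : orderOf y = 2) : ¬ 4 ∣ orderOf (x * y) := by
  intro h4
  have hx2 : x * x = 1 := by rw [← pow_two, ← hx, pow_orderOf_eq_one]
  have hy2 : y * y = 1 := by rw [← pow_two, ← hy, pow_orderOf_eq_one]
  have hxi : x⁻¹ = x := inv_eq_of_mul_eq_one_left hx2
  have hyi : y⁻¹ = y := inv_eq_of_mul_eq_one_left hy2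
  obtain ⟨k, hk⟩ : 2 ∣ orderOf (x * y) := dvd_trans (by norm_num) h4
  have hk0 : k ≠ 0 := by
    rintro rfl
    exact (orderOf_pos (x * y)).ne' (by simpa using hk)
  set w := (x * y) ^ k with hw
  have hwo : orderOf w = 2 := by
    rw [hw, orderOf_pow_of_dvd hk0 ⟨2, by rw [hk]; ring⟩, hk]
    exact Nat.mul_div_cancel _ (Nat.pos_of_ne_zero hk0)
  have hw2 : w * w = 1 := by rw [← pow_two, ← hwo, pow_orderOf_eq_one]
  have hwi : w⁻¹ = w := inv_eq_of_mul_eq_one_left hw2
  have hxw : x * w = w * x := by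
    have h0 : x * (x * y) * x⁻¹ = (x * y)⁻¹ := by
      rw [mul_inv_rev, hxi, hyi, ← mul_assoc x x y, hx2, one_mul]
    have h1 : x * w * x⁻¹ = w⁻¹ := by
      rw [hw, (_root_.conj_pow (a := x) (b := x * y) (i := k)).symm, h0, inv_pow]
    calc x * w = (x * w * x⁻¹) * x := by group
      _ = w * x := by rw [h1, hwi]
  have hyw : y * w = w * y := by
    have h0 : y * (x * y) * y⁻¹ = (x * y)⁻¹ := by
      rw [mul_inv_rev, hxi, hyi]
      calc y * (x * y) * y = y * x * (y * y) := by simp only [mul_assoc]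
        _ = y * x := by rw [hy2, mul_one]
    have h1 : y * w * y⁻¹ = w⁻¹ := by
      rw [hw, (_root_.conj_pow (a := y) (b := x * y) (i := k)).symm, h0, inv_pow]
    calc y * w = (y * w * y⁻¹) * y := by group
      _ = w * y := by rw [h1, hwi]
  have e1 := h.eq_of_commute_involutions hm x w hx hwo hxw
  have e2 := h.eq_of_commute_involutions hm y w hy hwo hyw
  rw [e1, e2, hw2, orderOf_one] at h4
  omega

end quat4

section main
variable {G : Type u} [Group G] [Finite G]

/-- the involution lies in the kernel of the exceptional character `χ₁` -/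
theorem QuatData.involution_mem_ker {S : Sylow 2 G} {m : ℕ} {a b : G}
    (h : QuatData (S : Subgroup G) m a b) (hm : 0 < m) (χ₁ χ₂ : G → ℂ)
    (h1 : IsIrrCharacter G χ₁) (h2 : IsIrrCharacter G χ₂) (h5 : χ₁ 1 = χ₂ 1 + 1)
    (h6 : ∀ g : G, ¬ 4 ∣ orderOf g → χ₁ g - χ₂ g = 1) (t : G) (hto : orderOf t = 2) :
    χ₁ t = χ₁ 1 ∧ χ₂ t = χ₂ 1 := by
  classical
  letI : Fintype G := Fintype.ofFinite G
  obtain ⟨n₁, ρ₁, hirr₁, rfl⟩ := h1
  obtain ⟨n₂, ρ₂, hirr₂, rfl⟩ := h2
  have e1 := sum_isConj_char_mul ρ₁ t t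
  have e2 := sum_isConj_char_mul ρ₂ t t
  set c : ℂ := ((Subgroup.centralizer ({t} : Set G)).index : ℂ) with hc
  have hc0 : c ≠ 0 := by
    rw [hc]
    exact Nat.cast_ne_zero.mpr (Subgroup.index_ne_zero_of_finite)
  have e3 : ∑ x : G, ∑ y : G, classInd t x * classInd t y * 1 = c * c := by
    have h3 := sum_classInd_mul_char (1 : Representation ℂ G ℂ) t
    have hone : ∀ x : G, (1 : Representation ℂ G ℂ).character x = 1 := by
      intro x
      simp [Representation.character]
    have h3' : ∑ x : G, classInd t x = c := by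
      rw [hc]
      simpa [hone] using h3
    simp only [mul_one]
    rw [← Finset.sum_mul_sum, h3']
  have e0 : ∑ x : G, ∑ y : G, classInd t x * classInd t y *
      (ρ₁.character (x * y) - ρ₂.character (x * y) - 1) = 0 := by
    apply Finset.sum_eq_zero
    intro x _
    apply Finset.sum_eq_zero
    intro y _
    unfold classInd
    split_ifs with hx hy
    · have hxo : orderOf x = 2 := by
        obtain ⟨g, hg⟩ := isConj_iff.mp hx
        rw [← hg, ← hto]
        have := orderOf_injective (MulAut.conj g).toMonoidHom (MulAut.conj g).injective t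
        simpa using this
      have hyo : orderOf y = 2 := by
        obtain ⟨g, hg⟩ := isConj_iff.mp hy
        rw [← hg, ← hto]
        have := orderOf_injective (MulAut.conj g).toMonoidHom (MulAut.conj g).injective t
        simpa using this
      rw [h6 (x * y) (h.not_four_dvd_orderOf_mul hm x y hxo hyo)]
      ring
    all_goals simp
  simp only [mul_sub, Finset.sum_sub_distrib] at e0
  rw [e1, e2, e3] at e0
  have hd1 : ρ₁.character 1 = (finrank ℂ (Fin n₁ → ℂ) : ℂ) := Representation.char_one ρ₁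
  have hd2 : ρ₂.character 1 = (finrank ℂ (Fin n₂ → ℂ) : ℂ) := Representation.char_one ρ₂
  have hv := h6 t (by rw [hto]; norm_num)
  rw [hd1, hd2] at h5
  set d : ℂ := (finrank ℂ (Fin n₂ → ℂ) : ℂ) with hd
  set v : ℂ := ρ₂.character t with hv_def
  have hv1 : ρ₁.character t = v + 1 := by linear_combination hv
  have hpos := finrank_pos_of_isIrreducible ρ₂
  have hd0 : d ≠ 0 := by
    rw [hd]
    exact_mod_cast hpos.ne'
  have hd10 : d + 1 ≠ 0 := by
    rw [hd]
    exact Nat.cast_add_one_ne_zero _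
  rw [h5, hv1] at e0
  have hkey : (v - d) ^ 2 = 0 := by
    field_simp at e0
    have hcc : c ^ 2 ≠ 0 := pow_ne_zero 2 hc0
    apply mul_left_cancel₀ hcc
    linear_combination (-1 : ℂ) * e0
  have hvd : v = d := by
    have := pow_eq_zero_iff (two_ne_zero) |>.mp hkey
    linear_combination this
  refine ⟨?_, ?_⟩
  · rw [hv1, hd1, h5, hvd]
  · rw [hd2]
    exact hvd

/-- the statement S0845 -/
theorem quat_exists_even_normal (S : Sylow 2 G) (n : ℕ)
    (e : (S : Subgroup G) ≃* QuaternionGroup (2 ^ (n + 2))) :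
    ∃ M : Subgroup G, M.Normal ∧ Even (Nat.card M) ∧ ¬ commutator G ≤ M := by
  classical
  letI : Fintype G := Fintype.ofFinite G
  have : NeZero (2 ^ (n + 2)) := ⟨by positivity⟩
  obtain ⟨a, b, h⟩ := exists_quatData e
  have hm : 0 < 2 ^ (n + 2) := by positivity
  obtain ⟨χ₁, χ₂, h1, h2, -, -, h5, h6⟩ := quat_exceptional_pair S n e
  have hto : orderOf (a ^ (2 ^ (n + 2))) = 2 := h.orderOf_pow_m hm
  obtain ⟨key, -⟩ := h.involution_mem_ker hm χ₁ χ₂ h1 h2 h5 h6 _ hto
  refine ⟨Cfsg.Agent.Lib.Helper25.irrKer ⟨χ₁, h1⟩, inferInstance, ?_, ?_⟩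
  · rw [even_iff_two_dvd, ← hto]
    exact Subgroup.orderOf_dvd_natCard _
      ((Cfsg.Agent.Lib.Helper25.mem_irrKer ⟨χ₁, h1⟩ _).mpr key)
  · intro hle
    have h7 := IsIrrCharacter.apply_one_eq_one_of_commutator h1 (fun g k =>
      (Cfsg.Agent.Lib.Helper25.mem_irrKer ⟨χ₁, h1⟩ _).mp (hle (by
        rw [commutator_def]
        exact Subgroup.commutator_mem_commutator (Subgroup.mem_top g) (Subgroup.mem_top k))))
    obtain ⟨n₂, ρ₂, hirr₂, rfl⟩ := h2
    have hd2 : ρ₂.character 1 = (finrank ℂ (Fin n₂ → ℂ) : ℂ) := Representation.char_one ρ₂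
    have hpos := finrank_pos_of_isIrreducible ρ₂
    rw [h7, hd2] at h5
    have : ((finrank ℂ (Fin n₂ → ℂ) : ℕ) : ℂ) = 0 := by linear_combination -h5
    exact hpos.ne' (by exact_mod_cast this)

end main
end Cfsg.Agent.Lib.Helper2
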