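import Mathlib
import Cfsg.Agent.Lib.Helper2.QuatKer
import Cfsg.Agent.Lib.Helper6.Clifford
import Cfsg.Agent.Lib.Lead.CharEquiv
import Cfsg.Agent.Lib.Lead.CharBurnside

/-!
Generalized quaternion Sylow `2`-subgroup of order at least 16: the subgroup generated by the
involutions has cyclic Sylow `2`-subgroups (Brauer–Suzuki).
-/

set_option autoImplicit false
open scoped commutatorElement
namespace Cfsg.Agent.Lib.Helper2
universe u
open Cfsg Cfsg.Agent.CharLib Cfsg.Agent.Lib.Helper6 Cfsg.Agent.Lib.Helper24 Module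

section quat5

/-- a finite group with a Sylow 2-subgroup of order at most 2 has a normal subgroup of odd order
with abelian quotient -/
theorem exists_odd_normal_of_sylow_card_le_two {H : Type u} [Group H] [Finite H] (P : Sylow 2 H)
    (hP : Nat.card (P : Subgroup H) ≤ 2) :
    ∃ L : Subgroup H, L.Normal ∧ ¬ 2 ∣ Nat.card L ∧ commutator H ≤ L := by
  have : Fact (Nat.Prime 2) := ⟨Nat.prime_two⟩
  by_cases h2 : 2 ∣ Nat.card H
  · have hmin : (Nat.card H).minFac = 2 := (Nat.minFac_eq_two_iff _).mpr h2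
    have hcyc : IsCyclic (P : Subgroup H) := by
      have hpos : 0 < Nat.card (P : Subgroup H) := Nat.card_pos
      have h12 : Nat.card (P : Subgroup H) = 1 ∨ Nat.card (P : Subgroup H) = 2 := by omega
      rcases h12 with hc | hc
      · have := (Nat.card_eq_one_iff_unique.mp hc).1
        exact isCyclic_of_subsingleton
      · exact isCyclic_of_prime_card (p := 2) hc
    refine ⟨(MonoidHom.transferSylow P (hcyc.normalizer_le_centralizer hmin)).ker, inferInstance,
      MonoidHom.not_dvd_card_ker_transferSylow P _, ?_⟩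
    rw [commutator_def, Subgroup.commutator_le]
    intro g _ k _
    rw [MonoidHom.mem_ker, map_commutatorElement, commutatorElement_eq_one_iff_commute]
    show _ * _ = _ * _
    exact mul_comm' _ _
  · exact ⟨⊤, inferInstance, by rwa [Subgroup.card_top], le_top⟩

variable {G : Type u} [Group G] [Finite G] {S : Sylow 2 G} {m : ℕ} {a b : G}

omit [Finite G] in
/-- if `S ∩ K` is not cyclic for a normal subgroup `K`, then `S ⊆ K ∪ aK` -/
theorem QuatData.cover_of_not_isCyclic (h : QuatData (S : Subgroup G) m a b) (K : Subgroup G)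
    [hK : K.Normal] (hnc : ¬ IsCyclic ↥((S : Subgroup G) ⊓ K)) :
    ∀ s ∈ (S : Subgroup G), s ∈ K ∨ a⁻¹ * s ∈ K := by
  obtain ⟨c, hcT, hca⟩ : ∃ c ∈ (S : Subgroup G) ⊓ K, c ∉ Subgroup.zpowers a := by
    by_contra hall
    push Not at hall
    have hle : (S : Subgroup G) ⊓ K ≤ Subgroup.zpowers a := hall
    apply hnc
    have e := Subgroup.subgroupOfEquivOfLe hle
    exact isCyclic_of_surjective e e.surjective
  obtain ⟨i, hi⟩ : ∃ i : ℕ, c = b * a ^ i := by
    rcases h.cover c hcT.1 with ⟨i, hi⟩ | ⟨i, hi⟩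
    · exact absurd (hi ▸ Subgroup.npow_mem_zpowers a i) hca
    · exact ⟨i, hi⟩
  have hcK : c ∈ K := hcT.2
  have ha2 : a ^ 2 ∈ K := by
    have h1 : a * c * a⁻¹ * c⁻¹ ∈ K := K.mul_mem (hK.conj_mem c hcK a) (K.inv_mem hcK)
    have h2 : a * c * a⁻¹ * c⁻¹ = a ^ 2 := by
      rw [hi]
      calc a * (b * a ^ i) * a⁻¹ * (b * a ^ i)⁻¹ = a * (b * a * b⁻¹)⁻¹ := by group
        _ = a * (a⁻¹)⁻¹ := by rw [h.conj]
        _ = a ^ 2 := by rw [inv_inv, pow_two]
    rwa [h2] at h1
  have heven : ∀ k : ℤ, Even k → a ^ k ∈ K := by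
    rintro k ⟨j, rfl⟩
    have : a ^ (j + j) = (a ^ 2) ^ j := by
      rw [← zpow_natCast, ← zpow_mul]
      congr 1
      push_cast
      ring
    rw [this]
    exact K.zpow_mem ha2 j
  have hab : a⁻¹ * b = b * a := by
    have := h.conj
    calc a⁻¹ * b = (b * a * b⁻¹) * b := by rw [this]
      _ = b * a := by group
  intro s hs
  rcases h.cover s hs with ⟨j, hj⟩ | ⟨j, hj⟩
  · rcases Int.even_or_odd (j : ℤ) with he | ho
    · left
      rw [hj, ← zpow_natCast]
      exact heven _ he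
    · right
      have h1 : a⁻¹ * s = a ^ ((j : ℤ) - 1) := by
        rw [hj, zpow_sub, zpow_natCast, zpow_one]
        group
      rw [h1]
      exact heven _ (by
        rcases ho with ⟨t, ht⟩
        exact ⟨t, by omega⟩)
  · rcases Int.even_or_odd ((j : ℤ) - i) with he | ho
    · left
      have h1 : s = c * a ^ ((j : ℤ) - i) := by
        rw [hj, hi, zpow_sub, zpow_natCast, zpow_natCast]
        group
      rw [h1]
      exact K.mul_mem hcK (heven _ he)
    · right
      have h1 : a⁻¹ * s = c * a ^ ((j : ℤ) + 1 - i) := by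
        rw [hj, hi, zpow_sub, zpow_add, zpow_natCast, zpow_natCast, zpow_one, ← mul_assoc, hab]
        group
      rw [h1]
      exact K.mul_mem hcK (heven _ (by
        rcases ho with ⟨t, ht⟩
        exact ⟨t + 1, by omega⟩))

/-- `S ∩ ker χ₁ ∩ ker χ₂` is cyclic -/
theorem QuatData.inf_ker_isCyclic {n : ℕ} (h : QuatData (S : Subgroup G) (2 ^ (n + 2)) a b)
    {n₁ n₂ : ℕ} (ρ₁ : Representation ℂ G (Fin n₁ → ℂ)) (ρ₂ : Representation ℂ G (Fin n₂ → ℂ))
    (hirr₁ : ρ₁.IsIrreducible) (hirr₂ : ρ₂.IsIrreducible)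
    (h5 : ρ₁.character 1 = ρ₂.character 1 + 1)
    (h6 : ∀ g : G, ¬ 4 ∣ orderOf g → ρ₁.character g - ρ₂.character g = 1) :
    IsCyclic ↥((S : Subgroup G) ⊓ (MonoidHom.ker ρ₁ ⊓ MonoidHom.ker ρ₂)) := by
  classical
  letI : Fintype G := Fintype.ofFinite G
  by_contra hnc
  set K : Subgroup G := MonoidHom.ker ρ₁ ⊓ MonoidHom.ker ρ₂ with hKdef
  have hKn : K.Normal := inferInstance
  have hcov := h.cover_of_not_isCyclic K hnc
  have : Fact (Nat.Prime 2) := ⟨Nat.prime_two⟩
  set Sbar : Sylow 2 (G ⧸ K) := S.mapSurjective (QuotientGroup.mk'_surjective K) with hSbar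
  have hcard : Nat.card (Sbar : Subgroup (G ⧸ K)) ≤ 2 := by
    have hsub : ((Sbar : Subgroup (G ⧸ K)) : Set (G ⧸ K)) ⊆
        {1, (QuotientGroup.mk a : G ⧸ K)} := by
      intro x hx
      rw [hSbar, SetLike.mem_coe, Sylow.coe_mapSurjective, Subgroup.mem_map] at hx
      obtain ⟨s, hs, rfl⟩ := hx
      rcases hcov s hs with h1 | h1
      · left
        exact (QuotientGroup.eq_one_iff s).mpr h1
      · right
        rw [Set.mem_singleton_iff]
        exact (QuotientGroup.eq.mpr h1).symm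
    calc Nat.card (Sbar : Subgroup (G ⧸ K))
        = ((Sbar : Subgroup (G ⧸ K)) : Set (G ⧸ K)).ncard := (Nat.card_coe_set_eq _)
      _ ≤ ({1, (QuotientGroup.mk a : G ⧸ K)} : Set (G ⧸ K)).ncard :=
          Set.ncard_le_ncard hsub (Set.toFinite _)
      _ ≤ ({(QuotientGroup.mk a : G ⧸ K)} : Set (G ⧸ K)).ncard + 1 := Set.ncard_insert_le _ _
      _ = 2 := by rw [Set.ncard_singleton]
  obtain ⟨Lbar, hLn, hLodd, hLcomm⟩ := exists_odd_normal_of_sylow_card_le_two Sbar hcard
  set L : Subgroup G := Lbar.comap (QuotientGroup.mk' K) with hL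
  have hLnorm : L.Normal := hLn.comap _
  have hcommL : commutator G ≤ L := by
    rw [commutator_def, Subgroup.commutator_le]
    intro g _ k _
    rw [hL, Subgroup.mem_comap, map_commutatorElement]
    apply hLcomm
    rw [commutator_def]
    exact Subgroup.commutator_mem_commutator (Subgroup.mem_top _) (Subgroup.mem_top _)
  have hρ₁K : ∀ (g k : G), k ∈ K → ρ₁.character (g * k) = ρ₁.character g := by
    intro g k hk
    have : ρ₁ k = 1 := MonoidHom.mem_ker.mp hk.1
    simp only [Representation.character, map_mul, this, mul_one]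
  have hρ₂K : ∀ (g k : G), k ∈ K → ρ₂.character (g * k) = ρ₂.character g := by
    intro g k hk
    have : ρ₂ k = 1 := MonoidHom.mem_ker.mp hk.2
    simp only [Representation.character, map_mul, this, mul_one]
  have hΔL : ∀ g ∈ L, ρ₁.character g - ρ₂.character g = 1 := by
    intro g hg
    have hgL : (QuotientGroup.mk g : G ⧸ K) ∈ Lbar := hg
    have hcop : (Nat.card Lbar).Coprime (2 ^ (n + 4)) := by
      apply Nat.Coprime.pow_right
      exact Nat.coprime_comm.mp ((Nat.Prime.coprime_iff_not_dvd Nat.prime_two).mpr hLodd)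
    obtain ⟨hbar, hhbar⟩ := (powCoprime hcop).surjective ⟨QuotientGroup.mk g, hgL⟩
    obtain ⟨x, hx⟩ := QuotientGroup.mk_surjective (hbar : G ⧸ K)
    have h1 : (QuotientGroup.mk (x ^ (2 ^ (n + 4))) : G ⧸ K) = QuotientGroup.mk g := by
      rw [QuotientGroup.mk_pow, hx]
      have := congrArg Subtype.val hhbar
      simpa using this
    have h2 : (x ^ (2 ^ (n + 4)))⁻¹ * g ∈ K := QuotientGroup.eq.mp h1
    have h3 : g = x ^ (2 ^ (n + 4)) * ((x ^ (2 ^ (n + 4)))⁻¹ * g) := by group
    have hord : ¬ 4 ∣ orderOf (x ^ (2 ^ (n + 4))) := by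
      have hdvd : orderOf (x ^ (2 ^ (n + 4))) ∣ (S : Subgroup G).index := by
        apply orderOf_dvd_of_pow_eq_one
        have hc : 2 ^ (n + 4) = Nat.card (S : Subgroup G) := by
          rw [h.card]
          ring
        rw [← pow_mul, hc, Subgroup.card_mul_index, pow_card_eq_one']
      intro h4
      have : 2 ∣ (S : Subgroup G).index := dvd_trans (dvd_trans (by norm_num) h4) hdvd
      exact S.not_dvd_index this
    rw [h3, hρ₁K _ _ h2, hρ₂K _ _ h2]
    exact h6 _ hord
  letI : Fintype ↥L := Fintype.ofFinite _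
  have hχ₁ : IsIrrCharacter G ρ₁.character := ⟨n₁, ρ₁, hirr₁, rfl⟩
  have hχ₂ : IsIrrCharacter G ρ₂.character := ⟨n₂, ρ₂, hirr₂, rfl⟩
  have hres : resFun L ρ₁.character = resFun L ρ₂.character + 1 := by
    funext l
    simp only [resFun_apply, Pi.add_apply, Pi.one_apply]
    linear_combination hΔL l l.2
  have h1L : IsIrrCharacter ↥L (1 : ↥L → ℂ) := isIrrCharacter_one
  obtain ⟨k, hk⟩ := IsCharacter.classInner_nat
    (isCharacter_resFun L (IsIrrCharacter.isCharacter hχ₂)) (IsIrrCharacter.isCharacter h1L)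
  have hne : classInner (resFun L ρ₁.character) (1 : ↥L → ℂ) ≠ 0 := by
    rw [hres, classInner_add_left, hk, Cfsg.Agent.Lib.Helper10.classInner_irr_self h1L]
    exact_mod_cast Nat.succ_ne_zero k
  have hcl := clifford_of_invariant L hχ₁ h1L hne (fun g => by funext l; rfl)
  have hconst : ∀ l ∈ L, ρ₁.character l = ρ₁.character 1 := by
    intro l hl
    have e1 := congrFun hcl ⟨l, hl⟩
    have e2 := congrFun hcl ⟨1, L.one_mem⟩
    simp only [resFun_apply, Pi.smul_apply, Pi.one_apply] at e1 e2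
    rw [e1, e2]
  have h7 := IsIrrCharacter.apply_one_eq_one_of_commutator hχ₁ (fun g k => hconst _ (hcommL (by
    rw [commutator_def]
    exact Subgroup.commutator_mem_commutator (Subgroup.mem_top g) (Subgroup.mem_top k))))
  have hd2 : ρ₂.character 1 = (finrank ℂ (Fin n₂ → ℂ) : ℂ) := Representation.char_one ρ₂
  have hpos := finrank_pos_of_isIrreducible ρ₂
  rw [h7, hd2] at h5
  have : ((finrank ℂ (Fin n₂ → ℂ) : ℕ) : ℂ) = 0 := by linear_combination -h5
  exact hpos.ne' (by exact_mod_cast this)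

/-- if `S ∩ K` is cyclic (`K` normal) then the Sylow subgroups of any `H ≤ K` are cyclic -/
theorem sylow_isCyclic_of_le (S : Sylow 2 G) (K : Subgroup G) [hKn : K.Normal]
    (hcyc : IsCyclic ↥((S : Subgroup G) ⊓ K)) (H : Subgroup G) (hHK : H ≤ K) (Q : Sylow 2 ↥H) :
    IsCyclic Q := by
  have : Fact (Nat.Prime 2) := ⟨Nat.prime_two⟩
  have hQ2 : IsPGroup 2 ((Q : Subgroup H).map H.subtype) := Q.2.map _
  obtain ⟨g, hg⟩ := exists_inv_conj_mem_sylow S _ hQ2
  let f : ↥(Q : Subgroup H) →* ↥((S : Subgroup G) ⊓ K) :=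
    { toFun := fun x => ⟨g⁻¹ * ((x : H) : G) * g,
        ⟨hg _ (Subgroup.mem_map.mpr ⟨x, x.2, rfl⟩), by
          have := hKn.conj_mem _ (hHK (x : H).2) g⁻¹
          simpa using this⟩⟩
      map_one' := by
        apply Subtype.ext
        simp
      map_mul' := by
        intro x y
        apply Subtype.ext
        simp only [Subgroup.coe_mul]
        group }
  have hf : Function.Injective f := by
    intro x y hxy
    have h1 := congrArg Subtype.val hxy
    have h2 : g⁻¹ * ((x : H) : G) * g = g⁻¹ * ((y : H) : G) * g := h1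
    have h3 : ((x : H) : G) = ((y : H) : G) := mul_left_cancel (mul_right_cancel h2)
    exact Subtype.ext (Subtype.ext h3)
  exact isCyclic_of_injective f hf

/-- the statement S0846 -/
theorem quat_sylow_closure_involutions_isCyclic (S : Sylow 2 G) (n : ℕ)
    (e : (S : Subgroup G) ≃* QuaternionGroup (2 ^ (n + 2)))
    (Q : Sylow 2 ↥(Subgroup.closure {g : G | orderOf g = 2})) : IsCyclic Q := by
  classical
  letI : Fintype G := Fintype.ofFinite G
  have : NeZero (2 ^ (n + 2)) := ⟨by positivity⟩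
  obtain ⟨a, b, h⟩ := exists_quatData e
  have hm : 0 < 2 ^ (n + 2) := by positivity
  obtain ⟨χ₁, χ₂, h1, h2, -, -, h5, h6⟩ := quat_exceptional_pair S n e
  obtain ⟨n₁, ρ₁, hirr₁, rfl⟩ := h1
  obtain ⟨n₂, ρ₂, hirr₂, rfl⟩ := h2
  have hcyc := h.inf_ker_isCyclic ρ₁ ρ₂ hirr₁ hirr₂ h5 h6
  set K : Subgroup G := MonoidHom.ker ρ₁ ⊓ MonoidHom.ker ρ₂ with hKdef
  have hKn : K.Normal := inferInstance
  have hHK : Subgroup.closure {g : G | orderOf g = 2} ≤ K := by
    rw [Subgroup.closure_le]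
    intro t ht
    obtain ⟨k1, k2⟩ := h.involution_mem_ker hm _ _ ⟨n₁, ρ₁, hirr₁, rfl⟩ ⟨n₂, ρ₂, hirr₂, rfl⟩
      h5 h6 t ht
    exact ⟨MonoidHom.mem_ker.mpr (rep_eq_one_of_char_eq_finrank ρ₁ t
        (by rw [k1, Representation.char_one])),
      MonoidHom.mem_ker.mpr (rep_eq_one_of_char_eq_finrank ρ₂ t
        (by rw [k2, Representation.char_one]))⟩
  exact sylow_isCyclic_of_le S K hcyc _ hHK Q

end quat5
end Cfsg.Agent.Lib.Helper2
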