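import Mathlib
import Cfsg.Agent.Lib.Helper2.QuatInv

/-!
The Brauer–Suzuki theorem for generalized quaternion Sylow `2`-subgroups of order at least 16:
if `O(G) = 1` then `|Z(G)| = 2`.
-/

set_option autoImplicit false
namespace Cfsg.Agent.Lib.Helper2
universe u

section quat6

/-- a finite group with a cyclic Sylow `2`-subgroup has a subgroup of odd order containing all
elements of odd order -/
theorem exists_odd_subgroup_of_cyclic_sylow {H : Type u} [Group H] [Finite H] (Q : Sylow 2 H)
    (hcyc : IsCyclic (Q : Subgroup H)) :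
    ∃ N₀ : Subgroup H, ¬ 2 ∣ Nat.card N₀ ∧ ∀ x : H, Odd (orderOf x) → x ∈ N₀ := by
  have : Fact (Nat.Prime 2) := ⟨Nat.prime_two⟩
  by_cases h2 : 2 ∣ Nat.card H
  · have hmin : (Nat.card H).minFac = 2 := (Nat.minFac_eq_two_iff _).mpr h2
    have hcomp := IsCyclic.isComplement' hmin hcyc
    refine ⟨(MonoidHom.transferSylow Q (hcyc.normalizer_le_centralizer hmin)).ker,
      MonoidHom.not_dvd_card_ker_transferSylow Q _, ?_⟩
    intro x hx
    have hidx : (MonoidHom.transferSylow Q (hcyc.normalizer_le_centralizer hmin)).ker.index =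
        2 ^ ((Nat.card H).factorization 2) := by
      rw [hcomp.symm.index_eq_card, Q.card_eq_multiplicity]
    exact mem_of_coprime_orderOf_of_index_pow _ hidx (Nat.Coprime.symm
      ((Nat.Prime.coprime_iff_not_dvd Nat.prime_two).mpr (fun h3 => by
        rcases hx with ⟨k, hk⟩
        omega)))
  · exact ⟨⊤, by rwa [Subgroup.card_top], fun x _ => Subgroup.mem_top x⟩

/-- if the `2'`-part of every element is trivial, the element is a `2`-element -/
theorem exists_pow_two_pow_eq_one_of_odd {H : Type u} [Group H] [Finite H]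
    (hodd : ∀ y : H, Odd (orderOf y) → y = 1) (x : H) : ∃ k : ℕ, x ^ (2 ^ k) = 1 := by
  obtain ⟨k, r, hr, hkr⟩ := Nat.exists_eq_two_pow_mul_odd (orderOf_pos x).ne'
  refine ⟨k, hodd _ ?_⟩
  rw [orderOf_pow_of_dvd (by positivity) ⟨r, hkr⟩, hkr, Nat.mul_div_cancel_left _ (by positivity)]
  exact hr

variable {G : Type u} [Group G] [Finite G]

/-- the statement S0847 -/
theorem brauer_suzuki_center (S : Sylow 2 G) (n : ℕ)
    (e : (S : Subgroup G) ≃* QuaternionGroup (2 ^ (n + 2)))
    (hO : ∀ N : Subgroup G, N.Normal → Odd (Nat.card N) → N = ⊥) :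
    Nat.card (Subgroup.center G) = 2 := by
  have : Fact (Nat.Prime 2) := ⟨Nat.prime_two⟩
  have : NeZero (2 ^ (n + 2)) := ⟨by positivity⟩
  obtain ⟨a, b, h⟩ := exists_quatData e
  have hm : 0 < 2 ^ (n + 2) := by positivity
  have hm2 : 2 < 2 ^ (n + 2) := by
    calc 2 < 2 ^ 2 := by norm_num
      _ ≤ 2 ^ (n + 2) := Nat.pow_le_pow_right (by norm_num) (by omega)
  have hord_conj : ∀ g x : G, orderOf (g * x * g⁻¹) = orderOf x := by
    intro g x
    have := orderOf_injective (MulAut.conj g).toMonoidHom (MulAut.conj g).injective x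
    simpa using this
  -- the subgroup generated by the involutions
  have hHn : (Subgroup.closure {g : G | orderOf g = 2}).Normal := by
    constructor
    intro x hx g
    have hmap : (Subgroup.closure {g : G | orderOf g = 2}).map (MulAut.conj g).toMonoidHom ≤
        Subgroup.closure {g : G | orderOf g = 2} := by
      rw [MonoidHom.map_closure, Subgroup.closure_le]
      rintro _ ⟨t, ht, rfl⟩
      apply Subgroup.subset_closure
      show orderOf (g * t * g⁻¹) = 2
      rw [hord_conj]
      exact ht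
    exact hmap (Subgroup.mem_map.mpr ⟨x, hx, rfl⟩)
  obtain ⟨Q, -⟩ : ∃ Q : Sylow 2 ↥(Subgroup.closure {g : G | orderOf g = 2}), True :=
    ⟨default, trivial⟩
  have hQcyc := quat_sylow_closure_involutions_isCyclic S n e Q
  obtain ⟨N₀, hN₀odd, hN₀mem⟩ := exists_odd_subgroup_of_cyclic_sylow Q hQcyc
  have hN₀ord : ∀ k : ↥(Subgroup.closure {g : G | orderOf g = 2}), k ∈ N₀ → Odd (orderOf k) := by
    intro k hk
    have h2 : orderOf k ∣ Nat.card N₀ := by
      have := orderOf_dvd_natCard (⟨k, hk⟩ : N₀)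
      rwa [Subgroup.orderOf_mk] at this
    rw [← Nat.not_even_iff_odd, even_iff_two_dvd]
    exact fun h3 => hN₀odd (h3.trans h2)
  have hN₀bot : N₀ = ⊥ := by
    have hnorm : (N₀.map (Subgroup.closure {g : G | orderOf g = 2}).subtype).Normal := by
      constructor
      intro x hx g
      obtain ⟨k, hk, rfl⟩ := Subgroup.mem_map.mp hx
      have hgk : g * (k : G) * g⁻¹ ∈ Subgroup.closure {g : G | orderOf g = 2} :=
        hHn.conj_mem _ k.2 g
      refine Subgroup.mem_map.mpr ⟨⟨_, hgk⟩, hN₀mem _ ?_, rfl⟩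
      have h1 : orderOf (⟨g * (k : G) * g⁻¹, hgk⟩ :
          ↥(Subgroup.closure {g : G | orderOf g = 2})) = orderOf k := by
        rw [← Subgroup.orderOf_coe, ← Subgroup.orderOf_coe k]
        exact hord_conj g k
      rw [h1]
      exact hN₀ord k hk
    have hodd : Odd (Nat.card (N₀.map (Subgroup.closure {g : G | orderOf g = 2}).subtype)) := by
      rw [Subgroup.card_map_of_injective (Subgroup.subtype_injective _)]
      exact Nat.odd_iff.mpr (Nat.two_dvd_ne_zero.mp hN₀odd)
    have hbot := hO _ hnorm hodd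
    rw [eq_bot_iff]
    intro k hk
    have : ((k : G)) ∈ N₀.map (Subgroup.closure {g : G | orderOf g = 2}).subtype :=
      Subgroup.mem_map.mpr ⟨k, hk, rfl⟩
    rw [hbot, Subgroup.mem_bot] at this
    rw [Subgroup.mem_bot]
    exact Subtype.ext this
  have hH2 : IsPGroup 2 ↥(Subgroup.closure {g : G | orderOf g = 2}) := by
    intro x
    apply exists_pow_two_pow_eq_one_of_odd
    intro y hy
    have := hN₀mem y hy
    rwa [hN₀bot, Subgroup.mem_bot] at this
  -- the unique involution
  have hz2 : orderOf (a ^ (2 ^ (n + 2))) = 2 := h.orderOf_pow_m hm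
  have huniq : ∀ t : G, orderOf t = 2 → t = a ^ (2 ^ (n + 2)) := by
    intro t ht
    exact h.involution_unique hm _ hH2 t _ (Subgroup.subset_closure ht)
      (Subgroup.subset_closure hz2) ht hz2
  have hzc : a ^ (2 ^ (n + 2)) ∈ Subgroup.center G := by
    rw [Subgroup.mem_center_iff]
    intro g
    have h1 := huniq (g * a ^ (2 ^ (n + 2)) * g⁻¹) (by rw [hord_conj]; exact hz2)
    calc g * a ^ (2 ^ (n + 2)) = (g * a ^ (2 ^ (n + 2)) * g⁻¹) * g := by group
      _ = a ^ (2 ^ (n + 2)) * g := by rw [h1]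
  -- central elements are 2-elements
  have hc2 : ∀ x ∈ Subgroup.center G, ∃ k : ℕ, x ^ (2 ^ k) = 1 := by
    intro x hx
    obtain ⟨k, r, hr, hkr⟩ := Nat.exists_eq_two_pow_mul_odd (orderOf_pos x).ne'
    refine ⟨k, ?_⟩
    have hyc : x ^ (2 ^ k) ∈ Subgroup.center G := Subgroup.pow_mem _ hx _
    have hyo : orderOf (x ^ (2 ^ k)) = r := by
      rw [orderOf_pow_of_dvd (by positivity) ⟨r, hkr⟩, hkr,
        Nat.mul_div_cancel_left _ (by positivity)]
    have hnorm : (Subgroup.zpowers (x ^ (2 ^ k))).Normal := by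
      constructor
      intro y hy g
      have hyc' : y ∈ Subgroup.center G :=
        (Subgroup.zpowers_le.mpr hyc) hy
      have : g * y * g⁻¹ = y := by
        rw [Subgroup.mem_center_iff] at hyc'
        rw [hyc' g]
        group
      rwa [this]
    have hbot := hO _ hnorm (by rw [Nat.card_zpowers, hyo]; exact hr)
    have := Subgroup.mem_zpowers (x ^ (2 ^ k))
    rwa [hbot, Subgroup.mem_bot] at this
  -- the centre lies in `S`
  have hcS : ∀ x ∈ Subgroup.center G, x ∈ (S : Subgroup G) := by
    intro x hx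
    have hP : IsPGroup 2 (Subgroup.zpowers x) := by
      rintro ⟨y, hy⟩
      obtain ⟨j, rfl⟩ := Subgroup.mem_zpowers_iff.mp hy
      obtain ⟨k, hk⟩ := hc2 x hx
      refine ⟨k, ?_⟩
      apply Subtype.ext
      show (x ^ j) ^ (2 ^ k) = 1
      rw [← zpow_natCast, ← zpow_mul, mul_comm, zpow_mul, zpow_natCast, hk, one_zpow]
    obtain ⟨g, hg⟩ := exists_inv_conj_mem_sylow S _ hP
    have h1 := hg x (Subgroup.mem_zpowers x)
    have h2 : g⁻¹ * x * g = x := by
      rw [Subgroup.mem_center_iff] at hx
      calc g⁻¹ * x * g = g⁻¹ * (g * x) := by rw [hx g]; group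
        _ = x := by group
    rwa [h2] at h1
  -- the centre is `{1, z}`
  have hcz : Subgroup.center G = Subgroup.zpowers (a ^ (2 ^ (n + 2))) := by
    apply le_antisymm
    · intro x hx
      have hxS := hcS x hx
      have hxc := Subgroup.mem_center_iff.mp hx
      have hxa : x ∈ Subgroup.zpowers a :=
        h.mem_zpowers_of_commute_sq hm2 x hxS (hxc _).symm
      obtain ⟨j, rfl⟩ := Subgroup.mem_zpowers_iff.mp hxa
      have h1 : b * a ^ j * b⁻¹ = (a ^ j)⁻¹ := by
        have hz := map_zpow (MulAut.conj b) a j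
        simp only [MulAut.conj_apply] at hz
        rw [hz, h.conj, inv_zpow]
      have h2 : b * a ^ j * b⁻¹ = a ^ j := by
        rw [hxc b]
        group
      have h3 : a ^ j * a ^ j = 1 := by
        have : (a ^ j)⁻¹ = a ^ j := h1.symm.trans h2
        calc a ^ j * a ^ j = (a ^ j)⁻¹ * a ^ j := by rw [this]
          _ = 1 := inv_mul_cancel _
      by_cases h4 : a ^ j = 1
      · rw [h4]
        exact Subgroup.one_mem _
      · have h5 : orderOf (a ^ j) = 2 := by
          apply orderOf_eq_prime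
          · rw [pow_two]
            exact h3
          · exact h4
        rw [huniq _ h5]
        exact Subgroup.mem_zpowers _
    · rw [Subgroup.zpowers_le]
      exact hzc
  rw [hcz, Nat.card_zpowers, hz2]

end quat6
end Cfsg.Agent.Lib.Helper2
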