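/-
helper2: if `θ` is a generalized character then so is `g ↦ θ (g_{p'})` (consequence of Brauer's
characterization of characters: on an elementary subgroup `E = P × Q` the map `e ↦ e_{p'}` is the
projection onto `Q`, an endomorphism of `E`).
-/
import Mathlib
import Cfsg.Agent.Lib.Helper2.BrauerInd
import Cfsg.Agent.Lib.Helper2.DefectZero
import Cfsg.Agent.Lib.Lead.SecondMain
import Cfsg.Prelude.Def_Blocks

set_option autoImplicit false

namespace Cfsg.Agent.Lib.Helper2

open Cfsg

universe u

/-- Conjugates have conjugate `p`-parts (local copy). -/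
theorem isPPart_conj_aux {G : Type u} [Group G] {p : ℕ} {g a : G} (h : IsPPart p g a) (c : G) :
    IsPPart p (c * g * c⁻¹) (c * a * c⁻¹) := by
  obtain ⟨y, hay, hcomm, ⟨k, hk⟩, hy⟩ := h
  refine ⟨c * y * c⁻¹, ?_, ?_, ⟨k, ?_⟩, ?_⟩
  · rw [← hay]; group
  · unfold Commute SemiconjBy
    have := hcomm.eq
    calc c * a * c⁻¹ * (c * y * c⁻¹) = c * (a * y) * c⁻¹ := by group
      _ = c * (y * a) * c⁻¹ := by rw [this]
      _ = c * y * c⁻¹ * (c * a * c⁻¹) := by group
  · rw [← hk]
    exact (MulAut.conj c).orderOf_eq a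
  · have : orderOf (c * y * c⁻¹) = orderOf y := (MulAut.conj c).orderOf_eq y
    rw [this]
    exact hy

/-- The projection of a product of two commuting complementary subgroups onto the second factor,
as an endomorphism. -/
theorem exists_proj_of_complement {E : Type u} [Group E] (P Q : Subgroup E)
    (hcomm : ∀ u ∈ P, ∀ y ∈ Q, u * y = y * u) (hPQ : Subgroup.IsComplement' P Q) :
    ∃ π : E →* E, ∀ e : E, π e ∈ Q ∧ ∃ u ∈ P, u * π e = e := by
  let f : P × Q →* E := MonoidHom.noncommCoprod P.subtype Q.subtype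
    (fun u y => hcomm u u.2 y y.2)
  have hf : Function.Bijective f := hPQ
  let φ : P × Q ≃* E := MulEquiv.ofBijective f hf
  refine ⟨(Q.subtype.comp (MonoidHom.snd P Q)).comp φ.symm.toMonoidHom, ?_⟩
  intro e
  refine ⟨(φ.symm e).2.2, (φ.symm e).1, (φ.symm e).1.2, ?_⟩
  have h1 : φ (φ.symm e) = e := φ.apply_symm_apply e
  exact h1

/-- Consequence of Brauer's characterization of characters: if `θ` is a generalized character then so
is `g ↦ θ (g_{p'})`, where `g_{p'}` is the `p`-regular part of `g`. -/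
theorem isGeneralizedCharacter_pPrimePart {G : Type u} [Group G] [Finite G] (p : ℕ) [Fact p.Prime]
    {θ : G → ℂ} (hθ : IsGeneralizedCharacter G θ) (θ' : G → ℂ)
    (h : ∀ g a : G, IsPPart p g a → θ' g = θ (a⁻¹ * g)) : IsGeneralizedCharacter G θ' := by
  classical
  let _ : Fintype G := Fintype.ofFinite G
  have hcl : IsClassFunction G θ := Cfsg.Agent.Lib.Helper10.genChar_isClassFunction hθ
  apply brauer_characterization
  · -- class function
    intro g c
    obtain ⟨-, -, a, -, ha, -⟩ := Cfsg.Agent.CharLib.exists_ppart_data p g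
    rw [h g a ha, h _ _ (isPPart_conj_aux ha c)]
    have : (c * a * c⁻¹)⁻¹ * (c * g * c⁻¹) = c * (a⁻¹ * g) * c⁻¹ := by group
    rw [this]
    exact hcl _ c
  · -- restriction to elementary subgroups
    intro E q hq hE
    obtain ⟨P, Q, hP, hQ, hcomm, hPQ⟩ := exists_hall_factorization p hq hE
    obtain ⟨π, hπ⟩ := exists_proj_of_complement P Q hcomm hPQ
    have hval : (fun e : E => θ' e) = fun e : E => θ ((π e : E) : G) := by
      funext e
      obtain ⟨hy, u, hu, huy⟩ := hπ e
      have hpp : IsPPart p (e : G) (u : G) := by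
        refine ⟨((π e : E) : G), ?_, ?_, ?_, ?_⟩
        · exact congrArg Subtype.val huy
        · have := hcomm u hu (π e) hy
          exact congrArg Subtype.val this
        · obtain ⟨k, hk⟩ := (IsPGroup.iff_orderOf.mp hP) ⟨u, hu⟩
          refine ⟨k, ?_⟩
          rw [Subgroup.orderOf_mk] at hk
          rw [Subgroup.orderOf_coe]
          exact hk
        · intro hdvd
          have h1 : orderOf (π e) ∣ Nat.card Q := by
            have := orderOf_dvd_natCard (⟨π e, hy⟩ : Q)
            rwa [Subgroup.orderOf_mk] at this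
          rw [Subgroup.orderOf_coe] at hdvd
          exact (Nat.Prime.coprime_iff_not_dvd Fact.out).mp hQ.symm (hdvd.trans h1)
      rw [h _ _ hpp]
      congr 1
      rw [inv_mul_eq_iff_eq_mul]
      exact (congrArg Subtype.val huy).symm
    rw [hval]
    obtain ⟨χ, ψ, ⟨n, ρ, rfl⟩, ⟨m, σ, rfl⟩, rfl⟩ := hθ
    refine ⟨fun e : E => ρ.character ((π e : E) : G), fun e : E => σ.character ((π e : E) : G),
      ⟨n, ρ.comp (E.subtype.comp π), rfl⟩, ⟨m, σ.comp (E.subtype.comp π), rfl⟩, ?_⟩
    funext e
    rfl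

end Cfsg.Agent.Lib.Helper2
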