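/-
helper2 (Brauer–Suzuki for `Q₈`, final assembly): lead's main character theorem applied to the
group-theoretic input of helper29/helper20, and the Brauer–Suzuki theorem for quaternion Sylow
`2`-subgroups of every order.
-/
import Mathlib
import Cfsg.Agent.Lib.Lead.Q8Block10
import Cfsg.Agent.Lib.Helper29.Q8Wrap
import Cfsg.Agent.Lib.Helper29.Q8Induct
import Cfsg.Agent.Lib.Helper6.Knoerr
import Cfsg.Agent.Lib.Helper2.Q8Step
import Cfsg.Agent.Lib.Helper2.QuatCenter

set_option autoImplicit false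

namespace Cfsg.Agent.Lib.Helper2

open Cfsg Cfsg.Agent.CharLib

universe u

section q8

variable {X : Type u} [Group X] [Finite X]

/-- The main character theorem, from the output of `exists_quatFacts`. -/
theorem quat_mct_apply {M : Ideal AlgInt} (hM : IsPModular 2 M) (t u : X) (hQ : QuatFacts X t u)
    (hQC : ∀ (C : Subgroup X), C = Subgroup.centralizer {t} → ∀ (tC uC : C), (tC : X) = t →
      (uC : X) = u → QuatFacts C tC uC) :
    Nat.card (principalBlock M X) = 7 ∧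
    ∃ χ : IrrCharacter X, χ ∈ principalBlock M X ∧ χ ≠ trivIrr X ∧
      ((χ : X → ℂ) t = (χ : X → ℂ) 1 ∨ (χ : X → ℂ) t = -(χ : X → ℂ) 1) := by
  have htC : t ∈ Subgroup.centralizer ({t} : Set X) := by
    rw [Subgroup.mem_centralizer_singleton_iff]
  have huC : u ∈ Subgroup.centralizer ({t} : Set X) := by
    rw [Subgroup.mem_centralizer_singleton_iff, ← hQ.sq_u, mul_assoc]
  exact quat_principal_block hM t u hQ _ rfl ⟨t, htC⟩ ⟨u, huC⟩ rfl rfl
    (hQC _ rfl ⟨t, htC⟩ ⟨u, huC⟩ rfl rfl)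

/-- The principal `2`-block of a group with Sylow `2`-subgroup `Q₈`, `O(X) = 1`, `X ≠ S`. -/
theorem card_principalBlock_of_q8 {M : Ideal AlgInt} (hM : IsPModular 2 M) (S : Sylow 2 X)
    (e : ↥(S : Subgroup X) ≃* QuaternionGroup 2)
    (hO : ∀ N : Subgroup X, N.Normal → Odd (Nat.card N) → N = ⊥) (hG : (S : Subgroup X) ≠ ⊤) :
    Nat.card (principalBlock M X) = 7 := by
  obtain ⟨t, u, -, -, -, -, hQ, hQC⟩ :=
    Cfsg.Agent.Lib.Helper29.Q8Wrap.exists_quatFacts S e hO hG
  exact (quat_mct_apply hM t u hQ hQC).1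

/-- The induction step: a proper normal subgroup containing the involution. -/
theorem exists_proper_normal_of_q8' (S : Sylow 2 X)
    (e : ↥(S : Subgroup X) ≃* QuaternionGroup 2)
    (hO : ∀ N : Subgroup X, N.Normal → Odd (Nat.card N) → N = ⊥) (hG : (S : Subgroup X) ≠ ⊤)
    (t : X) (ht : t ∈ (S : Subgroup X)) (hto : orderOf t = 2) :
    ∃ L : Subgroup X, L.Normal ∧ L ≠ ⊤ ∧ t ∈ L := by
  obtain ⟨M, hM⟩ := Cfsg.Agent.Lib.Helper6.exists_isPModular 2
  obtain ⟨L, hLn, htL, hLtop⟩ := exists_proper_normal_of_q8 S e hO hG (fun t' u hQ hQC => by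
    obtain ⟨-, χ, -, hχ, hval⟩ := quat_mct_apply hM t' u hQ hQC
    exact ⟨χ, hχ, hval⟩) t ht hto
  exact ⟨L, hLn, hLtop, htL⟩

/-- **Brauer–Suzuki** for `Q₈`. -/
theorem brauer_suzuki_q8 (S : Sylow 2 X) (e : ↥(S : Subgroup X) ≃* QuaternionGroup 2)
    (hO : ∀ N : Subgroup X, N.Normal → Odd (Nat.card N) → N = ⊥) :
    Nat.card (Subgroup.center X) = 2 :=
  Cfsg.Agent.Lib.Helper29.Q8Induct.brauer_suzuki_q8_of_step
    (fun _ _ _ S' e' hO' hG' t ht hto => exists_proper_normal_of_q8' S' e' hO' hG' t ht hto)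
    (Nat.card X) X rfl S ⟨e⟩ hO

/-- **Brauer–Suzuki** for generalized quaternion Sylow `2`-subgroups of any order `≥ 8`. -/
theorem brauer_suzuki_all (S : Sylow 2 X) (n : ℕ)
    (e : ↥(S : Subgroup X) ≃* QuaternionGroup (2 ^ (n + 1)))
    (hO : ∀ N : Subgroup X, N.Normal → Odd (Nat.card N) → N = ⊥) :
    Nat.card (Subgroup.center X) = 2 := by
  rcases n with _ | k
  · exact brauer_suzuki_q8 S e hO
  · exact brauer_suzuki_center S k e hO

end q8

end Cfsg.Agent.Lib.Helper2
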