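/-
helper2: Ito's theorem on character degrees.
-/
import Mathlib
import Cfsg.Prelude.Def_Characters
import Cfsg.Agent.Lib.Lead.CharCenter
import Cfsg.Agent.Lib.Lead.CharMore
import Cfsg.Agent.Lib.Helper2.MGroup

set_option autoImplicit false
open scoped ComplexConjugate

namespace Cfsg.Agent.Lib.Helper2

open Cfsg Cfsg.Agent.CharLib Cfsg.Agent.Lib.Helper6 Module

universe u

/-- auxiliary induction statement for Ito's theorem -/
theorem ito_aux (N : ℕ) : ∀ (G : Type u) [Group G] [Fintype G],
    Fintype.card G = N → ∀ χ : G → ℂ, IsIrrCharacter G χ → ∀ (H : Subgroup G) [H.Normal],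
      (∀ a ∈ H, ∀ b ∈ H, a * b = b * a) → ∃ d : ℕ, χ 1 = d ∧ d ∣ H.index := by
  induction N using Nat.strong_induction_on with
  | _ N ih =>
    intro G _ _ hcard χ hχ H hHn hHab
    classical
    have : Fintype H := Fintype.ofFinite H
    have hχc : IsCharacter G χ := IsIrrCharacter.isCharacter hχ
    have hχ1 : χ 1 ≠ 0 := by
      obtain ⟨k, hk, hk1⟩ := IsIrrCharacter.apply_one_pos hχ
      rw [hk1]; exact_mod_cast hk.ne'
    have hres0 : resFun H χ ≠ 0 := by
      intro h
      apply hχ1
      exact congrFun h 1
    obtain ⟨θ, hθ, hθne⟩ := IsCharacter.exists_constituent (isCharacter_resFun H hχc) hres0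
    -- θ is linear since H is abelian
    have hθlin : θ 1 = 1 := by
      have hcomm : ∀ a b : H, a * b = b * a := fun a b => Subtype.ext (hHab a a.2 b b.2)
      exact (comm_iff_forall_irr_apply_one.mp hcomm) ⟨θ, hθ⟩
    set T : Subgroup G := inertia H θ with hT
    have hTmem : ∀ g : G, g ∈ T ↔ conjFun H g θ = θ := fun g => Iff.rfl
    have hHT : H ≤ T := by
      intro a ha
      rw [hTmem]
      exact conjFun_of_mem H (IsCharacter.isClassFunction (IsIrrCharacter.isCharacter hθ)) ha
    by_cases hTtop : T = ⊤
    · -- θ is invariant: H acts by scalars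
      have hinv : ∀ g : G, conjFun H g θ = θ := by
        intro g
        rw [← hTmem, hTtop]; trivial
      have hcl := clifford_of_invariant H hχ hθ hθne hinv
      obtain ⟨n, ρ, hirr, hρ⟩ := hχ
      have hirr' : ρ.IsIrreducible := hirr
      have h1 := congrFun hcl 1
      rw [resFun_apply, Pi.smul_apply, smul_eq_mul, hθlin, mul_one] at h1
      have h1' : χ 1 = classInner (resFun H χ) θ := h1
      have hscal : ∀ z : H, ∃ c : ℂ, ρ (z : G) = c • (1 : Module.End ℂ (Fin n → ℂ)) := by
        intro z
        have hz := congrFun hcl z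
        rw [resFun_apply, Pi.smul_apply, smul_eq_mul, ← h1'] at hz
        have hnorm : ‖θ z‖ = 1 :=
          IsCharacter.norm_eq_one_of_apply_one (IsIrrCharacter.isCharacter hθ) hθlin _
        have hnx : ‖ρ.character (z : G)‖ = (finrank ℂ (Fin n → ℂ) : ℝ) := by
          rw [hρ]
          have hz' : χ (z : G) = χ 1 * θ z := hz
          rw [hz', norm_mul, hnorm, mul_one, ← hρ, Representation.char_one]
          simp
        obtain ⟨ω, hω⟩ := exists_scalar_of_norm_char_eq ρ (z : G) hnx
        exact ⟨ω, by rw [hω]; rfl⟩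
      have hdvd := finrank_dvd_index_of_scalar ρ H hscal
      refine ⟨finrank ℂ (Fin n → ℂ), ?_, hdvd⟩
      rw [← hρ, Representation.char_one]
    · -- induced from the inertia group
      have hFT : Fintype T := Fintype.ofFinite T
      obtain ⟨ψ, hψ, hψind, _⟩ := exists_indFun_inertia_eq hHT hθ hTmem hχ hθne
      have hlt : Fintype.card T < N := by
        rw [← hcard]
        have h1 : Nat.card T < Nat.card G := by
          apply lt_of_le_of_ne (Subgroup.card_le_card_group T)
          intro h
          exact hTtop (Subgroup.card_eq_iff_eq_top T |>.mp h)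
        rwa [Nat.card_eq_fintype_card, Nat.card_eq_fintype_card] at h1
      have hHTn : (H.subgroupOf T).Normal := inferInstance
      have hHTab : ∀ a ∈ H.subgroupOf T, ∀ b ∈ H.subgroupOf T, a * b = b * a := by
        intro a ha b hb
        apply Subtype.ext
        exact hHab a ha b hb
      obtain ⟨d, hd1, hd2⟩ := ih (Fintype.card T) hlt T rfl ψ hψ (H.subgroupOf T) hHTab
      refine ⟨T.index * d, ?_, ?_⟩
      · rw [← hψind, indFun_apply_one, hd1]
        have hTne : (Nat.card T : ℂ) ≠ 0 := by
          exact_mod_cast (Nat.card_pos (α := T)).ne'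
        have hmul : (Nat.card T : ℂ) * (T.index : ℂ) = (Nat.card G : ℂ) := by
          exact_mod_cast Subgroup.card_mul_index T
        rw [← hmul]
        push_cast
        field_simp
      · have h1 : (H.subgroupOf T).index = H.relIndex T := rfl
        rw [h1] at hd2
        have h2 : H.relIndex T * T.index = H.index := Subgroup.relIndex_mul_index hHT
        rw [← h2, mul_comm]
        exact Nat.mul_dvd_mul_right hd2 _

/-- Ito's theorem -/
theorem ito {G : Type u} [Group G] [Finite G] {V : Type*} [AddCommGroup V] [Module ℂ V]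
    [FiniteDimensional ℂ V] (ρ : Representation ℂ G V) [hirr : ρ.IsIrreducible] (H : Subgroup G)
    [H.Normal] (hH : ∀ a ∈ H, ∀ b ∈ H, a * b = b * a) : Module.finrank ℂ V ∣ H.index := by
  classical
  have : Fintype G := Fintype.ofFinite G
  obtain ⟨d, hd1, hd2⟩ := ito_aux (Fintype.card G) G rfl ρ.character
    (isIrrCharacter_of_rep ρ hirr) H hH
  rw [Representation.char_one] at hd1
  have : Module.finrank ℂ V = d := by exact_mod_cast hd1
  rw [this]
  exact hd2

end Cfsg.Agent.Lib.Helper2
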