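import Mathlib

/-!
# Recognising generalised quaternion (dicyclic) groups from generators (helper2 library)

If `t` has order `2n` (`n ≥ 2`), `w * w = t ^ n` and `w * t * w⁻¹ = t⁻¹`, then `⟨t, w⟩` is a copy of
`QuaternionGroup n`.
-/

set_option autoImplicit false

namespace Cfsg.Agent.Lib.Helper2

section QuatGen

variable {G : Type*} [Group G]

/-- powers of `t` indexed by `ZMod m` -/
noncomputable def zmodPow (m : ℕ) (t : G) (i : ZMod m) : G := t ^ (i.cast : ℤ)

theorem zmodPow_eq {m : ℕ} {t : G} (ht : orderOf t = m) (a : ℤ) (i : ZMod m)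
    (h : (a : ZMod m) = i) : t ^ a = zmodPow m t i := by
  unfold zmodPow
  rw [zpow_eq_zpow_iff_modEq, ht, ← ZMod.intCast_eq_intCast_iff, h, ZMod.intCast_zmod_cast]

theorem zmodPow_inj {m : ℕ} {t : G} (ht : orderOf t = m) (i j : ZMod m)
    (h : zmodPow m t i = zmodPow m t j) : i = j := by
  unfold zmodPow at h
  rw [zpow_eq_zpow_iff_modEq, ht, ← ZMod.intCast_eq_intCast_iff] at h
  simpa [ZMod.intCast_zmod_cast] using h

theorem zmodPow_add {m : ℕ} {t : G} (ht : orderOf t = m) (i j : ZMod m) :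
    zmodPow m t (i + j) = zmodPow m t i * zmodPow m t j := by
  rw [← zmodPow_eq ht ((i.cast : ℤ) + (j.cast : ℤ)) (i + j) (by push_cast; simp), zpow_add]
  rfl

theorem zmodPow_neg {m : ℕ} {t : G} (ht : orderOf t = m) (i : ZMod m) :
    zmodPow m t (-i) = (zmodPow m t i)⁻¹ := by
  rw [← zmodPow_eq ht (-(i.cast : ℤ)) (-i) (by push_cast; simp), zpow_neg]
  rfl

theorem zmodPow_sub {m : ℕ} {t : G} (ht : orderOf t = m) (i j : ZMod m) :
    zmodPow m t (i - j) = zmodPow m t i * (zmodPow m t j)⁻¹ := by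
  rw [sub_eq_add_neg, zmodPow_add ht, zmodPow_neg ht]

variable {t w : G} {n : ℕ}

/-- `w` conjugates every power of `t` to its inverse -/
theorem conj_zpow_of_conj_inv (hconj : w * t * w⁻¹ = t⁻¹) (a : ℤ) :
    w * t ^ a * w⁻¹ = (t ^ a)⁻¹ := by
  have h := map_zpow (MulAut.conj w) t a
  simp only [MulAut.conj_apply] at h
  rw [h, hconj, inv_zpow]

theorem zmodPow_mul_w (hconj : w * t * w⁻¹ = t⁻¹) (m : ℕ) (i : ZMod m) :
    zmodPow m t i * w = w * (zmodPow m t i)⁻¹ := by
  unfold zmodPow
  have h := conj_zpow_of_conj_inv hconj (i.cast : ℤ)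
  calc t ^ (i.cast : ℤ) * w = ((t ^ (i.cast : ℤ))⁻¹)⁻¹ * w := by rw [inv_inv]
    _ = (w * t ^ (i.cast : ℤ) * w⁻¹)⁻¹ * w := by rw [h]
    _ = w * (t ^ (i.cast : ℤ))⁻¹ := by group

/-- the map from the abstract quaternion group -/
noncomputable def quatFun (n : ℕ) (t w : G) : QuaternionGroup n → G
  | QuaternionGroup.a i => zmodPow (2 * n) t i
  | QuaternionGroup.xa i => w * zmodPow (2 * n) t i

theorem quatFun_mul (ht : orderOf t = 2 * n) (hw : w * w = t ^ n) (hconj : w * t * w⁻¹ = t⁻¹)
    (x y : QuaternionGroup n) : quatFun n t w (x * y) = quatFun n t w x * quatFun n t w y := by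
  have hwn : w * w = zmodPow (2 * n) t (n : ZMod (2 * n)) := by
    rw [hw, ← zpow_natCast]
    exact zmodPow_eq ht (n : ℤ) _ (by push_cast; rfl)
  cases x with
  | a i =>
    cases y with
    | a j =>
      rw [QuaternionGroup.a_mul_a]
      exact zmodPow_add ht i j
    | xa j =>
      rw [QuaternionGroup.a_mul_xa]
      show w * zmodPow (2 * n) t (j - i) = zmodPow (2 * n) t i * (w * zmodPow (2 * n) t j)
      rw [← mul_assoc, zmodPow_mul_w hconj, sub_eq_neg_add, zmodPow_add ht, zmodPow_neg ht,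
        mul_assoc]
  | xa i =>
    cases y with
    | a j =>
      rw [QuaternionGroup.xa_mul_a]
      show w * zmodPow (2 * n) t (i + j) = w * zmodPow (2 * n) t i * zmodPow (2 * n) t j
      rw [zmodPow_add ht, mul_assoc]
    | xa j =>
      rw [QuaternionGroup.xa_mul_xa]
      show zmodPow (2 * n) t ((n : ZMod (2 * n)) + j - i) =
        w * zmodPow (2 * n) t i * (w * zmodPow (2 * n) t j)
      rw [mul_assoc w, ← mul_assoc (zmodPow (2 * n) t i), zmodPow_mul_w hconj, mul_assoc w,
        ← mul_assoc w w, hwn, add_sub_assoc, zmodPow_add ht, sub_eq_neg_add, zmodPow_add ht,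
        zmodPow_neg ht]

/-- The homomorphism from the abstract quaternion group. -/
noncomputable def quatHom (ht : orderOf t = 2 * n) (hw : w * w = t ^ n)
    (hconj : w * t * w⁻¹ = t⁻¹) : QuaternionGroup n →* G where
  toFun := quatFun n t w
  map_one' := by
    show zmodPow (2 * n) t 0 = 1
    rw [← zmodPow_eq ht 0 0 (by simp), zpow_zero]
  map_mul' := quatFun_mul ht hw hconj

theorem quatHom_injective (hn : 2 ≤ n) (ht : orderOf t = 2 * n) (hw : w * w = t ^ n)
    (hconj : w * t * w⁻¹ = t⁻¹) : Function.Injective (quatHom ht hw hconj) := by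
  -- `w` is not a power of `t`
  have hnot : ∀ i : ZMod (2 * n), w ≠ zmodPow (2 * n) t i := by
    intro i hwi
    have hcomm : w * t = t * w := by
      rw [hwi]
      unfold zmodPow
      exact (Commute.zpow_left (Commute.refl t) _).eq
    have h1 : t = t⁻¹ := by
      rw [← hconj, hcomm, mul_assoc, mul_inv_cancel, mul_one]
    have h2 : t ^ 2 = 1 := by
      rw [pow_two]
      nth_rewrite 1 [h1]
      exact inv_mul_cancel t
    have h3 := orderOf_dvd_of_pow_eq_one h2
    rw [ht] at h3
    have := Nat.le_of_dvd (by norm_num) h3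
    omega
  intro x y hxy
  change quatFun n t w x = quatFun n t w y at hxy
  cases x with
  | a i =>
    cases y with
    | a j =>
      rw [zmodPow_inj ht i j hxy]
    | xa j =>
      exfalso
      change zmodPow (2 * n) t i = w * zmodPow (2 * n) t j at hxy
      apply hnot (i - j)
      rw [zmodPow_sub ht, hxy, mul_assoc, mul_inv_cancel, mul_one]
  | xa i =>
    cases y with
    | a j =>
      exfalso
      change w * zmodPow (2 * n) t i = zmodPow (2 * n) t j at hxy
      apply hnot (j - i)
      rw [zmodPow_sub ht, ← hxy, mul_assoc, mul_inv_cancel, mul_one]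
    | xa j =>
      change w * zmodPow (2 * n) t i = w * zmodPow (2 * n) t j at hxy
      rw [zmodPow_inj ht i j (mul_left_cancel hxy)]

/-- A subgroup isomorphic to the quaternion group `QuaternionGroup n` of order `4 n`. -/
theorem exists_quaternion_subgroup (hn : 2 ≤ n) (ht : orderOf t = 2 * n) (hw : w * w = t ^ n)
    (hconj : w * t * w⁻¹ = t⁻¹) :
    ∃ H : Subgroup G, Nonempty (H ≃* QuaternionGroup n) ∧ Nat.card H = 4 * n := by
  have : NeZero n := ⟨by omega⟩
  refine ⟨(quatHom ht hw hconj).range, ⟨(MonoidHom.ofInjective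
    (quatHom_injective hn ht hw hconj)).symm⟩, ?_⟩
  rw [← Nat.card_congr (MonoidHom.ofInjective (quatHom_injective hn ht hw hconj)).toEquiv,
    Nat.card_eq_fintype_card, QuaternionGroup.card]

end QuatGen

end Cfsg.Agent.Lib.Helper2
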