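/-
helper2: corollaries of the frozen statements of Bender–Glauberman sec. 10–12, part A.
The statement of S1417 (B&G Theorem 12.5) enters as the hypothesis `T125 M`.
-/
import Cfsg.Agent.Lib.Helper1.BGX6
import Cfsg.Agent.Lib.Helper9.TypeP
import Cfsg.Agent.Lib.Helper17.BGTrans3
import Cfsg.Agent.S0033

set_option autoImplicit false
set_option linter.style.haveILetI false

namespace Cfsg.Agent.Lib.Helper2.BGCor

open Cfsg.Agent.Lib.Helper1.BGX
open Cfsg.Agent.Lib.Helper1 (card_subgroupOf_of_le)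

variable {G : Type*} [Group G]

/-- The conclusion of S1417 (B&G Theorem 12.5) for the maximal subgroup `M`. -/
def T125 (M : Subgroup G) : Prop :=
  ∀ (p : ℕ) [Fact p.Prime], p ∈ Cfsg.tau2 M → ∀ A : Subgroup G,
    (A ≤ M ∧ Cfsg.IsElementaryAbelian p A ∧ Nat.card A = p ^ 2) →
    Group.IsNilpotent (Cfsg.sigmaCore M) ∧
      (∀ P : Sylow p M, IsMulCommutative (P : Subgroup M) ∧
        (A ≤ (P : Subgroup M).map M.subtype →
          (∀ x ∈ (P : Subgroup M).map M.subtype, x ^ p = 1 ↔ x ∈ A) ∧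
          ¬ Subgroup.normalizer ((((P : Subgroup M).map M.subtype : Subgroup G)) : Set G) ≤ M)) ∧
      M ≤ Subgroup.normalizer ((Cfsg.sigmaCore M ⊔ A : Subgroup G) : Set G) ∧
      Cfsg.sigmaCore M ⊓ Subgroup.centralizer (A : Set G) = ⊥ ∧
      (∀ Mstar : Subgroup G, IsCoatom Mstar → Mstar ≠ M → A ≤ Mstar → Cfsg.sigmaCore M ⊓ Mstar = ⊥) ∧
      ∃ A₁ : Subgroup G, A₁ ≤ A ∧ Nat.card A₁ = p ∧
        Cfsg.sigmaCore M ⊓ Subgroup.centralizer (A₁ : Set G) = ⊥

theorem sigmaCore_le (M : Subgroup G) : Cfsg.sigmaCore M ≤ M := Subgroup.map_subtype_le _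

/-- `M_σ` is normalized by `M` (elementwise form). -/
theorem conj_mem_sigmaCore {M : Subgroup G} {m : G} (hm : m ∈ M) {y : G}
    (hy : y ∈ Cfsg.sigmaCore M) : m * y * m⁻¹ ∈ Cfsg.sigmaCore M := by
  obtain ⟨y', hy', rfl⟩ := hy
  exact ⟨⟨m, hm⟩ * y' * ⟨m, hm⟩⁻¹, (Cfsg.piCore_normal (Cfsg.sigma M) ↥M).conj_mem y' hy' ⟨m, hm⟩, rfl⟩

theorem primes_card_sigmaCore [Finite G] (M : Subgroup G) :
    ∀ q : ℕ, q.Prime → q ∣ Nat.card (Cfsg.sigmaCore M) → q ∈ Cfsg.sigma M := by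
  intro q hq h
  have hc : Nat.card (Cfsg.sigmaCore M) = Nat.card (Cfsg.piCore (Cfsg.sigma M) ↥M) :=
    Subgroup.card_map_of_injective M.subtype_injective
  rw [hc] at h
  exact Cfsg.Agent.Lib.Helper12.piCore_mem _ q hq h

/-- In a subgroup whose elements commute, the elements of order dividing `p` generate an elementary
abelian group. -/
theorem closure_pow_eq_one_le {S : Subgroup G} (hc : ∀ a ∈ S, ∀ b ∈ S, a * b = b * a) (p : ℕ) :
    ∀ z ∈ Subgroup.closure {x : G | x ∈ S ∧ x ^ p = 1}, z ∈ S ∧ z ^ p = 1 := by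
  intro z hz
  induction hz using Subgroup.closure_induction with
  | mem x hx => exact hx
  | one => exact ⟨S.one_mem, one_pow p⟩
  | mul a b _ _ ha hb =>
    refine ⟨S.mul_mem ha.1 hb.1, ?_⟩
    have hcomm : Commute a b := hc a ha.1 b hb.1
    rw [hcomm.mul_pow, ha.2, hb.2, one_mul]
  | inv a _ ha => exact ⟨S.inv_mem ha.1, by rw [inv_pow, ha.2, inv_one]⟩

/-- Bound for the order of an elementary abelian subgroup of `M`. -/
theorem card_le_of_pRankLE_sub {p k : ℕ} {M Ω : Subgroup G} (hΩM : Ω ≤ M)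
    (hc : ∀ a ∈ Ω, ∀ b ∈ Ω, a * b = b * a) (he : ∀ a ∈ Ω, a ^ p = 1)
    (h : Cfsg.PRankLE p k ↥M) : Nat.card Ω ≤ p ^ k := by
  have h1 := h (Ω.subgroupOf M)
    (isMulCommutative_of_comm (fun a ha b hb => Subtype.ext (hc a ha b hb)))
    (fun a ha => Subtype.ext (he a ha))
  rwa [card_subgroupOf_of_le hΩM] at h1

/-- Sylow subgroups of `M` are conjugate: transport of a "no commuting pair" property. -/
theorem sylow_transport [Finite G] {M : Subgroup G} {p : ℕ} [Fact p.Prime] (P₀ S : Sylow p M)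
    (h : ∀ x : M, x ∈ P₀ → x ≠ 1 → ∀ y ∈ Cfsg.sigmaCore M, y ≠ 1 → (x : G) * y ≠ y * x) :
    ∀ x : M, x ∈ S → x ≠ 1 → ∀ y ∈ Cfsg.sigmaCore M, y ≠ 1 → (x : G) * y ≠ y * x := by
  obtain ⟨g, hg⟩ := MulAction.exists_smul_eq M S P₀
  intro x hx hx1 y hy hy1 hxy
  -- `g x g⁻¹ ∈ P₀`
  have hx' : g * x * g⁻¹ ∈ P₀ := by
    rw [← hg]
    show g * x * g⁻¹ ∈ ((g • S : Sylow p M) : Subgroup M)
    rw [Cfsg.Agent.Lib.Helper1.mem_sylow_smul_iff]
    have : g⁻¹ * (g * x * g⁻¹) * g = x := by group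
    rw [this]; exact hx
  have hx1' : g * x * g⁻¹ ≠ 1 := by
    intro h1
    apply hx1
    have : x = g⁻¹ * (g * x * g⁻¹) * g := by group
    rw [this, h1]; group
  have hy' : (g : G) * y * (g : G)⁻¹ ∈ Cfsg.sigmaCore M := conj_mem_sigmaCore g.2 hy
  have hy1' : (g : G) * y * (g : G)⁻¹ ≠ 1 := by
    intro h1
    apply hy1
    have : y = (g : G)⁻¹ * ((g : G) * y * (g : G)⁻¹) * (g : G) := by group
    rw [this, h1]; group
  apply h (g * x * g⁻¹) hx' hx1' _ hy' hy1'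
  show ((g : G) * (x : G) * ((g : G))⁻¹) * ((g : G) * y * (g : G)⁻¹) = _
  calc ((g : G) * (x : G) * ((g : G))⁻¹) * ((g : G) * y * (g : G)⁻¹)
      = (g : G) * ((x : G) * y) * (g : G)⁻¹ := by group
    _ = (g : G) * (y * (x : G)) * (g : G)⁻¹ := by rw [hxy]
    _ = ((g : G) * y * (g : G)⁻¹) * ((g : G) * (x : G) * ((g : G))⁻¹) := by group

/-- The consequences of `p ∉ κ(M)` when `M` has cyclic Sylow `p`-subgroups. -/
theorem not_kappa_rank_one [Finite G] {M : Subgroup G} {p : ℕ} [Fact p.Prime]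
    (hpM : p ∣ Nat.card M) (hpσ : p ∉ Cfsg.sigma M) (hpκ : p ∉ Cfsg.kappa M)
    (hcyc : ∀ P : Sylow p M, IsCyclic ↥(P : Subgroup M)) (S : Sylow p M) :
    ∀ x : M, x ∈ S → x ≠ 1 → ∀ y ∈ Cfsg.sigmaCore M, y ≠ 1 → (x : G) * y ≠ y * x := by
  have hpp : p.Prime := Fact.out
  have h1 : ∃ P₀ : Sylow p M, ¬ (IsCyclic P₀ ∧
      ∃ x : M, x ∈ (P₀ : Subgroup M) ∧ x ≠ 1 ∧ ∃ y ∈ Cfsg.sigmaCore M, y ≠ 1 ∧ (x : G) * y = y * x) := by
    by_contra hcon
    push Not at hcon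
    exact hpκ ⟨hpp, hpM, hpσ, fun P => hcon P⟩
  obtain ⟨P₀, hP₀⟩ := h1
  apply sylow_transport P₀ S
  intro x hx hx1 y hy hy1 hxy
  exact hP₀ ⟨hcyc P₀, x, hx, hx1, y, hy, hy1, hxy⟩

/-- A fixed-point-free element of order `p` of `M` makes `M_σ` nilpotent (Thompson). -/
theorem sigmaCore_nilpotent_of_fpf [Finite G] {M : Subgroup G} {p : ℕ} (hpp : p.Prime) (x₀ : M)
    (hx₀ : x₀ ^ p = 1)
    (hfpf : ∀ y ∈ Cfsg.sigmaCore M, y ≠ 1 → (x₀ : G) * y ≠ y * x₀) :
    Group.IsNilpotent ↥(Cfsg.sigmaCore M) := by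
  set N : Subgroup ↥M := Cfsg.piCore (Cfsg.sigma M) ↥M with hN
  haveI : N.Normal := Cfsg.piCore_normal _ _
  have hnil : Group.IsNilpotent ↥N := by
    by_cases hsub : Subsingleton ↥N
    · infer_instance
    set φ : ↥N ≃* ↥N := MulAut.conjNormal x₀ with hφ
    have hfix : MonoidHom.FixedPointFree ((φ : ↥N ≃* ↥N) : ↥N →* ↥N) := by
      intro y hy
      have h1 : ((φ y : ↥N) : ↥M) = (y : ↥M) := congrArg Subtype.val hy
      rw [hφ, MulAut.conjNormal_apply] at h1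
      have h2 : (x₀ : G) * ((y : ↥M) : G) * ((x₀ : G))⁻¹ = ((y : ↥M) : G) := by
        have := congrArg Subtype.val h1
        simpa using this
      by_contra hy1
      have hyG : ((y : ↥M) : G) ∈ Cfsg.sigmaCore M := ⟨(y : ↥M), y.2, rfl⟩
      have hyG1 : ((y : ↥M) : G) ≠ 1 := by
        intro h
        apply hy1
        apply Subtype.ext
        apply Subtype.ext
        simpa using h
      apply hfpf _ hyG hyG1
      calc (x₀ : G) * ((y : ↥M) : G) = ((x₀ : G) * ((y : ↥M) : G) * ((x₀ : G))⁻¹) * (x₀ : G) := by group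
        _ = ((y : ↥M) : G) * (x₀ : G) := by rw [h2]
    have hpow : φ ^ p = 1 := by
      rw [hφ, ← map_pow, hx₀, map_one]
    have hne : φ ≠ 1 := by
      intro h1
      apply hsub
      refine ⟨fun a b => ?_⟩
      have ha : a = 1 := hfix a (by rw [h1]; rfl)
      have hb : b = 1 := hfix b (by rw [h1]; rfl)
      rw [ha, hb]
    have hord : orderOf φ = p := by
      have hd : orderOf φ ∣ p := orderOf_dvd_of_pow_eq_one hpow
      rcases (Nat.dvd_prime hpp).mp hd with h | h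
      · exact absurd (orderOf_eq_one_iff.mp h) hne
      · exact h
    exact Cfsg.Agent.S0033.result φ hfix p hpp hord
  haveI := hnil
  exact Group.nilpotent_of_mulEquiv (N.equivMapOfInjective M.subtype M.subtype_injective)

/-- Conjugating a subgroup of `M` into a prescribed Sylow subgroup of `M`. -/
theorem exists_conj_le_sylow [Finite G] {M : Subgroup G} {p : ℕ} [Fact p.Prime] (S : Sylow p M)
    {A₀ : Subgroup G} (hA₀M : A₀ ≤ M) (hA₀ : IsPGroup p A₀) :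
    ∃ g ∈ M, A₀.map (MulAut.conj g).toMonoidHom ≤ (S : Subgroup M).map M.subtype := by
  obtain ⟨P₁, hP₁⟩ := exists_sylow_in_ge hA₀M hA₀
  obtain ⟨g, hg⟩ := MulAction.exists_smul_eq M P₁ S
  refine ⟨g, g.2, ?_⟩
  rintro _ ⟨a, ha, rfl⟩
  obtain ⟨a', ha', rfl⟩ := hP₁ ha
  refine ⟨g * a' * g⁻¹, ?_, rfl⟩
  rw [← hg]
  show g * a' * g⁻¹ ∈ ((g • P₁ : Sylow p M) : Subgroup M)
  rw [Cfsg.Agent.Lib.Helper1.mem_sylow_smul_iff]
  have : g⁻¹ * (g * a' * g⁻¹) * g = a' := by group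
  rw [this]; exact ha'

theorem elemAb_map_conj {p : ℕ} {A₀ : Subgroup G} (h : Cfsg.IsElementaryAbelian p A₀) (g : G) :
    Cfsg.IsElementaryAbelian p (A₀.map (MulAut.conj g).toMonoidHom) := by
  refine ⟨isMulCommutative_of_comm ?_, ?_⟩
  · rintro _ ⟨a, ha, rfl⟩ _ ⟨b, hb, rfl⟩
    have hab : a * b = b * a := comm_of_isMulCommutative h.1 a ha b hb
    show (MulAut.conj g) a * (MulAut.conj g) b = (MulAut.conj g) b * (MulAut.conj g) a
    rw [← map_mul, ← map_mul, hab]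
  · rintro _ ⟨a, ha, rfl⟩
    show ((MulAut.conj g) a) ^ p = 1
    rw [← map_pow, h.2 a ha, map_one]

/-- **S1429** from the statement of S1417. -/
theorem s1429_core [Finite G] (hG : Cfsg.IsMinSimpleOddOrder G) (hU : UT G)
    {M : Subgroup G} (hM : IsCoatom M) (h125 : T125 M)
    (p : ℕ) [Fact p.Prime] (hpM : p ∣ Nat.card M) (hp : p ∉ Cfsg.sigma M ∪ Cfsg.kappa M)
    (S : Sylow p M) :
    Nat.card ↥(Subgroup.closure {x : G | x ∈ (S : Subgroup M).map M.subtype ∧ x ^ p = 1}) ≤ p ^ 2 ∧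
      Cfsg.sigmaCore M ⊓ Subgroup.centralizer ((Subgroup.closure
        {x : G | x ∈ (S : Subgroup M).map M.subtype ∧ x ^ p = 1} : Subgroup G) : Set G) = ⊥ ∧
      Group.IsNilpotent (Cfsg.sigmaCore M) := by
  have hpp : p.Prime := Fact.out
  have hpσ : p ∉ Cfsg.sigma M := fun h => hp (Or.inl h)
  have hpκ : p ∉ Cfsg.kappa M := fun h => hp (Or.inr h)
  have hr2 : Cfsg.PRankLE p 2 M := by
    by_contra h
    exact hpσ (alpha_subset_sigma hG hU hM ⟨hpp, h⟩)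
  set S' : Subgroup G := (S : Subgroup M).map M.subtype with hS'
  have hS'M : S' ≤ M := Subgroup.map_subtype_le _
  set Ω : Subgroup G := Subgroup.closure {x : G | x ∈ S' ∧ x ^ p = 1} with hΩ
  by_cases hr1 : Cfsg.PRankLE p 1 M
  · -- cyclic Sylow subgroups
    have hp2 : p ≠ 2 := ne_two_of_dvd_sub hG.1 hpM
    have hcyc : ∀ P : Sylow p M, IsCyclic ↥(P : Subgroup M) := fun P =>
      Cfsg.Agent.Lib.Helper17.isCyclic_of_pRankLE_one hp2 hr1 (P : Subgroup M) P.isPGroup'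
    have hfree := not_kappa_rank_one hpM hpσ hpκ hcyc S
    -- commutativity of `S'`
    have hcomm : ∀ a ∈ S', ∀ b ∈ S', a * b = b * a := by
      rintro _ ⟨a, ha, rfl⟩ _ ⟨b, hb, rfl⟩
      haveI := hcyc S
      have h1 : (⟨a, ha⟩ : ↥(S : Subgroup M)) * ⟨b, hb⟩ = ⟨b, hb⟩ * ⟨a, ha⟩ :=
        (IsCyclic.commGroup (α := ↥(S : Subgroup M))).mul_comm _ _
      have h2 : a * b = b * a := congrArg Subtype.val h1
      exact congrArg Subtype.val h2
    have hΩprop := closure_pow_eq_one_le hcomm p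
    have hΩM : Ω ≤ M := fun z hz => hS'M (hΩprop z hz).1
    -- an element of order `p` in `S`
    have hdvd : p ∣ Nat.card ↥(S : Subgroup M) := by
      rw [S.card_eq_multiplicity]
      have hpos : 0 < (Nat.card ↥M).factorization p :=
        hpp.factorization_pos_of_dvd Nat.card_pos.ne' hpM
      exact dvd_pow_self p hpos.ne'
    obtain ⟨x₀, hx₀⟩ := exists_prime_orderOf_dvd_card' p hdvd
    have hx₀p : (x₀ : M) ^ p = 1 := by
      have := pow_orderOf_eq_one x₀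
      rw [hx₀] at this
      exact congrArg Subtype.val this
    have hx₀1 : (x₀ : M) ≠ 1 := by
      intro h
      have : x₀ = 1 := Subtype.ext h
      rw [this, orderOf_one] at hx₀
      exact hpp.one_lt.ne hx₀
    have hx₀Ω : ((x₀ : M) : G) ∈ Ω := by
      apply Subgroup.subset_closure
      refine ⟨⟨(x₀ : M), x₀.2, rfl⟩, ?_⟩
      have := congrArg Subtype.val hx₀p
      simpa using this
    have hfpf : ∀ y ∈ Cfsg.sigmaCore M, y ≠ 1 → ((x₀ : M) : G) * y ≠ y * ((x₀ : M) : G) :=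
      fun y hy hy1 => hfree (x₀ : M) x₀.2 hx₀1 y hy hy1
    refine ⟨?_, ?_, ?_⟩
    · exact card_le_of_pRankLE_sub hΩM (fun a ha b hb => hcomm a (hΩprop a ha).1 b (hΩprop b hb).1)
        (fun a ha => (hΩprop a ha).2) hr2
    · rw [Subgroup.eq_bot_iff_forall]
      rintro z ⟨hzσ, hzc⟩
      by_contra hz1
      apply hfpf z hzσ hz1
      exact Subgroup.mem_centralizer_iff.mp hzc _ hx₀Ω
    · exact sigmaCore_nilpotent_of_fpf hpp (x₀ : M) hx₀p hfpf
  · -- `p ∈ τ₂(M)`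
    have hτ : p ∈ Cfsg.tau2 M := ⟨hpp, hpσ, hr2, hr1⟩
    obtain ⟨A₀, hA₀M, hA₀e, hA₀c⟩ := exists_elemAb_sq_of_rank_two hr2 hr1
    obtain ⟨g, hgM, hgS⟩ := exists_conj_le_sylow S hA₀M (isPGroup_of_elemAb hA₀e)
    set A : Subgroup G := A₀.map (MulAut.conj g).toMonoidHom with hA
    have hAM : A ≤ M := hgS.trans hS'M
    have hAe : Cfsg.IsElementaryAbelian p A := elemAb_map_conj hA₀e g
    have hAc : Nat.card A = p ^ 2 := by
      rw [hA, Subgroup.card_map_of_injective (MulAut.conj g).injective, hA₀c]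
    obtain ⟨hnil, hSyl, -, hcent, -, -⟩ := h125 p hτ A ⟨hAM, hAe, hAc⟩
    obtain ⟨-, hS2⟩ := hSyl S
    obtain ⟨hiff, -⟩ := hS2 hgS
    have hΩA : Ω = A := by
      apply le_antisymm
      · rw [hΩ, Subgroup.closure_le]
        rintro x ⟨hx, hxp⟩
        exact (hiff x hx).mp hxp
      · intro a ha
        exact Subgroup.subset_closure ⟨hgS ha, (hiff a (hgS ha)).mpr ha⟩
    refine ⟨?_, ?_, hnil⟩
    · rw [hΩA, hAc]
    · rw [hΩA]; exact hcent

end Cfsg.Agent.Lib.Helper2.BGCor
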