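/-
helper2: corollaries of the frozen statements of Bender–Glauberman sec. 10–12, part C:
a complement to `M_σ` in `M`, and the Sylow subgroups of `U` (S1358) from the statement of S1420(a).
-/
import Cfsg.Agent.Lib.Helper2.BGCorA
import Cfsg.Agent.Lib.Helper23.BGY1
import Mathlib.GroupTheory.SchurZassenhaus

set_option autoImplicit false
set_option linter.style.haveILetI false

namespace Cfsg.Agent.Lib.Helper2.BGCor

open Cfsg.Agent.Lib.Helper1.BGX

variable {G : Type*} [Group G]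

theorem sigmaCore_relIndex (M : Subgroup G) :
    (Cfsg.sigmaCore M).relIndex M = (Cfsg.piCore (Cfsg.sigma M) ↥M).index := by
  unfold Subgroup.relIndex Cfsg.sigmaCore Subgroup.subgroupOf
  rw [Subgroup.comap_map_eq_self_of_injective M.subtype_injective]

/-- Schur–Zassenhaus: `M_σ` has a complement in `M` once it is a Hall subgroup. -/
theorem exists_compl_sigmaCore [Finite G] {M : Subgroup G}
    (hHall : Cfsg.IsPiHallOf (Cfsg.sigma M) (Cfsg.sigmaCore M) M) :
    ∃ E : Subgroup G, Cfsg.IsComplIn E (Cfsg.sigmaCore M) M := by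
  obtain ⟨-, hpr, hidx⟩ := hHall
  set N : Subgroup ↥M := Cfsg.piCore (Cfsg.sigma M) ↥M with hN
  have hcop : Nat.Coprime (Nat.card N) N.index := by
    apply Nat.coprime_of_dvd
    intro r hr hrN hrI
    have hc : Nat.card (Cfsg.sigmaCore M) = Nat.card N :=
      Subgroup.card_map_of_injective M.subtype_injective
    have h1 : r ∈ Cfsg.sigma M := hpr r hr (by rw [hc]; exact hrN)
    have h2 := hidx r hr h1
    rw [sigmaCore_relIndex] at h2
    exact h2 hrI
  obtain ⟨H, hH⟩ := Subgroup.exists_left_complement'_of_coprime hcop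
  refine ⟨H.map M.subtype, Subgroup.map_subtype_le _, sigmaCore_le M, ?_, ?_⟩
  · rw [Subgroup.eq_bot_iff_forall]
    rintro x ⟨⟨h, hh, rfl⟩, ⟨n, hn, hnx⟩⟩
    have hnh : n = h := Subtype.ext hnx
    have h1 : h ∈ H ⊓ N := ⟨hh, hnh ▸ hn⟩
    rw [hH.disjoint.eq_bot, Subgroup.mem_bot] at h1
    rw [h1]; rfl
  · intro m hm
    obtain ⟨⟨h, n⟩, hhn⟩ := hH.2 ⟨m, hm⟩
    refine ⟨(h : ↥M), ⟨h, h.2, rfl⟩, (n : ↥M), ⟨n, n.2, rfl⟩, ?_⟩
    have : ((h : ↥M) : G) * ((n : ↥M) : G) = m := congrArg Subtype.val hhn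
    exact this.symm

/-- **S1358** from Hall-ness of `M_σ` and S1420(a). -/
theorem s1358_core [Finite G] (hG : Cfsg.IsMinSimpleOddOrder G) (hU : UT G)
    {M : Subgroup G} (hM : IsCoatom M)
    (hHall : Cfsg.IsPiHallOf (Cfsg.sigma M) (Cfsg.sigmaCore M) M)
    (h126 : ∀ N : Subgroup G, N ≤ M → Group.IsNilpotent N →
      (∀ p : ℕ, p.Prime → p ∣ Nat.card N → p ∉ Cfsg.sigma M) → IsMulCommutative N)
    {K U : Subgroup G} (hKU : Cfsg.IsSigmaDecomposition M K U) :
    ∀ (p : ℕ), p.Prime → ∀ P : Sylow p U,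
      IsMulCommutative (P : Subgroup U) ∧ Cfsg.PRankLE p 2 (P : Subgroup U) := by
  obtain ⟨hUM, -, hUK, -⟩ := hKU.compl
  set S : Subgroup ↥M := Cfsg.piCore (Cfsg.sigma M) ↥M with hS
  have hUS : U ⊓ S.map M.subtype = ⊥ := by
    rw [eq_bot_iff, ← hUK]
    exact inf_le_inf_left U le_sup_right
  -- `|U|` divides `|M : M_σ|`
  have hcardU : Nat.card U ∣ S.index := by
    have hinj := Cfsg.Agent.Lib.Helper23.BGY.complHom_injective S hUM hUS
    have := Subgroup.card_dvd_of_injective _ hinj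
    rwa [← Subgroup.index_eq_card] at this
  have hUσ : ∀ p : ℕ, p.Prime → p ∣ Nat.card U → p ∉ Cfsg.sigma M := by
    intro p hp hd hpσ
    have h2 := hHall.2.2 p hp hpσ
    rw [sigmaCore_relIndex] at h2
    exact h2 (hd.trans hcardU)
  intro p hp P
  haveI : Fact p.Prime := ⟨hp⟩
  by_cases hd : p ∣ Nat.card U
  · have hpσ : p ∉ Cfsg.sigma M := hUσ p hp hd
    set P' : Subgroup G := ((P : Subgroup U).map U.subtype) with hP'
    have hP'U : P' ≤ U := Subgroup.map_subtype_le _
    have hP'M : P' ≤ M := hP'U.trans hUM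
    have hP'p : IsPGroup p P' := P.isPGroup'.map _
    have hcomm : IsMulCommutative P' := by
      apply h126 P' hP'M hP'p.isNilpotent
      intro q hq hqd
      obtain ⟨n, hn⟩ := IsPGroup.iff_card.mp hP'p
      rw [hn] at hqd
      have : q = p := (Nat.prime_dvd_prime_iff_eq hq hp).mp (hq.dvd_of_dvd_pow hqd)
      rw [this]; exact hpσ
    refine ⟨?_, ?_⟩
    · refine ⟨⟨fun a b => ?_⟩⟩
      have h1 : ((a : ↥U) : G) * ((b : ↥U) : G) = ((b : ↥U) : G) * ((a : ↥U) : G) :=
        comm_of_isMulCommutative hcomm _ ⟨_, a.2, rfl⟩ _ ⟨_, b.2, rfl⟩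
      exact Subtype.ext (Subtype.ext h1)
    · have hr2 : Cfsg.PRankLE p 2 M := by
        by_contra h
        exact hpσ (alpha_subset_sigma hG hU hM ⟨hp, h⟩)
      let f : ↥(P : Subgroup ↥U) →* ↥M :=
        (Subgroup.inclusion hUM).comp (P : Subgroup ↥U).subtype
      have hf : Function.Injective f := by
        intro a b hab
        have h0 : ((f a : ↥M) : G) = ((f b : ↥M) : G) := congrArg Subtype.val hab
        have h1 : ((a : ↥U) : G) = ((b : ↥U) : G) := h0
        exact Subtype.ext (Subtype.ext h1)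
      exact Cfsg.Agent.Lib.Helper9.pRankLE_of_injective f hf p 2 hr2
  · have h1 : Nat.card (P : Subgroup ↥U) = 1 := by
      rw [P.card_eq_multiplicity, Nat.factorization_eq_zero_of_not_dvd hd, pow_zero]
    haveI : Subsingleton ↥(P : Subgroup ↥U) := (Nat.card_eq_one_iff_unique.mp h1).1
    refine ⟨?_, ?_⟩
    · refine ⟨⟨fun a b => ?_⟩⟩
      rw [Subsingleton.elim a b]
    · intro A _ _
      have : Nat.card A = 1 := by
        haveI : Subsingleton ↥A := ⟨fun a b => Subtype.ext (Subsingleton.elim _ _)⟩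
        exact Nat.card_unique
      rw [this]
      exact Nat.one_le_pow _ _ hp.pos

end Cfsg.Agent.Lib.Helper2.BGCor
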