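/-
helper2: corollaries of the frozen statements of Bender–Glauberman, part D:
`M_σ ≠ 1`, and the consequences of the statement of S1430 (B&G Theorem 14.2(a),(c)) for the
standard factorisation (S1352, S1353, S1354).
-/
import Cfsg.Agent.Lib.Helper2.BGCorC
import Cfsg.Agent.Lib.Helper17.BGUniqC
import Cfsg.Agent.Lib.Helper1.Hall
import Cfsg.Agent.S1451

set_option autoImplicit false
set_option linter.style.haveILetI false

namespace Cfsg.Agent.Lib.Helper2.BGCor

open Cfsg.Agent.Lib.Helper1.BGX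
open Cfsg.Agent.Lib.Helper1 (card_subgroupOf_of_le)

variable {G : Type*} [Group G]

/-- A maximal subgroup of a minimal simple group is not trivial. -/
theorem coatom_ne_bot [Finite G] (hG : Cfsg.IsMinSimpleOddOrder G) {M : Subgroup G}
    (hM : IsCoatom M) : M ≠ ⊥ := by
  intro hbot
  apply hG.2.2.1
  -- every nonidentity element generates `G`
  haveI := hG.2.1
  obtain ⟨x, hx⟩ := exists_ne (1 : G)
  have hz : Subgroup.zpowers x = ⊤ := by
    by_contra hne
    have hlt : (⊥ : Subgroup G) < Subgroup.zpowers x := by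
      rw [bot_lt_iff_ne_bot]
      intro h
      exact hx (Subgroup.zpowers_eq_bot.mp h)
    rw [← hbot] at hlt
    exact hne (hM.2 _ hlt)
  refine ⟨⟨fun a b => ?_⟩⟩
  have ha : a ∈ Subgroup.zpowers x := by rw [hz]; trivial
  have hb : b ∈ Subgroup.zpowers x := by rw [hz]; trivial
  obtain ⟨m, rfl⟩ := ha
  obtain ⟨n, rfl⟩ := hb
  exact (Commute.zpow_zpow_self x m n).eq

/-- `σ(M)` contains a prime: `M_σ ≠ 1`. -/
theorem sigmaCore_ne_bot [Finite G] (hG : Cfsg.IsMinSimpleOddOrder G) (hU : UT G)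
    {M : Subgroup G} (hM : IsCoatom M)
    (hHall : Cfsg.IsPiHallOf (Cfsg.sigma M) (Cfsg.sigmaCore M) M) :
    Cfsg.sigmaCore M ≠ ⊥ := by
  haveI := hG.2.1
  -- it suffices to find a prime in `σ(M)`
  have key : ∀ p : ℕ, p ∈ Cfsg.sigma M → Cfsg.sigmaCore M ≠ ⊥ := by
    intro p hp hbot
    have hpp := hp.1
    have hpM := hp.2.1
    have h2 := hHall.2.2 p hpp hp
    apply h2
    rw [hbot, Subgroup.relIndex_bot_left]
    exact hpM
  by_cases hα : ∃ p, p ∈ Cfsg.alpha M
  · obtain ⟨p, hp⟩ := hα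
    haveI : Fact p.Prime := ⟨hp.1⟩
    exact key p (alpha_subset_sigma hG hU hM hp)
  · push Not at hα
    have hrk : Cfsg.RankLE 2 ↥M := by
      intro p hp
      by_contra h
      exact hα p ⟨hp, h⟩
    haveI hsol : Group.IsSolvable ↥M := hG.2.2.2 M hM.1
    have hodd : Odd (Nat.card ↥M) := odd_card_subgroup hG.1 M
    have hMne := coatom_ne_bot hG hM
    have hcard : Nat.card ↥M ≠ 1 := fun h => hMne (Subgroup.card_eq_one.mp h)
    -- the largest prime divisor `q₀` of `|M|`
    have hne : (Nat.card ↥M).primeFactors.Nonempty := by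
      obtain ⟨p, hp, hpd⟩ := Nat.exists_prime_and_dvd hcard
      exact ⟨p, Nat.mem_primeFactors.mpr ⟨hp, hpd, Nat.card_pos.ne'⟩⟩
    set q₀ := (Nat.card ↥M).primeFactors.max' hne with hq₀
    have hq₀mem : q₀ ∈ (Nat.card ↥M).primeFactors := Finset.max'_mem _ hne
    have hq₀p : q₀.Prime := (Nat.mem_primeFactors.mp hq₀mem).1
    have hq₀d : q₀ ∣ Nat.card ↥M := (Nat.mem_primeFactors.mp hq₀mem).2.1
    have hq₀max : ∀ r : ℕ, r.Prime → r ∣ Nat.card ↥M → r ≤ q₀ := fun r hr hrd =>
      Finset.le_max' _ r (Nat.mem_primeFactors.mpr ⟨hr, hrd, Nat.card_pos.ne'⟩)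
    haveI : Fact q₀.Prime := ⟨hq₀p⟩
    obtain ⟨N, hNchar, hNπ, hNidx⟩ := (Cfsg.Agent.S1451.result hodd (Or.inl hrk)).2.2 (q₀ - 1)
    haveI hNn : N.Normal := by
      haveI := hNchar
      infer_instance
    -- `N` is a `q₀`-group
    have hNq : IsPGroup q₀ ↥N := by
      have hcN : ∀ r : ℕ, r.Prime → r ∣ Nat.card ↥N → r = q₀ := by
        intro r hr hrd
        have h1 := (hNπ r hr hrd).2
        have h2 := hq₀max r hr (hrd.trans (Subgroup.card_subgroup_dvd_card N))
        have h3 : 1 ≤ q₀ := hq₀p.one_lt.le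
        omega
      have hpos : Nat.card ↥N ≠ 0 := Nat.card_pos.ne'
      have hpow := Nat.eq_prime_pow_of_unique_prime_dvd hpos (fun {r} hr hrd => hcN r hr hrd)
      exact IsPGroup.of_card hpow
    -- a Sylow subgroup containing `N` equals `N`
    obtain ⟨P, hNP⟩ := hNq.exists_le_sylow
    have hPN : (P : Subgroup ↥M) = N := by
      symm
      apply Subgroup.eq_of_le_of_card_ge hNP
      -- `|P| ∣ |N|` as `|P : N|` is a `q₀`-power dividing the index of `N`
      have h1 : N.relIndex (P : Subgroup ↥M) ∣ N.index :=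
        Subgroup.relIndex_dvd_index_of_normal N (P : Subgroup ↥M)
      have h2 : N.relIndex (P : Subgroup ↥M) * Nat.card ↥N = Nat.card ↥(P : Subgroup ↥M) := by
        rw [mul_comm]; exact (Cfsg.Agent.Lib.Helper9.card_eq_card_mul_relIndex hNP).symm
      have h3 : N.relIndex (P : Subgroup ↥M) = 1 := by
        by_contra hne1
        obtain ⟨r, hr, hrd⟩ := Nat.exists_prime_and_dvd hne1
        have hrP : r ∣ Nat.card ↥(P : Subgroup ↥M) := by rw [← h2]; exact hrd.mul_right _
        obtain ⟨n, hn⟩ := IsPGroup.iff_card.mp P.isPGroup'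
        rw [hn] at hrP
        have hrq : r = q₀ := (Nat.prime_dvd_prime_iff_eq hr hq₀p).mp (hr.dvd_of_dvd_pow hrP)
        have h4 : q₀ ∣ N.index := hrq ▸ (hrd.trans h1)
        exact hNidx q₀ hq₀p ⟨hq₀p, by have := hq₀p.one_lt; omega⟩ h4
      rw [← h2, h3, one_mul]
    -- so `q₀ ∈ σ(M)`
    apply key q₀
    refine ⟨hq₀p, hq₀d, P, ?_⟩
    have hne' : (P : Subgroup ↥M).map M.subtype ≠ ⊥ := by
      intro h
      have h1 : Nat.card ↥((P : Subgroup ↥M).map M.subtype) = 1 := by rw [h]; exact Subgroup.card_bot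
      rw [Subgroup.card_map_of_injective M.subtype_injective, P.card_eq_multiplicity] at h1
      have hpos : 0 < (Nat.card ↥M).factorization q₀ :=
        hq₀p.factorization_pos_of_dvd Nat.card_pos.ne' hq₀d
      have : 1 < q₀ ^ (Nat.card ↥M).factorization q₀ := Nat.one_lt_pow hpos.ne' hq₀p.one_lt
      omega
    have hMn : M ≤ Subgroup.normalizer (((P : Subgroup ↥M).map M.subtype : Subgroup G) : Set G) := by
      have h := Subgroup.le_normalizer_map (H := (P : Subgroup ↥M)) M.subtype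
      rw [hPN, Subgroup.normalizer_eq_top, ← MonoidHom.range_eq_map, Subgroup.range_subtype] at h
      rw [hPN]; exact h
    exact le_of_eq (Cfsg.Agent.Lib.Helper17.BGU.normalizer_eq_of_coatom hM
      (Subgroup.map_subtype_le _) hne' hMn)

end Cfsg.Agent.Lib.Helper2.BGCor
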