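/-
helper2: corollaries of the frozen statements of Bender–Glauberman, part E:
the consequences of the statement of S1430 (B&G Theorem 14.2(a),(c)) for the standard
factorisation `M = K U M_σ` (S1352, S1353, S1354).
-/
import Cfsg.Agent.Lib.Helper2.BGCorD

set_option autoImplicit false
set_option linter.style.haveILetI false

namespace Cfsg.Agent.Lib.Helper2.BGCor

open Cfsg.Agent.Lib.Helper1.BGX
open Cfsg.Agent.Lib.Helper1 (card_subgroupOf_of_le)
open Pointwise

variable {G : Type*} [Group G]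

/-- The conclusion of S1430 for `M` and its Hall `κ(M)`-subgroup `K`. -/
def T142 (M K : Subgroup G) : Prop :=
  (∀ k ∈ K, k ≠ 1 → Cfsg.sigmaCore M ⊓ Subgroup.centralizer ({k} : Set G) =
      (Cfsg.sigmaCore M ⊓ Subgroup.centralizer (K : Set G))) ∧
    (∃ U : Subgroup G, IsMulCommutative U ∧
      Cfsg.IsPiHallOf {q | q.Prime ∧ q ∉ Cfsg.kappa M ∧ q ∉ Cfsg.sigma M} U M ∧
      K ≤ Subgroup.normalizer (U : Set G) ∧
      ∀ k ∈ K, k ≠ 1 → U ⊓ Subgroup.centralizer ({k} : Set G) = ⊥) ∧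
    ∀ X : Subgroup G, X ≤ K → (Nat.card X).Prime →
      M ⊓ Subgroup.normalizer (X : Set G) =
          K ⊔ (Cfsg.sigmaCore M ⊓ Subgroup.centralizer (K : Set G)) ∧
        M ⊓ Subgroup.normalizer (K : Set G) =
          K ⊔ (Cfsg.sigmaCore M ⊓ Subgroup.centralizer (K : Set G)) ∧
        ∀ Mstar : Subgroup G, IsCoatom Mstar → Subgroup.normalizer (X : Set G) ≤ Mstar →
          X ≤ Cfsg.sigmaCore Mstar

/-- A nonidentity element of a finite group has a power of prime order. -/
theorem exists_pow_prime_order [Finite G] {k : G} (hk : k ≠ 1) :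
    ∃ j : ℕ, (Nat.card (Subgroup.zpowers (k ^ j))).Prime := by
  have h1 : orderOf k ≠ 1 := fun h => hk (orderOf_eq_one_iff.mp h)
  obtain ⟨p, hp, hpd⟩ := Nat.exists_prime_and_dvd h1
  refine ⟨orderOf k / p, ?_⟩
  rw [Nat.card_zpowers, orderOf_pow_orderOf_div (orderOf_pos k).ne' hpd]
  exact hp

/-- An element commuting with `k` normalizes the subgroup generated by a power of `k`. -/
theorem mem_normalizer_zpowers_pow {k u : G} (h : u * k = k * u) (j : ℕ) :
    u ∈ Subgroup.normalizer ((Subgroup.zpowers (k ^ j) : Subgroup G) : Set G) := by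
  apply Subgroup.centralizer_le_normalizer
  rw [Subgroup.mem_centralizer_iff]
  intro h' hh'
  obtain ⟨n, rfl⟩ := hh'
  have hc : Commute u k := h
  exact ((hc.pow_right j).zpow_right n).eq.symm

/-- **S1353** from the statement of S1430. -/
theorem s1353_core [Finite G] {M K U : Subgroup G} (h : T142 M K)
    (hKU : Cfsg.IsSigmaDecomposition M K U) :
    ∀ k ∈ K, k ≠ 1 → U ⊓ Subgroup.centralizer ({k} : Set G) = ⊥ := by
  intro k hk hk1
  rw [Subgroup.eq_bot_iff_forall]
  rintro u ⟨huU, huC⟩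
  obtain ⟨hUM, -, hUK, -⟩ := hKU.compl
  obtain ⟨j, hj⟩ := exists_pow_prime_order hk1
  have hXK : Subgroup.zpowers (k ^ j) ≤ K := by
    rw [Subgroup.zpowers_le]; exact K.pow_mem hk j
  have hN := (h.2.2 _ hXK hj).1
  have huk : u * k = k * u := by
    have := Subgroup.mem_centralizer_iff.mp huC k (Set.mem_singleton k)
    exact this.symm
  have h1 : u ∈ M ⊓ Subgroup.normalizer ((Subgroup.zpowers (k ^ j) : Subgroup G) : Set G) :=
    ⟨hUM huU, mem_normalizer_zpowers_pow huk j⟩
  rw [hN] at h1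
  have h2 : u ∈ K ⊔ Cfsg.sigmaCore M :=
    (sup_le_sup_left inf_le_left K) h1
  have h3 : u ∈ U ⊓ (K ⊔ Cfsg.sigmaCore M) := ⟨huU, h2⟩
  rwa [hUK, Subgroup.mem_bot] at h3

/-- Elements of `κ(M)`-power order are conjugate into a Hall `κ(M)`-subgroup: a nonidentity
element of `K` centralizing a nonidentity element of `M_σ`. -/
theorem exists_mem_hall_kappa_commuting [Finite G] (hG : Cfsg.IsMinSimpleOddOrder G)
    {M : Subgroup G} (hM : IsCoatom M) {K : Subgroup G}
    (hK : Cfsg.IsPiHallOf (Cfsg.kappa M) K M) (hK1 : K ≠ ⊥) :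
    ∃ k ∈ K, k ≠ 1 ∧ ∃ y ∈ Cfsg.sigmaCore M, y ≠ 1 ∧ k * y = y * k := by
  obtain ⟨hKM, hKπ, hKidx⟩ := hK
  haveI hsol : Group.IsSolvable ↥M := hG.2.2.2 M hM.1
  have hcard : Nat.card K ≠ 1 := fun h => hK1 (Subgroup.card_eq_one.mp h)
  obtain ⟨p, hp, hpd⟩ := Nat.exists_prime_and_dvd hcard
  haveI : Fact p.Prime := ⟨hp⟩
  have hpκ : p ∈ Cfsg.kappa M := hKπ p hp hpd
  obtain ⟨-, -, -, hSyl⟩ := hpκ
  obtain ⟨P⟩ : Nonempty (Sylow p ↥M) := inferInstance
  obtain ⟨-, x, hxP, hx1, y, hy, hy1, hxy⟩ := hSyl P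
  -- Hall domination inside `M`
  set K' : Subgroup ↥M := K.subgroupOf M with hK'
  have hK'card : Nat.card K' = Nat.card K := card_subgroupOf_of_le hKM
  have hK'idx : K'.index = K.relIndex M := rfl
  have hcop1 : (Nat.card K').Coprime K'.index := by
    apply Nat.coprime_of_dvd
    intro r hr hr1 hr2
    rw [hK'card] at hr1
    exact hKidx r hr (hKπ r hr hr1) hr2
  have hcop2 : (Nat.card (Subgroup.zpowers x)).Coprime K'.index := by
    obtain ⟨n, hn⟩ := P.isPGroup' ⟨x, hxP⟩
    have hn' : x ^ p ^ n = 1 := by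
      have := congrArg Subtype.val hn
      simpa using this
    have hd : Nat.card (Subgroup.zpowers x) ∣ p ^ n := by
      rw [Nat.card_zpowers]; exact orderOf_dvd_of_pow_eq_one hn'
    apply Nat.Coprime.coprime_dvd_left hd
    apply Nat.Coprime.pow_left
    rw [Nat.Prime.coprime_iff_not_dvd hp]
    exact hKidx p hp (hKπ p hp hpd)
  obtain ⟨g, hg⟩ := Cfsg.Agent.Lib.Helper1.hall_dominance _ ↥M rfl K' (Subgroup.zpowers x)
    hcop1 hcop2
  have hxg : x ∈ MulAut.conj g • K' := hg (Subgroup.mem_zpowers x)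
  rw [Subgroup.mem_pointwise_smul_iff_inv_smul_mem] at hxg
  have hxg' : g⁻¹ * x * g ∈ K' := by
    have : (MulAut.conj g)⁻¹ • x = g⁻¹ * x * g := by
      rw [← map_inv, MulAut.smul_def, MulAut.conj_apply, inv_inv]
    rwa [this] at hxg
  have hkK : ((g⁻¹ * x * g : ↥M) : G) ∈ K := Subgroup.mem_subgroupOf.mp hxg'
  refine ⟨((g⁻¹ * x * g : ↥M) : G), hkK, ?_, (g : G)⁻¹ * y * (g : G), ?_, ?_, ?_⟩
  · intro h
    apply hx1
    have h' : g⁻¹ * x * g = 1 := Subtype.ext h
    have : x = g * (g⁻¹ * x * g) * g⁻¹ := by group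
    rw [this, h']; group
  · have := conj_mem_sigmaCore (M := M) (m := (g : G)⁻¹) (M.inv_mem g.2) hy
    simpa using this
  · intro h
    apply hy1
    have : y = (g : G) * ((g : G)⁻¹ * y * (g : G)) * (g : G)⁻¹ := by group
    rw [this, h]; group
  · show ((g : G)⁻¹ * (x : G) * (g : G)) * ((g : G)⁻¹ * y * (g : G)) = _
    calc ((g : G)⁻¹ * (x : G) * (g : G)) * ((g : G)⁻¹ * y * (g : G))
        = (g : G)⁻¹ * ((x : G) * y) * (g : G) := by group
      _ = (g : G)⁻¹ * (y * (x : G)) * (g : G) := by rw [hxy]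
      _ = ((g : G)⁻¹ * y * (g : G)) * ((g : G)⁻¹ * (x : G) * (g : G)) := by group

/-- **S1354** from the statement of S1430. -/
theorem s1354_core [Finite G] (hG : Cfsg.IsMinSimpleOddOrder G) (hU : UT G)
    {M : Subgroup G} (hM : IsCoatom M)
    (hHall : Cfsg.IsPiHallOf (Cfsg.sigma M) (Cfsg.sigmaCore M) M) {K : Subgroup G}
    (hKc : IsCyclic K) (hK : Cfsg.IsPiHallOf (Cfsg.kappa M) K M) (h : K ≠ ⊥ → T142 M K) :
    Cfsg.sigmaCore M ⊓ Subgroup.centralizer (K : Set G) ≠ ⊥ ∧
      (K ≠ ⊥ → ∀ k ∈ K, k ≠ 1 →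
        M ⊓ Subgroup.centralizer ({k} : Set G) =
          K ⊔ (Cfsg.sigmaCore M ⊓ Subgroup.centralizer (K : Set G))) := by
  refine ⟨?_, ?_⟩
  · by_cases hK1 : K = ⊥
    · rw [hK1, Subgroup.coe_bot, Subgroup.centralizer_eq_top_iff_subset.mpr, inf_top_eq]
      · exact sigmaCore_ne_bot hG hU hM hHall
      · intro x hx
        rw [Set.mem_singleton_iff] at hx
        rw [hx]
        exact (Subgroup.center G).one_mem
    · obtain ⟨k, hk, hk1, y, hy, hy1, hky⟩ := exists_mem_hall_kappa_commuting hG hM hK hK1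
      have h1 := (h hK1).1 k hk hk1
      intro hbot
      have hy' : y ∈ Cfsg.sigmaCore M ⊓ Subgroup.centralizer ({k} : Set G) := by
        refine ⟨hy, Subgroup.mem_centralizer_iff.mpr ?_⟩
        intro z hz
        rw [Set.mem_singleton_iff] at hz
        rw [hz]; exact hky
      rw [h1, hbot, Subgroup.mem_bot] at hy'
      exact hy1 hy'
  · intro hK1 k hk hk1
    obtain ⟨hKM, -, -⟩ := hK
    obtain ⟨j, hj⟩ := exists_pow_prime_order hk1
    have hXK : Subgroup.zpowers (k ^ j) ≤ K := by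
      rw [Subgroup.zpowers_le]; exact K.pow_mem hk j
    have hN := ((h hK1).2.2 _ hXK hj).1
    apply le_antisymm
    · rintro u ⟨huM, huC⟩
      have huk : u * k = k * u := by
        have := Subgroup.mem_centralizer_iff.mp huC k (Set.mem_singleton k)
        exact this.symm
      rw [← hN]
      exact ⟨huM, mem_normalizer_zpowers_pow huk j⟩
    · apply sup_le
      · intro a ha
        refine ⟨hKM ha, Subgroup.mem_centralizer_iff.mpr ?_⟩
        intro z hz
        rw [Set.mem_singleton_iff] at hz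
        rw [hz]
        haveI := hKc
        have h1 : (⟨k, hk⟩ : ↥K) * ⟨a, ha⟩ = ⟨a, ha⟩ * ⟨k, hk⟩ :=
          (IsCyclic.commGroup (α := ↥K)).mul_comm _ _
        exact congrArg Subtype.val h1
      · rintro a ⟨haσ, haC⟩
        refine ⟨sigmaCore_le M haσ, Subgroup.mem_centralizer_iff.mpr ?_⟩
        intro z hz
        rw [Set.mem_singleton_iff] at hz
        rw [hz]
        exact Subgroup.mem_centralizer_iff.mp haC k hk

/-- Two Hall subgroups for complementary sets of primes are complements of each other. -/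
theorem isComplement'_of_hall_pair {X : Type*} [Group X] [Finite X] (π : Set ℕ) (A B : Subgroup X)
    (hA1 : ∀ p : ℕ, p.Prime → p ∣ Nat.card A → p ∈ π)
    (hA2 : ∀ p : ℕ, p.Prime → p ∈ π → ¬ p ∣ A.index)
    (hB1 : ∀ p : ℕ, p.Prime → p ∣ Nat.card B → p ∉ π)
    (hB2 : ∀ p : ℕ, p.Prime → p ∉ π → ¬ p ∣ B.index) :
    Subgroup.IsComplement' A B := by
  have hcop : (Nat.card A).Coprime (Nat.card B) :=
    Nat.coprime_of_dvd (fun r hr h1 h2 => hB1 r hr h2 (hA1 r hr h1))
  have hcopI : (A.index).Coprime (B.index) := by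
    apply Nat.coprime_of_dvd
    intro r hr h1 h2
    by_cases hrπ : r ∈ π
    · exact hA2 r hr hrπ h1
    · exact hB2 r hr hrπ h2
  have hA : Nat.card A * A.index = Nat.card X := Subgroup.card_mul_index A
  have hB : Nat.card B * B.index = Nat.card X := Subgroup.card_mul_index B
  have h1 : Nat.card A ∣ B.index := by
    apply hcop.dvd_of_dvd_mul_left
    rw [hB]
    exact Subgroup.card_subgroup_dvd_card A
  have h2 : B.index ∣ Nat.card A := by
    apply hcopI.symm.dvd_of_dvd_mul_right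
    rw [hA]
    exact Subgroup.index_dvd_card B
  have h3 : Nat.card A = B.index := Nat.dvd_antisymm h1 h2
  apply Subgroup.isComplement'_of_coprime _ hcop
  rw [h3, mul_comm]; exact hB

/-- An element normalizing two subgroups normalizes their join. -/
theorem mem_normalizer_sup {A B : Subgroup G} {g : G}
    (hA : g ∈ Subgroup.normalizer (A : Set G)) (hB : g ∈ Subgroup.normalizer (B : Set G)) :
    g ∈ Subgroup.normalizer ((A ⊔ B : Subgroup G) : Set G) := by
  rw [Cfsg.Agent.Lib.Helper8.mem_normalizer_iff_map_conj] at hA hB ⊢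
  rw [Subgroup.map_sup, hA, hB]

theorem le_normalizer_sigmaCore (M : Subgroup G) :
    M ≤ Subgroup.normalizer ((Cfsg.sigmaCore M : Subgroup G) : Set G) := by
  have h := Subgroup.le_normalizer_map (H := Cfsg.piCore (Cfsg.sigma M) ↥M) M.subtype
  rw [Subgroup.normalizer_eq_top, ← MonoidHom.range_eq_map, Subgroup.range_subtype] at h
  exact h

/-- **S1352** from the statement of S1430. -/
theorem s1352_core [Finite G] {M : Subgroup G}
    (hHall : Cfsg.IsPiHallOf (Cfsg.sigma M) (Cfsg.sigmaCore M) M) {K : Subgroup G}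
    (hKc : IsCyclic K) (hK : Cfsg.IsPiHallOf (Cfsg.kappa M) K M) (h : K ≠ ⊥ → T142 M K) :
    (∃ U : Subgroup G, Cfsg.IsSigmaDecomposition M K U) ∧
      ∀ U : Subgroup G, Cfsg.IsSigmaDecomposition M K U →
        M ≤ Subgroup.normalizer ((U ⊔ Cfsg.sigmaCore M : Subgroup G) : Set G) := by
  refine ⟨?_, ?_⟩
  · by_cases hK1 : K = ⊥
    · obtain ⟨E, hE⟩ := exists_compl_sigmaCore hHall
      refine ⟨E, ⟨hKc, hK, ?_, ?_⟩⟩
      · rw [hK1, bot_sup_eq]; exact hE
      · rw [hK1]; exact bot_le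
    · obtain ⟨-, ⟨U₀, -, hU₀H, hKn, -⟩, -⟩ := h hK1
      refine ⟨U₀, ⟨hKc, hK, ?_, hKn⟩⟩
      obtain ⟨hU₀M, hU₀π, hU₀idx⟩ := hU₀H
      obtain ⟨hKM, hKπ, hKidx⟩ := hK
      have hσM : Cfsg.sigmaCore M ≤ M := sigmaCore_le M
      have hKσM : K ⊔ Cfsg.sigmaCore M ≤ M := sup_le hKM hσM
      set π₀ : Set ℕ := {q | q.Prime ∧ q ∉ Cfsg.kappa M ∧ q ∉ Cfsg.sigma M} with hπ₀
      set A : Subgroup ↥M := U₀.subgroupOf M with hA
      set K' : Subgroup ↥M := K.subgroupOf M with hK'
      set N : Subgroup ↥M := Cfsg.piCore (Cfsg.sigma M) ↥M with hN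
      have hNeq : (Cfsg.sigmaCore M).subgroupOf M = N := by
        unfold Cfsg.sigmaCore Subgroup.subgroupOf
        rw [Subgroup.comap_map_eq_self_of_injective M.subtype_injective]
      set B : Subgroup ↥M := (K ⊔ Cfsg.sigmaCore M).subgroupOf M with hB
      have hBeq : B = K' ⊔ N := by
        rw [hB, Subgroup.subgroupOf_sup hKM hσM, hNeq]
      have hc : Subgroup.IsComplement' A B := by
        apply isComplement'_of_hall_pair π₀ A B
        · intro p hp hd
          rw [hA, card_subgroupOf_of_le hU₀M] at hd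
          exact hU₀π p hp hd
        · intro p hp hpπ
          exact hU₀idx p hp hpπ
        · intro p hp hd hpπ
          rw [hBeq] at hd
          rcases Cfsg.Agent.Lib.Helper9.prime_dvd_card_sup K' N hp hd with h1 | h1
          · rw [hK', card_subgroupOf_of_le hKM] at h1
            exact hpπ.2.1 (hKπ p hp h1)
          · exact hpπ.2.2 (Cfsg.Agent.Lib.Helper12.piCore_mem _ p hp h1)
        · intro p hp hpπ hd
          have hcases : p ∈ Cfsg.kappa M ∨ p ∈ Cfsg.sigma M := by
            by_contra hcon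
            push Not at hcon
            exact hpπ ⟨hp, hcon.1, hcon.2⟩
          rcases hcases with hκ | hσ
          · have hle : K' ≤ B := by rw [hBeq]; exact le_sup_left
            exact hKidx p hp hκ (hd.trans (Subgroup.index_dvd_of_le hle))
          · have hle : N ≤ B := by rw [hBeq]; exact le_sup_right
            have h2 := hHall.2.2 p hp hσ
            rw [sigmaCore_relIndex] at h2
            exact h2 (hd.trans (Subgroup.index_dvd_of_le hle))
      refine ⟨hU₀M, hKσM, ?_, ?_⟩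
      · rw [Subgroup.eq_bot_iff_forall]
        rintro x ⟨hx1, hx2⟩
        have hxM : x ∈ M := hU₀M hx1
        have h1 : (⟨x, hxM⟩ : ↥M) ∈ A ⊓ B :=
          ⟨Subgroup.mem_subgroupOf.mpr hx1, Subgroup.mem_subgroupOf.mpr hx2⟩
        rw [hc.disjoint.eq_bot, Subgroup.mem_bot] at h1
        exact congrArg Subtype.val h1
      · intro m hm
        obtain ⟨⟨a, b⟩, hab⟩ := hc.2 ⟨m, hm⟩
        refine ⟨((a : ↥M) : G), Subgroup.mem_subgroupOf.mp a.2, ((b : ↥M) : G),
          Subgroup.mem_subgroupOf.mp b.2, ?_⟩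
        have : ((a : ↥M) : G) * ((b : ↥M) : G) = m := congrArg Subtype.val hab
        exact this.symm
  · intro U hKU
    obtain ⟨hUM, hKσM, -, hprod⟩ := hKU.compl
    have hKM : K ≤ M := le_sup_left.trans hKσM
    have hσn := le_normalizer_sigmaCore M
    have h1 : U ≤ Subgroup.normalizer ((U ⊔ Cfsg.sigmaCore M : Subgroup G) : Set G) :=
      le_sup_left.trans Subgroup.le_normalizer
    have h2 : K ⊔ Cfsg.sigmaCore M ≤
        Subgroup.normalizer ((U ⊔ Cfsg.sigmaCore M : Subgroup G) : Set G) := by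
      apply sup_le
      · intro k hk
        exact mem_normalizer_sup (hKU.normal hk) (hσn (hKM hk))
      · exact le_sup_right.trans Subgroup.le_normalizer
    intro m hm
    obtain ⟨a, ha, b, hb, rfl⟩ := hprod m hm
    exact Subgroup.mul_mem _ (h1 ha) (h2 hb)

end Cfsg.Agent.Lib.Helper2.BGCor
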