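/-
helper2: a combinatorial lemma on natural-number multiplicities with small variance
(used for Fourier analysis on a finite abelian group).
-/
import Mathlib

set_option autoImplicit false

namespace Cfsg.Agent.Lib.Helper2.Glaub

open Finset

variable {ι : Type*} [Fintype ι] [DecidableEq ι]

theorem exists_of_sum_eq_one (c : ι → ℕ) (hc : ∀ k, c k = 0 ∨ c k = 1) (h : ∑ k, c k = 1) :
    ∃ i₀, c i₀ = 1 ∧ ∀ k, k ≠ i₀ → c k = 0 := by
  have h1 : ∃ i₀, c i₀ ≠ 0 := by
    by_contra hcon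
    push Not at hcon
    rw [Finset.sum_eq_zero (fun k _ => hcon k)] at h
    exact zero_ne_one h
  obtain ⟨i₀, hi₀⟩ := h1
  have hi₀1 : c i₀ = 1 := (hc i₀).resolve_left hi₀
  refine ⟨i₀, hi₀1, ?_⟩
  rw [← Finset.add_sum_erase univ c (mem_univ i₀), hi₀1] at h
  have h2 : ∑ k ∈ univ.erase i₀, c k = 0 := by omega
  intro k hk
  exact (Finset.sum_eq_zero_iff.mp h2) k (Finset.mem_erase.mpr ⟨hk, mem_univ k⟩)

/-- If `n ∑ a² ≤ (∑ a)² + n - 1` for natural numbers `a i` indexed by a set of size `n`, then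
the `a i` are all equal, or all equal except one which differs by one. -/
theorem two_values (a : ι → ℕ)
    (h : (Fintype.card ι : ℤ) * ∑ k, (a k : ℤ) ^ 2 + 1 ≤ (∑ k, (a k : ℤ)) ^ 2 + Fintype.card ι) :
    (∃ q : ℕ, ∀ k, a k = q) ∨
    (∃ ε : ℤ, (ε = 1 ∨ ε = -1) ∧ ∃ i₀ : ι, ∃ q : ℕ, ∀ k,
      (a k : ℤ) = q + if k = i₀ then ε else 0) := by
  classical
  set n : ℤ := (Fintype.card ι : ℤ) with hn
  set f : ℤ := ∑ k, (a k : ℤ) with hf
  have hn0 : 0 ≤ n := by positivity
  -- the key identity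
  have hU : ∑ k, (n * (a k : ℤ) - f) ^ 2 = n * (n * ∑ k, (a k : ℤ) ^ 2 - f ^ 2) := by
    have h1 : ∀ k, (n * (a k : ℤ) - f) ^ 2 = n ^ 2 * (a k : ℤ) ^ 2 - 2 * n * f * (a k : ℤ) + f ^ 2 := by
      intro k
      ring
    rw [Finset.sum_congr rfl (fun k _ => h1 k), Finset.sum_add_distrib, Finset.sum_sub_distrib,
      ← Finset.mul_sum, ← Finset.mul_sum, Finset.sum_const, Finset.card_univ, nsmul_eq_mul, ← hf,
      ← hn]
    ring
  have hUle : ∑ k, (n * (a k : ℤ) - f) ^ 2 ≤ n * (n - 1) := by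
    rw [hU]
    apply mul_le_mul_of_nonneg_left _ hn0
    linarith
  -- Step A
  have hA : ∀ i j, a i ≤ a j + 1 := by
    intro i j
    by_contra hcon
    push Not at hcon
    have hij : i ≠ j := by
      rintro rfl
      omega
    have h2 : (n * (a i : ℤ) - f) ^ 2 + (n * (a j : ℤ) - f) ^ 2 ≤
        ∑ k, (n * (a k : ℤ) - f) ^ 2 := by
      have h3 : ∑ k ∈ ({i, j} : Finset ι), (n * (a k : ℤ) - f) ^ 2 ≤
          ∑ k, (n * (a k : ℤ) - f) ^ 2 :=
        Finset.sum_le_sum_of_subset_of_nonneg (Finset.subset_univ _) (fun k _ _ => sq_nonneg _)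
      rwa [Finset.sum_pair hij] at h3
    have h4 : (a i : ℤ) ≥ (a j : ℤ) + 2 := by exact_mod_cast hcon
    have hn1 : 1 ≤ n := by
      rw [hn]
      exact_mod_cast Fintype.card_pos_iff.mpr ⟨i⟩
    nlinarith [sq_nonneg (n * (a i : ℤ) - f + (n * (a j : ℤ) - f)), mul_nonneg hn0 (by linarith : (0:ℤ) ≤ (a i : ℤ) - (a j : ℤ) - 2)]
  by_cases hne : Nonempty ι
  swap
  · left
    exact ⟨0, fun k => (hne ⟨k⟩).elim⟩
  obtain ⟨imin, -, himin⟩ := Finset.exists_min_image univ a (univ_nonempty_iff.mpr hne)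
  set m := a imin with hm
  let b : ι → ℕ := fun k => a k - m
  have hab : ∀ k, a k = m + b k := by
    intro k
    have := himin k (mem_univ k)
    show a k = m + (a k - m)
    omega
  have hb : ∀ k, b k = 0 ∨ b k = 1 := by
    intro k
    have h1 := himin k (mem_univ k)
    have h2 := hA k imin
    show a k - m = 0 ∨ a k - m = 1
    omega
  set k₁ := ∑ k, b k with hk₁
  have hbsq : ∀ k, ((b k : ℤ)) ^ 2 = (b k : ℤ) := by
    intro k
    rcases hb k with h | h <;> rw [h] <;> norm_num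
  have hab' : ∀ k, (a k : ℤ) = (m : ℤ) + (b k : ℤ) := fun k => by exact_mod_cast hab k
  have hk₁' : (k₁ : ℤ) = ∑ k, (b k : ℤ) := by
    rw [hk₁]
    push_cast
    rfl
  have hsum1 : f = n * m + k₁ := by
    rw [hf, Finset.sum_congr rfl (fun k _ => hab' k), Finset.sum_add_distrib, Finset.sum_const,
      Finset.card_univ, nsmul_eq_mul, hk₁', ← hn]
  have hsum2 : ∑ k, (a k : ℤ) ^ 2 = n * (m : ℤ) ^ 2 + 2 * m * k₁ + k₁ := by
    have h1 : ∀ k, (a k : ℤ) ^ 2 = (m : ℤ) ^ 2 + 2 * m * (b k : ℤ) + (b k : ℤ) := by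
      intro k
      rw [hab' k]
      have := hbsq k
      nlinarith
    rw [Finset.sum_congr rfl (fun k _ => h1 k), Finset.sum_add_distrib, Finset.sum_add_distrib,
      ← Finset.mul_sum, Finset.sum_const, Finset.card_univ, nsmul_eq_mul, hk₁', ← hn]
  have hk₁le : (k₁ : ℤ) ≤ n := by
    have : k₁ ≤ Fintype.card ι := by
      rw [hk₁]
      calc ∑ k, b k ≤ ∑ _k : ι, 1 := Finset.sum_le_sum (fun k _ => by rcases hb k with h | h <;> omega)
        _ = Fintype.card ι := by simp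
    rw [hn]
    exact_mod_cast this
  have hineq : n * (k₁ : ℤ) ≤ (k₁ : ℤ) ^ 2 + n - 1 := by
    rw [hsum2, hsum1] at h
    nlinarith
  have hcases : k₁ = 0 ∨ k₁ = 1 ∨ (k₁ : ℤ) = n - 1 ∨ (k₁ : ℤ) = n := by
    by_contra hcon
    push Not at hcon
    obtain ⟨h0, h1, h2, h3⟩ := hcon
    have h4 : (2 : ℤ) ≤ k₁ := by
      have : 2 ≤ k₁ := by omega
      exact_mod_cast this
    have h5 : (k₁ : ℤ) ≤ n - 2 := by
      have h6 : (k₁ : ℤ) < n := lt_of_le_of_ne hk₁le h3
      have h7 : (k₁ : ℤ) ≠ n - 1 := h2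
      omega
    nlinarith
  rcases hcases with h0 | h1 | h2 | h3
  · left
    refine ⟨m, fun k => ?_⟩
    rw [hab k]
    have := (Finset.sum_eq_zero_iff.mp (hk₁ ▸ h0)) k (mem_univ k)
    omega
  · right
    obtain ⟨i₀, hi₀, hoth⟩ := exists_of_sum_eq_one b hb (hk₁ ▸ h1)
    refine ⟨1, Or.inl rfl, i₀, m, fun k => ?_⟩
    rw [hab k]
    by_cases hk : k = i₀
    · rw [if_pos hk, hk, hi₀]
      push_cast
      rfl
    · rw [if_neg hk, hoth k hk]
      push_cast
      ring
  · right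
    let c : ι → ℕ := fun k => 1 - b k
    have hc : ∀ k, c k = 0 ∨ c k = 1 := by
      intro k
      show 1 - b k = 0 ∨ 1 - b k = 1
      rcases hb k with h | h <;> omega
    have hbc : ∀ k, b k + c k = 1 := by
      intro k
      show b k + (1 - b k) = 1
      rcases hb k with h | h <;> omega
    have hcsum : ∑ k, c k = 1 := by
      have h4 : ∑ k, (b k + c k) = Fintype.card ι := by
        rw [Finset.sum_congr rfl (fun k _ => hbc k)]
        simp
      rw [Finset.sum_add_distrib, ← hk₁] at h4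
      have h5 : (k₁ : ℤ) + (∑ k, c k : ℕ) = n := by
        rw [hn]
        exact_mod_cast h4
      have h6 : ((∑ k, c k : ℕ) : ℤ) = 1 := by linarith
      exact_mod_cast h6
    obtain ⟨i₀, hi₀, hoth⟩ := exists_of_sum_eq_one c hc hcsum
    refine ⟨-1, Or.inr rfl, i₀, m + 1, fun k => ?_⟩
    rw [hab k]
    have := hbc k
    by_cases hk : k = i₀
    · rw [if_pos hk]
      rw [hk] at this ⊢
      have hb0 : b i₀ = 0 := by omega
      rw [hb0]
      push_cast
      ring
    · rw [if_neg hk]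
      have hb1 : b k = 1 := by
        have := hoth k hk
        omega
      rw [hb1]
      push_cast
      ring
  · left
    refine ⟨m + 1, fun k => ?_⟩
    rw [hab k]
    have hsum : ∑ k, (1 - b k) = 0 := by
      have h4 : ∑ k, (b k + (1 - b k)) = Fintype.card ι := by
        rw [Finset.sum_congr rfl (fun k _ => (by rcases hb k with h | h <;> omega :
          b k + (1 - b k) = 1))]
        simp
      rw [Finset.sum_add_distrib, ← hk₁] at h4
      have h5 : (k₁ : ℤ) + (∑ k, (1 - b k) : ℕ) = n := by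
        rw [hn]
        exact_mod_cast h4
      have h6 : ((∑ k, (1 - b k) : ℕ) : ℤ) = 0 := by linarith
      exact_mod_cast h6
    have := (Finset.sum_eq_zero_iff.mp hsum) k (mem_univ k)
    rcases hb k with h | h <;> omega

end Cfsg.Agent.Lib.Helper2.Glaub
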