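/-
helper2: TOOL N (piece (C) of notes/bg95/SPEC.md, = Part T of helper8's split) for B&G Lemma 9.5.
If `L` is an odd-order group normalizing an `r`-group `R` of rank at most two (`r` odd), then every
subgroup of `[L, L]` of order prime to `r` centralizes `R`.
-/
import Mathlib
import Cfsg.Prelude.Def_CaseTheorems
import Cfsg.Agent.Lib.Helper17.OddAutRank2

set_option autoImplicit false
open scoped commutatorElement

namespace Cfsg.Agent.Lib.Helper2.BG95

/-- **TOOL N**, non-faithful form, with the exact signature of `notes/bg95/SPEC.md` (C).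
(The solvability hypothesis is not used.) -/
theorem le_centralizer_of_le_commutator_narrow {G : Type*} [Group G] [Finite G] (r : ℕ)
    [Fact r.Prime] (hr : r ≠ 2)
    (R L Y : Subgroup G) (hR : IsPGroup r R) (hrk : Cfsg.PRankLE r 2 ↥R)
    (hL : L ≤ Subgroup.normalizer (R : Set G)) (_hLs : Group.IsSolvable ↥L)
    (hLodd : Odd (Nat.card ↥L))
    (hY : Y ≤ ⁅L, L⁆) (hYr : (Nat.card ↥Y).Coprime r) :
    Y ≤ Subgroup.centralizer (R : Set G) := by
  classical
  set f : ↥L →* MulAut ↥R := R.normalizerMonoidHom.comp (Subgroup.inclusion hL) with hf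
  set B : Subgroup (MulAut ↥R) := f.range with hB
  have hBodd : Odd (Nat.card B) := by
    have h1 : Nat.card B ∣ Nat.card ↥L := by
      rw [hB]
      exact Subgroup.card_range_dvd f
    exact Odd.of_dvd_nat hLodd h1
  have hmain := (Cfsg.Agent.Lib.Helper17.odd_aut_rank_two r hr hR hrk B hBodd).1
  have hLL : ⁅L, L⁆ ≤ L := Subgroup.commutator_le.mpr (fun _ ha _ hb =>
    L.mul_mem (L.mul_mem (L.mul_mem ha hb) (L.inv_mem ha)) (L.inv_mem hb))
  intro x hx
  have hxL : x ∈ L := hLL (hY hx)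
  have hxc : (⟨x, hxL⟩ : ↥L) ∈ _root_.commutator ↥L := by
    have h1 : x ∈ (_root_.commutator ↥L).map L.subtype := by
      rw [Subgroup.map_subtype_commutator]; exact hY hx
    obtain ⟨y, hy, hyx⟩ := h1
    have : y = ⟨x, hxL⟩ := Subtype.ext hyx
    rw [← this]; exact hy
  have hβ : f ⟨x, hxL⟩ ∈ ⁅B, B⁆ := by
    have h1 : f ⟨x, hxL⟩ ∈ (_root_.commutator ↥L).map f := Subgroup.mem_map_of_mem f hxc
    rw [commutator_def, Subgroup.map_commutator] at h1
    rw [hB, MonoidHom.range_eq_map]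
    exact h1
  obtain ⟨k, hk⟩ := hmain _ hβ
  set m := Nat.card ↥Y with hm
  have hxm : x ^ m = 1 := by
    have h1 : (⟨x, hx⟩ : ↥Y) ^ m = 1 := pow_card_eq_one'
    have h2 := congrArg (fun z : ↥Y => (z : G)) h1
    simpa only [Subgroup.coe_pow, Subgroup.coe_one, Subgroup.coe_mk] using h2
  have hβm : (f ⟨x, hxL⟩) ^ m = 1 := by
    rw [← map_pow]
    have : (⟨x, hxL⟩ : ↥L) ^ m = 1 := Subtype.ext (by simpa using hxm)
    rw [this, map_one]
  have hcop : Nat.Coprime (r ^ k) m := Nat.Coprime.pow_left _ hYr.symm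
  have hβ1 : f ⟨x, hxL⟩ = 1 := by
    have h1 : orderOf (f ⟨x, hxL⟩) ∣ r ^ k := orderOf_dvd_of_pow_eq_one hk
    have h2 : orderOf (f ⟨x, hxL⟩) ∣ m := orderOf_dvd_of_pow_eq_one hβm
    have h3 : orderOf (f ⟨x, hxL⟩) = 1 := Nat.eq_one_of_dvd_coprimes hcop h1 h2
    exact orderOf_eq_one_iff.mp h3
  have hker : Subgroup.inclusion hL ⟨x, hxL⟩ ∈ R.normalizerMonoidHom.ker := by
    rw [MonoidHom.mem_ker]
    exact hβ1
  rw [Subgroup.normalizerMonoidHom_ker, Subgroup.mem_subgroupOf] at hker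
  exact hker

end Cfsg.Agent.Lib.Helper2.BG95
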