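/-
helper2: corollaries of the frozen statements of Bender–Glauberman, part F:
B&G Theorem 14.4 (S1432) from the statements of S1417, S1418, S1420(d), S1430 and S1431(a).
-/
import Cfsg.Agent.Lib.Helper2.BGCorE
import Cfsg.Agent.Lib.Helper20.CoprimeHall

set_option autoImplicit false
set_option linter.style.haveILetI false

namespace Cfsg.Agent.Lib.Helper2.BGCor

open Cfsg.Agent.Lib.Helper1.BGX
open Cfsg.Agent.Lib.Helper1 (card_subgroupOf_of_le)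
open Pointwise

variable {G : Type*} [Group G]

/-- A prime of `κ(M)` has `p`-rank at most one in `M`. -/
theorem pRankLE_one_of_kappa [Finite G] {M : Subgroup G} {p : ℕ} (h : p ∈ Cfsg.kappa M) :
    Cfsg.PRankLE p 1 ↥M := by
  obtain ⟨hpp, -, -, hSyl⟩ := h
  haveI : Fact p.Prime := ⟨hpp⟩
  intro A _ hA
  have hAp : IsPGroup p ↥A := fun a => ⟨1, by rw [pow_one]; exact Subtype.ext (by simpa using hA a a.2)⟩
  obtain ⟨P, hP⟩ := hAp.exists_le_sylow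
  haveI := (hSyl P).1
  obtain ⟨g, hg⟩ := IsCyclic.exists_generator (α := ↥(P : Subgroup ↥M))
  -- `A` is cyclic as a subgroup of a cyclic group
  haveI hAc : IsCyclic ↥A := by
    have : IsCyclic ↥(A.subgroupOf (P : Subgroup ↥M)) := inferInstance
    exact isCyclic_of_surjective (Subgroup.subgroupOfEquivOfLe hP).toMonoidHom
      (Subgroup.subgroupOfEquivOfLe hP).surjective
  obtain ⟨a, ha⟩ := IsCyclic.exists_generator (α := ↥A)
  have h1 : Nat.card ↥A = orderOf a := by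
    rw [← Nat.card_zpowers]
    have : Subgroup.zpowers a = ⊤ := by
      rw [Subgroup.eq_top_iff']; exact ha
    rw [this, Subgroup.card_top]
  have h2 : orderOf a ∣ p := by
    apply orderOf_dvd_of_pow_eq_one
    exact Subtype.ext (by simpa using hA a a.2)
  rw [h1, pow_one]
  exact Nat.le_of_dvd hpp.pos h2

/-- (L1) A commuting element of prime order `r ∉ σ(M)` of `M`: `r ∈ κ(M)` or `r ∈ τ₂(M)`. -/
theorem kappa_or_tau2 [Finite G] (hG : Cfsg.IsMinSimpleOddOrder G) (hU : UT G)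
    {M : Subgroup G} (hM : IsCoatom M) {x : G} (hx : x ∈ Cfsg.sigmaCore M) (hx1 : x ≠ 1)
    {y : G} (hyM : y ∈ M) {r : ℕ} (hr : r.Prime) (hy : orderOf y = r) (hyx : y * x = x * y)
    (hrσ : r ∉ Cfsg.sigma M) : r ∈ Cfsg.kappa M ∨ r ∈ Cfsg.tau2 M := by
  haveI : Fact r.Prime := ⟨hr⟩
  have hrM : r ∣ Nat.card M := by
    have h1 : orderOf (⟨y, hyM⟩ : ↥M) = r := by
      rw [← hy]
      exact (Subgroup.orderOf_mk y hyM)
    rw [← h1]
    exact orderOf_dvd_natCard _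
  have hr2 : Cfsg.PRankLE r 2 M := by
    by_contra h
    exact hrσ (alpha_subset_sigma hG hU hM ⟨hr, h⟩)
  by_cases hr1 : Cfsg.PRankLE r 1 M
  · left
    have hp2 : r ≠ 2 := ne_two_of_dvd_sub hG.1 hrM
    have hcyc : ∀ P : Sylow r M, IsCyclic ↥(P : Subgroup M) := fun P =>
      Cfsg.Agent.Lib.Helper17.isCyclic_of_pRankLE_one hp2 hr1 (P : Subgroup M) P.isPGroup'
    refine ⟨hr, hrM, hrσ, fun P => ⟨hcyc P, ?_⟩⟩
    -- `y` lies in some Sylow subgroup `P₀`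
    have hzp : IsPGroup r ↥(Subgroup.zpowers (⟨y, hyM⟩ : ↥M)) := by
      apply IsPGroup.of_card (n := 1)
      rw [Nat.card_zpowers, pow_one, Subgroup.orderOf_mk, hy]
    obtain ⟨P₀, hP₀⟩ := hzp.exists_le_sylow
    obtain ⟨g, hg⟩ := MulAction.exists_smul_eq M P₀ P
    have hyP₀ : (⟨y, hyM⟩ : ↥M) ∈ P₀ := hP₀ (Subgroup.mem_zpowers _)
    refine ⟨g * ⟨y, hyM⟩ * g⁻¹, ?_, ?_, (g : G) * x * (g : G)⁻¹, conj_mem_sigmaCore g.2 hx, ?_, ?_⟩
    · rw [← hg]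
      show g * ⟨y, hyM⟩ * g⁻¹ ∈ ((g • P₀ : Sylow r M) : Subgroup M)
      rw [Cfsg.Agent.Lib.Helper1.mem_sylow_smul_iff]
      have : g⁻¹ * (g * ⟨y, hyM⟩ * g⁻¹) * g = ⟨y, hyM⟩ := by group
      rw [this]; exact hyP₀
    · intro h1
      have h2 : (⟨y, hyM⟩ : ↥M) = g⁻¹ * (g * ⟨y, hyM⟩ * g⁻¹) * g := by group
      rw [h1] at h2
      have h3 : (⟨y, hyM⟩ : ↥M) = 1 := by rw [h2]; group
      have h4 : y = 1 := congrArg Subtype.val h3
      rw [h4, orderOf_one] at hy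
      exact hr.one_lt.ne hy
    · intro h1
      apply hx1
      have : x = (g : G)⁻¹ * ((g : G) * x * (g : G)⁻¹) * (g : G) := by group
      rw [this, h1]; group
    · show ((g : G) * y * (g : G)⁻¹) * ((g : G) * x * (g : G)⁻¹) = _
      calc ((g : G) * y * (g : G)⁻¹) * ((g : G) * x * (g : G)⁻¹)
          = (g : G) * (y * x) * (g : G)⁻¹ := by group
        _ = (g : G) * (x * y) * (g : G)⁻¹ := by rw [hyx]
        _ = ((g : G) * x * (g : G)⁻¹) * ((g : G) * y * (g : G)⁻¹) := by group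
  · right
    exact ⟨hr, hrσ, hr2, hr1⟩

/-- (L2) A `π`-subgroup of the solvable group `M` lies in a Hall `π`-subgroup of `M`. -/
theorem exists_hall_ge [Finite G] (hG : Cfsg.IsMinSimpleOddOrder G)
    {M : Subgroup G} (hM : IsCoatom M) (π : Set ℕ) {Y : Subgroup G} (hYM : Y ≤ M)
    (hY : ∀ p : ℕ, p.Prime → p ∣ Nat.card Y → p ∈ π) :
    ∃ K : Subgroup G, Cfsg.IsPiHallOf π K M ∧ Y ≤ K := by
  haveI hsol : Group.IsSolvable ↥M := hG.2.2.2 M hM.1
  obtain ⟨m, n, hmn, hm, hn⟩ :=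
    Cfsg.Agent.Lib.Helper20.exists_pi_decomp π (Nat.card M) Nat.card_pos.ne'
  have hcop : m.Coprime n := Cfsg.Agent.Lib.Helper20.coprime_of_isPiNum hm hn
  have hY' : (Nat.card (Y.subgroupOf M)).Coprime n := by
    rw [card_subgroupOf_of_le hYM]
    exact Cfsg.Agent.Lib.Helper20.coprime_of_isPiNum hY hn
  obtain ⟨H, hHc, hYH⟩ :=
    Cfsg.Agent.Lib.Helper1.hall_exists_ge m n hmn hcop (Y.subgroupOf M) hY'
  refine ⟨H.map M.subtype, ?_, ?_⟩
  · rw [Cfsg.Agent.Lib.Helper20.isPiHallOf_iff hmn hm hn]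
    refine ⟨Subgroup.map_subtype_le _, ?_⟩
    rw [Subgroup.card_map_of_injective M.subtype_injective, hHc]
  · intro y hy
    exact ⟨⟨y, hYM hy⟩, hYH (Subgroup.mem_subgroupOf.mpr hy), rfl⟩

/-- Every prime divisor of the order of a cyclic group generated by `y` divides `orderOf y`. -/
theorem card_zpowers_primes {y : G} {π : Set ℕ}
    (h : ∀ p : ℕ, p.Prime → p ∣ orderOf y → p ∈ π) :
    ∀ p : ℕ, p.Prime → p ∣ Nat.card (Subgroup.zpowers y) → p ∈ π := by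
  intro p hp hd
  rw [Nat.card_zpowers] at hd
  exact h p hp hd

/-- The mixed case of B&G 14.4 is impossible: commuting elements of `M` of prime orders `r ∈ κ(M)`
and `s ∈ τ₂(M)`. -/
theorem mixed_impossible [Finite G] (hG : Cfsg.IsMinSimpleOddOrder G)
    {M : Subgroup G} (hM : IsCoatom M)
    (h142 : ∀ K : Subgroup G, Cfsg.IsPiHallOf (Cfsg.kappa M) K M → K ≠ ⊥ → T142 M K)
    {r s : ℕ} (hr : r ∈ Cfsg.kappa M) (hs : s ∈ Cfsg.tau2 M)
    {yr ys : G} (hyrM : yr ∈ M) (hysM : ys ∈ M) (hyr : orderOf yr = r) (hys : orderOf ys = s)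
    (hcomm : ys * yr = yr * ys) : False := by
  have hrp : r.Prime := hr.1
  have hsp : s.Prime := hs.1
  have hyr1 : yr ≠ 1 := by
    intro h
    rw [h, orderOf_one] at hyr
    exact hrp.one_lt.ne hyr
  -- a Hall `κ(M)`-subgroup containing `yr`
  have hXM : Subgroup.zpowers yr ≤ M := by
    rw [Subgroup.zpowers_le]; exact hyrM
  obtain ⟨K, hK, hXK⟩ := exists_hall_ge hG hM (Cfsg.kappa M) hXM (by
    intro p hp hd
    rw [Nat.card_zpowers, hyr] at hd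
    rw [(Nat.prime_dvd_prime_iff_eq hp hrp).mp hd]
    exact hr)
  have hK1 : K ≠ ⊥ := by
    intro h
    have : yr ∈ (⊥ : Subgroup G) := h ▸ hXK (Subgroup.mem_zpowers yr)
    exact hyr1 (Subgroup.mem_bot.mp this)
  have hprime : (Nat.card (Subgroup.zpowers yr)).Prime := by
    rw [Nat.card_zpowers, hyr]; exact hrp
  have hN := ((h142 K hK hK1).2.2 _ hXK hprime).1
  have h1 : ys ∈ M ⊓ Subgroup.normalizer ((Subgroup.zpowers yr : Subgroup G) : Set G) := by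
    refine ⟨hysM, ?_⟩
    have := mem_normalizer_zpowers_pow hcomm 1
    rwa [pow_one] at this
  rw [hN] at h1
  have h2 : ys ∈ K ⊔ Cfsg.sigmaCore M := (sup_le_sup_left inf_le_left K) h1
  obtain ⟨hKM, hKπ, -⟩ := hK
  have hσM : Cfsg.sigmaCore M ≤ M := sigmaCore_le M
  have hNeq : (Cfsg.sigmaCore M).subgroupOf M = Cfsg.piCore (Cfsg.sigma M) ↥M := by
    unfold Cfsg.sigmaCore Subgroup.subgroupOf
    rw [Subgroup.comap_map_eq_self_of_injective M.subtype_injective]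
  have h3 : (⟨ys, hysM⟩ : ↥M) ∈ K.subgroupOf M ⊔ Cfsg.piCore (Cfsg.sigma M) ↥M := by
    rw [← hNeq, ← Subgroup.subgroupOf_sup hKM hσM]
    exact Subgroup.mem_subgroupOf.mpr h2
  have h4 : s ∣ Nat.card ↥(K.subgroupOf M ⊔ Cfsg.piCore (Cfsg.sigma M) ↥M) := by
    have h5 : orderOf (⟨⟨ys, hysM⟩, h3⟩ :
        ↥(K.subgroupOf M ⊔ Cfsg.piCore (Cfsg.sigma M) ↥M)) = s := by
      rw [Subgroup.orderOf_mk, Subgroup.orderOf_mk, hys]
    rw [← h5]
    exact orderOf_dvd_natCard _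
  rcases Cfsg.Agent.Lib.Helper9.prime_dvd_card_sup _ _ hsp h4 with h5 | h5
  · rw [card_subgroupOf_of_le hKM] at h5
    exact hs.2.2.2 (pRankLE_one_of_kappa (hKπ s hsp h5))
  · exact hs.2.1 (Cfsg.Agent.Lib.Helper12.piCore_mem _ s hsp h5)

/-- The `κ(M)` case of B&G 14.4: `C_G(x) ≤ M`. -/
theorem all_kappa_case [Finite G] (hG : Cfsg.IsMinSimpleOddOrder G)
    {M : Subgroup G} (hM : IsCoatom M)
    (h142 : ∀ K : Subgroup G, Cfsg.IsPiHallOf (Cfsg.kappa M) K M → K ≠ ⊥ → T142 M K)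
    (h142b : ∀ K : Subgroup G, Cfsg.IsPiHallOf (Cfsg.kappa M) K M → K ≠ ⊥ →
      ∀ g : G, g ∉ M → (Cfsg.sigmaCore M ⊓ Subgroup.centralizer (K : Set G)) ⊓
        M.map (MulAut.conj g).toMonoidHom = ⊥)
    {x : G} (hx : x ∈ Cfsg.sigmaCore M) (hx1 : x ≠ 1) {x' : G} (hx'M : x' ∈ M)
    (hx'x : x' * x = x * x') (hx'1 : x' ≠ 1)
    (hκ : ∀ p : ℕ, p.Prime → p ∣ orderOf x' → p ∈ Cfsg.kappa M) :
    Subgroup.centralizer ({x} : Set G) ≤ M := by
  have hXM : Subgroup.zpowers x' ≤ M := by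
    rw [Subgroup.zpowers_le]; exact hx'M
  obtain ⟨K, hK, hXK⟩ := exists_hall_ge hG hM (Cfsg.kappa M) hXM (card_zpowers_primes hκ)
  have hx'K : x' ∈ K := hXK (Subgroup.mem_zpowers x')
  have hK1 : K ≠ ⊥ := by
    intro h
    have : x' ∈ (⊥ : Subgroup G) := h ▸ hx'K
    exact hx'1 (Subgroup.mem_bot.mp this)
  have ha := (h142 K hK hK1).1 x' hx'K hx'1
  have hxK : x ∈ Cfsg.sigmaCore M ⊓ Subgroup.centralizer (K : Set G) := by
    rw [← ha]
    refine ⟨hx, Subgroup.mem_centralizer_iff.mpr ?_⟩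
    intro z hz
    rw [Set.mem_singleton_iff] at hz
    rw [hz]; exact hx'x
  intro c hc
  by_contra hcM
  have hb := h142b K hK hK1 c hcM
  have hxc : c * x = x * c := by
    have := Subgroup.mem_centralizer_iff.mp hc x (Set.mem_singleton x)
    exact this.symm
  have hxmap : x ∈ M.map (MulAut.conj c).toMonoidHom := by
    refine ⟨x, sigmaCore_le M hx, ?_⟩
    show c * x * c⁻¹ = x
    rw [hxc]; group
  have h6 : x ∈ (Cfsg.sigmaCore M ⊓ Subgroup.centralizer (K : Set G)) ⊓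
      M.map (MulAut.conj c).toMonoidHom := ⟨hxK, hxmap⟩
  rw [hb, Subgroup.mem_bot] at h6
  exact hx1 h6

/-- A subgroup of `M` of order prime to `σ(M)` is `M`-conjugate into a given complement of `M_σ`. -/
theorem exists_conj_le_compl [Finite G] (hG : Cfsg.IsMinSimpleOddOrder G)
    {M : Subgroup G} (hM : IsCoatom M)
    (hHall : Cfsg.IsPiHallOf (Cfsg.sigma M) (Cfsg.sigmaCore M) M)
    {E : Subgroup G} (hE : Cfsg.IsComplIn E (Cfsg.sigmaCore M) M) {Y : Subgroup G} (hYM : Y ≤ M)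
    (hY : ∀ p : ℕ, p.Prime → p ∣ Nat.card Y → p ∉ Cfsg.sigma M) :
    ∃ g ∈ M, Y.map (MulAut.conj g).toMonoidHom ≤ E := by
  haveI hsol : Group.IsSolvable ↥M := hG.2.2.2 M hM.1
  have hEM : E ≤ M := hE.1
  have hcardEN := Cfsg.Agent.Lib.Helper9.isComplIn_card_mul_card hE
  set E' : Subgroup ↥M := E.subgroupOf M with hE'
  have hE'card : Nat.card E' = Nat.card E := card_subgroupOf_of_le hEM
  have hidx : E'.index = Nat.card (Cfsg.sigmaCore M) := by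
    have h1 := E'.card_mul_index
    rw [hE'card, ← hcardEN] at h1
    exact Nat.eq_of_mul_eq_mul_left Nat.card_pos h1
  have hσ := primes_card_sigmaCore M
  have hcop1 : (Nat.card E').Coprime E'.index := by
    rw [hidx, hE'card]
    apply Nat.coprime_of_dvd
    intro r hr hr1 hr2
    have h1 : r ∈ Cfsg.sigma M := hσ r hr hr2
    have h2 := hHall.2.2 r hr h1
    apply h2
    have h3 := Cfsg.Agent.Lib.Helper20.card_mul_relIndex_of_le (sigmaCore_le M)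
    rw [← hcardEN, mul_comm] at h3
    have h4 : (Cfsg.sigmaCore M).relIndex M = Nat.card E :=
      Nat.eq_of_mul_eq_mul_right Nat.card_pos h3
    rw [h4]; exact hr1
  have hcop2 : (Nat.card (Y.subgroupOf M)).Coprime E'.index := by
    rw [hidx, card_subgroupOf_of_le hYM]
    apply Nat.coprime_of_dvd
    intro r hr hr1 hr2
    exact hY r hr hr1 (hσ r hr hr2)
  obtain ⟨g, hg⟩ := Cfsg.Agent.Lib.Helper1.hall_dominance _ ↥M rfl E' (Y.subgroupOf M) hcop1 hcop2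
  refine ⟨(g : G)⁻¹, M.inv_mem g.2, ?_⟩
  rintro _ ⟨y, hy, rfl⟩
  have hyg : (⟨y, hYM hy⟩ : ↥M) ∈ MulAut.conj g • E' := hg (Subgroup.mem_subgroupOf.mpr hy)
  rw [Subgroup.mem_pointwise_smul_iff_inv_smul_mem] at hyg
  have hyg' : g⁻¹ * ⟨y, hYM hy⟩ * g ∈ E' := by
    have : (MulAut.conj g)⁻¹ • (⟨y, hYM hy⟩ : ↥M) = g⁻¹ * ⟨y, hYM hy⟩ * g := by
      rw [← map_inv, MulAut.smul_def, MulAut.conj_apply, inv_inv]
    rwa [this] at hyg
  have h1 : ((g⁻¹ * ⟨y, hYM hy⟩ * g : ↥M) : G) ∈ E := Subgroup.mem_subgroupOf.mp hyg'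
  show (MulAut.conj (g : G)⁻¹) y ∈ E
  rw [MulAut.conj_apply, inv_inv]
  exact h1

/-- The parts of the conclusion of S1418 (B&G Theorem 12.6(a),(b)) used below. -/
def T126 (M : Subgroup G) : Prop :=
  ∀ E : Subgroup G, Cfsg.IsComplIn E (Cfsg.sigmaCore M) M →
    ∀ (p : ℕ) [Fact p.Prime], p ∈ Cfsg.tau2 M → ∀ A : Subgroup G,
      (A ≤ E ∧ Cfsg.IsElementaryAbelian p A ∧ Nat.card A = p ^ 2) →
      E ≤ Subgroup.normalizer (A : Set G) ∧ ¬ Subgroup.normalizer (A : Set G) ≤ M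

theorem card_primes_of_sq {s : ℕ} (hs : s.Prime) {A : Subgroup G} (hAc : Nat.card A = s ^ 2)
    {π : Set ℕ} (hsπ : s ∉ π) : ∀ p : ℕ, p.Prime → p ∣ Nat.card A → p ∉ π := by
  intro p hp hd
  rw [hAc] at hd
  rw [(Nat.prime_dvd_prime_iff_eq hp hs).mp (hp.dvd_of_dvd_pow hd)]
  exact hsπ

/-- An elementary abelian subgroup of order `s ^ 2` of `L` shows that `L` has not `s`-rank one. -/
theorem not_pRankLE_one_of_sq {s : ℕ} (hs : s.Prime) {L A : Subgroup G} (hAL : A ≤ L)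
    (hAe : Cfsg.IsElementaryAbelian s A) (hAc : Nat.card A = s ^ 2) : ¬ Cfsg.PRankLE s 1 ↥L := by
  intro h
  have h1 := card_le_of_pRankLE_sub hAL (comm_of_isMulCommutative hAe.1) hAe.2 h
  rw [hAc, pow_one] at h1
  have : s * s ≤ s * 1 := by rw [mul_one, ← sq]; exact h1
  have h2 := Nat.le_of_mul_le_mul_left this hs.pos
  exact absurd hs.one_lt (not_lt.mpr h2)

/-- (Lemma V) If `N_G(A) ≤ L` for an elementary abelian subgroup `A` of order `s ^ 2`, then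
`s ∈ σ(L)`. -/
theorem mem_sigma_of_normalizer_le [Finite G] (hG : Cfsg.IsMinSimpleOddOrder G) (hU : UT G)
    {L : Subgroup G} (hL : IsCoatom L)
    (hHall : Cfsg.IsPiHallOf (Cfsg.sigma L) (Cfsg.sigmaCore L) L) (h126 : T126 L)
    {s : ℕ} [Fact s.Prime] {A : Subgroup G} (hAe : Cfsg.IsElementaryAbelian s A)
    (hAc : Nat.card A = s ^ 2) (hNL : Subgroup.normalizer (A : Set G) ≤ L) : s ∈ Cfsg.sigma L := by
  have hs : s.Prime := Fact.out
  have hAL : A ≤ L := Subgroup.le_normalizer.trans hNL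
  by_contra hsσ
  have hr2 : Cfsg.PRankLE s 2 L := by
    by_contra h
    exact hsσ (alpha_subset_sigma hG hU hL ⟨hs, h⟩)
  have hr1 : ¬ Cfsg.PRankLE s 1 ↥L := not_pRankLE_one_of_sq hs hAL hAe hAc
  have hτ : s ∈ Cfsg.tau2 L := ⟨hs, hsσ, hr2, hr1⟩
  obtain ⟨E, hE⟩ := exists_compl_sigmaCore hHall
  obtain ⟨g, hgL, hgE⟩ := exists_conj_le_compl hG hL hHall hE hAL (card_primes_of_sq hs hAc hsσ)
  have hAc' : Nat.card (A.map (MulAut.conj g).toMonoidHom) = s ^ 2 := by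
    rw [Subgroup.card_map_of_injective (MulAut.conj g).injective, hAc]
  obtain ⟨-, hnot⟩ := h126 E hE s hτ _ ⟨hgE, elemAb_map_conj hAe g, hAc'⟩
  apply hnot
  intro z hz
  rw [Cfsg.Agent.Lib.Helper17.mem_normalizer_map_conj_iff] at hz
  have h1 : g⁻¹ * z * g ∈ L := hNL hz
  have h2 : z = g * (g⁻¹ * z * g) * g⁻¹ := by group
  rw [h2]
  exact L.mul_mem (L.mul_mem hgL h1) (L.inv_mem hgL)

/-- The `τ₂(M)` case of B&G 14.4: a single maximal subgroup `L` with all primes in `σ(L)`. -/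
theorem all_tau2_case [Finite G] (hG : Cfsg.IsMinSimpleOddOrder G) (hU : UT G)
    {M : Subgroup G} (hM : IsCoatom M)
    (HHall : ∀ L : Subgroup G, IsCoatom L →
      Cfsg.IsPiHallOf (Cfsg.sigma L) (Cfsg.sigmaCore L) L)
    (H125 : ∀ L : Subgroup G, IsCoatom L → T125 L)
    (H126 : ∀ L : Subgroup G, IsCoatom L → T126 L)
    {x' : G} (hx'1 : x' ≠ 1)
    (hτ : ∀ p : ℕ, p.Prime → p ∣ orderOf x' → p ∈ Cfsg.tau2 M) :
    ∃ L : Subgroup G, IsCoatom L ∧ ∀ p : ℕ, p.Prime → p ∣ orderOf x' → p ∈ Cfsg.sigma L := by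
  haveI := hG.2.1
  have ho : orderOf x' ≠ 1 := fun h => hx'1 (orderOf_eq_one_iff.mp h)
  obtain ⟨s₁, hs₁, hs₁d⟩ := Nat.exists_prime_and_dvd ho
  haveI : Fact s₁.Prime := ⟨hs₁⟩
  have hHall := HHall M hM
  obtain ⟨E, hE⟩ := exists_compl_sigmaCore hHall
  have hEM : E ≤ M := hE.1
  -- for every prime of `τ₂(M)` an elementary abelian subgroup of order `s ^ 2` of `E`
  have key : ∀ s : ℕ, s ∈ Cfsg.tau2 M → ∃ A : Subgroup G, A ≤ E ∧
      Cfsg.IsElementaryAbelian s A ∧ Nat.card A = s ^ 2 := by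
    intro s hs
    haveI : Fact s.Prime := ⟨hs.1⟩
    obtain ⟨A₀, hA₀M, hA₀e, hA₀c⟩ := exists_elemAb_sq_of_rank_two hs.2.2.1 hs.2.2.2
    obtain ⟨g, -, hgE⟩ := exists_conj_le_compl hG hM hHall hE hA₀M
      (card_primes_of_sq hs.1 hA₀c hs.2.1)
    refine ⟨_, hgE, elemAb_map_conj hA₀e g, ?_⟩
    rw [Subgroup.card_map_of_injective (MulAut.conj g).injective, hA₀c]
  have hτ₁ := hτ s₁ hs₁ hs₁d
  obtain ⟨A₁, hA₁E, hA₁e, hA₁c⟩ := key s₁ hτ₁
  obtain ⟨hEN, hNM⟩ := H126 M hM E hE s₁ hτ₁ A₁ ⟨hA₁E, hA₁e, hA₁c⟩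
  have hA₁M : A₁ ≤ M := hA₁E.trans hEM
  have hA₁bot : A₁ ≠ ⊥ := by
    intro h
    rw [h, Subgroup.card_bot] at hA₁c
    have := Nat.one_lt_pow (n := 2) (by norm_num) hs₁.one_lt
    omega
  have hA₁top : A₁ ≠ ⊤ := fun h => hM.1 (top_le_iff.mp (h ▸ hA₁M))
  obtain ⟨L, hL, hNL⟩ := Cfsg.Agent.Lib.Helper17.BGU.exists_coatom_ge
    (Cfsg.Agent.Lib.Helper17.BGU.normalizer_ne_top hA₁bot hA₁top)
  have hLM : M ≠ L := fun h => hNM (h ▸ hNL)
  have hs₁L : s₁ ∈ Cfsg.sigma L :=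
    mem_sigma_of_normalizer_le hG hU hL (HHall L hL) (H126 L hL) hA₁e hA₁c hNL
  have hA₁L : A₁ ≤ L := Subgroup.le_normalizer.trans hNL
  -- `A₁ ≤ L_σ`
  have hA₁σ : A₁ ≤ Cfsg.sigmaCore L := by
    have h1 : A₁.subgroupOf L ≤ Cfsg.piCore (Cfsg.sigma L) ↥L := by
      apply Cfsg.Agent.Lib.Helper23.BGY.le_of_coprime_index_normal
      rw [card_subgroupOf_of_le hA₁L, hA₁c]
      apply Nat.Coprime.pow_left
      rw [Nat.Prime.coprime_iff_not_dvd hs₁, ← sigmaCore_relIndex]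
      exact (HHall L hL).2.2 s₁ hs₁ hs₁L
    intro a ha
    exact ⟨⟨a, hA₁L ha⟩, h1 (Subgroup.mem_subgroupOf.mpr ha), rfl⟩
  refine ⟨L, hL, ?_⟩
  intro s hs hsd
  have hsτ := hτ s hs hsd
  haveI : Fact s.Prime := ⟨hs⟩
  obtain ⟨A, hAE, hAe, hAc⟩ := key s hsτ
  have hAL : A ≤ L := hAE.trans (hEN.trans hNL)
  have hAM : A ≤ M := hAE.trans hEM
  by_contra hsσ
  have hr2 : Cfsg.PRankLE s 2 L := by
    by_contra h
    exact hsσ (alpha_subset_sigma hG hU hL ⟨hs, h⟩)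
  have hr1 : ¬ Cfsg.PRankLE s 1 ↥L := not_pRankLE_one_of_sq hs hAL hAe hAc
  have hτL : s ∈ Cfsg.tau2 L := ⟨hs, hsσ, hr2, hr1⟩
  have h5 := (H125 L hL s hτL A ⟨hAL, hAe, hAc⟩).2.2.2.2.1 M hM hLM hAM
  have h6 : A₁ ≤ Cfsg.sigmaCore L ⊓ M := le_inf hA₁σ hA₁M
  rw [h5] at h6
  exact hA₁bot (le_bot_iff.mp h6)

/-- **S1432** (B&G Theorem 14.4) from the statements of S1350, S1417, S1418, S1420(d), S1430 and
S1431(a). -/
theorem s1432_core [Finite G] (hG : Cfsg.IsMinSimpleOddOrder G) (hU : UT G)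
    {M : Subgroup G} (hM : IsCoatom M)
    (HHall : ∀ L : Subgroup G, IsCoatom L →
      Cfsg.IsPiHallOf (Cfsg.sigma L) (Cfsg.sigmaCore L) L)
    (H125 : ∀ L : Subgroup G, IsCoatom L → T125 L)
    (H126 : ∀ L : Subgroup G, IsCoatom L → T126 L)
    (h1210d : ∀ z ∈ M, z ≠ 1 → (∀ p : ℕ, p.Prime → p ∣ orderOf z → p ∈ Cfsg.tau2 M) →
      z ∈ Cfsg.sigmaHat M → Subgroup.centralizer ({z} : Set G) ≤ M ∧
        ∀ L : Subgroup G, IsCoatom L → Subgroup.centralizer ({z} : Set G) ≤ L → L = M)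
    (h142 : ∀ K : Subgroup G, Cfsg.IsPiHallOf (Cfsg.kappa M) K M → K ≠ ⊥ → T142 M K)
    (h142b : ∀ K : Subgroup G, Cfsg.IsPiHallOf (Cfsg.kappa M) K M → K ≠ ⊥ →
      ∀ g : G, g ∉ M → (Cfsg.sigmaCore M ⊓ Subgroup.centralizer (K : Set G)) ⊓
        M.map (MulAut.conj g).toMonoidHom = ⊥)
    {x : G} (hx : x ∈ Cfsg.sigmaCore M) (hx1 : x ≠ 1) {x' : G}
    (hx' : x' ∈ M ⊓ Subgroup.centralizer ({x} : Set G)) (hx'1 : x' ≠ 1)
    (hσ : ∀ p : ℕ, p.Prime → p ∣ orderOf x' → p ∉ Cfsg.sigma M) :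
    ((∀ p : ℕ, p.Prime → p ∣ orderOf x' → p ∈ Cfsg.kappa M) ∧
        Subgroup.centralizer ({x} : Set G) ≤ M) ∨
      ((∀ p : ℕ, p.Prime → p ∣ orderOf x' → p ∈ Cfsg.tau2 M) ∧
        (∃ L : Subgroup G, IsCoatom L ∧
          ∀ p : ℕ, p.Prime → p ∣ orderOf x' → p ∈ Cfsg.sigma L) ∧
        (Subgroup.centralizer ({x'} : Set G) ≤ M ∧ ∀ L : Subgroup G, IsCoatom L →
          Subgroup.centralizer ({x'} : Set G) ≤ L → L = M)) := by
  have hx'M : x' ∈ M := hx'.1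
  have hx'x : x' * x = x * x' :=
    (Subgroup.mem_centralizer_iff.mp hx'.2 x (Set.mem_singleton x)).symm
  have ho : orderOf x' ≠ 0 := (orderOf_pos x').ne'
  -- the elements of prime order
  have hy : ∀ r : ℕ, r.Prime → r ∣ orderOf x' →
      x' ^ (orderOf x' / r) ∈ M ∧ orderOf (x' ^ (orderOf x' / r)) = r ∧
        x' ^ (orderOf x' / r) * x = x * x' ^ (orderOf x' / r) := by
    intro r _ hrd
    refine ⟨M.pow_mem hx'M _, orderOf_pow_orderOf_div ho hrd, ?_⟩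
    have hc : Commute x' x := hx'x
    exact (hc.pow_left _).eq
  have hcases : ∀ r : ℕ, r.Prime → r ∣ orderOf x' → r ∈ Cfsg.kappa M ∨ r ∈ Cfsg.tau2 M := by
    intro r hr hrd
    obtain ⟨h1, h2, h3⟩ := hy r hr hrd
    exact kappa_or_tau2 hG hU hM hx hx1 h1 hr h2 h3 (hσ r hr hrd)
  by_cases hall : ∀ r : ℕ, r.Prime → r ∣ orderOf x' → r ∈ Cfsg.kappa M
  · left
    exact ⟨hall, all_kappa_case hG hM h142 h142b hx hx1 hx'M hx'x hx'1 hall⟩
  · right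
    push Not at hall
    obtain ⟨s, hs, hsd, hsκ⟩ := hall
    have hsτ : s ∈ Cfsg.tau2 M := (hcases s hs hsd).resolve_left hsκ
    obtain ⟨hs1, hs2, -⟩ := hy s hs hsd
    have hτ : ∀ r : ℕ, r.Prime → r ∣ orderOf x' → r ∈ Cfsg.tau2 M := by
      intro r hr hrd
      rcases hcases r hr hrd with h | h
      · exfalso
        obtain ⟨hr1, hr2, -⟩ := hy r hr hrd
        have hc : Commute (x' ^ (orderOf x' / s)) (x' ^ (orderOf x' / r)) :=
          ((Commute.refl x').pow_left _).pow_right _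
        exact mixed_impossible hG hM h142 h hsτ hr1 hs1 hr2 hs2 hc.eq
      · exact h
    exact ⟨hτ, all_tau2_case hG hU hM HHall H125 H126 hx'1 hτ,
      h1210d x' hx'M hx'1 hτ ⟨hx'M, x, hx, hx1, hx'x⟩⟩

end Cfsg.Agent.Lib.Helper2.BGCor
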