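import Mathlib
import Cfsg.Agent.Lib.Helper16.BGPrimC

/-!
# The "weak sigma-partition" (WP) of `notes/bg14/NOTES_h20.md`, section 0 (helper2)

`M`, `N` non-conjugate maximal subgroups of the minimal simple group `G` of odd order and
`q ∈ σ(M) ∩ σ(N)`.  Then `q ∉ β(M) ∪ β(N)`, `q` does not divide `|M_σ'| |N_σ'|`, the Sylow
`q`-subgroups of `G` are abelian of rank at most `2`, and if `M ∩ N` contains a non-identity
`q`-subgroup then neither `M_σ` nor `N_σ` is nilpotent and `τ₂(M) = τ₂(N) = ∅`.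

The conclusions of the frozen statements S1417, S1422, S1423, S1424 are taken as hypotheses
(`H17n`, `H23`, `H24` of helper16's `BGPrimA`, and `H22`, `H23b` below).
-/

set_option autoImplicit false
open scoped commutatorElement

namespace Cfsg.Agent.Lib.Helper2.BGCor

open Cfsg Cfsg.Agent.Lib.Helper1.BGX
open Cfsg.Agent.Lib.Helper8 (mem_map_conj conj_mem_map_conj map_conj_map_conj map_conj_one
  map_conj_le_iff map_conj_eq_iff card_map_conj mem_normalizer_iff_map_conj IsSylIn sylow_smul_coe)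
open Cfsg.Agent.Lib.Helper17.BGU (exists_coatom_ge normalizer_ne_top isCoatom_map_conj
  inUniqueMaximal_map_conj normalizer_eq_of_coatom not_pRankLE_of_elemAb pRankLE_of_sylow)
open Cfsg.Agent.Lib.Helper16.BGPrim (H17n H23 H24 lemmaW exists_normal_isSylIn
  exists_sylow_eq_of_not_dvd_index sigma_map_conj)
open Cfsg.Agent.Lib.Helper23.BGY (exists_elemAb_sq)

variable {G : Type*} [Group G]

/-- the conclusion of S1422. -/
def H22 (G : Type*) [Group G] : Prop :=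
  ∀ (p : ℕ) [Fact p.Prime] (P : Subgroup G), IsPGroup p P → ¬ IsMulCommutative P →
    Cfsg.InUniqueMaximal P

/-- the `β`-branch of S1423. -/
def H23b (G : Type*) [Group G] : Prop :=
  ∀ (M : Subgroup G), IsCoatom M → ∀ (p : ℕ) [Fact p.Prime], p ∈ Cfsg.sigma M →
    ∀ X : Subgroup G, X ≤ M → Nat.card X = p → ∀ P : Sylow p ↥(Cfsg.sigmaCore M),
    p ∈ Cfsg.beta M →
    Cfsg.InUniqueMaximal ((P : Subgroup ↥(Cfsg.sigmaCore M)).map (Cfsg.sigmaCore M).subtype) ∧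
      (P : Subgroup ↥(Cfsg.sigmaCore M)).map (Cfsg.sigmaCore M).subtype ≤ M

/-- non-conjugacy is symmetric. -/
theorem nonconj_symm {M N : Subgroup G}
    (hnc : ∀ g : G, N ≠ M.map (MulAut.conj g).toMonoidHom) :
    ∀ g : G, M ≠ N.map (MulAut.conj g).toMonoidHom := by
  intro g hg
  exact hnc g⁻¹ (map_conj_eq_iff.mp hg.symm)

/-- A Sylow `q`-subgroup of `G` inside `N` lying in a unique maximal subgroup forces every maximal
subgroup `M` with `q ∈ σ(M)` to be conjugate to `N`. -/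
theorem exists_conj_eq_of_sylow_uniq [Finite G] {M N : Subgroup G} (hM : IsCoatom M)
    (hN : IsCoatom N) {q : ℕ} [Fact q.Prime] (hqM : q ∈ Cfsg.sigma M) (SN : Sylow q G)
    (hSN : (SN : Subgroup G) ≤ N) (hu : Cfsg.InUniqueMaximal (SN : Subgroup G)) :
    ∃ g : G, M = N.map (MulAut.conj g).toMonoidHom := by
  obtain ⟨SM, hSMM, -, -⟩ := exists_sylow_of_mem_sigma hqM
  obtain ⟨g, hg⟩ := MulAction.exists_smul_eq G SN SM
  obtain ⟨L, ⟨hL, hPL⟩, hLu⟩ := inUniqueMaximal_map_conj g hu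
  have hSMcoe : (SM : Subgroup G) = (SN : Subgroup G).map (MulAut.conj g).toMonoidHom := by
    rw [← hg, sylow_smul_coe]
  have h1 : M = L := hLu M ⟨hM, by rw [← hSMcoe]; exact hSMM⟩
  have h2 : N.map (MulAut.conj g).toMonoidHom = L :=
    hLu _ ⟨isCoatom_map_conj g hN, Subgroup.map_mono hSN⟩
  exact ⟨g, h1.trans h2.symm⟩

/-- `q ∈ σ(N)` divides `|N_σ|`. -/
theorem dvd_card_sigmaCore [Finite G] (hG : Cfsg.IsMinSimpleOddOrder G) {N : Subgroup G}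
    (hN : IsCoatom N) {q : ℕ} (hq : q ∈ Cfsg.sigma N) : q ∣ Nat.card (Cfsg.sigmaCore N) := by
  obtain ⟨⟨hle, -, hidx⟩, -, -⟩ := Cfsg.Agent.S1350.result hG N hN
  have h1 : Nat.card (Cfsg.sigmaCore N) * (Cfsg.sigmaCore N).relIndex N = Nat.card N := by
    have := ((Cfsg.sigmaCore N).subgroupOf N).card_mul_index
    rwa [Cfsg.Agent.Lib.Helper1.card_subgroupOf_of_le hle] at this
  have h2 := hq.2.1
  rw [← h1] at h2
  exact ((Nat.Prime.dvd_mul hq.1).mp h2).resolve_right (hidx q hq.1 hq)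

/-- (WP), first part: `q ∉ β(N)`. -/
theorem wp_not_beta [Finite G] (hG : Cfsg.IsMinSimpleOddOrder G) (h23b : H23b G)
    {M N : Subgroup G} (hM : IsCoatom M) (hN : IsCoatom N)
    (hnc : ∀ g : G, M ≠ N.map (MulAut.conj g).toMonoidHom)
    {q : ℕ} [Fact q.Prime] (hqM : q ∈ Cfsg.sigma M) (hqN : q ∈ Cfsg.sigma N) :
    q ∉ Cfsg.beta N := by
  intro hβ
  have hqp : q.Prime := Fact.out
  have hd := dvd_card_sigmaCore hG hN hqN
  obtain ⟨x, hx⟩ := exists_prime_orderOf_dvd_card' q hd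
  obtain ⟨X, hXdef⟩ : ∃ X : Subgroup G, X = Subgroup.zpowers (x : G) := ⟨_, rfl⟩
  have hXcard : Nat.card X = q := by
    rw [hXdef, Nat.card_zpowers, Subgroup.orderOf_coe, hx]
  have hXN : X ≤ N := by
    rw [hXdef]; exact Subgroup.zpowers_le.mpr (sigmaCore_le N x.2)
  obtain ⟨P⟩ : Nonempty (Sylow q ↥(Cfsg.sigmaCore N)) := inferInstance
  obtain ⟨hPu, hPN⟩ := h23b N hN q hqN X hXN hXcard P hβ
  obtain ⟨-, ⟨-, hidxG⟩, -⟩ := Cfsg.Agent.S1350.result hG N hN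
  obtain ⟨SN, hSN'⟩ := exists_sylow_eq_of_not_dvd_index (hidxG q hqp hqN) P
  obtain ⟨g, hg⟩ := exists_conj_eq_of_sylow_uniq hM hN hqM SN (hSN' ▸ hPN) (hSN' ▸ hPu)
  exact hnc g hg

/-- (WP), second part: `q ∤ |N_σ'|`. -/
theorem wp_not_dvd_commutator [Finite G] (hG : Cfsg.IsMinSimpleOddOrder G) (h23 : H23 G)
    {M N : Subgroup G} (hM : IsCoatom M) (hN : IsCoatom N)
    (hnc : ∀ g : G, M ≠ N.map (MulAut.conj g).toMonoidHom)
    {q : ℕ} [Fact q.Prime] (hqM : q ∈ Cfsg.sigma M) (hqN : q ∈ Cfsg.sigma N) :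
    ¬ q ∣ Nat.card ↥⁅Cfsg.sigmaCore N, Cfsg.sigmaCore N⁆ := by
  intro hd
  have hqp : q.Prime := Fact.out
  obtain ⟨x, hx⟩ := exists_prime_orderOf_dvd_card' q hd
  obtain ⟨X, hXdef⟩ : ∃ X : Subgroup G, X = Subgroup.zpowers (x : G) := ⟨_, rfl⟩
  have hXcard : Nat.card X = q := by
    rw [hXdef, Nat.card_zpowers, Subgroup.orderOf_coe, hx]
  have hXc : X ≤ ⁅Cfsg.sigmaCore N, Cfsg.sigmaCore N⁆ := by
    rw [hXdef]; exact Subgroup.zpowers_le.mpr x.2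
  have hcle : ⁅Cfsg.sigmaCore N, Cfsg.sigmaCore N⁆ ≤ Cfsg.sigmaCore N :=
    Cfsg.Agent.Lib.Helper23.BGY.commutator_self_le _
  have hXN : X ≤ N := hXc.trans (hcle.trans (sigmaCore_le N))
  obtain ⟨P⟩ : Nonempty (Sylow q ↥(Cfsg.sigmaCore N)) := inferInstance
  obtain ⟨hPu, hPN⟩ := h23 N hN q hqN X hXN hXcard P hXc
  obtain ⟨-, ⟨-, hidxG⟩, -⟩ := Cfsg.Agent.S1350.result hG N hN
  obtain ⟨SN, hSN'⟩ := exists_sylow_eq_of_not_dvd_index (hidxG q hqp hqN) P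
  obtain ⟨g, hg⟩ := exists_conj_eq_of_sylow_uniq hM hN hqM SN (hSN' ▸ hPN) (hSN' ▸ hPu)
  exact hnc g hg

/-- (WP), third part: the Sylow `q`-subgroups of `G` are abelian. -/
theorem wp_sylow_comm [Finite G] (h22 : H22 G)
    {M N : Subgroup G} (hM : IsCoatom M) (hN : IsCoatom N)
    (hnc : ∀ g : G, N ≠ M.map (MulAut.conj g).toMonoidHom)
    {q : ℕ} [Fact q.Prime] (hqM : q ∈ Cfsg.sigma M) (hqN : q ∈ Cfsg.sigma N) :
    ∀ S : Sylow q G, IsMulCommutative (S : Subgroup G) := by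
  obtain ⟨SM, hSMM, -, -⟩ := exists_sylow_of_mem_sigma hqM
  have h1 : IsMulCommutative (SM : Subgroup G) := by
    by_contra hna
    have hu := h22 q SM SM.isPGroup' hna
    obtain ⟨g, hg⟩ := exists_conj_eq_of_sylow_uniq hN hM hqN SM hSMM hu
    exact hnc g hg
  intro S
  obtain ⟨g, hg⟩ := MulAction.exists_smul_eq G SM S
  rw [← hg, sylow_smul_coe]
  apply isMulCommutative_of_comm
  rintro _ ⟨a, ha, rfl⟩ _ ⟨b, hb, rfl⟩
  rw [← map_mul, ← map_mul, comm_of_isMulCommutative h1 a ha b hb]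

/-- `Ω₁` of an abelian subgroup. -/
def omegaOne (P : Subgroup G) (hc : ∀ a ∈ P, ∀ b ∈ P, a * b = b * a) (q : ℕ) : Subgroup G where
  carrier := {x | x ∈ P ∧ x ^ q = 1}
  mul_mem' := by
    rintro a b ⟨ha, ha'⟩ ⟨hb, hb'⟩
    refine ⟨P.mul_mem ha hb, ?_⟩
    rw [(show Commute a b from hc a ha b hb).mul_pow, ha', hb', one_mul]
  one_mem' := ⟨P.one_mem, one_pow _⟩
  inv_mem' := by
    rintro a ⟨ha, ha'⟩
    exact ⟨P.inv_mem ha, by rw [inv_pow, ha', inv_one]⟩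

theorem mem_omegaOne {P : Subgroup G} {hc : ∀ a ∈ P, ∀ b ∈ P, a * b = b * a} {q : ℕ} {x : G} :
    x ∈ omegaOne P hc q ↔ x ∈ P ∧ x ^ q = 1 := Iff.rfl

/-- (WP), fourth part: the Sylow `q`-subgroups of `G` have rank at most `2`. -/
theorem wp_rank [Finite G] (hG : Cfsg.IsMinSimpleOddOrder G) (h22 : H22 G) (h23b : H23b G)
    {M N : Subgroup G} (hM : IsCoatom M) (hN : IsCoatom N)
    (hnc : ∀ g : G, N ≠ M.map (MulAut.conj g).toMonoidHom)
    {q : ℕ} [Fact q.Prime] (hqM : q ∈ Cfsg.sigma M) (hqN : q ∈ Cfsg.sigma N) :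
    Cfsg.PRankLE q 2 G := by
  have hqp : q.Prime := Fact.out
  have hcomm := wp_sylow_comm h22 hM hN hnc hqM hqN
  obtain ⟨SM, hSMM, -, -⟩ := exists_sylow_of_mem_sigma hqM
  apply pRankLE_of_sylow SM
  intro E hESM hEc hEe
  by_contra hlt
  push Not at hlt
  apply wp_not_beta hG h23b hN hM hnc hqN hqM
  refine ⟨⟨hqp, not_pRankLE_of_elemAb (hESM.trans hSMM) (comm_of_isMulCommutative hEc) hEe hlt⟩,
    hqp, ?_, ?_⟩
  · intro hr
    have := hr E hEc hEe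
    omega
  · intro P A hAP hAe hAc
    obtain ⟨g, hg⟩ := MulAction.exists_smul_eq G SM P
    have hPc := comm_of_isMulCommutative (hcomm P)
    refine ⟨omegaOne (P : Subgroup G) hPc q, fun x hx => hx.1,
      ⟨isMulCommutative_of_comm (fun a ha b hb => hPc a ha.1 b hb.1), fun a ha => ha.2⟩, ?_⟩
    have hAB : A ≤ omegaOne (P : Subgroup G) hPc q := fun a ha => ⟨hAP ha, hAe.2 a ha⟩
    have hEB : E.map (MulAut.conj g).toMonoidHom ≤ omegaOne (P : Subgroup G) hPc q := by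
      rintro _ ⟨e, he, rfl⟩
      refine ⟨?_, ?_⟩
      · rw [← hg, sylow_smul_coe]
        exact Subgroup.mem_map_of_mem _ (hESM he)
      · rw [← map_pow, hEe e he, map_one]
    have hcard : q ^ 2 < Nat.card (omegaOne (P : Subgroup G) hPc q) := by
      have := Subgroup.card_le_of_le hEB
      rw [card_map_conj] at this
      omega
    refine lt_of_le_of_ne hAB ?_
    intro h
    rw [h] at hAc
    omega

/-- (WP), last part: if `M ∩ N` contains a non-identity `q`-subgroup then `N_σ` is not nilpotent. -/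
theorem wp_not_nilpotent [Finite G] (hG : Cfsg.IsMinSimpleOddOrder G) (h24 : H24 G)
    {M N : Subgroup G} (hM : IsCoatom M) (hN : IsCoatom N)
    (hnc : ∀ g : G, N ≠ M.map (MulAut.conj g).toMonoidHom)
    {q : ℕ} [Fact q.Prime] (hqM : q ∈ Cfsg.sigma M) (hqN : q ∈ Cfsg.sigma N)
    {Y : Subgroup G} (hYq : IsPGroup q Y) (hY1 : Y ≠ ⊥) (hYM : Y ≤ M) (hYN : Y ≤ N) :
    ¬ Group.IsNilpotent (Cfsg.sigmaCore N) := by
  intro hnil
  obtain ⟨QN, hQN, hQNn⟩ := exists_normal_isSylIn hG hN hnil hqN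
  exact hY1 (lemmaW hG h24 hM hN hnc hqM hqN hQN hQNn hYq hYM hYN)

/-- (WP), last part: if `M ∩ N` contains a non-identity `q`-subgroup then `τ₂(N) = ∅`. -/
theorem wp_tau2_empty [Finite G] (hG : Cfsg.IsMinSimpleOddOrder G) (h17 : H17n G) (h24 : H24 G)
    {M N : Subgroup G} (hM : IsCoatom M) (hN : IsCoatom N)
    (hnc : ∀ g : G, N ≠ M.map (MulAut.conj g).toMonoidHom)
    {q : ℕ} [Fact q.Prime] (hqM : q ∈ Cfsg.sigma M) (hqN : q ∈ Cfsg.sigma N)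
    {Y : Subgroup G} (hYq : IsPGroup q Y) (hY1 : Y ≠ ⊥) (hYM : Y ≤ M) (hYN : Y ≤ N) :
    Cfsg.tau2 N = ∅ := by
  rw [Set.eq_empty_iff_forall_notMem]
  intro p hp
  haveI : Fact p.Prime := ⟨hp.1⟩
  obtain ⟨A, hAN, hAe, hAc⟩ := exists_elemAb_sq (p := p) hp.2.2.2
  exact wp_not_nilpotent hG h24 hM hN hnc hqM hqN hYq hY1 hYM hYN
    (h17 N hN p hp A ⟨hAN, hAe, hAc⟩)

/-- **(WP)**, the weak `σ`-partition, all parts together (symmetric in `M`, `N`). -/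
theorem weak_sigma_partition [Finite G] (hG : Cfsg.IsMinSimpleOddOrder G)
    (h17 : H17n G) (h22 : H22 G) (h23 : H23 G) (h23b : H23b G) (h24 : H24 G)
    {M N : Subgroup G} (hM : IsCoatom M) (hN : IsCoatom N)
    (hnc : ∀ g : G, N ≠ M.map (MulAut.conj g).toMonoidHom)
    {q : ℕ} [Fact q.Prime] (hqM : q ∈ Cfsg.sigma M) (hqN : q ∈ Cfsg.sigma N) :
    (q ∉ Cfsg.beta M ∧ q ∉ Cfsg.beta N) ∧
      (¬ q ∣ Nat.card ↥⁅Cfsg.sigmaCore M, Cfsg.sigmaCore M⁆ ∧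
        ¬ q ∣ Nat.card ↥⁅Cfsg.sigmaCore N, Cfsg.sigmaCore N⁆) ∧
      (∀ S : Sylow q G, IsMulCommutative (S : Subgroup G)) ∧ Cfsg.PRankLE q 2 G ∧
      ∀ Y : Subgroup G, IsPGroup q Y → Y ≠ ⊥ → Y ≤ M → Y ≤ N →
        (¬ Group.IsNilpotent (Cfsg.sigmaCore M) ∧ ¬ Group.IsNilpotent (Cfsg.sigmaCore N)) ∧
          Cfsg.tau2 M = ∅ ∧ Cfsg.tau2 N = ∅ := by
  have hnc' := nonconj_symm hnc
  refine ⟨⟨wp_not_beta hG h23b hN hM hnc hqN hqM, wp_not_beta hG h23b hM hN hnc' hqM hqN⟩,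
    ⟨wp_not_dvd_commutator hG h23 hN hM hnc hqN hqM,
      wp_not_dvd_commutator hG h23 hM hN hnc' hqM hqN⟩,
    wp_sylow_comm h22 hM hN hnc hqM hqN, wp_rank hG h22 h23b hM hN hnc hqM hqN, ?_⟩
  intro Y hYq hY1 hYM hYN
  exact ⟨⟨wp_not_nilpotent hG h24 hN hM hnc' hqN hqM hYq hY1 hYN hYM,
    wp_not_nilpotent hG h24 hM hN hnc hqM hqN hYq hY1 hYM hYN⟩,
    wp_tau2_empty hG h17 h24 hN hM hnc' hqN hqM hYq hY1 hYN hYM,
    wp_tau2_empty hG h17 h24 hM hN hnc hqM hqN hYq hY1 hYM hYN⟩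

end Cfsg.Agent.Lib.Helper2.BGCor
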