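import Mathlib
import Cfsg.Agent.Lib.Helper2.BGCorH
import Cfsg.Agent.Lib.Helper9.Cyclic

/-!
# B & G 12.14(f,g) = statement (G) of `notes/bg14/NOTES_h20.md`, section 0 (helper2)

`q ∈ σ(M)`, `X ≠ 1` a `q`-subgroup of `M`, `L ≠ M` a maximal subgroup containing `N_G(X)` with
`q ∉ σ(L)`.  Then `q ∈ τ₂(L)`, `L_σ` is nilpotent, `L_σ ∩ M = 1` and `M ∩ L` is a complement of
`L_σ` in `L`.

The conclusions of the frozen statements S1416, S1417, S1418, S1424 are taken as hypotheses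
(`H16`, `H17` of helper23's `BGY4`, `H17n`, `H24` of helper16's `BGPrimA`, and `H18e` below).
-/

set_option autoImplicit false
open scoped commutatorElement

namespace Cfsg.Agent.Lib.Helper2.BGCor

open Cfsg Cfsg.Agent.Lib.Helper1.BGX
open Cfsg.Agent.Lib.Helper8 (mem_map_conj conj_mem_map_conj map_conj_map_conj map_conj_one
  map_conj_le_iff map_conj_eq_iff card_map_conj mem_normalizer_iff_map_conj IsSylIn sylow_smul_coe)
open Cfsg.Agent.Lib.Helper17.BGU (exists_coatom_ge normalizer_ne_top isCoatom_map_conj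
  inUniqueMaximal_map_conj normalizer_eq_of_coatom not_pRankLE_of_elemAb pRankLE_of_sylow)
open Cfsg.Agent.Lib.Helper16.BGPrim (H17n H23 H24 lemmaW exists_normal_isSylIn
  exists_sylow_eq_of_not_dvd_index sigma_map_conj isSylIn_of_not_dvd_relIndex
  card_le_of_le_cyclic)
open Cfsg.Agent.Lib.Helper23.BGY (exists_elemAb_sq H16 H17 normalizer_le_of_not_cyclic
  mem_tau2_of_not_rank_one le_normalizer_sigmaCore exists_conj_mem_compl isComplIn_conj)

variable {G : Type*} [Group G]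

/-- the part of S1418 we use here: `M ∩ N_G(A) = E`. -/
def H18e (G : Type*) [Group G] : Prop :=
  ∀ (M : Subgroup G), IsCoatom M → ∀ E : Subgroup G, Cfsg.IsComplIn E (Cfsg.sigmaCore M) M →
    ∀ (p : ℕ) [Fact p.Prime], p ∈ Cfsg.tau2 M → ∀ A : Subgroup G,
    (A ≤ E ∧ Cfsg.IsElementaryAbelian p A ∧ Nat.card A = p ^ 2) →
    M ⊓ Subgroup.normalizer (A : Set G) = E

/-- an elementary abelian group of order `p ^ 2` is not cyclic. -/
theorem not_isCyclic_of_elemAb_sq [Finite G] {p : ℕ} (hp : p.Prime) {A : Subgroup G}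
    (hAe : Cfsg.IsElementaryAbelian p A) (hAc : Nat.card A = p ^ 2) : ¬ IsCyclic ↥A := by
  intro hcyc
  have h1 := card_le_of_le_cyclic hp hcyc le_rfl hAe.2
  rw [hAc, sq] at h1
  have := lt_mul_of_one_lt_left hp.pos hp.one_lt
  omega

/-- **B & G 12.14(f,g)**. -/
theorem thm12_14fg [Finite G] (hG : Cfsg.IsMinSimpleOddOrder G)
    (h16 : H16 G) (h17 : H17 G) (h17n : H17n G) (h18e : H18e G) (h24 : H24 G)
    {M L : Subgroup G} (hM : IsCoatom M) (hL : IsCoatom L) (hLM : L ≠ M)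
    {q : ℕ} [Fact q.Prime] (hqM : q ∈ Cfsg.sigma M) (hqL : q ∉ Cfsg.sigma L)
    {X : Subgroup G} (hXq : IsPGroup q X) (hX1 : X ≠ ⊥) (hXM : X ≤ M)
    (hNX : Subgroup.normalizer (X : Set G) ≤ L) :
    q ∈ Cfsg.tau2 L ∧ Group.IsNilpotent (Cfsg.sigmaCore L) ∧ Cfsg.sigmaCore L ⊓ M = ⊥ ∧
      Cfsg.IsComplIn (M ⊓ L) (Cfsg.sigmaCore L) L := by
  have hqp : q.Prime := Fact.out
  have hXL : X ≤ L := Subgroup.le_normalizer.trans hNX
  obtain ⟨S, hXS⟩ := exists_sylow_in_ge (show X ≤ M ⊓ L from le_inf hXM hXL) hXq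
  obtain ⟨-, hNS, hidx⟩ := h24 M hM q hqM X hXq hX1 hXM L hL hLM hNX S hXS
  obtain ⟨S', hS'def⟩ : ∃ S' : Subgroup G,
    S' = (S : Subgroup ↥(M ⊓ L)).map (M ⊓ L).subtype := ⟨_, rfl⟩
  rw [← hS'def] at hXS hNS hidx
  have hS'ML : S' ≤ M ⊓ L := hS'def ▸ Subgroup.map_subtype_le _
  have hS'q : IsPGroup q S' := hS'def ▸ S.isPGroup'.map _
  have hS'L : IsSylIn q S' L := isSylIn_of_not_dvd_relIndex hS'q (hS'ML.trans inf_le_right) hidx
  have hqdvd : q ∣ Nat.card L := by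
    obtain ⟨k, hk⟩ := IsPGroup.iff_card.mp hXq
    have hk0 : k ≠ 0 := by
      rintro rfl
      rw [pow_zero] at hk
      exact hX1 (Subgroup.card_eq_one.mp hk)
    exact (dvd_pow_self q hk0).trans (hk ▸ Subgroup.card_dvd_of_le hXL)
  -- `S'` is not cyclic
  have hS'nc : ¬ IsCyclic ↥S' := by
    intro hcyc
    apply hqL
    have hNS'L : Subgroup.normalizer (S' : Set G) ≤ L := by
      intro n hn
      apply hNX
      rw [mem_normalizer_iff_map_conj]
      have h1 : X.map (MulAut.conj n).toMonoidHom ≤ S' := by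
        calc X.map (MulAut.conj n).toMonoidHom ≤ S'.map (MulAut.conj n).toMonoidHom :=
              Subgroup.map_mono hXS
          _ = S' := mem_normalizer_iff_map_conj.mp hn
      exact Cfsg.Agent.Lib.Helper9.eq_of_card_eq_of_le_isCyclic S' _ _ h1 hXS (card_map_conj X n)
    refine ⟨hqp, hqdvd, hS'L.toSylow, ?_⟩
    rw [hS'L.toSylow_map]
    exact hNS'L
  have hq2 : q ≠ 2 := ne_two_of_dvd_sub hG.1 hqM.2.1
  have hr1S : ¬ Cfsg.PRankLE q 1 ↥S' := by
    intro hr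
    apply hS'nc
    have hcyc : IsCyclic ↥(⊤ : Subgroup ↥S') :=
      Cfsg.Agent.Lib.Helper17.isCyclic_of_pRankLE_one hq2 hr ⊤ (by
        intro x
        obtain ⟨k, hk⟩ := hS'q (x : ↥S')
        exact ⟨k, Subtype.ext hk⟩)
    exact isCyclic_of_surjective _ Subgroup.topEquiv.surjective
  obtain ⟨A, hAS', hAe, hAc⟩ := exists_elemAb_sq (p := q) hr1S
  have hAM : A ≤ M := hAS'.trans (hS'ML.trans inf_le_left)
  have hAL : A ≤ L := hAS'.trans (hS'ML.trans inf_le_right)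
  have hr1L : ¬ Cfsg.PRankLE q 1 ↥L :=
    not_pRankLE_of_elemAb hAL (comm_of_isMulCommutative hAe.1) hAe.2 (by
      rw [hAc, pow_one, sq]
      exact lt_mul_of_one_lt_left hqp.pos hqp.one_lt)
  have hτ : q ∈ Cfsg.tau2 L := mem_tau2_of_not_rank_one hG hL hqp hqL hr1L
  have hnil : Group.IsNilpotent (Cfsg.sigmaCore L) := h17n L hL q hτ A ⟨hAL, hAe, hAc⟩
  obtain ⟨-, he⟩ := h17 L hL q hτ A ⟨hAL, hAe, hAc⟩
  have hLσM : Cfsg.sigmaCore L ⊓ M = ⊥ := he M hM hLM.symm hAM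
  refine ⟨hτ, hnil, hLσM, ?_⟩
  -- a complement containing `A`
  obtain ⟨hHall, -, -⟩ := Cfsg.Agent.S1350.result hG L hL
  obtain ⟨E0, hE0⟩ := exists_compl_sigmaCore hHall
  have hcopA : (Nat.card A).Coprime (Nat.card (Cfsg.sigmaCore L)) := by
    rw [hAc]
    exact Nat.Coprime.pow_left 2 ((Nat.Prime.coprime_iff_not_dvd hqp).mpr
      (fun hd => hqL (primes_card_sigmaCore L q hqp hd)))
  have hsolvσ : Group.IsSolvable (Cfsg.sigmaCore L) := by
    haveI := hnil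
    infer_instance
  obtain ⟨k, hk, hkA⟩ := exists_conj_mem_compl (le_normalizer_sigmaCore L) hE0 hAL hcopA
    (Or.inr hsolvσ)
  have hkL : k ∈ L := sigmaCore_le L hk
  obtain ⟨E, hEdef⟩ : ∃ E : Subgroup G, E = E0.map (MulAut.conj k).toMonoidHom := ⟨_, rfl⟩
  have hE : Cfsg.IsComplIn E (Cfsg.sigmaCore L) L :=
    hEdef ▸ isComplIn_conj (le_normalizer_sigmaCore L) hE0 hkL
  have hAE : A ≤ E := fun a ha => hEdef ▸ mem_map_conj.mpr (hkA a ha)
  have hEeq : L ⊓ Subgroup.normalizer (A : Set G) = E := h18e L hL E hE q hτ A ⟨hAE, hAe, hAc⟩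
  have hNAM : Subgroup.normalizer (A : Set G) ≤ M :=
    normalizer_le_of_not_cyclic hG h16 hM hqM (isPGroup_of_elemAb hAe) hAM
      (not_isCyclic_of_elemAb_sq hqp hAe hAc)
  have hEML : E ≤ M ⊓ L := by
    rw [← hEeq]
    exact le_inf (inf_le_right.trans hNAM) inf_le_left
  have hMLE : M ⊓ L = E := by
    apply le_antisymm _ hEML
    rintro x ⟨hxM, hxL⟩
    obtain ⟨e, he', s, hs, hxes⟩ := hE.2.2.2 x hxL
    have hsM : s ∈ M := by
      have : s = e⁻¹ * x := by rw [hxes]; group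
      rw [this]
      exact M.mul_mem (M.inv_mem (hEML he').1) hxM
    have hs1 : s ∈ Cfsg.sigmaCore L ⊓ M := ⟨hs, hsM⟩
    rw [hLσM, Subgroup.mem_bot] at hs1
    rw [hxes, hs1, mul_one]
    exact he'
  rw [hMLE]
  exact hE

end Cfsg.Agent.Lib.Helper2.BGCor
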