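/-
helper2: corollaries of the frozen statements of Bender–Glauberman sec. 10–12, part B:
the structure of `F(M)` (S1439) from the statement of S1417.
-/
import Cfsg.Agent.Lib.Helper2.BGCorA
import Cfsg.Agent.Lib.Helper17.BGFitA
import Cfsg.Agent.Lib.Helper17.BGUniqG
import Cfsg.Agent.Lib.Helper17.BGUniqC
import Cfsg.Agent.Lib.Helper17.PrimeAct3

set_option autoImplicit false
set_option linter.style.haveILetI false

namespace Cfsg.Agent.Lib.Helper2.BGCor

open Cfsg.Agent.Lib.Helper1.BGX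
open Cfsg.Agent.Lib.Helper17 (PrimeAct.pCoreOf_le PrimeAct.pCoreOf_isPGroup PrimeAct.pCoreOf_le_sylow
  PrimeAct.fittingOf_le_of_normal PrimeAct.le_fittingOf PrimeAct.fittingOf_eq_iSup
  PrimeAct.pCoreOf_le_fittingOf PrimeAct.fittingOf_le)

variable {G : Type*} [Group G]

/-- `N_G(Q)` normalizes the subgroup generated by the elements of `Q` of order dividing `p`. -/
theorem normalizer_le_normalizer_closure_pow [Finite G] (Q : Subgroup G) (p : ℕ) :
    Subgroup.normalizer (Q : Set G) ≤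
      Subgroup.normalizer ((Subgroup.closure {x : G | x ∈ Q ∧ x ^ p = 1} : Subgroup G) : Set G) := by
  intro g hg
  rw [Cfsg.Agent.Lib.Helper8.mem_normalizer_iff_map_conj]
  apply Cfsg.Agent.Lib.Helper8.map_conj_eq_of_le
  rw [Subgroup.map_le_iff_le_comap, Subgroup.closure_le]
  rintro x ⟨hxQ, hxp⟩
  show (MulAut.conj g) x ∈ Subgroup.closure _
  apply Subgroup.subset_closure
  refine ⟨?_, ?_⟩
  · rw [MulAut.conj_apply]; exact (Subgroup.mem_normalizer_iff.mp hg x).mp hxQ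
  · rw [← map_pow, hxp, map_one]

theorem nilp_of_le {A B : Subgroup G} (h : A ≤ B) (hB : Group.IsNilpotent ↥B) :
    Group.IsNilpotent ↥A := by
  haveI := hB
  apply Subgroup.isNilpotent_of_ker_le_center (Subgroup.inclusion h)
  rw [(MonoidHom.ker_eq_bot_iff _).mpr (Subgroup.inclusion_injective h)]
  exact bot_le

/-- If `p ∉ σ(M)` and `O_p(M) ≠ 1`, then `M` does not have cyclic Sylow `p`-subgroups. -/
theorem not_rank_one_of_pCoreOf_ne_bot [Finite G] (hG : Cfsg.IsMinSimpleOddOrder G) (hU : UT G)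
    {M : Subgroup G} (hM : IsCoatom M) {p : ℕ} [Fact p.Prime] (hpσ : p ∉ Cfsg.sigma M)
    (hQ : Cfsg.pCoreOf p M ≠ ⊥) : ¬ Cfsg.PRankLE p 1 M := by
  intro hr1
  have hpp : p.Prime := Fact.out
  haveI := hG.2.1
  set Q := Cfsg.pCoreOf p M with hQdef
  have hQM : Q ≤ M := PrimeAct.pCoreOf_le p M
  have hQp : IsPGroup p Q := PrimeAct.pCoreOf_isPGroup p M
  have hpQ : p ∣ Nat.card Q := by
    obtain ⟨n, hn⟩ := IsPGroup.iff_card.mp hQp
    rw [hn]
    rcases Nat.eq_zero_or_pos n with h0 | hpos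
    · exfalso
      apply hQ
      rw [h0, pow_zero] at hn
      exact Subgroup.card_eq_one.mp hn
    · exact dvd_pow_self p hpos.ne'
  have hpM : p ∣ Nat.card M := hpQ.trans (Subgroup.card_dvd_of_le hQM)
  have hp2 : p ≠ 2 := ne_two_of_dvd_sub hG.1 hpM
  have hQcyc : IsCyclic ↥(Cfsg.pCore p ↥M) :=
    Cfsg.Agent.Lib.Helper17.isCyclic_of_pRankLE_one hp2 hr1 (Cfsg.pCore p ↥M)
      (Cfsg.Agent.Lib.Helper1.pCore_isPGroup p ↥M)
  have hcomm : ∀ a ∈ Q, ∀ b ∈ Q, a * b = b * a := by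
    rintro _ ⟨a, ha, rfl⟩ _ ⟨b, hb, rfl⟩
    have h1 : (⟨a, ha⟩ : ↥(Cfsg.pCore p ↥M)) * ⟨b, hb⟩ = ⟨b, hb⟩ * ⟨a, ha⟩ :=
      (IsCyclic.commGroup (α := ↥(Cfsg.pCore p ↥M))).mul_comm _ _
    have h2 : a * b = b * a := congrArg Subtype.val h1
    exact congrArg Subtype.val h2
  set X₀ : Subgroup G := Subgroup.closure {x : G | x ∈ Q ∧ x ^ p = 1} with hX₀
  have hXprop := closure_pow_eq_one_le hcomm p
  have hX₀Q : X₀ ≤ Q := fun z hz => (hXprop z hz).1
  have hX₀M : X₀ ≤ M := hX₀Q.trans hQM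
  have hcard_le : Nat.card X₀ ≤ p ^ 1 :=
    card_le_of_pRankLE_sub hX₀M (fun a ha b hb => hcomm a (hXprop a ha).1 b (hXprop b hb).1)
      (fun a ha => (hXprop a ha).2) hr1
  obtain ⟨x₀, hx₀⟩ := exists_prime_orderOf_dvd_card' p hpQ
  have hx₀p : (x₀ : G) ^ p = 1 := by
    have := pow_orderOf_eq_one x₀
    rw [hx₀] at this
    exact congrArg Subtype.val this
  have hx₀X : (x₀ : G) ∈ X₀ := Subgroup.subset_closure ⟨x₀.2, hx₀p⟩
  have hord : orderOf (⟨(x₀ : G), hx₀X⟩ : ↥X₀) = p := by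
    rw [← hx₀, ← Subgroup.orderOf_coe, ← Subgroup.orderOf_coe x₀]
  have hdvd : p ∣ Nat.card X₀ := by
    rw [← hord]; exact orderOf_dvd_natCard _
  have hcard : Nat.card X₀ = p := by
    have h1 : p ≤ Nat.card X₀ := Nat.le_of_dvd Nat.card_pos hdvd
    rw [pow_one] at hcard_le
    exact le_antisymm hcard_le h1
  have hMQ : M ≤ Subgroup.normalizer (Q : Set G) :=
    Cfsg.Agent.Lib.Helper17.BGU.le_normalizer_pCoreOf p M
  have hMX : M ≤ Subgroup.normalizer (X₀ : Set G) :=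
    hMQ.trans (normalizer_le_normalizer_closure_pow Q p)
  have hX₀ne : X₀ ≠ ⊥ := by
    intro h
    rw [h, Subgroup.card_bot] at hcard
    exact hpp.one_lt.ne hcard
  have hN : Subgroup.normalizer (X₀ : Set G) = M :=
    Cfsg.Agent.Lib.Helper17.BGU.normalizer_eq_of_coatom hM hX₀M hX₀ne hMX
  exact (order_p_normalizer hG hU hM hpσ hcard (le_of_eq hN)).1.2 hr1

/-- For `p ∈ τ₂(M)`, `O_p(M)` is cyclic. -/
theorem pCoreOf_cyclic_of_tau2 [Finite G] (hG : Cfsg.IsMinSimpleOddOrder G)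
    {M : Subgroup G} (hM : IsCoatom M) (h125 : T125 M) {p : ℕ} [Fact p.Prime]
    (hτ : p ∈ Cfsg.tau2 M) : IsCyclic ↥(Cfsg.pCoreOf p M) := by
  have hpp : p.Prime := Fact.out
  haveI := hG.2.1
  set Q := Cfsg.pCoreOf p M with hQdef
  have hQM : Q ≤ M := PrimeAct.pCoreOf_le p M
  have hQp : IsPGroup p Q := PrimeAct.pCoreOf_isPGroup p M
  by_contra hnc
  have hQne : Q ≠ ⊥ := by
    intro h
    apply hnc
    rw [h]
    infer_instance
  have hpQ : p ∣ Nat.card Q := by
    obtain ⟨n, hn⟩ := IsPGroup.iff_card.mp hQp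
    rw [hn]
    rcases Nat.eq_zero_or_pos n with h0 | hpos
    · exfalso
      apply hQne
      rw [h0, pow_zero] at hn
      exact Subgroup.card_eq_one.mp hn
    · exact dvd_pow_self p hpos.ne'
  have hpM : p ∣ Nat.card M := hpQ.trans (Subgroup.card_dvd_of_le hQM)
  have hp2 : p ≠ 2 := ne_two_of_dvd_sub hG.1 hpM
  obtain ⟨A, hAQ, -, hAc, hAe, hA2⟩ :=
    Cfsg.Agent.Lib.Helper17.BGU.exists_normal_elemAb_sq_in hp2 hQp hnc
  have hAM : A ≤ M := hAQ.trans hQM
  have hAel : Cfsg.IsElementaryAbelian p A := ⟨isMulCommutative_of_comm hAc, hAe⟩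
  obtain ⟨-, hSyl, -⟩ := h125 p hτ A ⟨hAM, hAel, hA2⟩
  obtain ⟨P⟩ : Nonempty (Sylow p M) := inferInstance
  have hQP : Q ≤ (P : Subgroup M).map M.subtype := PrimeAct.pCoreOf_le_sylow M P
  obtain ⟨hiff, hnot⟩ := (hSyl P).2 (hAQ.trans hQP)
  apply hnot
  have hMQ : M ≤ Subgroup.normalizer (Q : Set G) :=
    Cfsg.Agent.Lib.Helper17.BGU.le_normalizer_pCoreOf p M
  have hMNA : M ≤ Subgroup.normalizer (A : Set G) := by
    intro m hm
    rw [Cfsg.Agent.Lib.Helper8.mem_normalizer_iff_map_conj]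
    apply Cfsg.Agent.Lib.Helper8.map_conj_eq_of_le
    rintro _ ⟨a, ha, rfl⟩
    show (MulAut.conj m) a ∈ A
    have h1 : (MulAut.conj m) a ∈ (P : Subgroup M).map M.subtype := by
      apply hQP
      rw [MulAut.conj_apply]
      exact (Subgroup.mem_normalizer_iff.mp (hMQ hm) a).mp (hAQ ha)
    apply (hiff _ h1).mp
    rw [← map_pow, hAe a ha, map_one]
  have hAne : A ≠ ⊥ := by
    intro h
    rw [h, Subgroup.card_bot] at hA2
    have : 1 < p ^ 2 := Nat.one_lt_pow (by norm_num) hpp.one_lt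
    omega
  have hNA : Subgroup.normalizer (A : Set G) = M :=
    Cfsg.Agent.Lib.Helper17.BGU.normalizer_eq_of_coatom hM hAM hAne hMNA
  refine le_trans ?_ (le_of_eq hNA)
  intro g hg
  rw [Cfsg.Agent.Lib.Helper8.mem_normalizer_iff_map_conj]
  apply Cfsg.Agent.Lib.Helper8.map_conj_eq_of_le
  rintro _ ⟨a, ha, rfl⟩
  show (MulAut.conj g) a ∈ A
  have h1 : (MulAut.conj g) a ∈ (P : Subgroup M).map M.subtype := by
    rw [MulAut.conj_apply]
    exact (Subgroup.mem_normalizer_iff.mp hg a).mp (hQP (hAQ ha))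
  apply (hiff _ h1).mp
  rw [← map_pow, hAe a ha, map_one]

/-- **S1439** from the statement of S1417. -/
theorem s1439_core [Finite G] (hG : Cfsg.IsMinSimpleOddOrder G) (hU : UT G)
    {M : Subgroup G} (hM : IsCoatom M) (h125 : T125 M) :
    IsCyclic ↥(Cfsg.piCoreOf {q | q.Prime ∧ q ∉ Cfsg.sigma M} (Cfsg.fittingOf M)) ∧
      (∀ p : ℕ, p.Prime →
        p ∣ Nat.card ↥(Cfsg.piCoreOf {q | q.Prime ∧ q ∉ Cfsg.sigma M} (Cfsg.fittingOf M)) →
        p ∈ Cfsg.tau2 M) ∧
      Cfsg.fittingOf M = Cfsg.fittingOf (Cfsg.sigmaCore M) ⊔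
        Cfsg.piCoreOf {q | q.Prime ∧ q ∉ Cfsg.sigma M} (Cfsg.fittingOf M) := by
  set π' : Set ℕ := {q | q.Prime ∧ q ∉ Cfsg.sigma M} with hπ'
  set F := Cfsg.fittingOf M with hF
  set Y := Cfsg.piCoreOf π' F with hY
  have hYF : Y ≤ F := Cfsg.Agent.Lib.Helper17.piCoreOf_le F
  have hFM : F ≤ M := PrimeAct.fittingOf_le M
  -- the key facts for a prime divisor of `|Y|`
  have key : ∀ p : ℕ, p.Prime → p ∣ Nat.card Y → p ∈ Cfsg.tau2 M := by
    intro p hpp hd
    haveI : Fact p.Prime := ⟨hpp⟩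
    have hpπ : p ∈ π' := by
      rw [hY, Cfsg.Agent.Lib.Helper17.card_piCoreOf] at hd
      exact Cfsg.Agent.Lib.Helper12.piCore_mem π' p hpp hd
    have hpσ : p ∉ Cfsg.sigma M := hpπ.2
    obtain ⟨y, hy⟩ := exists_prime_orderOf_dvd_card' p hd
    have hyo : orderOf (y : G) = p := by rw [Subgroup.orderOf_coe]; exact hy
    have hzF : Subgroup.zpowers (y : G) ≤ F := by
      rw [Subgroup.zpowers_le]; exact hYF y.2
    have hzp : IsPGroup p (Subgroup.zpowers (y : G)) := by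
      apply IsPGroup.of_card (n := 1)
      rw [Nat.card_zpowers, hyo, pow_one]
    have hzQ : Subgroup.zpowers (y : G) ≤ Cfsg.pCoreOf p M :=
      Cfsg.Agent.Lib.Helper17.BGU.le_pCoreOf_of_le_fittingOf hzF hzp
    have hQne : Cfsg.pCoreOf p M ≠ ⊥ := by
      intro h
      rw [h] at hzQ
      have h1 : (y : G) = 1 := by
        have := hzQ (Subgroup.mem_zpowers (y : G))
        simpa using this
      rw [h1, orderOf_one] at hyo
      exact hpp.one_lt.ne hyo
    have hnr1 := not_rank_one_of_pCoreOf_ne_bot hG hU hM hpσ hQne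
    have hr2 : Cfsg.PRankLE p 2 M := by
      by_contra h
      exact hpσ (alpha_subset_sigma hG hU hM ⟨hpp, h⟩)
    exact ⟨hpp, hpσ, hr2, hnr1⟩
  have hFnil : Group.IsNilpotent ↥F := Cfsg.Agent.Lib.Helper9.fittingOf_isNilpotent M
  have hYnil : Group.IsNilpotent ↥Y := nilp_of_le hYF hFnil
  refine ⟨?_, key, ?_⟩
  · -- `Y` is cyclic
    haveI : IsZGroup ↥Y := by
      refine ⟨fun p hp P => ?_⟩
      haveI : Fact p.Prime := ⟨hp⟩
      by_cases hd : p ∣ Nat.card Y
      · have hτ := key p hp hd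
        haveI hQc : IsCyclic ↥(Cfsg.pCoreOf p M) := pCoreOf_cyclic_of_tau2 hG hM h125 hτ
        have hle : (P : Subgroup ↥Y).map Y.subtype ≤ Cfsg.pCoreOf p M := by
          apply Cfsg.Agent.Lib.Helper17.BGU.le_pCoreOf_of_le_fittingOf
          · exact (Subgroup.map_subtype_le _).trans hYF
          · exact P.isPGroup'.map _
        let f : ↥(P : Subgroup ↥Y) →* ↥(Cfsg.pCoreOf p M) :=
          (Y.subtype.comp (P : Subgroup ↥Y).subtype).codRestrict (Cfsg.pCoreOf p M)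
            (fun x => hle ⟨x, x.2, rfl⟩)
        have hf : Function.Injective f := by
          intro a b hab
          have h0 : ((f a : ↥(Cfsg.pCoreOf p M)) : G) = ((f b : ↥(Cfsg.pCoreOf p M)) : G) :=
            congrArg Subtype.val hab
          have h1 : ((a : ↥Y) : G) = ((b : ↥Y) : G) := h0
          exact Subtype.ext (Subtype.ext h1)
        exact isCyclic_of_injective f hf
      · have h1 : Nat.card (P : Subgroup ↥Y) = 1 := by
          rw [P.card_eq_multiplicity, Nat.factorization_eq_zero_of_not_dvd hd, pow_zero]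
        haveI : Subsingleton ↥(P : Subgroup ↥Y) := (Nat.card_eq_one_iff_unique.mp h1).1
        infer_instance
    haveI := hYnil
    infer_instance
  · -- the decomposition of `F(M)`
    have hMσ : M ≤ Subgroup.normalizer ((Cfsg.sigmaCore M : Subgroup G) : Set G) := by
      intro m hm
      rw [Cfsg.Agent.Lib.Helper8.mem_normalizer_iff_map_conj]
      apply Cfsg.Agent.Lib.Helper8.map_conj_eq_of_le
      rintro _ ⟨y, hy, rfl⟩
      show (MulAut.conj m) y ∈ _
      rw [MulAut.conj_apply]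
      exact conj_mem_sigmaCore hm hy
    apply le_antisymm
    · rw [hF, PrimeAct.fittingOf_eq_iSup]
      apply iSup_le
      intro p
      haveI : Fact (p : ℕ).Prime := ⟨p.2⟩
      by_cases hpσ : (p : ℕ) ∈ Cfsg.sigma M
      · refine le_trans ?_ le_sup_left
        have hW : Cfsg.pCoreOf (p : ℕ) M ≤ Cfsg.sigmaCore M := by
          rintro _ ⟨w, hw, rfl⟩
          refine ⟨w, ?_, rfl⟩
          refine Cfsg.Agent.Lib.Helper12.le_piCore (Cfsg.sigma M) (Cfsg.pCore (p : ℕ) ↥M)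
            (Cfsg.Agent.Lib.Helper1.pCore_normal (p : ℕ) ↥M) ?_ hw
          intro q hq hqd
          have hpg := Cfsg.Agent.Lib.Helper1.pCore_isPGroup (p : ℕ) ↥M
          obtain ⟨n, hn⟩ := IsPGroup.iff_card.mp hpg
          rw [hn] at hqd
          have : q = (p : ℕ) := (Nat.prime_dvd_prime_iff_eq hq p.2).mp (hq.dvd_of_dvd_pow hqd)
          rw [this]; exact hpσ
        apply PrimeAct.le_fittingOf _ _ hW
        · exact (sigmaCore_le M).trans (Cfsg.Agent.Lib.Helper17.BGU.le_normalizer_pCoreOf (p : ℕ) M)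
        · exact (PrimeAct.pCoreOf_isPGroup (p : ℕ) M).isNilpotent
      · refine le_trans ?_ le_sup_right
        apply Cfsg.Agent.Lib.Helper17.le_piCoreOf
        · exact PrimeAct.pCoreOf_le_fittingOf M (p : ℕ)
        · exact hFM.trans (Cfsg.Agent.Lib.Helper17.BGU.le_normalizer_pCoreOf (p : ℕ) M)
        · intro q hq hqd
          obtain ⟨n, hn⟩ := IsPGroup.iff_card.mp (PrimeAct.pCoreOf_isPGroup (p : ℕ) M)
          rw [hn] at hqd
          have : q = (p : ℕ) := (Nat.prime_dvd_prime_iff_eq hq p.2).mp (hq.dvd_of_dvd_pow hqd)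
          rw [this]; exact ⟨p.2, hpσ⟩
    · apply sup_le
      · exact PrimeAct.fittingOf_le_of_normal (Cfsg.sigmaCore M) M (sigmaCore_le M) hMσ
      · exact hYF

end Cfsg.Agent.Lib.Helper2.BGCor
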