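import Mathlib
import Cfsg.Agent.Lib.Helper2.BGCorI
import Cfsg.Agent.Lib.Helper16.BGPrimD
import Cfsg.Agent.S0033
import Cfsg.Agent.S1415
import Cfsg.Agent.S1420

/-!
# Theorem T1 of `notes/bg14/NOTES_h20.md`, section 10, part 1 (helper2)

`M` maximal, `K ≠ 1` a Hall `κ(M)`-subgroup and `κ(M) ∩ τ₃(M) = ∅`.  This file: `κ(M) = τ₁(M)`,
the normal abelian Hall subgroup `U` of a complement `E ⊇ K`, and `C_U(k) = 1`.

Hypotheses (for the given `M`): `H28 M` (the statement of S1428) and `CorR M` (Corollary R).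
-/

set_option autoImplicit false
set_option linter.style.haveILetI false
open scoped commutatorElement

namespace Cfsg.Agent.Lib.Helper2.BGCor

open Cfsg Cfsg.Agent.Lib.Helper1.BGX
open Cfsg.Agent.Lib.Helper8 (mem_map_conj conj_mem_map_conj map_conj_map_conj map_conj_one
  map_conj_le_iff map_conj_eq_iff card_map_conj mem_normalizer_iff_map_conj IsSylIn sylow_smul_coe)
open Cfsg.Agent.Lib.Helper16.BGPrim (exists_hall_ge' ut le_normalizer_of_conj_mem)
open Cfsg.Agent.Lib.Helper23.BGY (mem_tau2_of_not_rank_one not_mem_sigma_of_dvd_compl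
  exists_conj_mem_compl isComplIn_conj)

variable {G : Type*} [Group G]

/-- the primes of `U`: outside `κ(M) ∪ σ(M)`. -/
def piU (M : Subgroup G) : Set ℕ := {q | q.Prime ∧ q ∉ Cfsg.kappa M ∧ q ∉ Cfsg.sigma M}

/-- the statement of S1428 for `M`. -/
def H28 (M : Subgroup G) : Prop :=
  ∀ E : Subgroup G, Cfsg.IsComplIn E (Cfsg.sigmaCore M) M → ∀ p : ℕ, p ∈ Cfsg.tau1 M →
    ∀ P : Subgroup G, P ≤ E → Nat.card P = p →
    ∀ R : Subgroup G, R ≤ E ⊓ Subgroup.centralizer (P : Set G) → (Nat.card R).Prime →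
    Cfsg.sigmaCore M ⊓ Subgroup.centralizer (P : Set G) ≤
      Cfsg.sigmaCore M ⊓ Subgroup.centralizer (R : Set G)

/-- Corollary R of the notes for `M`: no element of prime order in `κ(M)` commutes with an
element of `M` of prime order in `τ₂(M)`. -/
def CorR (M : Subgroup G) : Prop :=
  ∀ k ∈ M, orderOf k ∈ Cfsg.kappa M → ∀ x ∈ M, x * k = k * x → orderOf x ∈ Cfsg.tau2 M → False

/-- Corollary G1 of the notes for `M`. -/
def CorG1 (M : Subgroup G) : Prop :=
  ∀ X : Subgroup G, X ≤ M → Nat.card X ∈ Cfsg.kappa M → ∀ H : Subgroup G, IsCoatom H →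
    Subgroup.normalizer (X : Set G) ≤ H → X ≤ Cfsg.sigmaCore H

/-! ### general lemmas -/

/-- an element of order `p ∈ κ(M)` of `M` centralizes a non-identity element of `M_σ`. -/
theorem kappa_cent [Finite G] {M : Subgroup G} {p : ℕ} (hp : p ∈ Cfsg.kappa M) {x : G}
    (hxM : x ∈ M) (hx : orderOf x = p) :
    ∃ y ∈ Cfsg.sigmaCore M, y ≠ 1 ∧ x * y = y * x := by
  obtain ⟨hpp, -, -, hSyl⟩ := hp
  haveI : Fact p.Prime := ⟨hpp⟩
  have hzp : IsPGroup p ↥(Subgroup.zpowers (⟨x, hxM⟩ : ↥M)) := by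
    apply IsPGroup.of_card (n := 1)
    rw [Nat.card_zpowers, pow_one, Subgroup.orderOf_mk, hx]
  obtain ⟨P, hP⟩ := hzp.exists_le_sylow
  obtain ⟨hcyc, x', hx'P, hx'1, y, hy, hy1, hxy⟩ := hSyl P
  refine ⟨y, hy, hy1, ?_⟩
  have hpd : p ∣ Nat.card (Subgroup.zpowers x') := by
    rw [Nat.card_zpowers]
    obtain ⟨n, hn⟩ := P.isPGroup' ⟨x', hx'P⟩
    have hn' : x' ^ p ^ n = 1 := by
      have := congrArg Subtype.val hn
      simpa using this
    obtain ⟨m, -, hm⟩ := (Nat.dvd_prime_pow hpp).mp (orderOf_dvd_of_pow_eq_one hn')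
    have hm0 : m ≠ 0 := by
      rintro rfl
      rw [pow_zero, orderOf_eq_one_iff] at hm
      exact hx'1 hm
    rw [hm]
    exact dvd_pow_self p hm0
  obtain ⟨z, hz⟩ := exists_prime_orderOf_dvd_card' p hpd
  have hzle : Subgroup.zpowers (z : ↥M) ≤ Subgroup.zpowers x' := Subgroup.zpowers_le.mpr z.2
  have hx'le : Subgroup.zpowers x' ≤ (P : Subgroup ↥M) := Subgroup.zpowers_le.mpr hx'P
  haveI := hcyc
  have heq : Subgroup.zpowers (⟨x, hxM⟩ : ↥M) = Subgroup.zpowers (z : ↥M) :=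
    Cfsg.Agent.Lib.Helper9.eq_of_card_eq_of_le_isCyclic (P : Subgroup ↥M) _ _ hP
      (hzle.trans hx'le) (by
        rw [Nat.card_zpowers, Nat.card_zpowers, Subgroup.orderOf_mk, hx, Subgroup.orderOf_coe, hz])
  have hxmem : (⟨x, hxM⟩ : ↥M) ∈ Subgroup.zpowers x' := by
    apply hzle
    rw [← heq]
    exact Subgroup.mem_zpowers _
  obtain ⟨i, hi⟩ := Subgroup.mem_zpowers_iff.mp hxmem
  have hxi : x = (x' : G) ^ i := by
    have := congrArg Subtype.val hi
    simpa using this.symm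
  rw [hxi]
  exact ((Commute.zpow_left (show Commute (x' : G) y from hxy) i)).eq

/-- a subgroup normalized by an element `k` of prime order acting fixed-point-freely is
nilpotent (Thompson). -/
theorem isNilpotent_of_fpf_conj [Finite G] {U : Subgroup G} {k : G} {s : ℕ} (hs : s.Prime)
    (hk : k ∈ Subgroup.normalizer (U : Set G)) (hks : k ^ s = 1)
    (hfpf : U ⊓ Subgroup.centralizer ({k} : Set G) = ⊥) : Group.IsNilpotent ↥U := by
  set N : Subgroup ↥(Subgroup.normalizer (U : Set G)) :=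
    U.subgroupOf (Subgroup.normalizer (U : Set G)) with hN
  haveI : N.Normal := Subgroup.normal_in_normalizer
  have hnil : Group.IsNilpotent ↥N := by
    by_cases hsub : Subsingleton ↥N
    · infer_instance
    set φ : ↥N ≃* ↥N := MulAut.conjNormal (⟨k, hk⟩ : ↥(Subgroup.normalizer (U : Set G))) with hφ
    have hfix : MonoidHom.FixedPointFree ((φ : ↥N ≃* ↥N) : ↥N →* ↥N) := by
      intro y hy
      have h1 : ((φ y : ↥N) : ↥(Subgroup.normalizer (U : Set G))) = (y : _) :=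
        congrArg Subtype.val hy
      rw [hφ, MulAut.conjNormal_apply] at h1
      have h2 : k * ((y : ↥(Subgroup.normalizer (U : Set G))) : G) * k⁻¹ =
          ((y : ↥(Subgroup.normalizer (U : Set G))) : G) := by
        have := congrArg Subtype.val h1
        simpa using this
      have hyU : ((y : ↥(Subgroup.normalizer (U : Set G))) : G) ∈ U :=
        Subgroup.mem_subgroupOf.mp y.2
      have hyC : ((y : ↥(Subgroup.normalizer (U : Set G))) : G) ∈
          Subgroup.centralizer ({k} : Set G) := by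
        rw [Subgroup.mem_centralizer_iff]
        intro z hz
        rw [Set.mem_singleton_iff] at hz
        rw [hz]
        calc k * ((y : ↥(Subgroup.normalizer (U : Set G))) : G)
            = (k * ((y : ↥(Subgroup.normalizer (U : Set G))) : G) * k⁻¹) * k := by group
          _ = ((y : ↥(Subgroup.normalizer (U : Set G))) : G) * k := by rw [h2]
      have h3 : ((y : ↥(Subgroup.normalizer (U : Set G))) : G) ∈
          U ⊓ Subgroup.centralizer ({k} : Set G) := ⟨hyU, hyC⟩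
      rw [hfpf, Subgroup.mem_bot] at h3
      apply Subtype.ext
      apply Subtype.ext
      simpa using h3
    have hpow : φ ^ s = 1 := by
      rw [hφ, ← map_pow]
      have : (⟨k, hk⟩ : ↥(Subgroup.normalizer (U : Set G))) ^ s = 1 := Subtype.ext (by simpa using hks)
      rw [this, map_one]
    have hne : φ ≠ 1 := by
      intro h1
      apply hsub
      refine ⟨fun a b => ?_⟩
      have ha : a = 1 := hfix a (by rw [h1]; rfl)
      have hb : b = 1 := hfix b (by rw [h1]; rfl)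
      rw [ha, hb]
    have hord : orderOf φ = s := by
      have hd : orderOf φ ∣ s := orderOf_dvd_of_pow_eq_one hpow
      rcases (Nat.dvd_prime hs).mp hd with h | h
      · exact absurd (orderOf_eq_one_iff.mp h) hne
      · exact h
    exact Cfsg.Agent.S0033.result φ hfix s hs hord
  haveI := hnil
  exact Group.nilpotent_of_mulEquiv (Subgroup.subgroupOfEquivOfLe Subgroup.le_normalizer)

/-- `|M : E| = |M_σ|` for a complement `E`. -/
theorem relIndex_compl [Finite G] {M E : Subgroup G}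
    (hE : Cfsg.IsComplIn E (Cfsg.sigmaCore M) M) :
    E.relIndex M = Nat.card (Cfsg.sigmaCore M) := by
  obtain ⟨hEM, hSM, hES, hprod⟩ := hE
  have hc : Cfsg.Agent.Lib.Helper1.IsComplIn E (Cfsg.sigmaCore M) M :=
    ⟨hEM, hSM, disjoint_iff.mpr hES, fun m hm => by
      obtain ⟨a, ha, b, hb, hab⟩ := hprod m hm
      exact ⟨a, ha, b, hb, hab.symm⟩⟩
  have h1 := hc.card_mul_card
  have h2 : Nat.card E * E.relIndex M = Nat.card M := by
    have := (E.subgroupOf M).card_mul_index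
    rwa [Cfsg.Agent.Lib.Helper1.card_subgroupOf_of_le hEM] at this
  have hpos : 0 < Nat.card E := Nat.card_pos
  have : Nat.card E * E.relIndex M = Nat.card E * Nat.card (Cfsg.sigmaCore M) := by
    rw [h2, h1]
  exact Nat.eq_of_mul_eq_mul_left hpos this

/-- a prime dividing `|M|` and not in `σ(M)` divides the order of a complement. -/
theorem dvd_card_compl [Finite G] {M E : Subgroup G}
    (hE : Cfsg.IsComplIn E (Cfsg.sigmaCore M) M) {r : ℕ} (hr : r.Prime) (hrM : r ∣ Nat.card M)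
    (hrσ : r ∉ Cfsg.sigma M) : r ∣ Nat.card E := by
  have h2 : Nat.card E * E.relIndex M = Nat.card M := by
    have := (E.subgroupOf M).card_mul_index
    rwa [Cfsg.Agent.Lib.Helper1.card_subgroupOf_of_le hE.1] at this
  rw [← h2, relIndex_compl hE] at hrM
  exact ((Nat.Prime.dvd_mul hr).mp hrM).resolve_right
    (fun hd => hrσ (primes_card_sigmaCore M r hr hd))

/-! ### Step 1: `κ(M) = τ₁(M)` -/

theorem kappa_subset_tau1 [Finite G] {M : Subgroup G}
    (hκτ3 : ∀ p : ℕ, p ∈ Cfsg.kappa M → p ∉ Cfsg.tau3 M) {p : ℕ} (hp : p ∈ Cfsg.kappa M) :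
    p ∈ Cfsg.tau1 M := by
  have hr := pRankLE_one_of_kappa hp
  have hp' := hp
  obtain ⟨hpp, hpM, hpσ, -⟩ := hp
  by_cases hd : p ∣ Nat.card ↥⁅M, M⁆
  · exact absurd ⟨hpp, hpσ, hd, hr⟩ (hκτ3 p hp')
  · exact ⟨hpp, hpσ, hpM, hd, hr⟩

/-- (4.3) of the notes: if `κ(M) ∩ τ₁(M) ≠ ∅` then `τ₁(M) ⊆ κ(M)`. -/
theorem tau1_subset_kappa [Finite G] (hG : Cfsg.IsMinSimpleOddOrder G) {M : Subgroup G}
    (hM : IsCoatom M) (h28 : H28 M) {E : Subgroup G}
    (hE : Cfsg.IsComplIn E (Cfsg.sigmaCore M) M) {x : G} (hxE : x ∈ E) {p : ℕ}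
    (hx : orderOf x = p) (hpκ : p ∈ Cfsg.kappa M) (hpτ : p ∈ Cfsg.tau1 M) {r : ℕ}
    (hr : r ∈ Cfsg.tau1 M) : r ∈ Cfsg.kappa M := by
  have hpp : p.Prime := hpκ.1
  haveI : Group.IsSolvable ↥M := hG.2.2.2 M hM.1
  haveI : Group.IsSolvable ↥E :=
    Group.isSolvable_of_isSolvable_injective (Subgroup.inclusion_injective hE.1)
  have hPE : Subgroup.zpowers x ≤ E := Subgroup.zpowers_le.mpr hxE
  have hPc : Nat.card (Subgroup.zpowers x) = p := by rw [Nat.card_zpowers, hx]
  obtain ⟨E1, hE1, hPE1⟩ := exists_hall_ge' (Cfsg.tau1 M) hPE (by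
    intro q hq hd
    rw [hPc] at hd
    rw [(Nat.prime_dvd_prime_iff_eq hq hpp).mp hd]
    exact hpτ)
  obtain ⟨-, h15, -⟩ := Cfsg.Agent.S1415.result hG M hM E hE
  have hE1c : IsCyclic ↥E1 := h15 E1 hE1
  obtain ⟨hrp, hrσ, hrM, hrd, hr1⟩ := hr
  have hrE : r ∣ Nat.card E := dvd_card_compl hE hrp hrM hrσ
  have hrE1 : r ∣ Nat.card E1 := by
    have h2 : Nat.card E1 * E1.relIndex E = Nat.card E := by
      have := (E1.subgroupOf E).card_mul_index
      rwa [Cfsg.Agent.Lib.Helper1.card_subgroupOf_of_le hE1.1] at this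
    rw [← h2] at hrE
    exact ((Nat.Prime.dvd_mul hrp).mp hrE).resolve_right
      (hE1.2.2 r hrp ⟨hrp, hrσ, hrM, hrd, hr1⟩)
  haveI : Fact r.Prime := ⟨hrp⟩
  obtain ⟨z, hz⟩ := exists_prime_orderOf_dvd_card' r hrE1
  have hzo : orderOf (z : G) = r := by rw [Subgroup.orderOf_coe, hz]
  have hzE : (z : G) ∈ E := hE1.1 z.2
  -- `x` and `z` commute
  have hxz : (z : G) * x = x * (z : G) := by
    obtain ⟨g, hg⟩ := hE1c.exists_generator
    have hxE1 : x ∈ E1 := hPE1 (Subgroup.mem_zpowers x)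
    obtain ⟨i, hi⟩ := Subgroup.mem_zpowers_iff.mp (hg ⟨x, hxE1⟩)
    obtain ⟨j, hj⟩ := Subgroup.mem_zpowers_iff.mp (hg z)
    have h1 : z * (⟨x, hxE1⟩ : ↥E1) = ⟨x, hxE1⟩ * z := by
      rw [← hi, ← hj, ← zpow_add, ← zpow_add, add_comm]
    have h2 := congrArg (fun w : ↥E1 => (w : G)) h1
    simpa using h2
  obtain ⟨y, hy, hy1, hxy⟩ := kappa_cent hpκ (hE.1 hxE) hx
  have hRle : Subgroup.zpowers (z : G) ≤ E ⊓ Subgroup.centralizer ((Subgroup.zpowers x : Subgroup G) : Set G) := by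
    rw [Subgroup.zpowers_le]
    refine Subgroup.mem_inf.mpr ⟨hzE, ?_⟩
    rw [Subgroup.mem_centralizer_iff]
    intro w hw
    obtain ⟨i, rfl⟩ := Subgroup.mem_zpowers_iff.mp hw
    exact ((Commute.zpow_left (show Commute x (z : G) from hxz.symm) i)).eq
  have hRc : (Nat.card (Subgroup.zpowers (z : G))).Prime := by
    rw [Nat.card_zpowers, hzo]; exact hrp
  have h := h28 E hE p hpτ (Subgroup.zpowers x) hPE hPc (Subgroup.zpowers (z : G)) hRle hRc
  have hyP : y ∈ Cfsg.sigmaCore M ⊓ Subgroup.centralizer ((Subgroup.zpowers x : Subgroup G) : Set G) := by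
    refine Subgroup.mem_inf.mpr ⟨hy, ?_⟩
    rw [Subgroup.mem_centralizer_iff]
    intro w hw
    obtain ⟨i, rfl⟩ := Subgroup.mem_zpowers_iff.mp hw
    exact ((Commute.zpow_left (show Commute x y from hxy) i)).eq
  have hyR := (h hyP).2
  have hzy : (z : G) * y = y * (z : G) :=
    Subgroup.mem_centralizer_iff.mp hyR (z : G) (Subgroup.mem_zpowers _)
  rcases kappa_or_tau2 hG (ut hG) hM hy hy1 (hE.1 hzE) hrp hzo hzy hrσ with h1 | h1
  · exact h1
  · exact absurd hr1 h1.2.2.2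

end Cfsg.Agent.Lib.Helper2.BGCor
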