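import Mathlib
import Cfsg.Agent.Lib.Helper2.BGCorJ
import Cfsg.Agent.S1427

/-!
# Theorem T1 of `notes/bg14/NOTES_h20.md`, section 10, part 2 (helper2)

`M` maximal, `K ≠ 1` a Hall `κ(M)`-subgroup and `κ(M) ∩ τ₃(M) = ∅`.  Then the whole conclusion of
S1430 (`T142 M K`) holds, given the statement of S1428 for `M` (`H28 M`), Corollary R (`CorR M`)
and Corollary G1 (`CorG1 M`).
-/

set_option autoImplicit false
set_option linter.style.haveILetI false
open scoped commutatorElement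

namespace Cfsg.Agent.Lib.Helper2.BGCor

open Cfsg Cfsg.Agent.Lib.Helper1.BGX
open Cfsg.Agent.Lib.Helper8 (mem_map_conj conj_mem_map_conj map_conj_map_conj map_conj_one
  map_conj_le_iff map_conj_eq_iff card_map_conj mem_normalizer_iff_map_conj IsSylIn sylow_smul_coe
  map_conj_eq_of_le sylow_map_subtype_isSylIn)
open Cfsg.Agent.Lib.Helper16.BGPrim (exists_hall_ge' ut le_normalizer_of_conj_mem
  commutator_self_le' isSylIn_ne_bot)
open Cfsg.Agent.Lib.Helper23.BGY (mem_tau2_of_not_rank_one not_mem_sigma_of_dvd_compl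
  exists_conj_mem_compl isComplIn_conj)

variable {G : Type*} [Group G]

/-! ### Step 0: a complement containing `K` -/

theorem exists_compl_ge_kappa [Finite G] (hG : Cfsg.IsMinSimpleOddOrder G) {M : Subgroup G}
    (hM : IsCoatom M) {K : Subgroup G} (hK : Cfsg.IsPiHallOf (Cfsg.kappa M) K M) :
    ∃ E : Subgroup G, Cfsg.IsComplIn E (Cfsg.sigmaCore M) M ∧ K ≤ E := by
  obtain ⟨hHall, -, -⟩ := Cfsg.Agent.S1350.result hG M hM
  obtain ⟨E0, hE0⟩ := exists_compl_sigmaCore hHall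
  have hcop : (Nat.card K).Coprime (Nat.card (Cfsg.sigmaCore M)) :=
    Nat.coprime_of_dvd (fun q hq h1 h2 =>
      (hK.2.1 q hq h1).2.2.1 (primes_card_sigmaCore M q hq h2))
  haveI : Group.IsSolvable ↥M := hG.2.2.2 M hM.1
  have hsolv : Group.IsSolvable ↥K ∨ Group.IsSolvable ↥(Cfsg.sigmaCore M) :=
    Or.inl (Group.isSolvable_of_isSolvable_injective (Subgroup.inclusion_injective hK.1))
  obtain ⟨k, hk, hkK⟩ := exists_conj_mem_compl (le_normalizer_sigmaCore M) hE0 hK.1 hcop hsolv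
  exact ⟨E0.map (MulAut.conj k).toMonoidHom,
    isComplIn_conj (le_normalizer_sigmaCore M) hE0 (sigmaCore_le M hk),
    fun a ha => mem_map_conj.mpr (hkK a ha)⟩

/-! ### Step 2: the Hall subgroup `U` -/

theorem exists_hall_piU [Finite G] (hG : Cfsg.IsMinSimpleOddOrder G) {M : Subgroup G}
    (hM : IsCoatom M) (hκτ1 : ∀ p : ℕ, p ∈ Cfsg.kappa M → p ∈ Cfsg.tau1 M) {E : Subgroup G}
    (hE : Cfsg.IsComplIn E (Cfsg.sigmaCore M) M) :
    ∃ U : Subgroup G, Cfsg.IsPiHallOf (piU M) U E ∧ ⁅E, E⁆ ≤ U := by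
  haveI : Group.IsSolvable ↥M := hG.2.2.2 M hM.1
  haveI : Group.IsSolvable ↥E :=
    Group.isSolvable_of_isSolvable_injective (Subgroup.inclusion_injective hE.1)
  apply exists_hall_ge' (piU M) (commutator_self_le' E)
  intro q hq hd
  refine ⟨hq, ?_, ?_⟩
  · intro hκ
    exact (hκτ1 q hκ).2.2.2.1
      (hd.trans (Subgroup.card_dvd_of_le (Subgroup.commutator_mono hE.1 hE.1)))
  · exact not_mem_sigma_of_dvd_compl hG hM hE hq
      (hd.trans (Subgroup.card_dvd_of_le (commutator_self_le' E)))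

theorem le_normalizer_of_commutator_le {E U : Subgroup G} (hUE : U ≤ E) (h : ⁅E, E⁆ ≤ U) :
    E ≤ Subgroup.normalizer (U : Set G) := by
  apply le_normalizer_of_conj_mem
  intro e he u hu
  have h1 : ⁅e, u⁆ ∈ U := h (Subgroup.commutator_mem_commutator he (hUE hu))
  have e1 : e * u * e⁻¹ = ⁅e, u⁆ * u := by rw [commutatorElement_def]; group
  rw [e1]
  exact U.mul_mem h1 hu

theorem isPiHallOf_piU_of_compl [Finite G] {M E U : Subgroup G}
    (hE : Cfsg.IsComplIn E (Cfsg.sigmaCore M) M) (hU : Cfsg.IsPiHallOf (piU M) U E) :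
    Cfsg.IsPiHallOf (piU M) U M := by
  refine ⟨hU.1.trans hE.1, hU.2.1, ?_⟩
  intro q hq hqπ hd
  have h1 : U.relIndex M = U.relIndex E * E.relIndex M :=
    (Subgroup.relIndex_mul_relIndex U E M hU.1 hE.1).symm
  rw [h1, relIndex_compl hE] at hd
  rcases (Nat.Prime.dvd_mul hq).mp hd with h | h
  · exact hU.2.2 q hq hqπ h
  · exact hqπ.2.2 (primes_card_sigmaCore M q hq h)

/-- prime-order power of a non-identity element. -/
theorem exists_prime_order_pow [Finite G] {k : G} (hk1 : k ≠ 1) :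
    ∃ (s j : ℕ), s.Prime ∧ orderOf (k ^ j) = s := by
  have h1 : orderOf k ≠ 1 := fun h => hk1 (orderOf_eq_one_iff.mp h)
  obtain ⟨s, hs, hsd⟩ := Nat.exists_prime_and_dvd h1
  exact ⟨s, orderOf k / s, hs, orderOf_pow_orderOf_div (orderOf_pos k).ne' hsd⟩

/-! ### Step 3: `C_U(k) = 1` -/

theorem hallU_inf_centralizer [Finite G] (hG : Cfsg.IsMinSimpleOddOrder G) {M : Subgroup G}
    (hM : IsCoatom M) (h28 : H28 M) (hR : CorR M)
    (hκτ1 : ∀ p : ℕ, p ∈ Cfsg.kappa M → p ∈ Cfsg.tau1 M)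
    (hτ1κ : ∀ p : ℕ, p ∈ Cfsg.tau1 M → p ∈ Cfsg.kappa M)
    {E : Subgroup G} (hE : Cfsg.IsComplIn E (Cfsg.sigmaCore M) M) {K : Subgroup G}
    (hK : Cfsg.IsPiHallOf (Cfsg.kappa M) K M) (hKE : K ≤ E) {U : Subgroup G}
    (hU : Cfsg.IsPiHallOf (piU M) U E) :
    ∀ k ∈ K, k ≠ 1 → U ⊓ Subgroup.centralizer ({k} : Set G) = ⊥ := by
  intro k hk hk1
  rw [Subgroup.eq_bot_iff_forall]
  rintro u ⟨huU, huC⟩
  by_contra hu1
  have hku : k * u = u * k := Subgroup.mem_centralizer_iff.mp huC k (Set.mem_singleton k)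
  obtain ⟨s, j, hs, hk'o⟩ := exists_prime_order_pow hk1
  obtain ⟨t, i, ht, hu'o⟩ := exists_prime_order_pow hu1
  have hk'K : k ^ j ∈ K := K.pow_mem hk j
  have hu'U : u ^ i ∈ U := U.pow_mem huU i
  have hk'M : k ^ j ∈ M := hK.1 hk'K
  have hu'E : u ^ i ∈ E := hU.1 hu'U
  have hu'M : u ^ i ∈ M := hE.1 hu'E
  have hcomm : Commute (k ^ j) (u ^ i) := (Commute.pow_pow (show Commute k u from hku) j i)
  have hsκ : s ∈ Cfsg.kappa M := by
    apply hK.2.1 s hs
    rw [← hk'o]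
    have := orderOf_dvd_natCard (⟨k ^ j, hk'K⟩ : ↥K)
    rwa [Subgroup.orderOf_mk] at this
  have htπ : t ∈ piU M := by
    apply hU.2.1 t ht
    rw [← hu'o]
    have := orderOf_dvd_natCard (⟨u ^ i, hu'U⟩ : ↥U)
    rwa [Subgroup.orderOf_mk] at this
  have htM : t ∣ Nat.card M := by
    rw [← hu'o]
    have := orderOf_dvd_natCard (⟨u ^ i, hu'M⟩ : ↥M)
    rwa [Subgroup.orderOf_mk] at this
  by_cases hr1 : Cfsg.PRankLE t 1 ↥M
  · by_cases hd : t ∣ Nat.card ↥⁅M, M⁆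
    · obtain ⟨y, hy, hy1, hk'y⟩ := kappa_cent hsκ hk'M hk'o
      have hRle : Subgroup.zpowers (u ^ i) ≤
          E ⊓ Subgroup.centralizer ((Subgroup.zpowers (k ^ j) : Subgroup G) : Set G) := by
        rw [Subgroup.zpowers_le]
        refine Subgroup.mem_inf.mpr ⟨hu'E, ?_⟩
        rw [Subgroup.mem_centralizer_iff]
        intro w hw
        obtain ⟨n, rfl⟩ := Subgroup.mem_zpowers_iff.mp hw
        exact ((Commute.zpow_left hcomm n)).eq
      have h := h28 E hE s (hκτ1 s hsκ) (Subgroup.zpowers (k ^ j))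
        (Subgroup.zpowers_le.mpr (hKE hk'K)) (by rw [Nat.card_zpowers, hk'o])
        (Subgroup.zpowers (u ^ i)) hRle (by rw [Nat.card_zpowers, hu'o]; exact ht)
      have hyP : y ∈ Cfsg.sigmaCore M ⊓
          Subgroup.centralizer ((Subgroup.zpowers (k ^ j) : Subgroup G) : Set G) := by
        refine Subgroup.mem_inf.mpr ⟨hy, ?_⟩
        rw [Subgroup.mem_centralizer_iff]
        intro w hw
        obtain ⟨n, rfl⟩ := Subgroup.mem_zpowers_iff.mp hw
        exact ((Commute.zpow_left (show Commute (k ^ j) y from hk'y) n)).eq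
      have hyR := (h hyP).2
      have hu'y : u ^ i * y = y * u ^ i :=
        Subgroup.mem_centralizer_iff.mp hyR (u ^ i) (Subgroup.mem_zpowers _)
      rcases kappa_or_tau2 hG (ut hG) hM hy hy1 hu'M ht hu'o hu'y htπ.2.2 with h1 | h1
      · exact htπ.2.1 h1
      · exact h1.2.2.2 hr1
    · exact htπ.2.1 (hτ1κ t ⟨ht, htπ.2.2, htM, hd, hr1⟩)
  · exact hR (k ^ j) hk'M (by rw [hk'o]; exact hsκ) (u ^ i) hu'M hcomm.eq.symm
      (by rw [hu'o]; exact mem_tau2_of_not_rank_one hG hM ht htπ.2.2 hr1)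

/-! ### Step 4: `U` is abelian -/

theorem hallU_comm [Finite G] (hG : Cfsg.IsMinSimpleOddOrder G) {M : Subgroup G}
    (hM : IsCoatom M) {E : Subgroup G} (hE : Cfsg.IsComplIn E (Cfsg.sigmaCore M) M)
    {K : Subgroup G} (hK1 : K ≠ ⊥) (hKE : K ≤ E) {U : Subgroup G}
    (hU : Cfsg.IsPiHallOf (piU M) U E) (hEU : E ≤ Subgroup.normalizer (U : Set G))
    (hfpf : ∀ k ∈ K, k ≠ 1 → U ⊓ Subgroup.centralizer ({k} : Set G) = ⊥) :
    IsMulCommutative U := by
  obtain ⟨k, hk, hk1⟩ : ∃ k ∈ K, k ≠ 1 := by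
    by_contra hcon
    push Not at hcon
    exact hK1 ((Subgroup.eq_bot_iff_forall K).mpr hcon)
  obtain ⟨s, j, hs, hk'o⟩ := exists_prime_order_pow hk1
  have hk'K : k ^ j ∈ K := K.pow_mem hk j
  have hk'1 : k ^ j ≠ 1 := by
    intro h
    rw [h, orderOf_one] at hk'o
    exact hs.one_lt.ne hk'o
  have hnil : Group.IsNilpotent ↥U :=
    isNilpotent_of_fpf_conj hs (hEU (hKE hk'K)) (by rw [← hk'o]; exact pow_orderOf_eq_one _)
      (hfpf _ hk'K hk'1)
  obtain ⟨h20a, -, -, -⟩ := Cfsg.Agent.S1420.result hG M hM E hE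
  exact h20a U (hU.1.trans hE.1) hnil (fun p hp hd => (hU.2.1 p hp hd).2.2)

end Cfsg.Agent.Lib.Helper2.BGCor
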