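import Mathlib
import Cfsg.Agent.Lib.Helper2.BGCorK

/-!
# Theorem T1 of `notes/bg14/NOTES_h20.md`, section 10, part 3 (helper2)

Steps 5-7 and the final assembly `s1430_of_kappa_tau3_empty`.
-/

set_option autoImplicit false
set_option linter.style.haveILetI false
open scoped commutatorElement

namespace Cfsg.Agent.Lib.Helper2.BGCor

open Cfsg Cfsg.Agent.Lib.Helper1.BGX
open Cfsg.Agent.Lib.Helper8 (mem_map_conj conj_mem_map_conj map_conj_map_conj map_conj_one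
  map_conj_le_iff map_conj_eq_iff card_map_conj mem_normalizer_iff_map_conj IsSylIn sylow_smul_coe
  map_conj_eq_of_le sylow_map_subtype_isSylIn)
open Cfsg.Agent.Lib.Helper16.BGPrim (exists_hall_ge' ut le_normalizer_of_conj_mem
  commutator_self_le' isSylIn_ne_bot)
open Cfsg.Agent.Lib.Helper23.BGY (mem_tau2_of_not_rank_one not_mem_sigma_of_dvd_compl
  exists_conj_mem_compl isComplIn_conj)

variable {G : Type*} [Group G]

/-- `K` is a Hall `τ₁(M)`-subgroup of `E`. -/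
theorem isPiHallOf_tau1_of_kappa [Finite G] {M E K : Subgroup G}
    (hκτ1 : ∀ p : ℕ, p ∈ Cfsg.kappa M → p ∈ Cfsg.tau1 M)
    (hτ1κ : ∀ p : ℕ, p ∈ Cfsg.tau1 M → p ∈ Cfsg.kappa M)
    (hEM : E ≤ M) (hK : Cfsg.IsPiHallOf (Cfsg.kappa M) K M) (hKE : K ≤ E) :
    Cfsg.IsPiHallOf (Cfsg.tau1 M) K E := by
  refine ⟨hKE, fun p hp hd => hκτ1 p (hK.2.1 p hp hd), fun p hp hpτ hd => ?_⟩
  apply hK.2.2 p hp (hτ1κ p hpτ)
  rw [← Subgroup.relIndex_mul_relIndex K E M hKE hEM]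
  exact Dvd.dvd.mul_right hd _

/-! ### Step 5: `C_{M_σ}(k) = K*` -/

theorem kstar_eq [Finite G] (hG : Cfsg.IsMinSimpleOddOrder G) {M : Subgroup G}
    (hM : IsCoatom M) (h28 : H28 M)
    (hκτ1 : ∀ p : ℕ, p ∈ Cfsg.kappa M → p ∈ Cfsg.tau1 M)
    (hτ1κ : ∀ p : ℕ, p ∈ Cfsg.tau1 M → p ∈ Cfsg.kappa M)
    {E : Subgroup G} (hE : Cfsg.IsComplIn E (Cfsg.sigmaCore M) M) {K : Subgroup G}
    (hK : Cfsg.IsPiHallOf (Cfsg.kappa M) K M) (hKE : K ≤ E) :
    ∀ k ∈ K, k ≠ 1 → Cfsg.sigmaCore M ⊓ Subgroup.centralizer ({k} : Set G) =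
      Cfsg.sigmaCore M ⊓ Subgroup.centralizer (K : Set G) := by
  intro k hk hk1
  have hKτ := isPiHallOf_tau1_of_kappa hκτ1 hτ1κ hE.1 hK hKE
  obtain ⟨-, h15, -⟩ := Cfsg.Agent.S1415.result hG M hM E hE
  have hKcyc : IsCyclic ↥K := h15 K hKτ
  have hKc : ∀ a ∈ K, ∀ b ∈ K, a * b = b * a := by
    intro a ha b hb
    obtain ⟨g, hg⟩ := hKcyc.exists_generator
    obtain ⟨i, hi⟩ := Subgroup.mem_zpowers_iff.mp (hg ⟨a, ha⟩)
    obtain ⟨j, hj⟩ := Subgroup.mem_zpowers_iff.mp (hg ⟨b, hb⟩)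
    have h1 : (⟨a, ha⟩ : ↥K) * ⟨b, hb⟩ = ⟨b, hb⟩ * ⟨a, ha⟩ := by
      rw [← hi, ← hj, ← zpow_add, ← zpow_add, add_comm]
    have h2 := congrArg (fun w : ↥K => (w : G)) h1
    simpa using h2
  apply le_antisymm
  swap
  · exact inf_le_inf_left _ (Subgroup.centralizer_le (Set.singleton_subset_iff.mpr hk))
  obtain ⟨s, j, hs, hk'o⟩ := exists_prime_order_pow hk1
  have hk'K : k ^ j ∈ K := K.pow_mem hk j
  have hsκ : s ∈ Cfsg.kappa M := by
    apply hK.2.1 s hs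
    rw [← hk'o]
    have := orderOf_dvd_natCard (⟨k ^ j, hk'K⟩ : ↥K)
    rwa [Subgroup.orderOf_mk] at this
  obtain ⟨T, hTdef⟩ : ∃ T : Subgroup G,
    T = Cfsg.sigmaCore M ⊓ Subgroup.centralizer ({k} : Set G) := ⟨_, rfl⟩
  rw [← hTdef]
  have hTσ : T ≤ Cfsg.sigmaCore M := hTdef ▸ inf_le_left
  have hTk' : ∀ t ∈ T, t ∈ Cfsg.sigmaCore M ⊓
      Subgroup.centralizer ((Subgroup.zpowers (k ^ j) : Subgroup G) : Set G) := by
    intro t ht
    refine Subgroup.mem_inf.mpr ⟨hTσ ht, ?_⟩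
    have htk : k * t = t * k := by
      rw [hTdef] at ht
      exact Subgroup.mem_centralizer_iff.mp ht.2 k (Set.mem_singleton k)
    rw [Subgroup.mem_centralizer_iff]
    intro w hw
    obtain ⟨n, rfl⟩ := Subgroup.mem_zpowers_iff.mp hw
    exact ((Commute.zpow_left (Commute.pow_left (show Commute k t from htk) j) n)).eq
  -- `K ≤ C(T)` Sylow by Sylow
  have hKT : K ≤ Subgroup.centralizer (T : Set G) := by
    apply Cfsg.Agent.Lib.Helper21.Camina.le_of_sylows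
    intro r hr
    obtain ⟨R⟩ : Nonempty (Sylow r ↥K) := inferInstance
    refine ⟨R, ?_⟩
    have hrp : r.Prime := hr.out
    by_cases hd : r ∣ Nat.card K
    swap
    · have h1 : Nat.card (R : Subgroup ↥K) = 1 := by
        rw [R.card_eq_multiplicity, Nat.factorization_eq_zero_of_not_dvd hd, pow_zero]
      rw [Subgroup.card_eq_one.mp h1, Subgroup.map_bot]
      exact bot_le
    obtain ⟨R', hR'def⟩ : ∃ R' : Subgroup G, R' = (R : Subgroup ↥K).map K.subtype := ⟨_, rfl⟩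
    rw [← hR'def]
    have hR'K : R' ≤ K := hR'def ▸ Subgroup.map_subtype_le _
    have hrκ : r ∈ Cfsg.kappa M := hK.2.1 r hrp hd
    have hSylK : IsSylIn r R' K := hR'def ▸ sylow_map_subtype_isSylIn R
    have hSylE : IsSylIn r R' E := isSylIn_of_hall hSylK hKE (hKτ.2.2 r hrp (hκτ1 r hrκ))
    have hR'1 : R' ≠ ⊥ := isSylIn_ne_bot hSylK hd
    have hS1 : ((hSylE.toSylow : Sylow r ↥E) : Subgroup ↥E) ≠ ⊥ := by
      intro h
      apply hR'1
      rw [← hSylE.toSylow_map, h, Subgroup.map_bot]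
    have hR'cyc : IsCyclic ↥R' :=
      isCyclic_of_injective (Subgroup.inclusion hR'K) (Subgroup.inclusion_injective hR'K)
    have hSc : IsCyclic ↥((hSylE.toSylow : Sylow r ↥E) : Subgroup ↥E) := by
      have h1 : ((hSylE.toSylow : Sylow r ↥E) : Subgroup ↥E) = R'.subgroupOf E := rfl
      rw [h1]
      exact isCyclic_of_surjective (Subgroup.subgroupOfEquivOfLe hSylE.1).symm.toMonoidHom
        (Subgroup.subgroupOfEquivOfLe hSylE.1).symm.surjective
    have h27 := Cfsg.Agent.S1427.result hG M hM E hE r hSylE.toSylow hS1 hSc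
    rw [hSylE.toSylow_map] at h27
    -- an element of order `r` in `R'`
    have hrR' : r ∣ Nat.card R' := by
      obtain ⟨n, hn⟩ := IsPGroup.iff_card.mp hSylK.isPGroup
      have hn0 : n ≠ 0 := by
        rintro rfl
        rw [pow_zero] at hn
        exact hR'1 (Subgroup.card_eq_one.mp hn)
      rw [hn]
      exact dvd_pow_self r hn0
    obtain ⟨z, hz⟩ := exists_prime_orderOf_dvd_card' r hrR'
    have hzo : orderOf (z : G) = r := by rw [Subgroup.orderOf_coe, hz]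
    have hz1 : (z : G) ≠ 1 := by
      intro h
      rw [h, orderOf_one] at hzo
      exact hrp.one_lt.ne hzo
    have hzK : (z : G) ∈ K := hR'K z.2
    have hRle : Subgroup.zpowers (z : G) ≤
        E ⊓ Subgroup.centralizer ((Subgroup.zpowers (k ^ j) : Subgroup G) : Set G) := by
      rw [Subgroup.zpowers_le]
      refine Subgroup.mem_inf.mpr ⟨hKE hzK, ?_⟩
      rw [Subgroup.mem_centralizer_iff]
      intro w hw
      obtain ⟨n, rfl⟩ := Subgroup.mem_zpowers_iff.mp hw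
      exact ((Commute.zpow_left (show Commute (k ^ j) (z : G) from hKc _ hk'K _ hzK) n)).eq
    have h := h28 E hE s (hκτ1 s hsκ) (Subgroup.zpowers (k ^ j))
      (Subgroup.zpowers_le.mpr (hKE hk'K)) (by rw [Nat.card_zpowers, hk'o])
      (Subgroup.zpowers (z : G)) hRle (by rw [Nat.card_zpowers, hzo]; exact hrp)
    have h27z := h27 (z : G) z.2 hz1
    intro a ha
    rw [Subgroup.mem_centralizer_iff]
    intro t ht
    have h1 := (h (hTk' t ht)).2
    have htz : (z : G) * t = t * (z : G) :=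
      Subgroup.mem_centralizer_iff.mp h1 (z : G) (Subgroup.mem_zpowers _)
    have h2 : t ∈ Cfsg.sigmaCore M ⊓ Subgroup.centralizer ({(z : G)} : Set G) := by
      refine Subgroup.mem_inf.mpr ⟨hTσ ht, ?_⟩
      rw [Subgroup.mem_centralizer_iff]
      intro w hw
      rw [Set.mem_singleton_iff] at hw
      rw [hw]
      exact htz
    rw [h27z] at h2
    exact (Subgroup.mem_centralizer_iff.mp h2.2 a ha).symm
  intro t ht
  refine Subgroup.mem_inf.mpr ⟨hTσ ht, ?_⟩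
  rw [Subgroup.mem_centralizer_iff]
  intro a ha
  exact (Subgroup.mem_centralizer_iff.mp (hKT ha) t ht).symm

/-! ### `E = U K` -/

theorem hallU_mul_kappa [Finite G] (hG : Cfsg.IsMinSimpleOddOrder G) {M : Subgroup G}
    (hM : IsCoatom M) {E : Subgroup G} (hE : Cfsg.IsComplIn E (Cfsg.sigmaCore M) M)
    {K : Subgroup G} (hK : Cfsg.IsPiHallOf (Cfsg.kappa M) K M) (hKE : K ≤ E) {U : Subgroup G}
    (hU : Cfsg.IsPiHallOf (piU M) U E) :
    U ⊓ K = ⊥ ∧ ∀ e ∈ E, ∃ u ∈ U, ∃ k ∈ K, e = u * k := by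
  have hc : Subgroup.IsComplement' (U.subgroupOf E) (K.subgroupOf E) := by
    apply isComplement'_of_hall_pair (piU M)
    · intro p hp hd
      rw [Cfsg.Agent.Lib.Helper1.card_subgroupOf_of_le hU.1] at hd
      exact hU.2.1 p hp hd
    · intro p hp hpπ
      exact hU.2.2 p hp hpπ
    · intro p hp hd hpπ
      rw [Cfsg.Agent.Lib.Helper1.card_subgroupOf_of_le hKE] at hd
      exact hpπ.2.1 (hK.2.1 p hp hd)
    · intro p hp hpπ hd
      have hcases : p ∈ Cfsg.kappa M ∨ p ∈ Cfsg.sigma M := by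
        by_contra hcon
        push Not at hcon
        exact hpπ ⟨hp, hcon.1, hcon.2⟩
      rcases hcases with hκ | hσ
      · apply hK.2.2 p hp hκ
        rw [← Subgroup.relIndex_mul_relIndex K E M hKE hE.1]
        exact Dvd.dvd.mul_right hd _
      · exact not_mem_sigma_of_dvd_compl hG hM hE hp
          (hd.trans (Subgroup.index_dvd_card _)) hσ
  refine ⟨?_, ?_⟩
  · rw [Subgroup.eq_bot_iff_forall]
    rintro x ⟨hx1, hx2⟩
    have hxE : x ∈ E := hKE hx2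
    have h1 : (⟨x, hxE⟩ : ↥E) ∈ U.subgroupOf E ⊓ K.subgroupOf E :=
      ⟨Subgroup.mem_subgroupOf.mpr hx1, Subgroup.mem_subgroupOf.mpr hx2⟩
    rw [hc.disjoint.eq_bot, Subgroup.mem_bot] at h1
    exact congrArg Subtype.val h1
  · intro e he
    obtain ⟨⟨a, b⟩, hab⟩ := hc.2 ⟨e, he⟩
    refine ⟨((a : ↥E) : G), Subgroup.mem_subgroupOf.mp a.2, ((b : ↥E) : G),
      Subgroup.mem_subgroupOf.mp b.2, ?_⟩
    have : ((a : ↥E) : G) * ((b : ↥E) : G) = e := congrArg Subtype.val hab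
    exact this.symm

/-! ### Step 6: `N_M(X) = N_M(K) = K K*` -/

theorem normalizer_eq_of_T1 [Finite G] {M : Subgroup G}
    {E : Subgroup G} (hE : Cfsg.IsComplIn E (Cfsg.sigmaCore M) M) {K : Subgroup G}
    (hKE : K ≤ E) (hKc : ∀ a ∈ K, ∀ b ∈ K, a * b = b * a) (hKcyc : IsCyclic ↥K)
    {U : Subgroup G} (hEU : E ≤ Subgroup.normalizer (U : Set G))
    (hUK : U ⊓ K = ⊥) (hprod : ∀ e ∈ E, ∃ u ∈ U, ∃ k ∈ K, e = u * k)
    (hfpf : ∀ k ∈ K, k ≠ 1 → U ⊓ Subgroup.centralizer ({k} : Set G) = ⊥)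
    (hA : ∀ k ∈ K, k ≠ 1 → Cfsg.sigmaCore M ⊓ Subgroup.centralizer ({k} : Set G) =
      Cfsg.sigmaCore M ⊓ Subgroup.centralizer (K : Set G))
    {X : Subgroup G} (hXK : X ≤ K) (hXp : (Nat.card X).Prime) :
    M ⊓ Subgroup.normalizer (X : Set G) =
        K ⊔ (Cfsg.sigmaCore M ⊓ Subgroup.centralizer (K : Set G)) ∧
      M ⊓ Subgroup.normalizer (K : Set G) =
        K ⊔ (Cfsg.sigmaCore M ⊓ Subgroup.centralizer (K : Set G)) := by
  have hEM : E ≤ M := hE.1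
  have hEσ : E ⊓ Cfsg.sigmaCore M = ⊥ := hE.2.2.1
  have hσn := le_normalizer_sigmaCore M
  -- a non-identity element of `X`
  obtain ⟨x0, hx0X, hx01⟩ : ∃ x0 ∈ X, x0 ≠ 1 := by
    by_contra hcon
    push Not at hcon
    have : X = ⊥ := (Subgroup.eq_bot_iff_forall X).mpr hcon
    rw [this, Subgroup.card_bot] at hXp
    exact Nat.not_prime_one hXp
  have hx0K : x0 ∈ K := hXK hx0X
  -- `K ≤ C(X)`
  have hKCX : K ≤ Subgroup.centralizer (X : Set G) := by
    intro a ha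
    rw [Subgroup.mem_centralizer_iff]
    intro x hx
    exact hKc x (hXK hx) a ha
  have hKstarCX : Cfsg.sigmaCore M ⊓ Subgroup.centralizer (K : Set G) ≤
      Subgroup.centralizer (X : Set G) :=
    inf_le_right.trans (Subgroup.centralizer_le (by exact_mod_cast hXK))
  have hsupX : K ⊔ (Cfsg.sigmaCore M ⊓ Subgroup.centralizer (K : Set G)) ≤
      M ⊓ Subgroup.normalizer (X : Set G) :=
    sup_le (le_inf (hKE.trans hEM) (hKCX.trans (Subgroup.centralizer_le_normalizer _)))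
      (le_inf (inf_le_left.trans (sigmaCore_le M))
        (hKstarCX.trans (Subgroup.centralizer_le_normalizer _)))
  have hsupK : K ⊔ (Cfsg.sigmaCore M ⊓ Subgroup.centralizer (K : Set G)) ≤
      M ⊓ Subgroup.normalizer (K : Set G) :=
    sup_le (le_inf (hKE.trans hEM) Subgroup.le_normalizer)
      (le_inf (inf_le_left.trans (sigmaCore_le M))
        (inf_le_right.trans (Subgroup.centralizer_le_normalizer _)))
  have hleX : M ⊓ Subgroup.normalizer (X : Set G) ≤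
      K ⊔ (Cfsg.sigmaCore M ⊓ Subgroup.centralizer (K : Set G)) := by
    rintro n ⟨hnM, hnX⟩
    obtain ⟨e, he, m, hm, rfl⟩ := hE.2.2.2 n hnM
    have hmM : m ∈ M := sigmaCore_le M hm
    have heM : e ∈ M := hEM he
    -- Claim 1: `e` normalizes `X`
    have heX : e ∈ Subgroup.normalizer (X : Set G) := by
      rw [mem_normalizer_iff_map_conj]
      apply map_conj_eq_of_le
      rintro _ ⟨x, hx, rfl⟩
      have hxE : x ∈ E := hKE (hXK hx)
      have hx1 : (e * m) * x * (e * m)⁻¹ ∈ X :=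
        (Subgroup.mem_normalizer_iff.mp hnX x).mp hx
      have hw : e * (x⁻¹ * m * x * m⁻¹) * e⁻¹ ∈ Cfsg.sigmaCore M := by
        apply conj_mem_sigmaCore heM
        apply Subgroup.mul_mem _ _ (Subgroup.inv_mem _ hm)
        have := conj_mem_sigmaCore (M := M) (m := x⁻¹) (M.inv_mem (hEM hxE)) hm
        simpa using this
      have heq : (e * x * e⁻¹)⁻¹ * ((e * m) * x * (e * m)⁻¹) = e * (x⁻¹ * m * x * m⁻¹) * e⁻¹ := by
        group
      have hwE : (e * x * e⁻¹)⁻¹ * ((e * m) * x * (e * m)⁻¹) ∈ E :=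
        E.mul_mem (E.inv_mem (E.mul_mem (E.mul_mem he hxE) (E.inv_mem he)))
          (hKE (hXK hx1))
      have h1 : (e * x * e⁻¹)⁻¹ * ((e * m) * x * (e * m)⁻¹) ∈ E ⊓ Cfsg.sigmaCore M :=
        ⟨hwE, heq ▸ hw⟩
      rw [hEσ, Subgroup.mem_bot] at h1
      have h2 : e * x * e⁻¹ = (e * m) * x * (e * m)⁻¹ := by
        rw [inv_mul_eq_one] at h1
        exact h1
      show (MulAut.conj e).toMonoidHom x ∈ X
      have h3 : (MulAut.conj e).toMonoidHom x = e * x * e⁻¹ := by simp [MulAut.conj_apply]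
      rw [h3, h2]
      exact hx1
    -- Claim 2: `e ∈ K`
    obtain ⟨u, hu, k0, hk0, rfl⟩ := hprod e he
    have hk0X : k0 ∈ Subgroup.normalizer (X : Set G) :=
      Subgroup.centralizer_le_normalizer _ (hKCX hk0)
    have huX : u ∈ Subgroup.normalizer (X : Set G) := by
      have : u = (u * k0) * k0⁻¹ := by group
      rw [this]
      exact Subgroup.mul_mem _ heX (Subgroup.inv_mem _ hk0X)
    have hu1 : u = 1 := by
      have hc1 : u * x0 * u⁻¹ * x0⁻¹ ∈ X :=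
        X.mul_mem ((Subgroup.mem_normalizer_iff.mp huX x0).mp hx0X) (X.inv_mem hx0X)
      have hc2 : u * x0 * u⁻¹ * x0⁻¹ ∈ U := by
        have h1 : x0 * u⁻¹ * x0⁻¹ ∈ U :=
          (Subgroup.mem_normalizer_iff.mp (hEU (hKE hx0K)) u⁻¹).mp (U.inv_mem hu)
        have : u * x0 * u⁻¹ * x0⁻¹ = u * (x0 * u⁻¹ * x0⁻¹) := by group
        rw [this]
        exact U.mul_mem hu h1
      have hc3 : u * x0 * u⁻¹ * x0⁻¹ ∈ U ⊓ K := ⟨hc2, hXK hc1⟩
      rw [hUK, Subgroup.mem_bot] at hc3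
      have hcomm : x0 * u = u * x0 := by
        have : u * x0 = (u * x0 * u⁻¹ * x0⁻¹) * (x0 * u) := by group
        rw [this, hc3, one_mul]
      have h2 : u ∈ U ⊓ Subgroup.centralizer ({x0} : Set G) := by
        refine Subgroup.mem_inf.mpr ⟨hu, ?_⟩
        rw [Subgroup.mem_centralizer_iff]
        intro w hw
        rw [Set.mem_singleton_iff] at hw
        rw [hw]
        exact hcomm
      rw [hfpf x0 hx0K hx01, Subgroup.mem_bot] at h2
      exact h2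
    rw [hu1, one_mul] at hnX heX ⊢
    -- Claim 4: `m ∈ K*`
    have hmX : m ∈ Subgroup.normalizer (X : Set G) := by
      have : m = k0⁻¹ * (k0 * m) := by group
      rw [this]
      exact Subgroup.mul_mem _ (Subgroup.inv_mem _ hk0X) hnX
    have hmK : m ∈ Cfsg.sigmaCore M ⊓ Subgroup.centralizer (K : Set G) := by
      rw [← hA x0 hx0K hx01]
      refine Subgroup.mem_inf.mpr ⟨hm, ?_⟩
      have hc1 : m * x0 * m⁻¹ * x0⁻¹ ∈ X :=
        X.mul_mem ((Subgroup.mem_normalizer_iff.mp hmX x0).mp hx0X) (X.inv_mem hx0X)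
      have hc2 : m * x0 * m⁻¹ * x0⁻¹ ∈ Cfsg.sigmaCore M := by
        have h1 : x0 * m⁻¹ * x0⁻¹ ∈ Cfsg.sigmaCore M :=
          conj_mem_sigmaCore (hEM (hKE hx0K)) (Subgroup.inv_mem _ hm)
        have : m * x0 * m⁻¹ * x0⁻¹ = m * (x0 * m⁻¹ * x0⁻¹) := by group
        rw [this]
        exact Subgroup.mul_mem _ hm h1
      have hc3 : m * x0 * m⁻¹ * x0⁻¹ ∈ E ⊓ Cfsg.sigmaCore M := ⟨hKE (hXK hc1), hc2⟩
      rw [hEσ, Subgroup.mem_bot] at hc3
      rw [Subgroup.mem_centralizer_iff]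
      intro w hw
      rw [Set.mem_singleton_iff] at hw
      rw [hw]
      have : m * x0 = (m * x0 * m⁻¹ * x0⁻¹) * (x0 * m) := by group
      rw [this, hc3, one_mul]
    exact Subgroup.mul_mem _ (Subgroup.mem_sup_left hk0) (Subgroup.mem_sup_right hmK)
  refine ⟨le_antisymm hleX hsupX, le_antisymm ?_ hsupK⟩
  rintro n ⟨hnM, hnK⟩
  have hnK' : n ∈ Subgroup.normalizer (K : Set G) := hnK
  apply hleX
  refine Subgroup.mem_inf.mpr ⟨hnM, ?_⟩
  rw [mem_normalizer_iff_map_conj]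
  have h1 : X.map (MulAut.conj n).toMonoidHom ≤ K := by
    calc X.map (MulAut.conj n).toMonoidHom ≤ K.map (MulAut.conj n).toMonoidHom :=
          Subgroup.map_mono hXK
      _ = K := mem_normalizer_iff_map_conj.mp hnK'
  exact Cfsg.Agent.Lib.Helper9.eq_of_card_eq_of_le_isCyclic K _ _ h1 hXK (card_map_conj X n)

/-! ### Theorem T1 -/

/-- **Theorem T1** of the notes: if `κ(M) ∩ τ₃(M) = ∅` and `K ≠ 1` then the whole conclusion of
S1430 holds for `(M, K)`. -/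
theorem s1430_of_kappa_tau3_empty [Finite G] (hG : Cfsg.IsMinSimpleOddOrder G) {M : Subgroup G}
    (hM : IsCoatom M) (h28 : H28 M) (hR : CorR M) (hG1 : CorG1 M)
    (hκτ3 : ∀ p : ℕ, p ∈ Cfsg.kappa M → p ∉ Cfsg.tau3 M) {K : Subgroup G}
    (hK : Cfsg.IsPiHallOf (Cfsg.kappa M) K M) (hK1 : K ≠ ⊥) : T142 M K := by
  obtain ⟨E, hE, hKE⟩ := exists_compl_ge_kappa hG hM hK
  have hκτ1 : ∀ p : ℕ, p ∈ Cfsg.kappa M → p ∈ Cfsg.tau1 M :=
    fun p hp => kappa_subset_tau1 hκτ3 hp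
  have hcard : Nat.card K ≠ 1 := fun h => hK1 (Subgroup.card_eq_one.mp h)
  obtain ⟨p, hp, hpd⟩ := Nat.exists_prime_and_dvd hcard
  haveI : Fact p.Prime := ⟨hp⟩
  obtain ⟨x, hx⟩ := exists_prime_orderOf_dvd_card' p hpd
  have hxo : orderOf (x : G) = p := by rw [Subgroup.orderOf_coe, hx]
  have hpκ : p ∈ Cfsg.kappa M := hK.2.1 p hp hpd
  have hτ1κ : ∀ r : ℕ, r ∈ Cfsg.tau1 M → r ∈ Cfsg.kappa M :=
    fun r hr => tau1_subset_kappa hG hM h28 hE (hKE x.2) hxo hpκ (hκτ1 p hpκ) hr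
  obtain ⟨U, hU, hE'U⟩ := exists_hall_piU hG hM hκτ1 hE
  have hEU : E ≤ Subgroup.normalizer (U : Set G) := le_normalizer_of_commutator_le hU.1 hE'U
  have hfpf := hallU_inf_centralizer hG hM h28 hR hκτ1 hτ1κ hE hK hKE hU
  have hUc := hallU_comm hG hM hE hK1 hKE hU hEU hfpf
  have hA := kstar_eq hG hM h28 hκτ1 hτ1κ hE hK hKE
  have hKτ := isPiHallOf_tau1_of_kappa hκτ1 hτ1κ hE.1 hK hKE
  obtain ⟨-, h15, -⟩ := Cfsg.Agent.S1415.result hG M hM E hE
  have hKcyc : IsCyclic ↥K := h15 K hKτ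
  have hKc : ∀ a ∈ K, ∀ b ∈ K, a * b = b * a := by
    intro a ha b hb
    obtain ⟨g, hg⟩ := hKcyc.exists_generator
    obtain ⟨i, hi⟩ := Subgroup.mem_zpowers_iff.mp (hg ⟨a, ha⟩)
    obtain ⟨j, hj⟩ := Subgroup.mem_zpowers_iff.mp (hg ⟨b, hb⟩)
    have h1 : (⟨a, ha⟩ : ↥K) * ⟨b, hb⟩ = ⟨b, hb⟩ * ⟨a, ha⟩ := by
      rw [← hi, ← hj, ← zpow_add, ← zpow_add, add_comm]
    have h2 := congrArg (fun w : ↥K => (w : G)) h1
    simpa using h2
  obtain ⟨hUK, hprod⟩ := hallU_mul_kappa hG hM hE hK hKE hU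
  refine ⟨hA, ⟨U, hUc, isPiHallOf_piU_of_compl hE hU, hKE.trans hEU, hfpf⟩, ?_⟩
  intro X hXK hXp
  obtain ⟨h1, h2⟩ := normalizer_eq_of_T1 hE hKE hKc hKcyc hEU hUK hprod hfpf hA hXK hXp
  refine ⟨h1, h2, fun Mstar hMs hN => ?_⟩
  exact hG1 X (hXK.trans hK.1) (hK.2.1 _ hXp (Subgroup.card_dvd_of_le hXK)) Mstar hMs hN

end Cfsg.Agent.Lib.Helper2.BGCor
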