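import Mathlib
import Cfsg.Agent.Lib.Helper2.BGCorL
import Cfsg.Agent.S1414
import Cfsg.Agent.S1423
import Cfsg.Agent.S1426

/-!
# B & G 13.6 = statement (U) of `notes/bg14/NOTES_h20.md` (helper2)

`M` maximal, `E` a complement of `M_σ`, `P ≤ E` of prime order `p ∈ τ₁(M)` and `X ≤ C_{M_σ}(P)` of
prime order `q`.  Then `q ∈ β(M)` or `X ≤ M_σ'`; hence (S1423) `C_G(X) ≤ M`, `M` is the only maximal
subgroup containing `C_G(X)`, and every Sylow `q`-subgroup of `M_σ` lies in a unique maximal subgroup.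

Paper proof: helper27 (`notes/bg13/NOTES_h27.md`) and helper8; hypotheses `H28 M` (statement of
S1428) and `CorR M` (Corollary R).
-/

set_option autoImplicit false
set_option linter.style.haveILetI false
open scoped commutatorElement

namespace Cfsg.Agent.Lib.Helper2.BGCor

open Cfsg Cfsg.Agent.Lib.Helper1.BGX
open Cfsg.Agent.Lib.Helper8 (mem_map_conj conj_mem_map_conj map_conj_map_conj map_conj_one
  map_conj_le_iff map_conj_eq_iff card_map_conj mem_normalizer_iff_map_conj IsSylIn sylow_smul_coe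
  map_conj_eq_of_le sylow_map_subtype_isSylIn mem_sup_of_le_normalizer)
open Cfsg.Agent.Lib.Helper16.BGPrim (exists_hall_ge' ut le_normalizer_of_conj_mem
  commutator_self_le' isSylIn_ne_bot conj_mem_commutator_self)
open Cfsg.Agent.Lib.Helper23.BGY (mem_tau2_of_not_rank_one not_mem_sigma_of_dvd_compl
  exists_conj_mem_compl isComplIn_conj le_of_coprime_index_normal)

variable {G : Type*} [Group G]

/-- the normal `q`-complement of `M'` (S1414), as a subgroup of `G`; it is normal in `M`. -/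
theorem exists_normal_compl_commutator [Finite G] (hG : Cfsg.IsMinSimpleOddOrder G)
    {M : Subgroup G} (hM : IsCoatom M) {q : ℕ} (hq : q.Prime) (hqM : q ∣ Nat.card M)
    (hqβ : q ∉ Cfsg.beta M) :
    ∃ O : Subgroup G, O ≤ ⁅M, M⁆ ∧ M ≤ Subgroup.normalizer (O : Set G) ∧ ¬ q ∣ Nat.card O ∧
      ∀ K : Subgroup G, K ≤ ⁅M, M⁆ → ¬ q ∣ Nat.card K → K ≤ O := by
  haveI : Fact q.Prime := ⟨hq⟩
  obtain ⟨-, -, -, -, h⟩ := Cfsg.Agent.S1414.result hG M hM
  obtain ⟨⟨P, N, hNn, hc⟩, -, -⟩ := h q hq hqM hqβ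
  haveI := hNn
  have hcard : Nat.card N * Nat.card (P : Subgroup ↥⁅M, M⁆) = Nat.card ↥⁅M, M⁆ := hc.card_mul_card
  have hidx : N.index = Nat.card (P : Subgroup ↥⁅M, M⁆) := by
    have h1 := N.card_mul_index
    have hpos : 0 < Nat.card N := Nat.card_pos
    exact Nat.eq_of_mul_eq_mul_left hpos (h1.trans hcard.symm)
  have hNq : ¬ q ∣ Nat.card N := by
    have h1 := (P : Subgroup ↥⁅M, M⁆).card_mul_index
    have h2 : Nat.card N = (P : Subgroup ↥⁅M, M⁆).index := by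
      have hpos : 0 < Nat.card (P : Subgroup ↥⁅M, M⁆) := Nat.card_pos
      apply Nat.eq_of_mul_eq_mul_left hpos
      rw [h1, mul_comm, hcard]
    rw [h2]
    exact P.not_dvd_index
  have hOcard : Nat.card (N.map (⁅M, M⁆ : Subgroup G).subtype) = Nat.card N :=
    Subgroup.card_map_of_injective (Subgroup.subtype_injective _)
  have hcontains : ∀ K : Subgroup G, K ≤ ⁅M, M⁆ → ¬ q ∣ Nat.card K →
      K ≤ N.map (⁅M, M⁆ : Subgroup G).subtype := by
    intro K hK hKq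
    have h1 : (Nat.card (K.subgroupOf ⁅M, M⁆)).Coprime N.index := by
      rw [Cfsg.Agent.Lib.Helper1.card_subgroupOf_of_le hK, hidx]
      obtain ⟨n, hn⟩ := IsPGroup.iff_card.mp P.isPGroup'
      rw [hn]
      exact Nat.Coprime.pow_right n ((Nat.Prime.coprime_iff_not_dvd hq).mpr hKq).symm
    have h2 := le_of_coprime_index_normal N (K.subgroupOf ⁅M, M⁆) h1
    intro x hx
    exact ⟨⟨x, hK hx⟩, h2 (Subgroup.mem_subgroupOf.mpr hx), rfl⟩
  refine ⟨N.map (⁅M, M⁆ : Subgroup G).subtype, Subgroup.map_subtype_le _, ?_, ?_, hcontains⟩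
  · intro g hg
    rw [mem_normalizer_iff_map_conj]
    apply map_conj_eq_of_le
    apply hcontains
    · rintro _ ⟨x, hx, rfl⟩
      have hx' : x ∈ ⁅M, M⁆ := Subgroup.map_subtype_le _ hx
      have := conj_mem_commutator_self hg hx'
      simpa [MulAut.conj_apply] using this
    · rw [card_map_conj, hOcard]
      exact hNq
  · rw [hOcard]
    exact hNq

/-- powers of a product modulo a subgroup normalized by the second factor. -/
theorem exists_pow_mul_eq {N : Subgroup G} {m o : G} (hm : m ∈ N)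
    (ho : o ∈ Subgroup.normalizer (N : Set G)) (k : ℕ) :
    ∃ m' ∈ N, (m * o) ^ k = m' * o ^ k := by
  induction k with
  | zero => exact ⟨1, N.one_mem, by simp⟩
  | succ k ih =>
    obtain ⟨m', hm', h⟩ := ih
    refine ⟨m' * (o ^ k * m * (o ^ k)⁻¹), N.mul_mem hm' ?_, ?_⟩
    · exact (Subgroup.mem_normalizer_iff.mp (Subgroup.pow_mem _ ho k) m).mp hm
    · rw [pow_succ, h, pow_succ]
      group

/-- **B & G 13.6**, main step: `q ∈ β(M)` or `X ≤ M_σ'`. -/
theorem thm13_6_aux [Finite G] (hG : Cfsg.IsMinSimpleOddOrder G) {M : Subgroup G}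
    (hM : IsCoatom M) (h28 : H28 M) (hR : CorR M) {E : Subgroup G}
    (hE : Cfsg.IsComplIn E (Cfsg.sigmaCore M) M) {P : Subgroup G} (hPE : P ≤ E) {p : ℕ}
    (hp : p ∈ Cfsg.tau1 M) (hPc : Nat.card P = p) {X : Subgroup G} (hXq : (Nat.card X).Prime)
    (hXT : X ≤ Cfsg.sigmaCore M ⊓ Subgroup.centralizer (P : Set G)) :
    Nat.card X ∈ Cfsg.beta M ∨ X ≤ ⁅Cfsg.sigmaCore M, Cfsg.sigmaCore M⁆ := by
  by_contra hcon
  push Not at hcon
  obtain ⟨hqβ, hXnot⟩ := hcon
  obtain ⟨q, hqdef⟩ : ∃ q : ℕ, q = Nat.card X := ⟨_, rfl⟩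
  rw [← hqdef] at hXq hqβ
  have hpp : p.Prime := hp.1
  haveI : Fact p.Prime := ⟨hpp⟩
  haveI : Fact q.Prime := ⟨hXq⟩
  haveI hsolM : Group.IsSolvable ↥M := hG.2.2.2 M hM.1
  haveI hsolE : Group.IsSolvable ↥E :=
    Group.isSolvable_of_isSolvable_injective (Subgroup.inclusion_injective hE.1)
  have hEM : E ≤ M := hE.1
  have hσM := sigmaCore_le M
  have hXσ : X ≤ Cfsg.sigmaCore M := hXT.trans inf_le_left
  have hqσcard : q ∣ Nat.card (Cfsg.sigmaCore M) := hqdef ▸ Subgroup.card_dvd_of_le hXσ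
  have hqσ : q ∈ Cfsg.sigma M := primes_card_sigmaCore M q hXq hqσcard
  have hqM : q ∣ Nat.card M := hqσ.2.1
  -- the subgroups `O`, `O1`, `N`
  obtain ⟨O, hOM', hOn, hOq, hOc⟩ := exists_normal_compl_commutator hG hM hXq hqM hqβ
  obtain ⟨h26a, h26b, -⟩ := Cfsg.Agent.S1426.result hG M hM E hE
  obtain ⟨Ms', hMs'def⟩ : ∃ Ms' : Subgroup G,
    Ms' = ⁅Cfsg.sigmaCore M, Cfsg.sigmaCore M⁆ := ⟨_, rfl⟩
  rw [← hMs'def] at hXnot h26a
  have hMs'σ : Ms' ≤ Cfsg.sigmaCore M := hMs'def ▸ commutator_self_le' _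
  have hMs'n : M ≤ Subgroup.normalizer (Ms' : Set G) := by
    intro g hg
    rw [mem_normalizer_iff_map_conj, hMs'def, Subgroup.map_commutator,
      mem_normalizer_iff_map_conj.mp (le_normalizer_sigmaCore M hg)]
  obtain ⟨O1, hO1def⟩ : ∃ O1 : Subgroup G, O1 = Cfsg.sigmaCore M ⊓ O := ⟨_, rfl⟩
  have hO1n : M ≤ Subgroup.normalizer (O1 : Set G) := by
    intro g hg
    rw [mem_normalizer_iff_map_conj, hO1def,
      Subgroup.map_inf _ _ _ (MulAut.conj g).injective,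
      mem_normalizer_iff_map_conj.mp (le_normalizer_sigmaCore M hg),
      mem_normalizer_iff_map_conj.mp (hOn hg)]
  have hO1σ : O1 ≤ Cfsg.sigmaCore M := hO1def ▸ inf_le_left
  have hO1q : ¬ q ∣ Nat.card O1 := fun hd =>
    hOq (hd.trans (Subgroup.card_dvd_of_le (hO1def ▸ inf_le_right)))
  obtain ⟨N, hNdef⟩ : ∃ N : Subgroup G, N = Ms' ⊔ O1 := ⟨_, rfl⟩
  have hNσ : N ≤ Cfsg.sigmaCore M := hNdef ▸ sup_le hMs'σ hO1σ
  have hNn : M ≤ Subgroup.normalizer (N : Set G) := by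
    intro g hg
    rw [hNdef]
    exact mem_normalizer_sup (hMs'n hg) (hO1n hg)
  -- (g): `X ≤ N → X ≤ Ms'`
  have hg : ¬ X ≤ N := by
    intro hXN
    apply hXnot
    intro x hx
    have hxN : x ∈ Ms' ⊔ O1 := hNdef ▸ hXN hx
    obtain ⟨m, hm, o, ho, rfl⟩ :=
      mem_sup_of_le_normalizer ((hO1σ.trans hσM).trans hMs'n) hxN
    obtain ⟨m', hm', hpow⟩ := exists_pow_mul_eq hm (hMs'n (hσM (hO1σ ho))) (orderOf o)
    rw [pow_orderOf_eq_one, mul_one] at hpow
    -- order of `m * o` divides `q`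
    have hord : orderOf (m * o) ∣ q := by
      have := orderOf_dvd_natCard (⟨m * o, hx⟩ : ↥X)
      rwa [Subgroup.orderOf_mk, ← hqdef] at this
    have hoo : ¬ q ∣ orderOf o := by
      intro hd
      apply hO1q
      have := orderOf_dvd_natCard (⟨o, ho⟩ : ↥O1)
      rw [Subgroup.orderOf_mk] at this
      exact hd.trans this
    have hcop : (orderOf (m * o)).Coprime (orderOf o) := by
      rcases (Nat.dvd_prime hXq).mp hord with h | h
      · rw [h]; exact Nat.coprime_one_left _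
      · rw [h]; exact (Nat.Prime.coprime_iff_not_dvd hXq).mpr hoo
    have h1 : (m * o) ^ orderOf o ∈ Ms' := hpow ▸ hm'
    have h2 : Subgroup.zpowers ((m * o) ^ orderOf o) = Subgroup.zpowers (m * o) := by
      apply Subgroup.eq_of_le_of_card_ge
      · exact Subgroup.zpowers_le.mpr (Subgroup.pow_mem _ (Subgroup.mem_zpowers _) _)
      · rw [Nat.card_zpowers, Nat.card_zpowers, Nat.Coprime.orderOf_pow hcop]
    have h3 : m * o ∈ Subgroup.zpowers ((m * o) ^ orderOf o) := by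
      rw [h2]; exact Subgroup.mem_zpowers _
    exact (Subgroup.zpowers_le.mpr h1) h3
  -- `M_σ ≤ M'`
  have hσM' : Cfsg.sigmaCore M ≤ ⁅M, M⁆ := by
    calc Cfsg.sigmaCore M = ⁅Cfsg.sigmaCore M, E⁆ := h26b.symm
      _ ≤ ⁅M, M⁆ := Subgroup.commutator_mono hσM hEM
  -- `E' ≤ O`
  have hE'O : ⁅E, E⁆ ≤ O := by
    apply hOc _ (Subgroup.commutator_mono hEM hEM)
    intro hd
    exact not_mem_sigma_of_dvd_compl hG hM hE hXq
      (hd.trans (Subgroup.card_dvd_of_le (commutator_self_le' E))) hqσ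
  -- `[M_σ, E'] ⊆ O1`
  have hcomm1 : ∀ m ∈ Cfsg.sigmaCore M, ∀ e ∈ ⁅E, E⁆, m * e * m⁻¹ * e⁻¹ ∈ O1 := by
    intro m hm e he
    have heM : e ∈ M := hEM (commutator_self_le' E he)
    rw [hO1def]
    refine Subgroup.mem_inf.mpr ⟨?_, ?_⟩
    · have h1 : e * m⁻¹ * e⁻¹ ∈ Cfsg.sigmaCore M :=
        conj_mem_sigmaCore heM (Subgroup.inv_mem _ hm)
      have : m * e * m⁻¹ * e⁻¹ = m * (e * m⁻¹ * e⁻¹) := by group
      rw [this]
      exact Subgroup.mul_mem _ hm h1
    · have h1 : m * e * m⁻¹ ∈ O :=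
        (Subgroup.mem_normalizer_iff.mp (hOn (hσM hm)) e).mp (hE'O he)
      exact O.mul_mem h1 (O.inv_mem (hE'O he))
  -- (iii): `E = C_E(P) E'`
  have hPE'cop : (Nat.card P).Coprime (Nat.card ↥⁅E, E⁆) := by
    rw [hPc, Nat.Prime.coprime_iff_not_dvd hpp]
    intro hd
    exact hp.2.2.2.1 (hd.trans (Subgroup.card_dvd_of_le (Subgroup.commutator_mono hEM hEM)))
  have hPnE' : P ≤ Subgroup.normalizer ((⁅E, E⁆ : Subgroup G) : Set G) := by
    apply le_normalizer_of_conj_mem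
    intro s hs t ht
    exact conj_mem_commutator_self (hPE hs) ht
  have hiii : ∀ e ∈ E, ∃ n ∈ ⁅E, E⁆, e * n ∈ Subgroup.centralizer (P : Set G) := by
    intro e he
    apply Cfsg.Agent.Lib.Helper1.exists_mul_mem_centralizer hPnE' hPE'cop
      (Or.inl (by
        haveI : Group.IsSolvable ↥P :=
          Group.isSolvable_of_isSolvable_injective (Subgroup.inclusion_injective hPE)
        infer_instance))
    intro a ha
    have : e⁻¹ * a * e * a⁻¹ = ⁅e⁻¹, a⁆ := by rw [commutatorElement_def, inv_inv]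
    rw [this]
    exact Subgroup.commutator_mem_commutator (E.inv_mem he) (hPE ha)
  -- a generator of `P`
  have hPcyc : IsCyclic ↥P := isCyclic_of_prime_card hPc
  obtain ⟨g0, hg0⟩ := hPcyc.exists_generator
  have hg0o : orderOf (g0 : G) = p := by
    rw [Subgroup.orderOf_coe, ← hPc]
    exact orderOf_eq_card_of_forall_mem_zpowers hg0
  have hPz : ∀ a ∈ P, a ∈ Subgroup.zpowers (g0 : G) := by
    intro a ha
    obtain ⟨i, hi⟩ := Subgroup.mem_zpowers_iff.mp (hg0 ⟨a, ha⟩)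
    have := congrArg Subtype.val hi
    exact Subgroup.mem_zpowers_iff.mpr ⟨i, by simpa using this⟩
  -- `p ∈ κ(M)`
  obtain ⟨x0, hx0X, hx01⟩ : ∃ x0 ∈ X, x0 ≠ 1 := by
    by_contra hcon
    push Not at hcon
    have : X = ⊥ := (Subgroup.eq_bot_iff_forall X).mpr hcon
    rw [this, Subgroup.card_bot] at hqdef
    rw [hqdef] at hXq
    exact Nat.not_prime_one hXq
  have hx0g0 : (g0 : G) * x0 = x0 * (g0 : G) :=
    Subgroup.mem_centralizer_iff.mp (hXT hx0X).2 (g0 : G) g0.2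
  have hpκ : p ∈ Cfsg.kappa M := by
    rcases kappa_or_tau2 hG (ut hG) hM (hXσ hx0X) hx01 (hEM (hPE g0.2)) hpp hg0o hx0g0 hp.2.1
      with h | h
    · exact h
    · exact absurd hp.2.2.2.2 h.2.2.2
  -- (iv): `C_E(P)` centralizes `T`
  obtain ⟨T, hTdef⟩ : ∃ T : Subgroup G,
    T = Cfsg.sigmaCore M ⊓ Subgroup.centralizer (P : Set G) := ⟨_, rfl⟩
  have hTσ : T ≤ Cfsg.sigmaCore M := hTdef ▸ inf_le_left
  have hiv : E ⊓ Subgroup.centralizer (P : Set G) ≤ Subgroup.centralizer (T : Set G) := by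
    apply Cfsg.Agent.Lib.Helper21.Camina.le_of_sylows
    intro r hr
    obtain ⟨R⟩ : Nonempty (Sylow r ↥(E ⊓ Subgroup.centralizer (P : Set G))) := inferInstance
    refine ⟨R, ?_⟩
    have hrp : r.Prime := hr.out
    by_cases hd : r ∣ Nat.card ↥(E ⊓ Subgroup.centralizer (P : Set G))
    swap
    · have h1 : Nat.card (R : Subgroup ↥(E ⊓ Subgroup.centralizer (P : Set G))) = 1 := by
        rw [R.card_eq_multiplicity, Nat.factorization_eq_zero_of_not_dvd hd, pow_zero]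
      rw [Subgroup.card_eq_one.mp h1, Subgroup.map_bot]
      exact bot_le
    obtain ⟨R', hR'def⟩ : ∃ R' : Subgroup G,
      R' = (R : Subgroup ↥(E ⊓ Subgroup.centralizer (P : Set G))).map
        (E ⊓ Subgroup.centralizer (P : Set G)).subtype := ⟨_, rfl⟩
    rw [← hR'def]
    have hR'C : R' ≤ E ⊓ Subgroup.centralizer (P : Set G) := hR'def ▸ Subgroup.map_subtype_le _
    have hSylC : IsSylIn r R' (E ⊓ Subgroup.centralizer (P : Set G)) :=
      hR'def ▸ sylow_map_subtype_isSylIn R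
    have hR'1 : R' ≠ ⊥ := isSylIn_ne_bot hSylC hd
    have hR'r : IsPGroup r R' := hSylC.isPGroup
    have hrR' : r ∣ Nat.card R' := by
      obtain ⟨n, hn⟩ := IsPGroup.iff_card.mp hR'r
      have hn0 : n ≠ 0 := by
        rintro rfl
        rw [pow_zero] at hn
        exact hR'1 (Subgroup.card_eq_one.mp hn)
      rw [hn]
      exact dvd_pow_self r hn0
    obtain ⟨z, hz⟩ := exists_prime_orderOf_dvd_card' r hrR'
    have hzo : orderOf (z : G) = r := by rw [Subgroup.orderOf_coe, hz]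
    have hz1 : (z : G) ≠ 1 := by
      intro h
      rw [h, orderOf_one] at hzo
      exact hrp.one_lt.ne hzo
    have hzE : (z : G) ∈ E := (hR'C z.2).1
    have hzP : (z : G) ∈ Subgroup.centralizer (P : Set G) := (hR'C z.2).2
    have hzg0 : (z : G) * (g0 : G) = (g0 : G) * (z : G) :=
      (Subgroup.mem_centralizer_iff.mp hzP (g0 : G) g0.2).symm
    have hrE : r ∣ Nat.card E := by
      rw [← hzo]
      have := orderOf_dvd_natCard (⟨(z : G), hzE⟩ : ↥E)
      rwa [Subgroup.orderOf_mk] at this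
    have hrσ : r ∉ Cfsg.sigma M := not_mem_sigma_of_dvd_compl hG hM hE hrp hrE
    -- `r ∉ τ₂(M)`
    have hr1 : Cfsg.PRankLE r 1 ↥M := by
      by_contra hr1
      exact hR (g0 : G) (hEM (hPE g0.2)) (by rw [hg0o]; exact hpκ) (z : G) (hEM hzE) hzg0
        (by rw [hzo]; exact mem_tau2_of_not_rank_one hG hM hrp hrσ hr1)
    -- a cyclic Sylow `r`-subgroup of `E` containing `R'`
    obtain ⟨S, hS, hR'S⟩ := Cfsg.Agent.Lib.Helper17.BGU.exists_isSylIn_ge (hR'C.trans inf_le_left)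
      hR'r
    have hScyc : IsCyclic ↥S := by
      apply Cfsg.Agent.Lib.Helper23.BGY.isCyclic_of_rank_one_nilpotent hG.1 (hS.1.trans hEM)
        hS.isPGroup.isNilpotent
      intro r' hr' hd'
      obtain ⟨n, hn⟩ := IsPGroup.iff_card.mp hS.isPGroup
      rw [hn] at hd'
      rw [(Nat.prime_dvd_prime_iff_eq hr' hrp).mp (hr'.dvd_of_dvd_pow hd')]
      exact hr1
    have hS1 : ((hS.toSylow : Sylow r ↥E) : Subgroup ↥E) ≠ ⊥ := by
      intro h
      apply hR'1
      have : S = ⊥ := by rw [← hS.toSylow_map, h, Subgroup.map_bot]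
      exact le_bot_iff.mp (this ▸ hR'S)
    have hSc : IsCyclic ↥((hS.toSylow : Sylow r ↥E) : Subgroup ↥E) := by
      have h1 : ((hS.toSylow : Sylow r ↥E) : Subgroup ↥E) = S.subgroupOf E := rfl
      rw [h1]
      exact isCyclic_of_surjective (Subgroup.subgroupOfEquivOfLe hS.1).symm.toMonoidHom
        (Subgroup.subgroupOfEquivOfLe hS.1).symm.surjective
    have h27 := Cfsg.Agent.S1427.result hG M hM E hE r hS.toSylow hS1 hSc
    rw [hS.toSylow_map] at h27
    have h27z := h27 (z : G) (hR'S z.2) hz1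
    have hRle : Subgroup.zpowers (z : G) ≤ E ⊓ Subgroup.centralizer (P : Set G) := by
      rw [Subgroup.zpowers_le]
      exact hR'C z.2
    have h := h28 E hE p hp P hPE hPc (Subgroup.zpowers (z : G)) hRle
      (by rw [Nat.card_zpowers, hzo]; exact hrp)
    intro a ha
    rw [Subgroup.mem_centralizer_iff]
    intro t ht
    have htT : t ∈ Cfsg.sigmaCore M ⊓ Subgroup.centralizer (P : Set G) := hTdef ▸ ht
    have h1 := (h htT).2
    have htz : (z : G) * t = t * (z : G) :=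
      Subgroup.mem_centralizer_iff.mp h1 (z : G) (Subgroup.mem_zpowers _)
    have h2 : t ∈ Cfsg.sigmaCore M ⊓ Subgroup.centralizer ({(z : G)} : Set G) := by
      refine Subgroup.mem_inf.mpr ⟨hTσ ht, ?_⟩
      rw [Subgroup.mem_centralizer_iff]
      intro w hw
      rw [Set.mem_singleton_iff] at hw
      rw [hw]
      exact htz
    rw [h27z] at h2
    exact (Subgroup.mem_centralizer_iff.mp h2.2 a (hR'S ha)).symm
  -- `t⁻¹ e t e⁻¹ ∈ N`
  have hkey : ∀ t ∈ T, ∀ e ∈ E, t⁻¹ * e * t * e⁻¹ ∈ N := by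
    intro t ht e he
    obtain ⟨n, hn, hc⟩ := hiii e he
    have hcE : e * n ∈ E := E.mul_mem he (commutator_self_le' E hn)
    have hct : (e * n) * t = t * (e * n) :=
      (Subgroup.mem_centralizer_iff.mp (hiv ⟨hcE, hc⟩) t ht).symm
    -- `e = c * n⁻¹`
    have h1 : t⁻¹ * n⁻¹ * t⁻¹⁻¹ * n⁻¹⁻¹ ∈ O1 :=
      hcomm1 t⁻¹ (Subgroup.inv_mem _ (hTσ ht)) n⁻¹ (Subgroup.inv_mem _ hn)
    have h2 : (e * n) * (t⁻¹ * n⁻¹ * t⁻¹⁻¹ * n⁻¹⁻¹) * (e * n)⁻¹ ∈ N :=
      (Subgroup.mem_normalizer_iff.mp (hNn (hEM hcE)) _).mp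
        (hNdef ▸ (le_sup_right : O1 ≤ Ms' ⊔ O1) h1)
    have h3 : t⁻¹ * e * t * e⁻¹ = (e * n) * (t⁻¹ * n⁻¹ * t⁻¹⁻¹ * n⁻¹⁻¹) * (e * n)⁻¹ := by
      have e1 : t⁻¹ * (e * n) = (e * n) * t⁻¹ := by
        calc t⁻¹ * (e * n) = t⁻¹ * ((e * n) * t) * t⁻¹ := by group
          _ = t⁻¹ * (t * (e * n)) * t⁻¹ := by rw [hct]
          _ = (e * n) * t⁻¹ := by group
      calc t⁻¹ * e * t * e⁻¹ = (t⁻¹ * (e * n)) * n⁻¹ * t * e⁻¹ := by group
        _ = ((e * n) * t⁻¹) * n⁻¹ * t * e⁻¹ := by rw [e1]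
        _ = (e * n) * (t⁻¹ * n⁻¹ * t⁻¹⁻¹ * n⁻¹⁻¹) * (e * n)⁻¹ := by group
    rw [h3]
    exact h2
  -- lifting: `T ≤ N`
  have hcopEN : (Nat.card E).Coprime (Nat.card N) := by
    apply Nat.coprime_of_dvd
    intro r hr h1 h2
    exact not_mem_sigma_of_dvd_compl hG hM hE hr h1
      (primes_card_sigmaCore M r hr (h2.trans (Subgroup.card_dvd_of_le hNσ)))
  have hTN : T ≤ N := by
    intro t ht
    obtain ⟨n, hn, hc⟩ := Cfsg.Agent.Lib.Helper1.exists_mul_mem_centralizer (hEM.trans hNn)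
      hcopEN (Or.inl hsolE) t (hkey t ht)
    have h1 : t * n ∈ Cfsg.sigmaCore M ⊓ Subgroup.centralizer (E : Set G) :=
      ⟨Subgroup.mul_mem _ (hTσ ht) (hNσ hn), hc⟩
    have h2 : t * n ∈ N := hNdef ▸ (le_sup_left : Ms' ≤ Ms' ⊔ O1) (h26a h1)
    have : t = (t * n) * n⁻¹ := by group
    rw [this]
    exact N.mul_mem h2 (N.inv_mem hn)
  exact hg ((hTdef ▸ hXT).trans hTN)

/-- **B & G 13.6** (= (U) of the notes): `C_G(X) ≤ M`, `M` is the unique maximal subgroup containing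
`C_G(X)`, and the Sylow `q`-subgroups of `M_σ` lie in a unique maximal subgroup. -/
theorem thm13_6 [Finite G] (hG : Cfsg.IsMinSimpleOddOrder G) {M : Subgroup G}
    (hM : IsCoatom M) (h28 : H28 M) (hR : CorR M) {E : Subgroup G}
    (hE : Cfsg.IsComplIn E (Cfsg.sigmaCore M) M) {P : Subgroup G} (hPE : P ≤ E) {p : ℕ}
    (hp : p ∈ Cfsg.tau1 M) (hPc : Nat.card P = p) {X : Subgroup G} {q : ℕ} [Fact q.Prime]
    (hXc : Nat.card X = q)
    (hXT : X ≤ Cfsg.sigmaCore M ⊓ Subgroup.centralizer (P : Set G)) :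
    (Subgroup.centralizer (X : Set G) ≤ M ∧
        ∀ L : Subgroup G, IsCoatom L → Subgroup.centralizer (X : Set G) ≤ L → L = M) ∧
      ∀ S : Sylow q ↥(Cfsg.sigmaCore M),
        Cfsg.InUniqueMaximal
            ((S : Subgroup ↥(Cfsg.sigmaCore M)).map (Cfsg.sigmaCore M).subtype) ∧
          (S : Subgroup ↥(Cfsg.sigmaCore M)).map (Cfsg.sigmaCore M).subtype ≤ M := by
  have hqp : q.Prime := Fact.out
  have hXσ : X ≤ Cfsg.sigmaCore M := hXT.trans inf_le_left
  have hqσ : q ∈ Cfsg.sigma M :=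
    primes_card_sigmaCore M q hqp (hXc ▸ Subgroup.card_dvd_of_le hXσ)
  have h := thm13_6_aux hG hM h28 hR hE hPE hp hPc (hXc ▸ hqp) hXT
  rw [hXc] at h
  refine ⟨(Cfsg.Agent.S1423.result hG M hM q hqσ X (hXσ.trans (sigmaCore_le M)) hXc
    default h).1, fun S => ?_⟩
  exact (Cfsg.Agent.S1423.result hG M hM q hqσ X (hXσ.trans (sigmaCore_le M)) hXc S h).2

end Cfsg.Agent.Lib.Helper2.BGCor
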