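import Mathlib
import Cfsg.Agent.S1545
import Cfsg.Agent.Lib.Helper1.NarrowOmegaZ2
import Cfsg.Agent.Lib.Helper20.NormalRankTwoB
import Cfsg.Agent.Lib.Helper17.BGToolB

/-!
# B & G 13.12, part 0: two abstract tools (helper2)

* `frob_count_false`: a Frobenius group `QP` (kernel `Q`, complement `P`) cannot act coprimely on a
  group `W` of exponent `r` and order `> r` in such a way that `C_W(Q)` and `C_W(P)` are cyclic and
  `C_W(QP) ≠ 1` (counting formula S1545).
* `exists_char_exp_subgroup`: a noncyclic `r`-subgroup `S` (`r` odd) contains a subgroup `W`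
  (namely `Ω₁(Z₂(S))`) of exponent `r` and order `≥ r ^ 2`, normalized by `N_G(S)` and containing
  every central element of `S` of order dividing `r`.
-/

set_option autoImplicit false
set_option linter.style.haveILetI false

namespace Cfsg.Agent.Lib.Helper2.BGCor

/-- a cyclic group of exponent dividing `r` has order at most `r`. -/
theorem card_le_of_isCyclic_of_exp {X : Type*} [Group X] [Finite X] {C : Subgroup X} {r : ℕ}
    (hr : 0 < r) (hC : IsCyclic ↥C) (hexp : ∀ w ∈ C, w ^ r = 1) : Nat.card C ≤ r := by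
  obtain ⟨g, hg⟩ := hC.exists_generator
  have h1 : orderOf g = Nat.card C := orderOf_eq_card_of_forall_mem_zpowers hg
  have h2 : g ^ r = 1 := Subtype.ext (by simpa using hexp g g.2)
  rw [← h1]
  exact Nat.le_of_dvd hr (orderOf_dvd_of_pow_eq_one h2)

/-- **Frobenius counting**: see the file header. -/
theorem frob_count_false {X : Type*} [Group X] [Finite X] {Q P W : Subgroup X} {r : ℕ}
    (hr : r.Prime) (hQ1 : Q ≠ ⊥) (hP1 : P ≠ ⊥) (hQP : Q ⊓ P = ⊥)
    (hPQ : ∀ e ∈ P, ∀ u ∈ Q, e * u * e⁻¹ ∈ Q)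
    (hfpf : ∀ e ∈ P, e ≠ 1 → ∀ u ∈ Q, e * u = u * e → u = 1)
    (hWn : ∀ x ∈ Q ⊔ P, ∀ h ∈ W, x * h * x⁻¹ ∈ W)
    (hWr : ∀ w ∈ W, w ^ r = 1)
    (hcop : Nat.Coprime (Nat.card W) (Nat.card ↥(Q ⊔ P)))
    {a : X} (haW : a ∈ W) (ha1 : a ≠ 1) (haQ : a ∈ Subgroup.centralizer (Q : Set X))
    (haP : a ∈ Subgroup.centralizer (P : Set X))
    (hCQ : IsCyclic ↥(W ⊓ Subgroup.centralizer (Q : Set X)))
    (hCP : IsCyclic ↥(W ⊓ Subgroup.centralizer (P : Set X)))
    (hcard : r < Nat.card W) : False := by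
  haveI : Fact r.Prime := ⟨hr⟩
  have hWp : IsPGroup r W := fun w => ⟨1, by
    rw [pow_one]; exact Subtype.ext (by simpa using hWr w w.2)⟩
  haveI hWnil : Group.IsNilpotent ↥W := hWp.isNilpotent
  have hsolv : Group.IsSolvable ↥W := inferInstance
  have hdisj : W ⊓ (Q ⊔ P) = ⊥ := by
    rw [eq_bot_iff]
    intro x hx
    have h1 : orderOf x ∣ Nat.card W := by
      have := orderOf_dvd_natCard (⟨x, hx.1⟩ : ↥W)
      rwa [Subgroup.orderOf_mk] at this
    have h2 : orderOf x ∣ Nat.card ↥(Q ⊔ P) := by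
      have := orderOf_dvd_natCard (⟨x, hx.2⟩ : ↥(Q ⊔ P))
      rwa [Subgroup.orderOf_mk] at this
    have h3 : orderOf x = 1 := Nat.eq_one_of_dvd_coprimes hcop h1 h2
    rw [Subgroup.mem_bot]
    exact orderOf_eq_one_iff.mp h3
  have key := Cfsg.Agent.S1545.result Q P W hQ1 hP1 hQP hPQ hfpf hWn hdisj hsolv hcop
  -- the three centralizers
  have hcP : Nat.card ↥(W ⊓ Subgroup.centralizer (P : Set X)) ≤ r :=
    card_le_of_isCyclic_of_exp hr.pos hCP (fun w hw => hWr w hw.1)
  have hcQ : Nat.card ↥(W ⊓ Subgroup.centralizer (Q : Set X)) ≤ r :=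
    card_le_of_isCyclic_of_exp hr.pos hCQ (fun w hw => hWr w hw.1)
  have hcF : r ≤ Nat.card ↥(W ⊓ Subgroup.centralizer ((Q ⊔ P : Subgroup X) : Set X)) := by
    have haF : a ∈ W ⊓ Subgroup.centralizer ((Q ⊔ P : Subgroup X) : Set X) := by
      refine ⟨haW, ?_⟩
      show a ∈ Subgroup.centralizer ((Q ⊔ P : Subgroup X) : Set X)
      rw [Subgroup.mem_centralizer_iff]
      intro y hy
      have h1 : Q ⊔ P ≤ Subgroup.centralizer ({a} : Set X) := by
        apply sup_le
        · intro u hu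
          rw [Subgroup.mem_centralizer_singleton_iff]
          exact (Subgroup.mem_centralizer_iff.mp haQ u hu)
        · intro u hu
          rw [Subgroup.mem_centralizer_singleton_iff]
          exact (Subgroup.mem_centralizer_iff.mp haP u hu)
      have h2 := h1 hy
      rw [Subgroup.mem_centralizer_singleton_iff] at h2
      exact h2
    have ho : orderOf a = r := orderOf_eq_prime (hWr a haW) ha1
    have h1 := orderOf_dvd_natCard
      (⟨a, haF⟩ : ↥(W ⊓ Subgroup.centralizer ((Q ⊔ P : Subgroup X) : Set X)))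
    rw [Subgroup.orderOf_mk, ho] at h1
    exact Nat.le_of_dvd Nat.card_pos h1
  -- arithmetic
  set p := Nat.card P with hp
  set cF := Nat.card ↥(W ⊓ Subgroup.centralizer ((Q ⊔ P : Subgroup X) : Set X)) with hcFdef
  set cP := Nat.card ↥(W ⊓ Subgroup.centralizer (P : Set X)) with hcPdef
  set cQ := Nat.card ↥(W ⊓ Subgroup.centralizer (Q : Set X)) with hcQdef
  have h1 : r ^ p * Nat.card W ≤ cF ^ p * Nat.card W :=
    Nat.mul_le_mul_right _ (Nat.pow_le_pow_left hcF p)
  have h2 : cP ^ p * cQ ≤ r ^ p * r :=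
    Nat.mul_le_mul (Nat.pow_le_pow_left hcP p) hcQ
  have h3 : r ^ p * Nat.card W ≤ r ^ p * r := by
    calc r ^ p * Nat.card W ≤ cF ^ p * Nat.card W := h1
      _ = cP ^ p * cQ := key
      _ ≤ r ^ p * r := h2
  have h4 : Nat.card W ≤ r := Nat.le_of_mul_le_mul_left h3 (pow_pos hr.pos p)
  omega

variable {G : Type*} [Group G]

/-- **`Ω₁(Z₂(S))`**: see the file header. -/
theorem exists_char_exp_subgroup [Finite G] {r : ℕ} [Fact r.Prime] (hr2 : r ≠ 2)
    {S : Subgroup G} (hS : IsPGroup r S) (hnc : ¬ IsCyclic ↥S) :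
    ∃ W : Subgroup G, W ≤ S ∧
      Subgroup.normalizer (S : Set G) ≤ Subgroup.normalizer (W : Set G) ∧
      (∀ w ∈ W, w ^ r = 1) ∧
      (∀ z ∈ S, z ∈ Subgroup.centralizer (S : Set G) → z ^ r = 1 → z ∈ W) ∧
      r ^ 2 ≤ Nat.card W := by
  set W' : Subgroup ↥S :=
    Subgroup.closure {x : ↥S | x ∈ Subgroup.upperCentralSeries ↥S 2 ∧ x ^ r = 1} with hW'
  haveI hchar : W'.Characteristic := Cfsg.Agent.Lib.Helper1.omega_z2_characteristic
  refine ⟨W'.map S.subtype, Subgroup.map_subtype_le _,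
    Cfsg.Agent.Lib.Helper17.BGTool.normalizer_le_normalizer_map_of_char S W', ?_, ?_, ?_⟩
  · rintro _ ⟨w, hw, rfl⟩
    have h1 := (Cfsg.Agent.Lib.Helper1.mem_omega_z2 hr2 w hw).2
    have := congrArg Subtype.val h1
    simpa using this
  · intro z hzS hzC hzr
    refine ⟨⟨z, hzS⟩, ?_, rfl⟩
    apply Subgroup.subset_closure
    refine ⟨?_, Subtype.ext (by simpa using hzr)⟩
    have hzc : (⟨z, hzS⟩ : ↥S) ∈ Subgroup.center ↥S := by
      rw [Subgroup.mem_center_iff]
      intro g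
      apply Subtype.ext
      have := Subgroup.mem_centralizer_iff.mp hzC g g.2
      simpa using this
    have h1 : Subgroup.center ↥S ≤ Subgroup.upperCentralSeries ↥S 2 := by
      rw [← Subgroup.upperCentralSeries_one]
      exact Subgroup.upperCentralSeries_mono ↥S (by norm_num)
    exact h1 hzc
  · have hS' : IsPGroup r ↥S := hS
    obtain ⟨V, hVn, hVc, hVe, hVcard⟩ :=
      Cfsg.Agent.Lib.Helper20.exists_normal_elemAb_of_not_isCyclic hr2 hS' hnc
    haveI := hVn
    have hVZ : V ≤ Subgroup.upperCentralSeries ↥S 2 :=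
      Cfsg.Agent.Lib.Helper1.le_upperCentralSeries_two_of_card_sq hS' V hVe hVcard
    have hVW : V ≤ W' := by
      intro v hv
      exact Subgroup.subset_closure ⟨hVZ hv, hVe v hv⟩
    rw [Subgroup.card_map_of_injective S.subtype_injective, ← hVcard]
    exact Subgroup.card_le_of_le hVW

end Cfsg.Agent.Lib.Helper2.BGCor
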