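import Mathlib
import Cfsg.Agent.Lib.Helper2.BGCorP
import Cfsg.Agent.Lib.Helper2.BGCorM
import Cfsg.Agent.Lib.Helper4.FrattiniArg
import Cfsg.Agent.Lib.Helper17.BGUniqC
import Cfsg.Agent.Lib.Helper21.BG36J
import Cfsg.Agent.S0026
import Cfsg.Agent.S1405
import Cfsg.Agent.S1406
import Cfsg.Agent.S1407
import Cfsg.Agent.Lib.Helper17.RankOne
import Cfsg.Agent.Lib.Helper17.BGExF1

/-!
# B & G 13.12 (`tau1_mmaxI_asymmetry`), part 1 (helper2)

Paper proof: helper8, `notes/bg13/NOTES_h8.md`, section 1.  This file: the one-sided data `Asym`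
and steps (1)-(3) of the proof: `Q` is a Sylow subgroup of `M` inside `M'`, `q ∉ α(M)`,
`M = (M ∩ N) M_α`, `M_α ≠ 1`, and `|M : M ∩ N|` is an `α(M)`-number.
-/

set_option autoImplicit false
set_option linter.style.haveILetI false
open scoped commutatorElement

namespace Cfsg.Agent.Lib.Helper2.BGCor

open Cfsg Cfsg.Agent.Lib.Helper1.BGX
open Cfsg.Agent.Lib.Helper8
open Cfsg.Agent.Lib.Helper8.BGEx

variable {G : Type*} [Group G]

/-! ### general lemmas -/

/-- a `p`-subgroup of `M` is cyclic when `M` has `p`-rank at most one (`p` odd). -/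
theorem isCyclic_of_le_of_pRankLE_one [Finite G] {M T : Subgroup G} {p : ℕ} [Fact p.Prime]
    (hp2 : p ≠ 2) (hrk : Cfsg.PRankLE p 1 ↥M) (hTM : T ≤ M) (hT : IsPGroup p T) : IsCyclic ↥T := by
  have h1 : IsCyclic ↥(T.subgroupOf M) :=
    Cfsg.Agent.Lib.Helper17.isCyclic_of_pRankLE_one hp2 hrk (T.subgroupOf M) hT.comap_subtype
  exact isCyclic_of_surjective (Subgroup.subgroupOfEquivOfLe hTM).toMonoidHom
    (Subgroup.subgroupOfEquivOfLe hTM).surjective

/-- **S1407** for a subgroup `P` of order `p` (`M` of `p`-rank one): `C_{M_α}(P)` is a `Z`-group. -/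
theorem isZGroup_alphaCore_inf_centralizer [Finite G] (hG : Cfsg.IsMinSimpleOddOrder G)
    {M : Subgroup G} (hM : IsCoatom M) (hα : Cfsg.alphaCore M ≠ ⊥) {p : ℕ} [Fact p.Prime]
    (hpσ : p ∉ Cfsg.sigma M) (hrk : Cfsg.PRankLE p 1 ↥M) {P : Subgroup G} (hPM : P ≤ M)
    (hPc : Nat.card P = p) :
    IsZGroup ↥(Cfsg.alphaCore M ⊓ Subgroup.centralizer (P : Set G)) := by
  have hpp : p.Prime := Fact.out
  have hpM : p ∣ Nat.card M := hPc ▸ Subgroup.card_dvd_of_le hPM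
  have hp2 : p ≠ 2 := ne_two_of_dvd_sub hG.1 hpM
  have hPp : IsPGroup p P := IsPGroup.of_card (n := 1) (by rw [pow_one]; exact hPc)
  obtain ⟨S, hS⟩ := (hPp.comap_subtype (K := M)).exists_le_sylow
  obtain ⟨x, hxZ, hxo, hZ, -⟩ := Cfsg.Agent.S1407.result hG M hM hα p hpM hpσ S
  set S' : Subgroup G := (S : Subgroup ↥M).map M.subtype with hS'
  have hS'M : S' ≤ M := Subgroup.map_subtype_le _
  have hS'p : IsPGroup p S' := S.isPGroup'.map _
  have hxS' : x ∈ S' := by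
    obtain ⟨y, ⟨z, -, rfl⟩, rfl⟩ := hxZ
    exact ⟨_, z.2, rfl⟩
  have hPS' : P ≤ S' := by
    intro y hy
    exact ⟨⟨y, hPM hy⟩, hS (Subgroup.mem_subgroupOf.mpr hy), rfl⟩
  haveI hcyc : IsCyclic ↥S' := isCyclic_of_le_of_pRankLE_one hp2 hrk hS'M hS'p
  have hzx : Subgroup.zpowers x = P := by
    apply Cfsg.Agent.Lib.Helper9.eq_of_card_eq_of_le_isCyclic S' _ _
      (Subgroup.zpowers_le.mpr hxS') hPS'
    rw [Nat.card_zpowers, hxo, hPc]
  have hxP : x ∈ P := hzx ▸ Subgroup.mem_zpowers x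
  have hx1 : x ≠ 1 := by
    rintro rfl
    rw [orderOf_one] at hxo
    exact hpp.one_lt.ne hxo
  rw [← Cfsg.Agent.Lib.Helper17.BGExF.centralizer_singleton_eq_of_prime_card hpp hPc hxP hx1]
  exact hZ

/-- one half of the hypotheses of B & G 13.12: `M`, `N` maximal and not conjugate, `p ∈ τ₁(M)`,
`P ≤ M ∩ N` of order `p`, `Q` a `P`-invariant Sylow `q`-subgroup of `M ∩ N` on which `P` acts
fixed-point-freely, and `N_G(Q) ≤ N`. -/
structure Asym (M N : Subgroup G) (p : ℕ) (P : Subgroup G) (q : ℕ) (Q : Subgroup G) : Prop where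
  coatomM : IsCoatom M
  coatomN : IsCoatom N
  nonconj : ∀ g : G, N ≠ M.map (MulAut.conj g).toMonoidHom
  tau : p ∈ Cfsg.tau1 M
  cardP : Nat.card P = p
  leM : P ≤ M
  leN : P ≤ N
  prime : q.Prime
  syl : IsSylIn q Q (M ⊓ N)
  norm : P ≤ Subgroup.normalizer (Q : Set G)
  fpf : Q ⊓ Subgroup.centralizer (P : Set G) = ⊥
  normalizer_le : Subgroup.normalizer (Q : Set G) ≤ N

namespace Asym

variable {M N P Q : Subgroup G} {p q : ℕ}

theorem ne (h : Asym M N p P q Q) : N ≠ M := by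
  have := h.nonconj 1
  rwa [map_conj_one] at this

theorem primeP (h : Asym M N p P q Q) : p.Prime := h.tau.1

theorem isPGroupP (h : Asym M N p P q Q) : IsPGroup p P := by
  haveI : Fact p.Prime := ⟨h.primeP⟩
  exact IsPGroup.of_card (n := 1) (by rw [pow_one]; exact h.cardP)

theorem isPGroupQ (h : Asym M N p P q Q) : IsPGroup q Q := by
  haveI : Fact q.Prime := ⟨h.prime⟩
  exact h.syl.isPGroup

theorem Q_ne_bot [Finite G] (h : Asym M N p P q Q) : Q ≠ ⊥ := by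
  intro hQ
  have h1 := h.normalizer_le
  rw [hQ] at h1
  apply h.coatomN.1
  rw [eq_top_iff]
  intro x _
  apply h1
  rw [Subgroup.mem_normalizer_iff]
  intro y
  rw [Subgroup.mem_bot, Subgroup.mem_bot]
  constructor
  · rintro rfl; group
  · intro hy
    have : y = x⁻¹ * (x * y * x⁻¹) * x := by group
    rw [this, hy]; group

theorem QleM (h : Asym M N p P q Q) : Q ≤ M := h.syl.1.trans inf_le_left

theorem QleN (h : Asym M N p P q Q) : Q ≤ N := h.syl.1.trans inf_le_right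

/-- (1) `Q` is a Sylow `q`-subgroup of `M`. -/
theorem sylM [Finite G] (h : Asym M N p P q Q) : IsSylIn q Q M := by
  haveI : Fact q.Prime := ⟨h.prime⟩
  apply Cfsg.Agent.Lib.Helper17.BGU.isSylIn_of_inf_normalizer_le h.syl inf_le_left
  exact le_inf inf_le_left (inf_le_right.trans h.normalizer_le)

/-- `q ≠ p`. -/
theorem q_ne_p [Finite G] (h : Asym M N p P q Q) : q ≠ p := by
  rintro rfl
  haveI : Fact q.Prime := ⟨h.prime⟩
  exact Cfsg.Agent.Lib.Helper21.BG36.inf_centralizer_ne_bot h.isPGroupQ h.isPGroupP h.norm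
    h.Q_ne_bot h.fpf

theorem coprimePQ [Finite G] (h : Asym M N p P q Q) : (Nat.card P).Coprime (Nat.card Q) := by
  haveI : Fact q.Prime := ⟨h.prime⟩
  haveI : Fact p.Prime := ⟨h.primeP⟩
  obtain ⟨k, hk⟩ := IsPGroup.iff_card.mp h.isPGroupQ
  rw [h.cardP, hk]
  exact Nat.Coprime.pow_right k ((Nat.coprime_primes h.primeP h.prime).mpr (Ne.symm h.q_ne_p))

/-- (1) `Q = [Q,P]`. -/
theorem comm_eq [Finite G] (h : Asym M N p P q Q) : ⁅Q, P⁆ = Q := by
  haveI : Fact p.Prime := ⟨h.primeP⟩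
  haveI : Group.IsNilpotent ↥P := h.isPGroupP.isNilpotent
  have h1 := Cfsg.Agent.S0026.result P Q h.norm h.coprimePQ (Or.inl inferInstance)
  rwa [h.fpf, sup_bot_eq] at h1

theorem le_commutator [Finite G] (h : Asym M N p P q Q) : Q ≤ ⁅M, M⁆ := by
  rw [← h.comm_eq]
  exact Subgroup.commutator_mono h.QleM h.leM

theorem dvd_card_of_le [Finite G] (h : Asym M N p P q Q) {L : Subgroup G} (hQL : Q ≤ L) :
    q ∣ Nat.card L := by
  haveI : Fact q.Prime := ⟨h.prime⟩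
  obtain ⟨k, hk⟩ := IsPGroup.iff_card.mp h.isPGroupQ
  have hk0 : k ≠ 0 := by
    rintro rfl
    rw [pow_zero] at hk
    exact h.Q_ne_bot (Subgroup.card_eq_one.mp hk)
  exact (dvd_pow_self q hk0).trans (hk ▸ Subgroup.card_dvd_of_le hQL)

/-- (2) `q ∉ α(M)`. -/
theorem q_not_alpha [Finite G] (hG : Cfsg.IsMinSimpleOddOrder G) (h : Asym M N p P q Q) :
    q ∉ Cfsg.alpha M := by
  intro hqα
  haveI : Fact q.Prime := ⟨h.prime⟩
  have hqσ : q ∈ Cfsg.sigma M :=
    alpha_subset_sigma hG (Cfsg.Agent.Lib.Helper16.BGPrim.ut hG) h.coatomM hqα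
  have hNQ : Subgroup.normalizer (Q : Set G) ≤ M := normalizer_le_of_mem_sigma hqσ h.sylM
  have hQN : IsSylIn q Q N :=
    Cfsg.Agent.Lib.Helper17.BGU.isSylIn_of_inf_normalizer_le h.syl inf_le_right
      (le_inf (inf_le_right.trans hNQ) inf_le_left)
  have hqN : q ∈ Cfsg.sigma N :=
    mem_sigma_iff.2 ⟨h.dvd_card_of_le h.QleN, Q, hQN, h.normalizer_le⟩
  exact Cfsg.Agent.Lib.Helper16.BGPrim.not_mem_alpha_of_mem_sigma hG h.coatomN h.coatomM
    (nonconj_symm h.nonconj) hqN hqα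

/-- (3) Frattini: `M = (M ∩ N) M_α`. -/
theorem frattini [Finite G] (hG : Cfsg.IsMinSimpleOddOrder G) (h : Asym M N p P q Q) :
    ∀ m ∈ M, ∃ d ∈ M ⊓ N, ∃ b ∈ Cfsg.alphaCore M, m = d * b := by
  haveI : Fact q.Prime := ⟨h.prime⟩
  have hU := Cfsg.Agent.Lib.Helper16.BGPrim.ut hG
  have hM := h.coatomM
  obtain ⟨-, -, -, -, hnil⟩ := malpha hG hU hM
  set A : Subgroup ↥M := commutator ↥M with hA
  set B : Subgroup ↥M := Cfsg.piCore (Cfsg.alpha M) ↥M with hB
  have hBA : B ≤ A := piCore_alpha_le_commutator hG hU hM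
  haveI hAn : A.Normal := inferInstance
  haveI hBn : B.Normal := inferInstance
  -- the nilpotent quotient
  let f : ↥A →* ↥(A.map (QuotientGroup.mk' B)) := (QuotientGroup.mk' B).subgroupMap A
  have hf : Function.Surjective f := (QuotientGroup.mk' B).subgroupMap_surjective A
  have hker : f.ker = B.subgroupOf A := by
    ext x
    rw [MonoidHom.mem_ker, Subgroup.mem_subgroupOf, Subtype.ext_iff]
    show (QuotientGroup.mk' B) (x : ↥M) = 1 ↔ _
    exact QuotientGroup.eq_one_iff _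
  have hnilq : Group.IsNilpotent (↥A ⧸ B.subgroupOf A) := by
    have e1 : ↥A ⧸ f.ker ≃* ↥(A.map (QuotientGroup.mk' B)) :=
      QuotientGroup.quotientKerEquivOfSurjective f hf
    have e2 : ↥A ⧸ f.ker ≃* ↥A ⧸ B.subgroupOf A := QuotientGroup.quotientMulEquivOfEq hker
    exact (Group.isNilpotent_congr (e2.symm.trans e1)).mpr hnil
  -- a Sylow `q`-subgroup of `A` with image `Q`
  set QM : Subgroup ↥M := Q.subgroupOf M with hQM
  have hQMA : QM ≤ A := by
    intro x hx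
    have h1 : (x : G) ∈ ⁅M, M⁆ := h.le_commutator (Subgroup.mem_subgroupOf.mp hx)
    rw [← Subgroup.map_subtype_commutator] at h1
    obtain ⟨y, hy, hyx⟩ := h1
    have : y = x := Subtype.ext hyx
    rw [← this]; exact hy
  have hQMp : IsPGroup q ↥(QM.subgroupOf A) :=
    (h.isPGroupQ.comap_subtype (K := M)).comap_subtype
  obtain ⟨P0, hP0⟩ := hQMp.exists_le_sylow
  set R : Subgroup ↥M := (P0 : Subgroup ↥A).map A.subtype with hR
  have hQR : QM ≤ R := by
    intro x hx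
    exact ⟨⟨x, hQMA hx⟩, hP0 (Subgroup.mem_subgroupOf.mpr hx), rfl⟩
  have hRQ : R.map M.subtype = Q := by
    have hRp : IsPGroup q ↥(R.map M.subtype) := (P0.isPGroup'.map _).map _
    apply h.sylM.eq_of_le hRp
    · intro x hx
      exact ⟨⟨x, h.QleM hx⟩, hQR (Subgroup.mem_subgroupOf.mpr hx), rfl⟩
    · exact Subgroup.map_subtype_le _
  have key := Cfsg.Agent.Lib.Helper4.normalizer_sup_eq_top_of_nilpotent_quotient A B hBA hnilq P0
  intro m hm
  have hmem : (⟨m, hm⟩ : ↥M) ∈ Subgroup.normalizer ((R : Subgroup ↥M) : Set ↥M) ⊔ B := by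
    rw [key]; exact Subgroup.mem_top _
  obtain ⟨y, hy, z, hz, hyz⟩ := Subgroup.mem_sup_of_normal_right.mp hmem
  refine ⟨(y : G), ⟨y.2, ?_⟩, (z : G), ⟨z, hz, rfl⟩, ?_⟩
  · apply h.normalizer_le
    have h1 : (y : G) ∈ (Subgroup.normalizer ((R : Subgroup ↥M) : Set ↥M)).map M.subtype :=
      ⟨y, hy, rfl⟩
    have h2 := Subgroup.le_normalizer_map M.subtype h1
    rwa [hRQ] at h2
  · have := congrArg Subtype.val hyz
    exact this.symm

/-- (3) `M_α ≠ 1`. -/
theorem alphaCore_ne_bot [Finite G] (hG : Cfsg.IsMinSimpleOddOrder G) (h : Asym M N p P q Q) :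
    Cfsg.alphaCore M ≠ ⊥ := by
  intro hα
  have hMN : M ≤ N := by
    intro m hm
    obtain ⟨d, hd, b, hb, rfl⟩ := h.frattini hG m hm
    rw [hα, Subgroup.mem_bot] at hb
    rw [hb, mul_one]; exact hd.2
  have h1 : M = N := by
    by_contra hne
    exact h.coatomN.1 (h.coatomM.2 N (lt_of_le_of_ne hMN hne))
  exact h.ne h1.symm

/-- (3) `|M : M ∩ N|` divides `|M_α|`. -/
theorem relIndex_dvd [Finite G] (hG : Cfsg.IsMinSimpleOddOrder G) (h : Asym M N p P q Q) :
    (M ⊓ N).relIndex M ∣ Nat.card (Cfsg.alphaCore M) := by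
  set B : Subgroup ↥M := Cfsg.piCore (Cfsg.alpha M) ↥M with hB
  set D' : Subgroup ↥M := (M ⊓ N).subgroupOf M with hD'
  haveI hBn : B.Normal := inferInstance
  have htop : D' ⊔ B = ⊤ := by
    rw [eq_top_iff]
    rintro ⟨m, hm⟩ -
    obtain ⟨d, hd, b, hb, hmdb⟩ := h.frattini hG m hm
    obtain ⟨b', hb', hbb'⟩ := hb
    have hdM : d ∈ M := hd.1
    have : (⟨m, hm⟩ : ↥M) = ⟨d, hdM⟩ * b' := by
      apply Subtype.ext
      show m = d * (b' : G)
      rw [hmdb]
      congr 1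
      exact hbb'.symm
    rw [this]
    exact Subgroup.mul_mem_sup (Subgroup.mem_subgroupOf.mpr hd) hb'
  have h1 : B.index = B.relIndex D' := by
    have := Subgroup.relIndex_sup_right D' B
    rw [htop, Subgroup.relIndex_top_right] at this
    exact this
  have h2 : Nat.card B * B.index = Nat.card ↥M := B.card_mul_index
  have h3 : Nat.card D' * D'.index = Nat.card ↥M := D'.card_mul_index
  have h4 : Nat.card ↥(B.subgroupOf D') * B.relIndex D' = Nat.card D' :=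
    (B.subgroupOf D').card_mul_index
  have h5 : Nat.card B = Nat.card ↥(B.subgroupOf D') * D'.index := by
    have hpos : 0 < B.index := Nat.pos_of_ne_zero (Subgroup.index_ne_zero_of_finite)
    apply Nat.eq_of_mul_eq_mul_right hpos
    rw [h2, ← h3, ← h4, h1]
    ring
  have hcard : Nat.card (Cfsg.alphaCore M) = Nat.card B :=
    Subgroup.card_map_of_injective M.subtype_injective
  rw [hcard, h5]
  exact Dvd.intro_left _ rfl

/-- (3) every prime dividing `|M : M ∩ N|` lies in `α(M)`. -/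
theorem mem_alpha_of_dvd_relIndex [Finite G] (hG : Cfsg.IsMinSimpleOddOrder G)
    (h : Asym M N p P q Q) {t : ℕ} (ht : t.Prime) (hd : t ∣ (M ⊓ N).relIndex M) :
    t ∈ Cfsg.alpha M :=
  (malpha hG (Cfsg.Agent.Lib.Helper16.BGPrim.ut hG) h.coatomM).1.2.1 t ht
    (hd.trans (h.relIndex_dvd hG))

theorem p_not_sigma (h : Asym M N p P q Q) : p ∉ Cfsg.sigma M := h.tau.2.1

theorem p_rank (h : Asym M N p P q Q) : Cfsg.PRankLE p 1 ↥M := h.tau.2.2.2.2

/-- (4) `q ∈ σ(N)`, given the symmetric data. -/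
theorem q_mem_sigma [Finite G] (hG : Cfsg.IsMinSimpleOddOrder G) (h : Asym M N p P q Q)
    {q' : ℕ} {Q' : Subgroup G} (h' : Asym N M p P q' Q') : q ∈ Cfsg.sigma N := by
  haveI : Fact q.Prime := ⟨h.prime⟩
  by_cases hqα : q ∈ Cfsg.alpha N
  · exact alpha_subset_sigma hG (Cfsg.Agent.Lib.Helper16.BGPrim.ut hG) h.coatomN hqα
  · have hnd : ¬ q ∣ (N ⊓ M).relIndex N := fun hd =>
      hqα (h'.mem_alpha_of_dvd_relIndex hG h.prime hd)
    have hsyl : IsSylIn q Q (N ⊓ M) := by rw [inf_comm]; exact h.syl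
    have hQN : IsSylIn q Q N := isSylIn_of_not_dvd_relIndex hsyl inf_le_left hnd
    exact mem_sigma_iff.2 ⟨h.dvd_card_of_le h.QleN, Q, hQN, h.normalizer_le⟩

/-- (4) `α(M) ∩ σ(N) = ∅`, in the form `M_α ∩ N_σ = 1`. -/
theorem alphaCore_inf_sigmaCore [Finite G] (hG : Cfsg.IsMinSimpleOddOrder G)
    (h : Asym M N p P q Q) : Cfsg.alphaCore M ⊓ Cfsg.sigmaCore N = ⊥ := by
  rw [eq_bot_iff]
  intro x hx
  rw [Subgroup.mem_bot]
  by_contra hx1
  have ho : orderOf x ≠ 1 := fun h0 => hx1 (orderOf_eq_one_iff.mp h0)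
  obtain ⟨t, ht, htd⟩ := Nat.exists_prime_and_dvd ho
  have h1 : t ∣ Nat.card (Cfsg.alphaCore M) := by
    have := orderOf_dvd_natCard (⟨x, hx.1⟩ : ↥(Cfsg.alphaCore M))
    rw [Subgroup.orderOf_mk] at this
    exact htd.trans this
  have h2 : t ∣ Nat.card (Cfsg.sigmaCore N) := by
    have := orderOf_dvd_natCard (⟨x, hx.2⟩ : ↥(Cfsg.sigmaCore N))
    rw [Subgroup.orderOf_mk] at this
    exact htd.trans this
  have htα : t ∈ Cfsg.alpha M :=
    (malpha hG (Cfsg.Agent.Lib.Helper16.BGPrim.ut hG) h.coatomM).1.2.1 t ht h1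
  have htσ : t ∈ Cfsg.sigma N := mem_sigma_of_dvd_card_sigmaCore hG h.coatomN ht h2
  exact Cfsg.Agent.Lib.Helper16.BGPrim.not_mem_alpha_of_mem_sigma hG h.coatomN h.coatomM
    (nonconj_symm h.nonconj) htσ htα

/-- (5) `M_α ∩ N = C_{M_α}(Q)` when `q ∈ σ(N)`. -/
theorem alphaCore_inf_eq [Finite G] (hG : Cfsg.IsMinSimpleOddOrder G)
    (h : Asym M N p P q Q) (hqN : q ∈ Cfsg.sigma N) :
    Cfsg.alphaCore M ⊓ N = Cfsg.alphaCore M ⊓ Subgroup.centralizer (Q : Set G) := by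
  haveI : Fact q.Prime := ⟨h.prime⟩
  apply le_antisymm
  · intro a ha
    refine ⟨ha.1, ?_⟩
    show a ∈ Subgroup.centralizer (Q : Set G)
    rw [Subgroup.mem_centralizer_iff]
    intro x hx
    have hxM : x ∈ M := h.QleM hx
    have hxσ : x ∈ Cfsg.sigmaCore N := le_sigmaCore hG h.coatomN hqN h.isPGroupQ h.QleN hx
    have hc1 : a * (x * a⁻¹ * x⁻¹) ∈ Cfsg.alphaCore M := by
      apply Subgroup.mul_mem _ ha.1
      have := (Subgroup.mem_normalizer_iff.mp (le_normalizer_alphaCore M hxM) a⁻¹).mp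
        (Subgroup.inv_mem _ ha.1)
      exact this
    have hc2 : (a * x * a⁻¹) * x⁻¹ ∈ Cfsg.sigmaCore N := by
      apply Subgroup.mul_mem _ _ (Subgroup.inv_mem _ hxσ)
      exact (Subgroup.mem_normalizer_iff.mp (le_normalizer_sigmaCore N ha.2) x).mp hxσ
    have hc : a * x * a⁻¹ * x⁻¹ ∈ Cfsg.alphaCore M ⊓ Cfsg.sigmaCore N := by
      refine ⟨?_, hc2⟩
      have e : a * x * a⁻¹ * x⁻¹ = a * (x * a⁻¹ * x⁻¹) := by group
      rw [e]; exact hc1
    rw [h.alphaCore_inf_sigmaCore hG, Subgroup.mem_bot] at hc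
    calc x * a = (a * x * a⁻¹ * x⁻¹)⁻¹ * (a * x) := by group
      _ = a * x := by rw [hc, inv_one, one_mul]
  · intro a ha
    exact ⟨ha.1, h.normalizer_le (Subgroup.centralizer_le_normalizer _ ha.2)⟩

/-- (6) `C_{M_α}(Q)` has rank at most one. -/
theorem rankLE_one [Finite G] (hG : Cfsg.IsMinSimpleOddOrder G) (h : Asym M N p P q Q) :
    Cfsg.RankLE 1 ↥(Cfsg.alphaCore M ⊓ Subgroup.centralizer (Q : Set G)) := by
  haveI : Fact q.Prime := ⟨h.prime⟩
  by_contra hr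
  have hXα : ∀ t : ℕ, t.Prime → t ∣ Nat.card Q → t ∉ Cfsg.alpha M := by
    intro t ht htd
    obtain ⟨k, hk⟩ := IsPGroup.iff_card.mp h.isPGroupQ
    rw [hk] at htd
    have : t = q := (Nat.prime_dvd_prime_iff_eq ht h.prime).mp (ht.dvd_of_dvd_pow htd)
    rw [this]
    exact h.q_not_alpha hG
  obtain ⟨L, ⟨-, -⟩, hLu⟩ := Cfsg.Agent.S1406.result hG M h.coatomM Q h.QleM hXα hr
  have h1 : M = L := hLu M ⟨h.coatomM, inf_le_left⟩
  have h2 : N = L := hLu N ⟨h.coatomN,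
    inf_le_right.trans ((Subgroup.centralizer_le_normalizer _).trans h.normalizer_le)⟩
  exact h.ne (h2.trans h1.symm)

/-- (6) `C_{M_α}(P)` is a `Z`-group. -/
theorem isZGroup [Finite G] (hG : Cfsg.IsMinSimpleOddOrder G) (h : Asym M N p P q Q) :
    IsZGroup ↥(Cfsg.alphaCore M ⊓ Subgroup.centralizer (P : Set G)) := by
  haveI : Fact p.Prime := ⟨h.primeP⟩
  exact isZGroup_alphaCore_inf_centralizer hG h.coatomM (h.alphaCore_ne_bot hG) h.p_not_sigma
    h.p_rank h.leM h.cardP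

end Asym

end Cfsg.Agent.Lib.Helper2.BGCor
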