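import Mathlib
import Cfsg.Agent.Lib.Helper2.BGCorQ
import Cfsg.Agent.Lib.Helper17.Rank2Fitting
import Cfsg.Agent.Lib.Helper16.BGLemN

/-!
# B & G 13.12 (`tau1_mmaxI_asymmetry`), part 2 (helper2)

Step (7) of helper8's proof (`C_{M_α}(P) ≠ 1`) and the final contradiction (12): no element of
prime order of `M_α` is centralized by both `Q` and `P`.
-/

set_option autoImplicit false
set_option linter.style.haveILetI false
open scoped commutatorElement

namespace Cfsg.Agent.Lib.Helper2.BGCor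

open Cfsg Cfsg.Agent.Lib.Helper1.BGX
open Cfsg.Agent.Lib.Helper8
open Cfsg.Agent.Lib.Helper8.BGEx

variable {G : Type*} [Group G]

/-! ### general lemmas -/

/-- an `r`-subgroup of a `Z`-group is cyclic. -/
theorem isCyclic_of_le_of_isZGroup {K X : Subgroup G} [IsZGroup ↥K] {r : ℕ} [Fact r.Prime]
    (hXK : X ≤ K) (hX : IsPGroup r X) : IsCyclic ↥X := by
  have h1 : IsCyclic ↥(X.subgroupOf K) :=
    IsPGroup.isCyclic_of_isZGroup (hX.comap_subtype (K := K))
  exact isCyclic_of_surjective (Subgroup.subgroupOfEquivOfLe hXK).toMonoidHom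
    (Subgroup.subgroupOfEquivOfLe hXK).surjective

/-- a cyclic `r`-group has `r`-rank at most one. -/
theorem pRankLE_one_of_isCyclic [Finite G] {R : Subgroup G} {r : ℕ} (hr : r.Prime)
    (hc : IsCyclic ↥R) : Cfsg.PRankLE r 1 ↥R := by
  intro A _ hAe
  haveI : IsCyclic ↥A := Subgroup.isCyclic A
  rw [pow_one]
  exact card_le_of_isCyclic_of_exp hr.pos inferInstance hAe

/-- if `a` has prime order `r` and lies in an `r`-subgroup `R` of `r`-rank at least 2, then
`C_R(a)` is not cyclic. -/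
theorem not_isCyclic_inf_centralizer [Finite G] {R : Subgroup G} {r : ℕ} [Fact r.Prime]
    (hR : IsPGroup r R) (hrk : ¬ Cfsg.PRankLE r 1 ↥R) {a : G} (haR : a ∈ R) (hao : orderOf a = r) :
    ¬ IsCyclic ↥(R ⊓ Subgroup.centralizer ({a} : Set G)) := by
  intro hcyc
  have hr : r.Prime := Fact.out
  have hR1 : R ≠ ⊥ := by
    rintro rfl
    rw [Subgroup.mem_bot] at haR
    rw [haR, orderOf_one] at hao
    exact hr.one_lt.ne hao
  have hZ1 := Cfsg.Agent.Lib.Helper16.BGLemN.omegaZ_ne_bot hR hR1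
  obtain ⟨z, hzR, hzC, hzr⟩ : ∃ z : G, z ∈ R ∧ z ∈ Subgroup.centralizer (R : Set G) ∧
      orderOf z = r := by
    obtain ⟨⟨z, hz⟩, hz1⟩ := (Subgroup.ne_bot_iff_exists_ne_one).mp hZ1
    have hz' := Cfsg.Agent.Lib.Helper16.BGLemN.mem_omegaZ.mp hz
    refine ⟨z, hz'.1, hz'.2.1, orderOf_eq_prime hz'.2.2 ?_⟩
    intro h
    exact hz1 (Subtype.ext h)
  set T := R ⊓ Subgroup.centralizer ({a} : Set G) with hT
  have haT : a ∈ T := Subgroup.mem_inf.mpr ⟨haR, Subgroup.mem_centralizer_singleton_iff.mpr rfl⟩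
  have hzT : z ∈ T := by
    refine Subgroup.mem_inf.mpr ⟨hzR, ?_⟩
    rw [Subgroup.mem_centralizer_singleton_iff]
    exact (Subgroup.mem_centralizer_iff.mp hzC a haR).symm
  have heq : Subgroup.zpowers a = Subgroup.zpowers z := by
    apply Cfsg.Agent.Lib.Helper9.eq_of_card_eq_of_le_isCyclic T _ _
      (Subgroup.zpowers_le.mpr haT) (Subgroup.zpowers_le.mpr hzT)
    rw [Nat.card_zpowers, Nat.card_zpowers, hao, hzr]
  have haC : a ∈ Subgroup.centralizer (R : Set G) := by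
    have h1 : a ∈ Subgroup.zpowers z := heq ▸ Subgroup.mem_zpowers a
    exact (Subgroup.zpowers_le.mpr hzC) h1
  have hRT : R ≤ T := by
    intro x hx
    refine Subgroup.mem_inf.mpr ⟨hx, ?_⟩
    rw [Subgroup.mem_centralizer_singleton_iff]
    exact (Subgroup.mem_centralizer_iff.mp haC x hx)
  have hRc : IsCyclic ↥R := Subgroup.isCyclic_of_le hRT
  exact hrk (pRankLE_one_of_isCyclic hr hRc)

namespace Asym

variable {M N P Q : Subgroup G} {p q : ℕ}

theorem P_ne_bot [Finite G] (h : Asym M N p P q Q) : P ≠ ⊥ := by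
  intro hP
  have := h.cardP
  rw [hP, Subgroup.card_bot] at this
  exact h.primeP.one_lt.ne this

/-- the Frobenius data of `QP`. -/
theorem frob [Finite G] (h : Asym M N p P q Q) :
    Q ⊓ P = ⊥ ∧ (∀ e ∈ P, ∀ u ∈ Q, e * u * e⁻¹ ∈ Q) ∧
      (∀ e ∈ P, e ≠ 1 → ∀ u ∈ Q, e * u = u * e → u = 1) := by
  refine ⟨?_, ?_, ?_⟩
  · rw [eq_bot_iff]
    intro x hx
    have h1 : orderOf x ∣ Nat.card Q := by
      have := orderOf_dvd_natCard (⟨x, hx.1⟩ : ↥Q)
      rwa [Subgroup.orderOf_mk] at this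
    have h2 : orderOf x ∣ Nat.card P := by
      have := orderOf_dvd_natCard (⟨x, hx.2⟩ : ↥P)
      rwa [Subgroup.orderOf_mk] at this
    have h3 : orderOf x = 1 := Nat.eq_one_of_dvd_coprimes h.coprimePQ h2 h1
    rw [Subgroup.mem_bot]
    exact orderOf_eq_one_iff.mp h3
  · intro e he u hu
    exact (Subgroup.mem_normalizer_iff.mp (h.norm he) u).mp hu
  · intro e he he1 u hu heu
    have h1 : u ∈ Subgroup.centralizer ({e} : Set G) := by
      rw [Subgroup.mem_centralizer_singleton_iff]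
      exact heu.symm
    rw [Cfsg.Agent.Lib.Helper17.BGExF.centralizer_singleton_eq_of_prime_card h.primeP h.cardP he
      he1] at h1
    have h2 : u ∈ Q ⊓ Subgroup.centralizer (P : Set G) := ⟨hu, h1⟩
    rw [h.fpf, Subgroup.mem_bot] at h2
    exact h2

theorem sup_le [Finite G] (h : Asym M N p P q Q) : Q ⊔ P ≤ M := _root_.sup_le h.QleM h.leM

theorem sup_le_normalizer_alphaCore [Finite G] (h : Asym M N p P q Q) :
    Q ⊔ P ≤ Subgroup.normalizer (Cfsg.alphaCore M : Set G) :=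
  h.sup_le.trans (le_normalizer_alphaCore M)

theorem p_not_alpha [Finite G] (hG : Cfsg.IsMinSimpleOddOrder G) (h : Asym M N p P q Q) :
    p ∉ Cfsg.alpha M := fun hp =>
  h.p_not_sigma (alpha_subset_sigma hG (Cfsg.Agent.Lib.Helper16.BGPrim.ut hG) h.coatomM hp)

/-- `|QP|` is prime to the order of every subgroup of `M_α`. -/
theorem coprime_alpha [Finite G] (hG : Cfsg.IsMinSimpleOddOrder G) (h : Asym M N p P q Q)
    {H : Subgroup G} (hH : H ≤ Cfsg.alphaCore M) :
    (Nat.card H).Coprime (Nat.card ↥(Q ⊔ P)) := by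
  haveI : Fact q.Prime := ⟨h.prime⟩
  apply Nat.coprime_of_dvd
  intro t ht h1 h2
  have htα : t ∈ Cfsg.alpha M :=
    (malpha hG (Cfsg.Agent.Lib.Helper16.BGPrim.ut hG) h.coatomM).1.2.1 t ht
      (h1.trans (Subgroup.card_dvd_of_le hH))
  have h3 : Nat.card ↥(Q ⊔ P) ∣ Nat.card P * Nat.card Q := by
    rw [sup_comm]
    exact Cfsg.Agent.Lib.Helper21.BG36.card_sup_dvd' P Q h.norm
  have h4 := h2.trans h3
  rcases (Nat.Prime.dvd_mul ht).mp h4 with h5 | h5
  · rw [h.cardP] at h5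
    have : t = p := (Nat.prime_dvd_prime_iff_eq ht h.primeP).mp h5
    rw [this] at htα
    exact h.p_not_alpha hG htα
  · obtain ⟨k, hk⟩ := IsPGroup.iff_card.mp h.isPGroupQ
    rw [hk] at h5
    have : t = q := (Nat.prime_dvd_prime_iff_eq ht h.prime).mp (ht.dvd_of_dvd_pow h5)
    rw [this] at htα
    exact h.q_not_alpha hG htα

theorem solvable_alphaCore [Finite G] (hG : Cfsg.IsMinSimpleOddOrder G) (h : Asym M N p P q Q) :
    Group.IsSolvable ↥(Cfsg.alphaCore M) := by
  haveI : Group.IsSolvable ↥M := hG.2.2.2 M h.coatomM.1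
  exact Group.isSolvable_of_isSolvable_injective
    (Subgroup.inclusion_injective (alphaCore_le M))

/-- (7) `C_{M_α}(P)` contains an element of prime order. -/
theorem exists_u [Finite G] (hG : Cfsg.IsMinSimpleOddOrder G) (h : Asym M N p P q Q) :
    ∃ u ∈ Cfsg.alphaCore M ⊓ Subgroup.centralizer (P : Set G), (orderOf u).Prime := by
  by_contra hcon
  push Not at hcon
  have hU := Cfsg.Agent.Lib.Helper16.BGPrim.ut hG
  obtain ⟨hHall, -, -, -, -⟩ := malpha hG hU h.coatomM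
  obtain ⟨r, hr, hrd⟩ := exists_prime_dvd_card_of_ne_bot (h.alphaCore_ne_bot hG)
  have hrα : r ∈ Cfsg.alpha M := hHall.2.1 r hr hrd
  haveI : Fact r.Prime := ⟨hr⟩
  haveI hsolα := h.solvable_alphaCore hG
  obtain ⟨R, hR, -, hFR⟩ := exists_invariant_isSylIn_ge h.sup_le_normalizer_alphaCore
    (h.coprime_alpha hG le_rfl).symm (Or.inr hsolα) r ⊥ bot_le IsPGroup.of_bot
    (le_normalizer_bot _)
  have hRM : IsSylIn r R M :=
    isSylIn_of_not_dvd_relIndex hR (alphaCore_le M) (hHall.2.2 r hr hrα)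
  -- `Q` does not centralize `R`
  have hnc : ¬ R ≤ Subgroup.centralizer (Q : Set G) := by
    intro hle
    have h1 : R ≤ Cfsg.alphaCore M ⊓ Subgroup.centralizer (Q : Set G) := le_inf hR.1 hle
    have h2 : Cfsg.PRankLE r 1 ↥R :=
      Cfsg.Agent.Lib.Helper17.pRankLE_of_le h1 (h.rankLE_one hG r hr)
    have h3 : Cfsg.PRankLE r 1 ↥M := pRankLE_of_isSylIn hRM h2
    exact hrα.2 (pRankLE_mono hr.pos (by norm_num) h3)
  obtain ⟨hQP, hPQ, hfpf⟩ := h.frob
  have hRn : ∀ x ∈ Q ⊔ P, ∀ y ∈ R, x * y * x⁻¹ ∈ R := fun x hx y hy =>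
    (Subgroup.mem_normalizer_iff.mp (hFR hx) y).mp hy
  have hcop : (Nat.card R).Coprime (Nat.card ↥(Q ⊔ P)) := h.coprime_alpha hG hR.1
  haveI : Group.IsNilpotent ↥R := hR.isPGroup.isNilpotent
  have key := Cfsg.Agent.S1545.result Q P R h.Q_ne_bot h.P_ne_bot hQP hPQ hfpf hRn
    (Subgroup.disjoint_of_coprime_natCard hcop).eq_bot inferInstance hcop
  have hRP : R ⊓ Subgroup.centralizer (P : Set G) = ⊥ := by
    rw [eq_bot_iff]
    intro x hx
    rw [Subgroup.mem_bot]
    by_contra hx1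
    obtain ⟨s, j, hs, hxs⟩ := exists_prime_order_pow hx1
    refine hcon (x ^ j) ⟨hR.1 (Subgroup.pow_mem _ hx.1 j), Subgroup.pow_mem _ hx.2 j⟩ ?_
    rw [hxs]; exact hs
  have hRF : R ⊓ Subgroup.centralizer ((Q ⊔ P : Subgroup G) : Set G) = ⊥ := by
    rw [eq_bot_iff, ← hRP]
    exact inf_le_inf_left R (Subgroup.centralizer_le (by
      intro x hx
      exact (le_sup_right : P ≤ Q ⊔ P) hx))
  rw [hRF, hRP, Subgroup.card_bot, one_pow, one_mul, one_mul] at key
  apply hnc
  have h1 : R ⊓ Subgroup.centralizer (Q : Set G) = R :=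
    Subgroup.eq_of_le_of_card_ge inf_le_left key.le
  rw [← h1]
  exact inf_le_right

/-- (12) no element of prime order of `M_α` is centralized by both `Q` and `P`. -/
theorem no_common_fixed [Finite G] (hG : Cfsg.IsMinSimpleOddOrder G) (h : Asym M N p P q Q)
    {a : G} (haα : a ∈ Cfsg.alphaCore M) (hao : (orderOf a).Prime)
    (haQ : a ∈ Subgroup.centralizer (Q : Set G)) (haP : a ∈ Subgroup.centralizer (P : Set G)) :
    False := by
  obtain ⟨r, hrdef⟩ : ∃ r, r = orderOf a := ⟨_, rfl⟩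
  rw [← hrdef] at hao
  haveI : Fact r.Prime := ⟨hao⟩
  have hU := Cfsg.Agent.Lib.Helper16.BGPrim.ut hG
  obtain ⟨hHall, -, -, -, -⟩ := malpha hG hU h.coatomM
  have har : a ^ r = 1 := hrdef ▸ pow_orderOf_eq_one a
  have ha1 : a ≠ 1 := by
    rintro rfl
    rw [orderOf_one] at hrdef
    exact hao.one_lt.ne' hrdef
  have hrd : r ∣ Nat.card (Cfsg.alphaCore M) := by
    have := orderOf_dvd_natCard (⟨a, haα⟩ : ↥(Cfsg.alphaCore M))
    rwa [Subgroup.orderOf_mk, ← hrdef] at this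
  have hrα : r ∈ Cfsg.alpha M := hHall.2.1 r hao hrd
  have hr2 : r ≠ 2 := ne_two_of_dvd_sub hG.1 hrd
  -- `F = QP` centralizes `a`
  have hFa : Q ⊔ P ≤ Subgroup.centralizer ({a} : Set G) := by
    apply _root_.sup_le
    · intro u hu
      rw [Subgroup.mem_centralizer_singleton_iff]
      exact (Subgroup.mem_centralizer_iff.mp haQ u hu)
    · intro u hu
      rw [Subgroup.mem_centralizer_singleton_iff]
      exact (Subgroup.mem_centralizer_iff.mp haP u hu)
  -- the subgroup `C = C_{M_α}(a)`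
  obtain ⟨C, hCdef⟩ : ∃ C : Subgroup G,
    C = Cfsg.alphaCore M ⊓ Subgroup.centralizer ({a} : Set G) := ⟨_, rfl⟩
  have hCα : C ≤ Cfsg.alphaCore M := hCdef ▸ inf_le_left
  have hCa : C ≤ Subgroup.centralizer ({a} : Set G) := hCdef ▸ inf_le_right
  have hFC : Q ⊔ P ≤ Subgroup.normalizer (C : Set G) := by
    rw [hCdef]
    exact BGEx.le_normalizer_inf h.sup_le_normalizer_alphaCore (hFa.trans Subgroup.le_normalizer)
  haveI hsolC : Group.IsSolvable ↥C := by
    haveI := h.solvable_alphaCore hG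
    exact Group.isSolvable_of_isSolvable_injective (Subgroup.inclusion_injective hCα)
  have hcopC : (Nat.card ↥(Q ⊔ P)).Coprime (Nat.card C) := (h.coprime_alpha hG hCα).symm
  -- `Y = ⟨a⟩`
  have hYC : Subgroup.zpowers a ≤ C := by
    rw [Subgroup.zpowers_le, hCdef]
    exact Subgroup.mem_inf.mpr ⟨haα, Subgroup.mem_centralizer_singleton_iff.mpr rfl⟩
  have hYc : Nat.card (Subgroup.zpowers a) = r := by rw [Nat.card_zpowers, hrdef]
  have hYp : IsPGroup r (Subgroup.zpowers a) :=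
    IsPGroup.of_card (n := 1) (by rw [pow_one]; exact hYc)
  have hFY : Q ⊔ P ≤ Subgroup.normalizer ((Subgroup.zpowers a : Subgroup G) : Set G) := by
    refine le_trans ?_ (Subgroup.centralizer_le_normalizer _)
    rw [← Cfsg.Agent.Lib.Helper17.BGExF.centralizer_singleton_eq_of_prime_card hao hYc
      (Subgroup.mem_zpowers a) ha1]
    exact hFa
  obtain ⟨S, hS, hYS, hFS⟩ := exists_invariant_isSylIn_ge hFC hcopC (Or.inr hsolC) r
    (Subgroup.zpowers a) hYC hYp hFY
  have haS : a ∈ S := hYS (Subgroup.mem_zpowers a)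
  have hSp : IsPGroup r S := hS.isPGroup
  -- `S` is not cyclic
  have hSnc : ¬ IsCyclic ↥S := by
    intro hSc
    obtain ⟨R0, hR0, haR0⟩ := exists_isSylIn_ge hYp
      (hYC.trans (hCα.trans (alphaCore_le M)))
    have hR0p : IsPGroup r R0 := hR0.isPGroup
    have hR0α : R0 ≤ Cfsg.alphaCore M :=
      le_of_normal_of_not_dvd_relIndex (alphaCore_le M) (le_normalizer_alphaCore M)
        (hHall.2.2 r hao hrα) hR0p hR0.1
    have hrk : ¬ Cfsg.PRankLE r 1 ↥R0 := by
      intro h1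
      exact hrα.2 (pRankLE_mono hao.pos (by norm_num) (pRankLE_of_isSylIn hR0 h1))
    have hnc := not_isCyclic_inf_centralizer hR0p hrk (haR0 (Subgroup.mem_zpowers a)) hrdef.symm
    apply hnc
    have hTC : R0 ⊓ Subgroup.centralizer ({a} : Set G) ≤ C := by
      rw [hCdef]; exact inf_le_inf_right _ hR0α
    obtain ⟨S1, hS1, hTS1⟩ := exists_isSylIn_ge (hR0p.to_le inf_le_left) hTC
    obtain ⟨m, -, rfl⟩ := isSylIn_exists_conj hS hS1
    haveI : IsCyclic ↥(cj m S) :=
      isCyclic_of_surjective (S.equivMapOfInjective _ (MulAut.conj m).injective).toMonoidHom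
        (S.equivMapOfInjective _ (MulAut.conj m).injective).surjective
    exact Subgroup.isCyclic_of_le hTS1
  obtain ⟨W, hWS, hNW, hWe, hWz, hWcard⟩ := exists_char_exp_subgroup hr2 hSp hSnc
  have hSC : S ≤ C := hS.1
  have haW : a ∈ W := by
    apply hWz a haS _ har
    rw [Subgroup.mem_centralizer_iff]
    intro x hx
    have := hCa (hSC hx)
    rw [Subgroup.mem_centralizer_singleton_iff] at this
    exact this
  have hWα : W ≤ Cfsg.alphaCore M := hWS.trans (hSC.trans hCα)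
  have hWp : IsPGroup r W := hSp.to_le hWS
  have hFW : ∀ x ∈ Q ⊔ P, ∀ w ∈ W, x * w * x⁻¹ ∈ W := fun x hx w hw =>
    (Subgroup.mem_normalizer_iff.mp (hNW (hFS hx)) w).mp hw
  obtain ⟨hQP, hPQ, hfpf⟩ := h.frob
  have hCQ : IsCyclic ↥(W ⊓ Subgroup.centralizer (Q : Set G)) :=
    isCyclic_of_le_of_pRankLE_one hr2 (h.rankLE_one hG r hao)
      (inf_le_inf_right _ hWα) (hWp.to_le inf_le_left)
  have hCP : IsCyclic ↥(W ⊓ Subgroup.centralizer (P : Set G)) := by
    haveI := h.isZGroup hG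
    exact isCyclic_of_le_of_isZGroup (inf_le_inf_right _ hWα) (hWp.to_le inf_le_left)
  have hlt : r < Nat.card W := by
    have : r < r ^ 2 := by
      have := hao.one_lt
      nlinarith
    omega
  exact frob_count_false hao h.Q_ne_bot h.P_ne_bot hQP hPQ hfpf hFW hWe (h.coprime_alpha hG hWα)
    haW ha1 haQ haP hCQ hCP hlt

end Asym

end Cfsg.Agent.Lib.Helper2.BGCor
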