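import Mathlib
import Cfsg.Agent.Lib.Helper2.BGCorR
import Cfsg.Agent.S1404

/-!
# B & G 13.12 (`tau1_mmaxI_asymmetry`), part 3 (helper2)

Steps (10)-(11) of helper8's proof: no conjugate of an element `u` of prime order of `C_{M_α}(P)`
lies in `N`.
-/

set_option autoImplicit false
set_option linter.style.haveILetI false
open scoped commutatorElement

namespace Cfsg.Agent.Lib.Helper2.BGCor

open Cfsg Cfsg.Agent.Lib.Helper1.BGX
open Cfsg.Agent.Lib.Helper8
open Cfsg.Agent.Lib.Helper8.BGEx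

variable {G : Type*} [Group G]

/-- conjugating a cyclic subgroup. -/
theorem cj_zpowers (g a : G) : cj g (Subgroup.zpowers a) = Subgroup.zpowers (g * a * g⁻¹) := by
  show (Subgroup.zpowers a).map (MulAut.conj g).toMonoidHom = _
  rw [MonoidHom.map_zpowers]
  rfl

theorem orderOf_conj_h2 (g x : G) : orderOf (g * x * g⁻¹) = orderOf x := by
  rw [← MulAut.conj_apply]
  exact MulEquiv.orderOf_eq _ _

namespace Asym

variable {M N P Q : Subgroup G} {p q : ℕ}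

/-- `P` is the only subgroup of order `p` of `M` inside a `p`-subgroup containing it. -/
theorem eq_of_le_pgroup [Finite G] (hG : Cfsg.IsMinSimpleOddOrder G) (h : Asym M N p P q Q)
    {T P2 : Subgroup G} (hTM : T ≤ M) (hT : IsPGroup p T) (hPT : P ≤ T) (hP2T : P2 ≤ T)
    (hP2c : Nat.card P2 = p) : P2 = P := by
  haveI : Fact p.Prime := ⟨h.primeP⟩
  have hpM : p ∣ Nat.card M := h.cardP ▸ Subgroup.card_dvd_of_le h.leM
  have hp2 : p ≠ 2 := ne_two_of_dvd_sub hG.1 hpM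
  haveI : IsCyclic ↥T := isCyclic_of_le_of_pRankLE_one hp2 h.p_rank hTM hT
  exact Cfsg.Agent.Lib.Helper9.eq_of_card_eq_of_le_isCyclic T _ _ hP2T hPT (hP2c.trans h.cardP.symm)

/-- Sylow transfer: if `P` normalizes `X` and some `M`-conjugate of `P` centralizes `X`, then
`P` centralizes `X`. -/
theorem le_centralizer_of_conj [Finite G] (hG : Cfsg.IsMinSimpleOddOrder G)
    (h : Asym M N p P q Q) {X : Subgroup G} (hPX : P ≤ Subgroup.normalizer (X : Set G))
    {m : G} (hm : m ∈ M) (hP2 : cj m P ≤ Subgroup.centralizer (X : Set G)) :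
    P ≤ Subgroup.centralizer (X : Set G) := by
  haveI : Fact p.Prime := ⟨h.primeP⟩
  obtain ⟨N1, hN1⟩ : ∃ N1 : Subgroup G, N1 = M ⊓ Subgroup.normalizer (X : Set G) := ⟨_, rfl⟩
  have hPN1 : P ≤ N1 := hN1 ▸ le_inf h.leM hPX
  have hP2M : cj m P ≤ M := by
    calc cj m P ≤ cj m M := cj_mono h.leM
      _ = M := cj_eq_self_of_mem hm
  have hP2N1 : cj m P ≤ N1 :=
    hN1 ▸ le_inf hP2M (hP2.trans (Subgroup.centralizer_le_normalizer _))
  have hP2p : IsPGroup p (cj m P) := h.isPGroupP.map _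
  obtain ⟨T, hT, hPT⟩ := exists_isSylIn_ge h.isPGroupP hPN1
  obtain ⟨T2, hT2, hP2T2⟩ := exists_isSylIn_ge hP2p hP2N1
  obtain ⟨n, hn, rfl⟩ := isSylIn_exists_conj hT hT2
  have hTM : T ≤ M := hT.1.trans (hN1 ▸ inf_le_left)
  have h3 : cj n⁻¹ (cj m P) ≤ T := by
    have := cj_mono (g := n⁻¹) hP2T2
    rwa [cj_inv_cj] at this
  have h4 : cj n⁻¹ (cj m P) = P := by
    apply h.eq_of_le_pgroup hG hTM hT.isPGroup hPT h3
    rw [card_map_conj, card_map_conj, h.cardP]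
  have hnX : cj n⁻¹ X = X := by
    have : n⁻¹ ∈ Subgroup.normalizer (X : Set G) :=
      Subgroup.inv_mem _ ((hN1 ▸ hn : n ∈ M ⊓ Subgroup.normalizer (X : Set G)).2)
    exact mem_normalizer_iff_map_conj.mp this
  calc P = cj n⁻¹ (cj m P) := h4.symm
    _ ≤ cj n⁻¹ (Subgroup.centralizer (X : Set G)) := cj_mono hP2
    _ = Subgroup.centralizer ((cj n⁻¹ X : Subgroup G) : Set G) := (centralizer_cj _ _).symm
    _ = Subgroup.centralizer (X : Set G) := by rw [hnX]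

/-- (10)-(11): no conjugate of an element of prime order of `C_{M_α}(P)` lies in `N`. -/
theorem false_of_conj_mem [Finite G] (hG : Cfsg.IsMinSimpleOddOrder G) (h : Asym M N p P q Q)
    {q' : ℕ} {Q' : Subgroup G} (h' : Asym N M p P q' Q') {u : G}
    (hu : u ∈ Cfsg.alphaCore M ⊓ Subgroup.centralizer (P : Set G)) (huo : (orderOf u).Prime)
    {g : G} (hg : g * u * g⁻¹ ∈ N) : False := by
  obtain ⟨r, hrdef⟩ : ∃ r, r = orderOf u := ⟨_, rfl⟩
  rw [← hrdef] at huo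
  haveI : Fact r.Prime := ⟨huo⟩
  haveI : Fact p.Prime := ⟨h.primeP⟩
  have hU := Cfsg.Agent.Lib.Helper16.BGPrim.ut hG
  obtain ⟨hHall, -, -, -, -⟩ := malpha hG hU h.coatomM
  have huα : u ∈ Cfsg.alphaCore M := hu.1
  have huP : u ∈ Subgroup.centralizer (P : Set G) := hu.2
  have hu1 : u ≠ 1 := by
    rintro rfl
    rw [orderOf_one] at hrdef
    exact huo.one_lt.ne' hrdef
  have hrd : r ∣ Nat.card (Cfsg.alphaCore M) := by
    have := orderOf_dvd_natCard (⟨u, huα⟩ : ↥(Cfsg.alphaCore M))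
    rwa [Subgroup.orderOf_mk, ← hrdef] at this
  have hrα : r ∈ Cfsg.alpha M := hHall.2.1 r huo hrd
  have hrσ : r ∈ Cfsg.sigma M := alpha_subset_sigma hG hU h.coatomM hrα
  have hrαN : r ∉ Cfsg.alpha N :=
    Cfsg.Agent.Lib.Helper16.BGPrim.not_mem_alpha_of_mem_sigma hG h.coatomM h.coatomN h.nonconj hrσ
  have hqN : q ∈ Cfsg.sigma N := h.q_mem_sigma hG h'
  have hr2 : r ≠ 2 := ne_two_of_dvd_sub hG.1 hrd
  have hXc : Nat.card (Subgroup.zpowers u) = r := by rw [Nat.card_zpowers, hrdef]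
  have hXp : IsPGroup r (Subgroup.zpowers u) :=
    IsPGroup.of_card (n := 1) (by rw [pow_one]; exact hXc)
  -- Step 1: conjugate into `M_α ∩ N`
  have hYN : cj g (Subgroup.zpowers u) ≤ N := by
    rw [cj_zpowers, Subgroup.zpowers_le]; exact hg
  have hYp : IsPGroup r (cj g (Subgroup.zpowers u)) := hXp.map _
  obtain ⟨SD, hSD, -⟩ := exists_isSylIn_ge (IsPGroup.of_bot (p := r) (G := G))
    (bot_le : (⊥ : Subgroup G) ≤ N ⊓ M)
  have hnd : ¬ r ∣ (N ⊓ M).relIndex N := fun hd =>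
    hrαN (h'.mem_alpha_of_dvd_relIndex hG huo hd)
  have hSDN : IsSylIn r SD N := isSylIn_of_not_dvd_relIndex hSD inf_le_left hnd
  obtain ⟨T, hT, hYT⟩ := exists_isSylIn_ge hYp hYN
  obtain ⟨n, hn, rfl⟩ := isSylIn_exists_conj hSDN hT
  have hSDα : SD ≤ Cfsg.alphaCore M :=
    le_of_normal_of_not_dvd_relIndex (alphaCore_le M) (le_normalizer_alphaCore M)
      (hHall.2.2 r huo hrα) hSD.isPGroup (hSD.1.trans inf_le_right)
  obtain ⟨a, hadef⟩ : ∃ a : G, a = n⁻¹ * (g * u * g⁻¹) * n := ⟨_, rfl⟩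
  have haSD : a ∈ SD := by
    have h1 : g * u * g⁻¹ ∈ cj n SD := hYT (conj_mem_map_conj (Subgroup.mem_zpowers u))
    rw [mem_map_conj] at h1
    rw [hadef]; exact h1
  have haα : a ∈ Cfsg.alphaCore M := hSDα haSD
  have haN : a ∈ N := (hSD.1 haSD).1
  have haA : a ∈ Cfsg.alphaCore M ⊓ Subgroup.centralizer (Q : Set G) := by
    rw [← h.alphaCore_inf_eq hG hqN]; exact ⟨haα, haN⟩
  -- Step 2: S1404
  have ha_eq : a = (n⁻¹ * g) * u * (n⁻¹ * g)⁻¹ := by rw [hadef]; group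
  have hXM : Subgroup.zpowers u ≤ M := by
    rw [Subgroup.zpowers_le]; exact alphaCore_le M huα
  have hX1 : Subgroup.zpowers u ≠ ⊥ := by
    intro h0
    rw [Subgroup.zpowers_eq_bot] at h0
    exact hu1 h0
  have hconj : cj (n⁻¹ * g) (Subgroup.zpowers u) ≤ M := by
    rw [cj_zpowers, Subgroup.zpowers_le, ← ha_eq]
    exact alphaCore_le M haα
  obtain ⟨m, hm, c, hc, hgmc⟩ :=
    (Cfsg.Agent.S1404.result hG M h.coatomM r hrσ (Subgroup.zpowers u) hXp hX1 hXM).1 (n⁻¹ * g) hconj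
  have ha_m : a = m * u * m⁻¹ := by
    have hcu : u * c = c * u := Subgroup.mem_centralizer_iff.mp hc u (Subgroup.mem_zpowers u)
    rw [ha_eq, hgmc]
    calc m * c * u * (m * c)⁻¹ = m * (c * u) * c⁻¹ * m⁻¹ := by group
      _ = m * (u * c) * c⁻¹ * m⁻¹ := by rw [hcu]
      _ = m * u * m⁻¹ := by group
  -- Step 3: a `P`-invariant Sylow `r`-subgroup of `A = C_{M_α}(Q)`
  obtain ⟨A, hAdef⟩ : ∃ A : Subgroup G,
    A = Cfsg.alphaCore M ⊓ Subgroup.centralizer (Q : Set G) := ⟨_, rfl⟩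
  have hAα : A ≤ Cfsg.alphaCore M := hAdef ▸ inf_le_left
  have hAM : A ≤ M := hAα.trans (alphaCore_le M)
  have hPA : P ≤ Subgroup.normalizer (A : Set G) := by
    rw [hAdef]
    exact BGEx.le_normalizer_inf (h.leM.trans (le_normalizer_alphaCore M))
      (le_normalizer_centralizer h.norm)
  have hcopA : (Nat.card P).Coprime (Nat.card A) := by
    rw [h.cardP]
    apply (Nat.Prime.coprime_iff_not_dvd h.primeP).mpr
    intro hd
    exact h.p_not_alpha hG (hHall.2.1 p h.primeP (hd.trans (Subgroup.card_dvd_of_le hAα)))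
  haveI hsolA : Group.IsSolvable ↥A := by
    haveI := h.solvable_alphaCore hG
    exact Group.isSolvable_of_isSolvable_injective (Subgroup.inclusion_injective hAα)
  obtain ⟨Ar, hAr, -, hPAr⟩ := exists_invariant_isSylIn_ge hPA hcopA (Or.inr hsolA) r ⊥ bot_le
    IsPGroup.of_bot (le_normalizer_bot _)
  haveI hArc : IsCyclic ↥Ar :=
    isCyclic_of_le_of_pRankLE_one hr2 (h.rankLE_one hG r huo) (hAdef ▸ hAr.1) hAr.isPGroup
  -- conjugate `a` into `Ar`
  have hao : orderOf a = r := by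
    rw [ha_m, hrdef]
    exact orderOf_conj_h2 m u
  have hazA : Subgroup.zpowers a ≤ A := by
    rw [Subgroup.zpowers_le, hAdef]; exact haA
  have hazp : IsPGroup r (Subgroup.zpowers a) :=
    IsPGroup.of_card (n := 1) (by rw [pow_one, Nat.card_zpowers, hao])
  obtain ⟨T1, hT1, haT1⟩ := exists_isSylIn_ge hazp hazA
  obtain ⟨c1, hc1, rfl⟩ := isSylIn_exists_conj hAr hT1
  obtain ⟨a0, ha0def⟩ : ∃ a0 : G, a0 = c1⁻¹ * a * c1 := ⟨_, rfl⟩
  have ha0Ar : a0 ∈ Ar := by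
    have h1 : a ∈ cj c1 Ar := haT1 (Subgroup.mem_zpowers a)
    rw [mem_map_conj] at h1
    rw [ha0def]; exact h1
  have ha0_eq : a0 = (c1⁻¹ * m) * u * (c1⁻¹ * m)⁻¹ := by rw [ha0def, ha_m]; group
  have hm' : c1⁻¹ * m ∈ M := M.mul_mem (M.inv_mem (hAM hc1)) hm
  have ha0o : orderOf a0 = r := by
    rw [ha0_eq, hrdef]
    exact orderOf_conj_h2 _ u
  have ha01 : a0 ≠ 1 := by
    rintro h0
    rw [h0, orderOf_one] at ha0o
    exact huo.one_lt.ne ha0o
  have hX1c : Nat.card (Subgroup.zpowers a0) = r := by rw [Nat.card_zpowers, ha0o]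
  have hX1Ar : Subgroup.zpowers a0 ≤ Ar := Subgroup.zpowers_le.mpr ha0Ar
  have hPX1 : P ≤ Subgroup.normalizer ((Subgroup.zpowers a0 : Subgroup G) : Set G) := by
    intro e he
    rw [mem_normalizer_iff_map_conj]
    have h1 : cj e (Subgroup.zpowers a0) ≤ Ar := by
      calc cj e (Subgroup.zpowers a0) ≤ cj e Ar := cj_mono hX1Ar
        _ = Ar := mem_normalizer_iff_map_conj.mp (hPAr he)
    exact Cfsg.Agent.Lib.Helper9.eq_of_card_eq_of_le_isCyclic Ar _ _ h1 hX1Ar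
      (card_map_conj _ _)
  have hcent : Subgroup.centralizer ({a0} : Set G) =
      Subgroup.centralizer ((Subgroup.zpowers a0 : Subgroup G) : Set G) :=
    Cfsg.Agent.Lib.Helper17.BGExF.centralizer_singleton_eq_of_prime_card huo hX1c
      (Subgroup.mem_zpowers a0) ha01
  have hP2 : cj (c1⁻¹ * m) P ≤
      Subgroup.centralizer ((Subgroup.zpowers a0 : Subgroup G) : Set G) := by
    rw [← hcent]
    rintro _ ⟨e, he, rfl⟩
    rw [Subgroup.mem_centralizer_singleton_iff]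
    have heu : e * u = u * e := Subgroup.mem_centralizer_iff.mp huP e he
    show (c1⁻¹ * m) * e * (c1⁻¹ * m)⁻¹ * a0 = a0 * ((c1⁻¹ * m) * e * (c1⁻¹ * m)⁻¹)
    rw [ha0_eq]
    calc (c1⁻¹ * m) * e * (c1⁻¹ * m)⁻¹ * ((c1⁻¹ * m) * u * (c1⁻¹ * m)⁻¹)
        = (c1⁻¹ * m) * (e * u) * (c1⁻¹ * m)⁻¹ := by group
      _ = (c1⁻¹ * m) * (u * e) * (c1⁻¹ * m)⁻¹ := by rw [heu]
      _ = (c1⁻¹ * m) * u * (c1⁻¹ * m)⁻¹ * ((c1⁻¹ * m) * e * (c1⁻¹ * m)⁻¹) := by group
  have hPc := h.le_centralizer_of_conj hG hPX1 hm' hP2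
  have ha0P : a0 ∈ Subgroup.centralizer (P : Set G) := by
    rw [Subgroup.mem_centralizer_iff]
    intro e he
    have := Subgroup.mem_centralizer_iff.mp (hPc he) a0 (Subgroup.mem_zpowers a0)
    exact this.symm
  have ha0A : a0 ∈ A := hAr.1 ha0Ar
  have ha0Q : a0 ∈ Subgroup.centralizer (Q : Set G) := by
    rw [hAdef] at ha0A
    exact ha0A.2
  exact h.no_common_fixed hG (hAα ha0A) (ha0o ▸ huo) ha0Q ha0P

end Asym

end Cfsg.Agent.Lib.Helper2.BGCor
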