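import Mathlib
import Cfsg.Agent.Lib.Helper2.BGCorS
import Cfsg.Agent.Lib.Helper27.BGConjA
import Cfsg.Agent.S1415
import Cfsg.Agent.S1420

/-!
# B & G 13.12 (`tau1_mmaxI_asymmetry`), part 4 (helper2)

Steps (8)-(9) of helper8's proof: the maximal subgroup `L ⊇ N_G(P)`; the elements `u`, `v` of prime
order of `C_{M_α}(P)`, `C_{N_α}(P)` have orders in `τ₁(L) ∪ τ₃(L)` and, after conjugation in `L`,
one normalizes the group generated by the other.  Hypotheses: `H28`, `CorR`, `CorG1` (statement of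
S1428, Corollaries R and G1 of `notes/bg14/NOTES_h20.md`) for `M` and `N`.
-/

set_option autoImplicit false
set_option linter.style.haveILetI false
open scoped commutatorElement

namespace Cfsg.Agent.Lib.Helper2.BGCor

open Cfsg Cfsg.Agent.Lib.Helper1.BGX
open Cfsg.Agent.Lib.Helper8
open Cfsg.Agent.Lib.Helper8.BGEx
open Cfsg.Agent.Lib.Helper23.BGY (exists_conj_mem_compl isComplIn_conj)
open Cfsg.Agent.Lib.Helper16.BGPrim (exists_hall_ge' ut)

variable {G : Type*} [Group G]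

/-- a subgroup of `M` of order prime to `|M_σ|` lies in a complement of `M_σ`. -/
theorem exists_compl_ge_of_coprime [Finite G] (hG : Cfsg.IsMinSimpleOddOrder G) {M : Subgroup G}
    (hM : IsCoatom M) {H : Subgroup G} (hHM : H ≤ M)
    (hcop : (Nat.card H).Coprime (Nat.card (Cfsg.sigmaCore M))) :
    ∃ E : Subgroup G, Cfsg.IsComplIn E (Cfsg.sigmaCore M) M ∧ H ≤ E := by
  obtain ⟨hHall, -, -⟩ := Cfsg.Agent.S1350.result hG M hM
  obtain ⟨E0, hE0⟩ := exists_compl_sigmaCore hHall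
  haveI : Group.IsSolvable ↥M := hG.2.2.2 M hM.1
  have hsolv : Group.IsSolvable ↥H ∨ Group.IsSolvable ↥(Cfsg.sigmaCore M) :=
    Or.inl (Group.isSolvable_of_isSolvable_injective (Subgroup.inclusion_injective hHM))
  obtain ⟨k, hk, hkK⟩ := exists_conj_mem_compl (le_normalizer_sigmaCore M) hE0 hHM hcop hsolv
  exact ⟨E0.map (MulAut.conj k).toMonoidHom,
    isComplIn_conj (le_normalizer_sigmaCore M) hE0 (BGEx.sigmaCore_le M hk),
    fun a ha => mem_map_conj.mpr (hkK a ha)⟩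

theorem comm_of_isCyclic_h2 {H : Subgroup G} (hH : IsCyclic ↥H) :
    ∀ a ∈ H, ∀ b ∈ H, a * b = b * a := by
  intro x hx y hy
  obtain ⟨g, hg⟩ := IsCyclic.exists_generator (α := ↥H)
  obtain ⟨m, hm⟩ := Subgroup.mem_zpowers_iff.mp (hg ⟨x, hx⟩)
  obtain ⟨n, hn⟩ := Subgroup.mem_zpowers_iff.mp (hg ⟨y, hy⟩)
  have h : (⟨x, hx⟩ : ↥H) * ⟨y, hy⟩ = ⟨y, hy⟩ * ⟨x, hx⟩ := by
    rw [← hm, ← hn, ← zpow_add, ← zpow_add, add_comm]
  exact congrArg Subtype.val h

/-- (9), one half: `u₁, v₁` of prime order in a complement `E_L` of `L_σ`; if `o(u₁) ∈ τ₃(L)`, or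
both orders lie in `τ₁(L)`, some `E_L`-conjugate of `v₁` normalizes `⟨u₁⟩`. -/
theorem delta_half [Finite G] (hG : Cfsg.IsMinSimpleOddOrder G) {L EL : Subgroup G}
    (hL : IsCoatom L) (hEL : Cfsg.IsComplIn EL (Cfsg.sigmaCore L) L) {u1 v1 : G}
    (hu1 : u1 ∈ EL) (hv1 : v1 ∈ EL) (huo : (orderOf u1).Prime) (hvo : (orderOf v1).Prime)
    (hcase : orderOf u1 ∈ Cfsg.tau3 L ∨ (orderOf u1 ∈ Cfsg.tau1 L ∧ orderOf v1 ∈ Cfsg.tau1 L)) :
    ∃ e ∈ EL, e * v1 * e⁻¹ ∈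
      Subgroup.normalizer ((Subgroup.zpowers u1 : Subgroup G) : Set G) := by
  haveI : Group.IsSolvable ↥L := hG.2.2.2 L hL.1
  haveI hsolE : Group.IsSolvable ↥EL :=
    Group.isSolvable_of_isSolvable_injective (Subgroup.inclusion_injective hEL.1)
  obtain ⟨h15a, h15b, h15c⟩ := Cfsg.Agent.S1415.result hG L hL EL hEL
  have hzu : Subgroup.zpowers u1 ≤ EL := Subgroup.zpowers_le.mpr hu1
  have hzv : Subgroup.zpowers v1 ≤ EL := Subgroup.zpowers_le.mpr hv1
  have hprimes : ∀ {x : G}, (orderOf x).Prime → ∀ t : ℕ, t.Prime →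
      t ∣ Nat.card (Subgroup.zpowers x) → t = orderOf x := by
    intro x hx t ht htd
    rw [Nat.card_zpowers] at htd
    exact (Nat.prime_dvd_prime_iff_eq ht hx).mp htd
  rcases hcase with h3 | ⟨h1u, h1v⟩
  · obtain ⟨E3, hE3, hle⟩ := exists_hall_ge' (Cfsg.tau3 L) hzu
      (fun t ht htd => (hprimes huo t ht htd) ▸ h3)
    obtain ⟨hE3c, -, hE3n⟩ := h15c E3 hE3
    refine ⟨1, EL.one_mem, ?_⟩
    rw [one_mul, inv_one, mul_one, mem_normalizer_iff_map_conj]
    have h1 : cj v1 (Subgroup.zpowers u1) ≤ E3 := by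
      calc cj v1 (Subgroup.zpowers u1) ≤ cj v1 E3 := cj_mono hle
        _ = E3 := mem_normalizer_iff_map_conj.mp (hE3n hv1)
    haveI := hE3c
    exact Cfsg.Agent.Lib.Helper9.eq_of_card_eq_of_le_isCyclic E3 _ _ h1 hle (card_map_conj _ _)
  · obtain ⟨E1, hE1, hle⟩ := exists_hall_ge' (Cfsg.tau1 L) hzu
      (fun t ht htd => (hprimes huo t ht htd) ▸ h1u)
    have hE1c := h15b E1 hE1
    obtain ⟨e, he, hconj⟩ := Cfsg.Agent.Lib.Helper27.BGConj.exists_conj_le_of_pi (Cfsg.tau1 L)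
      hsolE hE1.1 hzv (fun t ht htd => (hprimes hvo t ht htd) ▸ h1v) hE1.2.2
    refine ⟨e, he, ?_⟩
    have hev : e * v1 * e⁻¹ ∈ E1 := hconj (conj_mem_map_conj (Subgroup.mem_zpowers v1))
    have hu1E1 : u1 ∈ E1 := hle (Subgroup.mem_zpowers u1)
    apply Subgroup.centralizer_le_normalizer
    rw [Subgroup.mem_centralizer_iff]
    intro y hy
    exact comm_of_isCyclic_h2 hE1c y (hle hy) _ hev

namespace Asym

variable {M N P Q : Subgroup G} {p q : ℕ}

/-- `p ∈ κ(M)`. -/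
theorem p_mem_kappa [Finite G] (hG : Cfsg.IsMinSimpleOddOrder G) (h : Asym M N p P q Q) :
    p ∈ Cfsg.kappa M := by
  haveI : Fact p.Prime := ⟨h.primeP⟩
  obtain ⟨u, hu, huo⟩ := h.exists_u hG
  obtain ⟨-, -, hασ, -, -⟩ := malpha hG (ut hG) h.coatomM
  obtain ⟨y, hyP, hy1, hyp, -⟩ := exists_generator_of_card_prime h.primeP h.cardP
  have hu1 : u ≠ 1 := by
    rintro rfl
    rw [orderOf_one] at huo
    exact Nat.not_prime_one huo
  have hyo : orderOf y = p := orderOf_eq_prime hyp hy1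
  have hyu : y * u = u * y := Subgroup.mem_centralizer_iff.mp hu.2 y hyP
  rcases kappa_or_tau2 hG (ut hG) h.coatomM (hασ hu.1) hu1 (h.leM hyP) h.primeP hyo hyu
    h.p_not_sigma with h1 | h1
  · exact h1
  · exact absurd h.p_rank h1.2.2.2

/-- (8) facts about an element `u` of prime order of `C_{M_α}(P)` and a maximal subgroup
`L ⊇ N_G(P)`. -/
theorem u_facts [Finite G] (hG : Cfsg.IsMinSimpleOddOrder G) (h : Asym M N p P q Q)
    (h28 : H28 M) (hR : CorR M) (hG1 : CorG1 M) {L : Subgroup G} (hL : IsCoatom L)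
    (hNL : Subgroup.normalizer (P : Set G) ≤ L) {u : G}
    (hu : u ∈ Cfsg.alphaCore M ⊓ Subgroup.centralizer (P : Set G)) (huo : (orderOf u).Prime) :
    Subgroup.normalizer ((Subgroup.zpowers u : Subgroup G) : Set G) ≤ M ∧ u ∈ L ∧
      orderOf u ∉ Cfsg.sigma L ∧ (orderOf u ∈ Cfsg.tau1 L ∨ orderOf u ∈ Cfsg.tau3 L) := by
  obtain ⟨r, hrdef⟩ : ∃ r, r = orderOf u := ⟨_, rfl⟩
  rw [← hrdef] at huo ⊢
  haveI : Fact r.Prime := ⟨huo⟩
  haveI : Fact p.Prime := ⟨h.primeP⟩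
  have hU := ut hG
  have hM := h.coatomM
  obtain ⟨hHall, -, hασ, -, -⟩ := malpha hG hU hM
  have huα : u ∈ Cfsg.alphaCore M := hu.1
  have huP : u ∈ Subgroup.centralizer (P : Set G) := hu.2
  have hu1 : u ≠ 1 := by
    rintro rfl
    rw [orderOf_one] at hrdef
    exact huo.one_lt.ne' hrdef
  have hrd : r ∣ Nat.card (Cfsg.alphaCore M) := by
    have := orderOf_dvd_natCard (⟨u, huα⟩ : ↥(Cfsg.alphaCore M))
    rwa [Subgroup.orderOf_mk, ← hrdef] at this
  have hrα : r ∈ Cfsg.alpha M := hHall.2.1 r huo hrd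
  have hrσ : r ∈ Cfsg.sigma M := alpha_subset_sigma hG hU hM hrα
  have hXc : Nat.card (Subgroup.zpowers u) = r := by rw [Nat.card_zpowers, hrdef]
  have hXp : IsPGroup r (Subgroup.zpowers u) :=
    IsPGroup.of_card (n := 1) (by rw [pow_one]; exact hXc)
  have hXM : Subgroup.zpowers u ≤ M := by
    rw [Subgroup.zpowers_le]; exact alphaCore_le M huα
  have hX1 : Subgroup.zpowers u ≠ ⊥ := by
    intro h0
    rw [Subgroup.zpowers_eq_bot] at h0
    exact hu1 h0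
  -- a complement containing `P`
  have hcopP : (Nat.card P).Coprime (Nat.card (Cfsg.sigmaCore M)) := by
    rw [h.cardP]
    apply (Nat.Prime.coprime_iff_not_dvd h.primeP).mpr
    intro hd
    exact h.p_not_sigma (mem_sigma_of_dvd_card_sigmaCore hG hM h.primeP hd)
  obtain ⟨E, hE, hPE⟩ := exists_compl_ge_of_coprime hG hM h.leM hcopP
  -- (U)
  have hXT : Subgroup.zpowers u ≤ Cfsg.sigmaCore M ⊓ Subgroup.centralizer (P : Set G) := by
    rw [Subgroup.zpowers_le]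
    exact ⟨hασ huα, huP⟩
  obtain ⟨⟨hCM, hCuniq⟩, -⟩ := thm13_6 hG hM h28 hR hE hPE h.tau h.cardP hXc hXT
  -- `N_G(⟨u⟩) ≤ M`
  have hNM : Subgroup.normalizer ((Subgroup.zpowers u : Subgroup G) : Set G) ≤ M := by
    rw [(Cfsg.Agent.S1404.result hG M hM r hrσ (Subgroup.zpowers u) hXp hX1 hXM).2]
    exact _root_.sup_le inf_le_left hCM
  have huL : u ∈ L := hNL (Subgroup.centralizer_le_normalizer _ huP)
  -- `L` is not conjugate to `M`
  obtain ⟨hncL, -, -⟩ := Cfsg.Agent.Lib.Helper16.BGPrim.thm13_2_zero hG hL h.p_not_sigma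
    h.p_rank h.isPGroupP h.P_ne_bot hNL
  have hrσL : r ∉ Cfsg.sigma L := fun hrL =>
    Cfsg.Agent.Lib.Helper16.BGPrim.not_mem_alpha_of_mem_sigma hG hL hM
      (nonconj_symm hncL) hrL hrα
  have hLM : L ≠ M := by
    have := hncL 1
    rwa [map_conj_one] at this
  -- `r ∉ τ₂(L)`
  have hrτ2 : r ∉ Cfsg.tau2 L := by
    intro hr2
    obtain ⟨hHallL, -, -⟩ := Cfsg.Agent.S1350.result hG L hL
    obtain ⟨EL, hEL⟩ := exists_compl_sigmaCore hHallL
    obtain ⟨-, -, -, h20d⟩ := Cfsg.Agent.S1420.result hG L hL EL hEL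
    have hPLσ : P ≤ Cfsg.sigmaCore L :=
      hG1 P h.leM (h.cardP.symm ▸ h.p_mem_kappa hG) L hL hNL
    obtain ⟨y, hyP, hy1, -, -⟩ := exists_generator_of_card_prime h.primeP h.cardP
    have hyu : y * u = u * y := Subgroup.mem_centralizer_iff.mp huP y hyP
    have hhat : u ∈ Cfsg.sigmaHat L := ⟨huL, y, hPLσ hyP, hy1, hyu.symm⟩
    have hprimes : ∀ t : ℕ, t.Prime → t ∣ orderOf u → t ∈ Cfsg.tau2 L := by
      intro t ht htd
      rw [← hrdef] at htd
      have : t = r := (Nat.prime_dvd_prime_iff_eq ht huo).mp htd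
      rw [this]; exact hr2
    obtain ⟨-, huniq⟩ := h20d u huL hu1 hprimes hhat
    have hcent : Subgroup.centralizer ({u} : Set G) =
        Subgroup.centralizer ((Subgroup.zpowers u : Subgroup G) : Set G) :=
      Cfsg.Agent.Lib.Helper17.BGExF.centralizer_singleton_eq_of_prime_card huo hXc
        (Subgroup.mem_zpowers u) hu1
    exact hLM (huniq M hM (hcent ▸ hCM)).symm
  refine ⟨hNM, huL, hrσL, ?_⟩
  have hrL : r ∣ Nat.card L := by
    have := orderOf_dvd_natCard (⟨u, huL⟩ : ↥L)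
    rwa [Subgroup.orderOf_mk, ← hrdef] at this
  have hr2L : Cfsg.PRankLE r 2 ↥L := by
    by_contra hcon
    exact hrσL (alpha_subset_sigma hG hU hL ⟨huo, hcon⟩)
  have hr1L : Cfsg.PRankLE r 1 ↥L := by
    by_contra hcon
    exact hrτ2 ⟨huo, hrσL, hr2L, hcon⟩
  by_cases hd : r ∣ Nat.card ↥⁅L, L⁆
  · exact Or.inr ⟨huo, hrσL, hd, hr1L⟩
  · exact Or.inl ⟨huo, hrσL, hrL, hd, hr1L⟩

end Asym

end Cfsg.Agent.Lib.Helper2.BGCor
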