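import Mathlib
import Cfsg.Agent.Lib.Helper2.BGCorT

/-!
# B & G 13.12 (`tau1_mmaxI_asymmetry`), final assembly (helper2)

`thm13_12`: the two-sided configuration `Asym M N p P q Q`, `Asym N M p P q' Q'` is impossible,
given `H28`, `CorR`, `CorG1` for `M` and `N`.
Paper proof: helper8, `notes/bg13/NOTES_h8.md`, section 1.
-/

set_option autoImplicit false
set_option linter.style.haveILetI false
open scoped commutatorElement

namespace Cfsg.Agent.Lib.Helper2.BGCor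

open Cfsg Cfsg.Agent.Lib.Helper1.BGX
open Cfsg.Agent.Lib.Helper8
open Cfsg.Agent.Lib.Helper8.BGEx
open Cfsg.Agent.Lib.Helper23.BGY (exists_conj_mem_compl)

variable {G : Type*} [Group G]

theorem delta_transport {u v k k' e : G}
    (h : e * (k'⁻¹ * v * k') * e⁻¹ ∈
      Subgroup.normalizer ((Subgroup.zpowers (k⁻¹ * u * k) : Subgroup G) : Set G)) :
    (k * e * k'⁻¹) * v * (k * e * k'⁻¹)⁻¹ ∈
      Subgroup.normalizer ((Subgroup.zpowers u : Subgroup G) : Set G) := by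
  have hz : Subgroup.zpowers (k⁻¹ * u * k) = cj k⁻¹ (Subgroup.zpowers u) := by
    rw [cj_zpowers, inv_inv]
  rw [hz, normalizer_cj, mem_map_conj, inv_inv] at h
  have e1 : (k * e * k'⁻¹) * v * (k * e * k'⁻¹)⁻¹ = k * (e * (k'⁻¹ * v * k') * e⁻¹) * k⁻¹ := by
    group
  rw [e1]; exact h

/-- conjugate an element of `L` of prime order outside `σ(L)` into a complement of `L_σ`. -/
theorem exists_conj_mem_compl_of_prime [Finite G] (hG : Cfsg.IsMinSimpleOddOrder G)
    {L EL : Subgroup G} (hL : IsCoatom L) (hEL : Cfsg.IsComplIn EL (Cfsg.sigmaCore L) L) {u : G}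
    (huL : u ∈ L) (huo : (orderOf u).Prime) (huσ : orderOf u ∉ Cfsg.sigma L) :
    ∃ k : G, k⁻¹ * u * k ∈ EL := by
  have hzL : Subgroup.zpowers u ≤ L := Subgroup.zpowers_le.mpr huL
  have hcop : (Nat.card (Subgroup.zpowers u)).Coprime (Nat.card (Cfsg.sigmaCore L)) := by
    rw [Nat.card_zpowers]
    apply (Nat.Prime.coprime_iff_not_dvd huo).mpr
    intro hd
    exact huσ (mem_sigma_of_dvd_card_sigmaCore hG hL huo hd)
  haveI : Group.IsSolvable ↥L := hG.2.2.2 L hL.1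
  have hsolv : Group.IsSolvable ↥(Subgroup.zpowers u) ∨ Group.IsSolvable ↥(Cfsg.sigmaCore L) :=
    Or.inl (Group.isSolvable_of_isSolvable_injective (Subgroup.inclusion_injective hzL))
  obtain ⟨k, -, hk⟩ := exists_conj_mem_compl (le_normalizer_sigmaCore L) hEL hzL hcop hsolv
  exact ⟨k, hk u (Subgroup.mem_zpowers u)⟩

/-- **B & G 13.12** (`tau1_mmaxI_asymmetry`). -/
theorem thm13_12 [Finite G] (hG : Cfsg.IsMinSimpleOddOrder G) {M N P Q Q' : Subgroup G}
    {p q q' : ℕ} (h : Asym M N p P q Q) (h' : Asym N M p P q' Q')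
    (h28 : H28 M) (hR : CorR M) (hG1 : CorG1 M) (h28' : H28 N) (hR' : CorR N) (hG1' : CorG1 N) :
    False := by
  have hPtop : P ≠ ⊤ := by
    intro hP
    apply h.coatomM.1
    rw [eq_top_iff, ← hP]
    exact h.leM
  obtain ⟨L, hL, hNL⟩ := Cfsg.Agent.Lib.Helper17.BGU.exists_coatom_ge
    (BGEx.normalizer_ne_top hG h.P_ne_bot hPtop)
  obtain ⟨u, hu, huo⟩ := h.exists_u hG
  obtain ⟨v, hv, hvo⟩ := h'.exists_u hG
  obtain ⟨hNu, huL, huσ, huτ⟩ := h.u_facts hG h28 hR hG1 hL hNL hu huo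
  obtain ⟨hNv, hvL, hvσ, hvτ⟩ := h'.u_facts hG h28' hR' hG1' hL hNL hv hvo
  obtain ⟨hHallL, -, -⟩ := Cfsg.Agent.S1350.result hG L hL
  obtain ⟨EL, hEL⟩ := exists_compl_sigmaCore hHallL
  obtain ⟨k, hk⟩ := exists_conj_mem_compl_of_prime hG hL hEL huL huo huσ
  obtain ⟨k', hk'⟩ := exists_conj_mem_compl_of_prime hG hL hEL hvL hvo hvσ
  have hou : orderOf (k⁻¹ * u * k) = orderOf u := by
    have := orderOf_conj_h2 k⁻¹ u
    rwa [inv_inv] at this
  have hov : orderOf (k'⁻¹ * v * k') = orderOf v := by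
    have := orderOf_conj_h2 k'⁻¹ v
    rwa [inv_inv] at this
  have key : (∃ g : G, g * v * g⁻¹ ∈
        Subgroup.normalizer ((Subgroup.zpowers u : Subgroup G) : Set G)) ∨
      (∃ g : G, g * u * g⁻¹ ∈
        Subgroup.normalizer ((Subgroup.zpowers v : Subgroup G) : Set G)) := by
    have hB : (orderOf (k⁻¹ * u * k) ∈ Cfsg.tau3 L ∨
        (orderOf (k⁻¹ * u * k) ∈ Cfsg.tau1 L ∧ orderOf (k'⁻¹ * v * k') ∈ Cfsg.tau1 L)) →
        ∃ g : G, g * v * g⁻¹ ∈
          Subgroup.normalizer ((Subgroup.zpowers u : Subgroup G) : Set G) := by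
      intro hcase
      obtain ⟨e, -, he⟩ := delta_half hG hL hEL hk hk' (hou ▸ huo) (hov ▸ hvo) hcase
      exact ⟨_, delta_transport he⟩
    have hA : orderOf (k'⁻¹ * v * k') ∈ Cfsg.tau3 L →
        ∃ g : G, g * u * g⁻¹ ∈
          Subgroup.normalizer ((Subgroup.zpowers v : Subgroup G) : Set G) := by
      intro hcase
      obtain ⟨e, -, he⟩ := delta_half hG hL hEL hk' hk (hov ▸ hvo) (hou ▸ huo) (Or.inl hcase)
      exact ⟨_, delta_transport he⟩
    rw [hou, hov] at hB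
    rw [hov] at hA
    rcases huτ with hu1 | hu3
    · rcases hvτ with hv1 | hv3
      · exact Or.inl (hB (Or.inr ⟨hu1, hv1⟩))
      · exact Or.inr (hA hv3)
    · exact Or.inl (hB (Or.inl hu3))
  rcases key with ⟨g, hg⟩ | ⟨g, hg⟩
  · exact h'.false_of_conj_mem hG h hv hvo (hNu hg)
  · exact h.false_of_conj_mem hG h' hu huo (hNv hg)

end Cfsg.Agent.Lib.Helper2.BGCor
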