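import Mathlib
import Cfsg.Agent.Lib.Helper2.BGCorU
import Cfsg.Agent.Lib.Helper9.BGSigPartA

/-!
# B & G 13.12: two interfaces (helper2)

* `h1312`: helper9's hypothesis `H1312 G` (13.12 with `Q = Q*` a Sylow subgroup of `G`), from
  `thm13_12`, given `H28`, `CorR`, `CorG1` for all maximal subgroups.
* `lemmaF_alpha`: step (12) of 13.12 as a standalone lemma ("Lemma F" of
  `notes/bg14/NOTES_h20.md`): a Frobenius group `QP ≤ M` of order prime to `α(M)` with
  `C_{M_α}(Q)` and `C_{M_α}(P)` of rank at most one has `C_{M_α}(QP) = 1`.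
-/

set_option autoImplicit false
set_option linter.style.haveILetI false
open scoped commutatorElement

namespace Cfsg.Agent.Lib.Helper2.BGCor

open Cfsg Cfsg.Agent.Lib.Helper1.BGX
open Cfsg.Agent.Lib.Helper8
open Cfsg.Agent.Lib.Helper8.BGEx

variable {G : Type*} [Group G]

/-- a Sylow `q`-subgroup of `G` contained in `D` is a Sylow `q`-subgroup of `D`. -/
theorem isSylIn_of_sylow_le [Finite G] {q : ℕ} [Fact q.Prime] (Q : Sylow q G) {D : Subgroup G}
    (hQD : (Q : Subgroup G) ≤ D) : IsSylIn q (Q : Subgroup G) D := by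
  have hq : q.Prime := Fact.out
  apply isSylIn_of_card_le Q.isPGroup' hQD
  rw [Q.card_eq_multiplicity]
  apply Nat.pow_le_pow_right hq.pos
  exact (Nat.factorization_le_iff_dvd Nat.card_pos.ne' Nat.card_pos.ne').mpr
    (Subgroup.card_subgroup_dvd_card D) q

/-- helper9's `H1312 G` from `thm13_12`. -/
theorem h1312 [Finite G] (hG : Cfsg.IsMinSimpleOddOrder G)
    (h28 : ∀ M : Subgroup G, IsCoatom M → H28 M) (hR : ∀ M : Subgroup G, IsCoatom M → CorR M)
    (hG1 : ∀ M : Subgroup G, IsCoatom M → CorG1 M) :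
    Cfsg.Agent.Lib.Helper9.BGSigPart.H1312 G := by
  intro M N hM hN hnc p hpM hpN P hPD hPc q _ Q hQD hPQ hfpf hNQ
  have hq : q.Prime := Fact.out
  have h1 : Asym M N p P q (Q : Subgroup G) :=
    ⟨hM, hN, hnc, hpM, hPc, hPD.trans inf_le_left, hPD.trans inf_le_right, hq,
      isSylIn_of_sylow_le Q hQD, hPQ, hfpf, hNQ.trans inf_le_right⟩
  have h2 : Asym N M p P q (Q : Subgroup G) :=
    ⟨hN, hM, nonconj_symm hnc, hpN, hPc, hPD.trans inf_le_right, hPD.trans inf_le_left, hq,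
      isSylIn_of_sylow_le Q (by rw [inf_comm]; exact hQD), hPQ, hfpf, hNQ.trans inf_le_left⟩
  exact thm13_12 hG h1 h2 (h28 M hM) (hR M hM) (hG1 M hM) (h28 N hN) (hR N hN) (hG1 N hN)

/-- **Lemma F** (`α`-version), standalone: see the file header. -/
theorem lemmaF_alpha [Finite G] (hG : Cfsg.IsMinSimpleOddOrder G) {M : Subgroup G}
    (hM : IsCoatom M) {Q P : Subgroup G} {p q : ℕ} (hp : p.Prime) (hq : q.Prime)
    (hQM : Q ≤ M) (hPM : P ≤ M) (hPc : Nat.card P = p) (hQq : IsPGroup q Q) (hQ1 : Q ≠ ⊥)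
    (hPQ : P ≤ Subgroup.normalizer (Q : Set G))
    (hfpf : Q ⊓ Subgroup.centralizer (P : Set G) = ⊥)
    (hqα : q ∉ Cfsg.alpha M) (hpα : p ∉ Cfsg.alpha M)
    (hrkQ : Cfsg.RankLE 1 ↥(Cfsg.alphaCore M ⊓ Subgroup.centralizer (Q : Set G)))
    (hrkP : Cfsg.RankLE 1 ↥(Cfsg.alphaCore M ⊓ Subgroup.centralizer (P : Set G))) :
    Cfsg.alphaCore M ⊓ Subgroup.centralizer (Q : Set G) ⊓ Subgroup.centralizer (P : Set G) = ⊥ := by
  haveI : Fact p.Prime := ⟨hp⟩
  haveI : Fact q.Prime := ⟨hq⟩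
  rw [eq_bot_iff]
  intro x hx
  rw [Subgroup.mem_bot]
  by_contra hx1
  obtain ⟨r, j, hr, hxr⟩ := exists_prime_order_pow hx1
  obtain ⟨a, hadef⟩ : ∃ a : G, a = x ^ j := ⟨_, rfl⟩
  rw [← hadef] at hxr
  have haα : a ∈ Cfsg.alphaCore M := hadef ▸ Subgroup.pow_mem _ hx.1.1 j
  have haQ : a ∈ Subgroup.centralizer (Q : Set G) := hadef ▸ Subgroup.pow_mem _ hx.1.2 j
  have haP : a ∈ Subgroup.centralizer (P : Set G) := hadef ▸ Subgroup.pow_mem _ hx.2 j
  haveI : Fact r.Prime := ⟨hr⟩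
  have hU := Cfsg.Agent.Lib.Helper16.BGPrim.ut hG
  obtain ⟨hHall, -, -, -, -⟩ := malpha hG hU hM
  have har : a ^ r = 1 := hxr ▸ pow_orderOf_eq_one a
  have ha1 : a ≠ 1 := by
    rintro rfl
    rw [orderOf_one] at hxr
    exact hr.one_lt.ne hxr
  have hrd : r ∣ Nat.card (Cfsg.alphaCore M) := by
    have := orderOf_dvd_natCard (⟨a, haα⟩ : ↥(Cfsg.alphaCore M))
    rwa [Subgroup.orderOf_mk, hxr] at this
  have hrα : r ∈ Cfsg.alpha M := hHall.2.1 r hr hrd
  have hr2 : r ≠ 2 := ne_two_of_dvd_sub hG.1 hrd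
  have hPp : IsPGroup p P := IsPGroup.of_card (n := 1) (by rw [pow_one]; exact hPc)
  have hP1 : P ≠ ⊥ := by
    intro h0
    rw [h0, Subgroup.card_bot] at hPc
    exact hp.one_lt.ne hPc
  -- `q ≠ p`, coprimality, Frobenius data
  have hqp : q ≠ p := by
    rintro rfl
    exact Cfsg.Agent.Lib.Helper21.BG36.inf_centralizer_ne_bot hQq hPp hPQ hQ1 hfpf
  have hcopPQ : (Nat.card P).Coprime (Nat.card Q) := by
    obtain ⟨k, hk⟩ := IsPGroup.iff_card.mp hQq
    rw [hPc, hk]
    exact Nat.Coprime.pow_right k ((Nat.coprime_primes hp hq).mpr (Ne.symm hqp))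
  have hQP : Q ⊓ P = ⊥ := by
    rw [inf_comm]
    exact (Subgroup.disjoint_of_coprime_natCard hcopPQ).eq_bot
  have hPQn : ∀ e ∈ P, ∀ u ∈ Q, e * u * e⁻¹ ∈ Q := fun e he u hu =>
    (Subgroup.mem_normalizer_iff.mp (hPQ he) u).mp hu
  have hfr : ∀ e ∈ P, e ≠ 1 → ∀ u ∈ Q, e * u = u * e → u = 1 := by
    intro e he he1 u hu heu
    have h1 : u ∈ Subgroup.centralizer ({e} : Set G) := by
      rw [Subgroup.mem_centralizer_singleton_iff]
      exact heu.symm
    rw [Cfsg.Agent.Lib.Helper17.BGExF.centralizer_singleton_eq_of_prime_card hp hPc he he1] at h1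
    have h2 : u ∈ Q ⊓ Subgroup.centralizer (P : Set G) := ⟨hu, h1⟩
    rw [hfpf, Subgroup.mem_bot] at h2
    exact h2
  have hFM : Q ⊔ P ≤ M := _root_.sup_le hQM hPM
  have hFα : Q ⊔ P ≤ Subgroup.normalizer (Cfsg.alphaCore M : Set G) :=
    hFM.trans (le_normalizer_alphaCore M)
  have hcopα : ∀ {H : Subgroup G}, H ≤ Cfsg.alphaCore M →
      (Nat.card H).Coprime (Nat.card ↥(Q ⊔ P)) := by
    intro H hH
    apply Nat.coprime_of_dvd
    intro t ht h1 h2
    have htα : t ∈ Cfsg.alpha M := hHall.2.1 t ht (h1.trans (Subgroup.card_dvd_of_le hH))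
    have h3 : Nat.card ↥(Q ⊔ P) ∣ Nat.card P * Nat.card Q := by
      rw [sup_comm]
      exact Cfsg.Agent.Lib.Helper21.BG36.card_sup_dvd' P Q hPQ
    rcases (Nat.Prime.dvd_mul ht).mp (h2.trans h3) with h5 | h5
    · rw [hPc] at h5
      have : t = p := (Nat.prime_dvd_prime_iff_eq ht hp).mp h5
      rw [this] at htα
      exact hpα htα
    · obtain ⟨k, hk⟩ := IsPGroup.iff_card.mp hQq
      rw [hk] at h5
      have : t = q := (Nat.prime_dvd_prime_iff_eq ht hq).mp (ht.dvd_of_dvd_pow h5)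
      rw [this] at htα
      exact hqα htα
  haveI hsolα : Group.IsSolvable ↥(Cfsg.alphaCore M) := by
    haveI : Group.IsSolvable ↥M := hG.2.2.2 M hM.1
    exact Group.isSolvable_of_isSolvable_injective
      (Subgroup.inclusion_injective (alphaCore_le M))
  -- `F = QP` centralizes `a`
  have hFa : Q ⊔ P ≤ Subgroup.centralizer ({a} : Set G) := by
    apply _root_.sup_le
    · intro u hu
      rw [Subgroup.mem_centralizer_singleton_iff]
      exact (Subgroup.mem_centralizer_iff.mp haQ u hu)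
    · intro u hu
      rw [Subgroup.mem_centralizer_singleton_iff]
      exact (Subgroup.mem_centralizer_iff.mp haP u hu)
  obtain ⟨C, hCdef⟩ : ∃ C : Subgroup G,
    C = Cfsg.alphaCore M ⊓ Subgroup.centralizer ({a} : Set G) := ⟨_, rfl⟩
  have hCα : C ≤ Cfsg.alphaCore M := hCdef ▸ inf_le_left
  have hCa : C ≤ Subgroup.centralizer ({a} : Set G) := hCdef ▸ inf_le_right
  have hFC : Q ⊔ P ≤ Subgroup.normalizer (C : Set G) := by
    rw [hCdef]
    exact BGEx.le_normalizer_inf hFα (hFa.trans Subgroup.le_normalizer)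
  haveI hsolC : Group.IsSolvable ↥C :=
    Group.isSolvable_of_isSolvable_injective (Subgroup.inclusion_injective hCα)
  have hcopC : (Nat.card ↥(Q ⊔ P)).Coprime (Nat.card C) := (hcopα hCα).symm
  have hYC : Subgroup.zpowers a ≤ C := by
    rw [Subgroup.zpowers_le, hCdef]
    exact Subgroup.mem_inf.mpr ⟨haα, Subgroup.mem_centralizer_singleton_iff.mpr rfl⟩
  have hYc : Nat.card (Subgroup.zpowers a) = r := by rw [Nat.card_zpowers, hxr]
  have hYp : IsPGroup r (Subgroup.zpowers a) :=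
    IsPGroup.of_card (n := 1) (by rw [pow_one]; exact hYc)
  have hFY : Q ⊔ P ≤ Subgroup.normalizer ((Subgroup.zpowers a : Subgroup G) : Set G) := by
    refine le_trans ?_ (Subgroup.centralizer_le_normalizer _)
    rw [← Cfsg.Agent.Lib.Helper17.BGExF.centralizer_singleton_eq_of_prime_card hr hYc
      (Subgroup.mem_zpowers a) ha1]
    exact hFa
  obtain ⟨S, hS, hYS, hFS⟩ := exists_invariant_isSylIn_ge hFC hcopC (Or.inr hsolC) r
    (Subgroup.zpowers a) hYC hYp hFY
  have haS : a ∈ S := hYS (Subgroup.mem_zpowers a)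
  have hSp : IsPGroup r S := hS.isPGroup
  have hSnc : ¬ IsCyclic ↥S := by
    intro hSc
    obtain ⟨R0, hR0, haR0⟩ := exists_isSylIn_ge hYp
      (hYC.trans (hCα.trans (alphaCore_le M)))
    have hR0p : IsPGroup r R0 := hR0.isPGroup
    have hR0α : R0 ≤ Cfsg.alphaCore M :=
      le_of_normal_of_not_dvd_relIndex (alphaCore_le M) (le_normalizer_alphaCore M)
        (hHall.2.2 r hr hrα) hR0p hR0.1
    have hrk : ¬ Cfsg.PRankLE r 1 ↥R0 := by
      intro h1
      exact hrα.2 (pRankLE_mono hr.pos (by norm_num) (pRankLE_of_isSylIn hR0 h1))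
    have hnc := not_isCyclic_inf_centralizer hR0p hrk (haR0 (Subgroup.mem_zpowers a)) hxr
    apply hnc
    have hTC : R0 ⊓ Subgroup.centralizer ({a} : Set G) ≤ C := by
      rw [hCdef]; exact inf_le_inf_right _ hR0α
    obtain ⟨S1, hS1, hTS1⟩ := exists_isSylIn_ge (hR0p.to_le inf_le_left) hTC
    obtain ⟨m, -, rfl⟩ := isSylIn_exists_conj hS hS1
    haveI : IsCyclic ↥(cj m S) :=
      isCyclic_of_surjective (S.equivMapOfInjective _ (MulAut.conj m).injective).toMonoidHom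
        (S.equivMapOfInjective _ (MulAut.conj m).injective).surjective
    exact Subgroup.isCyclic_of_le hTS1
  obtain ⟨W, hWS, hNW, hWe, hWz, hWcard⟩ := exists_char_exp_subgroup hr2 hSp hSnc
  have hSC : S ≤ C := hS.1
  have haW : a ∈ W := by
    apply hWz a haS _ har
    rw [Subgroup.mem_centralizer_iff]
    intro y hy
    have := hCa (hSC hy)
    rw [Subgroup.mem_centralizer_singleton_iff] at this
    exact this
  have hWα : W ≤ Cfsg.alphaCore M := hWS.trans (hSC.trans hCα)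
  have hWp : IsPGroup r W := hSp.to_le hWS
  have hFW : ∀ y ∈ Q ⊔ P, ∀ w ∈ W, y * w * y⁻¹ ∈ W := fun y hy w hw =>
    (Subgroup.mem_normalizer_iff.mp (hNW (hFS hy)) w).mp hw
  have hCQ : IsCyclic ↥(W ⊓ Subgroup.centralizer (Q : Set G)) :=
    isCyclic_of_le_of_pRankLE_one hr2 (hrkQ r hr) (inf_le_inf_right _ hWα)
      (hWp.to_le inf_le_left)
  have hCP : IsCyclic ↥(W ⊓ Subgroup.centralizer (P : Set G)) :=
    isCyclic_of_le_of_pRankLE_one hr2 (hrkP r hr) (inf_le_inf_right _ hWα)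
      (hWp.to_le inf_le_left)
  have hlt : r < Nat.card W := by
    have : r < r ^ 2 := by
      have := hr.one_lt
      nlinarith
    omega
  exact frob_count_false hr hQ1 hP1 hQP hPQn hfr hFW hWe (hcopα hWα) haW ha1 haQ haP hCQ hCP hlt

end Cfsg.Agent.Lib.Helper2.BGCor
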