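import Mathlib
import Cfsg.Agent.Lib.Helper2.BGCorV
import Cfsg.Agent.Lib.Helper17.BGC2E
import Cfsg.Agent.Lib.Helper24.BGC2CB
import Cfsg.Agent.Lib.Helper9.BGSigPartC

/-!
# Type (F-β) of Case II is impossible (helper2)

Application of B & G 13.12 (`thm13_12`) following `notes/bg13/NOTES_h8.md` sec. 2:
`M` in Case II (helper17's `CaseII M E E1 E3`), `(X, x)` a faithful pair (`X ≤ E₃` of prime order `p`,
`x ∈ E₁` of prime order `r` not centralizing `X`) such that `x` does not centralize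
`T₃ = C_{M_σ}(E₃)`.  With `H ⊇ N_G(X)`, `P = ⟨x⟩`, `Q` the Sylow `p`-subgroup of `E₃` and `Q*` an
`x`-invariant Sylow subgroup of `T₃` not centralized by `x`, both halves of the hypotheses of 13.12
hold for `(M, H)` and `(H, M)`.
-/

set_option autoImplicit false
set_option linter.style.haveILetI false
set_option linter.unusedVariables false
open scoped commutatorElement

namespace Cfsg.Agent.Lib.Helper2.BGCor

open Cfsg Cfsg.Agent.Lib.Helper1.BGX
open Cfsg.Agent.Lib.Helper8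
open Cfsg.Agent.Lib.Helper8.BGEx
open Cfsg.Agent.Lib.Helper17.BGR2 (H1428)
open Cfsg.Agent.Lib.Helper17.BGC2 (CaseII)

variable {G : Type*} [Group G]

/-- a Sylow subgroup of `L` contained in `D ≤ L` is a Sylow subgroup of `D`. -/
theorem isSylIn_of_le_of_le [Finite G] {q : ℕ} [Fact q.Prime] {S D L : Subgroup G}
    (hS : IsSylIn q S L) (hSD : S ≤ D) (hDL : D ≤ L) : IsSylIn q S D := by
  apply isSylIn_of_card_le hS.isPGroup hSD
  rw [hS.2]
  apply Nat.pow_le_pow_right (Fact.out : q.Prime).pos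
  exact (Nat.factorization_le_iff_dvd Nat.card_pos.ne' Nat.card_pos.ne').mpr
    (Subgroup.card_dvd_of_le hDL) q

/-- an element of order prime to `q` normalizing a cyclic `q`-group (`q` odd) and centralizing a
non-identity element of it centralizes it. -/
theorem comm_of_isCyclic_of_fixed [Finite G] {q : ℕ} [Fact q.Prime] (hq2 : q ≠ 2)
    {Q : Subgroup G} (hQ : IsPGroup q Q) (hQc : IsCyclic ↥Q) {x : G}
    (hxQ : x ∈ Subgroup.normalizer (Q : Set G)) (hcop : (orderOf x).Coprime q) {c : G}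
    (hcQ : c ∈ Q) (hc1 : c ≠ 1) (hxc : x * c = c * x) : ∀ y ∈ Q, x * y = y * x := by
  have hq : q.Prime := Fact.out
  have hY : IsPGroup q (Subgroup.zpowers c) := hQ.to_le (Subgroup.zpowers_le.mpr hcQ)
  have hY1 : Subgroup.zpowers c ≠ ⊥ := by
    intro h0
    exact hc1 (Subgroup.zpowers_eq_bot.mp h0)
  obtain ⟨u, huY, huo⟩ := Cfsg.Agent.Lib.Helper17.BGC2.exists_orderOf_eq_of_isPGroup hY hY1
  have hxu : x * u = u * x := by
    obtain ⟨j, rfl⟩ := Subgroup.mem_zpowers_iff.mp huY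
    exact ((show Commute x c from hxc).zpow_right j).eq
  have huQ : u ∈ Q := (Subgroup.zpowers_le.mpr hcQ) huY
  have hUQ : Subgroup.zpowers u ≤ Q := Subgroup.zpowers_le.mpr huQ
  have hUp : IsPGroup q (Subgroup.zpowers u) := hQ.to_le hUQ
  have hu1 : u ≠ 1 := by
    rintro rfl
    rw [orderOf_one] at huo
    exact hq.one_lt.ne huo
  have hU1 : Subgroup.zpowers u ≠ ⊥ := fun h0 => hu1 (Subgroup.zpowers_eq_bot.mp h0)
  have hres := Cfsg.Agent.S1443.result q hq2 Q (Subgroup.zpowers u) (Subgroup.zpowers x) hQ hUQ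
    ⟨inferInstance, fun a ha => by
      obtain ⟨k, rfl⟩ := Subgroup.mem_zpowers_iff.mp ha
      rw [← zpow_natCast, ← zpow_mul, mul_comm, zpow_mul, zpow_natCast, ← huo,
        pow_orderOf_eq_one, one_zpow]⟩
    (Subgroup.zpowers_le.mpr hxQ) (by rw [Nat.card_zpowers]; exact hcop)
    (by
      intro w hw hwo
      have hw' := Subgroup.mem_inf.mp hw
      have hwU : w ∈ Subgroup.zpowers u :=
        Cfsg.Agent.Lib.Helper17.BGC2.mem_of_isCyclic_of_orderOf_prime hQc hUQ hUp hU1 hw'.1 hwo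
      rw [Subgroup.zpowers_le, Subgroup.mem_centralizer_singleton_iff]
      obtain ⟨j, rfl⟩ := Subgroup.mem_zpowers_iff.mp hwU
      exact ((show Commute x u from hxu).zpow_right j).eq)
  intro y hy
  exact ((Subgroup.mem_centralizer_iff.mp (hres (Subgroup.mem_zpowers x))) y hy).symm

/-- The `M`-half of the hypotheses of 13.12 for a faithful pair `(X, x)` of a Case II group. -/
theorem asym_left_of_faithful [Finite G] {M E E1 E3 X H : Subgroup G} (h : CaseII M E E1 E3)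
    {p r : ℕ} [Fact p.Prime] [Fact r.Prime] (hXE3 : X ≤ E3) (hXc : Nat.card X = p) {x : G}
    (hxE1 : x ∈ E1) (hxr : orderOf x = r) (hxX : ∃ a ∈ X, x * a ≠ a * x) (hH : IsCoatom H)
    (hNH : Subgroup.normalizer (X : Set G) ≤ H) :
    ∃ Q : Subgroup G, Asym M H r (Subgroup.zpowers x) p Q := by
  have hG := h.hG
  have hM := h.hM
  have hpp : p.Prime := Fact.out
  have hrp : r.Prime := Fact.out
  have hX1 : X ≠ ⊥ := CaseII.X_ne_bot hXc
  have hXp : IsPGroup p X := CaseII.isPGroup_X hXc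
  have hpτ3 : p ∈ Cfsg.tau3 M := h.p_tau3 hXE3 hXc
  have hrτ1 : r ∈ Cfsg.tau1 M := hxr ▸ h.orderOf_mem_tau1 hxE1 (hxr ▸ hrp)
  have hrp_ne : r ≠ p := by
    rintro rfl
    exact Cfsg.Agent.Lib.Helper17.BGC2.CaseII.not_tau1_and_tau3 hrτ1 hpτ3
  have hp2 : p ≠ 2 := by
    rintro rfl
    have h2 : 2 ∣ Nat.card G := by
      have h3 : 2 ∣ Nat.card X := by rw [hXc]
      exact h3.trans (Subgroup.card_subgroup_dvd_card _)
    exact (Nat.not_even_iff_odd.mpr hG.1) (even_iff_two_dvd.mpr h2)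
  have hxE : x ∈ E := h.hE1E hxE1
  have hEH : E ≤ H := h.E_le_H hXE3 hNH
  -- the Sylow `p`-subgroup `Q ⊇ X` of `E₃`
  obtain ⟨Q, hQ, hXQ⟩ := exists_isSylIn_ge hXp hXE3
  have hQE3 : Q ≤ E3 := hQ.1
  have hQE : IsSylIn p Q E :=
    isSylIn_of_not_dvd_relIndex hQ h.hE3E (h.hE3.2.2 p hpp hpτ3)
  have hQM : IsSylIn p Q M := by
    apply isSylIn_of_not_dvd_relIndex hQE h.hEM
    rw [relIndex_compl h.hE]
    intro hd
    exact hpτ3.2.1 (primes_card_sigmaCore M p hpp hd)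
  have hQMH : IsSylIn p Q (M ⊓ H) :=
    isSylIn_of_le_of_le hQM (le_inf hQM.1 ((hQE3.trans h.hE3E).trans hEH)) inf_le_left
  have hQcyc : IsCyclic ↥Q := by
    haveI := h.E3_cyclic
    exact isCyclic_of_injective (Subgroup.inclusion hQE3) (Subgroup.inclusion_injective hQE3)
  have hEQ : E ≤ Subgroup.normalizer (Q : Set G) := h.E_le_normalizer hQE3
  have hPc : Nat.card (Subgroup.zpowers x) = r := by rw [Nat.card_zpowers, hxr]
  refine ⟨Q, hM, hH, h.nonconj_H hXE3 hXc hH hNH, hrτ1, hPc,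
    Subgroup.zpowers_le.mpr (h.hEM hxE), Subgroup.zpowers_le.mpr (hEH hxE), hpp, hQMH,
    Subgroup.zpowers_le.mpr (hEQ hxE), ?_, ?_⟩
  · -- `x` is fixed-point-free on `Q`
    rw [eq_bot_iff]
    intro c hc
    rw [Subgroup.mem_bot]
    by_contra hc1
    have hc' := Subgroup.mem_inf.mp hc
    have hxc : x * c = c * x :=
      (Subgroup.mem_centralizer_iff.mp hc'.2 x (Subgroup.mem_zpowers x))
    obtain ⟨a, ha, hxa⟩ := hxX
    apply hxa
    exact comm_of_isCyclic_of_fixed hp2 hQ.isPGroup hQcyc (hEQ hxE)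
      (by rw [hxr]; exact (Nat.coprime_primes hrp hpp).mpr hrp_ne) hc'.1 hc1 hxc a (hXQ ha)
  · -- `N_G(Q) ≤ N_G(X) ≤ H`
    refine le_trans ?_ hNH
    intro g hg
    rw [mem_normalizer_iff_map_conj]
    have h1 : Q.map (MulAut.conj g).toMonoidHom = Q := (mem_normalizer_iff_map_conj.mp hg)
    have h2 : X.map (MulAut.conj g).toMonoidHom ≤ Q := by
      rw [← h1]; exact Subgroup.map_mono hXQ
    exact Cfsg.Agent.Lib.Helper9.eq_of_card_eq_of_le_isCyclic Q _ _ h2 hXQ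
      (by rw [card_map_conj])

/-- **Type (F-β) of Case II is impossible**: a faithful pair `(X, x)` of a Case II group `M` such
that `x` does not centralize `T₃ = C_{M_σ}(E₃)` contradicts B & G 13.12. -/
theorem typeFbeta_false [Finite G] (hG : Cfsg.IsMinSimpleOddOrder G) (h28 : H1428 G)
    {M E E1 E3 : Subgroup G} (h : CaseII M E E1 E3) {X : Subgroup G} (hXE3 : X ≤ E3)
    (hXp : (Nat.card X).Prime) {x : G} (hxE1 : x ∈ E1) (hxo : (orderOf x).Prime)
    (hxX : ∃ a ∈ X, x * a ≠ a * x)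
    (hnc : ¬ Cfsg.sigmaCore M ⊓ Subgroup.centralizer (E3 : Set G) ≤
      Subgroup.centralizer ({x} : Set G)) : False := by
  obtain ⟨p, hpdef⟩ : ∃ p, p = Nat.card X := ⟨_, rfl⟩
  obtain ⟨r, hrdef⟩ : ∃ r, r = orderOf x := ⟨_, rfl⟩
  have hpp : p.Prime := hpdef ▸ hXp
  have hrp : r.Prime := hrdef ▸ hxo
  haveI : Fact p.Prime := ⟨hpp⟩
  haveI : Fact r.Prime := ⟨hrp⟩
  have hXc : Nat.card X = p := hpdef.symm
  have hxr : orderOf x = r := hrdef.symm
  haveI : IsSimpleGroup G := hG.2.1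
  have hM := h.hM
  have hE := h.hE
  haveI : Group.IsSolvable ↥M := hG.2.2.2 M hM.1
  have hX1 : X ≠ ⊥ := CaseII.X_ne_bot hXc
  have hXM : X ≤ M := hXE3.trans (h.hE3E.trans h.hEM)
  have hXtop : X ≠ ⊤ := fun h0 => hM.1 (top_le_iff.mp (h0 ▸ hXM))
  obtain ⟨H, hH, hNH⟩ := Cfsg.Agent.Lib.Helper17.BGU.exists_coatom_ge
    (Cfsg.Agent.Lib.Helper17.BGU.normalizer_ne_top hX1 hXtop)
  have hnconj := h.nonconj_H hXE3 hXc hH hNH
  have hHM : H ≠ M := by
    have := hnconj 1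
    rwa [map_conj_one] at this
  have hEH : E ≤ H := h.E_le_H hXE3 hNH
  have hMsH := h.sigmaCore_inf_H hXE3 hXc hH hNH
  have hXHs : X ≤ Cfsg.sigmaCore H := h.X_le_sigmaCore_H hXE3 hXc hH hNH
  have hxE : x ∈ E := h.hE1E hxE1
  have hrτ1 : r ∈ Cfsg.tau1 M := hxr ▸ h.orderOf_mem_tau1 hxE1 (hxr ▸ hrp)
  have hrσ : r ∉ Cfsg.sigma M := hrτ1.2.1
  obtain ⟨Q, hAsym⟩ := asym_left_of_faithful h hXE3 hXc hxE1 hxr hxX hH hNH
  obtain ⟨T3, hT3⟩ : ∃ T3 : Subgroup G,
    T3 = Cfsg.sigmaCore M ⊓ Subgroup.centralizer (E3 : Set G) := ⟨_, rfl⟩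
  rw [← hT3] at hnc hMsH
  have hT3Ms : T3 ≤ Cfsg.sigmaCore M := hT3 ▸ inf_le_left
  have hT3M : T3 ≤ M := hT3Ms.trans (sigmaCore_le M)
  have hPc : Nat.card (Subgroup.zpowers x) = r := by rw [Nat.card_zpowers, hxr]
  -- `⟨x⟩` normalizes `T₃`, coprimely
  have hconj : ∀ m ∈ E, ∀ v ∈ T3, m * v * m⁻¹ ∈ T3 := by
    intro m hm v hv
    rw [hT3] at hv ⊢
    exact h.conj_mem_T3 hm hv
  have hPN : Subgroup.zpowers x ≤ Subgroup.normalizer (T3 : Set G) := by
    rw [Subgroup.zpowers_le, Subgroup.mem_normalizer_iff]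
    intro v
    constructor
    · exact hconj x hxE v
    · intro hv
      have := hconj x⁻¹ (E.inv_mem hxE) _ hv
      simpa [mul_assoc] using this
  have hcop : (Nat.card (Subgroup.zpowers x)).Coprime (Nat.card T3) := by
    rw [hPc]
    apply (Nat.Prime.coprime_iff_not_dvd hrp).mpr
    intro hd
    exact hrσ (primes_card_sigmaCore M r hrp (hd.trans (Subgroup.card_dvd_of_le hT3Ms)))
  have hsolT : Group.IsSolvable ↥T3 :=
    Group.isSolvable_of_isSolvable_injective (Subgroup.inclusion_injective hT3M)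
  -- an `x`-invariant Sylow subgroup of `T₃` not centralized by `x`
  have hex : ∃ (q : ℕ) (_ : Fact q.Prime) (Qs : Subgroup G), IsSylIn q Qs T3 ∧
      Subgroup.zpowers x ≤ Subgroup.normalizer (Qs : Set G) ∧
      ¬ Qs ≤ Subgroup.centralizer ({x} : Set G) := by
    by_contra hcon
    apply hnc
    apply Cfsg.Agent.Lib.Helper21.Camina.le_of_sylows
    intro t ht
    obtain ⟨S, hS, -, hSx⟩ := exists_invariant_isSylIn_ge hPN hcop (Or.inr hsolT) t ⊥ bot_le
      IsPGroup.of_bot (le_normalizer_bot _)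
    refine ⟨hS.toSylow, ?_⟩
    rw [hS.toSylow_map]
    by_contra hSc
    exact hcon ⟨t, ht, S, hS, hSx, hSc⟩
  obtain ⟨q, hqF, Qs, hQs, hxQs, hQsx⟩ := hex
  haveI := hqF
  have hqp : q.Prime := Fact.out
  have hQsT : Qs ≤ T3 := hQs.1
  have hQsMs : Qs ≤ Cfsg.sigmaCore M := hQsT.trans hT3Ms
  have hQsM : Qs ≤ M := hQsMs.trans (sigmaCore_le M)
  have hQsH : Qs ≤ H := by
    have h1 : Qs ≤ Cfsg.sigmaCore M ⊓ H := hMsH ▸ hQsT
    exact h1.trans inf_le_right
  have hQs1 : Qs ≠ ⊥ := by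
    rintro rfl
    exact hQsx bot_le
  have hQsq : IsPGroup q Qs := hQs.isPGroup
  obtain ⟨y, hyQ, hyo⟩ := Cfsg.Agent.Lib.Helper17.BGC2.exists_orderOf_eq_of_isPGroup hQsq hQs1
  have hqd : q ∣ Nat.card Qs := by
    rw [← hyo]
    have := orderOf_dvd_natCard (⟨y, hyQ⟩ : ↥Qs)
    rwa [Subgroup.orderOf_mk] at this
  have hqM : q ∈ Cfsg.sigma M :=
    primes_card_sigmaCore M q hqp (hqd.trans (Subgroup.card_dvd_of_le hQsMs))
  have hqr : r ≠ q := by
    rintro rfl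
    exact hrσ hqM
  have hq2 : q ≠ 2 := by
    rintro rfl
    have h2 : 2 ∣ Nat.card G := hqd.trans (Subgroup.card_subgroup_dvd_card _)
    exact (Nat.not_even_iff_odd.mpr hG.1) (even_iff_two_dvd.mpr h2)
  -- `q ∉ σ(H)` by the `σ`-partition
  have hqH : q ∉ Cfsg.sigma H := by
    intro hqH
    obtain ⟨g, hg⟩ := (Cfsg.Agent.Lib.Helper9.BGSigPart.s1378_of_h1428 hG h28).2 M H hM hH
      ⟨q, hqM, hqH⟩
    exact hnconj g hg
  -- `q ∉ τ₂(H)`
  have hqτ2 : q ∉ Cfsg.tau2 H := by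
    intro hqτ2
    have hy1 : y ≠ 1 := by
      rintro rfl
      rw [orderOf_one] at hyo
      exact hqp.one_lt.ne hyo
    obtain ⟨Y, hYdef⟩ : ∃ Y : Subgroup G, Y = Subgroup.zpowers y := ⟨_, rfl⟩
    have hyY : y ∈ Y := hYdef ▸ Subgroup.mem_zpowers y
    have hYQs : Y ≤ Qs := hYdef ▸ Subgroup.zpowers_le.mpr hyQ
    have hY1 : Y ≠ ⊥ := by
      intro h0
      rw [h0, Subgroup.mem_bot] at hyY
      exact hy1 hyY
    have hYM : Y ≤ M := hYQs.trans hQsM
    have hYtop : Y ≠ ⊤ := fun h0 => hM.1 (top_le_iff.mp (h0 ▸ hYM))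
    obtain ⟨L, hL, hNL⟩ := Cfsg.Agent.Lib.Helper17.BGU.exists_coatom_ge
      (Cfsg.Agent.Lib.Helper17.BGU.normalizer_ne_top hY1 hYtop)
    obtain ⟨hHallH, -, -⟩ := Cfsg.Agent.S1350.result hG H hH
    obtain ⟨EH, hEH'⟩ := exists_compl_sigmaCore hHallH
    obtain ⟨a, haX, ha1⟩ := (Subgroup.bot_or_exists_ne_one X).resolve_left hX1
    have hya : y * a = a * y := by
      have hyT : y ∈ T3 := hQsT hyQ
      rw [hT3] at hyT
      exact (Subgroup.mem_centralizer_iff.mp (Subgroup.mem_inf.mp hyT).2 a (hXE3 haX)).symm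
    have h20 := (Cfsg.Agent.S1420.result hG H hH EH hEH').2.2.2 y (hQsH hyQ) hy1
      (fun p' hp' hd => by
        rw [hyo] at hd
        rw [(Nat.prime_dvd_prime_iff_eq hp' hqp).mp hd]
        exact hqτ2)
      ⟨hQsH hyQ, a, hXHs haX, ha1, hya⟩
    have hCL : Subgroup.centralizer ({y} : Set G) ≤ L := by
      refine le_trans ?_ hNL
      refine le_trans ?_ (Subgroup.centralizer_le_normalizer (Y : Set G))
      intro c hc
      rw [Subgroup.mem_centralizer_iff]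
      intro z hz
      rw [hYdef] at hz
      obtain ⟨k, rfl⟩ := Subgroup.mem_zpowers_iff.mp hz
      have hcy : y * c = c * y := Subgroup.mem_centralizer_iff.mp hc y rfl
      exact ((show Commute y c from hcy).zpow_left k).eq
    have hLH : L = H := h20.2 L hL hCL
    rw [hLH] at hNL
    obtain ⟨-, -, hbot, -⟩ := thm12_14fg hG (Cfsg.Agent.Lib.Helper24.BGReg.h16 hG)
      (Cfsg.Agent.Lib.Helper24.BGReg.h17 hG) (Cfsg.Agent.Lib.Helper24.BGReg.h17n hG)
      (Cfsg.Agent.Lib.Helper24.BGReg.h18e hG) (Cfsg.Agent.Lib.Helper24.BGReg.h24 hG)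
      hM hH hHM hqM hqH (hQsq.to_le hYQs) hY1 hYM hNL
    apply hX1
    rw [eq_bot_iff, ← hbot]
    exact le_inf hXHs hXM
  -- so `Q*` is cyclic
  have hrk : Cfsg.PRankLE q 1 ↥H := by
    by_contra hr
    exact hqτ2 (Cfsg.Agent.Lib.Helper23.BGY.mem_tau2_of_not_rank_one hG hH hqp hqH hr)
  have hQscyc : IsCyclic ↥Qs := isCyclic_of_le_of_pRankLE_one hq2 hrk hQsH hQsq
  -- `x` is fixed-point-free on `Q*`
  have hfpf : Qs ⊓ Subgroup.centralizer ((Subgroup.zpowers x : Subgroup G) : Set G) = ⊥ := by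
    rw [eq_bot_iff]
    intro c hc
    rw [Subgroup.mem_bot]
    by_contra hc1
    have hc' := Subgroup.mem_inf.mp hc
    have hxc : x * c = c * x :=
      (Subgroup.mem_centralizer_iff.mp hc'.2 x (Subgroup.mem_zpowers x))
    apply hQsx
    intro z hz
    rw [Subgroup.mem_centralizer_singleton_iff]
    exact (comm_of_isCyclic_of_fixed hq2 hQsq hQscyc (hxQs (Subgroup.mem_zpowers x))
      (by rw [hxr]; exact (Nat.coprime_primes hrp hqp).mpr hqr) hc'.1 hc1 hxc z hz).symm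
  -- `Q*` is a Sylow subgroup of `H ∩ M`
  have hsyl : IsSylIn q Qs (H ⊓ M) := by
    obtain ⟨S', hS', hQsS'⟩ := exists_isSylIn_ge hQsq (le_inf hQsH hQsM)
    have hS'Ms : S' ≤ Cfsg.sigmaCore M :=
      BGEx.le_sigmaCore hG hM hqM hS'.isPGroup (hS'.1.trans inf_le_right)
    have hS'T : S' ≤ T3 := by
      rw [← hMsH]
      exact le_inf hS'Ms (hS'.1.trans inf_le_left)
    have h1 : S' = Qs := hQs.eq_of_le hS'.isPGroup hQsS' hS'T
    rwa [h1] at hS'
  -- `r ∈ τ₁(H)`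
  obtain ⟨t, ht, htx⟩ := SetLike.not_le_iff_exists.mp hnc
  have hxt : x * t ≠ t * x := by
    intro hxt
    apply htx
    rw [Subgroup.mem_centralizer_singleton_iff]
    exact hxt.symm
  have hrτ1H : r ∈ Cfsg.tau1 H :=
    Cfsg.Agent.Lib.Helper24.BGC2C.mem_tau1_of_not_comm hG hM hH hnconj hrσ
      (IsPGroup.of_card (n := 1) (by rw [hPc, pow_one]))
      (Subgroup.zpowers_le.mpr (h.hEM hxE)) (Subgroup.zpowers_le.mpr (hEH hxE))
      (Subgroup.mem_zpowers x) (hMsH ▸ ht) hxt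
  -- `N_G(Q*) ≤ M`
  have hNQs : Subgroup.normalizer (Qs : Set G) ≤ M :=
    Cfsg.Agent.Lib.Helper24.BGC2C.normalizer_le_of_isSylIn_cent hG hM hE h.E3_le_commutator
      (hT3 ▸ hQs) hQs1
  have hAsym' : Asym H M r (Subgroup.zpowers x) q Qs :=
    ⟨hH, hM, nonconj_symm hnconj, hrτ1H, hPc, Subgroup.zpowers_le.mpr (hEH hxE),
      Subgroup.zpowers_le.mpr (h.hEM hxE), hqp, hsyl, hxQs, hfpf, hNQs⟩
  exact thm13_12 hG hAsym hAsym'
    (Cfsg.Agent.Lib.Helper24.BGReg.h28G_of_h1428 h28 M hM)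
    (Cfsg.Agent.Lib.Helper24.BGReg.corR_of_h1428 hG h28 hM)
    (Cfsg.Agent.Lib.Helper24.BGReg.corG1_of_h1428 hG h28 hM)
    (Cfsg.Agent.Lib.Helper24.BGReg.h28G_of_h1428 h28 H hH)
    (Cfsg.Agent.Lib.Helper24.BGReg.corR_of_h1428 hG h28 hH)
    (Cfsg.Agent.Lib.Helper24.BGReg.corG1_of_h1428 hG h28 hH)

end Cfsg.Agent.Lib.Helper2.BGCor
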