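import Mathlib
import Cfsg.Agent.Lib.Helper2.BGCorW
import Cfsg.Agent.Lib.Helper1.Coprime
import Cfsg.Agent.Lib.Helper12.ItoGroup
import Cfsg.Agent.Lib.Helper17.BGFitA

/-!
# General lemmas for B & G 15.1 / 15.2 (helper2)

* `quot_fpf_nilpotent`: if `k` of prime order `s` normalizes `N`, `Q ≤ N` is normal in the whole
  group with `s ∤ |Q|`, and `C_N(k) ≤ Q`, then the image of `N` in `X ⧸ Q` is nilpotent (Thompson).
* `not_dvd_card_map_pCore`: if `N` is normal and its image in `X ⧸ O_q(X)` is nilpotent, then `q`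
  does not divide the order of this image.
-/

set_option autoImplicit false
set_option linter.style.haveILetI false
set_option linter.unusedVariables false
open scoped commutatorElement

namespace Cfsg.Agent.Lib.Helper2.BGCor

open Cfsg

section general

variable {X : Type*} [Group X]

/-- **Thompson on a quotient.**  `k` of prime order `s` normalizes `N`; `Q ≤ N` is normal in `X` of
order prime to `s`; `C_N(k) ≤ Q`.  Then `N Q / Q` is nilpotent. -/
theorem quot_fpf_nilpotent [Finite X] (N Q : Subgroup X) [Q.Normal] {k : X} {s : ℕ} (hs : s.Prime)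
    (hQN : Q ≤ N) (hkN : k ∈ Subgroup.normalizer (N : Set X)) (hks : k ^ s = 1)
    (hsQ : ¬ s ∣ Nat.card Q)
    (hC : N ⊓ Subgroup.centralizer ({k} : Set X) ≤ Q) :
    Group.IsNilpotent ↥(N.map (QuotientGroup.mk' Q)) := by
  apply isNilpotent_of_fpf_conj (k := QuotientGroup.mk' Q k) hs
  · exact Subgroup.le_normalizer_map (QuotientGroup.mk' Q) (Subgroup.mem_map_of_mem _ hkN)
  · rw [← map_pow, hks, map_one]
  · rw [eq_bot_iff]
    rintro xb ⟨hxN, hxC⟩
    obtain ⟨x, hx, rfl⟩ := hxN
    rw [Subgroup.mem_bot]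
    have hcomm : QuotientGroup.mk' Q k * QuotientGroup.mk' Q x =
        QuotientGroup.mk' Q x * QuotientGroup.mk' Q k := by
      have := Subgroup.mem_centralizer_iff.mp hxC (QuotientGroup.mk' Q k) rfl
      exact this
    set A : Subgroup X := Subgroup.zpowers k with hA
    have hAQ : A ≤ Subgroup.normalizer (Q : Set X) := by
      rw [Subgroup.normalizer_eq_top]; exact le_top
    have hcardA : Nat.card A ∣ s := by
      rw [hA, Nat.card_zpowers]; exact orderOf_dvd_of_pow_eq_one hks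
    have hcop : (Nat.card A).Coprime (Nat.card Q) :=
      Nat.Coprime.coprime_dvd_left hcardA ((Nat.Prime.coprime_iff_not_dvd hs).mpr hsQ)
    have hAsolv : Group.IsSolvable A := by rw [hA]; infer_instance
    have hxa : ∀ a ∈ A, x⁻¹ * a * x * a⁻¹ ∈ Q := by
      intro a ha
      obtain ⟨i, rfl⟩ := Subgroup.mem_zpowers_iff.mp ha
      rw [← QuotientGroup.eq_one_iff, ← QuotientGroup.mk'_apply]
      simp only [map_mul, map_inv, map_zpow]
      have h1 : Commute (QuotientGroup.mk' Q k ^ i) (QuotientGroup.mk' Q x) :=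
        (show Commute (QuotientGroup.mk' Q k) (QuotientGroup.mk' Q x) from hcomm).zpow_left i
      rw [mul_assoc ((QuotientGroup.mk' Q x)⁻¹), h1.eq, ← mul_assoc, inv_mul_cancel, one_mul,
        mul_inv_cancel]
    obtain ⟨n, hn, hxn⟩ := Cfsg.Agent.Lib.Helper1.exists_mul_mem_centralizer hAQ hcop
      (Or.inl hAsolv) x hxa
    have hxnN : x * n ∈ N := N.mul_mem hx (hQN hn)
    have hxnC : x * n ∈ Subgroup.centralizer ({k} : Set X) := by
      rw [Subgroup.mem_centralizer_iff]
      intro h hh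
      rw [Set.mem_singleton_iff] at hh
      subst hh
      exact Subgroup.mem_centralizer_iff.mp hxn h (Subgroup.mem_zpowers h)
    have hxnQ : x * n ∈ Q := hC ⟨hxnN, hxnC⟩
    have hxQ : x ∈ Q := by
      have : x = (x * n) * n⁻¹ := by group
      rw [this]
      exact Q.mul_mem hxnQ (Q.inv_mem hn)
    exact (QuotientGroup.eq_one_iff x).mpr hxQ

/-- If `N` is normal in `X` and its image in `X ⧸ O_q(X)` is nilpotent, then `q` does not divide the
order of that image. -/
theorem not_dvd_card_map_pCore [Finite X] (q : ℕ) [Fact q.Prime] (N : Subgroup X) [hN : N.Normal]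
    [hO : (Cfsg.pCore q X).Normal]
    (hnil : Group.IsNilpotent ↥(N.map (QuotientGroup.mk' (Cfsg.pCore q X)))) :
    ¬ q ∣ Nat.card ↥(N.map (QuotientGroup.mk' (Cfsg.pCore q X))) := by
  intro hdvd
  set Nb : Subgroup (X ⧸ Cfsg.pCore q X) := N.map (QuotientGroup.mk' (Cfsg.pCore q X)) with hNb
  have hNbn : Nb.Normal :=
    Subgroup.Normal.map hN _ (QuotientGroup.mk'_surjective (Cfsg.pCore q X))
  have hbot : Cfsg.pCore q (X ⧸ Cfsg.pCore q X) = ⊥ :=
    Cfsg.Agent.Lib.Helper12.ItoGroup.pCore_quot_pCore_eq_bot q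
  have hfit : Nb ≤ Cfsg.fittingOf Nb :=
    Cfsg.Agent.Lib.Helper17.PrimeAct.le_fittingOf Nb Nb le_rfl Subgroup.le_normalizer hnil
  have hfit' : Cfsg.fittingOf Nb = Nb :=
    le_antisymm (Cfsg.Agent.Lib.Helper17.PrimeAct.fittingOf_le Nb) hfit
  have hne : Cfsg.pCoreOf q Nb ≠ ⊥ := by
    apply Cfsg.Agent.Lib.Helper17.BGU.pCoreOf_ne_bot_of_dvd_card_fittingOf
    rw [hfit']
    exact hdvd
  apply hne
  have hnorm : (Cfsg.pCoreOf q Nb).Normal := by
    rw [← Subgroup.normalizer_eq_top_iff]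
    have h1 := Cfsg.Agent.Lib.Helper17.PrimeAct.normalizer_le_normalizer_pCoreOf q Nb
    rw [Subgroup.normalizer_eq_top_iff.mpr hNbn] at h1
    exact top_le_iff.mp h1
  have h2 : Cfsg.pCoreOf q Nb ≤ Cfsg.pCore q (X ⧸ Cfsg.pCore q X) :=
    Cfsg.Agent.Lib.Helper1.le_pCore hnorm
      (Cfsg.Agent.Lib.Helper17.PrimeAct.pCoreOf_isPGroup q Nb)
  rw [hbot] at h2
  exact le_bot_iff.mp h2

/-- `|N| = |Q| · |N Q / Q|` for `Q ≤ N`, `Q` normal. -/
theorem card_eq_card_mul_card_map (N Q : Subgroup X) [Q.Normal] (hQN : Q ≤ N) :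
    Nat.card N = Nat.card Q * Nat.card ↥(N.map (QuotientGroup.mk' Q)) := by
  have h1 := Cfsg.Agent.Lib.Helper12.card_comap_mk' Q (N.map (QuotientGroup.mk' Q))
  have h2 : (N.map (QuotientGroup.mk' Q)).comap (QuotientGroup.mk' Q) = N := by
    rw [Subgroup.comap_map_eq_self]
    rw [QuotientGroup.ker_mk']
    exact hQN
  rw [h2] at h1
  exact h1

/-- nilpotency of the image of `N` passes from `X ⧸ Q` to `X ⧸ H` for `Q ≤ H`. -/
theorem nilpotent_map_mk'_of_le (N Q H : Subgroup X) [Q.Normal] [H.Normal] (hQH : Q ≤ H)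
    (hnil : Group.IsNilpotent ↥(N.map (QuotientGroup.mk' Q))) :
    Group.IsNilpotent ↥(N.map (QuotientGroup.mk' H)) := by
  set π : X ⧸ Q →* X ⧸ H := QuotientGroup.map Q H (MonoidHom.id X) (by
    intro x hx
    simpa using hQH hx) with hπ
  have h1 : N.map (QuotientGroup.mk' H) = (N.map (QuotientGroup.mk' Q)).map π := by
    rw [Subgroup.map_map]
    congr 1
  rw [h1]
  exact Group.nilpotent_of_surjective (π.subgroupMap _) (π.subgroupMap_surjective _)

/-- a subgroup of a nilpotent subgroup is nilpotent. -/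
theorem isNilpotent_of_le' {A B : Subgroup X} (h : A ≤ B) (hB : Group.IsNilpotent ↥B) :
    Group.IsNilpotent ↥A := by
  apply Subgroup.isNilpotent_of_ker_le_center (Subgroup.inclusion h)
  rw [(MonoidHom.ker_eq_bot_iff _).mpr (Subgroup.inclusion_injective h)]
  exact bot_le

/-- `M' ≤ N` in subgroup-type form. -/
theorem commutator_le_subgroupOf {M N : Subgroup X} (h : ⁅M, M⁆ ≤ N) :
    commutator ↥M ≤ N.subgroupOf M := by
  rw [commutator_def, Subgroup.commutator_le]
  intro a _ b _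
  rw [Subgroup.mem_subgroupOf]
  have := Subgroup.commutator_mem_commutator a.2 b.2
  have e : ((⁅a, b⁆ : ↥M) : X) = ⁅(a : X), (b : X)⁆ := by
    simp [commutatorElement_def]
  rw [e]
  exact h this

end general

end Cfsg.Agent.Lib.Helper2.BGCor
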