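import Mathlib
import Cfsg.Agent.Lib.Helper2.BGCorX
import Cfsg.Agent.Lib.Helper17.PrimeAct4
import Cfsg.Agent.Lib.Helper17.CoprimeGen
import Cfsg.Agent.Lib.Helper12.CNMinF
import Cfsg.Agent.Lib.Helper9.BG144B

/-!
# B & G 15.1 (a)-(d), light version (helper2)

`M` maximal with `M_σ` *not* assumed nilpotent, `K ≠ 1` a Hall `κ(M)`-subgroup acting in a prime
manner on `M_σ` with `K* = C_{M_σ}(K)` of prime order `q` and `K* ≤ (M_σ)'`.  Then `K* ≤ O_q(M)`,
`M_σ / O_q(M)` is nilpotent, `O_q(M)` is a Sylow `q`-subgroup of `M_σ` and `O_q(M) ≤ M_F`.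
-/

set_option autoImplicit false
set_option linter.style.haveILetI false
set_option linter.unusedVariables false
set_option linter.unusedSectionVars false
open scoped commutatorElement

namespace Cfsg.Agent.Lib.Helper2.BGCor

open Cfsg

variable {G : Type*} [Group G]

/-- `[N, N] ≤ F` when `N = C F` with `C` commutative and `F` normal in `N`. -/
theorem commutator_le_of_le_sup {N C F : Subgroup G} (hCN : C ≤ N) (hFN : F ≤ N)
    (hn : N ≤ Subgroup.normalizer (F : Set G)) (hsup : N ≤ C ⊔ F)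
    (hC : ∀ a ∈ C, ∀ b ∈ C, a * b = b * a) : ⁅N, N⁆ ≤ F := by
  rw [Subgroup.commutator_le]
  intro a ha b hb
  haveI hF'n : (F.subgroupOf N).Normal := (Subgroup.normal_subgroupOf_iff_le_normalizer hFN).mpr hn
  have htop : C.subgroupOf N ⊔ F.subgroupOf N = ⊤ := by
    rw [← Subgroup.subgroupOf_sup hCN hFN, Subgroup.subgroupOf_eq_top]
    exact hsup
  have hdec : ∀ y : ↥N, ∃ c ∈ C.subgroupOf N,
      QuotientGroup.mk' (F.subgroupOf N) y = QuotientGroup.mk' (F.subgroupOf N) c := by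
    intro y
    have hy : y ∈ C.subgroupOf N ⊔ F.subgroupOf N := by rw [htop]; exact Subgroup.mem_top y
    rw [Subgroup.mem_sup_of_normal_right] at hy
    obtain ⟨c, hc, z, hz, rfl⟩ := hy
    refine ⟨c, hc, ?_⟩
    have hz1 : QuotientGroup.mk' (F.subgroupOf N) z = 1 := (QuotientGroup.eq_one_iff z).mpr hz
    rw [map_mul, hz1, mul_one]
  obtain ⟨c₁, hc₁, h1⟩ := hdec ⟨a, ha⟩
  obtain ⟨c₂, hc₂, h2⟩ := hdec ⟨b, hb⟩
  have hcc : c₁ * c₂ = c₂ * c₁ := by
    apply Subtype.ext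
    exact hC _ (Subgroup.mem_subgroupOf.mp hc₁) _ (Subgroup.mem_subgroupOf.mp hc₂)
  have h3 : QuotientGroup.mk' (F.subgroupOf N) ⁅(⟨a, ha⟩ : ↥N), ⟨b, hb⟩⁆ = 1 := by
    rw [map_commutatorElement, h1, h2, ← map_commutatorElement,
      commutatorElement_eq_one_iff_mul_comm.mpr hcc, map_one]
  have h4 : ⁅(⟨a, ha⟩ : ↥N), ⟨b, hb⟩⁆ ∈ F.subgroupOf N := (QuotientGroup.eq_one_iff _).mp h3
  rw [Subgroup.mem_subgroupOf] at h4
  simpa [commutatorElement_def] using h4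

/-- a subgroup of prime order meeting `F` nontrivially lies in `F`. -/
theorem le_of_prime_card_of_inf_ne_bot [Finite G] {C F : Subgroup G} (hq : (Nat.card C).Prime)
    (h : F ⊓ C ≠ ⊥) : C ≤ F := by
  have h1 : Nat.card ↥(F ⊓ C) ∣ Nat.card C := Subgroup.card_dvd_of_le inf_le_right
  rcases (Nat.dvd_prime hq).mp h1 with h2 | h2
  · exact absurd (Subgroup.card_eq_one.mp h2) h
  · have h3 : F ⊓ C = C := Subgroup.eq_of_le_of_card_ge inf_le_right h2.ge
    rw [← h3]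
    exact inf_le_left

/-- the index of a Sylow subgroup is prime to `q`. -/
theorem IsSylIn_not_dvd_relIndex [Finite G] {q : ℕ} [Fact q.Prime] {S L : Subgroup G}
    (h : Cfsg.Agent.Lib.Helper8.IsSylIn q S L) : ¬ q ∣ S.relIndex L := by
  have hq : q.Prime := Fact.out
  intro hd
  have h1 : Nat.card L = S.relIndex L * Nat.card S := by
    have := (S.subgroupOf L).card_mul_index
    rw [Cfsg.Agent.Lib.Helper1.card_subgroupOf_of_le h.1] at this
    rw [← this, mul_comm]; rfl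
  obtain ⟨v, hv⟩ : ∃ v, v = (Nat.card L).factorization q := ⟨_, rfl⟩
  have hS : Nat.card S = q ^ v := by rw [hv]; exact h.2
  have h2 : q ^ (v + 1) ∣ Nat.card L := by
    rw [h1, hS, pow_succ, mul_comm]
    exact Nat.mul_dvd_mul hd dvd_rfl
  have h3 := (Nat.Prime.pow_dvd_iff_le_factorization hq Nat.card_pos.ne').mp h2
  omega

section caseB

variable [Finite G] (hG : Cfsg.IsMinSimpleOddOrder G) {M K : Subgroup G} (hM : IsCoatom M)
  (hK : Cfsg.IsPiHallOf (Cfsg.kappa M) K M) (hK1 : K ≠ ⊥)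
  (hA : ∀ k ∈ K, k ≠ 1 → Cfsg.sigmaCore M ⊓ Subgroup.centralizer ({k} : Set G) =
      Cfsg.sigmaCore M ⊓ Subgroup.centralizer (K : Set G))
  {q : ℕ} [hqf : Fact q.Prime]
  (hq : Nat.card ↥(Cfsg.sigmaCore M ⊓ Subgroup.centralizer (K : Set G)) = q)
  (h65 : Cfsg.sigmaCore M ⊓ Subgroup.centralizer (K : Set G) ≤
      ⁅Cfsg.sigmaCore M, Cfsg.sigmaCore M⁆)

include hG hM hK hK1 hA hq h65

/-- `K* ≤ F(M_σ)`. -/
theorem kstar_le_fittingOf :
    Cfsg.sigmaCore M ⊓ Subgroup.centralizer (K : Set G) ≤ Cfsg.fittingOf (Cfsg.sigmaCore M) := by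
  set N := Cfsg.sigmaCore M with hN
  set Ks := N ⊓ Subgroup.centralizer (K : Set G) with hKs
  have hqp : q.Prime := hqf.out
  have hKsp : (Nat.card Ks).Prime := by rw [hq]; exact hqp
  apply le_of_prime_card_of_inf_ne_bot hKsp
  intro hbot
  -- an element of prime order of `K`
  obtain ⟨k, hkK, hk1⟩ := (Subgroup.bot_or_exists_ne_one K).resolve_left hK1
  obtain ⟨j, hj⟩ := exists_pow_prime_order hk1
  set x := k ^ j with hx
  have hxK : x ∈ K := K.pow_mem hkK j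
  rw [Nat.card_zpowers] at hj
  set s := orderOf x with hs
  have hx1 : x ≠ 1 := by
    intro h
    rw [hs, h, orderOf_one] at hj
    exact Nat.not_prime_one hj
  have hxs : x ^ s = 1 := pow_orderOf_eq_one x
  have hxM : x ∈ M := hK.1 hxK
  -- `s ∈ κ(M)`, so `s ∤ |M_σ|`
  have hsK : s ∣ Nat.card K := orderOf_dvd_natCard (⟨x, hxK⟩ : ↥K) |> fun h => by
    rwa [Subgroup.orderOf_mk] at h
  have hsκ : s ∈ Cfsg.kappa M := hK.2.1 s hj hsK
  have hsN : ¬ s ∣ Nat.card N := fun h => hsκ.2.2.1 (primes_card_sigmaCore M s hj h)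
  have hxN : x ∈ Subgroup.normalizer (N : Set G) :=
    Cfsg.Agent.Lib.Helper2.BGCor.le_normalizer_sigmaCore M hxM
  haveI : Group.IsSolvable ↥M := hG.2.2.2 M hM.1
  have hNM : N ≤ M := sigmaCore_le M
  have hNsolv : Group.IsSolvable ↥N :=
    Group.isSolvable_of_isSolvable_injective (Subgroup.inclusion_injective hNM)
  have hodd : Odd (Nat.card N) := by
    have h1 : Nat.card N ∣ Nat.card G := Subgroup.card_subgroup_dvd_card N
    exact Odd.of_dvd_nat hG.1 h1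
  have hCx : N ⊓ Subgroup.centralizer ({x} : Set G) = Ks := hA x hxK hx1
  have hfix : ∀ f ∈ Cfsg.fittingOf N, x * f = f * x → f = 1 := by
    intro f hf hxf
    have hfN : f ∈ N := Cfsg.Agent.Lib.Helper17.PrimeAct.fittingOf_le N hf
    have hfC : f ∈ Subgroup.centralizer ({x} : Set G) := by
      rw [Subgroup.mem_centralizer_iff]
      intro h hh
      rw [Set.mem_singleton_iff] at hh
      subst hh
      exact hxf
    have : f ∈ Cfsg.fittingOf N ⊓ Ks := ⟨hf, hCx ▸ ⟨hfN, hfC⟩⟩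
    rw [hbot, Subgroup.mem_bot] at this
    exact this
  have hcomm := Cfsg.Agent.Lib.Helper17.PrimeAct.comm_mem_fittingOf x hj hxs (Nat.card N) N rfl hxN
    hNsolv hodd hsN hfix
  set F := Cfsg.fittingOf N with hF
  have hFN : F ≤ N := Cfsg.Agent.Lib.Helper17.PrimeAct.fittingOf_le N
  have hNF : Subgroup.normalizer (N : Set G) ≤ Subgroup.normalizer (F : Set G) :=
    Cfsg.Agent.Lib.Helper17.PrimeAct.normalizer_le_normalizer_fittingOf N
  set A : Subgroup G := Subgroup.zpowers x with hAdef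
  have hAN : A ≤ Subgroup.normalizer (N : Set G) := by
    rw [hAdef, Subgroup.zpowers_le]; exact hxN
  have hcardA : Nat.card A = s := Nat.card_zpowers x
  have hcop : (Nat.card A).Coprime (Nat.card N) := by
    rw [hcardA]; exact (Nat.Prime.coprime_iff_not_dvd hj).mpr hsN
  have hAsolv : Group.IsSolvable A := by rw [hAdef]; infer_instance
  have hdec := Cfsg.Agent.Lib.Helper17.le_centralizer_sup_commutator A N hAN hcop (Or.inl hAsolv)
  have hcF : ⁅N, A⁆ ≤ F :=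
    Cfsg.Agent.Lib.Helper17.PrimeAct.commutator_zpowers_le (hNF hxN) hcomm
  have hCA : N ⊓ Subgroup.centralizer (A : Set G) ≤ Ks := by
    rintro y ⟨hyN, hyC⟩
    rw [← hCx]
    refine ⟨hyN, ?_⟩
    show y ∈ Subgroup.centralizer ({x} : Set G)
    rw [Subgroup.mem_centralizer_iff]
    intro h hh
    rw [Set.mem_singleton_iff] at hh
    rw [hh]
    exact Subgroup.mem_centralizer_iff.mp hyC x (Subgroup.mem_zpowers x)
  have hsup : N ≤ Ks ⊔ F := hdec.trans (sup_le_sup hCA hcF)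
  have hKsN : Ks ≤ N := inf_le_left
  have hKscomm : ∀ a ∈ Ks, ∀ b ∈ Ks, a * b = b * a := by
    haveI : Fact (Nat.card Ks).Prime := ⟨hKsp⟩
    haveI : IsCyclic ↥Ks := isCyclic_of_prime_card rfl
    intro a ha b hb
    have := IsCyclic.commGroup.mul_comm (⟨a, ha⟩ : ↥Ks) ⟨b, hb⟩
    exact congrArg Subtype.val this
  have hder : ⁅N, N⁆ ≤ F :=
    commutator_le_of_le_sup hKsN hFN (Subgroup.le_normalizer.trans hNF) hsup hKscomm
  have hKsF : Ks ≤ F := h65.trans hder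
  have : Ks = ⊥ := by
    rw [eq_bot_iff, ← hbot]
    exact le_inf hKsF le_rfl
  rw [this, Subgroup.card_bot] at hKsp
  exact Nat.not_prime_one hKsp

/-- `K*` is a `q`-group. -/
theorem kstar_isPGroup :
    IsPGroup q ↥(Cfsg.sigmaCore M ⊓ Subgroup.centralizer (K : Set G)) := by
  apply IsPGroup.of_card (n := 1)
  rw [hq, pow_one]

/-- `q ∈ σ(M)`. -/
theorem q_mem_sigma : q ∈ Cfsg.sigma M := by
  apply primes_card_sigmaCore M q hqf.out
  rw [← hq]
  exact Subgroup.card_dvd_of_le inf_le_left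

/-- `K* ≤ O_q(M)`. -/
theorem kstar_le_pCoreOf :
    Cfsg.sigmaCore M ⊓ Subgroup.centralizer (K : Set G) ≤ Cfsg.pCoreOf q M := by
  have h1 := kstar_le_fittingOf hG hM hK hK1 hA hq h65
  have h2 := Cfsg.Agent.Lib.Helper17.BGU.le_pCoreOf_of_le_fittingOf h1
    (kstar_isPGroup hG hM hK hK1 hA hq h65)
  exact h2.trans (Cfsg.Agent.Lib.Helper17.BGU.pCoreOf_le_pCoreOf_of_normal (sigmaCore_le M)
    (Cfsg.Agent.Lib.Helper2.BGCor.le_normalizer_sigmaCore M))

/-- `O_q(M) ≤ M_σ`. -/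
theorem pCoreOf_le_sigmaCore : Cfsg.pCoreOf q M ≤ Cfsg.sigmaCore M :=
  Cfsg.Agent.Lib.Helper8.BGEx.le_sigmaCore hG hM (q_mem_sigma hG hM hK hK1 hA hq h65)
    (Cfsg.Agent.Lib.Helper17.PrimeAct.pCoreOf_isPGroup q M)
    (Cfsg.Agent.Lib.Helper17.PrimeAct.pCoreOf_le q M)

/-- the image of `M_σ` in `M / O_q(M)` is nilpotent. -/
theorem caseB_quot_nilpotent [hO : (Cfsg.pCore q ↥M).Normal] :
    Group.IsNilpotent
      ↥(((Cfsg.sigmaCore M).subgroupOf M).map (QuotientGroup.mk' (Cfsg.pCore q ↥M))) := by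
  set N := Cfsg.sigmaCore M with hN
  set Ks := N ⊓ Subgroup.centralizer (K : Set G) with hKs
  have hqp : q.Prime := hqf.out
  -- an element of prime order of `K`
  obtain ⟨k, hkK, hk1⟩ := (Subgroup.bot_or_exists_ne_one K).resolve_left hK1
  obtain ⟨j, hj⟩ := exists_pow_prime_order hk1
  set x := k ^ j with hx
  have hxK : x ∈ K := K.pow_mem hkK j
  rw [Nat.card_zpowers] at hj
  set s := orderOf x with hs
  have hx1 : x ≠ 1 := by
    intro h
    rw [hs, h, orderOf_one] at hj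
    exact Nat.not_prime_one hj
  have hxs : x ^ s = 1 := pow_orderOf_eq_one x
  have hxM : x ∈ M := hK.1 hxK
  have hsK : s ∣ Nat.card K := orderOf_dvd_natCard (⟨x, hxK⟩ : ↥K) |> fun h => by
    rwa [Subgroup.orderOf_mk] at h
  have hsκ : s ∈ Cfsg.kappa M := hK.2.1 s hj hsK
  have hqσ : q ∈ Cfsg.sigma M := q_mem_sigma hG hM hK hK1 hA hq h65
  have hsq : s ≠ q := by
    intro h
    exact hsκ.2.2.1 (h ▸ hqσ)
  have hCx : N ⊓ Subgroup.centralizer ({x} : Set G) = Ks := hA x hxK hx1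
  have hNn : (N.subgroupOf M).Normal :=
    (Subgroup.normal_subgroupOf_iff_le_normalizer (sigmaCore_le M)).mpr
      (Cfsg.Agent.Lib.Helper2.BGCor.le_normalizer_sigmaCore M)
  have hQN : Cfsg.pCore q ↥M ≤ N.subgroupOf M := by
    intro y hy
    rw [Subgroup.mem_subgroupOf]
    exact pCoreOf_le_sigmaCore hG hM hK hK1 hA hq h65 ⟨y, hy, rfl⟩
  apply quot_fpf_nilpotent (N.subgroupOf M) (Cfsg.pCore q ↥M) (k := (⟨x, hxM⟩ : ↥M)) hj hQN
  · rw [Subgroup.normalizer_eq_top_iff.mpr hNn]; exact Subgroup.mem_top _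
  · apply Subtype.ext
    simpa using hxs
  · intro hd
    have hp : IsPGroup q ↥(Cfsg.pCore q ↥M) := Cfsg.Agent.Lib.Helper1.pCore_isPGroup q ↥M
    obtain ⟨n, hn⟩ := IsPGroup.iff_card.mp hp
    rw [hn] at hd
    exact hsq ((Nat.prime_dvd_prime_iff_eq hj hqp).mp (hj.dvd_of_dvd_pow hd))
  · rintro y ⟨hyN, hyC⟩
    have hyN' : (y : G) ∈ N := Subgroup.mem_subgroupOf.mp hyN
    have hyC' : (y : G) ∈ Subgroup.centralizer ({x} : Set G) := by
      rw [Subgroup.mem_centralizer_iff]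
      intro h hh
      rw [Set.mem_singleton_iff] at hh
      rw [hh]
      have := Subgroup.mem_centralizer_iff.mp hyC (⟨x, hxM⟩ : ↥M) rfl
      exact congrArg Subtype.val this
    have hyKs : (y : G) ∈ Ks := hCx ▸ ⟨hyN', hyC'⟩
    obtain ⟨z, hz, hzy⟩ := kstar_le_pCoreOf hG hM hK hK1 hA hq h65 hyKs
    have : z = y := Subtype.ext hzy
    rw [← this]
    exact hz

/-- `O_q(M)` is a Sylow `q`-subgroup of `M_σ`. -/
theorem pCoreOf_isSylIn :
    Cfsg.Agent.Lib.Helper8.IsSylIn q (Cfsg.pCoreOf q M) (Cfsg.sigmaCore M) := by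
  have hqp : q.Prime := hqf.out
  haveI hO : (Cfsg.pCore q ↥M).Normal := Cfsg.Agent.Lib.Helper1.pCore_normal q ↥M
  set N := Cfsg.sigmaCore M with hN
  have hnil := caseB_quot_nilpotent hG hM hK hK1 hA hq h65
  haveI hNn : (N.subgroupOf M).Normal :=
    (Subgroup.normal_subgroupOf_iff_le_normalizer (sigmaCore_le M)).mpr
      (Cfsg.Agent.Lib.Helper2.BGCor.le_normalizer_sigmaCore M)
  have hnd := not_dvd_card_map_pCore q (N.subgroupOf M) hnil
  have hQN : Cfsg.pCore q ↥M ≤ N.subgroupOf M := by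
    intro y hy
    rw [Subgroup.mem_subgroupOf]
    exact pCoreOf_le_sigmaCore hG hM hK hK1 hA hq h65 ⟨y, hy, rfl⟩
  have hcard := card_eq_card_mul_card_map (N.subgroupOf M) (Cfsg.pCore q ↥M) hQN
  rw [Cfsg.Agent.Lib.Helper1.card_subgroupOf_of_le (sigmaCore_le M)] at hcard
  have hcQ : Nat.card (Cfsg.pCoreOf q M) = Nat.card ↥(Cfsg.pCore q ↥M) :=
    Subgroup.card_map_of_injective M.subtype_injective
  have hp : IsPGroup q ↥(Cfsg.pCoreOf q M) := Cfsg.Agent.Lib.Helper17.PrimeAct.pCoreOf_isPGroup q M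
  obtain ⟨n, hn⟩ := IsPGroup.iff_card.mp hp
  refine ⟨pCoreOf_le_sigmaCore hG hM hK hK1 hA hq h65, ?_⟩
  rw [hn, hcard, ← hcQ, hn]
  congr 1
  rw [Nat.factorization_mul (pow_pos hqp.pos n).ne' Nat.card_pos.ne']
  simp only [Finsupp.coe_add, Pi.add_apply]
  rw [Nat.Prime.factorization_pow hqp, Nat.factorization_eq_zero_of_not_dvd hnd]
  simp

/-- `O_q(M) ≤ M_F`. -/
theorem pCoreOf_le_fittingHallOf : Cfsg.pCoreOf q M ≤ Cfsg.fittingHallOf M := by
  have hqp : q.Prime := hqf.out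
  have hS := pCoreOf_isSylIn hG hM hK hK1 hA hq h65
  have hS' := Cfsg.Agent.Lib.Helper8.BGEx.isSylIn_of_sigmaCore hG hM
    (q_mem_sigma hG hM hK hK1 hA hq h65) hS
  have hp : IsPGroup q ↥(Cfsg.pCoreOf q M) := Cfsg.Agent.Lib.Helper17.PrimeAct.pCoreOf_isPGroup q M
  apply Cfsg.Agent.Lib.Helper12.CNMin.le_fittingHallOf M _ (Cfsg.Agent.Lib.Helper17.PrimeAct.pCoreOf_le q M)
    (Cfsg.Agent.Lib.Helper17.BGU.le_normalizer_pCoreOf q M) hp.isNilpotent
  obtain ⟨n, hn⟩ := IsPGroup.iff_card.mp hp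
  rw [hn]
  exact Nat.Coprime.pow_left n
    ((Nat.Prime.coprime_iff_not_dvd hqp).mpr (IsSylIn_not_dvd_relIndex hS'))

/-- `K* ≤ M_F`. -/
theorem kstar_le_fittingHallOf :
    Cfsg.sigmaCore M ⊓ Subgroup.centralizer (K : Set G) ≤ Cfsg.fittingHallOf M :=
  (kstar_le_pCoreOf hG hM hK hK1 hA hq h65).trans
    (pCoreOf_le_fittingHallOf hG hM hK hK1 hA hq h65)

/-- `M' M_F / M_F` is nilpotent, if `M' ≤ M_σ`. -/
theorem caseB_derived_nilpotent (hder : ⁅M, M⁆ ≤ Cfsg.sigmaCore M) :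
    Group.IsNilpotent
      ↥((commutator ↥M).map (QuotientGroup.mk' (Cfsg.fittingHall ↥M))) := by
  haveI hO : (Cfsg.pCore q ↥M).Normal := Cfsg.Agent.Lib.Helper1.pCore_normal q ↥M
  have hnil := caseB_quot_nilpotent hG hM hK hK1 hA hq h65
  have hQH : Cfsg.pCore q ↥M ≤ Cfsg.fittingHall ↥M := by
    intro y hy
    obtain ⟨z, hz, hzy⟩ := pCoreOf_le_fittingHallOf hG hM hK hK1 hA hq h65 ⟨y, hy, rfl⟩
    have : z = y := Subtype.ext hzy
    rw [← this]
    exact hz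
  have h2 := nilpotent_map_mk'_of_le ((Cfsg.sigmaCore M).subgroupOf M) (Cfsg.pCore q ↥M)
    (Cfsg.fittingHall ↥M) hQH hnil
  exact isNilpotent_of_le' (Subgroup.map_mono (commutator_le_subgroupOf hder)) h2

end caseB

end Cfsg.Agent.Lib.Helper2.BGCor
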