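import Mathlib
import Cfsg.Agent.Lib.Helper2.BGCorY
import Cfsg.Agent.Lib.Helper8.BGEx5

/-!
# B & G 15.2 (a), (c): assembly lemmas for S1355 and S1364 (helper2)
-/

set_option autoImplicit false
set_option linter.style.haveILetI false
set_option linter.unusedVariables false
set_option linter.unusedSectionVars false
open scoped commutatorElement

namespace Cfsg.Agent.Lib.Helper2.BGCor

open Cfsg

variable {G : Type*} [Group G]

/-- the orders in a complement decomposition. -/
theorem card_complIn' {A B M : Subgroup G} (h : Cfsg.IsComplIn A B M) :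
    Nat.card A * Nat.card B = Nat.card M := by
  obtain ⟨hAM, hBM, hAB, hprod⟩ := h
  have hc : Cfsg.Agent.Lib.Helper1.IsComplIn A B M :=
    ⟨hAM, hBM, disjoint_iff.mpr hAB, fun m hm => by
      obtain ⟨a, ha, b, hb, hab⟩ := hprod m hm
      exact ⟨a, ha, b, hb, hab.symm⟩⟩
  exact hc.card_mul_card

/-- if `M = U B` with `U ∩ B = 1` and `X ≤ B`, then `|U|` divides `|M : X|`. -/
theorem card_dvd_relIndex_of_complIn [Finite G] {U B M X : Subgroup G}
    (h : Cfsg.IsComplIn U B M) (hXB : X ≤ B) : Nat.card U ∣ X.relIndex M := by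
  have h1 := card_complIn' h
  have hXM : X ≤ M := hXB.trans h.2.1
  have h2 : Nat.card M = X.relIndex M * Nat.card X := by
    have := (X.subgroupOf M).card_mul_index
    rw [Cfsg.Agent.Lib.Helper1.card_subgroupOf_of_le hXM] at this
    rw [← this, mul_comm]; rfl
  have h3 : Nat.card B = X.relIndex B * Nat.card X := by
    have := (X.subgroupOf B).card_mul_index
    rw [Cfsg.Agent.Lib.Helper1.card_subgroupOf_of_le hXB] at this
    rw [← this, mul_comm]; rfl
  rw [h2, h3, ← mul_assoc] at h1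
  have h4 := Nat.eq_of_mul_eq_mul_right Nat.card_pos h1
  exact Dvd.intro _ h4

/-- In a standard factorisation `U = 1` as soon as all primes of `M` lie in `σ(M) ∪ κ(M)`. -/
theorem U_eq_bot_of_P1 [Finite G] {M K U : Subgroup G}
    (hHall : Cfsg.IsPiHallOf (Cfsg.sigma M) (Cfsg.sigmaCore M) M)
    (hKU : Cfsg.IsSigmaDecomposition M K U)
    (hP1 : ∀ q : ℕ, q.Prime → q ∣ Nat.card M → q ∉ Cfsg.sigma M → q ∈ Cfsg.kappa M) : U = ⊥ := by
  by_contra hU
  have hc1 : Nat.card U ≠ 1 := fun h => hU (Subgroup.card_eq_one.mp h)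
  obtain ⟨p, hp, hpd⟩ := Nat.exists_prime_and_dvd hc1
  have hpM : p ∣ Nat.card M := hpd.trans (Subgroup.card_dvd_of_le hKU.compl.1)
  have hσ : p ∉ Cfsg.sigma M := by
    intro hpσ
    exact hHall.2.2 p hp hpσ
      (hpd.trans (card_dvd_relIndex_of_complIn hKU.compl le_sup_right))
  have hκ : p ∈ Cfsg.kappa M := hP1 p hp hpM hσ
  exact hKU.hall.2.2 p hp hκ (hpd.trans (card_dvd_relIndex_of_complIn hKU.compl le_sup_left))

/-- `M' ≤ M`. -/
theorem commutator_self_le (M : Subgroup G) : ⁅M, M⁆ ≤ M :=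
  Subgroup.commutator_le.mpr (fun a ha b hb =>
    M.mul_mem (M.mul_mem (M.mul_mem ha hb) (M.inv_mem ha)) (M.inv_mem hb))

/-- `M' < M` for a nontrivial solvable subgroup. -/
theorem commutator_self_lt {M : Subgroup G} (hsolv : Group.IsSolvable ↥M) (hM1 : M ≠ ⊥) :
    ⁅M, M⁆ < M := by
  refine lt_of_le_of_ne (commutator_self_le M) ?_
  intro h
  haveI : Nontrivial ↥M := by
    rw [Subgroup.nontrivial_iff_ne_bot]; exact hM1
  have h1 := Group.IsSolvable.commutator_lt_top_of_nontrivial ↥M
  have h2 : (commutator ↥M).map M.subtype = ⁅M, M⁆ := by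
    rw [commutator_def, Subgroup.map_commutator, ← MonoidHom.range_eq_map, Subgroup.range_subtype]
  have h3 : (commutator ↥M).map M.subtype = (⊤ : Subgroup ↥M).map M.subtype := by
    rw [h2, h, ← MonoidHom.range_eq_map, Subgroup.range_subtype]
  have h4 := Subgroup.map_injective M.subtype_injective h3
  exact h1.ne h4

end Cfsg.Agent.Lib.Helper2.BGCor
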