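/-
helper2: common eigenvectors for abelian finite groups of operators; degree bound by index of
an abelian subgroup.
-/
import Mathlib
import Cfsg.Agent.Lib.Lead.CharBasic

set_option autoImplicit false

namespace Cfsg.Agent.Lib.Helper2

open Module

/-- a finite commutative group acting on a nonzero f.d. complex space has a common eigenvector -/
theorem exists_common_eigenvector {A : Type*} [Group A] [Finite A] {V : Type*} [AddCommGroup V]
    [Module ℂ V] [FiniteDimensional ℂ V] [Nontrivial V]
    (σ : Representation ℂ A V) (hcomm : ∀ a b : A, a * b = b * a) :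
    ∃ v : V, v ≠ 0 ∧ ∀ a : A, ∃ c : ℂ, σ a v = c • v := by
  classical
  have h1 : Pairwise fun i j : A => Commute (σ i) (σ j) := by
    intro i j _
    show σ i * σ j = σ j * σ i
    rw [← map_mul, ← map_mul, hcomm]
  have h2 : ∀ i : A, ⨆ μ, Module.End.maxGenEigenspace (σ i) μ = ⊤ :=
    fun i => Module.End.iSup_maxGenEigenspace_eq_top (σ i)
  have h3 := Module.End.iSup_iInf_maxGenEigenspace_eq_top_of_iSup_maxGenEigenspace_eq_top_of_commute
    (fun a : A => σ a) h1 h2
  have h4 : ∃ χ : A → ℂ, ⨅ i, Module.End.maxGenEigenspace (σ i) (χ i) ≠ ⊥ := by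
    by_contra hcon
    push Not at hcon
    have : (⨆ χ : A → ℂ, ⨅ i, Module.End.maxGenEigenspace (σ i) (χ i)) = ⊥ := by
      simp [hcon]
    rw [this] at h3
    exact bot_ne_top h3
  obtain ⟨χ, hχ⟩ := h4
  obtain ⟨v, hv, hv0⟩ := (Submodule.ne_bot_iff _).mp hχ
  refine ⟨v, hv0, fun a => ⟨χ a, ?_⟩⟩
  have hmem : v ∈ Module.End.maxGenEigenspace (σ a) (χ a) := (Submodule.mem_iInf _).mp hv a
  have hss : Module.End.IsSemisimple (σ a) :=
    Cfsg.Agent.CharLib.isSemisimple_of_pow_eq_one (σ a) (orderOf a) (orderOf_pos a)
      (Cfsg.Agent.CharLib.rep_pow_orderOf σ a)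
  rw [hss.isFinitelySemisimple.maxGenEigenspace_eq_eigenspace] at hmem
  exact Module.End.mem_eigenspace_iff.mp hmem

/-- degree of an irreducible representation is at most the index of an abelian subgroup -/
theorem finrank_le_index_of_abelian {G : Type*} [Group G] [Finite G] {V : Type*} [AddCommGroup V]
    [Module ℂ V] [FiniteDimensional ℂ V] (ρ : Representation ℂ G V) [ρ.IsIrreducible]
    (A : Subgroup G) (hA : ∀ a ∈ A, ∀ b ∈ A, a * b = b * a) :
    Module.finrank ℂ V ≤ A.index := by
  classical
  have hnt : Nontrivial V := by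
    by_contra hV
    rw [not_nontrivial_iff_subsingleton] at hV
    have : (⊥ : Subrepresentation ρ) = ⊤ := by
      apply Subrepresentation.toSubmodule_injective
      exact Subsingleton.elim _ _
    exact bot_ne_top this
  let σ : Representation ℂ A V := ρ.comp A.subtype
  obtain ⟨v, hv0, hv⟩ := exists_common_eigenvector σ
    (fun a b => Subtype.ext (hA a a.2 b b.2))
  -- the span of the translates by coset representatives
  let b : G ⧸ A → V := fun q => ρ q.out v
  let W : Submodule ℂ V := Submodule.span ℂ (Set.range b)
  have hgv : ∀ g : G, ρ g v ∈ W := by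
    intro g
    have hq : (QuotientGroup.mk g : G ⧸ A).out⁻¹ * g ∈ A := by
      rw [← QuotientGroup.eq]
      exact Quotient.out_eq' _
    obtain ⟨c, hc⟩ := hv ⟨_, hq⟩
    have : ρ g v = c • ρ (QuotientGroup.mk g : G ⧸ A).out v := by
      have h1 : g = (QuotientGroup.mk g : G ⧸ A).out * ((QuotientGroup.mk g : G ⧸ A).out⁻¹ * g) := by
        group
      conv_lhs => rw [h1, map_mul]
      rw [Module.End.mul_apply]
      have : ρ ((QuotientGroup.mk g : G ⧸ A).out⁻¹ * g) v = c • v := hc
      rw [this, map_smul]
    rw [this]
    exact W.smul_mem c (Submodule.subset_span ⟨_, rfl⟩)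
  -- the span of all translates is invariant
  let U : Submodule ℂ V := Submodule.span ℂ (Set.range fun g : G => ρ g v)
  have hUW : U ≤ W := by
    apply Submodule.span_le.mpr
    rintro _ ⟨g, rfl⟩
    exact hgv g
  let S : Subrepresentation ρ :=
    { toSubmodule := U
      apply_mem_toSubmodule := by
        intro g w hw
        induction hw using Submodule.span_induction with
        | mem x hx =>
          obtain ⟨k, rfl⟩ := hx
          apply Submodule.subset_span
          refine ⟨g * k, ?_⟩
          show ρ (g * k) v = ρ g (ρ k v)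
          rw [map_mul, Module.End.mul_apply]
        | zero => rw [map_zero]; exact U.zero_mem
        | add x y _ _ hx hy => rw [map_add]; exact U.add_mem hx hy
        | smul c x _ hx => rw [map_smul]; exact U.smul_mem c hx }
  have hS : S = ⊤ := by
    rcases eq_bot_or_eq_top S with h | h
    · exfalso
      have hvU : v ∈ U := by
        apply Submodule.subset_span
        exact ⟨1, by simp⟩
      have hvS : v ∈ S := hvU
      rw [h] at hvS
      exact hv0 hvS
    · exact h
  have hUtop : U = ⊤ := by
    have := congrArg Subrepresentation.toSubmodule hS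
    exact this
  have hWtop : W = ⊤ := top_le_iff.mp (hUtop ▸ hUW)
  have : Fintype (G ⧸ A) := Fintype.ofFinite _
  have h5 := finrank_range_le_card (R := ℂ) b
  have h6 : (Set.range b).finrank ℂ = Module.finrank ℂ V := by
    show Module.finrank ℂ W = _
    rw [hWtop, finrank_top]
  rw [h6] at h5
  rw [Subgroup.index, Nat.card_eq_fintype_card]
  exact h5

end Cfsg.Agent.Lib.Helper2
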