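/-
helper2: vocabulary for S4642 (Fong: the characters over a `G`-invariant character of `O_{p'}(G)` of a
`p`-constrained group form a block of full defect and of principal type).
-/
import Mathlib
import Cfsg.Prelude.Def_Blocks
import Cfsg.Prelude.Def_BlockLocal

set_option autoImplicit false

namespace Cfsg.Agent.Lib.Helper2.FongPT

open Cfsg

universe u

/-- The irreducible characters of `G` lying over the function `θ` on the subgroup `K`. -/
def irrOver {G : Type u} [Group G] (K : Subgroup G) [Fintype K] (θ : K → ℂ) :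
    Set (IrrCharacter G) :=
  {χ | classInner (fun k : K => (χ : G → ℂ) k) θ ≠ 0}

theorem mem_irrOver {G : Type u} [Group G] (K : Subgroup G) [Fintype K] (θ : K → ℂ)
    (χ : IrrCharacter G) :
    χ ∈ irrOver K θ ↔ classInner (fun k : K => (χ : G → ℂ) k) θ ≠ 0 := Iff.rfl

/-- The irreducible characters of the subgroup `L ≥ K` lying over the function `θ` on `K`. -/
def irrOverIn {G : Type u} [Group G] (K L : Subgroup G) (hKL : K ≤ L) [Fintype K] (θ : K → ℂ) :
    Set (IrrCharacter L) :=
  {ψ | classInner (fun k : K => (ψ : L → ℂ) ⟨(k : G), hKL k.2⟩) θ ≠ 0}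

/-- Restriction of a function on `K` to `K ∩ C`, the latter read as a subgroup of `C`. -/
def resSub {G : Type u} [Group G] (K C : Subgroup G) (θ : K → ℂ) : ↥(K.subgroupOf C) → ℂ :=
  fun x => θ ⟨((x : C) : G), Subgroup.mem_subgroupOf.mp x.2⟩

theorem resSub_apply {G : Type u} [Group G] (K C : Subgroup G) (θ : K → ℂ)
    (x : ↥(K.subgroupOf C)) :
    resSub K C θ x = θ ⟨((x : C) : G), Subgroup.mem_subgroupOf.mp x.2⟩ := rfl

end Cfsg.Agent.Lib.Helper2.FongPT
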