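import Mathlib
import Cfsg.Prelude.Def_Blocks
import Cfsg.Agent.Lib.Helper6.Clifford
import Cfsg.Agent.Lib.Helper10.IrrOrtho

/-!
The induced central character in terms of the induced function; constituents of the restriction
to a normal subgroup via central characters (S0963).
-/

set_option autoImplicit false
namespace Cfsg.Agent.Lib.Helper2
universe u
open Cfsg Cfsg.Agent.CharLib Cfsg.Agent.Lib.Helper6
open scoped ComplexConjugate

section central
variable {G : Type u} [Group G] [Fintype G]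

/-- the induced central character is a multiple of the induced function -/
theorem inducedCentralChar_eq_indFun (H : Subgroup G) [Fintype H] (ξ : H → ℂ) (g : G) :
    inducedCentralChar H ξ g = (ξ 1)⁻¹ * ((Nat.card H : ℂ) /
      (Nat.card (Subgroup.centralizer ({g} : Set G)) : ℂ)) * indFun H ξ g := by
  classical
  unfold inducedCentralChar
  rw [finsum_mem_eq_sum_ite]
  have h1 : ∑ h : H, (if h ∈ {h : H | IsConj g (h : G)} then ξ h / ξ 1 else 0) =
      (ξ 1)⁻¹ * ∑ h : H, (if IsConj g (h : G) then ξ h else 0) := by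
    rw [Finset.mul_sum]
    apply Finset.sum_congr rfl
    intro h _
    simp only [Set.mem_ofPred_eq]
    split_ifs
    · rw [div_eq_mul_inv, mul_comm]
    · rw [mul_zero]
  rw [h1, ← sum_ite_extendByZero H ξ (fun y => IsConj g y)]
  have h2 : ∑ y : G, (if IsConj g y then extendByZero H ξ y else 0) =
      ∑ y ∈ Finset.univ.image (fun x : G => x⁻¹ * g * x), extendByZero H ξ y := by
    rw [← Finset.sum_filter]
    apply Finset.sum_congr _ (fun _ _ => rfl)
    ext y
    rw [Finset.mem_filter, mem_image_conj_iff]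
    simp
  have h3 := sum_conj_eq g (extendByZero H ξ)
  have hC : (Nat.card (Subgroup.centralizer ({g} : Set G)) : ℂ) ≠ 0 :=
    Nat.cast_ne_zero.mpr Nat.card_pos.ne'
  have hH : (Nat.card H : ℂ) ≠ 0 := Nat.cast_ne_zero.mpr Nat.card_pos.ne'
  rw [h2]
  unfold indFun
  rw [h3]
  field_simp

end central

section clifford
variable {G : Type u} [Group G] [Fintype G] (N : Subgroup G) [hN : N.Normal] [Fintype N]

/-- = S0963 -/
theorem constituent_iff_centralChar (χ : IrrCharacter G) (θ : IrrCharacter N) :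
    classInner (fun n : N => (χ : G → ℂ) n) (θ : N → ℂ) ≠ 0 ↔
      ∀ n : N, centralChar (χ : G → ℂ) (n : G) = inducedCentralChar N (θ : N → ℂ) (n : G) := by
  classical
  have hχ1 : (χ : G → ℂ) 1 ≠ 0 := Cfsg.Agent.Lib.Helper10.irr_one_ne_zero χ.2
  have hθ1 : (θ : N → ℂ) 1 ≠ 0 := Cfsg.Agent.Lib.Helper10.irr_one_ne_zero θ.2
  have hG0 : (Nat.card G : ℂ) ≠ 0 := Nat.cast_ne_zero.mpr Nat.card_pos.ne'
  have hN0 : (Nat.card N : ℂ) ≠ 0 := Nat.cast_ne_zero.mpr Nat.card_pos.ne'
  have hC0 : ∀ g : G, (Nat.card (Subgroup.centralizer ({g} : Set G)) : ℂ) ≠ 0 := fun g =>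
    Nat.cast_ne_zero.mpr Nat.card_pos.ne'
  have hidx : ∀ g : G, ((Subgroup.centralizer ({g} : Set G)).index : ℂ) =
      (Nat.card G : ℂ) / (Nat.card (Subgroup.centralizer ({g} : Set G)) : ℂ) := by
    intro g
    rw [eq_div_iff (hC0 g)]
    have := (Subgroup.centralizer ({g} : Set G)).index_mul_card
    exact_mod_cast this
  have hind : ∀ n : N, indFun N (θ : N → ℂ) (n : G) =
      (Nat.card N : ℂ)⁻¹ * (∑ x : G, conjFun N x (θ : N → ℂ)) n := by
    intro n
    have := congrFun (resFun_indFun N (θ : N → ℂ)) n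
    rw [resFun_apply, Pi.smul_apply, smul_eq_mul] at this
    exact this
  constructor
  · intro h1 n
    have hcl := clifford N χ.2 θ.2 h1
    have hdeg := clifford_degree N χ.2 θ.2 h1
    have hsum := sum_conjFun_eq N (θ : N → ℂ)
    have hcard := card_conjOrbit_mul (G := G) N (θ : N → ℂ)
    rw [inducedCentralChar_eq_indFun, hind n, hsum]
    unfold centralChar
    rw [hidx]
    have hχn : (χ : G → ℂ) (n : G) = classInner (resFun N (χ : G → ℂ)) (θ : N → ℂ) *
        (∑ ψ ∈ conjOrbit N (θ : N → ℂ), ψ) n := by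
      have := congrFun hcl n
      rw [resFun_apply, Pi.smul_apply, smul_eq_mul] at this
      exact this
    rw [hχn, hdeg]
    have hcard' : ((conjOrbit N (θ : N → ℂ)).card : ℂ) *
        (Nat.card {g : G // conjFun N g (θ : N → ℂ) = (θ : N → ℂ)} : ℂ) = (Nat.card G : ℂ) := by
      exact_mod_cast hcard
    have ht0 : ((conjOrbit N (θ : N → ℂ)).card : ℂ) ≠ 0 := by
      intro h0
      rw [h0, zero_mul] at hcard'
      exact hG0 hcard'.symm
    have he0 : classInner (resFun N (χ : G → ℂ)) (θ : N → ℂ) ≠ 0 := h1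
    rw [← hcard']
    simp only [Pi.smul_apply, nsmul_eq_mul]
    field_simp
  · intro h
    have hres : resFun N (χ : G → ℂ) = ((χ : G → ℂ) 1 * (Nat.card N : ℂ) /
        ((Nat.card G : ℂ) * (θ : N → ℂ) 1)) • resFun N (indFun N (θ : N → ℂ)) := by
      funext n
      have h1 := h n
      rw [inducedCentralChar_eq_indFun] at h1
      unfold centralChar at h1
      rw [hidx] at h1
      rw [resFun_apply, Pi.smul_apply, resFun_apply, smul_eq_mul]
      have hC := hC0 (n : G)
      field_simp at h1 ⊢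
      linear_combination h1
    change classInner (resFun N (χ : G → ℂ)) (θ : N → ℂ) ≠ 0
    rw [hres, classInner_smul_left, classInner_resFun_indFun]
    have hpos : ∃ k : ℕ, ∑ x : G, classInner (conjFun N x (θ : N → ℂ)) (θ : N → ℂ) = k ∧ 1 ≤ k := by
      refine ⟨(Finset.univ.filter (fun x : G => conjFun N x (θ : N → ℂ) = (θ : N → ℂ))).card,
        ?_, ?_⟩
      · rw [Finset.card_eq_sum_ones, Finset.sum_filter]
        push_cast
        apply Finset.sum_congr rfl
        intro x _
        rw [Cfsg.Agent.Lib.Helper10.classInner_irr (isIrrCharacter_conjFun N θ.2 x) θ.2]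
      · apply Finset.card_pos.mpr
        exact ⟨1, Finset.mem_filter.mpr ⟨Finset.mem_univ _, conjFun_one N _⟩⟩
    obtain ⟨k, hk, hk1⟩ := hpos
    rw [hk]
    have hk0 : (k : ℂ) ≠ 0 := by
      have : k ≠ 0 := by omega
      exact_mod_cast this
    simp only [ne_eq, mul_eq_zero, div_eq_zero_iff, inv_eq_zero, not_or]
    exact ⟨⟨⟨hχ1, hN0⟩, ⟨hG0, hθ1⟩⟩, ⟨hN0, hk0⟩⟩

end clifford
end Cfsg.Agent.Lib.Helper2
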