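import Mathlib
import Cfsg.Prelude.Def_BlockRank
import Cfsg.Agent.Lib.Helper27.DODefs
import Cfsg.Agent.Lib.Helper27.BlkAlgDefs2
import Cfsg.Agent.Lib.Lead.SecondMain4

/-!
# DEFECT-ONE cluster, Part O, leaf DO-OFF (helper2): `muZ_off_of`

The integer columns `muZ` do not depend on the central index off the block `B`; `_of` form over the
statement of SMT0 (`muC_const_of_not_induced`) for the given `θ`, `χ`.
-/

set_option autoImplicit false
set_option linter.unusedSectionVars false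

namespace Cfsg.Agent.Lib.Helper2.DOOFF

open Cfsg Cfsg.Agent.Lib.Helper8.DOM Cfsg.Agent.Lib.Helper27.DO Cfsg.Agent.Lib.Helper27.BlkAlg
open scoped ComplexConjugate

universe u

variable {G : Type u} [Group G] [Finite G] {p : ℕ} [Fact p.Prime] {M : Ideal AlgInt}
  {P : Subgroup G} {B : Set (IrrCharacter G)} {θ : IrrCharacter (Cz P)} {T : Subgroup G} {x0 : G}

/-- off `B`, the block of `θ` does not induce the block of `χ`. -/
theorem not_induced_of_not_mem (c : Ctx p M P B θ T x0) (χ : IrrCharacter G) (hχ : χ ∉ B) :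
    ¬ IsInducedBlock M (Cz P) (blockOf M (θ : Cz P → ℂ)) (blockOf M (χ : G → ℂ)) := by
  have hprime : M.IsPrime := Cfsg.Agent.Lib.Helper24.isPrime_of_isPModular c.hM
  intro h'
  have h1 := Cfsg.Agent.CharLib.isInducedBlock_unique c.hind h'
  apply hχ
  rw [h1]
  exact Cfsg.Agent.Lib.Helper6.mem_blockOf_self χ

/-- OFF, `_of` form over SMT0. -/
theorem muZ_off_of (c : Ctx p M P B θ T x0) (χ : IrrCharacter G) (hχ : χ ∉ B)
    (hsmt : ¬ IsInducedBlock M (Cz P) (blockOf M (θ : Cz P → ℂ)) (blockOf M (χ : G → ℂ)) →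
      ∀ i : ZMod p, muC p M P θ x0 χ i = muC p M P θ x0 χ 0) (i : ZMod p) :
    muZ p M P θ x0 χ i = muZ p M P θ x0 χ 0 := by
  unfold muZ
  rw [hsmt (not_induced_of_not_mem c χ hχ) i]

end Cfsg.Agent.Lib.Helper2.DOOFF
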