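import Mathlib
import Cfsg.Prelude.Def_BlockRank
import Cfsg.Agent.Lib.Helper27.DODefs
import Cfsg.Agent.Lib.Helper27.BlkAlgDefs2
import Cfsg.Agent.Lib.Helper27.DOSMT0
import Cfsg.Agent.Lib.Helper23.DOLOC1
import Cfsg.Agent.Lib.Helper22.DOLOC2
import Cfsg.Agent.Lib.Helper2.DOOFF

/-!
# DEFECT-ONE cluster, Part O, leaf DO-OFF (helper2): `muZ_off`, exact form
(`DOOFF.muZ_off_of` + helper27's `DOSMT0.muC_const_of` + helper23's LOC1 + helper22's LOC2).
-/

set_option autoImplicit false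

namespace Cfsg.Agent.Lib.Helper2.DOOFFX

open Cfsg Cfsg.Agent.Lib.Helper8.DOM Cfsg.Agent.Lib.Helper27.DO Cfsg.Agent.Lib.Helper27.BlkAlg
open scoped ComplexConjugate

universe u

variable {G : Type u} [Group G] [Finite G] {p : ℕ} [Fact p.Prime] {M : Ideal AlgInt}
  {P : Subgroup G} {B : Set (IrrCharacter G)} {θ : IrrCharacter (Cz P)} {T : Subgroup G} {x0 : G}

/-- OFF : the integer columns vanish off `B`. -/
theorem muZ_off (c : Ctx p M P B θ T x0) (χ : IrrCharacter G) (hχ : χ ∉ B) (i : ZMod p) :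
    muZ p M P θ x0 χ i = muZ p M P θ x0 χ 0 :=
  Cfsg.Agent.Lib.Helper2.DOOFF.muZ_off_of c χ hχ
    (fun hnot i =>
      Cfsg.Agent.Lib.Helper27.DOSMT0.muC_const_of c.hM P c.hP x0 c.gen θ χ hnot
        (fun φ => Cfsg.Agent.Lib.Helper23.DOLOC1.exists_unique_hasIdx P c.hP x0 c.gen φ)
        (fun φ hφ =>
          (Cfsg.Agent.Lib.Helper22.DOLOC2.block_of_pTriv c.hM P c.hP c.hSyl x0 c.gen θ c.hθP).2.1
            φ hφ 1 (by
              rw [orderOf_one, Nat.dvd_one]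
              exact (Fact.out : p.Prime).ne_one)) i) i

end Cfsg.Agent.Lib.Helper2.DOOFFX
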