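import Mathlib
import Cfsg.Prelude.Def_Characters
import Cfsg.Agent.Lib.Helper24.BSWDefs
import Cfsg.Agent.Lib.Helper1.BSWCDefs
import Cfsg.Agent.Lib.Helper10.PowTwistChar
import Cfsg.Agent.Lib.Lead.CharInd

/-!
# S3282-T2 (helper2): `theta_apply_RR`, `theta_apply_one`
-/

set_option autoImplicit false
open Cfsg Cfsg.Agent.Lib.Helper24.BSW Cfsg.Agent.CharLib Cfsg.Agent.Lib.Helper1.BSWC
open scoped ComplexConjugate

namespace Cfsg.Agent.Lib.Helper2.BSWCT2

universe u

variable {G : Type u} [Group G] [Fintype G]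

/-- **T2** `Θ_μ` vanishes on `RR K`. -/
theorem theta_apply_RR (K : Subgroup G) (μ : ↥K →* ℂˣ) (y : G) (hy : y ∈ RR K) : theta K μ y = 0 := by
  unfold theta indFun
  rw [Finset.sum_eq_zero, mul_zero]
  intro x _
  apply extendByZero_apply_of_not_mem
  have h1 := hy.2 x⁻¹
  rwa [inv_inv] at h1

/-- **T2** `Θ_μ` vanishes at `1`. -/
theorem theta_apply_one (K : Subgroup G) (μ : ↥K →* ℂˣ) : theta K μ 1 = 0 := by
  unfold theta indFun
  rw [Finset.sum_eq_zero, mul_zero]
  intro x _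
  have h1 : x⁻¹ * 1 * x = ((1 : ↥K) : G) := by
    rw [mul_one, inv_mul_cancel]
    rfl
  rw [h1, extendByZero_apply_coe, map_one, Units.val_one, sub_self]

end Cfsg.Agent.Lib.Helper2.BSWCT2
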