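import Mathlib
import Cfsg.Prelude.Def_Characters
import Cfsg.Agent.Lib.Helper24.BSWDefs
import Cfsg.Agent.Lib.Helper1.BSWCDefs
import Cfsg.Agent.Lib.Helper10.PowTwistChar
import Cfsg.Agent.Lib.Lead.CharInd
import Cfsg.Agent.Lib.Helper16.BSWB1
import Cfsg.Agent.Lib.Helper16.BSWB3
import Cfsg.Agent.Lib.Helper5.BSWB4

/-!
# S3282-T1 (helper2): `theta_apply_conj`, the T.I. induction formula
-/

set_option autoImplicit false
open Cfsg Cfsg.Agent.Lib.Helper24.BSW Cfsg.Agent.CharLib Cfsg.Agent.Lib.Helper1.BSWC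
open scoped ComplexConjugate

namespace Cfsg.Agent.Lib.Helper2.BSWCT1

universe u

variable {G : Type u} [Group G] [Fintype G]

/-- **T1** (T.I. induction formula) `Θ_μ(g x g⁻¹) = 2 - μ(x) - μ(x⁻¹)` for `1 ≠ x ∈ K`. -/
theorem theta_apply_conj {t s : G} {K : Subgroup G} (h : Hyp t s K) (μ : ↥K →* ℂˣ) (g : G) (x : ↥K)
    (hx : x ≠ 1) :
    theta K μ (g * (x : G) * g⁻¹) = 2 - ((μ x : ℂˣ) : ℂ) - ((μ x⁻¹ : ℂˣ) : ℂ) := by
  classical
  have hcf := indFun_isClassFunction K (fun x => 1 - ((μ x : ℂˣ) : ℂ))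
  unfold theta
  rw [hcf (x : G) g]
  unfold indFun
  obtain ⟨α, hα⟩ : ∃ α : ↥K → ℂ, α = fun x => 1 - ((μ x : ℂˣ) : ℂ) := ⟨_, rfl⟩
  rw [← hα]
  have hB3 := Cfsg.Agent.Lib.Helper16.BSWB3.mem_cent_cases h
  have hB4 := Cfsg.Agent.Lib.Helper5.BSWB4.conj_mem_cent h
  have hB1 := (Cfsg.Agent.Lib.Helper16.BSWB1.card_centralizer h).1
  have hx1 : (x : G) ≠ 1 := fun h1 => hx (Subtype.ext h1)
  have hterm : ∀ c : G, extendByZero K α (c⁻¹ * x * c) =
      (if c ∈ K then α x else 0) +
        (if c ∈ Subgroup.centralizer ({t} : Set G) ∧ c ∉ K then α x⁻¹ else 0) := by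
    intro c
    by_cases hcK : c ∈ K
    · have h' : c * (x : G) = x * c :=
        congrArg Subtype.val (h.hKab.is_comm.comm ⟨c, hcK⟩ x)
      have h2 : c⁻¹ * x * c = x := by
        calc c⁻¹ * x * c = c⁻¹ * (x * c) := by group
          _ = c⁻¹ * (c * x) := by rw [h']
          _ = x := by group
      rw [h2, extendByZero_apply_coe, if_pos hcK, if_neg (fun h3 => h3.2 hcK), add_zero]
    · by_cases hcC : c ∈ Subgroup.centralizer ({t} : Set G)
      · have hc' : c⁻¹ ∈ Subgroup.centralizer ({t} : Set G) := inv_mem hcC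
        rcases hB3 c⁻¹ hc' with hK' | ⟨-, -, hinv⟩
        · exfalso
          apply hcK
          have := K.inv_mem hK'
          rwa [inv_inv] at this
        · have h2 := hinv x x.2
          rw [inv_inv] at h2
          have h3 : ((x : G))⁻¹ = ((x⁻¹ : ↥K) : G) := rfl
          rw [h2, h3, extendByZero_apply_coe, if_neg hcK, if_pos ⟨hcC, hcK⟩, zero_add]
      · have hnot : c⁻¹ * x * c ∉ K := by
          intro hmem
          have h2 := hB4 c⁻¹ x x.2 hx1 (by rwa [inv_inv])
          apply hcC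
          have := inv_mem h2
          rwa [inv_inv] at this
        rw [extendByZero_apply_of_not_mem K α hnot, if_neg hcK, if_neg (fun h3 => hcC h3.1),
          add_zero]
  simp_rw [hterm]
  rw [Finset.sum_add_distrib, Finset.sum_ite, Finset.sum_ite, Finset.sum_const_zero,
    Finset.sum_const_zero, add_zero, add_zero, Finset.sum_const, Finset.sum_const,
    nsmul_eq_mul, nsmul_eq_mul]
  -- cardinalities
  have hc1 : (Finset.univ.filter (fun c : G => c ∈ K)).card = Nat.card K := by
    rw [Nat.card_eq_fintype_card, Fintype.card_subtype]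
  have hc2 : (Finset.univ.filter (fun c : G => c ∈ Subgroup.centralizer ({t} : Set G))).card
      = 2 * Nat.card K := by
    rw [← hB1, Nat.card_eq_fintype_card, Fintype.card_subtype]
  have hc3 : (Finset.univ.filter
      (fun c : G => c ∈ Subgroup.centralizer ({t} : Set G) ∧ c ∉ K)).card = Nat.card K := by
    have h1 := Finset.card_filter_add_card_filter_not
      (s := Finset.univ.filter (fun c : G => c ∈ Subgroup.centralizer ({t} : Set G)))
      (fun c : G => c ∈ K)
    rw [Finset.filter_filter, Finset.filter_filter, hc2] at h1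
    have h2 : Finset.univ.filter (fun c : G => c ∈ Subgroup.centralizer ({t} : Set G) ∧ c ∈ K)
        = Finset.univ.filter (fun c : G => c ∈ K) := by
      ext c
      simp only [Finset.mem_filter, Finset.mem_univ, true_and]
      exact ⟨fun h3 => h3.2, fun h3 => ⟨h.hKH h3, h3⟩⟩
    rw [h2, hc1] at h1
    omega
  rw [hc1, hc3, hα]
  have hk0 : (Nat.card K : ℂ) ≠ 0 := by
    have : 0 < Nat.card K := Nat.card_pos
    exact_mod_cast this.ne'
  field_simp
  ring

end Cfsg.Agent.Lib.Helper2.BSWCT1
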