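import Mathlib
import Cfsg.Prelude.Def_Characters
import Cfsg.Agent.Lib.Helper24.BSWDefs
import Cfsg.Agent.Lib.Helper1.BSWCDefs
import Cfsg.Agent.Lib.Helper10.PowTwistChar
import Cfsg.Agent.Lib.Lead.CharInd
import Cfsg.Agent.Lib.Helper10.LinChar
import Cfsg.Agent.Lib.Helper2.BSWCT1
import Cfsg.Agent.Lib.Helper2.BSWCT2

/-!
# S3282-T4 (helper2): `classInner_theta_theta`, the Gram matrix of the `Θ_μ`
-/

set_option autoImplicit false
open Cfsg Cfsg.Agent.Lib.Helper24.BSW Cfsg.Agent.CharLib Cfsg.Agent.Lib.Helper1.BSWC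
open scoped ComplexConjugate

namespace Cfsg.Agent.Lib.Helper2.BSWCT4

universe u

variable {G : Type u} [Group G] [Fintype G]

/-- the values of `Θ_μ` on `K` -/
theorem theta_apply_coe {t s : G} {K : Subgroup G} (h : Hyp t s K) (μ : ↥K →* ℂˣ) (x : ↥K) :
    theta K μ (x : G) = 2 - ((μ x : ℂˣ) : ℂ) - ((μ x⁻¹ : ℂˣ) : ℂ) := by
  by_cases hx : x = 1
  · rw [hx]
    have h1 : ((1 : ↥K) : G) = 1 := rfl
    rw [h1, Cfsg.Agent.Lib.Helper2.BSWCT2.theta_apply_one]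
    simp
    norm_num
  · have h1 := Cfsg.Agent.Lib.Helper2.BSWCT1.theta_apply_conj h μ 1 x hx
    rwa [one_mul, inv_one, mul_one] at h1

open Classical in
/-- **T4** (Gram matrix) `⟨Θ_μ, Θ_μ'⟩ = 2 + [μ = μ'] + [μ = μ'⁻¹]` for `μ, μ' ≠ 1`. -/
theorem classInner_theta_theta {t s : G} {K : Subgroup G} (h : Hyp t s K) (μ μ' : ↥K →* ℂˣ)
    (hμ : μ ≠ 1) (hμ' : μ' ≠ 1) :
    classInner (theta K μ) (theta K μ') =
      2 + (if μ = μ' then 1 else 0) + (if μ = μ'⁻¹ then 1 else 0) := by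
  have hcf : IsClassFunction G (theta K μ') := indFun_isClassFunction K _
  have h0 : classInner (theta K μ) (theta K μ')
      = classInner (fun x : ↥K => 1 - ((μ x : ℂˣ) : ℂ)) (fun x : ↥K => theta K μ' (x : G)) := by
    conv_lhs => unfold theta
    exact frobenius_reciprocity K _ hcf
  rw [h0]
  unfold classInner
  have hμ'inv : μ'⁻¹ ≠ 1 := by
    intro h1
    apply hμ'
    ext x
    have h2 := DFunLike.congr_fun h1 x
    rw [MonoidHom.inv_apply, MonoidHom.one_apply, inv_eq_one] at h2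
    rw [h2, MonoidHom.one_apply]
  have hterm : ∀ x : ↥K, (1 - ((μ x : ℂˣ) : ℂ)) * conj (theta K μ' (x : G))
      = 2 - ((μ'⁻¹ x : ℂˣ) : ℂ) - ((μ' x : ℂˣ) : ℂ) - 2 * ((μ x : ℂˣ) : ℂ)
        + ((μ x : ℂˣ) : ℂ) * conj ((μ' x : ℂˣ) : ℂ)
        + ((μ x : ℂˣ) : ℂ) * conj ((μ'⁻¹ x : ℂˣ) : ℂ) := by
    intro x
    rw [theta_apply_coe h μ' x]
    have e1 : conj ((μ' x : ℂˣ) : ℂ) = ((μ'⁻¹ x : ℂˣ) : ℂ) := by
      rw [Cfsg.Agent.Lib.Helper10.linChar_conj, MonoidHom.inv_apply, map_inv]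
    have e2 : conj ((μ' x⁻¹ : ℂˣ) : ℂ) = ((μ' x : ℂˣ) : ℂ) := by
      rw [Cfsg.Agent.Lib.Helper10.linChar_conj, inv_inv]
    have e3 : conj ((μ'⁻¹ x : ℂˣ) : ℂ) = ((μ' x : ℂˣ) : ℂ) := by
      rw [Cfsg.Agent.Lib.Helper10.linChar_conj, MonoidHom.inv_apply, map_inv, inv_inv]
    rw [map_sub, map_sub, e1, e2, e3]
    simp only [map_ofNat]
    ring
  rw [Finset.sum_congr rfl (fun x _ => hterm x)]
  simp only [Finset.sum_add_distrib, Finset.sum_sub_distrib, ← Finset.mul_sum]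
  rw [Cfsg.Agent.Lib.Helper10.sum_linChar_of_ne_one μ hμ,
    Cfsg.Agent.Lib.Helper10.sum_linChar_of_ne_one μ' hμ',
    Cfsg.Agent.Lib.Helper10.sum_linChar_of_ne_one μ'⁻¹ hμ'inv,
    Cfsg.Agent.Lib.Helper10.sum_linChar_mul_conj μ μ',
    Cfsg.Agent.Lib.Helper10.sum_linChar_mul_conj μ μ'⁻¹]
  have hk0 : (Nat.card K : ℂ) ≠ 0 := by
    have : 0 < Nat.card K := Nat.card_pos
    exact_mod_cast this.ne'
  have hsum2 : ∑ _x : ↥K, (2 : ℂ) = 2 * (Nat.card K : ℂ) := by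
    rw [Finset.sum_const, Finset.card_univ, nsmul_eq_mul, Nat.card_eq_fintype_card]
    ring
  rw [hsum2]
  split_ifs <;> field_simp <;> ring

end Cfsg.Agent.Lib.Helper2.BSWCT4
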