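import Mathlib
import Cfsg.Prelude.Def_Characters
import Cfsg.Agent.Lib.Helper24.BSWDefs
import Cfsg.Agent.Lib.Helper1.BSWCDefs
import Cfsg.Agent.Lib.Helper10.PowTwistChar
import Cfsg.Agent.Lib.Lead.CharInd
import Cfsg.Agent.Lib.Helper10.LinChar

/-!
# S3282-T5 (helper2): `classInner_theta_one`
-/

set_option autoImplicit false
open Cfsg Cfsg.Agent.Lib.Helper24.BSW Cfsg.Agent.CharLib Cfsg.Agent.Lib.Helper1.BSWC
open scoped ComplexConjugate

namespace Cfsg.Agent.Lib.Helper2.BSWCT5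

universe u

variable {G : Type u} [Group G] [Fintype G]

/-- **T5** `⟨Θ_μ, 1_G⟩ = 1` for `μ ≠ 1`. -/
theorem classInner_theta_one (K : Subgroup G) (μ : ↥K →* ℂˣ) (hμ : μ ≠ 1) :
    classInner (theta K μ) (1 : G → ℂ) = 1 := by
  classical
  have hcf : IsClassFunction G (1 : G → ℂ) := fun _ _ => rfl
  unfold theta
  rw [frobenius_reciprocity K _ hcf]
  unfold classInner
  have h1 : ∑ g : ↥K, (1 - ((μ g : ℂˣ) : ℂ)) * conj ((fun h : ↥K => (1 : G → ℂ) (h : G)) g)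
      = (Nat.card K : ℂ) := by
    have h2 : ∀ g : ↥K, (1 - ((μ g : ℂˣ) : ℂ)) * conj ((fun h : ↥K => (1 : G → ℂ) (h : G)) g)
        = 1 - ((μ g : ℂˣ) : ℂ) := by
      intro g
      simp
    rw [Finset.sum_congr rfl (fun g _ => h2 g), Finset.sum_sub_distrib,
      Cfsg.Agent.Lib.Helper10.sum_linChar_of_ne_one μ hμ, sub_zero, Finset.sum_const,
      Finset.card_univ, nsmul_eq_mul, mul_one, Nat.card_eq_fintype_card]
  rw [h1]
  have hk0 : (Nat.card K : ℂ) ≠ 0 := by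
    have : 0 < Nat.card K := Nat.card_pos
    exact_mod_cast this.ne'
  exact inv_mul_cancel₀ hk0

end Cfsg.Agent.Lib.Helper2.BSWCT5
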