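import Mathlib
import Cfsg.Prelude.Def_Characters
import Cfsg.Agent.Lib.Helper24.BSWDefs
import Cfsg.Agent.Lib.Helper1.BSWCDefs
import Cfsg.Agent.Lib.Helper10.PowTwistChar
import Cfsg.Agent.Lib.Helper14.BSWB0a
import Cfsg.Agent.Lib.Helper2.BSWCT1
import Cfsg.Agent.Lib.Helper2.BSWCT2

/-!
# S3282-T6 (helper2): `theta_inv`
-/

set_option autoImplicit false
open Cfsg Cfsg.Agent.Lib.Helper24.BSW Cfsg.Agent.CharLib Cfsg.Agent.Lib.Helper1.BSWC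
open scoped ComplexConjugate

namespace Cfsg.Agent.Lib.Helper2.BSWCT6

universe u

variable {G : Type u} [Group G] [Fintype G]

/-- **T6** `Θ_{μ⁻¹} = Θ_μ`. -/
theorem theta_inv {t s : G} {K : Subgroup G} (h : Hyp t s K) (μ : ↥K →* ℂˣ) :
    theta K μ⁻¹ = theta K μ := by
  funext g
  by_cases hg1 : g = 1
  · rw [hg1, Cfsg.Agent.Lib.Helper2.BSWCT2.theta_apply_one,
      Cfsg.Agent.Lib.Helper2.BSWCT2.theta_apply_one]
  rcases Cfsg.Agent.Lib.Helper14.BSWB0a.mem_KK_or_mem_RR K g hg1 with hKK | hRR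
  · obtain ⟨-, a, ha⟩ := hKK
    have hx1 : (⟨a * g * a⁻¹, ha⟩ : ↥K) ≠ 1 := by
      intro h1
      have h2 : a * g * a⁻¹ = 1 := congrArg Subtype.val h1
      apply hg1
      have h3 : g = a⁻¹ * (a * g * a⁻¹) * a := by group
      rw [h3, h2]
      group
    have hg : g = a⁻¹ * ((⟨a * g * a⁻¹, ha⟩ : ↥K) : G) * a⁻¹⁻¹ := by
      show g = a⁻¹ * (a * g * a⁻¹) * a⁻¹⁻¹
      group
    rw [hg, Cfsg.Agent.Lib.Helper2.BSWCT1.theta_apply_conj h μ⁻¹ a⁻¹ _ hx1,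
      Cfsg.Agent.Lib.Helper2.BSWCT1.theta_apply_conj h μ a⁻¹ _ hx1]
    simp only [MonoidHom.inv_apply, map_inv, inv_inv]
    ring
  · rw [Cfsg.Agent.Lib.Helper2.BSWCT2.theta_apply_RR K _ g hRR,
      Cfsg.Agent.Lib.Helper2.BSWCT2.theta_apply_RR K _ g hRR]

end Cfsg.Agent.Lib.Helper2.BSWCT6
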