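import Mathlib
import Cfsg.Prelude.Def_Characters
import Cfsg.Agent.Lib.Helper24.BSWDefs
import Cfsg.Agent.Lib.Helper1.BSWCDefs
import Cfsg.Agent.Lib.Helper10.PowTwistChar
import Cfsg.Agent.Lib.Lead.CharInd
import Cfsg.Agent.Lib.Lead.CharOrtho
import Cfsg.Agent.Lib.Lead.BrLeo4

/-!
# S3282-V1 (helper2): `table_of`, the table at `t` and on `K` from `Coh`, in `_of` form over the
two statements of D2 (`apply_of_mem`, `apply_one_eq`).
-/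

set_option autoImplicit false
open Cfsg Cfsg.Agent.Lib.Helper24.BSW Cfsg.Agent.CharLib Cfsg.Agent.Lib.Helper1.BSWC
open scoped ComplexConjugate

namespace Cfsg.Agent.Lib.Helper2.BSWCV1

universe u

variable {G : Type u} [Group G] [Fintype G]

/-- The dual of an abelian subgroup is finite. -/
theorem finite_dual (K : Subgroup G) (hcomm : ∀ a b : ↥K, a * b = b * a) : Finite (↥K →* ℂˣ) := by
  letI : CommGroup ↥K := { (inferInstance : Group ↥K) with mul_comm := hcomm }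
  exact Finite.of_equiv ↥K
    (CommGroup.monoidHom_mulEquiv_of_hasEnoughRootsOfUnity ↥K ℂ).some.symm.toEquiv

/-- `Θ_1 = 0`. -/
theorem theta_one_eq (K : Subgroup G) : theta K (1 : ↥K →* ℂˣ) = 0 := by
  funext g
  unfold theta indFun
  rw [Finset.sum_eq_zero, mul_zero]
  · rfl
  intro x _
  by_cases hx : x⁻¹ * g * x ∈ K
  · have h1 : x⁻¹ * g * x = ((⟨x⁻¹ * g * x, hx⟩ : ↥K) : G) := rfl
    rw [h1, extendByZero_apply_coe, MonoidHom.one_apply, Units.val_one, sub_self]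
  · exact extendByZero_apply_of_not_mem K _ hx

/-- `m(χ, 1) = 0`. -/
theorem mult_one_eq (K : Subgroup G) (χ : G → ℂ) : mult K (1 : ↥K →* ℂˣ) χ = 0 := by
  unfold mult
  rw [theta_one_eq]
  unfold classInner
  simp

/-- **V1**, `_of` form over D2. -/
theorem table_of {t s : G} {K : Subgroup G} (h : Hyp t s K) (_hk : 4 ≤ Nat.card K)
    [Fintype (↥K →* ℂˣ)]
    (hD2a : ∀ {χ : G → ℂ}, IsCharacter G χ → ∀ y : ↥K, y ≠ 1 →
      χ (y : G) = - ∑ μ : ↥K →* ℂˣ, mult K μ χ * ((μ y : ℂˣ) : ℂ))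
    (hD2b : ∀ {χ : G → ℂ}, IsCharacter G χ →
      ∃ a : ℕ, χ 1 = (a : ℂ) * (Nat.card K : ℂ) - ∑ μ : ↥K →* ℂˣ, mult K μ χ)
    {ν : ↥K →* ℂˣ} (hν : ν ≠ 1 ∧ ν * ν = 1 ∧ ∀ μ : ↥K →* ℂˣ, μ * μ = 1 → μ = 1 ∨ μ = ν)
    {ε : ℤ} {X : IrrCharacter G} {L : (↥K →* ℂˣ) → IrrCharacter G} {Y₁ Y₂ : IrrCharacter G}
    (hc : Coh K ν ε X L Y₁ Y₂) :
    (∀ g ∈ KK K, (X : G → ℂ) g = (ε : ℂ)) ∧
    (∃ b : ℤ, (X : G → ℂ) 1 = (b : ℂ) * (Nat.card K : ℂ) + (ε : ℂ)) ∧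
    (∀ μ : ↥K →* ℂˣ, μ ≠ 1 → μ ≠ ν → ((L μ : G → ℂ) t) ^ 2 = 4) ∧
    ((Y₁ : G → ℂ) t) ^ 2 = 1 ∧ ((Y₂ : G → ℂ) t) ^ 2 = 1 ∧
    (∀ χ : IrrCharacter G, χ ≠ trivIrr G → χ ≠ X → χ ≠ Y₁ → χ ≠ Y₂ →
      (∀ μ : ↥K →* ℂˣ, μ ≠ 1 → μ ≠ ν → χ ≠ L μ) → (χ : G → ℂ) t = 0) := by
  classical
  have := h.hKab
  have hcomm : ∀ a b : ↥K, a * b = b * a := fun a b => mul_comm' a b
  obtain ⟨hν1, hνν, hνu⟩ := hν
  have hε2 : (ε : ℂ) ^ 2 = 1 := by
    rcases hc.hε with h1 | h1 <;> rw [h1] <;> norm_num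
  -- the element `t` of `K`
  set t' : ↥K := ⟨t, h.htK⟩ with ht'
  have ht'1 : t' ≠ 1 := by
    intro h1
    have h2 : t = 1 := congrArg Subtype.val h1
    have h3 := h.ht
    rw [h2, orderOf_one] at h3
    omega
  have ht'2 : t' * t' = 1 := by
    apply Subtype.ext
    show t * t = 1
    have h3 := h.ht
    have h4 := pow_orderOf_eq_one t
    rw [h3, pow_two] at h4
    exact h4
  have hμt : ∀ μ : ↥K →* ℂˣ, ((μ t' : ℂˣ) : ℂ) * ((μ t' : ℂˣ) : ℂ) = 1 := by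
    intro μ
    rw [← Units.val_mul, ← map_mul, ht'2, map_one, Units.val_one]
  -- the rows
  have rowX : ∀ μ : ↥K →* ℂˣ, mult K μ (X : G → ℂ) = (ε : ℂ) - (if μ = 1 then (ε : ℂ) else 0) := by
    intro μ
    by_cases h1 : μ = 1
    · rw [h1, mult_one_eq, if_pos rfl, sub_self]
    by_cases h2 : μ = ν
    · rw [h2, hc.multν, if_neg hc.X_ne, if_pos rfl, if_neg hc.Y_ne_X.1.symm,
        if_neg hc.Y_ne_X.2.symm, if_neg hν1]
      ring
    · rw [hc.multL μ h1 h2, if_neg hc.X_ne, if_pos rfl, if_neg (hc.L_ne μ h1 h2).2.1.symm,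
        if_neg h1]
      ring
  have hsum := sum_dual_apply hcomm (A := ↥K)
  refine ⟨?_, ?_, ?_, ?_, ?_, ?_⟩
  · -- X = ε on KK
    rintro g ⟨hg1, x, hx⟩
    have hcl := IsCharacter.isClassFunction (IsIrrCharacter.isCharacter X.2)
    rw [← hcl g x]
    have hy1 : (⟨x * g * x⁻¹, hx⟩ : ↥K) ≠ 1 := by
      intro h1
      have h2 : x * g * x⁻¹ = 1 := congrArg Subtype.val h1
      apply hg1
      have : g = x⁻¹ * (x * g * x⁻¹) * x := by group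
      rw [this, h2]; group
    have h3 := hD2a (IsIrrCharacter.isCharacter X.2) ⟨x * g * x⁻¹, hx⟩ hy1
    rw [show x * g * x⁻¹ = ((⟨x * g * x⁻¹, hx⟩ : ↥K) : G) from rfl, h3]
    have h4 : ∀ μ : ↥K →* ℂˣ, mult K μ (X : G → ℂ) * ((μ ⟨x * g * x⁻¹, hx⟩ : ℂˣ) : ℂ)
        = (ε : ℂ) * ((μ ⟨x * g * x⁻¹, hx⟩ : ℂˣ) : ℂ) - (if μ = 1 then (ε : ℂ) else 0) := by
      intro μ
      rw [rowX]
      by_cases h1 : μ = 1
      · rw [if_pos h1, h1]; simp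
      · rw [if_neg h1]; ring
    rw [Finset.sum_congr rfl (fun μ _ => h4 μ), Finset.sum_sub_distrib, ← Finset.mul_sum, hsum,
      if_neg hy1, Finset.sum_ite_eq' Finset.univ (1 : ↥K →* ℂˣ), if_pos (Finset.mem_univ _)]
    ring
  · -- degree of X
    obtain ⟨a, ha⟩ := hD2b (IsIrrCharacter.isCharacter X.2)
    refine ⟨(a : ℤ) - ε, ?_⟩
    rw [ha, Finset.sum_congr rfl (fun μ _ => rowX μ), Finset.sum_sub_distrib,
      Finset.sum_ite_eq' Finset.univ (1 : ↥K →* ℂˣ), if_pos (Finset.mem_univ _), Finset.sum_const,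
      Finset.card_univ, nsmul_eq_mul]
    have h5 := hsum 1
    rw [if_pos rfl] at h5
    simp only [map_one, Units.val_one, Finset.sum_const, Finset.card_univ, nsmul_eq_mul,
      mul_one] at h5
    rw [h5, Nat.card_eq_fintype_card]
    push_cast
    ring
  · -- L μ at t
    intro μ hμ1 hμν
    have hμinv : μ⁻¹ ≠ μ := by
      intro h1
      have h2 : μ * μ = 1 := by
        nth_rewrite 1 [← h1]
        exact inv_mul_cancel μ
      rcases hνu μ h2 with h3 | h3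
      · exact hμ1 h3
      · exact hμν h3
    have hμi1 : μ⁻¹ ≠ 1 := fun h1 => hμ1 ((inv_eq_one (a := μ)).mp h1)
    have hμiν : μ⁻¹ ≠ ν := by
      intro h1
      apply hμν
      have h2 : μ = ν⁻¹ := by rw [← h1]; exact (inv_inv μ).symm
      have h3 : ν⁻¹ = ν := (inv_eq_iff_mul_eq_one (a := ν) (b := ν)).mpr hνν
      rw [h2, h3]
    have rowL : ∀ μ' : ↥K →* ℂˣ, mult K μ' (L μ : G → ℂ) =
        - (if μ' = μ then (ε : ℂ) else 0) - (if μ' = μ⁻¹ then (ε : ℂ) else 0) := by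
      intro μ'
      obtain ⟨hL1, hL2, hL3, hL4⟩ := hc.L_ne μ hμ1 hμν
      by_cases h1 : μ' = 1
      · rw [h1, mult_one_eq, if_neg (Ne.symm hμ1), if_neg (Ne.symm hμi1)]
        ring
      by_cases h2 : μ' = ν
      · rw [h2, hc.multν, if_neg hL1, if_neg hL2, if_neg hL3, if_neg hL4, if_neg (Ne.symm hμν),
          if_neg (Ne.symm hμiν)]
        ring
      · rw [hc.multL μ' h1 h2, if_neg hL1, if_neg hL2]
        have h3 := hc.L_eq_iff μ μ' hμ1 hμν h1 h2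
        by_cases h4 : μ' = μ
        · rw [if_pos (h3.mpr (Or.inl h4)), if_pos h4, if_neg (by rw [h4]; exact hμinv.symm)]
          ring
        by_cases h5 : μ' = μ⁻¹
        · rw [if_pos (h3.mpr (Or.inr h5)), if_neg h4, if_pos h5]
          ring
        · rw [if_neg (fun h6 => (h3.mp h6).elim h4 h5), if_neg h4, if_neg h5]
          ring
    have h3 := hD2a (IsIrrCharacter.isCharacter (L μ).2) t' ht'1
    have h4 : ∀ μ' : ↥K →* ℂˣ, mult K μ' (L μ : G → ℂ) * ((μ' t' : ℂˣ) : ℂ) =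
        - ((if μ' = μ then (ε : ℂ) * ((μ t' : ℂˣ) : ℂ) else 0) +
          (if μ' = μ⁻¹ then (ε : ℂ) * ((μ⁻¹ t' : ℂˣ) : ℂ) else 0)) := by
      intro μ'
      rw [rowL]
      by_cases h5 : μ' = μ
      · rw [if_pos h5, if_pos h5, if_neg (by rw [h5]; exact hμinv.symm),
          if_neg (by rw [h5]; exact hμinv.symm), h5]
        ring
      by_cases h6 : μ' = μ⁻¹
      · rw [if_neg h5, if_neg h5, if_pos h6, if_pos h6, h6]
        ring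
      · rw [if_neg h5, if_neg h5, if_neg h6, if_neg h6]
        ring
    have h7 : (L μ : G → ℂ) t = (ε : ℂ) * ((μ t' : ℂˣ) : ℂ) + (ε : ℂ) * ((μ⁻¹ t' : ℂˣ) : ℂ) := by
      have : t = (t' : G) := rfl
      rw [this, h3, Finset.sum_congr rfl (fun μ' _ => h4 μ'), Finset.sum_neg_distrib,
        Finset.sum_add_distrib, Finset.sum_ite_eq' Finset.univ μ, if_pos (Finset.mem_univ _),
        Finset.sum_ite_eq' Finset.univ μ⁻¹, if_pos (Finset.mem_univ _), neg_neg]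
    have h8 : ((μ⁻¹ t' : ℂˣ) : ℂ) = ((μ t' : ℂˣ) : ℂ) := by
      have h9 := hμt μ
      have h10 : ((μ t' : ℂˣ) : ℂ) ≠ 0 := Units.ne_zero _
      rw [MonoidHom.inv_apply, Units.val_inv_eq_inv_val]
      field_simp
      rw [pow_two]; exact h9.symm
    rw [h7, h8]
    have h9 := hμt μ
    calc ((ε : ℂ) * ((μ t' : ℂˣ) : ℂ) + (ε : ℂ) * ((μ t' : ℂˣ) : ℂ)) ^ 2
        = 4 * (ε : ℂ) ^ 2 * (((μ t' : ℂˣ) : ℂ) * ((μ t' : ℂˣ) : ℂ)) := by ring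
      _ = 4 := by rw [hε2, h9]; ring
  · -- Y₁ at t
    have rowY : ∀ μ' : ↥K →* ℂˣ, mult K μ' (Y₁ : G → ℂ) = - (if μ' = ν then (ε : ℂ) else 0) := by
      intro μ'
      by_cases h1 : μ' = 1
      · rw [h1, mult_one_eq, if_neg (Ne.symm hν1), neg_zero]
      by_cases h2 : μ' = ν
      · rw [h2, hc.multν, if_neg hc.Y_ne_triv.1, if_neg hc.Y_ne_X.1, if_pos rfl, if_neg hc.Y_ne,
          if_pos rfl]
        ring
      · rw [hc.multL μ' h1 h2, if_neg hc.Y_ne_triv.1, if_neg hc.Y_ne_X.1,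
          if_neg (hc.L_ne μ' h1 h2).2.2.1.symm, if_neg h2]
        ring
    have h3 := hD2a (IsIrrCharacter.isCharacter Y₁.2) t' ht'1
    have h4 : ∀ μ' : ↥K →* ℂˣ, mult K μ' (Y₁ : G → ℂ) * ((μ' t' : ℂˣ) : ℂ) =
        - (if μ' = ν then (ε : ℂ) * ((ν t' : ℂˣ) : ℂ) else 0) := by
      intro μ'
      rw [rowY]
      by_cases h5 : μ' = ν
      · rw [if_pos h5, if_pos h5, h5]; ring
      · rw [if_neg h5, if_neg h5]; ring
    have h7 : (Y₁ : G → ℂ) t = (ε : ℂ) * ((ν t' : ℂˣ) : ℂ) := by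
      have : t = (t' : G) := rfl
      rw [this, h3, Finset.sum_congr rfl (fun μ' _ => h4 μ'), Finset.sum_neg_distrib,
        Finset.sum_ite_eq' Finset.univ ν, if_pos (Finset.mem_univ _), neg_neg]
    rw [h7]
    have h9 := hμt ν
    calc ((ε : ℂ) * ((ν t' : ℂˣ) : ℂ)) ^ 2
        = (ε : ℂ) ^ 2 * (((ν t' : ℂˣ) : ℂ) * ((ν t' : ℂˣ) : ℂ)) := by ring
      _ = 1 := by rw [hε2, h9]; ring
  · -- Y₂ at t
    have rowY : ∀ μ' : ↥K →* ℂˣ, mult K μ' (Y₂ : G → ℂ) = - (if μ' = ν then (ε : ℂ) else 0) := by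
      intro μ'
      by_cases h1 : μ' = 1
      · rw [h1, mult_one_eq, if_neg (Ne.symm hν1), neg_zero]
      by_cases h2 : μ' = ν
      · rw [h2, hc.multν, if_neg hc.Y_ne_triv.2, if_neg hc.Y_ne_X.2, if_neg hc.Y_ne.symm,
          if_pos rfl, if_pos rfl]
        ring
      · rw [hc.multL μ' h1 h2, if_neg hc.Y_ne_triv.2, if_neg hc.Y_ne_X.2,
          if_neg (hc.L_ne μ' h1 h2).2.2.2.symm, if_neg h2]
        ring
    have h3 := hD2a (IsIrrCharacter.isCharacter Y₂.2) t' ht'1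
    have h4 : ∀ μ' : ↥K →* ℂˣ, mult K μ' (Y₂ : G → ℂ) * ((μ' t' : ℂˣ) : ℂ) =
        - (if μ' = ν then (ε : ℂ) * ((ν t' : ℂˣ) : ℂ) else 0) := by
      intro μ'
      rw [rowY]
      by_cases h5 : μ' = ν
      · rw [if_pos h5, if_pos h5, h5]; ring
      · rw [if_neg h5, if_neg h5]; ring
    have h7 : (Y₂ : G → ℂ) t = (ε : ℂ) * ((ν t' : ℂˣ) : ℂ) := by
      have : t = (t' : G) := rfl
      rw [this, h3, Finset.sum_congr rfl (fun μ' _ => h4 μ'), Finset.sum_neg_distrib,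
        Finset.sum_ite_eq' Finset.univ ν, if_pos (Finset.mem_univ _), neg_neg]
    rw [h7]
    have h9 := hμt ν
    calc ((ε : ℂ) * ((ν t' : ℂˣ) : ℂ)) ^ 2
        = (ε : ℂ) ^ 2 * (((ν t' : ℂˣ) : ℂ) * ((ν t' : ℂˣ) : ℂ)) := by ring
      _ = 1 := by rw [hε2, h9]; ring
  · -- the other characters vanish at t
    intro χ hχ1 hχX hχY1 hχY2 hχL
    have row0 : ∀ μ' : ↥K →* ℂˣ, mult K μ' (χ : G → ℂ) = 0 := by
      intro μ'
      by_cases h1 : μ' = 1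
      · rw [h1, mult_one_eq]
      by_cases h2 : μ' = ν
      · rw [h2, hc.multν, if_neg hχ1, if_neg hχX, if_neg hχY1, if_neg hχY2]
        ring
      · rw [hc.multL μ' h1 h2, if_neg hχ1, if_neg hχX, if_neg (hχL μ' h1 h2)]
        ring
    have h3 := hD2a (IsIrrCharacter.isCharacter χ.2) t' ht'1
    have : t = (t' : G) := rfl
    rw [this, h3, Finset.sum_eq_zero, neg_zero]
    intro μ' _
    rw [row0, zero_mul]

/-- **V1** with the two statements of D2 as hypotheses quantified over all `Fintype` instances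
(so that `table_of' h hk (fun _ => apply_of_mem h) (fun _ => apply_one_eq h) hν hc` is the frozen
leaf `table`). -/
theorem table_of' {t s : G} {K : Subgroup G} (h : Hyp t s K) (hk : 4 ≤ Nat.card K)
    (hD2a : ∀ (_ : Fintype (↥K →* ℂˣ)) {χ : G → ℂ}, IsCharacter G χ → ∀ y : ↥K, y ≠ 1 →
      χ (y : G) = - ∑ μ : ↥K →* ℂˣ, mult K μ χ * ((μ y : ℂˣ) : ℂ))
    (hD2b : ∀ (_ : Fintype (↥K →* ℂˣ)) {χ : G → ℂ}, IsCharacter G χ →
      ∃ a : ℕ, χ 1 = (a : ℂ) * (Nat.card K : ℂ) - ∑ μ : ↥K →* ℂˣ, mult K μ χ)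
    {ν : ↥K →* ℂˣ} (hν : ν ≠ 1 ∧ ν * ν = 1 ∧ ∀ μ : ↥K →* ℂˣ, μ * μ = 1 → μ = 1 ∨ μ = ν)
    {ε : ℤ} {X : IrrCharacter G} {L : (↥K →* ℂˣ) → IrrCharacter G} {Y₁ Y₂ : IrrCharacter G}
    (hc : Coh K ν ε X L Y₁ Y₂) :
    (∀ g ∈ KK K, (X : G → ℂ) g = (ε : ℂ)) ∧
    (∃ b : ℤ, (X : G → ℂ) 1 = (b : ℂ) * (Nat.card K : ℂ) + (ε : ℂ)) ∧
    (∀ μ : ↥K →* ℂˣ, μ ≠ 1 → μ ≠ ν → ((L μ : G → ℂ) t) ^ 2 = 4) ∧
    ((Y₁ : G → ℂ) t) ^ 2 = 1 ∧ ((Y₂ : G → ℂ) t) ^ 2 = 1 ∧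
    (∀ χ : IrrCharacter G, χ ≠ trivIrr G → χ ≠ X → χ ≠ Y₁ → χ ≠ Y₂ →
      (∀ μ : ↥K →* ℂˣ, μ ≠ 1 → μ ≠ ν → χ ≠ L μ) → (χ : G → ℂ) t = 0) := by
  have := h.hKab
  have hfin : Finite (↥K →* ℂˣ) := finite_dual K (fun a b => mul_comm' a b)
  letI : Fintype (↥K →* ℂˣ) := Fintype.ofFinite _
  exact table_of h hk (hD2a _) (hD2b _) hν hc

end Cfsg.Agent.Lib.Helper2.BSWCV1
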