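import Mathlib
import Cfsg.Prelude.Def_Characters
import Cfsg.Agent.Lib.Helper24.BSWDefs
import Cfsg.Agent.Lib.Helper1.BSWCDefs
import Cfsg.Agent.Lib.Helper10.PowTwistChar
import Cfsg.Agent.Lib.Helper10.CyclicTIGalois

/-!
# S3282-V3 (helper2): `int_valued`
-/

set_option autoImplicit false
open Cfsg Cfsg.Agent.Lib.Helper24.BSW Cfsg.Agent.CharLib Cfsg.Agent.Lib.Helper1.BSWC
open scoped ComplexConjugate

namespace Cfsg.Agent.Lib.Helper2.BSWCV3

universe u

variable {G : Type u} [Group G] [Fintype G]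

/-- power-map twists of the `Θ_μ` (= T7) -/
theorem powTwist_theta' (K : Subgroup G) (μ : ↥K →* ℂˣ) (n : ℕ) (hn : n.Coprime (Nat.card G)) :
    Cfsg.Agent.Lib.Helper10.powTwist n (theta K μ) = theta K (μ ^ n) := by
  unfold theta
  rw [Cfsg.Agent.Lib.Helper10.powTwist_indFun K _ n hn]
  congr 1
  funext w
  rw [MonoidHom.pow_apply, map_pow]

/-- **V3** `X` is integer valued. -/
theorem int_valued {K : Subgroup G} (X : IrrCharacter G) (ε : ℂ)
    (hX : ∀ μ : ↥K →* ℂˣ, μ ≠ 1 → mult K μ (X : G → ℂ) = ε)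
    (huniq : ∀ χ : IrrCharacter G, (∀ μ : ↥K →* ℂˣ, μ ≠ 1 → mult K μ (χ : G → ℂ) = ε) →
      (χ : G → ℂ) 1 = (X : G → ℂ) 1 → χ = X) :
    ∀ g : G, ∃ n : ℤ, (X : G → ℂ) g = (n : ℂ) := by
  intro g
  apply Cfsg.Agent.Lib.Helper10.irr_int_of_forall_pow_eq X.2 g
  intro m hm
  have hirr := Cfsg.Agent.Lib.Helper10.isIrrCharacter_powTwist m hm X.2
  have hmk : m.Coprime (Nat.card K) :=
    Nat.Coprime.coprime_dvd_right (Subgroup.card_subgroup_dvd_card K) hm
  have ha : ∀ μ : ↥K →* ℂˣ, μ ≠ 1 →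
      mult K μ (Cfsg.Agent.Lib.Helper10.powTwist m (X : G → ℂ)) = ε := by
    intro μ hμ
    have hxk : ∀ x : ↥K, μ x ^ Nat.card K = 1 := by
      intro x
      rw [← map_pow, pow_card_eq_one', map_one]
    have hk1 : 1 < Nat.card K := by
      by_contra hle
      push Not at hle
      have h1 : Nat.card K = 1 := le_antisymm hle Nat.card_pos
      apply hμ
      ext x
      have h2 := hxk x
      rw [h1, pow_one] at h2
      rw [h2, MonoidHom.one_apply]
    obtain ⟨m', -, hm'⟩ := Nat.exists_mul_mod_eq_one_of_coprime hmk hk1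
    have hμ'm : (μ ^ m') ^ m = μ := by
      ext x
      rw [MonoidHom.pow_apply, MonoidHom.pow_apply, ← pow_mul, mul_comm,
        pow_eq_pow_mod (m * m') (hxk x), hm', pow_one]
    have hμ'1 : μ ^ m' ≠ 1 := by
      intro h1
      apply hμ
      ext x
      have h2 := DFunLike.congr_fun hμ'm x
      rw [MonoidHom.pow_apply, h1, MonoidHom.one_apply, one_pow] at h2
      rw [← h2, MonoidHom.one_apply]
    have h2 := hX (μ ^ m') hμ'1
    unfold mult at h2 ⊢
    rw [← hμ'm, ← powTwist_theta' K (μ ^ m') m hm,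
      Cfsg.Agent.Lib.Helper10.classInner_powTwist m hm]
    exact h2
  have hb : Cfsg.Agent.Lib.Helper10.powTwist m (X : G → ℂ) 1 = (X : G → ℂ) 1 := by
    rw [Cfsg.Agent.Lib.Helper10.powTwist_apply, one_pow]
  have h3 := huniq ⟨_, hirr⟩ ha hb
  have h4 := congrArg Subtype.val h3
  have h5 := congrFun h4 g
  exact h5

end Cfsg.Agent.Lib.Helper2.BSWCV3
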