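import Mathlib
import Cfsg.Agent.Lib.Helper12.WidthOne

/-!
A `Z*`-type theorem for odd primes (generalizing helper12's width-one lemma): if the product of any
two conjugates of the involution `d` has `p`-power order (`p` odd), then the class of `d` lies in
`P d` for a `d`-invariant Sylow `p`-subgroup `P`, and all the products lie in `O_p(G)`.
-/

set_option autoImplicit false
set_option linter.unusedSectionVars false

open Subgroup

namespace Cfsg.Agent.Lib.Helper2.ZStarOddP

universe u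

variable {G : Type u} [Group G] [Finite G]

open Cfsg.Agent.Lib.Helper12 in
theorem exists_sylow_of_ppow_products {p : ℕ} [hp : Fact p.Prime] (hp2 : p ≠ 2) {d : G}
    (hd : orderOf d = 2)
    (hprod : ∀ a ∈ conjugatesOf d, ∀ b ∈ conjugatesOf d, ∃ k : ℕ, orderOf (a * b) = p ^ k) :
    ∃ P : Sylow p G, d ∈ normalizer ((P : Subgroup G) : Set G) ∧
      ∀ e ∈ conjugatesOf d, ∃ x ∈ (P : Subgroup G), e = x * d := by
  classical
  have hpp : p.Prime := hp.out
  have hpodd : Odd p := hpp.odd_of_ne_two hp2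
  have hdd : d * d = 1 := mul_self_of_orderOf_two hd
  have hdi : d⁻¹ = d := inv_eq_of_mul_eq_one_left hdd
  have hclass : ∀ e : G, e ∈ conjugatesOf d ↔ ∃ g : G, g * d * g⁻¹ = e := by
    intro e
    show IsConj d e ↔ _
    rw [isConj_iff]
  have hdD : d ∈ conjugatesOf d := mem_conjugatesOf_self
  have hconj : ∀ g : G, g * d * g⁻¹ ∈ conjugatesOf d := fun g => (hclass _).mpr ⟨g, rfl⟩
  have hz : Cfsg.IsIsolatedInvolution d := by
    refine ⟨hd, fun g hc => ?_⟩
    set e := g * d * g⁻¹ with he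
    have hee : e * e = 1 := by rw [he]; calc g * d * g⁻¹ * (g * d * g⁻¹) = g * (d * d) * g⁻¹ := by group
      _ = 1 := by rw [hdd]; group
    obtain ⟨k, hk⟩ := hprod d hdD e (hconj g)
    have h2 : (d * e) ^ 2 = 1 := by
      rw [pow_two]
      calc d * e * (d * e) = d * (e * d) * e := by group
        _ = d * (d * e) * e := by rw [hc.eq]
        _ = (d * d) * (e * e) := by group
        _ = 1 := by rw [hdd, hee, one_mul]
    have h3 : orderOf (d * e) ∣ 2 := orderOf_dvd_of_pow_eq_one h2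
    rw [hk] at h3
    have hk0 : k = 0 := by
      by_contra hk0
      have h4 : p ∣ 2 := (dvd_pow_self p hk0).trans h3
      have h5 := (Nat.prime_dvd_prime_iff_eq hpp Nat.prime_two).mp h4
      exact hp2 h5
    rw [hk0, pow_zero, orderOf_eq_one_iff] at hk
    have : e = d⁻¹ := (inv_eq_of_mul_eq_one_right hk).symm
    rw [this, hdi]
  set C : Subgroup G := centralizer ({d} : Set G) with hC
  set n := C.index with hn
  have hcardD : Nat.card {e : G // e ∈ conjugatesOf d} = n := by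
    rw [hn, hC, ← card_conj_eq_index d]
    exact Nat.card_congr (Equiv.subtypeEquivRight hclass)
  -- inverted elements of odd order
  have hinv : ∀ x : G, Odd (orderOf x) → d * x * d⁻¹ = x⁻¹ → x * d ∈ conjugatesOf d := by
    intro x hodd hx
    obtain ⟨k, hk⟩ := Cfsg.Agent.Lib.Helper29.ZStar.exists_sqrt_of_odd x hodd
    have hy : d * x ^ k * d⁻¹ = (x ^ k)⁻¹ := by
      rw [← conj_pow, hx, inv_pow]
    have h1 : x ^ k * d * (x ^ k)⁻¹ = x * d := by
      have h2 : d * (x ^ k)⁻¹ * d⁻¹ = x ^ k := by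
        have h3 : d * (x ^ k)⁻¹ * d⁻¹ = (d * x ^ k * d⁻¹)⁻¹ := by group
        rw [h3, hy, inv_inv]
      calc x ^ k * d * (x ^ k)⁻¹ = x ^ k * (d * (x ^ k)⁻¹ * d⁻¹) * d := by group
        _ = x ^ k * x ^ k * d := by rw [h2]
        _ = x * d := by rw [hk]
    rw [← h1]
    exact hconj _
  have hinvp : ∀ x : G, Odd (orderOf x) → d * x * d⁻¹ = x⁻¹ → ∃ k : ℕ, orderOf x = p ^ k := by
    intro x hodd hx
    have h1 := hprod (x * d) (hinv x hodd hx) d hdD
    have h2 : x * d * d = x := by rw [mul_assoc, hdd, mul_one]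
    rwa [h2] at h1
  -- primes other than `p` do not divide `n`
  have hprime : ∀ q : ℕ, q.Prime → q ∣ n → q = p := by
    intro q hq hqn
    by_contra hq3
    have : Fact q.Prime := ⟨hq⟩
    by_cases hq2 : q = 2
    · subst hq2
      obtain ⟨S, -, hSC⟩ := Cfsg.Agent.Lib.Helper29.ZStar.exists_sylow_le_centralizer hz
      have h1 : n ∣ (S : Subgroup G).index := Subgroup.index_dvd_of_le hSC
      exact S.not_dvd_index (hqn.trans h1)
    · obtain ⟨Q, hQ⟩ := exists_sylow_normalized_of_isolated hz q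
      obtain ⟨-, h2⟩ := Cfsg.Agent.Lib.Helper29.ZStar.sylow_inf_centralizer zStarStmt d hz hq2 Q hQ
      have hqodd : Odd q := hq.odd_of_ne_two hq2
      have h3 : Nat.card {x : G // x ∈ Q ∧ d * x * d⁻¹ = x⁻¹} = 1 := by
        rw [Nat.card_eq_one_iff_unique]
        refine ⟨⟨?_⟩, ⟨⟨1, one_mem _, by simp⟩⟩⟩
        rintro ⟨x, hxQ, hx⟩ ⟨y, hyQ, hy⟩
        have key : ∀ x : G, x ∈ Q → d * x * d⁻¹ = x⁻¹ → x = 1 := by
          intro x hxQ hx
          obtain ⟨m, hm⟩ := (Q.2 ⟨x, hxQ⟩)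
          have hm' : x ^ q ^ m = 1 := by
            have := congrArg Subtype.val hm
            simpa using this
          have hox : orderOf x ∣ q ^ m := orderOf_dvd_of_pow_eq_one hm'
          have hodd : Odd (orderOf x) := Odd.of_dvd_nat (hqodd.pow) hox
          rw [← orderOf_eq_one_iff]
          obtain ⟨k, hk⟩ := hinvp x hodd hx
          have h6 : orderOf x ∣ Nat.gcd (q ^ m) (p ^ k) := Nat.dvd_gcd hox (by rw [hk])
          have h7 : Nat.Coprime (q ^ m) (p ^ k) :=
            Nat.Coprime.pow m k ((Nat.coprime_primes hq hpp).mpr hq3)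
          rw [h7] at h6
          exact Nat.dvd_one.mp h6
        apply Subtype.ext
        show x = y
        rw [key x hxQ hx, key y hyQ hy]
      rw [h3, Subgroup.relIndex_eq_one] at h2
      have hQC : (Q : Subgroup G) ≤ C := h2.trans inf_le_right
      have h1 : n ∣ (Q : Subgroup G).index := Subgroup.index_dvd_of_le hQC
      exact Q.not_dvd_index (hqn.trans h1)
  have hn0 : n ≠ 0 := Subgroup.index_ne_zero_of_finite
  obtain ⟨m, hm⟩ : ∃ m : ℕ, n = p ^ m :=
    ⟨_, Nat.eq_prime_pow_of_unique_prime_dvd hn0 (fun {q} hq hqn => hprime q hq hqn)⟩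
  -- the Sylow `p`-subgroup
  obtain ⟨P, hP⟩ := exists_sylow_normalized_of_isolated hz p
  obtain ⟨hu, hb⟩ := Cfsg.Agent.Lib.Helper29.ZStar.sylow_inf_centralizer zStarStmt d hz hp2 P hP
  set b := ((P : Subgroup G) ⊓ C).relIndex (P : Subgroup G) with hbdef
  set u := ((P : Subgroup G) ⊓ C).relIndex C with hudef
  have h1 : b * (P : Subgroup G).index = u * n := by
    rw [hbdef, hudef, hn, Subgroup.relIndex_mul_index inf_le_left,
      Subgroup.relIndex_mul_index inf_le_right]
  obtain ⟨j, hj⟩ : ∃ j : ℕ, b = p ^ j := by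
    have h2 : b ∣ Nat.card (P : Subgroup G) := Subgroup.relIndex_dvd_card _ _
    obtain ⟨k, hk⟩ := IsPGroup.iff_card.mp P.2
    rw [hk] at h2
    obtain ⟨j, -, hj⟩ := (Nat.dvd_prime_pow hpp).mp h2
    exact ⟨j, hj⟩
  have hbn : b = n := by
    rw [hj, hm]
    rw [hj, hm] at h1
    have hv : Nat.Coprime p (P : Subgroup G).index :=
      (Nat.Prime.coprime_iff_not_dvd hpp).mpr P.not_dvd_index
    have hu' : Nat.Coprime p u := (Nat.Prime.coprime_iff_not_dvd hpp).mpr hu
    have h3 : p ^ j ∣ p ^ m := by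
      have h4 : p ^ j ∣ u * p ^ m := Dvd.intro _ h1
      exact (Nat.Coprime.pow_left j hu').dvd_of_dvd_mul_left h4
    have h4 : p ^ m ∣ p ^ j := by
      have h5 : p ^ m ∣ p ^ j * (P : Subgroup G).index := Dvd.intro_left _ h1.symm
      exact (Nat.Coprime.pow_left m hv).dvd_of_dvd_mul_right h5
    exact Nat.dvd_antisymm h3 h4
  -- the injection `x ↦ x d`
  have hPodd : ∀ x ∈ (P : Subgroup G), Odd (orderOf x) := by
    intro x hx
    obtain ⟨k, hk⟩ := (P.2 ⟨x, hx⟩)
    have hk' : x ^ p ^ k = 1 := by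
      have := congrArg Subtype.val hk
      simpa using this
    exact Odd.of_dvd_nat (Odd.pow hpodd) (orderOf_dvd_of_pow_eq_one hk')
  let φ : {x : G // x ∈ P ∧ d * x * d⁻¹ = x⁻¹} → {e : G // e ∈ conjugatesOf d} :=
    fun x => ⟨x.1 * d, hinv x.1 (hPodd x.1 x.2.1) x.2.2⟩
  have hφinj : Function.Injective φ := by
    intro x y hxy
    have h2 : x.1 * d = y.1 * d := congrArg Subtype.val hxy
    exact Subtype.ext (mul_right_cancel h2)
  have hφbij : Function.Bijective φ := by
    apply hφinj.bijective_of_nat_card_le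
    rw [hcardD, ← hbn, hb]
  refine ⟨P, hP, ?_⟩
  intro e he
  obtain ⟨⟨x, hxP, hxi⟩, hx⟩ := hφbij.2 ⟨e, he⟩
  exact ⟨x, hxP, (congrArg Subtype.val hx).symm⟩

/-- **Z\*-type theorem for odd `p`**: the products of two conjugates of `d` lie in `O_p(G)`. -/
theorem mul_mem_pCore {p : ℕ} [hp : Fact p.Prime] (hp2 : p ≠ 2) {d : G}
    (hd : orderOf d = 2)
    (hprod : ∀ a ∈ conjugatesOf d, ∀ b ∈ conjugatesOf d, ∃ k : ℕ, orderOf (a * b) = p ^ k) :
    ∀ a ∈ conjugatesOf d, ∀ b ∈ conjugatesOf d, a * b ∈ Cfsg.pCore p G := by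
  obtain ⟨P, hdP, hD⟩ := exists_sylow_of_ppow_products hp2 hd hprod
  have hdd : d * d = 1 := Cfsg.Agent.Lib.Helper12.mul_self_of_orderOf_two hd
  have hdi : d⁻¹ = d := inv_eq_of_mul_eq_one_left hdd
  set T : Set G := {x | ∃ a ∈ conjugatesOf d, ∃ b ∈ conjugatesOf d, x = a * b} with hT
  set N : Subgroup G := Subgroup.closure T with hN
  have hTP : T ⊆ (P : Subgroup G) := by
    rintro x ⟨a, ha, b, hb, rfl⟩
    obtain ⟨x, hx, rfl⟩ := hD a ha
    obtain ⟨y, hy, rfl⟩ := hD b hb
    have h1 : x * d * (y * d) = x * (d * y * d⁻¹) := by rw [hdi]; group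
    rw [h1]
    exact mul_mem hx ((Subgroup.mem_normalizer_iff.mp hdP y).mp hy)
  have hNP : N ≤ (P : Subgroup G) := (Subgroup.closure_le _).mpr hTP
  have hNnormal : N.Normal := by
    refine ⟨fun n hn g => ?_⟩
    have h1 : (MulAut.conj g).toMonoidHom n ∈ N.map (MulAut.conj g).toMonoidHom :=
      Subgroup.mem_map_of_mem _ hn
    rw [hN, MonoidHom.map_closure] at h1
    have h2 : (MulAut.conj g).toMonoidHom '' T ⊆ T := by
      rintro _ ⟨x, ⟨a, ha, b, hb, rfl⟩, rfl⟩
      refine ⟨g * a * g⁻¹, ?_, g * b * g⁻¹, ?_, ?_⟩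
      · exact IsConj.trans (show IsConj d a from ha) (isConj_iff.mpr ⟨g, rfl⟩)
      · exact IsConj.trans (show IsConj d b from hb) (isConj_iff.mpr ⟨g, rfl⟩)
      · simp only [MulEquiv.coe_toMonoidHom, MulAut.conj_apply]
        group
    have h3 := Subgroup.closure_mono h2 h1
    simpa [MulAut.conj_apply] using h3
  have hNp : IsPGroup p N := P.2.to_le hNP
  have hle : N ≤ Cfsg.pCore p G := le_sSup ⟨hNnormal, hNp⟩
  intro a ha b hb
  exact hle (Subgroup.subset_closure ⟨a, ha, b, hb, rfl⟩)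

end Cfsg.Agent.Lib.Helper2.ZStarOddP
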