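import Mathlib

/-!
# Generation of `SL_n` by transvections, perfectness, simplicity of `PSL_n` (helper2 library)
-/

set_option autoImplicit false

namespace Cfsg.Agent.Lib.Helper2

open Matrix Matrix.SpecialLinearGroup

section SLGen

variable {F : Type*} [Field F] {ι : Type*} [DecidableEq ι] [Fintype ι]

theorem diag2n_decompose_mat {i j : ι} (hij : i ≠ j) (a : F) (ha : a ≠ 0) :
    (diagonal (fun k ↦ if k = i then a else if k = j then a⁻¹ else 1) : Matrix ι ι F) =
      (1 + single i j a) * (1 + single j i (-a⁻¹)) * (1 + single i j a) *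
      (1 + single i j (-1)) * (1 + single j i 1) * (1 + single i j (-1)) := by
  simp only [mul_add, add_mul, mul_one, one_mul, single_mul_single_same,
    single_mul_single_of_ne _ _ _ _ hij, single_mul_single_of_ne _ _ _ _ hij.symm,
    add_zero]
  have hji : j ≠ i := hij.symm
  ext k l
  simp only [Matrix.add_apply, Matrix.one_apply, Matrix.single_apply, Matrix.diagonal_apply]
  by_cases hki : i = k <;> by_cases hkj : j = k <;> by_cases hli : i = l <;>
    by_cases hlj : j = l <;> simp_all [eq_comm]

theorem diag2n_decompose {i j : ι} (hij : i ≠ j) (a : F) (ha : a ≠ 0) :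
    diag2n hij a ha = SpecialLinearGroup.transvection hij a *
      SpecialLinearGroup.transvection hij.symm (- a⁻¹) *
      SpecialLinearGroup.transvection hij a *
      SpecialLinearGroup.transvection hij (-1) *
      SpecialLinearGroup.transvection hij.symm 1 *
      SpecialLinearGroup.transvection hij (-1) := by
  apply Subtype.ext
  exact diag2n_decompose_mat hij a ha

/-- `SL_n(F)` is generated by transvections. -/
theorem sl_transvection_induction [Nontrivial ι] (P : SpecialLinearGroup ι F → Prop)
    (htransvec : ∀ (i j : ι) (h : i ≠ j) (c : F), P (SpecialLinearGroup.transvection h c))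
    (hmul : ∀ A B, P A → P B → P (A * B)) (A : SpecialLinearGroup ι F) : P A := by
  refine diagonal_transvection_induction' P _ (fun i j hij c hc ↦ ?_) htransvec hmul
  rw [diag2n_decompose hij c hc]
  refine hmul _ _ (hmul _ _ (hmul _ _ (hmul _ _ (hmul _ _ ?_ ?_) ?_) ?_) ?_) ?_
  all_goals exact htransvec _ _ _ _

open scoped commutatorElement in
/-- a transvection is a commutator when there is a third index -/
theorem transvection_eq_commutator {i j k : ι} (hij : i ≠ j) (hik : i ≠ k) (hkj : k ≠ j) (a : F) :
    (SpecialLinearGroup.transvection hij a : SpecialLinearGroup ι F) =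
      ⁅SpecialLinearGroup.transvection hik a, SpecialLinearGroup.transvection hkj 1⁆ := by
  rw [commutatorElement_def, transvection_inv, transvection_inv]
  apply Subtype.ext
  show (1 + single i j a : Matrix ι ι F) =
    (1 + single i k a) * (1 + single k j 1) * (1 + single i k (-a)) * (1 + single k j (-1))
  simp only [mul_add, add_mul, mul_one, one_mul, single_mul_single_same,
    single_mul_single_of_ne _ _ _ _ hik.symm, single_mul_single_of_ne _ _ _ _ hkj.symm,
    single_mul_single_of_ne _ _ _ _ hij.symm, add_zero]
  ext p q
  simp only [Matrix.add_apply, Matrix.one_apply, Matrix.single_apply]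
  by_cases hpi : i = p <;> by_cases hpk : k = p <;> by_cases hqj : j = q <;>
    by_cases hqk : k = q <;> simp_all [eq_comm]

/-- `SL_n(F)` is perfect when there are at least three indices. -/
theorem sl_commutator_eq_top (h3 : 3 ≤ Fintype.card ι) :
    commutator (SpecialLinearGroup ι F) = ⊤ := by
  have hnt : Nontrivial ι := Fintype.one_lt_card_iff_nontrivial.mp (by omega)
  refine le_antisymm le_top (fun A _ ↦ sl_transvection_induction _ ?_ (fun _ _ ↦ mul_mem) A)
  intro i j hij c
  -- choose a third index
  obtain ⟨k, hk⟩ : ∃ k : ι, k ≠ i ∧ k ≠ j := by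
    by_contra hne
    push Not at hne
    have : Fintype.card ι ≤ 2 := by
      classical
      have hsub : (Finset.univ : Finset ι) ⊆ {i, j} := by
        intro k _
        by_cases hki : k = i
        · simp [hki]
        · simp [hne k hki]
      calc Fintype.card ι = (Finset.univ : Finset ι).card := rfl
        _ ≤ ({i, j} : Finset ι).card := Finset.card_le_card hsub
        _ ≤ 2 := Finset.card_le_two
    omega
  rw [transvection_eq_commutator hij hk.1.symm hk.2 c]
  exact Subgroup.commutator_mem_commutator (Subgroup.mem_top _) (Subgroup.mem_top _)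

open scoped LinearAlgebra.Projectivization in
/-- the line stabilizers generate `SL_n(F)` -/
theorem iSup_lineStab_eq_top [Nontrivial ι] :
    (⨆ p : ℙ F (ι → F), lineStab p.submodule) = (⊤ : Subgroup (SpecialLinearGroup ι F)) := by
  refine le_antisymm le_top (fun A _ ↦ sl_transvection_induction _ ?_ (fun _ _ ↦ mul_mem) A)
  intro i j hij c
  have h1 := SL2Gen.transvection_mem_lineStab (F := F) hij c
  rw [← Projectivization.submodule_mk (K := F) _ (Pi.single_ne_zero_iff.2 one_ne_zero)] at h1
  exact (le_iSup (fun p : ℙ F (ι → F) => lineStab p.submodule) _) h1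

theorem iSup_iwasawaT_eq_top [Nontrivial ι] :
    iSup (PSL.iwasawaT (F := F) (ι := ι)) = ⊤ := by
  have step1 : iSup (PSL.iwasawaT (F := F) (ι := ι)) =
      Subgroup.map (QuotientGroup.mk' (Subgroup.center (Matrix.SpecialLinearGroup ι F)))
        (⨆ p : Projectivization F (ι → F),
          Matrix.SpecialLinearGroup.lineStab (F := F) (ι := ι) p.submodule) := by
    rw [Subgroup.map_iSup]
  rw [step1, iSup_lineStab_eq_top]
  exact Subgroup.map_top_of_surjective _ (QuotientGroup.mk'_surjective _)

open MulAction in
/-- The Iwasawa structure on `PSL_n(F)`. -/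
noncomputable def pslIwasawa [Nontrivial ι] :
    IwasawaStructure (Matrix.ProjectiveSpecialLinearGroup ι F) (Projectivization F (ι → F)) where
  T := PSL.iwasawaT
  is_comm p := by
    have hSL : IsMulCommutative (lineStab (F := F) (ι := ι) p.submodule) := by
      rw [← Projectivization.mk_rep p, Projectivization.submodule_mk]
      exact lineStab_isMulCommutative_of_span p.rep p.rep_nonzero
    exact Subgroup.map_isMulCommutative _ _
  is_conj g p := by
    obtain ⟨g_SL, rfl⟩ := QuotientGroup.mk_surjective g
    rw [Matrix.ProjectiveSpecialLinearGroup.smul_proj_mk]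
    change Subgroup.map _ _ = _
    rw [PSL.smul_submodule, Matrix.SpecialLinearGroup.lineStab_smul,
      PSL.iwasawaT_map_conj]
  is_generator := iSup_iwasawaT_eq_top

/-- `PSL_n(F)` is simple for `n ≥ 3`. -/
theorem psl_isSimpleGroup (h3 : 3 ≤ Fintype.card ι) :
    IsSimpleGroup (Matrix.ProjectiveSpecialLinearGroup ι F) := by
  have hnt : Nontrivial ι := Fintype.one_lt_card_iff_nontrivial.mp (by omega)
  have hperf : commutator (Matrix.ProjectiveSpecialLinearGroup ι F) = ⊤ := by
    have : Group.IsPerfect (SpecialLinearGroup ι F) := ⟨sl_commutator_eq_top h3⟩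
    have : Group.IsPerfect (Matrix.ProjectiveSpecialLinearGroup ι F) := inferInstance
    exact this.commutator_eq_top
  exact MulAction.IwasawaStructure.isSimpleGroup hperf pslIwasawa inferInstance

end SLGen

end Cfsg.Agent.Lib.Helper2
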