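import Mathlib
import Cfsg.Prelude.Def_GeometricClasses
import Cfsg.Agent.Lib.Helper11.MonoDefs
import Cfsg.Agent.Lib.Helper2.SLGen

/-!
S5634 (m = 1 market of helper11), leaf MA: a subgroup of `GL` containing all monomial matrices of
determinant one and one non-trivial elementary transvection contains `SL`.
-/

set_option autoImplicit false
set_option linter.unusedSectionVars false

namespace Cfsg.Agent.Lib.Helper2.MonoLeaf
open Matrix Cfsg.Agent.Lib.Helper11.Mono

variable {F : Type*} [Field F] {ι : Type} [Fintype ι] [DecidableEq ι]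

/-- permutation matrix as an element of `GL` -/
noncomputable def pmGL (σ : Equiv.Perm ι) : GL ι F :=
  ⟨σ.permMatrix F, σ⁻¹.permMatrix F, by rw [← Matrix.permMatrix_mul]; simp,
    by rw [← Matrix.permMatrix_mul]; simp⟩

lemma pmGL_val (σ : Equiv.Perm ι) : ((pmGL σ : GL ι F) : Matrix ι ι F) = σ.permMatrix F := rfl

lemma permMatrix_apply' (σ : Equiv.Perm ι) (x y : ι) :
    (σ.permMatrix F) x y = if σ x = y then 1 else 0 := by
  rw [Equiv.Perm.permMatrix, PEquiv.toMatrix_apply, Equiv.toPEquiv_apply]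
  simp

/-- the entries of a monomial matrix `diag(d) * P_σ` -/
lemma mono_val (d : ι → Fˣ) (σ : Equiv.Perm ι) (x y : ι) :
    ((dg d * pmGL σ : GL ι F) : Matrix ι ι F) x y = if σ x = y then (d x : F) else 0 := by
  rw [Units.val_mul, dg_val, pmGL_val, Matrix.diagonal_mul, permMatrix_apply']
  split_ifs <;> simp

lemma mono_isMono (d : ι → Fˣ) (σ : Equiv.Perm ι) :
    IsMono ((dg d * pmGL σ : GL ι F) : Matrix ι ι F) := by
  intro y
  refine ⟨σ.symm y, fun k hk => ?_⟩
  rw [mono_val, if_neg]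
  intro h
  apply hk
  rw [← h]
  simp

lemma mono_conj (d : ι → Fˣ) (σ : Equiv.Perm ι) {i j p q : ι} (hp : σ p = i) (hq : σ q = j)
    (c : F) :
    ((dg d * pmGL σ : GL ι F) : Matrix ι ι F) * (1 + Matrix.single i j c) =
      (1 + Matrix.single p q ((d p : F) * c * ((d q : F))⁻¹)) *
        ((dg d * pmGL σ : GL ι F) : Matrix ι ι F) := by
  rw [mul_add, add_mul, mul_one, one_mul]
  congr 1
  ext x y
  by_cases hy : y = j
  · rw [hy, Matrix.mul_single_apply_same, mono_val]
    by_cases hx : x = p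
    · rw [hx, Matrix.single_mul_apply_same, mono_val, if_pos hp, if_pos hq]
      have hd : (d q : F) ≠ 0 := (d q).ne_zero
      field_simp
    · rw [Matrix.single_mul_apply_of_ne _ _ _ _ _ hx, if_neg, zero_mul]
      intro h
      apply hx
      apply σ.injective
      rw [h, hp]
  · rw [Matrix.mul_single_apply_of_ne _ _ _ _ _ hy]
    by_cases hx : x = p
    · rw [hx, Matrix.single_mul_apply_same, mono_val, if_neg, mul_zero]
      rw [hq]
      exact Ne.symm hy
    · rw [Matrix.single_mul_apply_of_ne _ _ _ _ _ hx]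

lemma exists_perm_pair {i j p q : ι} (hij : i ≠ j) (hpq : p ≠ q) :
    ∃ σ : Equiv.Perm ι, σ p = i ∧ σ q = j := by
  refine ⟨Equiv.swap (Equiv.swap p i q) j * Equiv.swap p i, ?_, ?_⟩
  · rw [Equiv.Perm.mul_apply, Equiv.swap_apply_left]
    apply Equiv.swap_apply_of_ne_of_ne
    · intro h
      have h2 : Equiv.swap p i p = Equiv.swap p i q := by rw [Equiv.swap_apply_left]; exact h
      exact hpq ((Equiv.swap p i).injective h2)
    · exact hij
  · rw [Equiv.Perm.mul_apply, Equiv.swap_apply_left]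

lemma exists_third (h3 : 3 ≤ Fintype.card ι) (p q : ι) : ∃ k : ι, k ≠ p ∧ k ≠ q := by
  by_contra hcon
  push Not at hcon
  have hsub : (Finset.univ : Finset ι) ⊆ {p, q} := by
    intro k _
    by_cases hk : k = p
    · rw [hk]; simp
    · rw [hcon k hk]; simp
  have h1 := Finset.card_le_card hsub
  have h2 : ({p, q} : Finset ι).card ≤ 2 := Finset.card_le_two
  rw [Finset.card_univ] at h1
  omega

lemma det_dg_unit (d : ι → Fˣ) :
    Matrix.GeneralLinearGroup.det (dg d : GL ι F) = ∏ l, d l := by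
  apply Units.ext
  rw [Matrix.GeneralLinearGroup.val_det_apply, dg_det, Units.coe_prod]

/-- MA -/
theorem sl_le_of_hasTransv (h3 : 3 ≤ Fintype.card ι) (M : Subgroup (GL ι F)) (hH : ContainsH M)
    (hT : HasTransv M) : Cfsg.Geo.specialLinear ι F ≤ M := by
  obtain ⟨i, j, hij, c₀, hc₀, t, htM, htv⟩ := hT
  have hXT : ∀ p q : ι, p ≠ q → ∀ c : F, ∃ y ∈ M, (y : Matrix ι ι F) = 1 + Matrix.single p q c := by
    intro p q hpq c
    by_cases hc : c = 0
    · refine ⟨1, M.one_mem, ?_⟩
      rw [hc, Matrix.single_zero, add_zero, Units.val_one]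
    obtain ⟨σ, hσp, hσq⟩ := exists_perm_pair (ι := ι) hij hpq
    obtain ⟨k, hkp, hkq⟩ := exists_third h3 p q
    set μ : Fˣ := Units.mk0 (c / c₀) (div_ne_zero hc hc₀) with hμ
    set δ : Fˣ := Matrix.GeneralLinearGroup.det (pmGL σ : GL ι F) with hδ
    set d : ι → Fˣ := Pi.mulSingle p μ * Pi.mulSingle k (μ * δ)⁻¹ with hd
    have hdp : d p = μ := by
      rw [hd, Pi.mul_apply, Pi.mulSingle_eq_same, Pi.mulSingle_eq_of_ne (Ne.symm hkp), mul_one]
    have hdq : d q = 1 := by
      rw [hd, Pi.mul_apply, Pi.mulSingle_eq_of_ne (Ne.symm hpq), Pi.mulSingle_eq_of_ne (Ne.symm hkq),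
        mul_one]
    have hprod : ∏ l, d l = μ * (μ * δ)⁻¹ := by
      rw [hd]
      simp only [Pi.mul_apply]
      rw [Finset.prod_mul_distrib, Fintype.prod_pi_mulSingle', Fintype.prod_pi_mulSingle']
    have hgM : dg d * pmGL σ ∈ M := by
      apply hH _ (mono_isMono d σ)
      unfold Cfsg.Geo.specialLinear
      rw [MonoidHom.mem_ker, map_mul, det_dg_unit, hprod, ← hδ]
      rw [mul_right_comm, mul_inv_cancel]
    refine ⟨dg d * pmGL σ * t * (dg d * pmGL σ)⁻¹, M.mul_mem (M.mul_mem hgM htM) (M.inv_mem hgM), ?_⟩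
    rw [Units.val_mul, Units.val_mul (dg d * pmGL σ) t, htv, Matrix.transvection,
      mono_conj d σ hσp hσq c₀, Matrix.mul_assoc, ← Units.val_mul, mul_inv_cancel, Units.val_one,
      mul_one, hdp, hdq, hμ]
    congr 2
    rw [Units.val_mk0, Units.val_one, inv_one, mul_one]
    field_simp
  intro x hx
  have hdet : (x : Matrix ι ι F).det = 1 := (mem_specialLinear_iff x).mp hx
  have hnt : Nontrivial ι := by
    rw [← Fintype.one_lt_card_iff_nontrivial]
    omega
  have key : ∀ A : Matrix.SpecialLinearGroup ι F,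
      ∃ y ∈ M, (y : Matrix ι ι F) = (A : Matrix ι ι F) := by
    intro A
    refine Cfsg.Agent.Lib.Helper2.sl_transvection_induction
      (fun A => ∃ y ∈ M, (y : Matrix ι ι F) = (A : Matrix ι ι F)) ?_ ?_ A
    · intro i' j' hij' c
      obtain ⟨y, hyM, hyv⟩ := hXT i' j' hij' c
      exact ⟨y, hyM, hyv⟩
    · rintro A B ⟨y, hy, hyA⟩ ⟨z, hz, hzB⟩
      refine ⟨y * z, M.mul_mem hy hz, ?_⟩
      rw [Units.val_mul, hyA, hzB]
      rfl
  obtain ⟨y, hy, hyx⟩ := key ⟨(x : Matrix ι ι F), hdet⟩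
  have : y = x := Units.ext hyx
  rw [← this]
  exact hy

end Cfsg.Agent.Lib.Helper2.MonoLeaf
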