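import Mathlib

/-!
# Orders of `GL_n(q)`, `SL_n(q)`, `PSL_n(q)`, `PGL_n(q)` (helper2 library)
-/

set_option autoImplicit false

namespace Cfsg.Agent.Lib.Helper2

open Matrix

section GLCard

variable {F : Type*} [Field F] {ι : Type*} [DecidableEq ι] [Fintype ι]

/-- the range of `SL → GL` is the kernel of the determinant -/
theorem range_toGL_eq_ker_det :
    (SpecialLinearGroup.toGL : SpecialLinearGroup ι F →* GL ι F).range =
      (GeneralLinearGroup.det : GL ι F →* Fˣ).ker := by
  ext g
  rw [MonoidHom.mem_ker, MonoidHom.mem_range]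
  constructor
  · rintro ⟨s, rfl⟩
    ext
    simp [SpecialLinearGroup.toGL]
  · intro h
    have hd : (g : Matrix ι ι F).det = 1 := by
      have := congrArg Units.val h
      simpa using this
    refine ⟨⟨(g : Matrix ι ι F), hd⟩, ?_⟩
    ext
    rfl

/-- the determinant is surjective on `GL_n`, `n ≥ 1` -/
theorem det_surjective [Nonempty ι] :
    Function.Surjective (GeneralLinearGroup.det : GL ι F →* Fˣ) := by
  intro u
  obtain ⟨i₀⟩ := ‹Nonempty ι›
  let D : ι → F := fun i => if i = i₀ then (u : F) else 1
  have hdet : (diagonal D).det = (u : F) := by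
    rw [det_diagonal]
    rw [Finset.prod_eq_single i₀]
    · simp [D]
    · intro b _ hb; simp [D, hb]
    · intro h; exact absurd (Finset.mem_univ _) h
  refine ⟨GeneralLinearGroup.mkOfDetNeZero (diagonal D) (by rw [hdet]; exact u.ne_zero), ?_⟩
  ext
  simp [GeneralLinearGroup.mkOfDetNeZero, hdet]

theorem card_GL_eq_card_units_mul_card_SL [Finite F] [Nonempty ι] :
    Nat.card (GL ι F) = Nat.card Fˣ * Nat.card (SpecialLinearGroup ι F) := by
  have h1 := Subgroup.card_mul_index (GeneralLinearGroup.det : GL ι F →* Fˣ).ker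
  rw [Subgroup.index_ker, MonoidHom.range_eq_top.mpr det_surjective, Subgroup.card_top,
    ← range_toGL_eq_ker_det] at h1
  rw [← h1, mul_comm]
  congr 1
  exact (Nat.card_congr (MonoidHom.ofInjective SpecialLinearGroup.toGL_injective).toEquiv).symm

theorem card_units_field [Fintype F] : Nat.card Fˣ = Fintype.card F - 1 := by
  classical
  rw [Nat.card_eq_fintype_card, Fintype.card_units]

/-- `(q - 1) |SL_n(q)| = ∏_{i<n} (q^n - q^i)` -/
theorem card_SL_field [Fintype F] (n : ℕ) (hn : 1 ≤ n) :
    (Fintype.card F - 1) * Nat.card (SpecialLinearGroup (Fin n) F) =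
      ∏ i : Fin n, (Fintype.card F ^ n - Fintype.card F ^ (i : ℕ)) := by
  have : Nonempty (Fin n) := ⟨⟨0, hn⟩⟩
  rw [← Matrix.card_GL_field, card_GL_eq_card_units_mul_card_SL, card_units_field]

/-- number of `n`-th roots of unity in a finite field -/
theorem card_rootsOfUnity_field [Fintype F] (n : ℕ) :
    Nat.card (rootsOfUnity n F) = Nat.gcd (Fintype.card F - 1) n := by
  have h : rootsOfUnity n F = (powMonoidHom n : Fˣ →* Fˣ).ker := by
    ext ζ
    rw [mem_rootsOfUnity, MonoidHom.mem_ker, powMonoidHom_apply]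
  rw [h, IsCyclic.card_powMonoidHom_ker, card_units_field]

/-- order of the centre of `SL_n(q)` -/
theorem card_center_SL_field [Fintype F] (n : ℕ) (hn : 1 ≤ n) :
    Nat.card (Subgroup.center (SpecialLinearGroup (Fin n) F)) = Nat.gcd n (Fintype.card F - 1) := by
  rw [Nat.card_congr (SpecialLinearGroup.center_equiv_rootsOfUnity (n := Fin n) (R := F)).toEquiv,
    Fintype.card_fin, max_eq_left hn, card_rootsOfUnity_field, Nat.gcd_comm]

/-- `gcd(n, q-1) (q-1) |PSL_n(q)| = ∏_{i<n} (q^n - q^i)` -/
theorem card_PSL_field [Fintype F] (n : ℕ) (hn : 1 ≤ n) :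
    Nat.gcd n (Fintype.card F - 1) *
      ((Fintype.card F - 1) * Nat.card (ProjectiveSpecialLinearGroup (Fin n) F)) =
      ∏ i : Fin n, (Fintype.card F ^ n - Fintype.card F ^ (i : ℕ)) := by
  rw [← card_SL_field n hn, ← card_center_SL_field n hn]
  have h := Subgroup.card_eq_card_quotient_mul_card_subgroup
    (Subgroup.center (SpecialLinearGroup (Fin n) F))
  rw [h]
  show _ = _ * (Nat.card (ProjectiveSpecialLinearGroup (Fin n) F) * _)
  ring

theorem scalar_injective [Nonempty ι] :
    Function.Injective (GeneralLinearGroup.scalar ι : Fˣ →* GL ι F) := by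
  intro u v h
  obtain ⟨i⟩ := ‹Nonempty ι›
  have h1 := congrArg (fun g : GL ι F => (g : Matrix ι ι F) i i) h
  simp only [GeneralLinearGroup.coe_scalar, Matrix.scalar_apply, Matrix.diagonal_apply_eq] at h1
  exact Units.ext h1

theorem card_center_GL_field [Fintype F] [Nonempty ι] :
    Nat.card (Subgroup.center (GL ι F)) = Fintype.card F - 1 := by
  rw [GeneralLinearGroup.center_eq_range_scalar, ← card_units_field]
  exact (Nat.card_congr (MonoidHom.ofInjective scalar_injective).toEquiv).symm

/-- `|PGL_n(q)| = |SL_n(q)|` -/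
theorem card_PGL_field [Fintype F] (n : ℕ) :
    Nat.card (ProjGenLinGroup (Fin n) F) = Nat.card (SpecialLinearGroup (Fin n) F) := by
  rcases Nat.eq_zero_or_pos n with rfl | hn
  · have h1 : Subsingleton (GL (Fin 0) F) := by
      constructor
      intro a b
      ext i
      exact i.elim0
    have h2 : Subsingleton (ProjGenLinGroup (Fin 0) F) :=
      (ProjGenLinGroup.mk_surjective (n := Fin 0) (R := F)).subsingleton
    have h3 : Subsingleton (SpecialLinearGroup (Fin 0) F) := by
      constructor
      intro a b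
      ext i
      exact i.elim0
    rw [Nat.card_of_subsingleton (1 : ProjGenLinGroup (Fin 0) F),
      Nat.card_of_subsingleton (1 : SpecialLinearGroup (Fin 0) F)]
  · have : Nonempty (Fin n) := ⟨⟨0, hn⟩⟩
    have h1 := Subgroup.card_eq_card_quotient_mul_card_subgroup (Subgroup.center (GL (Fin n) F))
    rw [card_center_GL_field, card_GL_eq_card_units_mul_card_SL, card_units_field] at h1
    have hq : 0 < Fintype.card F - 1 := by
      have := Fintype.one_lt_card (α := F)
      omega
    have h2 : Nat.card (SpecialLinearGroup (Fin n) F) * (Fintype.card F - 1) =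
        Nat.card (ProjGenLinGroup (Fin n) F) * (Fintype.card F - 1) := by
      rw [mul_comm]; exact h1
    exact (Nat.eq_of_mul_eq_mul_right hq h2).symm

end GLCard

end Cfsg.Agent.Lib.Helper2
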