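import Mathlib
import Cfsg.Prelude.Def_GeometricClasses
import Cfsg.Agent.Lib.Helper25.TensDefs
import Cfsg.Agent.Lib.Helper25.TensStmt
import Cfsg.Agent.Lib.Helper2.SLGen

/-!
S5637 leaves TIII-s (`XT_comm`, Steinberg relation) and TIII-f (`sl_le_of_XT`).
-/

set_option autoImplicit false
set_option linter.unusedSectionVars false
set_option linter.unusedVariables false

namespace Cfsg.Agent.Lib.Helper2.TensLeaf
open Matrix Cfsg.Agent.Lib.Helper25.Tens Cfsg.Agent.Lib.Helper25.TensLeaves

variable {F : Type*} [Field F]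

/-- membership of the inverse -/
lemma InM_inv_single {ι : Type} [Fintype ι] [DecidableEq ι] (M : Subgroup (GL ι F)) (p q : ι)
    (hpq : p ≠ q) (c : F) (h : InM M (1 + Matrix.single p q c)) :
    InM M (1 + Matrix.single p q (-c)) := by
  obtain ⟨t, ht, htv⟩ := h
  refine ⟨t⁻¹, M.inv_mem ht, ?_⟩
  have h1 : (1 + Matrix.single p q c : Matrix ι ι F) * (1 + Matrix.single p q (-c)) = 1 := by
    simp only [mul_add, add_mul, mul_one, one_mul, Matrix.single_mul_single_of_ne _ _ _ _ hpq.symm,
      add_zero]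
    rw [add_assoc, ← Matrix.single_add, add_neg_cancel, Matrix.single_zero, add_zero]
  have h2 : ((t : GL ι F) : Matrix ι ι F) * (1 + Matrix.single p q (-c)) = 1 := by rw [htv, h1]
  have h3 : ((t⁻¹ : GL ι F) : Matrix ι ι F) * ((t : GL ι F) : Matrix ι ι F) = 1 := by
    rw [← Units.val_mul, inv_mul_cancel, Units.val_one]
  calc ((t⁻¹ : GL ι F) : Matrix ι ι F)
      = ((t⁻¹ : GL ι F) : Matrix ι ι F) * (((t : GL ι F) : Matrix ι ι F) *
          (1 + Matrix.single p q (-c))) := by rw [h2, mul_one]
    _ = 1 + Matrix.single p q (-c) := by rw [← mul_assoc, h3, one_mul]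

/-- (TIII-s) Steinberg relation. -/
theorem XT_comm {ι : Type} [Fintype ι] [DecidableEq ι] (M : Subgroup (GL ι F)) (p q r : ι)
    (hpq : p ≠ q) (hqr : q ≠ r) (hpr : p ≠ r) (h1 : XT M p q) (h2 : XT M q r) : XT M p r := by
  intro c
  have ha := h1 c
  have hb := h2 1
  have ha' := InM_inv_single M p q hpq c ha
  have hb' := InM_inv_single M q r hqr 1 hb
  have hprod := InM_mul (InM_mul (InM_mul ha hb) ha') hb'
  have key : (1 + Matrix.single p q c : Matrix ι ι F) * (1 + Matrix.single q r 1) *
      (1 + Matrix.single p q (-c)) * (1 + Matrix.single q r (-1)) = 1 + Matrix.single p r c := by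
    simp only [mul_add, add_mul, mul_one, one_mul, Matrix.single_mul_single_same,
      Matrix.single_mul_single_of_ne _ _ _ _ hpq.symm, Matrix.single_mul_single_of_ne _ _ _ _ hqr.symm,
      Matrix.single_mul_single_of_ne _ _ _ _ hpr.symm, add_zero]
    ext k l
    simp only [Matrix.add_apply, Matrix.one_apply, Matrix.single_apply]
    by_cases hkp : p = k <;> by_cases hkq : q = k <;> by_cases hlq : q = l <;>
      by_cases hlr : r = l <;> simp_all [eq_comm]
  rw [key] at hprod
  exact hprod

/-- (TIII-f) a subgroup containing all elementary transvections contains `SL`. -/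
theorem sl_le_of_XT {ι : Type} [Fintype ι] [DecidableEq ι] (M : Subgroup (GL ι F))
    (h : ∀ p q : ι, p ≠ q → XT M p q) : Cfsg.Geo.specialLinear ι F ≤ M := by
  intro x hx
  have hdet : (x : Matrix ι ι F).det = 1 := by
    have h1 := congrArg Units.val (MonoidHom.mem_ker.mp hx)
    simpa using h1
  by_cases hnt : Nontrivial ι
  · have key : ∀ A : Matrix.SpecialLinearGroup ι F,
        ∃ y ∈ M, (y : Matrix ι ι F) = (A : Matrix ι ι F) := by
      intro A
      refine Cfsg.Agent.Lib.Helper2.sl_transvection_induction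
        (fun A => ∃ y ∈ M, (y : Matrix ι ι F) = (A : Matrix ι ι F)) ?_ ?_ A
      · intro i j hij c
        obtain ⟨t, htM, htv⟩ := h i j hij c
        exact ⟨t, htM, htv⟩
      · rintro A B ⟨y, hy, hyA⟩ ⟨z, hz, hzB⟩
        refine ⟨y * z, M.mul_mem hy hz, ?_⟩
        rw [Units.val_mul, hyA, hzB]
        rfl
    obtain ⟨y, hy, hyx⟩ := key ⟨(x : Matrix ι ι F), hdet⟩
    have : y = x := Units.ext hyx
    rw [← this]
    exact hy
  · rw [not_nontrivial_iff_subsingleton] at hnt
    have hx1 : x = 1 := by
      apply Units.ext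
      ext i j
      have hij : i = j := Subsingleton.elim i j
      subst hij
      have h1 := Matrix.det_eq_elem_of_subsingleton (x : Matrix ι ι F) i
      rw [hdet] at h1
      simp [← h1]
    rw [hx1]
    exact M.one_mem

end Cfsg.Agent.Lib.Helper2.TensLeaf
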