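import Mathlib
import Cfsg.Agent.Lib.Lead.PermChar
import Cfsg.Agent.Lib.Lead.CharInd
import Cfsg.Agent.Lib.Helper6.IndFun
import Cfsg.Agent.Lib.Helper6.CharExtra
/-!
# Permutation character `1 + χ` on the cosets of a subgroup (helper2)

`card_fixedBy_eq_one_add`: if `χ` is a nonprincipal irreducible character of the finite group `G`,
`H ≤ G` has index at most `χ 1 + 1` and the sum of `χ` over `H` does not vanish, then the number of
cosets of `H` fixed by `g` is `1 + χ g`, and `G` is `2`-transitive on `G ⧸ H`.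
-/

set_option autoImplicit false

namespace Cfsg.Agent.Lib.Helper2.M11Perm

open Cfsg Cfsg.Agent.CharLib
open scoped ComplexConjugate

universe u

variable {G : Type u} [Group G]

theorem fixedBy_quotient_card (H : Subgroup G) (g : G) :
    Nat.card (MulAction.fixedBy (G ⧸ H) g) = Nat.card {q : G ⧸ H // g • q = q} := rfl

/-- the permutation character on the cosets of `H` is `1_H` induced -/
theorem permChar_eq_indFun [Fintype G] (H : Subgroup G) :
    (fun g : G => (Nat.card (MulAction.fixedBy (G ⧸ H) g) : ℂ)) = indFun H (fun _ => (1 : ℂ)) := by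
  funext g
  rw [Cfsg.Agent.Lib.Helper6.indFun_one_eq_card_fixed H g]
  rfl

theorem classInner_permChar [Fintype G] (H : Subgroup G) [Fintype H] {χ : G → ℂ}
    (hχ : IsClassFunction G χ) :
    classInner (fun g : G => (Nat.card (MulAction.fixedBy (G ⧸ H) g) : ℂ)) χ =
      (Nat.card H : ℂ)⁻¹ * conj (∑ h : H, χ h) := by
  rw [permChar_eq_indFun, frobenius_reciprocity H _ hχ]
  simp only [classInner, one_mul, map_sum]

/-- **the permutation character is `1 + χ`** -/
theorem permChar_sub_one_eq [Finite G] (H : Subgroup G) [Fintype H] {χ : G → ℂ}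
    (hχ : IsIrrCharacter G χ) (hne : χ ≠ 1) (d : ℕ) (hd : χ 1 = d) (hidx : H.index ≤ d + 1)
    (hsum : ∑ h : H, χ h ≠ 0) :
    (fun g : G => (Nat.card (MulAction.fixedBy (G ⧸ H) g) : ℂ)) - 1 = χ := by
  classical
  let _ := Fintype.ofFinite G
  set π : G → ℂ := fun g => (Nat.card (MulAction.fixedBy (G ⧸ H) g) : ℂ) with hπdef
  have hπ : IsCharacter G π := isCharacter_card_fixedBy
  have hHne : (Nat.card H : ℂ) ≠ 0 := by
    have : Nat.card H ≠ 0 := Nat.card_pos.ne'
    exact_mod_cast this
  have hπ1 : classInner π 1 = 1 := by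
    rw [hπdef, classInner_permChar H (IsCharacter.isClassFunction isCharacter_one)]
    simp only [Pi.one_apply, Finset.sum_const, Finset.card_univ, nsmul_eq_mul, mul_one, map_natCast]
    rw [← Nat.card_eq_fintype_card, inv_mul_cancel₀ hHne]
  have hπχ : classInner π χ ≠ 0 := by
    rw [hπdef, classInner_permChar H (IsCharacter.isClassFunction (IsIrrCharacter.isCharacter hχ))]
    refine mul_ne_zero (inv_ne_zero hHne) ?_
    intro h0
    exact hsum ((map_eq_zero (starRingEnd ℂ)).mp h0)
  have hchar : IsCharacter G (π - 1) := by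
    apply Cfsg.Agent.Lib.Helper6.IsCharacter.sub_constituent hπ isIrrCharacter_one
    rw [hπ1]
    exact one_ne_zero
  have hinner : classInner (π - 1) χ ≠ 0 := by
    rw [classInner_sub_left, classInner_irr (isIrrCharacter_one (G := G)) hχ,
      if_neg (fun h => hne h.symm), sub_zero]
    exact hπχ
  have hidxpos : 0 < H.index := Nat.pos_of_ne_zero Subgroup.index_ne_zero_of_finite
  have hval1 : (π - 1) 1 = ((H.index - 1 : ℕ) : ℂ) := by
    have h1 : π 1 = (H.index : ℂ) := by
      simp only [hπdef]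
      congr 1
      rw [Subgroup.index_eq_card]
      apply Nat.card_congr
      refine ⟨fun q => q.1, fun q => ⟨q, ?_⟩, fun _ => rfl, fun _ => rfl⟩
      rw [MulAction.mem_fixedBy, one_smul]
    rw [Pi.sub_apply, h1, Pi.one_apply, Nat.cast_sub hidxpos, Nat.cast_one]
  exact Cfsg.Agent.Lib.Helper6.IsCharacter.eq_of_constituent_of_degree_le hchar hχ hinner hval1 hd
    (by omega)

theorem card_fixedBy_eq_one_add [Finite G] (H : Subgroup G) [Fintype H] {χ : G → ℂ}
    (hχ : IsIrrCharacter G χ) (hne : χ ≠ 1) (d : ℕ) (hd : χ 1 = d) (hidx : H.index ≤ d + 1)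
    (hsum : ∑ h : H, χ h ≠ 0) (g : G) :
    (Nat.card (MulAction.fixedBy (G ⧸ H) g) : ℂ) = 1 + χ g := by
  have h := congrFun (permChar_sub_one_eq H hχ hne d hd hidx hsum) g
  simp only [Pi.sub_apply, Pi.one_apply] at h
  linear_combination h

/-- **`G` is `2`-transitive on the cosets of `H`** -/
theorem isMultiplyPretransitive_two [Finite G] (H : Subgroup G) [Fintype H] {χ : G → ℂ}
    (hχ : IsIrrCharacter G χ) (hne : χ ≠ 1) (d : ℕ) (hd : χ 1 = d) (hidx : H.index ≤ d + 1)
    (hidx2 : 2 ≤ H.index) (hsum : ∑ h : H, χ h ≠ 0) :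
    MulAction.IsMultiplyPretransitive G (G ⧸ H) 2 := by
  have h := permChar_sub_one_eq H hχ hne d hd hidx hsum
  have hX : 2 ≤ Nat.card (G ⧸ H) := by
    rw [← Subgroup.index_eq_card]; exact hidx2
  rw [← isIrrCharacter_card_fixedBy_sub_one_iff hX]
  have h2 : (fun g : G => (Nat.card (MulAction.fixedBy (G ⧸ H) g) : ℂ) - 1) =
      (fun g : G => (Nat.card (MulAction.fixedBy (G ⧸ H) g) : ℂ)) - 1 := rfl
  rw [h2, h]
  exact hχ

end Cfsg.Agent.Lib.Helper2.M11Perm
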