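import Mathlib
/-!
# Sharp `4`-transitivity from fixed point counts (helper2)

A group of order `7920 = 11 * 10 * 9 * 8` acting `2`-transitively on `11` points such that
involutions fix `3` points and elements of order `3` fix `2` points is sharply `4`-transitive.
-/

set_option autoImplicit false

namespace Cfsg.Agent.Lib.Helper2.M11Perm

universe u v

variable {G : Type u} [Group G] {Ω : Type v} [MulAction G Ω]

theorem prime_dvd_7920 {p : ℕ} (hp : p.Prime) (h : p ∣ 7920) : p = 2 ∨ p = 3 ∨ p = 5 ∨ p = 11 := by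
  have h1 : (7920 : ℕ) = 2 ^ 4 * 3 ^ 2 * 5 * 11 := by norm_num
  rw [h1] at h
  rcases (Nat.Prime.dvd_mul hp).mp h with h | h
  · rcases (Nat.Prime.dvd_mul hp).mp h with h | h
    · rcases (Nat.Prime.dvd_mul hp).mp h with h | h
      · left
        exact (Nat.prime_dvd_prime_iff_eq hp Nat.prime_two).mp (hp.dvd_of_dvd_pow h)
      · right; left
        exact (Nat.prime_dvd_prime_iff_eq hp Nat.prime_three).mp (hp.dvd_of_dvd_pow h)
    · right; right; left
      exact (Nat.prime_dvd_prime_iff_eq hp Nat.prime_five).mp h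
  · right; right; right
    exact (Nat.prime_dvd_prime_iff_eq hp (by norm_num)).mp h

theorem four_le_card_fixedBy [Finite Ω] (x : Fin 4 ↪ Ω) (k : G) (hk : ∀ i, k • x i = x i) :
    4 ≤ Nat.card (MulAction.fixedBy Ω k) := by
  have hinj : Function.Injective (fun i : Fin 4 => (⟨x i, by
      rw [MulAction.mem_fixedBy]; exact hk i⟩ : MulAction.fixedBy Ω k)) := by
    intro i j hij
    exact x.injective (congrArg Subtype.val hij)
  have := Nat.card_le_card_of_injective _ hinj
  rwa [Nat.card_fin] at this

theorem card_stabilizer_two [Finite G] [Finite Ω] (hG : Nat.card G = 7920) (hΩ : Nat.card Ω = 11)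
    (h2t : MulAction.IsMultiplyPretransitive G Ω 2) (y : Fin 2 ↪ Ω) :
    Nat.card (MulAction.stabilizer G y) = 72 := by
  classical
  let _ := Fintype.ofFinite Ω
  have hidx : (MulAction.stabilizer G y).index = Nat.card (Fin 2 ↪ Ω) :=
    MulAction.index_stabilizer_of_transitive G y
  have hcard : Nat.card (Fin 2 ↪ Ω) = 110 := by
    rw [Nat.card_eq_fintype_card, Fintype.card_embedding_eq, Fintype.card_fin,
      ← Nat.card_eq_fintype_card, hΩ]
    decide
  have hmul := Subgroup.card_mul_index (MulAction.stabilizer G y)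
  rw [hidx, hcard, hG] at hmul
  omega

/-- **every four point stabiliser is trivial** -/
theorem stabilizer_four_eq_bot [Finite G] [Finite Ω] (hG : Nat.card G = 7920)
    (hΩ : Nat.card Ω = 11)
    (hfix2 : ∀ t : G, orderOf t = 2 → Nat.card (MulAction.fixedBy Ω t) = 3)
    (hfix3 : ∀ z : G, orderOf z = 3 → Nat.card (MulAction.fixedBy Ω z) = 2)
    (h2t : MulAction.IsMultiplyPretransitive G Ω 2) (x : Fin 4 ↪ Ω) :
    MulAction.stabilizer G x = ⊥ := by
  rw [Subgroup.eq_bot_iff_forall]
  intro g hg
  by_contra hne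
  have hord1 : orderOf g ≠ 1 := fun h => hne (orderOf_eq_one_iff.mp h)
  obtain ⟨p, hp, hpd⟩ := Nat.exists_prime_and_dvd hord1
  set k : G := g ^ (orderOf g / p) with hkdef
  have hkord : orderOf k = p := orderOf_pow_orderOf_div (orderOf_pos g).ne' hpd
  have hkmem : k ∈ MulAction.stabilizer G x := Subgroup.pow_mem _ hg _
  have hkfix : ∀ i, k • x i = x i := by
    intro i
    have := MulAction.mem_stabilizer_iff.mp hkmem
    have h2 := DFunLike.congr_fun this i
    rwa [Function.Embedding.smul_apply] at h2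
  have hpG : p ∣ 7920 := by
    rw [← hG, ← hkord]; exact orderOf_dvd_natCard k
  have h4 := four_le_card_fixedBy x k hkfix
  -- the two point stabiliser containing `k`
  set y : Fin 2 ↪ Ω := (Fin.castLEEmb (by norm_num : 2 ≤ 4)).trans x with hydef
  have hky : k ∈ MulAction.stabilizer G y := by
    rw [MulAction.mem_stabilizer_iff]
    ext i
    rw [Function.Embedding.smul_apply]
    exact hkfix _
  have h72 := card_stabilizer_two hG hΩ h2t y
  have hp72 : p ∣ 72 := by
    rw [← h72, ← hkord]
    have := orderOf_dvd_natCard (⟨k, hky⟩ : MulAction.stabilizer G y)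
    rwa [Subgroup.orderOf_mk] at this
  rcases prime_dvd_7920 hp hpG with rfl | rfl | rfl | rfl
  · rw [hfix2 k hkord] at h4; omega
  · rw [hfix3 k hkord] at h4; omega
  · omega
  · omega

/-- **sharp `4`-transitivity** -/
theorem isMultiplyPretransitive_four [Finite G] [Finite Ω] (hG : Nat.card G = 7920)
    (hΩ : Nat.card Ω = 11)
    (hfix2 : ∀ t : G, orderOf t = 2 → Nat.card (MulAction.fixedBy Ω t) = 3)
    (hfix3 : ∀ z : G, orderOf z = 3 → Nat.card (MulAction.fixedBy Ω z) = 2)
    (h2t : MulAction.IsMultiplyPretransitive G Ω 2) :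
    MulAction.IsMultiplyPretransitive G Ω 4 := by
  classical
  let _ := Fintype.ofFinite Ω
  have hcard : Nat.card (Fin 4 ↪ Ω) = 7920 := by
    rw [Nat.card_eq_fintype_card, Fintype.card_embedding_eq, Fintype.card_fin,
      ← Nat.card_eq_fintype_card, hΩ]
    decide
  refine ⟨fun x y => ?_⟩
  have hst := stabilizer_four_eq_bot hG hΩ hfix2 hfix3 h2t x
  have hidx : (MulAction.stabilizer G x).index = (MulAction.orbit G x).ncard :=
    MulAction.index_stabilizer G x
  rw [hst, Subgroup.index_bot, hG] at hidx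
  have huniv : MulAction.orbit G x = Set.univ := by
    rw [Set.eq_univ_iff_ncard, ← hidx, hcard]
  have hy : y ∈ MulAction.orbit G x := by rw [huniv]; trivial
  exact MulAction.mem_orbit_iff.mp hy

end Cfsg.Agent.Lib.Helper2.M11Perm
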