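import Mathlib
import Cfsg.Agent.Lib.Helper2.M11PermA
import Cfsg.Agent.Lib.Helper2.M11PermB
import Cfsg.Agent.Lib.Helper24.IrrFacts
import Cfsg.Agent.Lib.Helper5.M11SharpB
/-!
# A group of order 7920 with a subgroup of order 720 and the degree 10 character is M₁₁ (helper2)

Piece [P] of S0420: `G` of order `7920`, `H ≤ G` of order `720`, `χ` irreducible of degree `10` with
`χ t = 2` on involutions, `χ z = 1` on elements of order `3`, and `∑_{h ∈ H} χ h ≠ 0`.  Then the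
permutation character on `G ⧸ H` is `1 + χ`, the action is sharply `4`-transitive
(`sharp_of_char`), and `G` is the Mathieu group `M₁₁` (`iso_kgrp_of_char`, through helper5's
`iso_kgrp_of_action`).
-/

set_option autoImplicit false

namespace Cfsg.Agent.Lib.Helper2.M11Perm

open Cfsg Cfsg.Agent.CharLib
open scoped Pointwise

universe u

variable {G : Type u} [Group G]

/-- **piece [P]**: sharp `4`-transitivity of `G` on the `11` cosets of `H` -/
theorem sharp_of_char [Finite G] (hG : Nat.card G = 7920) (H : Subgroup G)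
    (hH : Nat.card H = 720) [Fintype H] (χ : IrrCharacter G)
    (hdeg : charDegree (χ : G → ℂ) = 10)
    (h2 : ∀ t : G, orderOf t = 2 → (χ : G → ℂ) t = 2)
    (h3 : ∀ z : G, orderOf z = 3 → (χ : G → ℂ) z = 1)
    (hsum : ∑ h : H, (χ : G → ℂ) h ≠ 0) :
    Nat.card (G ⧸ H) = 11 ∧ MulAction.IsMultiplyPretransitive G (G ⧸ H) 4 ∧
      ∀ x : Fin 4 ↪ G ⧸ H, MulAction.stabilizer G x = ⊥ := by
  have hidx : H.index = 11 := by
    have := Subgroup.card_mul_index H
    rw [hH, hG] at this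
    omega
  have hΩ : Nat.card (G ⧸ H) = 11 := by rw [← Subgroup.index_eq_card]; exact hidx
  have hd : (χ : G → ℂ) 1 = ((10 : ℕ) : ℂ) := by
    rw [Cfsg.Agent.Lib.Helper24.irr_apply_one χ, hdeg]
  have hne : (χ : G → ℂ) ≠ 1 := by
    intro h
    rw [h, Pi.one_apply] at hd
    norm_num at hd
  have hfix : ∀ g : G, (Nat.card (MulAction.fixedBy (G ⧸ H) g) : ℂ) = 1 + (χ : G → ℂ) g :=
    card_fixedBy_eq_one_add H χ.2 hne 10 hd (by omega) hsum
  have hfix2 : ∀ t : G, orderOf t = 2 → Nat.card (MulAction.fixedBy (G ⧸ H) t) = 3 := by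
    intro t ht
    have := hfix t
    rw [h2 t ht] at this
    have h' : (Nat.card (MulAction.fixedBy (G ⧸ H) t) : ℂ) = ((3 : ℕ) : ℂ) := by
      rw [this]; norm_num
    exact_mod_cast h'
  have hfix3 : ∀ z : G, orderOf z = 3 → Nat.card (MulAction.fixedBy (G ⧸ H) z) = 2 := by
    intro z hz
    have := hfix z
    rw [h3 z hz] at this
    have h' : (Nat.card (MulAction.fixedBy (G ⧸ H) z) : ℂ) = ((2 : ℕ) : ℂ) := by
      rw [this]; norm_num
    exact_mod_cast h'
  have h2t : MulAction.IsMultiplyPretransitive G (G ⧸ H) 2 :=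
    isMultiplyPretransitive_two H χ.2 hne 10 hd (by omega) (by omega) hsum
  exact ⟨hΩ, isMultiplyPretransitive_four hG hΩ hfix2 hfix3 h2t,
    stabilizer_four_eq_bot hG hΩ hfix2 hfix3 h2t⟩

/-- the same with the hypothesis on the sum in the form `720 * m`, `0 < m` -/
theorem sharp_of_char' [Finite G] (hG : Nat.card G = 7920) (H : Subgroup G)
    (hH : Nat.card H = 720) [Fintype H] (χ : IrrCharacter G)
    (hdeg : charDegree (χ : G → ℂ) = 10)
    (h2 : ∀ t : G, orderOf t = 2 → (χ : G → ℂ) t = 2)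
    (h3 : ∀ z : G, orderOf z = 3 → (χ : G → ℂ) z = 1)
    (hfix : ∃ m : ℕ, 0 < m ∧ ∑ h : H, (χ : G → ℂ) h = (720 : ℂ) * m) :
    Nat.card (G ⧸ H) = 11 ∧ MulAction.IsMultiplyPretransitive G (G ⧸ H) 4 ∧
      ∀ x : Fin 4 ↪ G ⧸ H, MulAction.stabilizer G x = ⊥ := by
  obtain ⟨m, hm, hs⟩ := hfix
  refine sharp_of_char hG H hH χ hdeg h2 h3 ?_
  rw [hs]
  have : (m : ℂ) ≠ 0 := by exact_mod_cast hm.ne'
  exact mul_ne_zero (by norm_num) this

open Cfsg.Agent.Lib.Helper5.M11Sharp in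
/-- **`G` is `M₁₁`** (stabiliser in `M₂₄` of a dodecad and a point of it) -/
theorem iso_kgrp_of_char [Finite G] (hG : Nat.card G = 7920) (H : Subgroup G)
    (hH : Nat.card H = 720) [Fintype H] (χ : IrrCharacter G)
    (hdeg : charDegree (χ : G → ℂ) = 10)
    (h2 : ∀ t : G, orderOf t = 2 → (χ : G → ℂ) t = 2)
    (h3 : ∀ z : G, orderOf z = 3 → (χ : G → ℂ) z = 1)
    (hsum : ∑ h : H, (χ : G → ℂ) h ≠ 0) (d : Finset GolayPt)
    (hd : d ∈ dodecads) (p : GolayPt) (hp : p ∈ d) :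
    Nonempty (G ≃* ↥(MulAction.stabilizer M24 d ⊓ MulAction.stabilizer M24 p)) := by
  classical
  obtain ⟨hΩ, h4, hsharp⟩ := sharp_of_char hG H hH χ hdeg h2 h3 hsum
  have : Finite (G ⧸ H) := Nat.finite_of_card_ne_zero (by rw [hΩ]; norm_num)
  let _ : Fintype (G ⧸ H) := Fintype.ofFinite _
  have hΩ' : Fintype.card (G ⧸ H) = 11 := by rw [← Nat.card_eq_fintype_card]; exact hΩ
  exact iso_kgrp_of_action (G := G) (Ω := G ⧸ H) hΩ' hsharp d hd p hp

end Cfsg.Agent.Lib.Helper2.M11Perm
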