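import Mathlib
import Cfsg.Prelude.Def_ClassicalGeometry
import Cfsg.Prelude.Def_GeometricClasses
import Cfsg.Agent.Lib.Helper2.SOTDefs

/-!
S5666, definitions for the A-side arguments (plan §2, §3): the nilpotent `NA x = (x x^♭) ⊗ 1`,
the root group `XA x = {kA x c}`, the fibre `Rs x = x ⊗ B`, orthogonal complements `perpV`,
images `gim g W`, the group `Lx x g x' = ⟨X_x, g X_{x'} g⁻¹⟩`.
-/

set_option autoImplicit false
set_option linter.unusedSectionVars false
set_option linter.unusedVariables false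

namespace Cfsg.Agent.Lib.Helper2.SOT
open Matrix
open Cfsg.Agent.Lib.Helper25.Tens Cfsg.Agent.Lib.Helper25.SpT Cfsg.Agent.Lib.Helper19.OSub
open scoped Kronecker

variable {F : Type*} [Field F] {a b : ℕ}

/-- the nilpotent `N_x = (x x^♭) ⊗ 1`: `N_x (x' ⊗ y) = sf x' x • (x ⊗ y)` -/
def NA (x : Fin a → F) : Matrix (Idx a b) (Idx a b) F :=
  Matrix.vecMulVec x (sfv x) ⊗ₖ (1 : Matrix (Fin b) (Fin b) F)

lemma kA_val (x : Fin a → F) (c : F) :
    ((kA x c : GL (Idx a b) F) : Matrix (Idx a b) (Idx a b) F) = 1 + c • NA x := by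
  unfold kA stv NA
  rw [kel_val, tv_val, Units.val_one, Matrix.add_kronecker, Matrix.one_kronecker_one]
  congr 1
  rw [← Matrix.smul_kronecker]
  congr 1
  ext i j
  simp [Matrix.vecMulVec_apply, mul_assoc]

lemma NA_mulVec_pt (x x' : Fin a → F) (y : Fin b → F) :
    (NA x : Matrix (Idx a b) (Idx a b) F) *ᵥ pt x' y = sf x' x • pt x y := by
  unfold NA
  rw [kron_mulVec_pt, Matrix.one_mulVec, Matrix.vecMulVec_mulVec, sfv_dot, ← pt_smul_left]
  congr 1
  ext i
  simp [mul_comm]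

/-- the action of the root element `kA x c` on a pure tensor -/
lemma mv_kA_pt' (x : Fin a → F) (c : F) (x' : Fin a → F) (y : Fin b → F) :
    mv (kA x c : GL (Idx a b) F) (pt x' y) = pt x' y + (c * sf x' x) • pt x y := by
  unfold mv
  rw [kA_val, Matrix.add_mulVec, Matrix.one_mulVec, Matrix.smul_mulVec, NA_mulVec_pt, smul_smul]

/-- `y ↦ x ⊗ y` as a linear map -/
def ptR (x : Fin a → F) : (Fin b → F) →ₗ[F] (Idx a b → F) where
  toFun y := pt x y
  map_add' y y' := pt_add_right x y y'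
  map_smul' c y := pt_smul_right c x y

@[simp] lemma ptR_apply (x : Fin a → F) (y : Fin b → F) : ptR x y = pt x y := rfl

/-- the fibre `R_x = x ⊗ B` -/
def Rs (x : Fin a → F) : Submodule F (Idx a b → F) := LinearMap.range (ptR (b := b) x)

lemma mem_Rs {x : Fin a → F} {v : Idx a b → F} : v ∈ Rs x ↔ ∃ y : Fin b → F, pt x y = v := by
  unfold Rs
  rw [LinearMap.mem_range]
  rfl

/-- orthogonal complement with respect to `fV G` -/
def perpV (G : Matrix (Fin b) (Fin b) F) (W : Submodule F (Idx a b → F)) :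
    Submodule F (Idx a b → F) where
  carrier := {v | ∀ w ∈ W, fV G v w = 0}
  add_mem' {u v} hu hv w hw := by rw [fV_add_left, hu w hw, hv w hw, add_zero]
  zero_mem' w hw := by simp [fV]
  smul_mem' c v hv w hw := by rw [fV_smul_left, hv w hw, mul_zero]

lemma mem_perpV {G : Matrix (Fin b) (Fin b) F} {W : Submodule F (Idx a b → F)} {v : Idx a b → F} :
    v ∈ perpV G W ↔ ∀ w ∈ W, fV G v w = 0 := Iff.rfl

/-- the image of a subspace under an element of `GL` -/
def gim (g : GL (Idx a b) F) (W : Submodule F (Idx a b → F)) : Submodule F (Idx a b → F) :=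
  W.map (Matrix.toLin' (g : Matrix (Idx a b) (Idx a b) F))

lemma mem_gim {g : GL (Idx a b) F} {W : Submodule F (Idx a b → F)} {v : Idx a b → F} :
    v ∈ gim g W ↔ ∃ w ∈ W, mv g w = v := by
  unfold gim
  rw [Submodule.mem_map]
  simp only [Matrix.toLin'_apply]

/-- the root group `X_x = {kA x c : c ∈ F}` -/
def XA (x : Fin a → F) : Subgroup (GL (Idx a b) F) :=
  Subgroup.closure {t | ∃ c : F, t = (kA x c : GL (Idx a b) F)}

/-- the conjugate root group `g X_{x'} g⁻¹` -/
def XAc (g : GL (Idx a b) F) (x' : Fin a → F) : Subgroup (GL (Idx a b) F) :=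
  Subgroup.closure {t | ∃ c : F, t = g * (kA x' c : GL (Idx a b) F) * g⁻¹}

/-- `L = ⟨X_x, g X_{x'} g⁻¹⟩` -/
def Lx (x : Fin a → F) (g : GL (Idx a b) F) (x' : Fin a → F) : Subgroup (GL (Idx a b) F) :=
  XA x ⊔ XAc g x'

/-- `R'' = g (x' ⊗ B)` -/
def Rpp (g : GL (Idx a b) F) (x' : Fin a → F) : Submodule F (Idx a b → F) := gim g (Rs x')

/-- `Y = R_x^⊥ ∩ R''^⊥` -/
def Yp (G : Matrix (Fin b) (Fin b) F) (x : Fin a → F) (g : GL (Idx a b) F) (x' : Fin a → F) :
    Submodule F (Idx a b → F) := perpV G (Rs x) ⊓ perpV G (Rpp g x')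

/-- `K = R_x ∩ R''` -/
def Kp (x : Fin a → F) (g : GL (Idx a b) F) (x' : Fin a → F) : Submodule F (Idx a b → F) :=
  Rs x ⊓ Rpp g x'

end Cfsg.Agent.Lib.Helper2.SOT
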