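import Mathlib
import Cfsg.Prelude.Def_Involutions
import Cfsg.Agent.Lib.Helper2.Dihedral

/-!
# Strongly embedded subgroups (helper2 library)
-/

set_option autoImplicit false

namespace Cfsg.Agent.Lib.Helper2

section SE

variable {G : Type*} [Group G]

/-- A finite subgroup has even order iff it contains an involution. -/
theorem even_card_iff_exists_invol [Finite G] (K : Subgroup G) :
    Even (Nat.card K) ↔ ∃ t ∈ K, orderOf t = 2 := by
  constructor
  · intro h
    have : Fact (Nat.Prime 2) := ⟨Nat.prime_two⟩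
    obtain ⟨x, hx⟩ := exists_prime_orderOf_dvd_card' (G := K) 2 (even_iff_two_dvd.mp h)
    exact ⟨x.1, x.2, by rw [Subgroup.orderOf_coe]; exact hx⟩
  · rintro ⟨t, ht, h2⟩
    have := Subgroup.orderOf_dvd_natCard K ht
    rw [h2] at this
    exact even_iff_two_dvd.mpr this

theorem mem_map_conj {H : Subgroup G} {g s : G} :
    s ∈ H.map (MulAut.conj g).toMonoidHom ↔ g⁻¹ * s * g ∈ H := by
  rw [Subgroup.mem_map]
  constructor
  · rintro ⟨x, hx, rfl⟩
    have : g⁻¹ * ((MulAut.conj g).toMonoidHom x) * g = x := by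
      simp only [MulEquiv.toMonoidHom_eq_coe, MonoidHom.coe_coe, MulAut.conj_apply]
      group
    rw [this]; exact hx
  · intro h
    refine ⟨g⁻¹ * s * g, h, ?_⟩
    simp [MulAut.conj_apply, mul_assoc]

theorem even_inter_iff [Finite G] (H : Subgroup G) (g : G) :
    Even (Nat.card ↥(H ⊓ H.map (MulAut.conj g).toMonoidHom)) ↔
      ∃ t ∈ H, orderOf t = 2 ∧ g * t * g⁻¹ ∈ H := by
  rw [even_card_iff_exists_invol]
  constructor
  · rintro ⟨s, hs12, hs⟩
    obtain ⟨hs1, hs2⟩ := Subgroup.mem_inf.mp hs12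
    rw [mem_map_conj] at hs2
    refine ⟨g⁻¹ * s * g, hs2, ?_, ?_⟩
    · have := orderOf_conj_two g⁻¹ hs
      rwa [inv_inv] at this
    · have : g * (g⁻¹ * s * g) * g⁻¹ = s := by group
      rw [this]; exact hs1
  · rintro ⟨t, ht, h2, hgt⟩
    refine ⟨g * t * g⁻¹, Subgroup.mem_inf.mpr ⟨hgt, ?_⟩, orderOf_conj_two g h2⟩
    rw [mem_map_conj]
    have : g⁻¹ * (g * t * g⁻¹) * g = t := by group
    rw [this]; exact ht

/-- Reformulation of strong embedding in terms of involutions. -/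
theorem stronglyEmbedded_iff [Finite G] (H : Subgroup G) :
    Cfsg.IsStronglyEmbedded H ↔ H ≠ ⊤ ∧ Even (Nat.card H) ∧
      ∀ g : G, ∀ t ∈ H, orderOf t = 2 → g * t * g⁻¹ ∈ H → g ∈ H := by
  unfold Cfsg.IsStronglyEmbedded
  constructor
  · rintro ⟨h1, h2, h3⟩
    refine ⟨h1, h2, ?_⟩
    intro g t ht ht2 hgt
    by_contra hg
    have := h3 g hg
    rw [← Nat.not_even_iff_odd] at this
    exact this ((even_inter_iff H g).mpr ⟨t, ht, ht2, hgt⟩)
  · rintro ⟨h1, h2, h3⟩
    refine ⟨h1, h2, ?_⟩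
    intro g hg
    rw [← Nat.not_even_iff_odd]
    intro he
    obtain ⟨t, ht, ht2, hgt⟩ := (even_inter_iff H g).mp he
    exact hg (h3 g t ht ht2 hgt)

end SE

end Cfsg.Agent.Lib.Helper2
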