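import Mathlib
import Cfsg.Agent.Lib.Helper2.StronglyEmbedded

/-!
# Subgroups of index two from cyclic Sylow 2-subgroups (helper2 library)
-/

set_option autoImplicit false

namespace Cfsg.Agent.Lib.Helper2

section IndexTwo

variable {G : Type*} [Group G] [Finite G]

/-- a finite group whose order is `2^(k+1)` has a subgroup of index 2 -/
theorem exists_index_two_of_card_pow (k : ℕ) (h : Nat.card G = 2 ^ (k + 1)) :
    ∃ H : Subgroup G, H.index = 2 := by
  have : Fact (Nat.Prime 2) := ⟨Nat.prime_two⟩
  have hd : 2 ^ k ∣ Nat.card G := by rw [h]; exact pow_dvd_pow 2 (Nat.le_succ k)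
  obtain ⟨K, hK⟩ := Sylow.exists_subgroup_card_pow_prime 2 hd
  refine ⟨K, ?_⟩
  have h1 := Subgroup.card_mul_index K
  rw [hK, h, pow_succ] at h1
  exact Nat.eq_of_mul_eq_mul_left (by positivity) h1

/-- If `G` has even order and a cyclic Sylow 2-subgroup then it has a subgroup of index 2. -/
theorem exists_index_two_of_cyclic_sylow (heven : Even (Nat.card G)) (T : Sylow 2 G)
    (hT : IsCyclic (T : Subgroup G)) : ∃ H : Subgroup G, H.index = 2 := by
  have : Fact (Nat.Prime 2) := ⟨Nat.prime_two⟩
  have h2 : 2 ∣ Nat.card G := even_iff_two_dvd.mp heven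
  have hmin : (Nat.card G).minFac = 2 := by
    apply le_antisymm
    · exact Nat.minFac_le_of_dvd (le_refl 2) h2
    · have hne : Nat.card G ≠ 1 := by
        intro h; rw [h] at h2; omega
      exact (Nat.minFac_prime hne).two_le
  have hcomp := IsCyclic.isComplement' hmin hT
  set K := (MonoidHom.transferSylow T (hT.normalizer_le_centralizer hmin)).ker with hK
  have hidx : K.index = Nat.card (T : Subgroup G) := hcomp.symm.index_eq_card
  -- |T| = 2^(k+1)
  have hTcard := T.card_eq_multiplicity
  have hpos : 0 < (Nat.card G).factorization 2 := by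
    apply Nat.Prime.factorization_pos_of_dvd Nat.prime_two Nat.card_pos.ne' h2
  obtain ⟨k, hk⟩ : ∃ k, (Nat.card G).factorization 2 = k + 1 := ⟨_, (Nat.succ_pred_eq_of_pos hpos).symm⟩
  have hq : Nat.card (G ⧸ K) = 2 ^ (k + 1) := by
    rw [← Subgroup.index, hidx, hTcard, hk]
  obtain ⟨H, hH⟩ := exists_index_two_of_card_pow (G := G ⧸ K) k hq
  refine ⟨H.comap (QuotientGroup.mk' K), ?_⟩
  rw [Subgroup.index_comap_of_surjective _ (QuotientGroup.mk'_surjective K), hH]

omit [Finite G] in
/-- a finite cyclic group has at most one involution -/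
theorem invol_unique_of_cyclic {H : Type*} [Group H] [Finite H] [IsCyclic H] {a b : H}
    (ha : orderOf a = 2) (hb : orderOf b = 2) : a = b := by
  classical
  have : Fintype H := Fintype.ofFinite H
  have hd : 2 ∣ Fintype.card H := by
    rw [← ha, ← Nat.card_eq_fintype_card]; exact orderOf_dvd_natCard a
  have h1 := IsCyclic.card_orderOf_eq_totient hd
  rw [Nat.totient_two, Finset.card_eq_one] at h1
  obtain ⟨c, hc⟩ := h1
  have ha' : a ∈ ({c} : Finset H) := by rw [← hc]; simp [ha]
  have hb' : b ∈ ({c} : Finset H) := by rw [← hc]; simp [hb]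
  rw [Finset.mem_singleton] at ha' hb'
  rw [ha', hb']

/-- a nontrivial finite 2-subgroup has a central involution -/
theorem exists_central_invol_of_pgroup (T : Subgroup G) (hT : IsPGroup 2 T) (hne : T ≠ ⊥) :
    ∃ z ∈ T, orderOf z = 2 ∧ ∀ g ∈ T, g * z = z * g := by
  have : Fact (Nat.Prime 2) := ⟨Nat.prime_two⟩
  have hnt : Nontrivial T := (Subgroup.nontrivial_iff_ne_bot T).mpr hne
  have hcn : Nontrivial (Subgroup.center T) := hT.center_nontrivial
  have hcp : IsPGroup 2 (Subgroup.center T) := hT.to_subgroup _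
  obtain ⟨k, hk⟩ := IsPGroup.iff_card.mp hcp
  have hk0 : k ≠ 0 := by
    rintro rfl
    rw [pow_zero] at hk
    have := (Nat.card_eq_one_iff_unique.mp hk).1
    exact not_subsingleton _ this
  have heven : Even (Nat.card (Subgroup.center T)) := by
    rw [hk]; exact Nat.even_pow.mpr ⟨even_two, hk0⟩
  obtain ⟨z, hz, hz2⟩ := (even_card_iff_exists_invol _).mp heven
  refine ⟨z.1, z.2, by rw [Subgroup.orderOf_coe]; exact hz2, ?_⟩
  intro g hg
  have := Subgroup.mem_center_iff.mp hz ⟨g, hg⟩
  exact congrArg Subtype.val this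

end IndexTwo

end Cfsg.Agent.Lib.Helper2
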