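import Mathlib
import Cfsg.Prelude.Def_Transfer
import Cfsg.Prelude.Def_Solvable
import Cfsg.Prelude.Def_Local
import Cfsg.Agent.Lib.Helper13.R3Defs

/-!
# S4404-ROOT (helper2): the five basic facts on roots

`smul_mem_cSub`, `cSub_conj`, `isRoot_conj`, `eq_one_of_fixed`, `eq_bot_or_eq_of_invariant`
with the exact names and binders of `notes/S4404_leaves.lean`.
-/

set_option autoImplicit false

namespace Cfsg.Agent.Lib.Helper2.R3ROOT

open Pointwise Cfsg.Agent.Lib.Helper13.R3

variable {H : Type*} [Group H] {M : Type*} [CommGroup M] [MulDistribMulAction H M]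

/-- ROOT1: `[M,y]` is `y`-invariant. -/
theorem smul_mem_cSub (y : H) (v : M) (hv : v ∈ cSub M y) : y • v ∈ cSub M y := by
  obtain ⟨m, rfl⟩ := mem_cSub.1 hv
  exact mem_cSub.2 ⟨y • m, by rw [smul_div']⟩

/-- ROOT2: `[M, h y h⁻¹] = h • [M, y]`. -/
theorem cSub_conj (h y : H) : cSub M (h * y * h⁻¹) = h • cSub M y := by
  ext v
  rw [Subgroup.mem_pointwise_smul_iff_inv_smul_mem]
  constructor
  · intro hv
    obtain ⟨m, rfl⟩ := mem_cSub.1 hv
    refine mem_cSub.2 ⟨h⁻¹ • m, ?_⟩
    rw [smul_div', mul_smul, mul_smul, inv_smul_smul]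
  · intro hv
    obtain ⟨m, hm⟩ := mem_cSub.1 hv
    refine mem_cSub.2 ⟨h • m, ?_⟩
    rw [mul_smul, mul_smul, inv_smul_smul, ← smul_div', hm, smul_inv_smul]

/-- ROOT3: conjugates of roots are roots. -/
theorem isRoot_conj [Finite M] (h y : H) (hy : IsRoot M y) : IsRoot M (h * y * h⁻¹) := by
  refine ⟨fun m => ?_, ?_⟩
  · have hpow : (h * y * h⁻¹) ^ 3 = h * y ^ 3 * h⁻¹ := by
      rw [conj_pow]
    rw [hpow, mul_smul, mul_smul, hy.1, smul_inv_smul]
  · rw [cSub_conj]
    rw [← hy.2]
    exact Nat.card_congr (Subgroup.equivSMul h (cSub M y)).symm.toEquiv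

/-- ROOT4: a root acts fixed-point-freely on its plane. -/
theorem eq_one_of_fixed (hM2 : ∀ m : M, m ^ 2 = 1) (y : H) (hy3 : ∀ m : M, (y ^ 3) • m = m)
    (v : M) (hv : v ∈ cSub M y) (hfix : y • v = v) : v = 1 := by
  obtain ⟨m, hm⟩ := mem_cSub.1 hv
  have h1 : y • m = m * v := by rw [← hm]; simp
  have h2 : y • (y • m) = m * v * v := by rw [h1, smul_mul', h1, hfix]
  have h3 : y • (y • (y • m)) = m * v * v * v := by
    rw [h2, smul_mul', smul_mul', h1, hfix]
  have h4 : (y ^ 3) • m = m * v * v * v := by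
    rw [pow_succ, pow_two, mul_smul, mul_smul, h3]
  rw [hy3 m] at h4
  have h5 : v * v * v = 1 := by
    have : m * (v * v * v) = m * 1 := by rw [mul_one]; rw [← mul_assoc, ← mul_assoc]; exact h4.symm
    exact mul_left_cancel this
  have h6 : v * v = 1 := by rw [← pow_two]; exact hM2 v
  rw [h6, one_mul] at h5
  exact h5

/-- ROOT5: an invariant subgroup of the plane of a root is trivial or the whole plane. -/
theorem eq_bot_or_eq_of_invariant [Finite M] (hM2 : ∀ m : M, m ^ 2 = 1) (y : H) (hy : IsRoot M y)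
    (W : Subgroup M) (hW : W ≤ cSub M y) (hinv : ∀ w ∈ W, y • w ∈ W) : W = ⊥ ∨ W = cSub M y := by
  classical
  have hdvd : Nat.card W ∣ 4 := by
    rw [← hy.2]
    exact Subgroup.card_dvd_of_le hW
  have hle : Nat.card W ≤ 4 := Nat.le_of_dvd (by norm_num) hdvd
  have hpos : 0 < Nat.card W := Nat.card_pos
  have hcases : Nat.card W = 1 ∨ Nat.card W = 2 ∨ Nat.card W = 4 := by
    interval_cases h : Nat.card W
    · left; rfl
    · right; left; rfl
    · exfalso; revert hdvd; decide
    · right; right; rfl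
  rcases hcases with h1 | h2 | h4
  · left
    exact Subgroup.card_eq_one.1 h1
  · exfalso
    -- W = {1, w}
    have hne : W ≠ ⊥ := by
      intro hb
      rw [hb] at h2
      simp at h2
    obtain ⟨w, hwW, hw1⟩ : ∃ w : M, w ∈ W ∧ w ≠ 1 := by
      obtain ⟨w, hw⟩ := (Subgroup.ne_bot_iff_exists_ne_one).1 hne
      exact ⟨(w : M), w.2, fun h => hw (Subtype.ext h)⟩
    have hyw : y • w ∈ W := hinv w hwW
    have hyw1 : y • w ≠ 1 := by
      intro h
      apply hw1
      have : y • w = y • (1 : M) := by rw [h, smul_one]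
      exact smul_left_cancel y this
    -- the three elements 1, w, y • w of W: y • w = w
    have hfix : y • w = w := by
      by_contra hne2
      have : 3 ≤ Nat.card W := by
        have hinj : Function.Injective (fun i : Fin 3 =>
            (match i with
              | 0 => (⟨1, W.one_mem⟩ : W)
              | 1 => ⟨w, hwW⟩
              | 2 => ⟨y • w, hyw⟩)) := by
          intro i j hij
          fin_cases i <;> fin_cases j <;> simp at hij <;> first | rfl | (exfalso; tauto)
        have := Nat.card_le_card_of_injective _ hinj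
        simpa using this
      omega
    exact hw1 (eq_one_of_fixed hM2 y hy.1 w (hW hwW) hfix)
  · right
    apply Subgroup.eq_of_le_of_card_ge hW
    rw [h4, hy.2]

end Cfsg.Agent.Lib.Helper2.R3ROOT
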