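import Mathlib
import Cfsg.Prelude.Def_ClassicalGeometry
import Cfsg.Prelude.Def_GeometricClasses
import Cfsg.Agent.Lib.Helper2.SOTDefs
import Cfsg.Agent.Lib.Helper2.SOTGDefs

set_option autoImplicit false
set_option linter.unusedSectionVars false
set_option linter.unusedVariables false

namespace Cfsg.Agent.Lib.Helper2.SOTA4
open Matrix Module
open Cfsg.Agent.Lib.Helper25.Tens Cfsg.Agent.Lib.Helper25.SpT Cfsg.Agent.Lib.Helper19.OSub
open Cfsg.Agent.Lib.Helper2.SOT
open scoped Kronecker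

variable {F : Type*} [Field F] {a b : ℕ}

/-- `y ↦ x ⊗ y` is injective for `x ≠ 0` -/
lemma pt_right_injective {x : Fin a → F} (hx : x ≠ 0) {y y' : Fin b → F}
    (h : pt x y = pt x y') : y = y' := by
  obtain ⟨i, hi⟩ := Function.ne_iff.mp hx
  ext l
  have := congrFun h (i, l)
  simp only [pt] at this
  exact mul_left_cancel₀ hi this

/-- if `u ⊗ y = x ⊗ y'` with `y ≠ 0` then `u` is a multiple of `x` -/
lemma pt_left_of_eq {u x : Fin a → F} {y y' : Fin b → F} (hy : y ≠ 0)
    (h : pt u y = pt x y') : ∃ c : F, u = c • x := by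
  obtain ⟨l, hl⟩ := Function.ne_iff.mp hy
  refine ⟨y' l / y l, ?_⟩
  ext i
  have := congrFun h (i, l)
  simp only [pt] at this
  have hl' : y l ≠ 0 := hl
  simp only [Pi.smul_apply, smul_eq_mul]
  rw [div_mul_eq_mul_div, eq_div_iff hl', mul_comm (y' l)]
  exact this

/-- three independent vectors give independent fibres -/
lemma sum_pt_eq_zero {u : Fin 3 → Fin a → F} (hu : LinearIndependent F u)
    {y : Fin 3 → Fin b → F} (h : ∑ i, pt (u i) (y i) = 0) : ∀ i, y i = 0 := by
  intro i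
  ext l
  have hl : ∑ i, (y i l) • u i = 0 := by
    ext j
    have := congrFun h (j, l)
    simp only [Finset.sum_apply, pt, Pi.zero_apply] at this
    simp only [Finset.sum_apply, Pi.smul_apply, smul_eq_mul, Pi.zero_apply]
    rw [← this]
    apply Finset.sum_congr rfl; intro k _; ring
  exact Fintype.linearIndependent_iff.mp hu (fun i => y i l) hl i

/-- the linear map `(y₀,y₁,y₂) ↦ Σ u_i ⊗ y_i` on a product of three subspaces -/
def phi3 (u : Fin 3 → Fin a → F) (B₀ B₁ B₂ : Submodule F (Fin b → F)) :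
    (B₀ × B₁ × B₂) →ₗ[F] (Idx a b → F) where
  toFun t := pt (u 0) (t.1 : Fin b → F) + pt (u 1) (t.2.1 : Fin b → F) + pt (u 2) (t.2.2 : Fin b → F)
  map_add' s t := by
    simp only [Prod.fst_add, Prod.snd_add, Submodule.coe_add, pt_add_right]
    abel
  map_smul' c t := by
    simp only [Prod.smul_fst, Prod.smul_snd, Submodule.coe_smul, pt_smul_right, RingHom.id_apply,
      smul_add]

lemma phi3_injective {u : Fin 3 → Fin a → F} (hu : LinearIndependent F u)
    (B₀ B₁ B₂ : Submodule F (Fin b → F)) : Function.Injective (phi3 u B₀ B₁ B₂) := by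
  rw [← LinearMap.ker_eq_bot, LinearMap.ker_eq_bot']
  rintro ⟨y₀, y₁, y₂⟩ h
  have h' : ∑ i, pt (u i) ((![(y₀ : Fin b → F), (y₁ : Fin b → F), (y₂ : Fin b → F)] : Fin 3 → Fin b → F) i) = 0 := by
    rw [Fin.sum_univ_three]
    exact h
  have h3 := sum_pt_eq_zero hu h'
  have e0 := h3 0
  have e1 := h3 1
  have e2 := h3 2
  simp only [Matrix.cons_val_zero, Matrix.cons_val_one, Matrix.cons_val_two] at e0 e1 e2
  ext : 1
  · exact Subtype.ext e0
  · ext : 1
    · exact Subtype.ext e1
    · exact Subtype.ext e2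

/-- lower bound for the dimension of a subspace containing three independent fibres -/
lemma finrank_ge_of_three {u : Fin 3 → Fin a → F} (hu : LinearIndependent F u)
    (B₀ B₁ B₂ : Submodule F (Fin b → F)) (W : Submodule F (Idx a b → F))
    (h0 : ∀ y ∈ B₀, pt (u 0) y ∈ W) (h1 : ∀ y ∈ B₁, pt (u 1) y ∈ W) (h2 : ∀ y ∈ B₂, pt (u 2) y ∈ W) :
    finrank F B₀ + finrank F B₁ + finrank F B₂ ≤ finrank F W := by
  have hr : LinearMap.range (phi3 u B₀ B₁ B₂) ≤ W := by
    rintro _ ⟨⟨y₀, y₁, y₂⟩, rfl⟩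
    exact W.add_mem (W.add_mem (h0 _ y₀.2) (h1 _ y₁.2)) (h2 _ y₂.2)
  have h1' := LinearMap.finrank_range_of_inj (phi3_injective hu B₀ B₁ B₂)
  have h2' := Submodule.finrank_mono hr
  rw [h1', Module.finrank_prod, Module.finrank_prod] at h2'
  omega

end Cfsg.Agent.Lib.Helper2.SOTA4
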