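import Mathlib
import Cfsg.Prelude.Def_ClassicalGeometry
import Cfsg.Prelude.Def_GeometricClasses
import Cfsg.Agent.Lib.Helper2.SOTDefs
import Cfsg.Agent.Lib.Helper2.SOTGDefs
import Cfsg.Agent.Lib.Helper2.SOTA4a

set_option autoImplicit false
set_option linter.unusedSectionVars false
set_option linter.unusedVariables false

namespace Cfsg.Agent.Lib.Helper2.SOTA4
open Matrix Module
open Cfsg.Agent.Lib.Helper25.Tens Cfsg.Agent.Lib.Helper25.SpT Cfsg.Agent.Lib.Helper19.OSub
open Cfsg.Agent.Lib.Helper2.SOT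
open scoped Kronecker

variable {F : Type*} [Field F] {a b : ℕ}

lemma pt_left_injective {y : Fin b → F} (hy : y ≠ 0) {u u' : Fin a → F}
    (h : pt u y = pt u' y) : u = u' := by
  obtain ⟨l, hl⟩ := Function.ne_iff.mp hy
  have hl' : y l ≠ 0 := hl
  ext i
  have := congrFun h (i, l)
  simp only [pt] at this
  exact mul_right_cancel₀ hl' this

/-- a vector orthogonal to `x` outside `F x` (`a ≥ 3`) -/
lemma exists_perp_not_span (h3 : 3 ≤ a) (x : Fin a → F) :
    ∃ u : Fin a → F, sf u x = 0 ∧ u ∉ Submodule.span F {x} := by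
  let φ : (Fin a → F) →ₗ[F] F :=
    { toFun := fun u => sf u x
      map_add' := fun u v => sf_add_left u v x
      map_smul' := fun c u => by simp [sf_smul_left] }
  have h1 := LinearMap.finrank_range_add_finrank_ker φ
  have h2 : finrank F (LinearMap.range φ) ≤ 1 := by
    have := Submodule.finrank_le (LinearMap.range φ)
    simpa using this
  have h3' : finrank F (Fin a → F) = a := by simp
  have h4 : finrank F (Submodule.span F {x}) ≤ 1 := by
    have := finrank_span_le_card (R := F) ({x} : Set (Fin a → F))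
    simpa using this
  by_contra hcon
  push Not at hcon
  have hle : LinearMap.ker φ ≤ Submodule.span F {x} := by
    intro u hu
    exact hcon u (by simpa [φ] using hu)
  have := Submodule.finrank_mono hle
  omega


/-- Case II: `Ker(A' − 1) = F x` is impossible for an involutory similitude `A'` with `A' x = x`, `a ≥ 3` -/
lemma caseII (two : (2 : F) ≠ 0) (ea : Even a) (h3 : 3 ≤ a) (x : Fin a → F) (hx : x ≠ 0)
    (A' : Matrix (Fin a) (Fin a) F) (hAx : A' *ᵥ x = x) (hAA : ∀ u, A' *ᵥ (A' *ᵥ u) = u)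
    (μ : F) (hsim : ∀ u v, sf (A' *ᵥ u) (A' *ᵥ v) = μ * sf u v)
    (hII : ∀ u, A' *ᵥ u = u → u ∈ Submodule.span F {x}) : False := by
  -- decomposition u = t x + m, A' m = -m
  have hdec : ∀ u : Fin a → F, ∃ (t : F) (m : Fin a → F), A' *ᵥ m = -m ∧ u = t • x + m := by
    intro u
    have hp : A' *ᵥ (u + A' *ᵥ u) = u + A' *ᵥ u := by
      rw [Matrix.mulVec_add, hAA, add_comm]
    obtain ⟨t, ht⟩ := Submodule.mem_span_singleton.mp (hII _ hp)
    refine ⟨(2 : F)⁻¹ * t, (2 : F)⁻¹ • (u - A' *ᵥ u), ?_, ?_⟩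
    · rw [Matrix.mulVec_smul, Matrix.mulVec_sub, hAA, ← smul_neg]
      congr 1
      abel
    · rw [mul_smul, ht, ← smul_add]
      have : u + A' *ᵥ u + (u - A' *ᵥ u) = (2 : F) • u := by rw [two_smul]; abel
      rw [this, smul_smul, inv_mul_cancel₀ two, one_smul]
  by_cases hμ : μ = 1
  · -- x is orthogonal to everything
    obtain ⟨w, hw⟩ := exists_sf_ne_zero ea hx
    obtain ⟨t, m, hm, rfl⟩ := hdec w
    have h1 : sf x m = 0 := by
      have := hsim x m
      rw [hAx, hm, hμ, one_mul, sf_neg_right] at this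
      have h2 : (2 : F) * sf x m = 0 := by linear_combination -this
      exact (mul_eq_zero.mp h2).resolve_left two
    apply hw
    rw [sf_add_right, sf_smul_right, sf_self, h1]
    ring
  · -- Ker(A'+1) is totally isotropic
    have hti : ∀ m m' : Fin a → F, A' *ᵥ m = -m → A' *ᵥ m' = -m' → sf m m' = 0 := by
      intro m m' hm hm'
      have := hsim m m'
      rw [hm, hm', sf_neg_left, sf_neg_right, neg_neg] at this
      have h2 : (1 - μ) * sf m m' = 0 := by linear_combination this
      exact (mul_eq_zero.mp h2).resolve_left (sub_ne_zero.mpr (Ne.symm hμ))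
    obtain ⟨u₀, hu₀x, hu₀⟩ := exists_perp_not_span h3 x
    obtain ⟨t, m₀, hm₀, hu₀eq⟩ := hdec u₀
    have hm₀ne : m₀ ≠ 0 := by
      intro h0
      apply hu₀
      rw [hu₀eq, h0, add_zero]
      exact Submodule.smul_mem _ _ (Submodule.mem_span_singleton_self x)
    have hm₀x : sf m₀ x = 0 := by
      have : m₀ = u₀ - t • x := by rw [hu₀eq]; abel
      rw [this, sf_sub_left, hu₀x, sf_smul_left, sf_self]
      ring
    obtain ⟨w, hw⟩ := exists_sf_ne_zero ea hm₀ne
    obtain ⟨t', m', hm', rfl⟩ := hdec w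
    apply hw
    rw [sf_add_right, sf_smul_right, hm₀x, hti m₀ m' hm₀ hm']
    ring

end Cfsg.Agent.Lib.Helper2.SOTA4
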