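import Mathlib
import Cfsg.Prelude.Def_ClassicalGeometry
import Cfsg.Prelude.Def_GeometricClasses
import Cfsg.Agent.Lib.Helper2.SOTDefs
import Cfsg.Agent.Lib.Helper2.SOTGDefs
import Cfsg.Agent.Lib.Helper2.SOTA4a
import Cfsg.Agent.Lib.Helper2.SOTA4b

set_option autoImplicit false
set_option linter.unusedSectionVars false
set_option linter.unusedVariables false

namespace Cfsg.Agent.Lib.Helper2.SOTA4
open Matrix Module
open Cfsg.Agent.Lib.Helper25.Tens Cfsg.Agent.Lib.Helper25.SpT Cfsg.Agent.Lib.Helper19.OSub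
open Cfsg.Agent.Lib.Helper2.SOT
open scoped Kronecker

variable {F : Type*} [Field F] {a b : ℕ}

/-- the involution case, in terms of the normalised matrices `A'`, `B'` -/
theorem kp_invol_mat (two : (2 : F) ≠ 0) (ea : Even a) (h4 : 4 ≤ a) (hb : 0 < b)
    (x : Fin a → F) (hx : x ≠ 0)
    (R'' : Submodule F (Idx a b → F)) (hR''dim : finrank F R'' ≤ b)
    (b₁ : GL (Idx a b) F) (A' : Matrix (Fin a) (Fin a) F) (B' : Matrix (Fin b) (Fin b) F)
    (hact1 : ∀ u y, mv b₁ (pt u y) = pt (A' *ᵥ u) (B' *ᵥ y))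
    (hAx : A' *ᵥ x = x) (hinv : ∀ v, mv b₁ (mv b₁ v) = v)
    (μ : F) (hsim : ∀ u v, sf (A' *ᵥ u) (A' *ᵥ v) = μ * sf u v)
    (hact : ∀ v, mv b₁ v - v ∈ Rs x ⊔ R'')
    (hfixK : ∀ v ∈ Rs x ⊓ R'', mv b₁ v = v)
    (hneg : ∀ y : Fin b → F, mv b₁ (pt x y) + pt x y ∈ Rs x ⊓ R'') :
    Rs x ⊓ R'' = ⊥ ∨ Rs x ≤ R'' := by
  classical
  -- B_K and B_-
  set BK : Submodule F (Fin b → F) := Submodule.comap (ptR x) R'' with hBK
  have hBKmem : ∀ y, y ∈ BK ↔ pt x y ∈ R'' := fun y => Iff.rfl
  have hBfix : ∀ y ∈ BK, B' *ᵥ y = y := by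
    intro y hy
    have h1 : pt x y ∈ Rs x ⊓ R'' := ⟨mem_Rs.mpr ⟨y, rfl⟩, hy⟩
    have h2 := hfixK _ h1
    rw [hact1, hAx] at h2
    exact pt_right_injective hx h2
  have hBplus : ∀ y, B' *ᵥ y + y ∈ BK := by
    intro y
    have h1 := (hneg y).2
    rw [hact1, hAx, ← pt_add_right] at h1
    exact h1
  have hBB : ∀ y, B' *ᵥ (B' *ᵥ y) = y := by
    intro y
    have h1 := hBfix _ (hBplus y)
    rw [Matrix.mulVec_add] at h1
    have : B' *ᵥ (B' *ᵥ y) + B' *ᵥ y = B' *ᵥ y + y := h1
    exact add_right_cancel (this.trans (add_comm _ _))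
  have hAA : ∀ u, A' *ᵥ (A' *ᵥ u) = u := by
    intro u
    let e : Fin b → F := Pi.single ⟨0, hb⟩ 1
    have he : e ≠ 0 := by
      intro h0
      have := congrFun h0 ⟨0, hb⟩
      simp [e] at this
    have h1 := hinv (pt u e)
    rw [hact1, hact1, hBB] at h1
    exact pt_left_injective he h1
  set Bm : Submodule F (Fin b → F) := LinearMap.ker (Matrix.toLin' B' + 1) with hBm
  have hBmmem : ∀ y, y ∈ Bm ↔ B' *ᵥ y = -y := by
    intro y
    rw [hBm, LinearMap.mem_ker, LinearMap.add_apply, Matrix.toLin'_apply, Module.End.one_apply,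
      add_eq_zero_iff_eq_neg]
  have hcompl : IsCompl BK Bm := by
    constructor
    · rw [Submodule.disjoint_def]
      intro y hy hy'
      have h1 := hBfix y hy
      have h2 := (hBmmem y).mp hy'
      have h3 : (2 : F) • y = 0 := by
        rw [two_smul]
        nth_rewrite 1 [← h1]
        rw [h2]; simp
      exact (smul_eq_zero.mp h3).resolve_left two
    · rw [codisjoint_iff, eq_top_iff]
      intro y _
      have hy : y = (2 : F)⁻¹ • (B' *ᵥ y + y) + (2 : F)⁻¹ • (y - B' *ᵥ y) := by
        rw [← smul_add]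
        have : B' *ᵥ y + y + (y - B' *ᵥ y) = (2 : F) • y := by rw [two_smul]; abel
        rw [this, smul_smul, inv_mul_cancel₀ two, one_smul]
      rw [hy]
      apply Submodule.add_mem_sup
      · exact BK.smul_mem _ (hBplus y)
      · apply Bm.smul_mem
        rw [hBmmem, Matrix.mulVec_sub, hBB]
        abel
  have hdimB : finrank F BK + finrank F Bm = b := by
    have := Submodule.finrank_add_eq_of_isCompl hcompl
    simpa using this
  -- K and its dimension
  have hKmap : Rs x ⊓ R'' = BK.map (ptR x) := by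
    rw [hBK, Submodule.map_comap_eq]
    rfl
  have hinj : Function.Injective (ptR (b := b) x) := by
    intro y y' h
    exact pt_right_injective hx h
  have hdimK : finrank F ↥(Rs x ⊓ R'') = finrank F BK := by
    rw [hKmap]
    exact (Submodule.equivMapOfInjective (ptR x) hinj BK).finrank_eq.symm
  have hdimR : finrank F (Rs (b := b) x) = b := by
    unfold Rs
    rw [LinearMap.finrank_range_of_inj hinj]
    simp
  -- V_-
  set Vm : Submodule F (Idx a b → F) :=
    LinearMap.ker (Matrix.toLin' (b₁ : Matrix (Idx a b) (Idx a b) F) + 1) with hVm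
  have hVmmem : ∀ v, v ∈ Vm ↔ mv b₁ v = -v := by
    intro v
    rw [hVm, LinearMap.mem_ker, LinearMap.add_apply, Matrix.toLin'_apply, Module.End.one_apply,
      add_eq_zero_iff_eq_neg]
  have hVmle : Vm ≤ Rs x ⊔ R'' := by
    intro v hv
    have h1 := hact v
    rw [(hVmmem v).mp hv] at h1
    have h2 : v = (-(2 : F)⁻¹) • (-v - v) := by
      have : -v - v = (-(2 : F)) • v := by rw [neg_smul, two_smul]; abel
      rw [this, smul_smul, neg_mul_neg, inv_mul_cancel₀ two, one_smul]
    rw [h2]
    exact Submodule.smul_mem _ _ h1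
  have hVmK : Vm ⊓ (Rs x ⊓ R'') = ⊥ := by
    rw [eq_bot_iff]
    intro v hv
    have h1 := hfixK v hv.2
    have h2 := (hVmmem v).mp hv.1
    have h3 : (2 : F) • v = 0 := by
      rw [two_smul]
      nth_rewrite 1 [← h1]
      rw [h2]; simp
    exact (Submodule.mem_bot F).mpr ((smul_eq_zero.mp h3).resolve_left two)
  have hbound : finrank F Vm + 2 * finrank F BK ≤ 2 * b := by
    have h1 := Submodule.finrank_sup_add_finrank_inf_eq Vm (Rs x ⊓ R'')
    rw [hVmK, finrank_bot, add_zero] at h1
    have h2 : Vm ⊔ (Rs x ⊓ R'') ≤ Rs x ⊔ R'' := sup_le hVmle (inf_le_left.trans le_sup_left)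
    have h3 := Submodule.finrank_mono h2
    have h4 := Submodule.finrank_sup_add_finrank_inf_eq (Rs x) R''
    rw [hdimR] at h4
    rw [hdimK] at h1 h4
    omega
  -- membership in V_-
  have hmemP : ∀ u, A' *ᵥ u = u → ∀ y ∈ Bm, pt u y ∈ Vm := by
    intro u hu y hy
    rw [hVmmem, hact1, hu, (hBmmem y).mp hy]
    ext p; simp [pt]
  have hmemM : ∀ u, A' *ᵥ u = -u → ∀ y ∈ BK, pt u y ∈ Vm := by
    intro u hu y hy
    rw [hVmmem, hact1, hu, hBfix y hy]
    ext p; simp [pt]
  by_cases hI : ∃ x₂, A' *ᵥ x₂ = x₂ ∧ LinearIndependent F ![x, x₂]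
  · obtain ⟨x₂, hx₂, hli⟩ := hI
    by_cases hM : ∃ x₃, x₃ ≠ 0 ∧ A' *ᵥ x₃ = -x₃
    · obtain ⟨x₃, hx₃, hAx₃⟩ := hM
      left
      have hli3 : LinearIndependent F ![x, x₂, x₃] := by
        rw [Fintype.linearIndependent_iff]
        intro c hc
        rw [Fin.sum_univ_three] at hc
        replace hc : c 0 • x + c 1 • x₂ + c 2 • x₃ = 0 := hc
        have hc' := congrArg (fun v => A' *ᵥ v) hc
        simp only [Matrix.mulVec_add, Matrix.mulVec_smul, hAx, hx₂, hAx₃, Matrix.mulVec_zero] at hc'
        have h2 : (2 * c 2) • x₃ = 0 := by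
          have : c 0 • x + c 1 • x₂ + c 2 • x₃ - (c 0 • x + c 1 • x₂ + c 2 • -x₃) = 0 := by
            rw [hc, hc', sub_zero]
          rw [← this, mul_smul, two_smul]
          simp only [smul_neg]
          abel
        have hc2 : c 2 = 0 := by
          rcases smul_eq_zero.mp h2 with h | h
          · exact (mul_eq_zero.mp h).resolve_left two
          · exact absurd h hx₃
        rw [hc2, zero_smul, add_zero] at hc
        have h01 := Fintype.linearIndependent_iff.mp hli ![c 0, c 1] (by
          rw [Fin.sum_univ_two]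
          simpa using hc)
        intro i
        fin_cases i
        · simpa using h01 0
        · simpa using h01 1
        · exact hc2
      have h3 := finrank_ge_of_three hli3 Bm Bm BK Vm
        (fun y hy => hmemP x hAx y hy) (fun y hy => hmemP x₂ hx₂ y hy)
        (fun y hy => hmemM x₃ hAx₃ y hy)
      have hk0 : finrank F BK = 0 := by omega
      have hBK0 : BK = ⊥ := Submodule.finrank_eq_zero.mp hk0
      rw [hKmap, hBK0, Submodule.map_bot]
    · push Not at hM
      right
      have hA1 : ∀ u, A' *ᵥ u = u := by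
        intro u
        have h1 : A' *ᵥ (u - A' *ᵥ u) = -(u - A' *ᵥ u) := by
          rw [Matrix.mulVec_sub, hAA]; abel
        have h2 : u - A' *ᵥ u = 0 := by
          by_contra hne
          exact hM _ hne h1
        exact (sub_eq_zero.mp h2).symm
      have ha0 : 0 < a := by omega
      let e : Fin 3 → Fin a → F := fun i => Pi.single ⟨i.val, by have := i.2; omega⟩ 1
      have hli3 : LinearIndependent F e := by
        have hb := (Pi.basisFun F (Fin a)).linearIndependent
        have hinj3 : Function.Injective (fun i : Fin 3 => (⟨i.val, by have := i.2; omega⟩ : Fin a)) := by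
          intro i j hij
          exact Fin.ext (by simpa using congrArg Fin.val hij)
        have := hb.comp _ hinj3
        convert this using 1
        ext i j
        simp [e, Pi.basisFun_apply, Function.comp]
      have h3 := finrank_ge_of_three hli3 Bm Bm Bm Vm
        (fun y hy => hmemP _ (hA1 _) y hy) (fun y hy => hmemP _ (hA1 _) y hy)
        (fun y hy => hmemP _ (hA1 _) y hy)
      have hm0 : finrank F Bm = 0 := by omega
      have hBm0 : Bm = ⊥ := Submodule.finrank_eq_zero.mp hm0
      have hBKtop : BK = ⊤ := by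
        have := hcompl.sup_eq_top
        rw [hBm0, sup_bot_eq] at this
        exact this
      intro v hv
      obtain ⟨y, rfl⟩ := mem_Rs.mp hv
      have : y ∈ BK := by rw [hBKtop]; trivial
      exact this
  · exfalso
    push Not at hI
    apply caseII two ea (by omega) x hx A' hAx hAA μ hsim
    intro u hu
    by_contra hnot
    apply hI u hu
    rw [LinearIndependent.pair_iff]
    intro s t hst
    have ht : t = 0 := by
      by_contra ht0
      apply hnot
      have : u = (-(t⁻¹ * s)) • x := by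
        have h1 : t • u = -(s • x) := by
          rw [eq_neg_iff_add_eq_zero, add_comm]; exact hst
        have h2 : u = t⁻¹ • (t • u) := by rw [smul_smul, inv_mul_cancel₀ ht0, one_smul]
        rw [h2, h1, smul_neg, smul_smul, neg_smul]
      rw [this]
      exact Submodule.smul_mem _ _ (Submodule.mem_span_singleton_self x)
    rw [ht, zero_smul, add_zero] at hst
    exact ⟨(smul_eq_zero.mp hst).resolve_right hx, ht⟩

end Cfsg.Agent.Lib.Helper2.SOTA4
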