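import Mathlib
import Cfsg.Prelude.Def_ClassicalGeometry
import Cfsg.Prelude.Def_GeometricClasses
import Cfsg.Agent.Lib.Helper2.SOTDefs
import Cfsg.Agent.Lib.Helper2.SOTGDefs
import Cfsg.Agent.Lib.Helper2.SOTA4a
import Cfsg.Agent.Lib.Helper2.SOTA4b
import Cfsg.Agent.Lib.Helper2.SOTA4c

set_option autoImplicit false
set_option linter.unusedSectionVars false
set_option linter.unusedVariables false

namespace Cfsg.Agent.Lib.Helper2.SOTA4
open Matrix Module
open Cfsg.Agent.Lib.Helper25.Tens Cfsg.Agent.Lib.Helper25.SpT Cfsg.Agent.Lib.Helper19.OSub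
open Cfsg.Agent.Lib.Helper2.SOT
open scoped Kronecker

variable {F : Type*} [Field F] [Fintype F] {a b : ℕ} {G : Matrix (Fin b) (Fin b) F}
  {M : Subgroup (GL (Idx a b) F)}

/-- `R_x` is totally isotropic -/
lemma Rs_le_perp (G : Matrix (Fin b) (Fin b) F) (x : Fin a → F) : Rs x ≤ perpV G (Rs (b := b) x) := by
  intro v hv w hw
  obtain ⟨y, rfl⟩ := mem_Rs.mp hv
  obtain ⟨y', rfl⟩ := mem_Rs.mp hw
  rw [fV_pt, sf_self, zero_mul]

/-- `g R_{x'}` is totally isotropic for `g ∈ SpV` -/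
lemma Rpp_le_perp {g : GL (Idx a b) F} (hg : g ∈ SpV G) (x' : Fin a → F) :
    Rpp g x' ≤ perpV G (Rpp g x') := by
  intro v hv w hw
  obtain ⟨v', hv', rfl⟩ := mem_gim.mp hv
  obtain ⟨w', hw', rfl⟩ := mem_gim.mp hw
  rw [mem_SpV.mp hg]
  exact Rs_le_perp G x' hv' w' hw'

lemma finrank_Rpp_le (g : GL (Idx a b) F) (x' : Fin a → F) : finrank F (Rpp g x') ≤ b := by
  unfold Rpp gim
  refine (Submodule.finrank_map_le _ _).trans ?_
  unfold Rs
  have := LinearMap.finrank_range_le (ptR (F := F) (b := b) x')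
  simpa using this

/-- powers of `b₀` on `R_x` modulo `K` -/
lemma pow_neg_mod (x : Fin a → F) (K : Submodule F (Idx a b → F)) (b₀ : GL (Idx a b) F)
    (hK : K ≤ Rs x) (hfixK : ∀ v ∈ K, mv b₀ v = v)
    (hneg : ∀ y : Fin b → F, mv b₀ (pt x y) + pt x y ∈ K) (n : ℕ) :
    ∀ y : Fin b → F, mv (b₀ ^ n) (pt x y) - ((-1 : F) ^ n) • pt x y ∈ K := by
  induction n with
  | zero => intro y; simp [mv]
  | succ n ih =>
    intro y
    have h1 := ih y
    set κ := mv (b₀ ^ n) (pt x y) - ((-1 : F) ^ n) • pt x y with hκ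
    have h2 : mv (b₀ ^ n) (pt x y) = ((-1 : F) ^ n) • pt x y + κ := by rw [hκ]; abel
    have h3 : mv (b₀ ^ (n + 1)) (pt x y) = mv b₀ (mv (b₀ ^ n) (pt x y)) := by
      rw [pow_succ', mv_mul]
    rw [h3, h2, mv_add, mv_smul, hfixK κ h1]
    have h4 := hneg y
    have : ((-1 : F) ^ n) • mv b₀ (pt x y) + κ - ((-1 : F) ^ (n + 1)) • pt x y =
        ((-1 : F) ^ n) • (mv b₀ (pt x y) + pt x y) + κ := by
      rw [pow_succ, smul_add, mul_neg_one, neg_smul]
      abel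
    rw [this]
    exact K.add_mem (K.smul_mem _ h4) h1


/-- `(1 + n)^k = 1 + k • n` when `n² = 0` -/
lemma one_add_pow_of_sq_zero {ι : Type} [Fintype ι] [DecidableEq ι] (n : Matrix ι ι F)
    (hn : n * n = 0) (k : ℕ) : (1 + n) ^ k = 1 + (k : F) • n := by
  induction k with
  | zero => simp
  | succ k ih =>
    rw [pow_succ, ih, add_mul, mul_add, mul_add, one_mul, mul_one, one_mul, Matrix.smul_mul, hn,
      smul_zero, add_zero, Nat.cast_succ, add_smul, one_smul]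
    abel

/-- core of `kp_trivial`, with the leaves (A1) `Lx_action`, (S1) `sim_of_kel_mem` and `Lx_le` as hypotheses -/
theorem kp_trivial_core (h : MCtx a b G M) (h4 : 4 ≤ a) (x x' : Fin a → F) (hx : x ≠ 0)
    (hx' : x' ≠ 0) (g : GL (Idx a b) F) (hg : g ∈ M)
    (hA1 : ∀ l ∈ Lx x g x', (∀ v, mv l v - v ∈ Rs x ⊔ Rpp g x') ∧ (∀ v ∈ Yp G x g x', mv l v = v))
    (hS1 : ∀ (α : GL (Fin a) F) (β : GL (Fin b) F), (kel α β : GL (Idx a b) F) ∈ SpV G →
      ∃ μ : F, μ ≠ 0 ∧ (∀ u v : Fin a → F, sf ((α : Matrix (Fin a) (Fin a) F) *ᵥ u)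
        ((α : Matrix (Fin a) (Fin a) F) *ᵥ v) = μ * sf u v))
    (hLM : Lx x g x' ≤ M)
    (b₀ : GL (Idx a b) F) (hbL : b₀ ∈ Lx x g x')
    (hbK : b₀ ∈ KG a b F) (hKl : Rpp g x' ⊓ perpV G (Rs x) ≤ Rs x)
    (hfix : ∀ v ∈ Yp G x g x', mv b₀ v = v)
    (hneg : ∀ y : Fin b → F, mv b₀ (pt x y) + pt x y ∈ Kp x g x') :
    Kp x g x' = ⊥ ∨ Rs x ≤ Rpp g x' := by
  classical
  have two := h.two
  have hb0 : 0 < b := by have := h.hb; omega
  have hgS : g ∈ SpV G := h.le_sp hg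
  have hKY : Kp x g x' ≤ Yp G x g x' := by
    intro v hv
    exact ⟨Rs_le_perp G x hv.1, Rpp_le_perp hgS x' hv.2⟩
  have hKR : Kp x g x' ≤ Rs x := inf_le_left
  have hfixK : ∀ v ∈ Kp x g x', mv b₀ v = v := fun v hv => hfix v (hKY hv)
  -- the prime
  obtain ⟨p, hp⟩ := CharP.exists F
  have := hp
  have hpp : p.Prime := CharP.char_is_prime F p
  have hp2 : p ≠ 2 := by
    intro h2
    apply two
    have := CharP.cast_eq_zero F p
    rw [h2] at this
    exact_mod_cast this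
  have hpodd : Odd p := hpp.odd_of_ne_two hp2
  -- s = b₀²
  set s : GL (Idx a b) F := b₀ * b₀ with hs
  have hsL : s ∈ Lx x g x' := (Lx x g x').mul_mem hbL hbL
  have hsS : s ∈ SpV G := h.le_sp (hLM hsL)
  have hsR : ∀ r ∈ Rs x, mv s r = r := by
    intro r hr
    obtain ⟨y, rfl⟩ := mem_Rs.mp hr
    have h1 := hneg y
    set κ := mv b₀ (pt x y) + pt x y with hκ
    have h2 : mv b₀ (pt x y) = -pt x y + κ := by rw [hκ]; abel
    rw [hs, mv_mul, h2, mv_add, mv_neg, h2, hfixK κ h1]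
    abel
  have hsub : ∀ v, mv s v - v ∈ Rs x := by
    intro v
    have h1 := (hA1 s hsL).1 v
    have h2 : mv s v - v ∈ perpV G (Rs x) := by
      intro r hr
      have e1 : fV G (mv s v - v) r = fV G (mv s v) r - fV G v r := by
        simp only [fV, sub_dotProduct]
      rw [e1]
      nth_rewrite 1 [← hsR r hr]
      rw [mem_SpV.mp hsS, sub_self]
    obtain ⟨r, hr, r'', hr'', hsum⟩ := Submodule.mem_sup.mp h1
    have h3 : r'' ∈ perpV G (Rs x) := by
      have : r'' = (mv s v - v) - r := by rw [← hsum]; abel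
      rw [this]
      exact (perpV G (Rs x)).sub_mem h2 (Rs_le_perp G x hr)
    have h4 : r'' ∈ Rs x := hKl ⟨hr'', h3⟩
    rw [← hsum]
    exact (Rs x).add_mem hr h4
  set n : Matrix (Idx a b) (Idx a b) F := (s : Matrix (Idx a b) (Idx a b) F) - 1 with hn
  have hnv : ∀ v, n *ᵥ v = mv s v - v := by
    intro v
    rw [hn, Matrix.sub_mulVec, Matrix.one_mulVec]
  have hnn : n * n = 0 := by
    apply Matrix.mulVec_injective
    funext v
    rw [← Matrix.mulVec_mulVec, Matrix.zero_mulVec, hnv v, hnv, hsR _ (hsub v), sub_self]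
  have hsp : s ^ p = 1 := by
    apply Units.ext
    rw [Units.val_pow_eq_pow_val, Units.val_one]
    have : (s : Matrix (Idx a b) (Idx a b) F) = 1 + n := by rw [hn]; abel
    rw [this, one_add_pow_of_sq_zero n hnn, CharP.cast_eq_zero F p, zero_smul, add_zero]
  set b₁ : GL (Idx a b) F := b₀ ^ p with hb₁
  have hb₁L : b₁ ∈ Lx x g x' := (Lx x g x').pow_mem hbL p
  have hb₁K : b₁ ∈ KG a b F := (KG a b F).pow_mem hbK p
  have hb₁S : b₁ ∈ SpV G := h.le_sp (hLM hb₁L)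
  have hb₁sq : b₁ * b₁ = 1 := by
    rw [hb₁, ← (Commute.refl b₀).mul_pow, ← hs, hsp]
  have hinv : ∀ v, mv b₁ (mv b₁ v) = v := by
    intro v
    rw [← mv_mul, hb₁sq, mv_one]
  have hneg₁ : ∀ y : Fin b → F, mv b₁ (pt x y) + pt x y ∈ Kp x g x' := by
    intro y
    have := pow_neg_mod x (Kp x g x') b₀ hKR hfixK hneg p y
    rw [hpodd.neg_one_pow, neg_smul, one_smul, sub_neg_eq_add] at this
    exact this
  obtain ⟨α, β, hαβ⟩ := hb₁K
  have hmvpt : ∀ u y, mv b₁ (pt u y) =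
      pt ((α : Matrix (Fin a) (Fin a) F) *ᵥ u) ((β : Matrix (Fin b) (Fin b) F) *ᵥ y) := by
    intro u y
    unfold mv
    rw [hαβ, kron_mulVec_pt]
  -- α x = c • x
  let e : Fin b → F := Pi.single ⟨0, hb0⟩ 1
  have he : e ≠ 0 := by
    intro h0
    have := congrFun h0 ⟨0, hb0⟩
    simp [e] at this
  set y₀ : Fin b → F := ((β⁻¹ : GL (Fin b) F) : Matrix (Fin b) (Fin b) F) *ᵥ e with hy₀
  have hβy₀ : (β : Matrix (Fin b) (Fin b) F) *ᵥ y₀ = e := by
    rw [hy₀, Matrix.mulVec_mulVec, ← Units.val_mul, mul_inv_cancel, Units.val_one, Matrix.one_mulVec]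
  have hmemR : mv b₁ (pt x y₀) ∈ Rs x := by
    have h1 := hKR (hneg₁ y₀)
    have : mv b₁ (pt x y₀) = (mv b₁ (pt x y₀) + pt x y₀) - pt x y₀ := by abel
    rw [this]
    exact (Rs x).sub_mem h1 (mem_Rs.mpr ⟨y₀, rfl⟩)
  obtain ⟨y', hy'⟩ := mem_Rs.mp hmemR
  rw [hmvpt, hβy₀] at hy'
  obtain ⟨c, hc⟩ := pt_left_of_eq he hy'.symm
  have hc0 : c ≠ 0 := by
    intro h0
    rw [h0, zero_smul] at hc
    apply hx
    have : x = ((α⁻¹ : GL (Fin a) F) : Matrix (Fin a) (Fin a) F) *ᵥ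
        ((α : Matrix (Fin a) (Fin a) F) *ᵥ x) := by
      rw [Matrix.mulVec_mulVec, ← Units.val_mul, inv_mul_cancel, Units.val_one, Matrix.one_mulVec]
    rw [this, hc, Matrix.mulVec_zero]
  obtain ⟨μ₀, hμ₀, hsim₀⟩ := hS1 α β (by
    have : (kel α β : GL (Idx a b) F) = b₁ := Units.ext (by rw [kel_val, hαβ])
    rw [this]; exact hb₁S)
  have hres := kp_invol_mat two h.ea h4 hb0 x hx (Rpp g x') (finrank_Rpp_le g x') b₁
    (c⁻¹ • (α : Matrix (Fin a) (Fin a) F)) (c • (β : Matrix (Fin b) (Fin b) F))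
    (by
      intro u y
      rw [hmvpt, Matrix.smul_mulVec, Matrix.smul_mulVec, pt_smul_left, pt_smul_right, smul_smul,
        inv_mul_cancel₀ hc0, one_smul])
    (by rw [Matrix.smul_mulVec, hc, smul_smul, inv_mul_cancel₀ hc0, one_smul])
    hinv (c⁻¹ * c⁻¹ * μ₀)
    (by
      intro u v
      rw [Matrix.smul_mulVec, Matrix.smul_mulVec, sf_smul_left, sf_smul_right, hsim₀]
      ring)
    (fun v => (hA1 b₁ hb₁L).1 v)
    (fun v hv => (hA1 b₁ hb₁L).2 v (hKY hv))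
    hneg₁
  exact hres

end Cfsg.Agent.Lib.Helper2.SOTA4
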