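import Mathlib
import Cfsg.Prelude.Def_ClassicalGeometry
import Cfsg.Prelude.Def_GeometricClasses
import Cfsg.Agent.Lib.Helper2.SOTDefs
import Cfsg.Agent.Lib.Helper2.SOTGDefs
import Cfsg.Agent.Lib.Helper2.SOTA4d
import Cfsg.Agent.Lib.Helper9.SOTX1
import Cfsg.Agent.Lib.Helper9.SOTA1
import Cfsg.Agent.Lib.Helper4.SOTS

/-!
S5666 (GA) leaf (A4) `kp_trivial`, exact signature of `notes/S5666_GA_leaves.lean`.
-/

set_option autoImplicit false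
set_option linter.unusedSectionVars false
set_option linter.unusedVariables false

namespace Cfsg.Agent.Lib.Helper2.SOTLeaf
open Matrix Module
open Cfsg.Agent.Lib.Helper25.Tens Cfsg.Agent.Lib.Helper25.SpT Cfsg.Agent.Lib.Helper19.OSub
open Cfsg.Agent.Lib.Helper2.SOT
open scoped Kronecker

variable {F : Type*} [Field F] [Fintype F] {a b : ℕ} {G : Matrix (Fin b) (Fin b) F}
  {M : Subgroup (GL (Idx a b) F)}

theorem kA_mem' (h : MCtx a b G M) (x : Fin a → F) (c : F) : (kA x c : GL (Idx a b) F) ∈ M :=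
  h.le ⟨kA_mem_KG x c, Cfsg.Agent.Lib.Helper9.SOTLeaf.kA_mem_SpV G x c⟩

theorem Lx_le' (h : MCtx a b G M) (x x' : Fin a → F) (g : GL (Idx a b) F) (hg : g ∈ M) :
    Lx x g x' ≤ M := by
  unfold Lx XA XAc
  rw [sup_le_iff]
  constructor
  · rw [Subgroup.closure_le]
    rintro t ⟨c, rfl⟩
    exact kA_mem' h x c
  · rw [Subgroup.closure_le]
    rintro t ⟨c, rfl⟩
    exact M.mul_mem (M.mul_mem hg (kA_mem' h x' c)) (M.inv_mem hg)

/-- (A4) -/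
theorem kp_trivial (h : MCtx a b G M) (h4 : 4 ≤ a) (x x' : Fin a → F) (hx : x ≠ 0) (hx' : x' ≠ 0)
    (g : GL (Idx a b) F) (hg : g ∈ M) (b₀ : GL (Idx a b) F) (hbL : b₀ ∈ Lx x g x')
    (hbK : b₀ ∈ KG a b F) (hKl : Rpp g x' ⊓ perpV G (Rs x) ≤ Rs x)
    (hfix : ∀ v ∈ Yp G x g x', mv b₀ v = v)
    (hneg : ∀ y : Fin b → F, mv b₀ (pt x y) + pt x y ∈ Kp x g x') :
    Kp x g x' = ⊥ ∨ Rs x ≤ Rpp g x' :=
  Cfsg.Agent.Lib.Helper2.SOTA4.kp_trivial_core h h4 x x' hx hx' g hg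
    (fun l hl => Cfsg.Agent.Lib.Helper9.SOTLeaf.Lx_action h x x' g hg l hl)
    (fun α β hk => by
      obtain ⟨μ, hμ, h1, _⟩ := Cfsg.Agent.Lib.Helper4.SOTLeaf.sim_of_kel_mem h.toCtx α β hk
      exact ⟨μ, hμ, h1⟩)
    (Lx_le' h x x' g hg) b₀ hbL hbK hKl hfix hneg

end Cfsg.Agent.Lib.Helper2.SOTLeaf
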