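import Mathlib
import Cfsg.Prelude.Def_ClassicalGeometry
import Cfsg.Prelude.Def_GeometricClasses
import Cfsg.Agent.Lib.Helper5.SpMax

/-!
helper2: S5650 (the subfield subgroup of `Sp_2m(F)` is maximal): common definitions.
Standard setting: the rational structure is the standard one (`P = 1`, `ζ = 1`), rational vectors are the
vectors with entries in `F₀`.  See `notes/S5650_plan.md`.
-/

set_option autoImplicit false

namespace Cfsg.Agent.Lib.Helper2.SpSub
open Cfsg Matrix Cfsg.Agent.Lib.Helper5 Cfsg.Agent.Lib.Helper5.SpMax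

variable {F : Type*} [Field F] {m : ℕ}

/-- the action of `GL` on vectors -/
abbrev mv (g : GL (Fin m ⊕ Fin m) F) (x : Fin m ⊕ Fin m → F) : Fin m ⊕ Fin m → F :=
  (g : Matrix (Fin m ⊕ Fin m) (Fin m ⊕ Fin m) F) *ᵥ x

/-- rational vectors: all entries in `F₀` -/
def RatV (F₀ : Subfield F) (x : Fin m ⊕ Fin m → F) : Prop := ∀ i, x i ∈ F₀

/-- the standard subfield subgroup of `Sp_2m(F)` -/
def H0 (m : ℕ) (F₀ : Subfield F) : Subgroup (GL (Fin m ⊕ Fin m) F) :=
  Cfsg.Geo.subfieldSubgroup F₀ (1 : GL (Fin m ⊕ Fin m) F) ⊓ spGL m F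

/-- standard basis vectors `e_i`, `f_i`; `sympForm (ee i) (ff j) = -δ_ij`, `sympForm (ff i) (ee j) = δ_ij` -/
def ee (i : Fin m) : Fin m ⊕ Fin m → F := Pi.single (Sum.inl i) 1
def ff (i : Fin m) : Fin m ⊕ Fin m → F := Pi.single (Sum.inr i) 1

/-- for `a ⊥ b` the short root element `x ↦ x + c (B(x,a) b + B(x,b) a)` -/
noncomputable def Sab (a b : Fin m ⊕ Fin m → F) (c : F) : GL (Fin m ⊕ Fin m) F :=
  tvc (a + b) c * tvc a (-c) * tvc b (-c)

/-- the overgroup context: `H0 ≤ M ≤ Sp`, `M ≠ Sp`, `[F : F₀]` prime -/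
structure Ctx (F₀ : Subfield F) (M : Subgroup (GL (Fin m ⊕ Fin m) F)) : Prop where
  le : H0 m F₀ ≤ M
  le_sp : M ≤ spGL m F
  ne : ¬ spGL m F ≤ M
  prime : (Module.finrank F₀ F).Prime

end Cfsg.Agent.Lib.Helper2.SpSub
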