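import Mathlib
import Cfsg.Prelude.Def_ClassicalGeometry
import Cfsg.Prelude.Def_GeometricClasses
import Cfsg.Agent.Lib.Helper5.SpMax
import Cfsg.Agent.Lib.Helper2.SpSubDefs

/-!
helper2: S5650, basic lemmas: membership in the standard subfield group, rational vectors, values of the
symplectic form on the standard basis, calculus of `tvc` and `Sab`.
-/

set_option autoImplicit false
set_option linter.unusedSectionVars false
set_option linter.unusedVariables false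
set_option linter.unusedSimpArgs false

namespace Cfsg.Agent.Lib.Helper2.SpSub
open Cfsg Matrix Cfsg.Agent.Lib.Helper5 Cfsg.Agent.Lib.Helper5.SpMax

variable {F : Type*} [Field F] {m : ℕ}

theorem gl_ext {g h : GL (Fin m ⊕ Fin m) F} (hgh : ∀ x, mv g x = mv h x) : g = h := by
  apply Units.ext
  exact mat_eq_of_mulVec hgh

theorem mv_mul (g h : GL (Fin m ⊕ Fin m) F) (x : Fin m ⊕ Fin m → F) :
    mv (g * h) x = mv g (mv h x) := by
  unfold mv
  rw [Units.val_mul, Matrix.mulVec_mulVec]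

theorem mv_one (x : Fin m ⊕ Fin m → F) : mv (1 : GL (Fin m ⊕ Fin m) F) x = x := by
  unfold mv
  rw [Units.val_one, Matrix.one_mulVec]

theorem mv_inv_mv (g : GL (Fin m ⊕ Fin m) F) (x : Fin m ⊕ Fin m → F) : mv g⁻¹ (mv g x) = x :=
  inv_mul_mulVec g x

theorem mv_mv_inv (g : GL (Fin m ⊕ Fin m) F) (x : Fin m ⊕ Fin m → F) : mv g (mv g⁻¹ x) = x :=
  mul_inv_mulVec g x

theorem mv_add (g : GL (Fin m ⊕ Fin m) F) (x y : Fin m ⊕ Fin m → F) :
    mv g (x + y) = mv g x + mv g y := Matrix.mulVec_add _ _ _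

theorem mv_smul (g : GL (Fin m ⊕ Fin m) F) (c : F) (x : Fin m ⊕ Fin m → F) :
    mv g (c • x) = c • mv g x := Matrix.mulVec_smul _ _ _

theorem mv_sub (g : GL (Fin m ⊕ Fin m) F) (x y : Fin m ⊕ Fin m → F) :
    mv g (x - y) = mv g x - mv g y := Matrix.mulVec_sub _ _ _

theorem mv_neg (g : GL (Fin m ⊕ Fin m) F) (x : Fin m ⊕ Fin m → F) :
    mv g (-x) = -mv g x := Matrix.mulVec_neg _ _

theorem mv_zero (g : GL (Fin m ⊕ Fin m) F) : mv g 0 = 0 := Matrix.mulVec_zero _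

theorem sp_form {g : GL (Fin m ⊕ Fin m) F} (hg : g ∈ spGL m F) (u v : Fin m ⊕ Fin m → F) :
    sympForm m F (mv g u) (mv g v) = sympForm m F u v := mem_spGL.mp hg u v

theorem sp_form_inv {g : GL (Fin m ⊕ Fin m) F} (hg : g ∈ spGL m F) (u v : Fin m ⊕ Fin m → F) :
    sympForm m F (mv g⁻¹ u) v = sympForm m F u (mv g v) := by
  rw [← sp_form hg (mv g⁻¹ u) v, mv_mv_inv]

/-! ### rational vectors -/

section Rat
variable {F₀ : Subfield F}

theorem ratV_zero : RatV F₀ (0 : Fin m ⊕ Fin m → F) := fun _ => F₀.zero_mem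

theorem ratV_add {x y : Fin m ⊕ Fin m → F} (hx : RatV F₀ x) (hy : RatV F₀ y) : RatV F₀ (x + y) :=
  fun i => F₀.add_mem (hx i) (hy i)

theorem ratV_neg {x : Fin m ⊕ Fin m → F} (hx : RatV F₀ x) : RatV F₀ (-x) :=
  fun i => F₀.neg_mem (hx i)

theorem ratV_sub {x y : Fin m ⊕ Fin m → F} (hx : RatV F₀ x) (hy : RatV F₀ y) : RatV F₀ (x - y) :=
  fun i => F₀.sub_mem (hx i) (hy i)

theorem ratV_smul {c : F} (hc : c ∈ F₀) {x : Fin m ⊕ Fin m → F} (hx : RatV F₀ x) :
    RatV F₀ (c • x) := fun i => F₀.mul_mem hc (hx i)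

theorem ratV_single (u : Fin m ⊕ Fin m) : RatV F₀ (Pi.single u (1 : F) : Fin m ⊕ Fin m → F) := by
  intro i
  by_cases h : i = u
  · subst h; rw [Pi.single_eq_same]; exact F₀.one_mem
  · rw [Pi.single_eq_of_ne h]; exact F₀.zero_mem

theorem ratV_ee (i : Fin m) : RatV F₀ (ee i : Fin m ⊕ Fin m → F) := ratV_single _

theorem ratV_ff (i : Fin m) : RatV F₀ (ff i : Fin m ⊕ Fin m → F) := ratV_single _

theorem ratV_sympForm {x y : Fin m ⊕ Fin m → F} (hx : RatV F₀ x) (hy : RatV F₀ y) :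
    sympForm m F x y ∈ F₀ := by
  rw [sympForm_eq_sum]
  apply F₀.sum_mem
  intro i _
  exact F₀.sub_mem (F₀.mul_mem (hx _) (hy _)) (F₀.mul_mem (hx _) (hy _))

end Rat

/-! ### values of the form on the standard basis -/

theorem B_right_ee (x : Fin m ⊕ Fin m → F) (i : Fin m) : sympForm m F x (ee i) = x (Sum.inr i) := by
  rw [sympForm_eq_sum, Finset.sum_eq_single i]
  · simp [ee]
  · intro j _ hj
    simp [ee, hj]
  · intro h; exact absurd (Finset.mem_univ i) h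

theorem B_right_ff (x : Fin m ⊕ Fin m → F) (i : Fin m) : sympForm m F x (ff i) = -x (Sum.inl i) := by
  rw [sympForm_eq_sum, Finset.sum_eq_single i]
  · simp [ff]
  · intro j _ hj
    simp [ff, hj]
  · intro h; exact absurd (Finset.mem_univ i) h

theorem B_left_ee (i : Fin m) (x : Fin m ⊕ Fin m → F) : sympForm m F (ee i) x = -x (Sum.inr i) := by
  rw [sympForm_swap, B_right_ee]

theorem B_left_ff (i : Fin m) (x : Fin m ⊕ Fin m → F) : sympForm m F (ff i) x = x (Sum.inl i) := by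
  rw [sympForm_swap, B_right_ff, neg_neg]

theorem B_ee_ee (i j : Fin m) : sympForm m F (ee i : Fin m ⊕ Fin m → F) (ee j) = 0 := by
  rw [B_right_ee]; simp [ee]

theorem B_ff_ff (i j : Fin m) : sympForm m F (ff i : Fin m ⊕ Fin m → F) (ff j) = 0 := by
  rw [B_right_ff]; simp [ff]

theorem B_ee_ff (i j : Fin m) :
    sympForm m F (ee i : Fin m ⊕ Fin m → F) (ff j) = if i = j then -1 else 0 := by
  rw [B_right_ff]
  by_cases h : i = j
  · subst h; simp [ee]
  · have : (Sum.inl j : Fin m ⊕ Fin m) ≠ Sum.inl i := fun e => h (Sum.inl.inj e).symm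
    simp [ee, h, Pi.single_eq_of_ne this]

theorem B_ff_ee (i j : Fin m) :
    sympForm m F (ff i : Fin m ⊕ Fin m → F) (ee j) = if i = j then 1 else 0 := by
  rw [B_right_ee]
  by_cases h : i = j
  · subst h; simp [ff]
  · have : (Sum.inr j : Fin m ⊕ Fin m) ≠ Sum.inr i := fun e => h (Sum.inr.inj e).symm
    simp [ff, h, Pi.single_eq_of_ne this]

/-! ### the standard subfield group -/

section Sub
variable (F₀ : Subfield F)

theorem mem_sub1_iff (g : GL (Fin m ⊕ Fin m) F) :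
    g ∈ Cfsg.Geo.subfieldSubgroup F₀ (1 : GL (Fin m ⊕ Fin m) F) ↔
      ∃ (a : GL (Fin m ⊕ Fin m) F₀) (c : Fˣ),
        (g : Matrix (Fin m ⊕ Fin m) (Fin m ⊕ Fin m) F) =
          (c : F) • (a : Matrix (Fin m ⊕ Fin m) (Fin m ⊕ Fin m) F₀).map (F₀.subtype : F₀ →+* F) := by
  unfold Cfsg.Geo.subfieldSubgroup
  have h1 : (MulAut.conj (1 : GL (Fin m ⊕ Fin m) F)).toMonoidHom = MonoidHom.id _ := by
    ext g
    simp
  rw [h1, Subgroup.map_id, Subgroup.mem_sup_of_normal_right]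
  constructor
  · rintro ⟨y, ⟨a, rfl⟩, z, hz, rfl⟩
    rw [Cfsg.Geo.mem_scalars_iff] at hz
    obtain ⟨c, hc⟩ := hz
    refine ⟨a, c, ?_⟩
    rw [Units.val_mul, hc, Matrix.mul_smul, Matrix.mul_one]
    rfl
  · rintro ⟨a, c, hg⟩
    have hs : ∃ s : GL (Fin m ⊕ Fin m) F,
        (s : Matrix (Fin m ⊕ Fin m) (Fin m ⊕ Fin m) F) = (c : F) • 1 := by
      refine ⟨⟨(c : F) • 1, ((c⁻¹ : Fˣ) : F) • 1, ?_, ?_⟩, rfl⟩
      · rw [Matrix.smul_mul, Matrix.mul_smul, Matrix.mul_one, smul_smul, ← Units.val_mul,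
          mul_inv_cancel, Units.val_one, one_smul]
      · rw [Matrix.smul_mul, Matrix.mul_smul, Matrix.mul_one, smul_smul, ← Units.val_mul,
          inv_mul_cancel, Units.val_one, one_smul]
    obtain ⟨s, hs⟩ := hs
    refine ⟨Matrix.GeneralLinearGroup.map (F₀.subtype : F₀ →+* F) a, ⟨a, rfl⟩, s, ?_, ?_⟩
    · rw [Cfsg.Geo.mem_scalars_iff]
      exact ⟨c, hs⟩
    · apply Units.ext
      rw [Units.val_mul, hs, hg, Matrix.mul_smul, Matrix.mul_one]
      rfl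

/-- (A2) -/
theorem rat_of_mem_sub1 (g : GL (Fin m ⊕ Fin m) F)
    (hg : g ∈ Cfsg.Geo.subfieldSubgroup F₀ (1 : GL (Fin m ⊕ Fin m) F)) :
    ∃ μ : F, μ ≠ 0 ∧ ∀ x, RatV F₀ x → ∃ r, RatV F₀ r ∧ mv g x = μ • r := by
  rw [mem_sub1_iff] at hg
  obtain ⟨a, c, hac⟩ := hg
  refine ⟨(c : F), c.ne_zero, fun x hx => ?_⟩
  refine ⟨((a : Matrix (Fin m ⊕ Fin m) (Fin m ⊕ Fin m) F₀).map (F₀.subtype : F₀ →+* F)) *ᵥ x, ?_, ?_⟩
  · intro i
    rw [Matrix.mulVec, dotProduct]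
    apply F₀.sum_mem
    intro j _
    apply F₀.mul_mem
    · rw [Matrix.map_apply]
      exact ((a : Matrix (Fin m ⊕ Fin m) (Fin m ⊕ Fin m) F₀) i j).2
    · exact hx j
  · unfold mv
    rw [hac, Matrix.smul_mulVec]

theorem mem_sub1_of_entries (g : GL (Fin m ⊕ Fin m) F) (μ : F) (hμ : μ ≠ 0)
    (hent : ∀ i j, ∃ a ∈ F₀, (g : Matrix (Fin m ⊕ Fin m) (Fin m ⊕ Fin m) F) i j = μ * a) :
    g ∈ Cfsg.Geo.subfieldSubgroup F₀ (1 : GL (Fin m ⊕ Fin m) F) := by
  rw [mem_sub1_iff]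
  choose A₀ hA₀mem hA₀ using hent
  obtain ⟨A₀', hA₀'⟩ : ∃ A₀' : Matrix (Fin m ⊕ Fin m) (Fin m ⊕ Fin m) F₀,
      A₀' = fun i j => ⟨A₀ i j, hA₀mem i j⟩ := ⟨_, rfl⟩
  have hmap : (g : Matrix (Fin m ⊕ Fin m) (Fin m ⊕ Fin m) F) =
      μ • A₀'.map (F₀.subtype : F₀ →+* F) := by
    ext i j
    rw [hA₀ i j, Matrix.smul_apply, Matrix.map_apply, hA₀', smul_eq_mul]
    rfl
  have hdet0 : (g : Matrix (Fin m ⊕ Fin m) (Fin m ⊕ Fin m) F).det ≠ 0 := by
    apply Matrix.det_ne_zero_of_right_inverse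
      (B := ((g⁻¹ : GL (Fin m ⊕ Fin m) F) : Matrix (Fin m ⊕ Fin m) (Fin m ⊕ Fin m) F))
    rw [← Units.val_mul, mul_inv_cancel, Units.val_one]
  have hdet : A₀'.det ≠ 0 := by
    intro h0
    apply hdet0
    rw [hmap, Matrix.det_smul]
    have : (A₀'.map (F₀.subtype : F₀ →+* F)).det = (F₀.subtype : F₀ →+* F) A₀'.det := by
      rw [RingHom.map_det]
      rfl
    rw [this, h0, map_zero, mul_zero]
  refine ⟨Matrix.GeneralLinearGroup.mkOfDetNeZero A₀' hdet, Units.mk0 μ hμ, ?_⟩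
  rw [hmap]
  rfl

/-- (A1) -/
theorem mem_sub1_of_maps {μ : F} (hμ : μ ≠ 0) (g : GL (Fin m ⊕ Fin m) F)
    (h : ∀ x, RatV F₀ x → ∃ r, RatV F₀ r ∧ mv g x = μ • r) :
    g ∈ Cfsg.Geo.subfieldSubgroup F₀ (1 : GL (Fin m ⊕ Fin m) F) := by
  apply mem_sub1_of_entries F₀ g μ hμ
  intro i j
  obtain ⟨r, hr, hgr⟩ := h (Pi.single j 1) (ratV_single j)
  refine ⟨r i, hr i, ?_⟩
  have h1 : (g : Matrix (Fin m ⊕ Fin m) (Fin m ⊕ Fin m) F) i j =
      (mv g (Pi.single j (1 : F))) i := by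
    unfold mv
    simp [Matrix.mulVec, dotProduct, Pi.single_apply]
  rw [h1, hgr, Pi.smul_apply, smul_eq_mul]

theorem mem_H0_of_maps {g : GL (Fin m ⊕ Fin m) F} (hg : g ∈ spGL m F)
    (h : ∀ x, RatV F₀ x → RatV F₀ (mv g x)) : g ∈ H0 m F₀ := by
  refine Subgroup.mem_inf.mpr ⟨?_, hg⟩
  apply mem_sub1_of_maps F₀ one_ne_zero g
  intro x hx
  exact ⟨mv g x, h x hx, (one_smul _ _).symm⟩

end Sub

/-! ### calculus of `tvc` -/

theorem tvc_mv (a x : Fin m ⊕ Fin m → F) (c : F) :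
    mv (tvc a c) x = x + (c * sympForm m F x a) • a := tvc_mulVec a x c

theorem tvc_zero (a : Fin m ⊕ Fin m → F) : tvc a (0 : F) = 1 := by
  apply gl_ext
  intro x
  rw [tvc_mv, mv_one, zero_mul, zero_smul, add_zero]

theorem tvc_zero_vec (c : F) : tvc (0 : Fin m ⊕ Fin m → F) c = 1 := by
  apply gl_ext
  intro x
  rw [tvc_mv, mv_one, smul_zero, add_zero]

theorem tvc_mul (a : Fin m ⊕ Fin m → F) (c c' : F) : tvc a c * tvc a c' = tvc a (c + c') := by
  apply gl_ext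
  intro x
  rw [mv_mul, tvc_mv, tvc_mv, tvc_mv, sympForm_add_left, sympForm_smul_left, sympForm_self,
    mul_zero, add_zero, add_assoc, ← add_smul]
  congr 2
  ring

theorem tvc_smul (l : F) (a : Fin m ⊕ Fin m → F) (c : F) : tvc (l • a) c = tvc a (l ^ 2 * c) := by
  apply gl_ext
  intro x
  rw [tvc_mv, tvc_mv, sympForm_smul_right, smul_smul]
  congr 2
  ring

theorem tvc_neg_vec (a : Fin m ⊕ Fin m → F) (c : F) : tvc (-a) c = tvc a c := by
  have := tvc_smul (-1 : F) a c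
  rw [neg_one_smul] at this
  rw [this]
  congr 1
  ring

theorem tvc_comm_of_orth {a b : Fin m ⊕ Fin m → F} (hab : sympForm m F a b = 0) (c c' : F) :
    tvc a c * tvc b c' = tvc b c' * tvc a c := by
  have hba : sympForm m F b a = 0 := by rw [sympForm_swap, hab, neg_zero]
  apply gl_ext
  intro x
  rw [mv_mul, mv_mul, tvc_mv, tvc_mv, tvc_mv, tvc_mv, sympForm_add_left, sympForm_add_left,
    sympForm_smul_left, sympForm_smul_left, hab, hba]
  simp only [mul_zero, add_zero]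
  abel

theorem tvc_mem_H0 {F₀ : Subfield F} {a : Fin m ⊕ Fin m → F} (ha : RatV F₀ a) {c : F}
    (hc : c ∈ F₀) : tvc a c ∈ H0 m F₀ := by
  apply mem_H0_of_maps F₀ (tvc_mem a c)
  intro x hx
  rw [tvc_mv]
  exact ratV_add hx (ratV_smul (F₀.mul_mem hc (ratV_sympForm hx ha)) ha)

/-! ### calculus of `Sab` -/

theorem Sab_mem_sp (a b : Fin m ⊕ Fin m → F) (c : F) : Sab a b c ∈ spGL m F :=
  (spGL m F).mul_mem ((spGL m F).mul_mem (tvc_mem _ _) (tvc_mem _ _)) (tvc_mem _ _)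

theorem conj_Sab {x : GL (Fin m ⊕ Fin m) F} (hx : x ∈ spGL m F) (a b : Fin m ⊕ Fin m → F) (c : F) :
    x * Sab a b c * x⁻¹ = Sab (mv x a) (mv x b) c := by
  unfold Sab
  rw [← conj_tvc hx, ← conj_tvc hx, ← mv_add]
  unfold mv
  rw [← conj_tvc hx]
  group

/-- (B1) -/
theorem Sab_mulVec {a b : Fin m ⊕ Fin m → F} (hab : sympForm m F a b = 0) (c : F)
    (x : Fin m ⊕ Fin m → F) :
    mv (Sab a b c) x = x + c • (sympForm m F x a • b + sympForm m F x b • a) := by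
  have hba : sympForm m F b a = 0 := by rw [sympForm_swap, hab, neg_zero]
  unfold Sab
  rw [mv_mul, mv_mul, tvc_mv, tvc_mv, tvc_mv]
  simp only [sympForm_add_left, sympForm_add_right, sympForm_smul_left, sympForm_self, hab, hba,
    mul_zero, add_zero, zero_add, smul_add, smul_smul]
  module

theorem Sab_mem_H0 {F₀ : Subfield F} {a b : Fin m ⊕ Fin m → F} (ha : RatV F₀ a) (hb : RatV F₀ b)
    {c : F} (hc : c ∈ F₀) : Sab a b c ∈ H0 m F₀ :=
  (H0 m F₀).mul_mem ((H0 m F₀).mul_mem (tvc_mem_H0 (ratV_add ha hb) hc)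
    (tvc_mem_H0 ha (F₀.neg_mem hc))) (tvc_mem_H0 hb (F₀.neg_mem hc))

theorem Sab_zero (a b : Fin m ⊕ Fin m → F) : Sab a b (0 : F) = 1 := by
  unfold Sab
  rw [neg_zero, tvc_zero, tvc_zero, tvc_zero, mul_one, mul_one]

theorem Sab_mul {a b : Fin m ⊕ Fin m → F} (hab : sympForm m F a b = 0) (c c' : F) :
    Sab a b c * Sab a b c' = Sab a b (c + c') := by
  have hba : sympForm m F b a = 0 := by rw [sympForm_swap, hab, neg_zero]
  apply gl_ext
  intro x
  rw [mv_mul, Sab_mulVec hab, Sab_mulVec hab, Sab_mulVec hab]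
  simp only [sympForm_add_left, sympForm_smul_left, sympForm_self, hab, hba, mul_zero, add_zero,
    zero_add, smul_add, smul_smul]
  module

theorem Sab_inv {a b : Fin m ⊕ Fin m → F} (hab : sympForm m F a b = 0) (c : F) :
    (Sab a b c)⁻¹ = Sab a b (-c) := by
  apply inv_eq_of_mul_eq_one_right
  rw [Sab_mul hab, add_neg_cancel, Sab_zero]

theorem Sab_symm {a b : Fin m ⊕ Fin m → F} (hab : sympForm m F a b = 0) (c : F) :
    Sab a b c = Sab b a c := by
  have hba : sympForm m F b a = 0 := by rw [sympForm_swap, hab, neg_zero]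
  apply gl_ext
  intro x
  rw [Sab_mulVec hab, Sab_mulVec hba, add_comm (sympForm m F x a • b)]

theorem Sab_smul_left {a b : Fin m ⊕ Fin m → F} (hab : sympForm m F a b = 0) (l c : F) :
    Sab (l • a) b c = Sab a b (l * c) := by
  have hlab : sympForm m F (l • a) b = 0 := by rw [sympForm_smul_left, hab, mul_zero]
  apply gl_ext
  intro x
  rw [Sab_mulVec hab, Sab_mulVec hlab, sympForm_smul_right]
  module

theorem Sab_smul_right {a b : Fin m ⊕ Fin m → F} (hab : sympForm m F a b = 0) (l c : F) :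
    Sab a (l • b) c = Sab a b (l * c) := by
  have halb : sympForm m F a (l • b) = 0 := by rw [sympForm_smul_right, hab, mul_zero]
  apply gl_ext
  intro x
  rw [Sab_mulVec hab, Sab_mulVec halb, sympForm_smul_right]
  module

theorem tvc_add_orth {a b : Fin m ⊕ Fin m → F} (hab : sympForm m F a b = 0) (c : F) :
    tvc (a + b) c = tvc a c * tvc b c * Sab a b c := by
  have hba : sympForm m F b a = 0 := by rw [sympForm_swap, hab, neg_zero]
  apply gl_ext
  intro x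
  rw [mv_mul, mv_mul, Sab_mulVec hab, tvc_mv, tvc_mv, tvc_mv]
  simp only [sympForm_add_left, sympForm_add_right, sympForm_smul_left, sympForm_self, hab, hba,
    mul_zero, add_zero, zero_add, smul_add, smul_smul]
  module

end Cfsg.Agent.Lib.Helper2.SpSub
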