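import Mathlib
import Cfsg.Prelude.Def_ClassicalGeometry
import Cfsg.Prelude.Def_GeometricClasses
import Cfsg.Agent.Lib.Helper5.SpMax
import Cfsg.Agent.Lib.Helper2.SpSubDefs
import Cfsg.Agent.Lib.Helper2.SpSubBasic

/-!
helper2: S5650 leaves A3 (`H0_lt`) and R2 (`maximal_transfer`).
-/

set_option autoImplicit false

namespace Cfsg.Agent.Lib.Helper2.SpSubLeaf
open Cfsg Matrix Cfsg.Agent.Lib.Helper5 Cfsg.Agent.Lib.Helper5.SpMax Cfsg.Agent.Lib.Helper2.SpSub

variable {F : Type*} [Field F] {m : ℕ}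

/-- `IsMaximalIn` is transported by a group isomorphism -/
theorem isMaximalIn_map {G G' : Type*} [Group G] [Group G'] (φ : G ≃* G') {K H : Subgroup G}
    (h : Cfsg.Geo.IsMaximalIn K H) :
    Cfsg.Geo.IsMaximalIn (K.map φ.toMonoidHom) (H.map φ.toMonoidHom) := by
  obtain ⟨hlt, hmax⟩ := h
  have hinj : Function.Injective φ.toMonoidHom := φ.injective
  refine ⟨(Subgroup.map_lt_map_iff_of_injective hinj).mpr hlt, fun M hHM hMK => ?_⟩
  have hM : M = (M.comap φ.toMonoidHom).map φ.toMonoidHom :=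
    (Subgroup.map_comap_eq_self_of_surjective φ.surjective M).symm
  have h1 : H ≤ M.comap φ.toMonoidHom := (Subgroup.map_le_iff_le_comap).mp hHM
  have h2 : M.comap φ.toMonoidHom ≤ K := by
    intro x hx
    have : φ.toMonoidHom x ∈ K.map φ.toMonoidHom := hMK hx
    obtain ⟨y, hy, hyx⟩ := this
    rwa [← hinj hyx]
  rcases hmax _ h1 h2 with e | e
  · left; rw [hM, e]
  · right; rw [hM, e]

/-- (R2) -/
theorem maximal_transfer (F₀ : Subfield F) (P' : GL (Fin m ⊕ Fin m) F) (ζ : F) (hζ : ζ ≠ 0)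
    (hP' : ∀ u v : Fin m ⊕ Fin m → F, ζ * sympForm m F (mv P' u) (mv P' v) = sympForm m F u v)
    (hmax : Cfsg.Geo.IsMaximalIn (spGL m F) (H0 m F₀)) :
    Cfsg.Geo.IsMaximalIn (spGL m F) (Cfsg.Geo.subfieldSubgroup F₀ P' ⊓ spGL m F) := by
  have hP'' : ∀ u v : Fin m ⊕ Fin m → F,
      sympForm m F (mv P' u) (mv P' v) = ζ⁻¹ * sympForm m F u v := by
    intro u v
    rw [← hP' u v, ← mul_assoc, inv_mul_cancel₀ hζ, one_mul]
  have hinv : ∀ u v : Fin m ⊕ Fin m → F,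
      sympForm m F (mv P'⁻¹ u) (mv P'⁻¹ v) = ζ * sympForm m F u v := by
    intro u v
    have := hP' (mv P'⁻¹ u) (mv P'⁻¹ v)
    rw [mv_mv_inv, mv_mv_inv] at this
    exact this.symm
  have hsp : (spGL m F).map (MulAut.conj P').toMonoidHom = spGL m F := by
    ext g
    constructor
    · rintro ⟨x, hx, rfl⟩
      rw [MulEquiv.coe_toMonoidHom, MulAut.conj_apply, mem_spGL]
      intro u v
      change sympForm m F (mv (P' * x * P'⁻¹) u) (mv (P' * x * P'⁻¹) v) = _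
      rw [mv_mul, mv_mul, mv_mul, mv_mul, hP'', sp_form hx, hinv, ← mul_assoc, inv_mul_cancel₀ hζ,
        one_mul]
    · intro hg
      refine ⟨P'⁻¹ * g * P', ?_, ?_⟩
      · rw [SetLike.mem_coe, mem_spGL]
        intro u v
        change sympForm m F (mv (P'⁻¹ * g * P') u) (mv (P'⁻¹ * g * P') v) = _
        rw [mv_mul, mv_mul, mv_mul, mv_mul, hinv, sp_form hg, hP'', ← mul_assoc,
          mul_inv_cancel₀ hζ, one_mul]
      · rw [MulEquiv.coe_toMonoidHom, MulAut.conj_apply]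
        group
  have hsub : (Cfsg.Geo.subfieldSubgroup F₀ (1 : GL (Fin m ⊕ Fin m) F)).map
      (MulAut.conj P').toMonoidHom = Cfsg.Geo.subfieldSubgroup F₀ P' := by
    unfold Cfsg.Geo.subfieldSubgroup
    have h1 : (MulAut.conj (1 : GL (Fin m ⊕ Fin m) F)).toMonoidHom = MonoidHom.id _ := by
      ext g
      simp
    rw [h1, Subgroup.map_id]
  have key := isMaximalIn_map (MulAut.conj P') hmax
  rw [hsp] at key
  unfold H0 at key
  rw [Subgroup.map_inf _ _ _ (MulAut.conj P').injective, hsp, hsub] at key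
  exact key

/-- (A3) the subfield group is a proper subgroup -/
theorem H0_lt (F₀ : Subfield F) (hm : 1 ≤ m) (hr : 2 ≤ Module.finrank F₀ F) :
    H0 m F₀ < spGL m F := by
  refine lt_of_le_of_ne inf_le_right ?_
  intro heq
  obtain ⟨ω, hω⟩ : ∃ ω : F, ω ∉ F₀ := by
    by_contra hcon
    push Not at hcon
    have h1 : Module.finrank F₀ F = 1 := by
      apply (finrank_eq_one_iff_of_nonzero' (1 : F) one_ne_zero).mpr
      intro w
      refine ⟨⟨w, hcon w⟩, ?_⟩
      rw [Subfield.smul_def]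
      simp
    omega
  obtain ⟨i₀, hi₀⟩ : ∃ i₀ : Fin m, i₀ = ⟨0, by omega⟩ := ⟨_, rfl⟩
  have hmem : tvc (ee i₀) ω ∈ H0 m F₀ := by
    rw [heq]
    exact tvc_mem _ _
  obtain ⟨μ, hμ0, hmap⟩ := rat_of_mem_sub1 F₀ _ (Subgroup.mem_inf.mp hmem).1
  obtain ⟨r, hr', e⟩ := hmap (ff i₀) (ratV_ff i₀)
  rw [tvc_mv, B_ff_ee, if_pos rfl, mul_one] at e
  have e1 := congrFun e (Sum.inr i₀)
  have e2 := congrFun e (Sum.inl i₀)
  simp only [ee, ff, Pi.add_apply, Pi.smul_apply, Pi.single_eq_same, smul_eq_mul, mul_one,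
    ne_eq, reduceCtorEq, not_false_eq_true, Pi.single_eq_of_ne, mul_zero, add_zero, zero_add] at e1 e2
  apply hω
  have hc0 : r (Sum.inr i₀) ≠ 0 := by
    intro h0
    rw [h0, mul_zero] at e1
    exact one_ne_zero e1
  have hμe : μ = (r (Sum.inr i₀))⁻¹ := eq_inv_of_mul_eq_one_left e1.symm
  rw [e2, hμe]
  exact F₀.mul_mem (F₀.inv_mem (hr' _)) (hr' _)

end Cfsg.Agent.Lib.Helper2.SpSubLeaf
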