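import Mathlib
import Cfsg.Prelude.Def_ClassicalGeometry
import Cfsg.Prelude.Def_GeometricClasses
import Cfsg.Agent.Lib.Helper5.SpMax
import Cfsg.Agent.Lib.Helper5.LSubC
import Cfsg.Agent.Lib.Helper2.SpSubDefs
import Cfsg.Agent.Lib.Helper2.SpSubBasic

/-!
helper2: S5650 leaf G2 (`hard_case`): the dihedral trick for `[F : F₀] ≥ 3`, with the rational
permutation involutions `lperm τ`.
-/

set_option autoImplicit false
set_option linter.unusedSectionVars false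
set_option linter.unusedVariables false
set_option linter.unusedSimpArgs false

namespace Cfsg.Agent.Lib.Helper2.SpSubLeaf
open Cfsg Matrix Cfsg.Agent.Lib.Helper5 Cfsg.Agent.Lib.Helper5.SpMax Cfsg.Agent.Lib.Helper2.SpSub

variable {F : Type*} [Field F] {m : ℕ}


/-! ### permutation involutions -/

/-- the permutation of the coordinates induced by a permutation of `Fin m` -/
def sg (τ : Equiv.Perm (Fin m)) : Equiv.Perm (Fin m ⊕ Fin m) := Equiv.sumCongr τ τ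

theorem sg_mul_self {τ : Equiv.Perm (Fin m)} (hτ : τ * τ = 1) : sg τ * sg τ = 1 := by
  ext u
  rcases u with i | i
  · have := congrArg (fun e : Equiv.Perm (Fin m) => e i) hτ
    simp only [Equiv.Perm.mul_apply, Equiv.Perm.one_apply] at this
    simp [sg, this]
  · have := congrArg (fun e : Equiv.Perm (Fin m) => e i) hτ
    simp only [Equiv.Perm.mul_apply, Equiv.Perm.one_apply] at this
    simp [sg, this]

/-- the permutation involution as an element of `GL` -/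
noncomputable def lperm (τ : Equiv.Perm (Fin m)) (hτ : τ * τ = 1) : GL (Fin m ⊕ Fin m) F :=
  ⟨(sg τ).permMatrix F, (sg τ).permMatrix F,
    by rw [← Matrix.permMatrix_mul, sg_mul_self hτ, Matrix.permMatrix_one],
    by rw [← Matrix.permMatrix_mul, sg_mul_self hτ, Matrix.permMatrix_one]⟩

theorem lperm_mv (τ : Equiv.Perm (Fin m)) (hτ : τ * τ = 1) (x : Fin m ⊕ Fin m → F) :
    mv (lperm τ hτ) x = x ∘ sg τ := by
  change (sg τ).permMatrix F *ᵥ x = _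
  rw [Matrix.permMatrix_mulVec]

theorem lperm_mv_inl (τ : Equiv.Perm (Fin m)) (hτ : τ * τ = 1) (x : Fin m ⊕ Fin m → F) (i : Fin m) :
    mv (lperm τ hτ) x (Sum.inl i) = x (Sum.inl (τ i)) := by
  rw [lperm_mv]; rfl

theorem lperm_mv_inr (τ : Equiv.Perm (Fin m)) (hτ : τ * τ = 1) (x : Fin m ⊕ Fin m → F) (i : Fin m) :
    mv (lperm τ hτ) x (Sum.inr i) = x (Sum.inr (τ i)) := by
  rw [lperm_mv]; rfl

theorem lperm_sq (τ : Equiv.Perm (Fin m)) (hτ : τ * τ = 1) :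
    (lperm τ hτ : GL (Fin m ⊕ Fin m) F) * lperm τ hτ = 1 := by
  apply Units.ext
  change (sg τ).permMatrix F * (sg τ).permMatrix F = 1
  rw [← Matrix.permMatrix_mul, sg_mul_self hτ, Matrix.permMatrix_one]

theorem lperm_mem_sp (τ : Equiv.Perm (Fin m)) (hτ : τ * τ = 1) :
    (lperm τ hτ : GL (Fin m ⊕ Fin m) F) ∈ spGL m F := by
  rw [mem_spGL]
  intro u v
  change sympForm m F (mv (lperm τ hτ) u) (mv (lperm τ hτ) v) = _
  rw [sympForm_eq_sum, sympForm_eq_sum]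
  simp only [lperm_mv_inl, lperm_mv_inr]
  exact Equiv.sum_comp τ (fun i => u (Sum.inr i) * v (Sum.inl i) - u (Sum.inl i) * v (Sum.inr i))

theorem lperm_mem_H0 (F₀ : Subfield F) (τ : Equiv.Perm (Fin m)) (hτ : τ * τ = 1) :
    (lperm τ hτ : GL (Fin m ⊕ Fin m) F) ∈ H0 m F₀ := by
  apply mem_H0_of_maps F₀ (lperm_mem_sp τ hτ)
  intro x hx u
  rw [lperm_mv]
  exact hx _

theorem lperm_fix_of (τ : Equiv.Perm (Fin m)) (hτ : τ * τ = 1) {x : Fin m ⊕ Fin m → F}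
    (h : ∀ i, x (Sum.inl (τ i)) = x (Sum.inl i) ∧ x (Sum.inr (τ i)) = x (Sum.inr i)) :
    mv (lperm τ hτ) x = x := by
  funext u
  rcases u with i | i
  · rw [lperm_mv_inl]; exact (h i).1
  · rw [lperm_mv_inr]; exact (h i).2

theorem lperm_fix_imp (τ : Equiv.Perm (Fin m)) (hτ : τ * τ = 1) {x : Fin m ⊕ Fin m → F}
    (h : mv (lperm τ hτ) x = x) (i : Fin m) :
    x (Sum.inl (τ i)) = x (Sum.inl i) ∧ x (Sum.inr (τ i)) = x (Sum.inr i) := by
  constructor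
  · have := lperm_mv_inl τ hτ x i
    rw [h] at this
    exact this.symm
  · have := lperm_mv_inr τ hτ x i
    rw [h] at this
    exact this.symm

/-! ### generic linear algebra (copies of `LSub.not_conj`, `LSub.exists_common_fixed` for our index type) -/

theorem mv_mul_fix {a b : GL (Fin m ⊕ Fin m) F} {v : Fin m ⊕ Fin m → F}
    (ha : mv a v = v) (hb : mv b v = v) : mv (a * b) v = v := by
  rw [mv_mul, hb, ha]

theorem mv_pow_fix {a : GL (Fin m ⊕ Fin m) F} {v : Fin m ⊕ Fin m → F}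
    (ha : mv a v = v) (k : ℕ) : mv (a ^ k) v = v := by
  induction k with
  | zero => rw [pow_zero, mv_one]
  | succ k ih =>
    rw [pow_succ]
    exact mv_mul_fix ih ha

theorem not_conj' {k k' : ℕ} (hkk : k < k')
    (φ : Fin k → ((Fin m ⊕ Fin m → F) →ₗ[F] F))
    (φ' : Fin k' → ((Fin m ⊕ Fin m → F) →ₗ[F] F)) (dv : Fin k' → (Fin m ⊕ Fin m → F))
    (hdv : ∀ l j, φ' l (dv j) = if l = j then 1 else 0) (t t' x : GL (Fin m ⊕ Fin m) F)
    (ht : ∀ v, (∀ l, φ l v = 0) → mv t v = v)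
    (ht' : ∀ v, mv t' v = v → ∀ l, φ' l v = 0)
    (hx : t * x = x * t') : False := by
  obtain ⟨Ψ, hΨ⟩ : ∃ Ψ : (Fin m ⊕ Fin m → F) →ₗ[F] (Fin k → F),
      Ψ = (LinearMap.pi φ) ∘ₗ Matrix.toLin' (x : Matrix (Fin m ⊕ Fin m) (Fin m ⊕ Fin m) F) :=
    ⟨_, rfl⟩
  obtain ⟨Φ', hΦ'⟩ : ∃ Φ' : (Fin m ⊕ Fin m → F) →ₗ[F] (Fin k' → F), Φ' = LinearMap.pi φ' :=
    ⟨_, rfl⟩
  have hle : LinearMap.ker Ψ ≤ LinearMap.ker Φ' := by
    intro v hv
    rw [LinearMap.mem_ker] at hv ⊢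
    have h1 : ∀ l, φ l (mv x v) = 0 := by
      intro l
      have := congrFun hv l
      rw [hΨ, LinearMap.comp_apply, LinearMap.pi_apply, Matrix.toLin'_apply] at this
      exact this
    have h2 := ht _ h1
    have h3 : mv t' v = v := by
      apply mulVec_inj x
      change mv x (mv t' v) = mv x v
      rw [← mv_mul, ← hx, mv_mul, h2]
    funext l
    rw [hΦ', LinearMap.pi_apply]
    exact ht' v h3 l
  have hsurj : LinearMap.range Φ' = ⊤ := by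
    rw [LinearMap.range_eq_top]
    intro w
    refine ⟨∑ j, w j • dv j, ?_⟩
    funext l
    rw [hΦ', LinearMap.pi_apply, map_sum, Finset.sum_eq_single l]
    · rw [map_smul, hdv, if_pos rfl, smul_eq_mul, mul_one]
    · intro j _ hj
      rw [map_smul, hdv, if_neg (Ne.symm hj), smul_zero]
    · intro hni
      exact absurd (Finset.mem_univ _) hni
  have r1 := LinearMap.finrank_range_add_finrank_ker Ψ
  have r2 := LinearMap.finrank_range_add_finrank_ker Φ'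
  rw [hsurj, finrank_top, Module.finrank_fin_fun] at r2
  have r3 : Module.finrank F (LinearMap.range Ψ) ≤ k := by
    have := Submodule.finrank_le (LinearMap.range Ψ)
    rwa [Module.finrank_fin_fun] at this
  have r4 := Submodule.finrank_mono hle
  omega

theorem exists_common_fixed' {k k' : ℕ} (hkn : k + k' < 2 * m)
    (φ : Fin k → ((Fin m ⊕ Fin m → F) →ₗ[F] F))
    (φ' : Fin k' → ((Fin m ⊕ Fin m → F) →ₗ[F] F)) (g : GL (Fin m ⊕ Fin m) F) :
    ∃ v : Fin m ⊕ Fin m → F, v ≠ 0 ∧ (∀ l, φ l (mv g v) = 0) ∧ (∀ l, φ' l v = 0) := by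
  obtain ⟨Ξ, hΞ⟩ : ∃ Ξ : (Fin m ⊕ Fin m → F) →ₗ[F] ((Fin k → F) × (Fin k' → F)),
      Ξ = ((LinearMap.pi φ) ∘ₗ
        Matrix.toLin' (g : Matrix (Fin m ⊕ Fin m) (Fin m ⊕ Fin m) F)).prod
        (LinearMap.pi φ') := ⟨_, rfl⟩
  have hker : LinearMap.ker Ξ ≠ ⊥ := LinearMap.ker_ne_bot_of_finrank_lt (by
    rw [Module.finrank_prod, Module.finrank_fin_fun, Module.finrank_fin_fun,
      Module.finrank_fintype_fun_eq_card, Fintype.card_sum, Fintype.card_fin]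
    omega)
  obtain ⟨v, hv, hv0⟩ := Submodule.exists_mem_ne_zero_of_ne_bot hker
  rw [LinearMap.mem_ker, hΞ, LinearMap.prod_apply] at hv
  refine ⟨v, hv0, fun l => ?_, fun l => ?_⟩
  · have := congrFun (congrArg Prod.fst hv) l
    simpa [LinearMap.comp_apply, LinearMap.pi_apply, Matrix.toLin'_apply] using this
  · have := congrFun (congrArg Prod.snd hv) l
    simpa [LinearMap.pi_apply] using this

/-! ### rational involutions -/

section Ratl
variable [Fintype F] {F₀ : Subfield F}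

theorem ratact (hm : 1 ≤ m) (hp : (Module.finrank F₀ F).Prime) (h3 : 3 ≤ Module.finrank F₀ F)
    {z : GL (Fin m ⊕ Fin m) F}
    (hz : z ∈ Cfsg.Geo.subfieldSubgroup F₀ (1 : GL (Fin m ⊕ Fin m) F)) (hzz : z * z = 1) :
    ∀ x, RatV F₀ x → RatV F₀ (mv z x) := by
  obtain ⟨μ, hμ0, hmap⟩ := rat_of_mem_sub1 F₀ z hz
  have hzzv : ∀ v, mv z (mv z v) = v := by
    intro v
    rw [← mv_mul, hzz, mv_one]
  obtain ⟨i₀, hi₀⟩ : ∃ i₀ : Fin m, i₀ = ⟨0, by omega⟩ := ⟨_, rfl⟩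
  obtain ⟨r, hr, e⟩ := hmap (ee i₀) (ratV_ee i₀)
  obtain ⟨r', hr', e'⟩ := hmap r hr
  have h1 : (ee i₀ : Fin m ⊕ Fin m → F) = (μ * μ) • r' := by
    have := hzzv (ee i₀)
    rw [e, mv_smul, e', smul_smul] at this
    exact this.symm
  have h2 := congrFun h1 (Sum.inl i₀)
  simp only [ee, Pi.single_eq_same, Pi.smul_apply, smul_eq_mul] at h2
  have hμμ : μ * μ ∈ F₀ := by
    have e2 : μ * μ = (r' (Sum.inl i₀))⁻¹ := eq_inv_of_mul_eq_one_left h2.symm
    rw [e2]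
    exact F₀.inv_mem (hr' _)
  have hμ : μ ∈ F₀ := Cfsg.Agent.Lib.Helper5.LSub.sq_mem_imp_mem hp h3 hμμ
  intro x hx
  obtain ⟨rx, hrx, ex⟩ := hmap x hx
  rw [ex]
  exact ratV_smul hμ hrx

theorem exists_rat_fixed {z : GL (Fin m ⊕ Fin m) F}
    (hzr : ∀ x, RatV F₀ x → RatV F₀ (mv z x))
    {v₀ : Fin m ⊕ Fin m → F} (hv₀ : v₀ ≠ 0) (hfix : mv z v₀ = v₀) :
    ∃ a : Fin m ⊕ Fin m → F, RatV F₀ a ∧ a ≠ 0 ∧ mv z a = a := by
  classical
  have hent : ∀ l j, ((z : Matrix (Fin m ⊕ Fin m) (Fin m ⊕ Fin m) F) - 1) l j ∈ F₀ := by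
    intro l j
    have h1 : ((z : Matrix (Fin m ⊕ Fin m) (Fin m ⊕ Fin m) F) - 1) l j =
        (mv z (Pi.single j (1 : F)) - (Pi.single j (1 : F) : Fin m ⊕ Fin m → F)) l := by
      unfold mv
      simp [Matrix.mulVec, dotProduct, Pi.single_apply, Matrix.one_apply, eq_comm]
    rw [h1]
    exact ratV_sub (hzr _ (ratV_single j)) (ratV_single j) l
  obtain ⟨D₀, hD₀⟩ : ∃ D₀ : Matrix (Fin m ⊕ Fin m) (Fin m ⊕ Fin m) F₀,
      D₀ = Matrix.of (fun l j =>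
        (⟨((z : Matrix (Fin m ⊕ Fin m) (Fin m ⊕ Fin m) F) - 1) l j, hent l j⟩ : F₀)) := ⟨_, rfl⟩
  have hD : D₀.map (F₀.subtype) = (z : Matrix (Fin m ⊕ Fin m) (Fin m ⊕ Fin m) F) - 1 := by
    ext l j
    rw [Matrix.map_apply, hD₀, Matrix.of_apply]
    rfl
  have hdet : ((z : Matrix (Fin m ⊕ Fin m) (Fin m ⊕ Fin m) F) - 1).det = 0 := by
    apply Matrix.exists_mulVec_eq_zero_iff.mp
    refine ⟨v₀, hv₀, ?_⟩
    rw [Matrix.sub_mulVec, Matrix.one_mulVec]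
    exact sub_eq_zero.mpr hfix
  have hdet0 : D₀.det = 0 := by
    have h1 : (D₀.map (F₀.subtype)).det = F₀.subtype D₀.det :=
      (RingHom.map_det F₀.subtype D₀).symm
    rw [hD, hdet] at h1
    apply Subtype.ext
    exact h1.symm
  obtain ⟨w₀, hw₀, hDw⟩ := Matrix.exists_mulVec_eq_zero_iff.mpr hdet0
  obtain ⟨w, hw⟩ : ∃ w : Fin m ⊕ Fin m → F, w = fun j => (w₀ j : F) := ⟨_, rfl⟩
  have hDw' : ((z : Matrix (Fin m ⊕ Fin m) (Fin m ⊕ Fin m) F) - 1) *ᵥ w = 0 := by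
    funext l
    have h3 : F₀.subtype ((D₀ *ᵥ w₀) l) =
        ∑ j, ((z : Matrix (Fin m ⊕ Fin m) (Fin m ⊕ Fin m) F) - 1) l j * w j := by
      change F₀.subtype (∑ j, D₀ l j * w₀ j) = _
      rw [map_sum]
      apply Finset.sum_congr rfl
      intro j _
      rw [map_mul, ← hD, Matrix.map_apply, hw]
      rfl
    change ∑ j, ((z : Matrix (Fin m ⊕ Fin m) (Fin m ⊕ Fin m) F) - 1) l j * w j = 0
    rw [← h3, hDw]
    rfl
  refine ⟨w, fun i => by rw [hw]; exact (w₀ i).2, ?_, ?_⟩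
  · intro h0
    apply hw₀
    funext j
    apply Subtype.ext
    have h5 := congrFun h0 j
    rw [hw] at h5
    exact h5
  · rw [Matrix.sub_mulVec, Matrix.one_mulVec] at hDw'
    exact sub_eq_zero.mp hDw'

end Ratl

/-! ### the main argument -/

/-- coordinate functional -/
def pr (u : Fin m ⊕ Fin m) : (Fin m ⊕ Fin m → F) →ₗ[F] F := LinearMap.proj u

theorem pr_apply (u : Fin m ⊕ Fin m) (v : Fin m ⊕ Fin m → F) : pr u v = v u := rfl

section Main
variable [Fintype F] {F₀ : Subfield F} {M : Subgroup (GL (Fin m ⊕ Fin m) F)}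

/-- an element of `M` commuting with a symplectic involution `t` that moves the rational vector `c₀`
to a rational vector and fixes the rational vector `b` lies in the subfield group -/
theorem stab_mem (hm : 3 ≤ m) (h : Ctx F₀ M)
    (hC : ∀ {y : Fin m ⊕ Fin m → F} {c : F}, c ≠ 0 → tvc y c ∈ M →
      ∀ {a : Fin m ⊕ Fin m → F}, RatV F₀ a → a ≠ 0 → sympForm m F y a = 0 →
      ∃ (μ : F) (r : Fin m ⊕ Fin m → F), RatV F₀ r ∧ y = μ • r)
    (hL : ∀ {g : GL (Fin m ⊕ Fin m) F}, g ∈ M → ∀ {a a' : Fin m ⊕ Fin m → F}, RatV F₀ a → a ≠ 0 →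
      RatV F₀ a' → ∀ {μ : F}, mv g a = μ • a' →
      g ∈ Cfsg.Geo.subfieldSubgroup F₀ (1 : GL (Fin m ⊕ Fin m) F))
    {t z : GL (Fin m ⊕ Fin m) F} (ht : t ∈ spGL m F)
    (hz : z ∈ M) (hcomm : z * t = t * z) {c₀ b : Fin m ⊕ Fin m → F} (hc₀ : RatV F₀ c₀)
    (htc₀ : RatV F₀ (mv t c₀)) (hne : mv t c₀ - c₀ ≠ 0) (hb : RatV F₀ b) (hb0 : b ≠ 0)
    (htb : mv t b = b) : z ∈ Cfsg.Geo.subfieldSubgroup F₀ (1 : GL (Fin m ⊕ Fin m) F) := by
  have ha : RatV F₀ (mv t c₀ - c₀) := ratV_sub htc₀ hc₀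
  have hza : mv z (mv t c₀ - c₀) = mv t (mv z c₀) - mv z c₀ := by
    rw [mv_sub, ← mv_mul, hcomm, mv_mul]
  have hperp : sympForm m F (mv z (mv t c₀ - c₀)) b = 0 := by
    rw [hza, sympForm_sub_left]
    have : sympForm m F (mv t (mv z c₀)) b = sympForm m F (mv z c₀) b := by
      conv_lhs => rw [← htb]
      exact sp_form ht _ _
    rw [this, sub_self]
  have hT : tvc (mv z (mv t c₀ - c₀)) (1 : F) ∈ M := by
    have e := conj_tvc (h.le_sp hz) (mv t c₀ - c₀) (1 : F)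
    change _ = tvc (mv z (mv t c₀ - c₀)) (1 : F) at e
    rw [← e]
    exact M.mul_mem (M.mul_mem hz (h.le (tvc_mem_H0 ha F₀.one_mem))) (M.inv_mem hz)
  obtain ⟨μ, r, hr, hyr⟩ := hC one_ne_zero hT hb hb0 hperp
  exact hL hz ha hne hr hyr

/-- (G2) the case `[F : F₀] ≥ 3`: the dihedral trick, with (C) = `ratC` and (L5) = `mem_of_rat_point`
as hypotheses -/
theorem hard_case_of (hm : 5 ≤ m) (h : Ctx F₀ M) (hr3 : 3 ≤ Module.finrank F₀ F)
    (hC : ∀ {y : Fin m ⊕ Fin m → F} {c : F}, c ≠ 0 → tvc y c ∈ M →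
      ∀ {a : Fin m ⊕ Fin m → F}, RatV F₀ a → a ≠ 0 → sympForm m F y a = 0 →
      ∃ (μ : F) (r : Fin m ⊕ Fin m → F), RatV F₀ r ∧ y = μ • r)
    (hL : ∀ {g : GL (Fin m ⊕ Fin m) F}, g ∈ M → ∀ {a a' : Fin m ⊕ Fin m → F}, RatV F₀ a → a ≠ 0 →
      RatV F₀ a' → ∀ {μ : F}, mv g a = μ • a' →
      g ∈ Cfsg.Geo.subfieldSubgroup F₀ (1 : GL (Fin m ⊕ Fin m) F))
    {g : GL (Fin m ⊕ Fin m) F} (hg : g ∈ M) :
    g ∈ Cfsg.Geo.subfieldSubgroup F₀ (1 : GL (Fin m ⊕ Fin m) F) := by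
  classical
  obtain ⟨i0, hi0⟩ : ∃ i : Fin m, i = ⟨0, by omega⟩ := ⟨_, rfl⟩
  obtain ⟨i1, hi1⟩ : ∃ i : Fin m, i = ⟨1, by omega⟩ := ⟨_, rfl⟩
  obtain ⟨i2, hi2⟩ : ∃ i : Fin m, i = ⟨2, by omega⟩ := ⟨_, rfl⟩
  obtain ⟨i3, hi3⟩ : ∃ i : Fin m, i = ⟨3, by omega⟩ := ⟨_, rfl⟩
  obtain ⟨i4, hi4⟩ : ∃ i : Fin m, i = ⟨4, by omega⟩ := ⟨_, rfl⟩
  have h01 : i0 ≠ i1 := by rw [hi0, hi1]; intro e; simpa using congrArg Fin.val e
  have h02 : i0 ≠ i2 := by rw [hi0, hi2]; intro e; simpa using congrArg Fin.val e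
  have h03 : i0 ≠ i3 := by rw [hi0, hi3]; intro e; simpa using congrArg Fin.val e
  have h04 : i0 ≠ i4 := by rw [hi0, hi4]; intro e; simpa using congrArg Fin.val e
  have h12 : i1 ≠ i2 := by rw [hi1, hi2]; intro e; simpa using congrArg Fin.val e
  have h13 : i1 ≠ i3 := by rw [hi1, hi3]; intro e; simpa using congrArg Fin.val e
  have h14 : i1 ≠ i4 := by rw [hi1, hi4]; intro e; simpa using congrArg Fin.val e
  have h23 : i2 ≠ i3 := by rw [hi2, hi3]; intro e; simpa using congrArg Fin.val e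
  have h24 : i2 ≠ i4 := by rw [hi2, hi4]; intro e; simpa using congrArg Fin.val e
  have h34 : i3 ≠ i4 := by rw [hi3, hi4]; intro e; simpa using congrArg Fin.val e
  -- the two permutations
  obtain ⟨τ1, hτ1d⟩ : ∃ τ : Equiv.Perm (Fin m), τ = Equiv.swap i0 i1 := ⟨_, rfl⟩
  obtain ⟨τ2, hτ2d⟩ : ∃ τ : Equiv.Perm (Fin m), τ = Equiv.swap i0 i1 * Equiv.swap i2 i3 := ⟨_, rfl⟩
  have τ1_0 : τ1 i0 = i1 := by rw [hτ1d, Equiv.swap_apply_left]
  have τ1_1 : τ1 i1 = i0 := by rw [hτ1d, Equiv.swap_apply_right]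
  have τ1_o : ∀ i, i ≠ i0 → i ≠ i1 → τ1 i = i := fun i ha hb => by
    rw [hτ1d, Equiv.swap_apply_of_ne_of_ne ha hb]
  have τ2_0 : τ2 i0 = i1 := by
    rw [hτ2d, Equiv.Perm.mul_apply, Equiv.swap_apply_of_ne_of_ne h02 h03, Equiv.swap_apply_left]
  have τ2_1 : τ2 i1 = i0 := by
    rw [hτ2d, Equiv.Perm.mul_apply, Equiv.swap_apply_of_ne_of_ne h12 h13, Equiv.swap_apply_right]
  have τ2_2 : τ2 i2 = i3 := by
    rw [hτ2d, Equiv.Perm.mul_apply, Equiv.swap_apply_left,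
      Equiv.swap_apply_of_ne_of_ne h03.symm h13.symm]
  have τ2_3 : τ2 i3 = i2 := by
    rw [hτ2d, Equiv.Perm.mul_apply, Equiv.swap_apply_right,
      Equiv.swap_apply_of_ne_of_ne h02.symm h12.symm]
  have τ2_o : ∀ i, i ≠ i0 → i ≠ i1 → i ≠ i2 → i ≠ i3 → τ2 i = i := fun i ha hb hc hd => by
    rw [hτ2d, Equiv.Perm.mul_apply, Equiv.swap_apply_of_ne_of_ne hc hd,
      Equiv.swap_apply_of_ne_of_ne ha hb]
  have hτ1 : τ1 * τ1 = 1 := by rw [hτ1d, Equiv.swap_mul_self]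
  have hτ2 : τ2 * τ2 = 1 := by
    ext i
    rw [Equiv.Perm.mul_apply, Equiv.Perm.one_apply]
    by_cases e0 : i = i0
    · rw [e0, τ2_0, τ2_1]
    by_cases e1 : i = i1
    · rw [e1, τ2_1, τ2_0]
    by_cases e2 : i = i2
    · rw [e2, τ2_2, τ2_3]
    by_cases e3 : i = i3
    · rw [e3, τ2_3, τ2_2]
    rw [τ2_o i e0 e1 e2 e3, τ2_o i e0 e1 e2 e3]
  obtain ⟨t, htd⟩ : ∃ t : GL (Fin m ⊕ Fin m) F, t = lperm τ1 hτ1 := ⟨_, rfl⟩
  obtain ⟨t', ht'd⟩ : ∃ t' : GL (Fin m ⊕ Fin m) F, t' = lperm τ2 hτ2 := ⟨_, rfl⟩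
  have htH : t ∈ H0 m F₀ := by rw [htd]; exact lperm_mem_H0 F₀ τ1 hτ1
  have ht'H : t' ∈ H0 m F₀ := by rw [ht'd]; exact lperm_mem_H0 F₀ τ2 hτ2
  have htS : t ∈ spGL m F := (Subgroup.mem_inf.mp htH).2
  have ht'S : t' ∈ spGL m F := (Subgroup.mem_inf.mp ht'H).2
  have htM : t ∈ M := h.le htH
  have ht'M : t' ∈ M := h.le ht'H
  have htt : t * t = 1 := by rw [htd]; exact lperm_sq τ1 hτ1
  have ht't' : t' * t' = 1 := by rw [ht'd]; exact lperm_sq τ2 hτ2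
  -- the functionals
  obtain ⟨φ, hφd⟩ : ∃ φ : Fin 2 → ((Fin m ⊕ Fin m → F) →ₗ[F] F),
      φ = ![(pr (Sum.inl i0) - pr (Sum.inl i1) : (Fin m ⊕ Fin m → F) →ₗ[F] F),
        pr (Sum.inr i0) - pr (Sum.inr i1)] := ⟨_, rfl⟩
  obtain ⟨φ', hφ'd⟩ : ∃ φ' : Fin 4 → ((Fin m ⊕ Fin m → F) →ₗ[F] F),
      φ' = ![(pr (Sum.inl i0) - pr (Sum.inl i1) : (Fin m ⊕ Fin m → F) →ₗ[F] F),
        pr (Sum.inr i0) - pr (Sum.inr i1),
        pr (Sum.inl i2) - pr (Sum.inl i3),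
        pr (Sum.inr i2) - pr (Sum.inr i3)] := ⟨_, rfl⟩
  have hφ0 : ∀ v, φ 0 v = v (Sum.inl i0) - v (Sum.inl i1) := fun v => by rw [hφd]; rfl
  have hφ1 : ∀ v, φ 1 v = v (Sum.inr i0) - v (Sum.inr i1) := fun v => by rw [hφd]; rfl
  have hφ'0 : ∀ v, φ' 0 v = v (Sum.inl i0) - v (Sum.inl i1) := fun v => by rw [hφ'd]; rfl
  have hφ'1 : ∀ v, φ' 1 v = v (Sum.inr i0) - v (Sum.inr i1) := fun v => by rw [hφ'd]; rfl
  have hφ'2 : ∀ v, φ' 2 v = v (Sum.inl i2) - v (Sum.inl i3) := fun v => by rw [hφ'd]; rfl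
  have hφ'3 : ∀ v, φ' 3 v = v (Sum.inr i2) - v (Sum.inr i3) := fun v => by rw [hφ'd]; rfl
  have ht_fix : ∀ v, (∀ l, φ l v = 0) → mv t v = v := by
    intro v hv
    have e0 := hv 0
    have e1 := hv 1
    rw [hφ0] at e0
    rw [hφ1] at e1
    rw [htd]
    apply lperm_fix_of
    intro i
    by_cases c0 : i = i0
    · rw [c0, τ1_0]
      exact ⟨(sub_eq_zero.mp e0).symm, (sub_eq_zero.mp e1).symm⟩
    by_cases c1 : i = i1
    · rw [c1, τ1_1]
      exact ⟨sub_eq_zero.mp e0, sub_eq_zero.mp e1⟩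
    rw [τ1_o i c0 c1]
    exact ⟨rfl, rfl⟩
  have ht'_fix : ∀ v, (∀ l, φ' l v = 0) → mv t' v = v := by
    intro v hv
    have e0 := hv 0
    have e1 := hv 1
    have e2 := hv 2
    have e3 := hv 3
    rw [hφ'0] at e0
    rw [hφ'1] at e1
    rw [hφ'2] at e2
    rw [hφ'3] at e3
    rw [ht'd]
    apply lperm_fix_of
    intro i
    by_cases c0 : i = i0
    · rw [c0, τ2_0]
      exact ⟨(sub_eq_zero.mp e0).symm, (sub_eq_zero.mp e1).symm⟩
    by_cases c1 : i = i1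
    · rw [c1, τ2_1]
      exact ⟨sub_eq_zero.mp e0, sub_eq_zero.mp e1⟩
    by_cases c2 : i = i2
    · rw [c2, τ2_2]
      exact ⟨(sub_eq_zero.mp e2).symm, (sub_eq_zero.mp e3).symm⟩
    by_cases c3 : i = i3
    · rw [c3, τ2_3]
      exact ⟨sub_eq_zero.mp e2, sub_eq_zero.mp e3⟩
    rw [τ2_o i c0 c1 c2 c3]
    exact ⟨rfl, rfl⟩
  have ht'_imp : ∀ v, mv t' v = v → ∀ l, φ' l v = 0 := by
    intro v hv l
    rw [ht'd] at hv
    have a0 := lperm_fix_imp τ2 hτ2 hv i0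
    have a2 := lperm_fix_imp τ2 hτ2 hv i2
    rw [τ2_0] at a0
    rw [τ2_2] at a2
    fin_cases l
    · change φ' 0 v = 0
      rw [hφ'0, a0.1, sub_self]
    · change φ' 1 v = 0
      rw [hφ'1, a0.2, sub_self]
    · change φ' 2 v = 0
      rw [hφ'2, a2.1, sub_self]
    · change φ' 3 v = 0
      rw [hφ'3, a2.2, sub_self]
  obtain ⟨dv, hdvd⟩ : ∃ dv : Fin 4 → (Fin m ⊕ Fin m → F),
      dv = ![ee i0, ff i0, ee i2, ff i2] := ⟨_, rfl⟩
  have hdv : ∀ l j, φ' l (dv j) = if l = j then 1 else 0 := by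
    have n01 : (Sum.inl i0 : Fin m ⊕ Fin m) ≠ Sum.inl i1 := fun e => h01 (Sum.inl.inj e)
    have n02 : (Sum.inl i0 : Fin m ⊕ Fin m) ≠ Sum.inl i2 := fun e => h02 (Sum.inl.inj e)
    have n03 : (Sum.inl i0 : Fin m ⊕ Fin m) ≠ Sum.inl i3 := fun e => h03 (Sum.inl.inj e)
    have n12 : (Sum.inl i1 : Fin m ⊕ Fin m) ≠ Sum.inl i2 := fun e => h12 (Sum.inl.inj e)
    have n23 : (Sum.inl i2 : Fin m ⊕ Fin m) ≠ Sum.inl i3 := fun e => h23 (Sum.inl.inj e)
    have r01 : (Sum.inr i0 : Fin m ⊕ Fin m) ≠ Sum.inr i1 := fun e => h01 (Sum.inr.inj e)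
    have r02 : (Sum.inr i0 : Fin m ⊕ Fin m) ≠ Sum.inr i2 := fun e => h02 (Sum.inr.inj e)
    have r03 : (Sum.inr i0 : Fin m ⊕ Fin m) ≠ Sum.inr i3 := fun e => h03 (Sum.inr.inj e)
    have r12 : (Sum.inr i1 : Fin m ⊕ Fin m) ≠ Sum.inr i2 := fun e => h12 (Sum.inr.inj e)
    have r23 : (Sum.inr i2 : Fin m ⊕ Fin m) ≠ Sum.inr i3 := fun e => h23 (Sum.inr.inj e)
    intro l j
    fin_cases l <;> fin_cases j <;>
      simp [hφ'd, hdvd, pr_apply, LinearMap.sub_apply, ee, ff, Pi.single_apply, n01, n02, n03, n12, n23, r01, r02, r03, r12, r23,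
        n01.symm, n02.symm, n03.symm, n12.symm, n23.symm, r01.symm, r02.symm, r03.symm, r12.symm,
        r23.symm, h01, h02, h03, h12, h13, h23, h01.symm, h02.symm, h03.symm, h12.symm, h13.symm,
        h23.symm]
  -- the dihedral group
  obtain ⟨j, hj⟩ : ∃ j : GL (Fin m ⊕ Fin m) F, j = g * t' * g⁻¹ := ⟨_, rfl⟩
  have hjM : j ∈ M := by
    rw [hj]
    exact M.mul_mem (M.mul_mem hg ht'M) (M.inv_mem hg)
  have hjj : j * j = 1 := by
    rw [hj]
    calc g * t' * g⁻¹ * (g * t' * g⁻¹) = g * (t' * t') * g⁻¹ := by group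
      _ = 1 := by rw [ht't', mul_one, mul_inv_cancel]
  rcases Cfsg.Agent.Lib.Helper5.LSub.dihedral t j htt hjj with ⟨w, hw⟩ | ⟨k, hz1, hzz, hzt, hzj⟩
  · exfalso
    have hx : t * (w⁻¹ * g) = (w⁻¹ * g) * t' := by
      rw [hj] at hw
      have e : t = w⁻¹ * (g * t' * g⁻¹) * w := by
        rw [← hw]
        group
      calc t * (w⁻¹ * g) = w⁻¹ * (g * t' * g⁻¹) * w * (w⁻¹ * g) := by rw [← e]
        _ = (w⁻¹ * g) * t' := by group
    exact not_conj' (k := 2) (k' := 4) (by norm_num) φ φ' dv hdv t t' (w⁻¹ * g) ht_fix ht'_imp hx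
  · obtain ⟨z, hz⟩ : ∃ z : GL (Fin m ⊕ Fin m) F, z = (t * j) ^ k := ⟨_, rfl⟩
    rw [← hz] at hz1 hzz hzt hzj
    have hzM : z ∈ M := by
      rw [hz]
      exact M.pow_mem (M.mul_mem htM hjM) k
    obtain ⟨v₀, hv₀, hφv, hφ'v⟩ := exists_common_fixed' (k := 2) (k' := 4) (by omega) φ φ' g
    have htg : mv t (mv g v₀) = mv g v₀ := ht_fix _ hφv
    have ht'v₀ : mv t' v₀ = v₀ := ht'_fix _ hφ'v
    have hjg : mv j (mv g v₀) = mv g v₀ := by
      rw [hj, mv_mul, mv_mul, mv_inv_mv, ht'v₀]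
    have hzg : mv z (mv g v₀) = mv g v₀ := by
      rw [hz]
      exact mv_pow_fix (mv_mul_fix htg hjg) k
    -- z lies in the subfield group
    have hte0 : mv t (ee i0) = ee i1 := by
      rw [htd, lperm_mv]
      funext u
      rcases u with i | i
      · change (ee i0 : Fin m ⊕ Fin m → F) (Sum.inl (τ1 i)) = ee i1 (Sum.inl i)
        by_cases c1 : i = i1
        · rw [c1, τ1_1]; simp [ee]
        · by_cases c0 : i = i0
          · rw [c0, τ1_0]; simp [ee, h01, h01.symm]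
          · rw [τ1_o i c0 c1]; simp [ee, c0, c1]
      · change (ee i0 : Fin m ⊕ Fin m → F) (Sum.inr (τ1 i)) = ee i1 (Sum.inr i)
        simp [ee]
    have hte4 : mv t (ee i4) = ee i4 := by
      apply ht_fix
      intro l
      fin_cases l
      · change φ 0 (ee i4) = 0
        rw [hφ0]; simp [ee, h04, h14]
      · change φ 1 (ee i4) = 0
        rw [hφ1]; simp [ee]
    have ht'e0 : mv t' (ee i0) = ee i1 := by
      rw [ht'd, lperm_mv]
      funext u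
      rcases u with i | i
      · change (ee i0 : Fin m ⊕ Fin m → F) (Sum.inl (τ2 i)) = ee i1 (Sum.inl i)
        by_cases c1 : i = i1
        · rw [c1, τ2_1]; simp [ee]
        by_cases c0 : i = i0
        · rw [c0, τ2_0]; simp [ee, h01, h01.symm]
        by_cases c2 : i = i2
        · rw [c2, τ2_2]; simp [ee, h03.symm, h12.symm]
        by_cases c3 : i = i3
        · rw [c3, τ2_3]; simp [ee, h02.symm, h13.symm]
        rw [τ2_o i c0 c1 c2 c3]; simp [ee, c0, c1]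
      · change (ee i0 : Fin m ⊕ Fin m → F) (Sum.inr (τ2 i)) = ee i1 (Sum.inr i)
        simp [ee]
    have ht'e4 : mv t' (ee i4) = ee i4 := by
      apply ht'_fix
      intro l
      fin_cases l
      · change φ' 0 (ee i4) = 0
        rw [hφ'0]; simp [ee, h04, h14]
      · change φ' 1 (ee i4) = 0
        rw [hφ'1]; simp [ee]
      · change φ' 2 (ee i4) = 0
        rw [hφ'2]; simp [ee, h24, h34]
      · change φ' 3 (ee i4) = 0
        rw [hφ'3]; simp [ee]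
    have hne01 : (ee i1 : Fin m ⊕ Fin m → F) - ee i0 ≠ 0 := by
      intro e
      have := congrFun e (Sum.inl i1)
      simp [ee, h01] at this
    have he4 : (ee i4 : Fin m ⊕ Fin m → F) ≠ 0 := by
      intro e
      have := congrFun e (Sum.inl i4)
      simp [ee] at this
    have hzS : z ∈ Cfsg.Geo.subfieldSubgroup F₀ (1 : GL (Fin m ⊕ Fin m) F) :=
      stab_mem (by omega) h hC hL htS hzM hzt (ratV_ee i0) (by rw [hte0]; exact ratV_ee i1)
        (by rw [hte0]; exact hne01) (ratV_ee i4) he4 hte4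
    obtain ⟨z', hz'⟩ : ∃ z' : GL (Fin m ⊕ Fin m) F, z' = g⁻¹ * z * g := ⟨_, rfl⟩
    have hz'M : z' ∈ M := by
      rw [hz']
      exact M.mul_mem (M.mul_mem (M.inv_mem hg) hzM) hg
    have hz'z' : z' * z' = 1 := by
      rw [hz']
      calc g⁻¹ * z * g * (g⁻¹ * z * g) = g⁻¹ * (z * z) * g := by group
        _ = 1 := by rw [hzz, mul_one, inv_mul_cancel]
    have hz't' : z' * t' = t' * z' := by
      rw [hj] at hzj
      rw [hz']
      calc g⁻¹ * z * g * t' = g⁻¹ * (z * (g * t' * g⁻¹)) * g := by group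
        _ = g⁻¹ * ((g * t' * g⁻¹) * z) * g := by rw [hzj]
        _ = t' * (g⁻¹ * z * g) := by group
    have hz'S : z' ∈ Cfsg.Geo.subfieldSubgroup F₀ (1 : GL (Fin m ⊕ Fin m) F) :=
      stab_mem (by omega) h hC hL ht'S hz'M hz't' (ratV_ee i0) (by rw [ht'e0]; exact ratV_ee i1)
        (by rw [ht'e0]; exact hne01) (ratV_ee i4) he4 ht'e4
    have hzr := ratact (by omega) h.prime hr3 hzS hzz
    have hz'r := ratact (by omega) h.prime hr3 hz'S hz'z'
    have hz'v₀ : mv z' v₀ = v₀ := by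
      rw [hz', mv_mul, mv_mul, hzg, mv_inv_mv]
    obtain ⟨a', ha'R, ha'0, ha'fix⟩ := exists_rat_fixed hz'r hv₀ hz'v₀
    have hzy : mv z (mv g a') = mv g a' := by
      have e : z * g = g * z' := by
        rw [hz']
        group
      rw [← mv_mul, e, mv_mul, ha'fix]
    -- a rational vector orthogonal to `g a'`
    have hzne : ∃ u : Fin m ⊕ Fin m, mv z (Pi.single u (1 : F)) ≠ Pi.single u (1 : F) := by
      by_contra hcon
      push Not at hcon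
      apply hz1
      apply Units.ext
      ext i u
      have h1 : (z : Matrix (Fin m ⊕ Fin m) (Fin m ⊕ Fin m) F) i u =
          (mv z (Pi.single u (1 : F))) i := by
        unfold mv
        simp [Matrix.mulVec, dotProduct, Pi.single_apply]
      rw [h1, hcon u, Units.val_one, Matrix.one_apply, Pi.single_apply]
    obtain ⟨u, hu⟩ := hzne
    have hzS' : z ∈ spGL m F := h.le_sp hzM
    have hb : RatV F₀ (mv z (Pi.single u (1 : F)) - Pi.single u (1 : F)) :=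
      ratV_sub (hzr _ (ratV_single u)) (ratV_single u)
    have hb0 : mv z (Pi.single u (1 : F)) - (Pi.single u (1 : F) : Fin m ⊕ Fin m → F) ≠ 0 :=
      sub_ne_zero.mpr hu
    have hperp : sympForm m F (mv g a')
        (mv z (Pi.single u (1 : F)) - (Pi.single u (1 : F) : Fin m ⊕ Fin m → F)) = 0 := by
      rw [sympForm_sub_right]
      have : sympForm m F (mv g a') (mv z (Pi.single u (1 : F))) =
          sympForm m F (mv g a') (Pi.single u (1 : F)) := by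
        conv_lhs => rw [← hzy]
        exact sp_form hzS' _ _
      rw [this, sub_self]
    have hT : tvc (mv g a') (1 : F) ∈ M := by
      have e := conj_tvc (h.le_sp hg) a' (1 : F)
      change _ = tvc (mv g a') (1 : F) at e
      rw [← e]
      exact M.mul_mem (M.mul_mem hg (h.le (tvc_mem_H0 ha'R F₀.one_mem))) (M.inv_mem hg)
    obtain ⟨μ, r, hr, hyr⟩ := hC one_ne_zero hT hb hb0 hperp
    exact hL hg ha'R ha'0 hr hyr

end Main

end Cfsg.Agent.Lib.Helper2.SpSubLeaf
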