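/-
helper2: class number of a Frobenius group.
-/
import Mathlib

set_option autoImplicit false

namespace Cfsg.Agent.Lib.Helper2

open Pointwise

section frob
variable {G : Type*} [Group G]

/-- number of commuting pairs as a sum of centralizer orders -/
theorem card_commPairs_eq_sum (X : Type*) [Group X] [Fintype X] :
    Nat.card {p : X × X // Commute p.1 p.2} = ∑ x : X, Nat.card {b : X // Commute x b} := by
  rw [Nat.card_congr (Equiv.subtypeProdEquivSigmaSubtype (Commute (S := X))), Nat.card_sigma]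

variable (K H : Subgroup G) [hKn : K.Normal]

include hKn in
theorem frob_decomp (hKH' : K ⊔ H = ⊤) (g : G) : ∃ k ∈ K, ∃ h ∈ H, g = k * h := by
  have hg : g ∈ ((K ⊔ H : Subgroup G) : Set G) := by rw [hKH']; trivial
  rw [Subgroup.normal_mul] at hg
  obtain ⟨k, hk, h, hh, rfl⟩ := Set.mem_mul.mp hg
  exact ⟨k, hk, h, hh, rfl⟩

include hKn in
theorem frob_conj_inj (hKH : K ⊓ H = ⊥)
    (hfpf : ∀ h ∈ H, h ≠ 1 → ∀ k ∈ K, h * k = k * h → k = 1)
    {k k' h h' : G} (hk : k ∈ K) (hk' : k' ∈ K) (hh : h ∈ H) (hh' : h' ∈ H) (h1 : h ≠ 1)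
    (e : k * h * k⁻¹ = k' * h' * k'⁻¹) : k = k' ∧ h = h' := by
  set m := k'⁻¹ * k with hm
  have hmK : m ∈ K := K.mul_mem (K.inv_mem hk') hk
  have e2 : h' = m * h * m⁻¹ := by
    have : h' = k'⁻¹ * (k' * h' * k'⁻¹) * k' := by group
    rw [this, ← e, hm]; group
  have h3 : h' * h⁻¹ ∈ K := by
    have : h' * h⁻¹ = m * (h * m⁻¹ * h⁻¹) := by rw [e2]; group
    rw [this]
    exact K.mul_mem hmK (hKn.conj_mem _ (K.inv_mem hmK) h)
  have h4 : h' * h⁻¹ ∈ H := H.mul_mem hh' (H.inv_mem hh)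
  have h5 : h' * h⁻¹ ∈ K ⊓ H := ⟨h3, h4⟩
  rw [hKH, Subgroup.mem_bot] at h5
  have h6 : h' = h := mul_inv_eq_one.mp h5
  have h7 : h * m = m * h := by
    have : m * h * m⁻¹ = h := by rw [← e2, h6]
    calc h * m = (m * h * m⁻¹) * m := by rw [this]
      _ = m * h := by group
  have h8 := hfpf h hh h1 m hmK h7
  refine ⟨?_, h6.symm⟩
  have : k = k' * m := by rw [hm]; group
  rw [this, h8, mul_one]

include hKn in
theorem frob_conj_not_mem (hKH : K ⊓ H = ⊥) {k h : G} (hk : k ∈ K) (hh : h ∈ H) (h1 : h ≠ 1) :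
    k * h * k⁻¹ ∉ K := by
  intro hmem
  have : h ∈ K := by
    have h2 := K.mul_mem (K.mul_mem (K.inv_mem hk) hmem) hk
    have : k⁻¹ * (k * h * k⁻¹) * k = h := by group
    rwa [this] at h2
  have h5 : h ∈ K ⊓ H := ⟨this, hh⟩
  rw [hKH, Subgroup.mem_bot] at h5
  exact h1 h5

variable [Finite G]

include hKn in
theorem frob_card (hKH : K ⊓ H = ⊥) (hKH' : K ⊔ H = ⊤) :
    Nat.card K * Nat.card H = Nat.card G := by
  have h1 : Disjoint K H := disjoint_iff.mpr hKH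
  have h2 : (K : Set G) * (H : Set G) = Set.univ := by
    rw [← Subgroup.normal_mul, hKH']; rfl
  exact (Subgroup.isComplement'_of_disjoint_and_mul_eq_univ h1 h2).card_mul_card

/-- the conjugation map `K × (H \ 1) → G \ K` -/
def frobMap (hKH : K ⊓ H = ⊥) :
    K × {h : H // h ≠ 1} → {x : G // x ∉ K} := fun p =>
  ⟨(p.1 : G) * (p.2.1 : G) * (p.1 : G)⁻¹,
    frob_conj_not_mem K H hKH p.1.2 p.2.1.2 (fun h => p.2.2 (Subtype.ext h))⟩

include hKn in
theorem frobMap_bijective (hKH : K ⊓ H = ⊥) (hKH' : K ⊔ H = ⊤)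
    (hfpf : ∀ h ∈ H, h ≠ 1 → ∀ k ∈ K, h * k = k * h → k = 1) :
    Function.Bijective (frobMap K H hKH) := by
  classical
  have : Fintype G := Fintype.ofFinite G
  have hinj : Function.Injective (frobMap K H hKH) := by
    rintro ⟨k, h⟩ ⟨k', h'⟩ e
    have e' : (k : G) * (h.1 : G) * (k : G)⁻¹ = (k' : G) * (h'.1 : G) * (k' : G)⁻¹ :=
      congrArg Subtype.val e
    obtain ⟨h1, h2⟩ := frob_conj_inj K H hKH hfpf k.2 k'.2 h.1.2 h'.1.2
      (fun hh => h.2 (Subtype.ext hh)) e'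
    exact Prod.ext (Subtype.ext h1) (Subtype.ext (Subtype.ext h2))
  rw [Fintype.bijective_iff_injective_and_card]
  refine ⟨hinj, ?_⟩
  have hH1 : Fintype.card {h : H // h ≠ 1} = Nat.card H - 1 := by
    rw [Fintype.card_subtype_compl, Fintype.card_subtype_eq, Nat.card_eq_fintype_card]
  have hGK : Fintype.card {x : G // x ∉ K} = Nat.card G - Nat.card K := by
    rw [Fintype.card_subtype_compl, Nat.card_eq_fintype_card, Nat.card_eq_fintype_card]
  rw [Fintype.card_prod, hH1, hGK, ← frob_card K H hKH hKH', ← Nat.card_eq_fintype_card,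
    Nat.mul_sub, mul_one]

include hKn in
theorem frob_conj_surj (hKH : K ⊓ H = ⊥) (hKH' : K ⊔ H = ⊤)
    (hfpf : ∀ h ∈ H, h ≠ 1 → ∀ k ∈ K, h * k = k * h → k = 1) (x : G) (hx : x ∉ K) :
    ∃ k ∈ K, ∃ h ∈ H, h ≠ 1 ∧ x = k * h * k⁻¹ := by
  obtain ⟨⟨k, h⟩, e⟩ := (frobMap_bijective K H hKH hKH' hfpf).2 ⟨x, hx⟩
  refine ⟨k, k.2, h.1, h.1.2, fun hh => h.2 (Subtype.ext hh), ?_⟩
  exact (congrArg Subtype.val e).symm

include hKn in
/-- centralizers of elements of conjugates of `H \ 1` -/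
theorem frob_centralizer_conj (hKH : K ⊓ H = ⊥) (hKH' : K ⊔ H = ⊤)
    (hfpf : ∀ h ∈ H, h ≠ 1 → ∀ k ∈ K, h * k = k * h → k = 1) {h : G} (hh : h ∈ H) (h1 : h ≠ 1)
    {y : G} (hy : Commute h y) : y ∈ H := by
  obtain ⟨k₁, hk₁, h₁, hh₁, rfl⟩ := frob_decomp K H hKH' y
  have hc : (k₁ * h₁) * h * (k₁ * h₁)⁻¹ = h := by
    have := hy.eq
    calc (k₁ * h₁) * h * (k₁ * h₁)⁻¹ = (h * (k₁ * h₁)) * (k₁ * h₁)⁻¹ := by rw [this]
      _ = h := by group
  have hc2 : k₁ * (h₁ * h * h₁⁻¹) * k₁⁻¹ = 1 * h * 1⁻¹ := by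
    calc k₁ * (h₁ * h * h₁⁻¹) * k₁⁻¹ = (k₁ * h₁) * h * (k₁ * h₁)⁻¹ := by group
      _ = h := hc
      _ = 1 * h * 1⁻¹ := by group
  have hne : h₁ * h * h₁⁻¹ ≠ 1 := by
    intro e
    apply h1
    have : h = h₁⁻¹ * (h₁ * h * h₁⁻¹) * h₁ := by group
    rw [this, e]; group
  obtain ⟨e1, _⟩ := frob_conj_inj K H hKH hfpf hk₁ K.one_mem
    (H.mul_mem (H.mul_mem hh₁ hh) (H.inv_mem hh₁)) hh hne hc2
  rw [e1, one_mul]
  exact hh₁

include hKn in
/-- centralizers of nontrivial elements of `K` lie in `K` -/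
theorem frob_centralizer_kernel (hKH : K ⊓ H = ⊥) (hKH' : K ⊔ H = ⊤)
    (hfpf : ∀ h ∈ H, h ≠ 1 → ∀ k ∈ K, h * k = k * h → k = 1) {x : G} (hx : x ∈ K) (x1 : x ≠ 1)
    {y : G} (hy : Commute x y) : y ∈ K := by
  by_contra hyK
  obtain ⟨k, hk, h, hh, h1, rfl⟩ := frob_conj_surj K H hKH hKH' hfpf y hyK
  -- k⁻¹ x k commutes with h
  have hc : Commute h (k⁻¹ * x * k) := by
    have := hy.eq
    show h * (k⁻¹ * x * k) = (k⁻¹ * x * k) * h
    calc h * (k⁻¹ * x * k) = k⁻¹ * ((k * h * k⁻¹) * x) * k := by group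
      _ = k⁻¹ * (x * (k * h * k⁻¹)) * k := by rw [this]
      _ = (k⁻¹ * x * k) * h := by group
  have hmem := frob_centralizer_conj K H hKH hKH' hfpf hh h1 hc
  have hmemK : k⁻¹ * x * k ∈ K := by
    have := hKn.conj_mem x hx k⁻¹
    simpa using this
  have h5 : k⁻¹ * x * k ∈ K ⊓ H := ⟨hmemK, hmem⟩
  rw [hKH, Subgroup.mem_bot] at h5
  apply x1
  have : x = k * (k⁻¹ * x * k) * k⁻¹ := by group
  rw [this, h5]; group

/-- conjugation invariance of centralizer orders -/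
theorem card_commute_conj (g x : G) :
    Nat.card {b : G // Commute (g * x * g⁻¹) b} = Nat.card {b : G // Commute x b} := by
  apply Nat.card_congr
  refine ⟨fun b => ⟨g⁻¹ * b.1 * g, ?_⟩, fun b => ⟨g * b.1 * g⁻¹, ?_⟩, ?_, ?_⟩
  · have := b.2.eq
    show x * (g⁻¹ * b.1 * g) = (g⁻¹ * b.1 * g) * x
    calc x * (g⁻¹ * b.1 * g) = g⁻¹ * ((g * x * g⁻¹) * b.1) * g := by group
      _ = g⁻¹ * (b.1 * (g * x * g⁻¹)) * g := by rw [this]
      _ = (g⁻¹ * b.1 * g) * x := by group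
  · have := b.2.eq
    show (g * x * g⁻¹) * (g * b.1 * g⁻¹) = (g * b.1 * g⁻¹) * (g * x * g⁻¹)
    calc (g * x * g⁻¹) * (g * b.1 * g⁻¹) = g * (x * b.1) * g⁻¹ := by group
      _ = g * (b.1 * x) * g⁻¹ := by rw [this]
      _ = (g * b.1 * g⁻¹) * (g * x * g⁻¹) := by group
  · intro b; apply Subtype.ext; show g * (g⁻¹ * b.1 * g) * g⁻¹ = b.1; group
  · intro b; apply Subtype.ext; show g⁻¹ * (g * b.1 * g⁻¹) * g = b.1; group

include hKn in
/-- class number of a Frobenius group -/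
theorem frob_class_number (hKH : K ⊓ H = ⊥) (hKH' : K ⊔ H = ⊤)
    (hfpf : ∀ h ∈ H, h ≠ 1 → ∀ k ∈ K, h * k = k * h → k = 1) :
    Nat.card H * Nat.card (ConjClasses G) + 1 =
      Nat.card H * Nat.card (ConjClasses H) + Nat.card (ConjClasses K) := by
  classical
  have : Fintype G := Fintype.ofFinite G
  -- centralizer counts
  have hcK : ∀ x : K, x ≠ 1 →
      Nat.card {b : G // Commute (x : G) b} = Nat.card {b : K // Commute x b} := by
    intro x hx1
    have hx1' : (x : G) ≠ 1 := fun h => hx1 (Subtype.ext h)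
    apply Nat.card_congr
    refine ⟨fun b => ⟨⟨b.1, frob_centralizer_kernel K H hKH hKH' hfpf x.2 hx1' b.2⟩, ?_⟩,
      fun b => ⟨b.1, ?_⟩, fun b => rfl, fun b => rfl⟩
    · exact Subtype.ext b.2.eq
    · exact congrArg Subtype.val b.2.eq
  have hcH : ∀ h : H, h ≠ 1 →
      Nat.card {b : G // Commute (h : G) b} = Nat.card {b : H // Commute h b} := by
    intro h hh1
    have hh1' : (h : G) ≠ 1 := fun e => hh1 (Subtype.ext e)
    apply Nat.card_congr
    refine ⟨fun b => ⟨⟨b.1, frob_centralizer_conj K H hKH hKH' hfpf h.2 hh1' b.2⟩, ?_⟩,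
      fun b => ⟨b.1, ?_⟩, fun b => rfl, fun b => rfl⟩
    · exact Subtype.ext b.2.eq
    · exact congrArg Subtype.val b.2.eq
  have hone : ∀ (X : Type _) [Group X], Nat.card {b : X // Commute (1 : X) b} = Nat.card X := by
    intro X _
    apply Nat.card_congr
    exact ⟨fun b => b.1, fun b => ⟨b, Commute.one_left b⟩, fun b => rfl, fun b => rfl⟩
  -- the three sums
  have hG := card_commPairs_eq_sum G
  rw [card_comm_eq_card_conjClasses_mul_card] at hG
  have hKs := card_commPairs_eq_sum K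
  rw [card_comm_eq_card_conjClasses_mul_card] at hKs
  have hHs := card_commPairs_eq_sum H
  rw [card_comm_eq_card_conjClasses_mul_card] at hHs
  -- split the sum over G
  rw [← Fintype.sum_subtype_add_sum_subtype (fun x : G => x ∈ K)
    (fun x => Nat.card {b : G // Commute x b})] at hG
  -- the part inside K
  have hA : ∑ x : {x : G // x ∈ K}, Nat.card {b : G // Commute (x : G) b} + Nat.card K =
      Nat.card G + ∑ x : K, Nat.card {b : K // Commute x b} := by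
    have hpt : ∀ x : K, Nat.card {b : G // Commute (x : G) b} + (if x = 1 then Nat.card K else 0) =
        (if x = 1 then Nat.card G else 0) + Nat.card {b : K // Commute x b} := by
      intro x
      by_cases hx : x = 1
      · subst hx
        rw [if_pos rfl, if_pos rfl, hone K]
        have : ((1 : K) : G) = 1 := rfl
        rw [this, hone G, add_comm]
      · rw [if_neg hx, if_neg hx, hcK x hx, add_zero, zero_add]
    have hsum := Finset.sum_congr (s₁ := (Finset.univ : Finset K)) rfl (fun x _ => hpt x)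
    rw [Finset.sum_add_distrib, Finset.sum_add_distrib, Finset.sum_ite_eq' , Finset.sum_ite_eq'] at hsum
    simpa using hsum
  -- the part outside K
  have hB : ∑ x : {x : G // x ∉ K}, Nat.card {b : G // Commute (x : G) b} =
      Nat.card K * ∑ h : {h : H // h ≠ 1}, Nat.card {b : H // Commute h.1 b} := by
    rw [← Equiv.sum_comp (Equiv.ofBijective _ (frobMap_bijective K H hKH hKH' hfpf))
      (fun x : {x : G // x ∉ K} => Nat.card {b : G // Commute (x : G) b})]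
    rw [Fintype.sum_prod_type]
    have hin : ∀ (k : K) (h : {h : H // h ≠ 1}),
        Nat.card {b : G // Commute (((Equiv.ofBijective _ (frobMap_bijective K H hKH hKH' hfpf))
          (k, h) : {x : G // x ∉ K}) : G) b} = Nat.card {b : H // Commute h.1 b} := by
      intro k h
      show Nat.card {b : G // Commute ((k : G) * (h.1 : G) * (k : G)⁻¹) b} = _
      rw [card_commute_conj, hcH h.1 h.2]
    simp_rw [hin]
    rw [Finset.sum_const, Finset.card_univ, smul_eq_mul, Nat.card_eq_fintype_card]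
  -- the sum over H
  have hHsplit : ∑ h : H, Nat.card {b : H // Commute h b} =
      Nat.card H + ∑ h : {h : H // h ≠ 1}, Nat.card {b : H // Commute h.1 b} := by
    rw [← Fintype.sum_subtype_add_sum_subtype (fun h : H => h = 1)
      (fun h => Nat.card {b : H // Commute h b})]
    congr 1
    rw [Finset.sum_eq_single (⟨1, rfl⟩ : {h : H // h = 1})]
    · exact hone H
    · intro b _ hb
      exact absurd (Subtype.ext b.2) hb
    · intro h; exact (h (@Finset.mem_univ _ (Subtype.fintype fun h : H => h = 1) _)).elim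
  have hcard := frob_card K H hKH hKH'
  rw [hB] at hG
  rw [hHsplit] at hHs
  -- arithmetic
  obtain ⟨a, ha⟩ : ∃ a, a = ∑ x : {x : G // x ∈ K}, Nat.card {b : G // Commute (x : G) b} := ⟨_, rfl⟩
  obtain ⟨b', hb'⟩ : ∃ b', b' = ∑ h : {h : H // h ≠ 1}, Nat.card {b : H // Commute h.1 b} := ⟨_, rfl⟩
  obtain ⟨sK, hsK⟩ : ∃ sK, sK = ∑ x : K, Nat.card {b : K // Commute x b} := ⟨_, rfl⟩
  rw [← ha, ← hb'] at hG
  rw [← ha, ← hsK] at hA
  rw [← hb'] at hHs
  rw [← hsK] at hKs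
  obtain ⟨nK, hnK⟩ : ∃ n, n = Nat.card K := ⟨_, rfl⟩
  obtain ⟨nH, hnH⟩ : ∃ n, n = Nat.card H := ⟨_, rfl⟩
  obtain ⟨nG, hnG⟩ : ∃ n, n = Nat.card G := ⟨_, rfl⟩
  obtain ⟨cG, hcG⟩ : ∃ n, n = Nat.card (ConjClasses G) := ⟨_, rfl⟩
  obtain ⟨cK, hcK'⟩ : ∃ n, n = Nat.card (ConjClasses K) := ⟨_, rfl⟩
  obtain ⟨cH, hcH'⟩ : ∃ n, n = Nat.card (ConjClasses H) := ⟨_, rfl⟩
  rw [← hnK, ← hnH, ← hnG] at hcard
  rw [← hcG, ← hnG, ← hnK] at hG
  rw [← hnK, ← hnG] at hA
  rw [← hcH', ← hnH] at hHs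
  rw [← hcK', ← hnK] at hKs
  rw [← hnH, ← hcG, ← hcH', ← hcK']
  have hKpos : 0 < nK := by rw [hnK]; exact Nat.card_pos
  apply Nat.eq_of_mul_eq_mul_left hKpos
  -- nK * (nH * cG + 1) = nK * (nH * cH + cK)
  have e1 : nK * (nH * cG + 1) = cG * nG + nK := by rw [← hcard]; ring
  have e2 : nK * (nH * cH + cK) = nK * (cH * nH) + cK * nK := by ring
  rw [e1, e2, hG, hHs, hKs]
  -- a + nK * b' + nK = nK * (nH + b') + sK
  have : nK * (nH + b') = nG + nK * b' := by rw [← hcard]; ring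
  rw [this]
  omega

end frob

end Cfsg.Agent.Lib.Helper2
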