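import Mathlib
import Cfsg.Agent.Lib.Helper1.PRDefs
import Cfsg.Agent.Lib.Helper10.DWDefs

/-! S3616 market "DW" (planner helper10): leaf DW-BIG. -/

set_option autoImplicit false
set_option linter.unusedVariables false

namespace Cfsg.Agent.Lib.Helper2.DWBIG

open MulAction Cfsg.Agent.Lib.Helper10.DWDefs
open scoped Pointwise

/-- **DW-BIG**. -/
theorem DWBIG {X Ω : Type*} [Group X] [Finite X] [MulAction X Ω] [Fintype Ω] (p : ℕ)
    (hΩ : Fintype.card Ω = p + 1) (L : Subgroup X) (hLtr : IsPretransitive ↥L Ω) (hLX : L ≠ ⊤)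
    (a : Ω) (hM : 2 * Nat.card ↥(L ⊓ stabilizer X a) = p * (p - 1)) :
    p * (p - 1) < 2 * Nat.card ↥(stabilizer X a) := by
  have hle : L ⊓ stabilizer X a ≤ stabilizer X a := inf_le_right
  have hcle : Nat.card ↥(L ⊓ stabilizer X a) ≤ Nat.card ↥(stabilizer X a) :=
    Subgroup.card_le_of_le hle
  rcases Nat.lt_or_ge (Nat.card ↥(L ⊓ stabilizer X a)) (Nat.card ↥(stabilizer X a)) with h | h
  · omega
  · exfalso
    have heq : L ⊓ stabilizer X a = stabilizer X a :=
      Subgroup.eq_of_le_of_card_ge hle h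
    have hst : stabilizer X a ≤ L := by
      rw [← heq]; exact inf_le_left
    apply hLX
    rw [eq_top_iff]
    intro x _
    obtain ⟨l, hl⟩ := hLtr.exists_smul_eq a (x • a)
    have h1 : (l : X)⁻¹ * x ∈ stabilizer X a := by
      rw [mem_stabilizer_iff, mul_smul]
      have : (l : X) • a = x • a := hl
      rw [← this, inv_smul_smul]
    have h2 : (l : X)⁻¹ * x ∈ L := hst h1
    have : x = (l : X) * ((l : X)⁻¹ * x) := by group
    rw [this]
    exact L.mul_mem l.2 h2

end Cfsg.Agent.Lib.Helper2.DWBIG
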