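import Mathlib
import Cfsg.Agent.Lib.Helper1.PRDefs
import Cfsg.Agent.Lib.Helper10.DWDefs

/-! S3616 market "DW" (planner helper10): leaf DW-BSIGN. -/

set_option autoImplicit false
set_option linter.unusedVariables false

namespace Cfsg.Agent.Lib.Helper2.DWBSIGN

open MulAction Cfsg.Agent.Lib.Helper10.DWDefs
open scoped Pointwise

/-- **DW-BSIGN**. -/
theorem DWBSIGN {X Ω : Type*} [Group X] [MulAction X Ω] [Fintype Ω] [DecidableEq Ω] (a : Ω)
    [Fintype ↥(SubMulAction.ofStabilizer X a)] [DecidableEq ↥(SubMulAction.ofStabilizer X a)]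
    (y : ↥(stabilizer X a)) :
    Equiv.Perm.sign (MulAction.toPerm y : Equiv.Perm ↥(SubMulAction.ofStabilizer X a)) =
      Equiv.Perm.sign (MulAction.toPerm (y : X) : Equiv.Perm Ω) := by
  classical
  obtain rfl : ‹DecidableEq ↥(SubMulAction.ofStabilizer X a)› = (fun x y => x.instDecidableEq y) :=
    Subsingleton.elim _ _
  have key : Equiv.Perm.ofSubtype (p := fun x : Ω => x ∈ SubMulAction.ofStabilizer X a)
      (MulAction.toPerm y : Equiv.Perm ↥(SubMulAction.ofStabilizer X a)) =
      (MulAction.toPerm (y : X) : Equiv.Perm Ω) := by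
    ext x
    by_cases hx : x ∈ SubMulAction.ofStabilizer X a
    · rw [Equiv.Perm.ofSubtype_apply_of_mem _ hx]
      rfl
    · rw [Equiv.Perm.ofSubtype_apply_of_not_mem _ hx]
      have hxa : x = a := by
        by_contra h
        exact hx ((SubMulAction.mem_ofStabilizer_iff X a).mpr h)
      subst hxa
      exact (mem_stabilizer_iff.mp y.2).symm
  rw [← key]
  have := Equiv.Perm.sign_ofSubtype (p := fun x : Ω => x ∈ SubMulAction.ofStabilizer X a)
    (MulAction.toPerm y : Equiv.Perm ↥(SubMulAction.ofStabilizer X a))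
  rw [this]

end Cfsg.Agent.Lib.Helper2.DWBSIGN
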