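import Mathlib
import Cfsg.Agent.Lib.Helper1.PRDefs
import Cfsg.Agent.Lib.Helper10.DWDefs

/-! S3616 market "DW" (planner helper10): leaf DW-CL0. -/

set_option autoImplicit false
set_option linter.unusedVariables false

namespace Cfsg.Agent.Lib.Helper2.DWCL0

open MulAction Cfsg.Agent.Lib.Helper10.DWDefs
open scoped Pointwise

/-- **DW-CL0**. -/
theorem DWCL0 {H : Type*} [Group H] [DecidableEq H] (T : Finset H) (k l : ℕ)
    (hE : ∀ g : H, ((T ×ˢ T).filter (fun q => q.1 * q.2 = g)).card =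
      if g = 1 then k else if g ∈ T then l else 0) :
    ∀ x ∈ T, ∀ y ∈ T, x * y ∈ T ∨ x * y = 1 := by
  intro x hx y hy
  by_contra hcon
  push_neg at hcon
  have h := hE (x * y)
  rw [if_neg hcon.2, if_neg hcon.1, Finset.card_eq_zero] at h
  have hmem : (x, y) ∈ (T ×ˢ T).filter (fun q => q.1 * q.2 = x * y) := by
    simp [hx, hy]
  rw [h] at hmem
  exact absurd hmem (Finset.notMem_empty _)

end Cfsg.Agent.Lib.Helper2.DWCL0
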