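import Mathlib
import Cfsg.Agent.Lib.Helper1.PRDefs
import Cfsg.Agent.Lib.Helper10.DWDefs

/-! S3616 market "DW" (planner helper10): leaf DW-CLK. -/

set_option autoImplicit false
set_option linter.unusedVariables false

namespace Cfsg.Agent.Lib.Helper2.DWCLK

open MulAction Cfsg.Agent.Lib.Helper10.DWDefs
open scoped Pointwise

/-- if the number of factorizations `g = t₁ t₂` in `T × T` is `|T|`, every `t ∈ T` is a first factor -/
theorem exists_factor {H : Type*} [Group H] [DecidableEq H] (T : Finset H) (g : H)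
    (h : ((T ×ˢ T).filter (fun q => q.1 * q.2 = g)).card = T.card) :
    ∀ t ∈ T, t⁻¹ * g ∈ T := by
  classical
  set S := (T ×ˢ T).filter (fun q => q.1 * q.2 = g) with hS
  have hinj : Set.InjOn (fun q : H × H => q.1) (S : Set (H × H)) := by
    intro q hq q' hq' hqq
    simp only [hS, Finset.coe_filter, Finset.mem_product, Set.mem_setOf_eq] at hq hq'
    have h1 : q.1 = q'.1 := hqq
    have h2 : q.2 = q'.2 := by
      have : q.1 * q.2 = q'.1 * q'.2 := by rw [hq.2, hq'.2]
      rw [h1] at this
      exact mul_left_cancel this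
    exact Prod.ext h1 h2
  have himg : S.image (fun q : H × H => q.1) = T := by
    apply Finset.eq_of_subset_of_card_le
    · intro t ht
      rcases Finset.mem_image.mp ht with ⟨q, hq, rfl⟩
      simp only [hS, Finset.mem_filter, Finset.mem_product] at hq
      exact hq.1.1
    · rw [Finset.card_image_of_injOn hinj, h]
  intro t ht
  rw [← himg] at ht
  rcases Finset.mem_image.mp ht with ⟨q, hq, rfl⟩
  simp only [hS, Finset.mem_filter, Finset.mem_product] at hq
  have : q.1⁻¹ * g = q.2 := by rw [← hq.2]; group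
  rw [this]
  exact hq.1.2

/-- **DW-CLK**. -/
theorem DWCLK {H : Type*} [Group H] [DecidableEq H] (T : Finset H) (hinv : ∀ t ∈ T, t⁻¹ ∈ T)
    (k l : ℕ)
    (hE : ∀ g : H, ((T ×ˢ T).filter (fun q => q.1 * q.2 = g)).card =
      if g = 1 then k else if g ∈ T then l else k) :
    ∀ x : H, x ∉ T → x ≠ 1 → ∀ y : H, y ∉ T → y ≠ 1 → x * y ∉ T := by
  classical
  -- `k = |T|`
  have hk : k = T.card := by
    have h1 := hE 1
    rw [if_pos rfl] at h1
    rw [← h1]
    have : (T ×ˢ T).filter (fun q => q.1 * q.2 = 1) = T.image (fun t => (t, t⁻¹)) := by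
      ext q
      simp only [Finset.mem_filter, Finset.mem_product, Finset.mem_image]
      constructor
      · rintro ⟨⟨h1, h2⟩, h3⟩
        refine ⟨q.1, h1, ?_⟩
        have : q.2 = q.1⁻¹ := (inv_eq_of_mul_eq_one_right h3).symm
        exact Prod.ext rfl this.symm
      · rintro ⟨t, ht, rfl⟩
        exact ⟨⟨ht, hinv t ht⟩, mul_inv_cancel t⟩
    rw [this, Finset.card_image_of_injective]
    intro t t' h
    exact (Prod.mk.inj h).1
  intro x hx hx1 y hy hy1 hxy
  have hy' : y⁻¹ ∉ T := fun h => hy (by simpa using hinv _ h)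
  have hy1' : y⁻¹ ≠ 1 := fun h => hy1 (by simpa using h)
  have h := hE y⁻¹
  rw [if_neg hy1', if_neg hy', hk] at h
  have := exists_factor T y⁻¹ h (x * y)⁻¹ (hinv _ hxy)
  apply hx
  have e : ((x * y)⁻¹)⁻¹ * y⁻¹ = x := by group
  rwa [e] at this

end Cfsg.Agent.Lib.Helper2.DWCLK
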