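import Mathlib
import Cfsg.Agent.Lib.Helper1.PRDefs
import Cfsg.Agent.Lib.Helper10.DWDefs

/-! S3616 market "DW" (planner helper10): leaf DW-CNT (the strongly-regular-graph equation for the
connection set of an orbital in a regular subgroup). -/

set_option autoImplicit false
set_option linter.unusedVariables false

namespace Cfsg.Agent.Lib.Helper2.DWCNT

open MulAction Cfsg.Agent.Lib.Helper10.DWDefs
open scoped Pointwise

/-- **DW-CNT**. -/
theorem DWCNT {G Γ : Type*} [Group G] [MulAction G Γ] [Finite Γ] {n : ℕ} [NeZero n]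
    (D : Subgroup G) (φ : ↥D ≃* DihedralGroup n) (c : Γ)
    (hreg : ∀ γ : Γ, ∃! d : ↥D, (d : G) • c = γ)
    (O₁ O₂ : Set Γ) (hc₁ : c ∉ O₁) (hcov : ∀ γ : Γ, γ ≠ c → γ ∈ O₁ ∨ γ ∈ O₂)
    (horb₁ : ∀ γ ∈ O₁, ∀ γ' ∈ O₁, ∃ g : G, g • c = c ∧ g • γ = γ')
    (horb₂ : ∀ γ ∈ O₂, ∀ γ' ∈ O₂, ∃ g : G, g • c = c ∧ g • γ = γ')
    (hinv₁ : ∀ g : G, g • c = c → ∀ γ ∈ O₁, g • γ ∈ O₁)
    (T : Finset (DihedralGroup n))
    (hT : ∀ x : DihedralGroup n, x ∈ T ↔ ((φ.symm x : ↥D) : G) • c ∈ O₁) :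
    ∃ k l m : ℕ, ∀ g : DihedralGroup n, ((T ×ˢ T).filter (fun q => q.1 * q.2 = g)).card =
      if g = 1 then k else if g ∈ T then l else m := by
  classical
  set β : DihedralGroup n → Γ := fun x => ((φ.symm x : ↥D) : G) • c with hβ
  have hβinj : Function.Injective β := by
    intro x y hxy
    obtain ⟨d, hd, huniq⟩ := hreg (β x)
    have h1 := huniq (φ.symm x) rfl
    have h2 := huniq (φ.symm y) hxy.symm
    exact φ.symm.injective (h1.trans h2.symm)
  have hβsurj : Function.Surjective β := by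
    intro γ
    obtain ⟨d, hd, _⟩ := hreg γ
    refine ⟨φ d, ?_⟩
    simp only [hβ, MulEquiv.symm_apply_apply]
    exact hd
  have hβ1 : β 1 = c := by simp [hβ]
  have hβmul : ∀ t g : DihedralGroup n, β (t⁻¹ * g) = ((φ.symm t : ↥D) : G)⁻¹ • β g := by
    intro t g
    simp only [hβ, map_mul, map_inv, Subgroup.coe_mul, Subgroup.coe_inv, mul_smul]
  have hβinv : ∀ t : DihedralGroup n, ((φ.symm t : ↥D) : G)⁻¹ • β t = c := by
    intro t
    simp only [hβ, inv_smul_smul]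
  -- the relation "the pair (δ, γ) lies in the orbital of O₁"
  let R : Γ → Γ → Prop := fun δ γ => ∃ x : G, x • δ = c ∧ x • γ ∈ O₁
  have hRwd : ∀ δ γ (x : G), x • δ = c → (R δ γ ↔ x • γ ∈ O₁) := by
    intro δ γ x hx
    constructor
    · rintro ⟨x', hx', hx'γ⟩
      have hfix : (x * x'⁻¹) • c = c := by
        rw [mul_smul]
        have : x'⁻¹ • c = δ := by rw [← hx', inv_smul_smul]
        rw [this, hx]
      have := hinv₁ _ hfix _ hx'γ
      rwa [mul_smul, inv_smul_smul] at this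
    · intro h; exact ⟨x, hx, h⟩
  let M : Γ → ℕ := fun γ => Nat.card {δ : Γ // δ ∈ O₁ ∧ R δ γ}
  have hMle : ∀ (h : G), h • c = c → ∀ γ, M γ ≤ M (h • γ) := by
    intro h hh γ
    apply Nat.card_le_card_of_injective (fun δ : {δ : Γ // δ ∈ O₁ ∧ R δ γ} =>
      (⟨h • δ.1, hinv₁ h hh _ δ.2.1, by
        obtain ⟨x, hx, hxγ⟩ := δ.2.2
        refine ⟨x * h⁻¹, ?_, ?_⟩
        · rw [mul_smul, inv_smul_smul, hx]
        · rw [mul_smul, inv_smul_smul]; exact hxγ⟩ : {δ : Γ // δ ∈ O₁ ∧ R δ (h • γ)}))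
    intro δ δ' hδ
    have := congrArg Subtype.val hδ
    exact Subtype.ext (MulAction.injective h this)
  have hMeq : ∀ (h : G), h • c = c → ∀ γ, M (h • γ) = M γ := by
    intro h hh γ
    apply le_antisymm
    · have hh' : h⁻¹ • c = c := by rw [inv_smul_eq_iff, hh]
      have := hMle h⁻¹ hh' (h • γ)
      rwa [inv_smul_smul] at this
    · exact hMle h hh γ
  -- the count is `M (β g)`
  have hN : ∀ g : DihedralGroup n,
      ((T ×ˢ T).filter (fun q => q.1 * q.2 = g)).card = M (β g) := by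
    intro g
    rw [← Nat.card_eq_finsetCard]
    apply Nat.card_congr
    have hmem : ∀ q : ↥((T ×ˢ T).filter (fun q => q.1 * q.2 = g)),
        q.1.1 ∈ T ∧ q.1.2 ∈ T ∧ q.1.1 * q.1.2 = g := by
      intro q
      have := Finset.mem_filter.mp q.2
      exact ⟨(Finset.mem_product.mp this.1).1, (Finset.mem_product.mp this.1).2, this.2⟩
    refine Equiv.ofBijective
      (fun q => (⟨β q.1.1, (hT _).mp (hmem q).1, ?_⟩ : {δ : Γ // δ ∈ O₁ ∧ R δ (β g)})) ⟨?_, ?_⟩
    · rw [hRwd _ _ _ (hβinv q.1.1), ← hβmul]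
      have : q.1.1⁻¹ * g = q.1.2 := by
        have e := (hmem q).2.2
        calc q.1.1⁻¹ * g = q.1.1⁻¹ * (q.1.1 * q.1.2) := by rw [e]
          _ = q.1.2 := by group
      rw [this]
      exact (hT _).mp (hmem q).2.1
    · intro q q' hqq
      have h1 : q.1.1 = q'.1.1 := hβinj (congrArg Subtype.val hqq)
      have h2 : q.1.2 = q'.1.2 := by
        have e1 := (hmem q).2.2
        have e2 := (hmem q').2.2
        rw [h1] at e1
        exact mul_left_cancel (e1.trans e2.symm)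
      exact Subtype.ext (Prod.ext h1 h2)
    · rintro ⟨δ, hδ, hR⟩
      obtain ⟨t, rfl⟩ := hβsurj δ
      have ht : t ∈ T := (hT t).mpr hδ
      have ht2 : t⁻¹ * g ∈ T := by
        rw [hT]
        have := (hRwd _ _ _ (hβinv t)).mp hR
        rw [← hβmul] at this
        exact this
      refine ⟨⟨(t, t⁻¹ * g), ?_⟩, rfl⟩
      rw [Finset.mem_filter, Finset.mem_product]
      exact ⟨⟨ht, ht2⟩, by group⟩
  -- the three constants
  refine ⟨M c, if h : ∃ γ, γ ∈ O₁ then M h.choose else 0,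
    if h : ∃ γ, γ ≠ c ∧ γ ∉ O₁ then M h.choose else 0, ?_⟩
  intro g
  rw [hN g]
  by_cases hg1 : g = 1
  · rw [if_pos hg1, hg1, hβ1]
  · rw [if_neg hg1]
    by_cases hgT : g ∈ T
    · rw [if_pos hgT]
      have hg₁ : β g ∈ O₁ := (hT g).mp hgT
      have hex : ∃ γ, γ ∈ O₁ := ⟨_, hg₁⟩
      rw [dif_pos hex]
      obtain ⟨h, hh, hhγ⟩ := horb₁ _ hex.choose_spec _ hg₁
      rw [← hhγ, hMeq h hh]
    · rw [if_neg hgT]
      have hg₁ : β g ∉ O₁ := fun h => hgT ((hT g).mpr h)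
      have hgc : β g ≠ c := by
        intro h
        rw [← hβ1] at h
        exact hg1 (hβinj h)
      have hex : ∃ γ, γ ≠ c ∧ γ ∉ O₁ := ⟨_, hgc, hg₁⟩
      rw [dif_pos hex]
      have h2 : hex.choose ∈ O₂ := (hcov _ hex.choose_spec.1).resolve_left hex.choose_spec.2
      have h2' : β g ∈ O₂ := (hcov _ hgc).resolve_left hg₁
      obtain ⟨h, hh, hhγ⟩ := horb₂ _ h2 _ h2'
      rw [← hhγ, hMeq h hh]

end Cfsg.Agent.Lib.Helper2.DWCNT
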