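import Mathlib
import Cfsg.Agent.Lib.Helper1.PRDefs
import Cfsg.Agent.Lib.Helper10.DWDefs
import Cfsg.Agent.Lib.Helper2.DWCL0
import Cfsg.Agent.Lib.Helper2.DWCLK
import Cfsg.Agent.Lib.Helper2.DWCNT

/-! S3616 market "DW" (planner helper10): the spine DW-RANK3 in `Of` form: the leaves DHcoreT, PAIR and
BLKF are hypotheses (specialized to the data at hand); CL0, CLK, CNT are imported. -/

set_option autoImplicit false
set_option linter.unusedVariables false

namespace Cfsg.Agent.Lib.Helper2.DWRANK3Of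

open MulAction Cfsg.Agent.Lib.Helper10.DWDefs
open scoped Pointwise

/-- **DW-RANK3**, `Of` form. -/
theorem DWRANK3_of {G Γ : Type*} [Group G] [MulAction G Γ] [Finite Γ]
    (hprim : IsPreprimitive G Γ) {n : ℕ} (hn : Odd n)
    (D : Subgroup G) (φ : ↥D ≃* DihedralGroup n)
    (c : Γ) (hreg : ∀ γ : Γ, ∃! d : ↥D, (d : G) • c = γ)
    (O₁ O₂ : Set Γ) (h₁ : O₁.Nonempty) (h₂ : O₂.Nonempty) (hc₁ : c ∉ O₁) (hc₂ : c ∉ O₂)
    (hdisj : ∀ γ ∈ O₁, γ ∉ O₂) (hcov : ∀ γ : Γ, γ ≠ c → γ ∈ O₁ ∨ γ ∈ O₂)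
    (horb₁ : ∀ γ ∈ O₁, ∀ γ' ∈ O₁, ∃ g : G, g • c = c ∧ g • γ = γ')
    (horb₂ : ∀ γ ∈ O₂, ∀ γ' ∈ O₂, ∃ g : G, g • c = c ∧ g • γ = γ')
    (hinv₁ : ∀ g : G, g • c = c → ∀ γ ∈ O₁, g • γ ∈ O₁)
    (hDH : ∀ (T : Finset (DihedralGroup n)), (1 : DihedralGroup n) ∉ T → (∀ t ∈ T, t⁻¹ ∈ T) →
      ∀ (k l m : ℕ), (∀ g : DihedralGroup n, ((T ×ˢ T).filter (fun q => q.1 * q.2 = g)).card =
        if g = 1 then k else if g ∈ T then l else m) →
      (∃ g : DihedralGroup n, g ≠ 1 ∧ g ∉ T) → m = 0 ∨ m = k)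
    (hPAIR : (∀ g : G, g • c = c → ∀ γ ∈ O₂, g • γ ∈ O₂) → ∀ t : G, t * t = 1 → t • c ≠ c →
      ∀ γ : Γ, ∃ g : G, g • c = γ ∧ g • γ = c)
    (hBLKF : ∀ (O O' : Set Γ), O.Nonempty → O'.Nonempty → c ∉ O → c ∉ O' → (∀ γ ∈ O, γ ∉ O') →
      (∀ g : G, g • c = c → ∀ γ ∈ O, g • γ ∈ O) →
      (∀ d ∈ D, ∀ d' ∈ D, d • c ∈ O → d' • c ∈ O → (d * d') • c ∈ O ∨ (d * d') • c = c) →
      (∀ d ∈ D, d • c ∈ O → d⁻¹ • c ∈ O) → False) : False := by
  classical
  haveI : NeZero n := ⟨by rintro rfl; simp at hn⟩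
  -- uniqueness facts
  have huniq : ∀ d d' : ↥D, (d : G) • c = (d' : G) • c → d = d' := by
    intro d d' h
    obtain ⟨e, _, he⟩ := hreg ((d' : G) • c)
    exact (he d h).trans (he d' rfl).symm
  have hfix : ∀ d : ↥D, (d : G) • c = c → d = 1 := by
    intro d h
    apply huniq
    rw [h, Subgroup.coe_one, one_smul]
  set T : Finset (DihedralGroup n) :=
    Finset.univ.filter (fun x => ((φ.symm x : ↥D) : G) • c ∈ O₁) with hTdef
  have hT : ∀ x : DihedralGroup n, x ∈ T ↔ ((φ.symm x : ↥D) : G) • c ∈ O₁ := by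
    intro x; simp [hTdef]
  have hT' : ∀ d : ↥D, φ d ∈ T ↔ (d : G) • c ∈ O₁ := by
    intro d; rw [hT, MulEquiv.symm_apply_apply]
  obtain ⟨k, l, m, hE⟩ := Cfsg.Agent.Lib.Helper2.DWCNT.DWCNT D φ c hreg O₁ O₂ hc₁ hcov horb₁ horb₂
    hinv₁ T hT
  -- O₂ is invariant under the stabilizer of c
  have hinv₂ : ∀ g : G, g • c = c → ∀ γ ∈ O₂, g • γ ∈ O₂ := by
    intro g hg γ hγ
    have hgi : g⁻¹ • c = c := by rw [inv_smul_eq_iff, hg]
    have hne : g • γ ≠ c := by
      intro h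
      have : γ = c := by rw [← hgi, ← h, inv_smul_smul]
      exact hc₂ (this ▸ hγ)
    rcases hcov _ hne with h | h
    · exfalso
      have := hinv₁ g⁻¹ hgi _ h
      rw [inv_smul_smul] at this
      exact hdisj _ this hγ
    · exact h
  -- an involution of D moving c
  have hpair : ∀ γ : Γ, ∃ g : G, g • c = γ ∧ g • γ = c := by
    set s : ↥D := φ.symm (DihedralGroup.sr 0) with hs
    have hss : s * s = 1 := by
      rw [hs, ← map_mul, DihedralGroup.sr_mul_self, map_one]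
    have hs1 : s ≠ 1 := by
      intro h
      have : DihedralGroup.sr (0 : ZMod n) = 1 := by
        have := congrArg φ h
        rwa [hs, MulEquiv.apply_symm_apply, map_one] at this
      exact absurd this (by rw [DihedralGroup.one_def]; exact fun h => by cases h)
    refine hPAIR hinv₂ (s : G) ?_ ?_
    · rw [← Subgroup.coe_mul, hss, Subgroup.coe_one]
    · intro h; exact hs1 (hfix s h)
  -- T is symmetric
  have hinvD : ∀ d : ↥D, (d : G) • c ∈ O₁ → ((d⁻¹ : ↥D) : G) • c ∈ O₁ := by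
    intro d hd
    obtain ⟨g, hg1, hg2⟩ := hpair ((d : G) • c)
    have hfixc : ((d : G)⁻¹ * g) • c = c := by rw [mul_smul, hg1, inv_smul_smul]
    have := hinv₁ _ hfixc _ hd
    rw [mul_smul, hg2] at this
    simpa using this
  have hinvT : ∀ t ∈ T, t⁻¹ ∈ T := by
    intro t ht
    rw [hT] at ht ⊢
    rw [map_inv]
    exact hinvD _ ht
  have h1T : (1 : DihedralGroup n) ∉ T := by
    rw [hT, map_one, Subgroup.coe_one, one_smul]; exact hc₁
  have hex : ∃ g : DihedralGroup n, g ≠ 1 ∧ g ∉ T := by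
    obtain ⟨γ₂, hγ₂⟩ := h₂
    obtain ⟨d, hd, _⟩ := hreg γ₂
    refine ⟨φ d, ?_, ?_⟩
    · intro h
      have : d = 1 := by
        have := congrArg φ.symm h
        rwa [MulEquiv.symm_apply_apply, map_one] at this
      rw [this, Subgroup.coe_one, one_smul] at hd
      exact hc₂ (hd ▸ hγ₂)
    · rw [hT']
      intro h
      exact hdisj _ h (hd ▸ hγ₂)
  rcases hDH T h1T hinvT k l m hE hex with hm | hm
  · -- `m = 0`: `T ∪ 1` is closed
    subst hm
    have hcl := Cfsg.Agent.Lib.Helper2.DWCL0.DWCL0 T k l hE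
    refine hBLKF O₁ O₂ h₁ h₂ hc₁ hc₂ hdisj hinv₁ ?_ ?_
    · intro d hd d' hd' hdc hdc'
      have hx : φ ⟨d, hd⟩ ∈ T := (hT' _).mpr hdc
      have hy : φ ⟨d', hd'⟩ ∈ T := (hT' _).mpr hdc'
      rcases hcl _ hx _ hy with h | h
      · left
        rw [← map_mul, hT'] at h
        exact h
      · right
        rw [← map_mul] at h
        have : (⟨d, hd⟩ * ⟨d', hd'⟩ : ↥D) = 1 := by
          have := congrArg φ.symm h
          rwa [MulEquiv.symm_apply_apply, map_one] at this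
        have h2 : d * d' = 1 := congrArg Subtype.val this
        rw [h2, one_smul]
    · intro d hd hdc
      exact hinvD ⟨d, hd⟩ hdc
  · -- `m = k`: the complement is closed
    subst hm
    have hclk := Cfsg.Agent.Lib.Helper2.DWCLK.DWCLK T hinvT m l hE
    have hnot : ∀ d : ↥D, (d : G) • c ∈ O₂ → φ d ∉ T ∧ φ d ≠ 1 := by
      intro d hd
      constructor
      · rw [hT']; intro h; exact hdisj _ h hd
      · intro h
        have : d = 1 := by
          have := congrArg φ.symm h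
          rwa [MulEquiv.symm_apply_apply, map_one] at this
        rw [this, Subgroup.coe_one, one_smul] at hd
        exact hc₂ hd
    refine hBLKF O₂ O₁ h₂ h₁ hc₂ hc₁ (fun γ h2 h1 => hdisj γ h1 h2) hinv₂ ?_ ?_
    · intro d hd d' hd' hdc hdc'
      obtain ⟨hx, hx1⟩ := hnot ⟨d, hd⟩ hdc
      obtain ⟨hy, hy1⟩ := hnot ⟨d', hd'⟩ hdc'
      have h := hclk _ hx hx1 _ hy hy1
      rw [← map_mul, hT'] at h
      by_cases hc : (d * d') • c = c
      · right; exact hc
      · left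
        exact (hcov _ hc).resolve_left h
    · intro d hd hdc
      obtain ⟨hx, hx1⟩ := hnot ⟨d, hd⟩ hdc
      have hne : d⁻¹ • c ≠ c := by
        intro h
        have : d • c = c := by
          have := congrArg (fun z => d • z) h
          simpa using this.symm
        rw [this] at hdc
        exact hc₂ hdc
      refine (hcov _ hne).resolve_left ?_
      intro h
      have h' : ((⟨d, hd⟩⁻¹ : ↥D) : G) • c ∈ O₁ := h
      have := hinvD _ h'
      rw [inv_inv] at this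
      exact hx ((hT' _).mpr this)

end Cfsg.Agent.Lib.Helper2.DWRANK3Of
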