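import Mathlib
import Cfsg.Agent.Lib.Helper1.PRDefs
import Cfsg.Agent.Lib.Helper10.DWDefs
import Cfsg.Agent.Lib.Helper2.DWRANK3Of
import Cfsg.Agent.Lib.Helper5.DWPAIR
import Cfsg.Agent.Lib.Helper5.DWBLKF

/-! S3616 market "DW" (planner helper10): the spine DW-RANK3 with ONLY the algebraic core `DHcoreT`
(markets DH / DHB) left as a hypothesis; PAIR and BLKF are helper5's leaves, CL0 / CLK / CNT mine. -/

set_option autoImplicit false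
set_option linter.unusedVariables false

namespace Cfsg.Agent.Lib.Helper2.DWRANK3Of2

open MulAction Cfsg.Agent.Lib.Helper10.DWDefs
open scoped Pointwise

/-- **DW-RANK3** over the hypothesis `hDH` = the statement `DHcoreT` at this `n`. -/
theorem DWRANK3_of_core {G Γ : Type*} [Group G] [MulAction G Γ] [Finite Γ]
    (hprim : IsPreprimitive G Γ) {n : ℕ} (hn : Odd n)
    (D : Subgroup G) (φ : ↥D ≃* DihedralGroup n)
    (c : Γ) (hreg : ∀ γ : Γ, ∃! d : ↥D, (d : G) • c = γ)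
    (O₁ O₂ : Set Γ) (h₁ : O₁.Nonempty) (h₂ : O₂.Nonempty) (hc₁ : c ∉ O₁) (hc₂ : c ∉ O₂)
    (hdisj : ∀ γ ∈ O₁, γ ∉ O₂) (hcov : ∀ γ : Γ, γ ≠ c → γ ∈ O₁ ∨ γ ∈ O₂)
    (horb₁ : ∀ γ ∈ O₁, ∀ γ' ∈ O₁, ∃ g : G, g • c = c ∧ g • γ = γ')
    (horb₂ : ∀ γ ∈ O₂, ∀ γ' ∈ O₂, ∃ g : G, g • c = c ∧ g • γ = γ')
    (hinv₁ : ∀ g : G, g • c = c → ∀ γ ∈ O₁, g • γ ∈ O₁)
    (hDH : ∀ (T : Finset (DihedralGroup n)), (1 : DihedralGroup n) ∉ T → (∀ t ∈ T, t⁻¹ ∈ T) →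
      ∀ (k l m : ℕ), (∀ g : DihedralGroup n, ((T ×ˢ T).filter (fun q => q.1 * q.2 = g)).card =
        if g = 1 then k else if g ∈ T then l else m) →
      (∃ g : DihedralGroup n, g ≠ 1 ∧ g ∉ T) → m = 0 ∨ m = k) : False := by
  haveI : IsPretransitive G Γ := hprim.toIsPretransitive
  have hreg' : ∀ γ : Γ, ∃ d ∈ D, d • c = γ := by
    intro γ
    obtain ⟨d, hd, _⟩ := hreg γ
    exact ⟨d, d.2, hd⟩
  have hsemi : ∀ d ∈ D, d • c = c → d = 1 := by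
    intro d hd h
    obtain ⟨e, _, he⟩ := hreg c
    have h1 := he ⟨d, hd⟩ h
    have h2 := he 1 (by show ((1 : ↥D) : G) • c = c; rw [Subgroup.coe_one, one_smul])
    exact congrArg Subtype.val (h1.trans h2.symm)
  exact Cfsg.Agent.Lib.Helper2.DWRANK3Of.DWRANK3_of hprim hn D φ c hreg O₁ O₂ h₁ h₂ hc₁ hc₂ hdisj
    hcov horb₁ horb₂ hinv₁ hDH
    (fun hinv₂ t ht htc =>
      Cfsg.Agent.Lib.Helper5.DWPAIR.DWPAIR c O₁ O₂ hdisj hcov horb₁ horb₂ hinv₁ hinv₂ t ht htc)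
    (fun O O' hO hO' hcO hcO' hdj hinv hmul hinvs =>
      Cfsg.Agent.Lib.Helper5.DWBLKF.DWBLKF hprim D c hreg' hsemi O O' hO hO' hcO hcO' hdj hinv hmul
        hinvs)

end Cfsg.Agent.Lib.Helper2.DWRANK3Of2
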