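import Mathlib
import Cfsg.Prelude.Def_Sporadic_a
import Cfsg.Agent.Lib.Helper28.SteinerCount

/-!
# Intersection numbers of Steiner systems (helper2 library)

Binomial moments of the intersection sizes `|b ∩ Y|`, `b` running over the blocks, and the
positivity trick that determines the possible intersection sizes.
-/

set_option autoImplicit false

namespace Cfsg.Agent.Lib.Helper2

open Cfsg Cfsg.Agent.Lib.Helper28.Steiner

section SteinerInter

variable {α : Type*} [Fintype α] [DecidableEq α]

/-- all blocks, as a finset -/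
noncomputable abbrev allBlocks (B : Set (Finset α)) : Finset (Finset α) := blocksThrough B ∅

theorem mem_allBlocks (B : Set (Finset α)) (b : Finset α) : b ∈ allBlocks B ↔ b ∈ B := by
  simp [allBlocks, mem_blocksThrough]

/-- the `i`-th binomial moment of the intersection sizes with a fixed set `Y`, for `i ≤ t` -/
theorem sum_choose_inter_eq (t k : ℕ) (B : Set (Finset α)) (hB : IsSteinerSystem t k B)
    (Y : Finset α) (i : ℕ) (hi : i ≤ t) (lam : ℕ)
    (hlam : lam * Nat.choose (k - i) (t - i) = Nat.choose (Fintype.card α - i) (t - i))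
    (hpos : 0 < Nat.choose (k - i) (t - i)) :
    ∑ b ∈ allBlocks B, Nat.choose (b ∩ Y).card i = Nat.choose Y.card i * lam := by
  rw [allBlocks, sum_choose_inter B Y i]
  have h1 : ∀ Z ∈ Finset.powersetCard i Y, (blocksThrough B Z).card = lam := by
    intro Z hZ
    rw [Finset.mem_powersetCard] at hZ
    have h := card_blocksThrough_mul t k B hB Z (by rw [hZ.2]; exact hi)
    rw [hZ.2, ← hlam] at h
    exact Nat.eq_of_mul_eq_mul_right hpos h
  rw [Finset.sum_congr rfl h1, Finset.sum_const, Finset.card_powersetCard, smul_eq_mul]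

omit [Fintype α] in
/-- two blocks sharing at least `t` points coincide -/
theorem block_eq_of_le_card_inter (t k : ℕ) (B : Set (Finset α)) (hB : IsSteinerSystem t k B)
    {b c : Finset α} (hb : b ∈ B) (hc : c ∈ B) (h : t ≤ (b ∩ c).card) : b = c := by
  obtain ⟨s, hs, hcard⟩ := Finset.exists_subset_card_eq h
  obtain ⟨d, _, huniq⟩ := hB.2 s hcard
  rw [huniq b ⟨hb, hs.trans Finset.inter_subset_left⟩,
    huniq c ⟨hc, hs.trans Finset.inter_subset_right⟩]

/-- positivity trick: if the values `f b` sum up to `f Y` and all values off `Y` are `≤ 0`,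
they all vanish -/
theorem eq_zero_of_sum_eq_of_nonpos {ι : Type*} [DecidableEq ι] (s : Finset ι) (f : ι → ℤ) (Y : ι)
    (hY : Y ∈ s) (hsum : ∑ b ∈ s, f b = f Y) (hnonpos : ∀ b ∈ s, b ≠ Y → f b ≤ 0) :
    ∀ b ∈ s, b ≠ Y → f b = 0 := by
  have h1 : ∑ b ∈ s.erase Y, f b = 0 := by
    have := Finset.add_sum_erase s f hY
    omega
  have h2 := (Finset.sum_eq_zero_iff_of_nonpos (s := s.erase Y) (f := f) (fun b hb => by
    rw [Finset.mem_erase] at hb
    exact hnonpos b hb.2 hb.1)).mp h1
  intro b hb hne
  exact h2 b (Finset.mem_erase.mpr ⟨hne, hb⟩)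

/-- weighted count of the blocks through `s` by their intersection with `Y` -/
theorem sum_choose_inter_through (B : Set (Finset α)) (s Y : Finset α) (i : ℕ) :
    ∑ b ∈ blocksThrough B s, Nat.choose (b ∩ Y).card i =
      ∑ Z ∈ Finset.powersetCard i Y, (blocksThrough B (s ∪ Z)).card := by
  have h := Finset.sum_card_bipartiteAbove_eq_sum_card_bipartiteBelow
    (s := Finset.powersetCard i Y) (t := blocksThrough B s) (fun (Z b : Finset α) => Z ⊆ b)
  unfold Finset.bipartiteAbove Finset.bipartiteBelow at h
  have h1 : ∀ Z ∈ Finset.powersetCard i Y,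
      ((blocksThrough B s).filter fun b => Z ⊆ b) = blocksThrough B (s ∪ Z) := by
    intro Z _
    ext b
    simp only [Finset.mem_filter, mem_blocksThrough, Finset.union_subset_iff, and_assoc]
  have h2 : ∀ b ∈ blocksThrough B s,
      ((Finset.powersetCard i Y).filter fun Z => Z ⊆ b).card = Nat.choose (b ∩ Y).card i := by
    intro b _
    have : ((Finset.powersetCard i Y).filter fun Z => Z ⊆ b) = Finset.powersetCard i (b ∩ Y) := by
      ext Z
      simp only [Finset.mem_filter, Finset.mem_powersetCard, Finset.subset_inter_iff]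
      constructor
      · rintro ⟨⟨h1, h2⟩, h3⟩; exact ⟨⟨h3, h1⟩, h2⟩
      · rintro ⟨⟨h3, h1⟩, h2⟩; exact ⟨⟨h1, h2⟩, h3⟩
    rw [this, Finset.card_powersetCard]
  rw [Finset.sum_congr rfl (fun Z hZ => by rw [h1 Z hZ]), Finset.sum_congr rfl h2] at h
  exact h.symm

/-- the `i`-th binomial moment of the intersection sizes with `Y` of the blocks through `s`,
for `Y` disjoint from `s` and `|s| + i ≤ t` -/
theorem sum_choose_inter_through_eq (t k : ℕ) (B : Set (Finset α)) (hB : IsSteinerSystem t k B)
    (s Y : Finset α) (hdisj : Disjoint s Y) (i n : ℕ) (hn : s.card + i = n) (hi : n ≤ t) (lam : ℕ)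
    (hlam : lam * Nat.choose (k - n) (t - n) = Nat.choose (Fintype.card α - n) (t - n))
    (hpos : 0 < Nat.choose (k - n) (t - n)) :
    ∑ b ∈ blocksThrough B s, Nat.choose (b ∩ Y).card i = Nat.choose Y.card i * lam := by
  rw [sum_choose_inter_through B s Y i]
  have h1 : ∀ Z ∈ Finset.powersetCard i Y, (blocksThrough B (s ∪ Z)).card = lam := by
    intro Z hZ
    rw [Finset.mem_powersetCard] at hZ
    have hc : (s ∪ Z).card = n := by
      rw [Finset.card_union_of_disjoint (Finset.disjoint_of_subset_right hZ.1 hdisj), hZ.2, hn]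
    have h := card_blocksThrough_mul t k B hB (s ∪ Z) (by rw [hc]; exact hi)
    rw [hc, ← hlam] at h
    exact Nat.eq_of_mul_eq_mul_right hpos h
  rw [Finset.sum_congr rfl h1, Finset.sum_const, Finset.card_powersetCard, smul_eq_mul]

end SteinerInter

end Cfsg.Agent.Lib.Helper2
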