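import Mathlib
import Cfsg.Prelude.Def_Sporadic_a
import Cfsg.Agent.Lib.Helper2.SteinerInter
import Cfsg.Agent.S0356

/-!
# Counting in a Steiner system `S(3, 6, 22)` (helper2 library)
-/

set_option autoImplicit false

namespace Cfsg.Agent.Lib.Helper2

open Cfsg Cfsg.Agent.Lib.Helper28.Steiner

section Steiner22

theorem not_disjoint_self22 {α : Type*} {B : Set (Finset α)} (hB : IsSteinerSystem 3 6 B)
    {b : Finset α} (hb : b ∈ B) : ¬ Disjoint b b := by
  rw [disjoint_self]
  intro h0
  have := hB.1 b hb
  rw [h0] at this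
  simp at this

theorem disjoint_iff_card_inter {α : Type*} [DecidableEq α] {b x : Finset α} :
    Disjoint b x ↔ (x ∩ b).card = 0 := by
  rw [Finset.card_eq_zero, Finset.inter_comm, Finset.disjoint_iff_inter_eq_empty]

variable {α : Type*} [Fintype α] [DecidableEq α] (hα : Fintype.card α = 22)
  {B : Set (Finset α)} (hB : IsSteinerSystem 3 6 B)

include hα hB

theorem card_allBlocks22 : (allBlocks B).card = 77 := by
  have h := card_blocksThrough_mul 3 6 B hB ∅ (by simp)
  rw [Finset.card_empty, hα] at h
  have : (20 : ℕ) * 77 = Nat.choose (22 - 0) (3 - 0) := by decide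
  have h2 : Nat.choose (6 - 0) (3 - 0) = 20 := by decide
  rw [h2] at h
  unfold allBlocks
  omega

theorem card_through_point22 (p : α) : (blocksThrough B {p}).card = 21 := by
  have h := card_blocksThrough_mul 3 6 B hB {p} (by simp)
  rw [Finset.card_singleton, hα] at h
  have : (10 : ℕ) * 21 = Nat.choose (22 - 1) (3 - 1) := by decide
  have h2 : Nat.choose (6 - 1) (3 - 1) = 10 := by decide
  rw [h2] at h
  omega

theorem card_through_pair22 {p q : α} (hpq : p ≠ q) : (blocksThrough B {p, q}).card = 5 := by
  have hc : ({p, q} : Finset α).card = 2 := Finset.card_pair hpq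
  have h := card_blocksThrough_mul 3 6 B hB {p, q} (by rw [hc]; norm_num)
  rw [hc, hα] at h
  have : (4 : ℕ) * 5 = Nat.choose (22 - 2) (3 - 2) := by decide
  have h2 : Nat.choose (6 - 2) (3 - 2) = 4 := by decide
  rw [h2] at h
  omega

theorem inter22 {b c : Finset α} (hb : b ∈ B) (hc : c ∈ B) (hbc : b ≠ c) :
    (b ∩ c).card = 0 ∨ (b ∩ c).card = 2 :=
  Cfsg.Agent.S0356.result hα hB hb hc hbc

/-- generic evaluation: sum of `2 - |x ∩ b|` over a family of blocks -/
theorem sum_two_sub_inter (X : Finset (Finset α)) (hX : ∀ x ∈ X, x ∈ B) {b : Finset α}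
    (hb : b ∈ B) :
    ∑ x ∈ X, ((2 : ℤ) - ((x ∩ b).card : ℤ)) =
      (if b ∈ X then (-4 : ℤ) else 0) + 2 * ((X.filter (fun x => Disjoint b x)).card : ℤ) := by
  have hterm : ∀ x ∈ X, ((2 : ℤ) - ((x ∩ b).card : ℤ)) =
      (if x = b then (-4 : ℤ) else 0) + (if Disjoint b x then (2 : ℤ) else 0) := by
    intro x hx
    by_cases hxb : x = b
    · subst hxb
      rw [if_pos rfl, if_neg (not_disjoint_self22 hB hb), Finset.inter_self, hB.1 x hb]
      norm_num
    · rw [if_neg hxb]
      rcases inter22 hα hB (hX x hx) hb hxb with h | h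
      · rw [if_pos (disjoint_iff_card_inter.mpr h), h]; norm_num
      · have hnd : ¬ Disjoint b x := by
          intro hd
          have := disjoint_iff_card_inter.mp hd
          omega
        rw [if_neg hnd, h]; norm_num
  rw [Finset.sum_congr rfl hterm, Finset.sum_add_distrib, Finset.sum_ite_eq', ← Finset.sum_filter,
    Finset.sum_const, nsmul_eq_mul]
  ring

/-- each block is disjoint from exactly 16 blocks -/
theorem card_disjoint22 {b : Finset α} (hb : b ∈ B) :
    ((allBlocks B).filter (fun x => Disjoint b x)).card = 16 := by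
  have h0 := sum_choose_inter_eq 3 6 B hB b 0 (by norm_num) 77 (by rw [hα]; decide) (by decide)
  have h1 := sum_choose_inter_eq 3 6 B hB b 1 (by norm_num) 21 (by rw [hα]; decide) (by decide)
  rw [hB.1 b hb] at h0 h1
  have h := sum_two_sub_inter hα hB (allBlocks B) (fun x hx => (mem_allBlocks B x).mp hx) hb
  rw [if_pos ((mem_allBlocks B b).mpr hb), Finset.sum_sub_distrib] at h
  simp only [Nat.choose_one_right, Nat.choose_zero_right] at h0 h1
  rw [← Nat.cast_sum, h1, Finset.sum_const, nsmul_eq_mul] at h
  simp only [Finset.sum_const, smul_eq_mul, mul_one] at h0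
  rw [h0] at h
  norm_num [Nat.choose] at h
  omega

/-- through a point off a block there are exactly 6 blocks disjoint from it -/
theorem card_through_disjoint22 {b : Finset α} (hb : b ∈ B) {p : α} (hp : p ∉ b) :
    ((blocksThrough B {p}).filter (fun x => Disjoint b x)).card = 6 := by
  have hdisj : Disjoint ({p} : Finset α) b := Finset.disjoint_singleton_left.mpr hp
  have h0 := sum_choose_inter_through_eq 3 6 B hB {p} b hdisj 0 1 (by simp) (by norm_num) 21
    (by rw [hα]; decide) (by decide)
  have h1 := sum_choose_inter_through_eq 3 6 B hB {p} b hdisj 1 2 (by simp) (by norm_num) 5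
    (by rw [hα]; decide) (by decide)
  rw [hB.1 b hb] at h0 h1
  have hbX : b ∉ blocksThrough B {p} := by
    rw [mem_blocksThrough]
    rintro ⟨_, h⟩
    exact hp (Finset.singleton_subset_iff.mp h)
  have h := sum_two_sub_inter hα hB (blocksThrough B {p})
    (fun x hx => ((mem_blocksThrough B _ x).mp hx).1) hb
  rw [if_neg hbX, Finset.sum_sub_distrib] at h
  simp only [Nat.choose_one_right, Nat.choose_zero_right] at h0 h1
  rw [← Nat.cast_sum, h1, Finset.sum_const, nsmul_eq_mul] at h
  simp only [Finset.sum_const, smul_eq_mul, mul_one] at h0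
  rw [h0] at h
  norm_num [Nat.choose] at h
  omega

/-- the number of blocks disjoint from two distinct blocks `b`, `c` -/
theorem card_disjoint_both22 {b c : Finset α} (hb : b ∈ B) (hc : c ∈ B) (hbc : b ≠ c) :
    (((allBlocks B).filter (fun x => Disjoint b x)).filter (fun x => Disjoint c x)).card =
      if Disjoint b c then 0 else 4 := by
  set X := (allBlocks B).filter (fun x => Disjoint b x) with hXdef
  have hXB : ∀ x ∈ X, x ∈ B := fun x hx => (mem_allBlocks B x).mp (Finset.mem_filter.mp hx).1
  have hXcard : X.card = 16 := card_disjoint22 hα hB hb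
  -- double counting
  have hdc : ∑ x ∈ X, ((c \ b) ∩ x).card = (c \ b).card * 6 := by
    apply Finset.sum_card_inter
    intro a ha
    rw [Finset.mem_sdiff] at ha
    have : (X.filter (fun x => a ∈ x)) = (blocksThrough B {a}).filter (fun x => Disjoint b x) := by
      ext x
      simp only [hXdef, Finset.mem_filter, mem_blocksThrough,
        Finset.singleton_subset_iff]
      tauto
    rw [this]
    exact card_through_disjoint22 hα hB hb ha.2
  have hrw : ∀ x ∈ X, ((c \ b) ∩ x).card = (x ∩ c).card := by
    intro x hx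
    have hd : Disjoint b x := (Finset.mem_filter.mp hx).2
    congr 1
    ext a
    simp only [Finset.mem_inter, Finset.mem_sdiff]
    constructor
    · rintro ⟨⟨h1, _⟩, h3⟩; exact ⟨h3, h1⟩
    · rintro ⟨h1, h2⟩
      exact ⟨⟨h2, fun hab => (Finset.disjoint_left.mp hd) hab h1⟩, h1⟩
  rw [Finset.sum_congr rfl hrw] at hdc
  have h := sum_two_sub_inter hα hB X hXB hc
  rw [Finset.sum_sub_distrib, ← Nat.cast_sum, hdc, Finset.sum_const, nsmul_eq_mul, hXcard] at h
  have hcb : (c \ b).card + (c ∩ b).card = 6 := by
    rw [Finset.card_sdiff_add_card_inter, hB.1 c hc]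
  by_cases hd : Disjoint b c
  · rw [if_pos hd]
    have hcX : c ∈ X := Finset.mem_filter.mpr ⟨(mem_allBlocks B c).mpr hc, hd⟩
    rw [if_pos hcX] at h
    have : (c ∩ b).card = 0 := disjoint_iff_card_inter.mp hd
    have h6 : (c \ b).card = 6 := by omega
    rw [h6] at h
    push_cast at h
    omega
  · rw [if_neg hd]
    have hcX : c ∉ X := fun hcX => hd (Finset.mem_filter.mp hcX).2
    rw [if_neg hcX] at h
    have h2 : (c ∩ b).card = 2 := by
      rcases inter22 hα hB hc hb (Ne.symm hbc) with h0 | h2
      · exact absurd (disjoint_iff_card_inter.mpr h0) hd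
      · exact h2
    have h4 : (c \ b).card = 4 := by omega
    rw [h4] at h
    push_cast at h
    omega

end Steiner22

end Cfsg.Agent.Lib.Helper2
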