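/-
helper2: S2524, wave 3, leaf (F7) `isStabMap_of_t0`:
on the weight space of `a E_00` (`a ≠ 0`) of a (W)-module every linear map `V'_B → V_B` commuting with `t_0`
is a stabiliser map.  The stabiliser of `a E_00` in `GL_{k+1}` is `{[ε 0; w H]}`, `ε = ±1`, and
`[ε 0; w H] = t1G ε * [1 0; w 1] * upG H`; `[1 0; w 1]` acts trivially ((F3)), and every linear map
`T : V'_B → V_B` intertwines `LvG (upG H)`: `φ = ∑_c ρ (u c) ∘ wtProj B ∘ T ∘ wtProj' B ∘ ρ' (u c)⁻¹`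
(`u c = LvG [1 c; 0 1]`) is a `Q_1`-homomorphism which equals `T` on `V'_B`, so (F5) applies.
-/
import Mathlib
import Cfsg.Agent.Lib.Helper10.WGDefs
import Cfsg.Agent.Lib.Helper10.WGDefs2
import Cfsg.Agent.Lib.Helper17.WGWD
import Cfsg.Agent.Lib.Helper17.WGZD
import Cfsg.Agent.Lib.Helper23.WGLVW
import Cfsg.Agent.Lib.Helper23.WGINV
import Cfsg.Agent.Lib.Helper23.WGF3
import Cfsg.Agent.Lib.Helper29.WGLVH
import Cfsg.Agent.Lib.Helper29.WGIOTA
import Cfsg.Agent.Lib.Helper4.WGF5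

set_option autoImplicit false
set_option linter.unusedSectionVars false

namespace Cfsg.Agent.Lib.Helper2.WGF7

open Matrix Cfsg.Agent.Lib.Helper11.LS Cfsg.Agent.Lib.Helper10.WG

universe u

variable {F : Type*} [Field F] [Fintype F] [DecidableEq F]

/-! ### the matrices `[1 c; 0 1]` and `[1 0; w 1]` -/

section mats

variable {k : ℕ}

/-- `[1 c; 0 1]` -/
def rowM (c : Fin k → F) : Matrix (Fin (k + 1)) (Fin (k + 1)) F :=
  Matrix.of (Fin.cons (Fin.cons 1 c) (fun i => Fin.cons 0 ((1 : Matrix (Fin k) (Fin k) F) i)))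

@[simp] theorem rowM_zero_zero (c : Fin k → F) : rowM c 0 0 = 1 := rfl
@[simp] theorem rowM_zero_succ (c : Fin k → F) (j : Fin k) : rowM c 0 j.succ = c j := rfl
@[simp] theorem rowM_succ_zero (c : Fin k → F) (i : Fin k) : rowM c i.succ 0 = 0 := rfl
@[simp] theorem rowM_succ_succ (c : Fin k → F) (i j : Fin k) :
    rowM c i.succ j.succ = (1 : Matrix (Fin k) (Fin k) F) i j := rfl

theorem rowM_mul (c d : Fin k → F) : rowM c * rowM d = rowM (c + d) := by
  ext i j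
  refine Fin.cases ?_ (fun i' => ?_) i <;> refine Fin.cases ?_ (fun j' => ?_) j <;>
    simp [Matrix.mul_apply, Fin.sum_univ_succ, Matrix.one_apply, add_comm]

theorem rowM_zero : rowM (0 : Fin k → F) = 1 := by
  ext i j
  refine Fin.cases ?_ (fun i' => ?_) i <;> refine Fin.cases ?_ (fun j' => ?_) j <;>
    simp [Matrix.one_apply, Fin.succ_ne_zero, (Fin.succ_ne_zero _).symm]

/-- `[1 0; w 1]` -/
def colM (w : Fin k → F) : Matrix (Fin (k + 1)) (Fin (k + 1)) F :=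
  Matrix.of (Fin.cons (Fin.cons 1 0) (fun i => Fin.cons (w i) ((1 : Matrix (Fin k) (Fin k) F) i)))

@[simp] theorem colM_zero_zero (w : Fin k → F) : colM w 0 0 = 1 := rfl
@[simp] theorem colM_zero_succ (w : Fin k → F) (j : Fin k) : colM w 0 j.succ = 0 := rfl
@[simp] theorem colM_succ_zero (w : Fin k → F) (i : Fin k) : colM w i.succ 0 = w i := rfl
@[simp] theorem colM_succ_succ (w : Fin k → F) (i j : Fin k) :
    colM w i.succ j.succ = (1 : Matrix (Fin k) (Fin k) F) i j := rfl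

theorem colM_mul (w w' : Fin k → F) : colM w * colM w' = colM (w + w') := by
  ext i j
  refine Fin.cases ?_ (fun i' => ?_) i <;> refine Fin.cases ?_ (fun j' => ?_) j <;>
    simp [Matrix.mul_apply, Fin.sum_univ_succ, Matrix.one_apply]

theorem colM_zero : colM (0 : Fin k → F) = 1 := by
  ext i j
  refine Fin.cases ?_ (fun i' => ?_) i <;> refine Fin.cases ?_ (fun j' => ?_) j <;>
    simp [Matrix.one_apply, Fin.succ_ne_zero, (Fin.succ_ne_zero _).symm]

/-- the element `[1 c; 0 1]` of `GL_{k+1}` -/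
def uU (c : Fin k → F) : GL (Fin (k + 1)) F :=
  ⟨rowM c, rowM (-c), by rw [rowM_mul, add_neg_cancel, rowM_zero],
    by rw [rowM_mul, neg_add_cancel, rowM_zero]⟩

/-- the element `[1 0; w 1]` of `GL_{k+1}` -/
def lL (w : Fin k → F) : GL (Fin (k + 1)) F :=
  ⟨colM w, colM (-w), by rw [colM_mul, add_neg_cancel, colM_zero],
    by rw [colM_mul, neg_add_cancel, colM_zero]⟩

theorem uU_val (c : Fin k → F) :
    ((uU c : GL (Fin (k + 1)) F) : Matrix (Fin (k + 1)) (Fin (k + 1)) F) = rowM c := rfl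
theorem uU_inv_val (c : Fin k → F) :
    (((uU c)⁻¹ : GL (Fin (k + 1)) F) : Matrix (Fin (k + 1)) (Fin (k + 1)) F) = rowM (-c) := rfl

theorem uU_mul (c d : Fin k → F) : (uU c : GL (Fin (k + 1)) F) * uU d = uU (c + d) :=
  Units.ext (rowM_mul c d)

theorem uU_zero : (uU (0 : Fin k → F) : GL (Fin (k + 1)) F) = 1 := Units.ext rowM_zero

theorem uU_inv (c : Fin k → F) : (uU c : GL (Fin (k + 1)) F)⁻¹ = uU (-c) := Units.ext rfl

theorem lL_mul (w w' : Fin k → F) : (lL w : GL (Fin (k + 1)) F) * lL w' = lL (w + w') :=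
  Units.ext (colM_mul w w')

theorem lL_zero : (lL (0 : Fin k → F) : GL (Fin (k + 1)) F) = 1 := Units.ext colM_zero

theorem tvG_zero_succ (j : Fin k) (c : F) :
    tvG 0 j.succ (Fin.succ_ne_zero j).symm c = uU (Pi.single j c) := by
  apply Units.ext
  show (1 + single 0 j.succ c : Matrix (Fin (k + 1)) (Fin (k + 1)) F) = rowM (Pi.single j c)
  ext i l
  refine Fin.cases ?_ (fun i' => ?_) i <;> refine Fin.cases ?_ (fun l' => ?_) l <;>
    simp [Matrix.one_apply, Matrix.single_apply, Fin.succ_ne_zero, (Fin.succ_ne_zero _).symm,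
      Pi.single_apply, eq_comm]

theorem tvG_succ_zero (j : Fin k) (c : F) :
    tvG j.succ 0 (Fin.succ_ne_zero j) c = lL (Pi.single j c) := by
  apply Units.ext
  show (1 + single j.succ 0 c : Matrix (Fin (k + 1)) (Fin (k + 1)) F) = colM (Pi.single j c)
  ext i l
  refine Fin.cases ?_ (fun i' => ?_) i <;> refine Fin.cases ?_ (fun l' => ?_) l <;>
    simp [Matrix.one_apply, Matrix.single_apply, Fin.succ_ne_zero, (Fin.succ_ne_zero _).symm,
      Pi.single_apply, eq_comm]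

end mats

/-! ### the stabiliser of `a E_00` -/

section stab

variable {k : ℕ}

theorem conj_single_apply (M : Matrix (Fin (k + 1)) (Fin (k + 1)) F) (a : F) (i j : Fin (k + 1)) :
    (Mᵀ * (single 0 0 a : Matrix (Fin (k + 1)) (Fin (k + 1)) F) * M) i j = M 0 i * a * M 0 j := by
  rw [Matrix.mul_apply]
  rw [Finset.sum_eq_single 0]
  · rw [Matrix.mul_apply, Finset.sum_eq_single 0]
    · simp
    · intro l _ hl
      simp [hl.symm]
    · intro h; exact absurd (Finset.mem_univ _) h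
  · intro m _ hm
    have : (Mᵀ * (single 0 0 a : Matrix (Fin (k + 1)) (Fin (k + 1)) F)) i m = 0 := by
      rw [Matrix.mul_apply]
      apply Finset.sum_eq_zero
      intro l _
      simp [hm.symm]
    rw [this, zero_mul]
  · intro h; exact absurd (Finset.mem_univ _) h

theorem row_of_stab (M : Matrix (Fin (k + 1)) (Fin (k + 1)) F) (a : F) (ha : a ≠ 0)
    (hM : Mᵀ * (single 0 0 a : Matrix (Fin (k + 1)) (Fin (k + 1)) F) * M = single 0 0 a) :
    (M 0 0 = 1 ∨ M 0 0 = -1) ∧ ∀ j : Fin k, M 0 j.succ = 0 := by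
  constructor
  · have h := congrFun (congrFun hM 0) 0
    rw [conj_single_apply, single_apply_same] at h
    have h' : M 0 0 * M 0 0 = 1 := by
      have : a * (M 0 0 * M 0 0) = a * 1 := by rw [mul_one]; nth_rewrite 2 [← h]; ring
      exact mul_left_cancel₀ ha this
    exact mul_self_eq_one_iff.mp h'
  · intro j
    have h := congrFun (congrFun hM j.succ) j.succ
    rw [conj_single_apply, single_apply_of_row_ne (Fin.succ_ne_zero j).symm] at h
    have h' : M 0 j.succ * M 0 j.succ = 0 := by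
      have : a * (M 0 j.succ * M 0 j.succ) = 0 := by rw [← h]; ring
      exact (mul_eq_zero.mp this).resolve_left ha
    exact mul_self_eq_zero.mp h'

theorem upG_val (H : GL (Fin k) F) :
    ((upG H : GL (Fin (k + 1)) F) : Matrix (Fin (k + 1)) (Fin (k + 1)) F) =
      bd 1 (H : Matrix (Fin k) (Fin k) F) := rfl

theorem upG_inv_val (H : GL (Fin k) F) :
    (((upG H)⁻¹ : GL (Fin (k + 1)) F) : Matrix (Fin (k + 1)) (Fin (k + 1)) F) =
      bd 1 ((H⁻¹ : GL (Fin k) F) : Matrix (Fin k) (Fin k) F) := rfl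

/-- the stabiliser of `a E_00` in `GL_{k+1}` is `{t1G ε * [1 0; w 1] * upG H}`, `ε = ±1` -/
theorem exists_decomp (a : F) (ha : a ≠ 0) (g : GL (Fin (k + 1)) F)
    (hg : ((g⁻¹ : GL (Fin (k + 1)) F) : Matrix (Fin (k + 1)) (Fin (k + 1)) F)ᵀ * single 0 0 a *
      ((g⁻¹ : GL (Fin (k + 1)) F) : Matrix (Fin (k + 1)) (Fin (k + 1)) F) = single 0 0 a) :
    ∃ (ε : Fˣ) (w : Fin k → F) (H : GL (Fin k) F), (ε = 1 ∨ ε = -1) ∧
      g = t1G ε * lL w * upG H := by
  set G : Matrix (Fin (k + 1)) (Fin (k + 1)) F :=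
    (g : Matrix (Fin (k + 1)) (Fin (k + 1)) F) with hG
  set Gi : Matrix (Fin (k + 1)) (Fin (k + 1)) F :=
    ((g⁻¹ : GL (Fin (k + 1)) F) : Matrix (Fin (k + 1)) (Fin (k + 1)) F) with hGi
  have h1 : G * Gi = 1 := by rw [hG, hGi, ← Units.val_mul, mul_inv_cancel, Units.val_one]
  have h2 : Gi * G = 1 := by rw [hG, hGi, ← Units.val_mul, inv_mul_cancel, Units.val_one]
  have hg' : Gᵀ * single 0 0 a * G = single 0 0 a := by
    have : Gᵀ * (Giᵀ * single 0 0 a * Gi) * G = Gᵀ * single 0 0 a * G := by rw [hg]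
    rw [← this]
    have e1 : Gᵀ * (Giᵀ * single 0 0 a * Gi) * G =
        (Gi * G)ᵀ * single 0 0 a * (Gi * G) := by
      rw [transpose_mul]
      simp only [Matrix.mul_assoc]
    rw [e1, h2, transpose_one, Matrix.one_mul, Matrix.mul_one]
  obtain ⟨hG00, hGrow⟩ := row_of_stab G a ha hg'
  obtain ⟨_, hGirow⟩ := row_of_stab Gi a ha hg
  -- the lower right blocks
  let Hm : Matrix (Fin k) (Fin k) F := fun i j => G i.succ j.succ
  let Hi : Matrix (Fin k) (Fin k) F := fun i j => Gi i.succ j.succ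
  have hH1 : Hm * Hi = 1 := by
    ext i j
    have := congrFun (congrFun h1 i.succ) j.succ
    rw [Matrix.mul_apply, Fin.sum_univ_succ, hGirow j, mul_zero, zero_add] at this
    rw [Matrix.mul_apply, this, Matrix.one_apply, Matrix.one_apply]
    simp
  have hH2 : Hi * Hm = 1 := by
    ext i j
    have := congrFun (congrFun h2 i.succ) j.succ
    rw [Matrix.mul_apply, Fin.sum_univ_succ, hGrow j, mul_zero, zero_add] at this
    rw [Matrix.mul_apply, this, Matrix.one_apply, Matrix.one_apply]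
    simp
  have hne : G 0 0 ≠ 0 := by
    rcases hG00 with h | h <;> rw [h] <;> simp
  refine ⟨Units.mk0 (G 0 0) hne, fun i => G i.succ 0, ⟨Hm, Hi, hH1, hH2⟩, ?_, ?_⟩
  · rcases hG00 with h | h
    · left; apply Units.ext; simpa using h
    · right; apply Units.ext; simpa using h
  · apply Units.ext
    rw [Units.val_mul, Units.val_mul, Helper23.WGINV.t1G_val]
    show G = bd (G 0 0) 1 * colM (fun i => G i.succ 0) * bd 1 Hm
    ext i j
    refine Fin.cases ?_ (fun i' => ?_) i <;> refine Fin.cases ?_ (fun j' => ?_) j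
    · simp [Matrix.mul_apply, Fin.sum_univ_succ]
    · simp [Matrix.mul_apply, Fin.sum_univ_succ, hGrow j']
    · simp [Matrix.mul_apply, Fin.sum_univ_succ, Matrix.one_apply]
    · have e1 : bd (1 : F) Hm 0 j'.succ = 0 := rfl
      have e2 : bd (1 : F) Hm i'.succ j'.succ = Hm i' j' := rfl
      simp [Matrix.mul_apply, Fin.sum_univ_succ, Matrix.one_apply, e1, e2, Hm]

end stab

/-! ### representations -/

section reps

open Cfsg.Agent.Lib.Helper17.WGWD Cfsg.Agent.Lib.Helper29.WGLVH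

variable {k : ℕ} {V V' : Type u} [AddCommGroup V] [Module ℂ V] [AddCommGroup V'] [Module ℂ V']

/-- (F3) for the whole group `U'' = {[1 0; w 1]}` -/
theorem lL_fixed (h2 : (2 : F) ≠ 0) (ψ : AddChar F ℂ) (hψ : ψ.IsPrimitive)
    (ρ : Representation ℂ (SpG F (k + 1)) V) (hW : IsW ψ ρ) (a : F) (v : V)
    (hv : v ∈ wt ψ ρ (single 0 0 a)) (w : Fin k → F) : ρ (LvG (lL w)) v = v := by
  let S : AddSubmonoid (Fin k → F) :=
    { carrier := {w | ρ (LvG (lL w)) v = v}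
      zero_mem' := by
        show ρ (LvG (lL 0)) v = v
        rw [lL_zero, LvG_one, map_one, Module.End.one_apply]
      add_mem' := by
        intro x y hx hy
        show ρ (LvG (lL (x + y))) v = v
        rw [← lL_mul, LvG_mul, map_mul, Module.End.mul_apply, hy, hx] }
  have hmem : (∑ j, Pi.single j (w j)) ∈ S := by
    refine S.sum_mem fun j _ => ?_
    show ρ (LvG (lL (Pi.single j (w j)))) v = v
    rw [← tvG_succ_zero]
    exact Helper23.WGF3.lower_fixed_wt_single h2 ψ hψ ρ hW a v hv j (w j)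
  rw [Finset.univ_sum_single w] at hmem
  exact hmem

/-- conjugating a `Q`-homomorphism by an element of the Levi factor gives a `Q`-homomorphism -/
theorem comm_Xs_conj (ρ' : Representation ℂ (SpG F (k + 1)) V')
    (ρ : Representation ℂ (SpG F (k + 1)) V) (φ : V' →ₗ[ℂ] V)
    (hφ : ∀ (S : Matrix (Fin (k + 1)) (Fin (k + 1)) F) (hS : Sᵀ = S), Comm ρ' ρ φ (Xs S hS))
    (g : GL (Fin (k + 1)) F) (S : Matrix (Fin (k + 1)) (Fin (k + 1)) F) (hS : Sᵀ = S) :
    Comm ρ' ρ (ρ (LvG g) ∘ₗ φ ∘ₗ ρ' (LvG g⁻¹)) (Xs S hS) := by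
  intro x
  simp only [LinearMap.coe_comp, Function.comp_apply]
  have e1 : ρ' (LvG g⁻¹) (ρ' (Xs S hS) x) =
      ρ' (Xs (((g⁻¹ : GL (Fin (k + 1)) F) : Matrix (Fin (k + 1)) (Fin (k + 1)) F) * S *
        ((g⁻¹ : GL (Fin (k + 1)) F) : Matrix (Fin (k + 1)) (Fin (k + 1)) F)ᵀ)
        (by rw [transpose_mul, transpose_mul, transpose_transpose, hS, Matrix.mul_assoc]))
        (ρ' (LvG g⁻¹) x) := by
    rw [← Module.End.mul_apply, ← map_mul, LvG_mul_Xs, map_mul, Module.End.mul_apply]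
  rw [e1, hφ]
  rw [← Module.End.mul_apply (ρ (LvG g)), ← map_mul, LvG_mul_Xs, map_mul, Module.End.mul_apply]
  congr 2
  apply Helper23.WGINV.Xs_congr
  have hg : (g : Matrix (Fin (k + 1)) (Fin (k + 1)) F) *
      ((g⁻¹ : GL (Fin (k + 1)) F) : Matrix (Fin (k + 1)) (Fin (k + 1)) F) = 1 := by
    rw [← Units.val_mul, mul_inv_cancel, Units.val_one]
  have hg' : ((g⁻¹ : GL (Fin (k + 1)) F) : Matrix (Fin (k + 1)) (Fin (k + 1)) F)ᵀ *
      (g : Matrix (Fin (k + 1)) (Fin (k + 1)) F)ᵀ = 1 := by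
    rw [← transpose_mul, hg, transpose_one]
  calc (g : Matrix (Fin (k + 1)) (Fin (k + 1)) F) *
        (((g⁻¹ : GL (Fin (k + 1)) F) : Matrix (Fin (k + 1)) (Fin (k + 1)) F) * S *
          ((g⁻¹ : GL (Fin (k + 1)) F) : Matrix (Fin (k + 1)) (Fin (k + 1)) F)ᵀ) *
        (g : Matrix (Fin (k + 1)) (Fin (k + 1)) F)ᵀ
      = ((g : Matrix (Fin (k + 1)) (Fin (k + 1)) F) *
          ((g⁻¹ : GL (Fin (k + 1)) F) : Matrix (Fin (k + 1)) (Fin (k + 1)) F)) * S *
        (((g⁻¹ : GL (Fin (k + 1)) F) : Matrix (Fin (k + 1)) (Fin (k + 1)) F)ᵀ *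
          (g : Matrix (Fin (k + 1)) (Fin (k + 1)) F)ᵀ) := by
        simp only [Matrix.mul_assoc]
    _ = S := by rw [hg, hg', Matrix.one_mul, Matrix.mul_one]

/-- `wtProj B ∘ T ∘ wtProj' B` is a `Q`-homomorphism -/
theorem comm_Xs_proj (ψ : AddChar F ℂ) (ρ' : Representation ℂ (SpG F (k + 1)) V')
    (ρ : Representation ℂ (SpG F (k + 1)) V) (B : Matrix (Fin (k + 1)) (Fin (k + 1)) F)
    (T : V' →ₗ[ℂ] V) (S : Matrix (Fin (k + 1)) (Fin (k + 1)) F) (hS : Sᵀ = S) :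
    Comm ρ' ρ (wtProj ψ ρ B ∘ₗ T ∘ₗ wtProj ψ ρ' B) (Xs S hS) := by
  intro x
  simp only [LinearMap.coe_comp, Function.comp_apply]
  have hc : ∀ (S₂ : Matrix (Fin (k + 1)) (Fin (k + 1)) F) (hS₂ : S₂ᵀ = S₂),
      Comm ρ' ρ' (ρ' (Xs S hS)) (Xs S₂ hS₂) := by
    intro S₂ hS₂ y
    rw [← Module.End.mul_apply, ← Module.End.mul_apply, ← map_mul, ← map_mul, Xs_mul_Xs,
      Xs_mul_Xs]
    congr 2
    exact Xs_congr (add_comm _ _) _ _
  have e1 : wtProj ψ ρ' B (ρ' (Xs S hS) x) = ρ' (Xs S hS) (wtProj ψ ρ' B x) :=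
    (wtProj_comm ψ ρ' ρ' (ρ' (Xs S hS)) hc B x).symm
  rw [e1, (wtProj_mem ψ ρ' B x) S hS, map_smul, map_smul, (wtProj_mem ψ ρ B _) S hS]

/-- the averaged map `φ = ∑_c ρ (u c) ∘ wtProj B ∘ T ∘ wtProj' B ∘ ρ' (u c)⁻¹` -/
noncomputable def avg (ψ : AddChar F ℂ) (ρ' : Representation ℂ (SpG F (k + 1)) V')
    (ρ : Representation ℂ (SpG F (k + 1)) V) (B : Matrix (Fin (k + 1)) (Fin (k + 1)) F)
    (T : V' →ₗ[ℂ] V) : V' →ₗ[ℂ] V :=
  ∑ c : Fin k → F,
    ρ (LvG (uU c)) ∘ₗ (wtProj ψ ρ B ∘ₗ T ∘ₗ wtProj ψ ρ' B) ∘ₗ ρ' (LvG (uU c)⁻¹)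

theorem avg_apply (ψ : AddChar F ℂ) (ρ' : Representation ℂ (SpG F (k + 1)) V')
    (ρ : Representation ℂ (SpG F (k + 1)) V) (B : Matrix (Fin (k + 1)) (Fin (k + 1)) F)
    (T : V' →ₗ[ℂ] V) (x : V') :
    avg ψ ρ' ρ B T x = ∑ c : Fin k → F,
      ρ (LvG (uU c)) (wtProj ψ ρ B (T (wtProj ψ ρ' B (ρ' (LvG (uU c)⁻¹) x)))) := by
  simp only [avg, LinearMap.sum_apply, LinearMap.coe_comp, Function.comp_apply]

theorem avg_comm_Xs (ψ : AddChar F ℂ) (ρ' : Representation ℂ (SpG F (k + 1)) V')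
    (ρ : Representation ℂ (SpG F (k + 1)) V) (B : Matrix (Fin (k + 1)) (Fin (k + 1)) F)
    (T : V' →ₗ[ℂ] V) (S : Matrix (Fin (k + 1)) (Fin (k + 1)) F) (hS : Sᵀ = S) :
    Comm ρ' ρ (avg ψ ρ' ρ B T) (Xs S hS) := by
  intro x
  simp only [avg, LinearMap.sum_apply, map_sum]
  refine Finset.sum_congr rfl fun c _ => ?_
  exact comm_Xs_conj ρ' ρ _ (fun S' hS' => comm_Xs_proj ψ ρ' ρ B T S' hS') (uU c) S hS x

theorem avg_comm_uU (ψ : AddChar F ℂ) (ρ' : Representation ℂ (SpG F (k + 1)) V')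
    (ρ : Representation ℂ (SpG F (k + 1)) V) (B : Matrix (Fin (k + 1)) (Fin (k + 1)) F)
    (T : V' →ₗ[ℂ] V) (d : Fin k → F) :
    Comm ρ' ρ (avg ψ ρ' ρ B T) (LvG (uU d)) := by
  intro x
  rw [avg_apply, avg_apply, map_sum]
  -- reindex the right-hand side by `c ↦ c - d`
  rw [← Equiv.sum_comp (Equiv.subRight d)
    (fun c => ρ (LvG (uU d)) (ρ (LvG (uU c))
      (wtProj ψ ρ B (T (wtProj ψ ρ' B (ρ' (LvG (uU c)⁻¹) x))))))]
  refine Finset.sum_congr rfl fun c _ => ?_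
  simp only [Equiv.subRight_apply]
  have e1 : ρ' (LvG (uU c)⁻¹) (ρ' (LvG (uU d)) x) = ρ' (LvG (uU (c - d))⁻¹) x := by
    rw [← Module.End.mul_apply, ← map_mul, ← LvG_mul, uU_inv, uU_inv, uU_mul]
    congr 4
    abel
  have e2 : ∀ z : V, ρ (LvG (uU d)) (ρ (LvG (uU (c - d))) z) = ρ (LvG (uU c)) z := by
    intro z
    rw [← Module.End.mul_apply, ← map_mul, ← LvG_mul, uU_mul]
    congr 4
    abel
  rw [e1, e2]

theorem avg_eq (h2 : (2 : F) ≠ 0) (ψ : AddChar F ℂ) (hψ : ψ.IsPrimitive)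
    (ρ' : Representation ℂ (SpG F (k + 1)) V') (ρ : Representation ℂ (SpG F (k + 1)) V)
    (a : F) (ha : a ≠ 0) (T : V' →ₗ[ℂ] V)
    (hT : ∀ v ∈ wt ψ ρ' (single 0 0 a), T v ∈ wt ψ ρ (single 0 0 a))
    (v : V') (hv : v ∈ wt ψ ρ' (single 0 0 a)) :
    avg ψ ρ' ρ (single 0 0 a) T v = T v := by
  rw [avg_apply, Finset.sum_eq_single (0 : Fin k → F)]
  · rw [uU_zero, inv_one, LvG_one, map_one, map_one, Module.End.one_apply, Module.End.one_apply,
      wtProj_of_mem ψ ρ' _ v hv, wtProj_of_mem ψ ρ _ _ (hT v hv)]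
  · intro c _ hc
    have hy := Helper23.WGLVW.LvG_mem_wt ψ ρ' (uU c)⁻¹ (single 0 0 a) v hv
    rw [inv_inv, uU_val] at hy
    have hsym : ((rowM c)ᵀ * (single 0 0 a : Matrix (Fin (k + 1)) (Fin (k + 1)) F) * rowM c)ᵀ =
        (rowM c)ᵀ * single 0 0 a * rowM c := by
      rw [transpose_mul, transpose_mul, transpose_transpose, transpose_single, Matrix.mul_assoc]
    have hne : (single 0 0 a : Matrix (Fin (k + 1)) (Fin (k + 1)) F) ≠
        (rowM c)ᵀ * single 0 0 a * rowM c := by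
      intro h
      apply hc
      funext j
      have := congrFun (congrFun h 0) j.succ
      rw [conj_single_apply, single_apply_of_col_ne 0 0 (Fin.succ_ne_zero j).symm] at this
      simp only [rowM_zero_zero, one_mul, rowM_zero_succ] at this
      exact ((mul_eq_zero.mp this.symm).resolve_left ha)
    rw [wtProj_of_mem_ne h2 ψ hψ ρ' _ _ (transpose_single _ _ _) hsym hne _ hy, map_zero, map_zero,
      map_zero]
  · intro h; exact absurd (Finset.mem_univ _) h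

/-- every linear map `V'_B → V_B`, `B = a E_00`, `a ≠ 0`, intertwines the action of
`GL_k = {LvG (upG H)}` -/
theorem comm_upG (h2 : (2 : F) ≠ 0) (ψ : AddChar F ℂ) (hψ : ψ.IsPrimitive)
    (ρ' : Representation ℂ (SpG F (k + 1)) V') (ρ : Representation ℂ (SpG F (k + 1)) V)
    (hW' : IsW ψ ρ') (hW : IsW ψ ρ) (a : F) (ha : a ≠ 0) (T : V' →ₗ[ℂ] V)
    (hT : ∀ v ∈ wt ψ ρ' (single 0 0 a), T v ∈ wt ψ ρ (single 0 0 a))
    (H : GL (Fin k) F) (v : V') (hv : v ∈ wt ψ ρ' (single 0 0 a)) :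
    ρ' (LvG (upG H)) v ∈ wt ψ ρ' (single 0 0 a) ∧
      T (ρ' (LvG (upG H)) v) = ρ (LvG (upG H)) (T v) := by
  have hmem : ∀ {W : Type u} [AddCommGroup W] [Module ℂ W]
      (σ : Representation ℂ (SpG F (k + 1)) W) (x : W), x ∈ wt ψ σ (single 0 0 a) →
      σ (LvG (upG H)) x ∈ wt ψ σ (single 0 0 a) := by
    intro W _ _ σ x hx
    have := Helper23.WGLVW.LvG_mem_wt ψ σ (upG H) (single 0 0 a) x hx
    rw [upG_inv_val, Helper23.WGINV.single_zero_zero_eq_bd, bd_transpose, bd_mul, bd_mul, one_mul,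
      mul_one, Matrix.mul_zero, Matrix.zero_mul] at this
    rw [Helper23.WGINV.single_zero_zero_eq_bd]
    exact this
  refine ⟨hmem ρ' v hv, ?_⟩
  obtain ⟨ι, hι⟩ := Helper29.WGIOTA.exists_iota (F := F) k
  have hιL := (Helper29.WGIOTA.iota_gens ι hι).2.1 H
  set φ := avg ψ ρ' ρ (single 0 0 a) T with hφ
  have hz : v ∈ zsp ψ ρ' a := by
    have := Helper17.WGZD.wt_le_zsp ψ ρ' (single 0 0 a) hv
    rwa [single_apply_same] at this
  have key := Helper4.WGF5.comm_iota_on_zsp h2 ψ hψ ι hι ρ' ρ hW' hW φ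
    (fun c => avg_comm_Xs ψ ρ' ρ _ T _ _)
    (fun j c => avg_comm_Xs ψ ρ' ρ _ T _ _)
    (fun j c => by
      show Comm ρ' ρ φ (LvG (tvG 0 j.succ (Fin.succ_ne_zero j).symm c))
      rw [tvG_zero_succ]
      exact avg_comm_uU ψ ρ' ρ _ T _)
    a ha v hz (LvG H)
  rw [hιL] at key
  rw [hφ, avg_eq h2 ψ hψ ρ' ρ a ha T hT _ (hmem ρ' v hv), avg_eq h2 ψ hψ ρ' ρ a ha T hT v hv] at key
  exact key

end reps

variable {V V' : Type u} [AddCommGroup V] [Module ℂ V] [AddCommGroup V'] [Module ℂ V']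

/-- (F7) on the weight space of `a E_00` of a (W)-module a linear map commuting with `t_0` is a stabiliser
map. -/
theorem isStabMap_of_t0 {k : ℕ} (h2 : (2 : F) ≠ 0) (ψ : AddChar F ℂ) (hψ : ψ.IsPrimitive)
    (ρ' : Representation ℂ (SpG F (k + 1)) V') (ρ : Representation ℂ (SpG F (k + 1)) V)
    (hW' : IsW ψ ρ') (hW : IsW ψ ρ) (a : F) (ha : a ≠ 0) (T : V' →ₗ[ℂ] V)
    (hT : ∀ v ∈ wt ψ ρ' (single 0 0 a), T v ∈ wt ψ ρ (single 0 0 a))
    (hT0 : ∀ v ∈ wt ψ ρ' (single 0 0 a), T (ρ' t0 v) = ρ t0 (T v)) :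
    IsStabMap ψ ρ' ρ (single 0 0 a) T := by
  refine ⟨hT, fun g hg v hv => ?_⟩
  obtain ⟨ε, w, H, hε, rfl⟩ := exists_decomp a ha g hg
  obtain ⟨hmem, hcomm⟩ := comm_upG h2 ψ hψ ρ' ρ hW' hW a ha T hT H v hv
  have hmem2 : ρ (LvG (upG H)) (T v) ∈ wt ψ ρ (single 0 0 a) := by
    rw [← hcomm]; exact hT _ hmem
  rw [Helper29.WGLVH.LvG_mul, Helper29.WGLVH.LvG_mul, map_mul, map_mul, map_mul, map_mul,
    Module.End.mul_apply, Module.End.mul_apply, Module.End.mul_apply, Module.End.mul_apply,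
    lL_fixed h2 ψ hψ ρ' hW' a _ hmem w, lL_fixed h2 ψ hψ ρ hW a _ hmem2 w]
  rcases hε with rfl | rfl
  · have h1 : (t1G (1 : Fˣ) : GL (Fin (k + 1)) F) = 1 := by
      apply Units.ext
      rw [Helper23.WGINV.t1G_val, Units.val_one, bd_one, Units.val_one]
    rw [h1, Helper29.WGLVH.LvG_one, map_one, map_one, Module.End.one_apply, Module.End.one_apply,
      hcomm]
  · have := hT0 _ hmem
    rw [hcomm] at this
    exact this

end Cfsg.Agent.Lib.Helper2.WGF7
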