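/-
helper2: S2524, wave 3, leaf (TW) `exists_twist`:
the diagonal automorphism `δ` = conjugation by `diag(ν⁻¹ I, I)` of `Sp_{2n+2}`: `δ (Xs S) = Xs (ν⁻¹ S)`, so the
weight `B` of `ρ ∘ δ` is the weight `ν B` of `ρ`; `ν² E_00` is conjugate to `E_00` under `LvG (t1G ν)`.
-/
import Mathlib
import Cfsg.Agent.Lib.Helper10.WGDefs
import Cfsg.Agent.Lib.Helper10.WGDefs2
import Cfsg.Agent.Lib.Helper23.WGLVW
import Cfsg.Agent.Lib.Helper23.WGINV

set_option autoImplicit false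
set_option linter.unusedSectionVars false

namespace Cfsg.Agent.Lib.Helper2.WGTW

open Matrix Cfsg.Agent.Lib.Helper11.LS Cfsg.Agent.Lib.Helper10.WG

universe u

variable {F : Type*} [Field F] [Fintype F] [DecidableEq F]

section conj

variable {m : ℕ}

/-- `diag(c I, I)` -/
def dM (c : F) : Matrix (Fin m ⊕ Fin m) (Fin m ⊕ Fin m) F :=
  fromBlocks (c • (1 : Matrix (Fin m) (Fin m) F)) 0 0 1

theorem dM_mul (c d : F) : (dM c : Matrix (Fin m ⊕ Fin m) (Fin m ⊕ Fin m) F) * dM d = dM (c * d) := by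
  rw [dM, dM, dM, fromBlocks_multiply]
  simp [smul_smul, mul_comm]

theorem dM_one : (dM 1 : Matrix (Fin m ⊕ Fin m) (Fin m ⊕ Fin m) F) = 1 := by
  rw [dM, one_smul, fromBlocks_one]

theorem dM_transpose (c : F) : (dM c : Matrix (Fin m ⊕ Fin m) (Fin m ⊕ Fin m) F)ᵀ = dM c := by
  rw [dM, fromBlocks_transpose]
  simp

theorem dM_J (c : F) : (dM c : Matrix (Fin m ⊕ Fin m) (Fin m ⊕ Fin m) F) * J (Fin m) F * dM c =
    c • J (Fin m) F := by
  rw [dM, J, fromBlocks_multiply, fromBlocks_multiply, fromBlocks_smul]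
  simp

theorem conj_mem (c d : F) (hcd : c * d = 1) (A : Matrix (Fin m ⊕ Fin m) (Fin m ⊕ Fin m) F)
    (hA : A ∈ symplecticGroup (Fin m) F) : dM c * A * dM d ∈ symplecticGroup (Fin m) F := by
  rw [SymplecticGroup.mem_iff] at hA ⊢
  rw [transpose_mul, transpose_mul, dM_transpose, dM_transpose]
  have e : dM c * A * dM d * J (Fin m) F * (dM d * (Aᵀ * dM c)) =
      dM c * (A * (dM d * J (Fin m) F * dM d) * Aᵀ) * dM c := by
    simp only [Matrix.mul_assoc]
  rw [e, dM_J, Matrix.mul_smul, Matrix.smul_mul, hA, Matrix.mul_smul, Matrix.smul_mul, dM_J,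
    smul_smul, mul_comm d c, hcd, one_smul]

/-- conjugation by `diag(c I, I)` -/
def conjEquiv (c d : F) (hcd : c * d = 1) : SpG F m ≃* SpG F m where
  toFun g := ⟨dM c * g.1 * dM d, conj_mem c d hcd g.1 g.2⟩
  invFun g := ⟨dM d * g.1 * dM c, conj_mem d c (by rw [mul_comm]; exact hcd) g.1 g.2⟩
  left_inv g := by
    apply Subtype.ext
    show dM d * (dM c * g.1 * dM d) * dM c = g.1
    have e : dM d * (dM c * g.1 * dM d) * dM c = (dM d * dM c) * g.1 * (dM d * dM c) := by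
      simp only [Matrix.mul_assoc]
    rw [e, dM_mul, mul_comm d c, hcd, dM_one, Matrix.one_mul, Matrix.mul_one]
  right_inv g := by
    apply Subtype.ext
    show dM c * (dM d * g.1 * dM c) * dM d = g.1
    have e : dM c * (dM d * g.1 * dM c) * dM d = (dM c * dM d) * g.1 * (dM c * dM d) := by
      simp only [Matrix.mul_assoc]
    rw [e, dM_mul, hcd, dM_one, Matrix.one_mul, Matrix.mul_one]
  map_mul' g h := by
    apply Subtype.ext
    show dM c * (g.1 * h.1) * dM d = dM c * g.1 * dM d * (dM c * h.1 * dM d)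
    have e : dM c * g.1 * dM d * (dM c * h.1 * dM d) =
        dM c * g.1 * (dM d * dM c) * h.1 * dM d := by
      simp only [Matrix.mul_assoc]
    rw [e, dM_mul, mul_comm d c, hcd, dM_one, Matrix.mul_one]
    simp only [Matrix.mul_assoc]

theorem conjEquiv_Xs (c d : F) (hcd : c * d = 1) (S : Matrix (Fin m) (Fin m) F) (hS : Sᵀ = S) :
    conjEquiv c d hcd (Xs S hS) = Xs (c • S) (by rw [transpose_smul, hS]) := by
  apply Subtype.ext
  show dM c * fromBlocks 1 S 0 1 * dM d = fromBlocks 1 (c • S) 0 1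
  rw [dM, dM, fromBlocks_multiply, fromBlocks_multiply]
  have hdc : d * c = 1 := by rw [mul_comm]; exact hcd
  simp [smul_smul, hdc]

end conj

section wts

variable {n : ℕ} {V : Type u} [AddCommGroup V] [Module ℂ V]

theorem wt_comp (ψ : AddChar F ℂ) (c d : F) (hcd : c * d = 1)
    (ρ : Representation ℂ (SpG F n) V) (B : Matrix (Fin n) (Fin n) F) :
    wt ψ (MonoidHom.comp ρ (conjEquiv c d hcd).toMonoidHom : Representation ℂ (SpG F n) V) B =
      wt ψ ρ (d • B) := by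
  ext v
  constructor
  · intro hv S hS
    have h := hv (d • S) (by rw [transpose_smul, hS])
    have e : (MonoidHom.comp ρ (conjEquiv c d hcd).toMonoidHom) (Xs (d • S)
        (by rw [transpose_smul, hS])) = ρ (Xs S hS) := by
      show ρ (conjEquiv c d hcd (Xs (d • S) _)) = ρ (Xs S hS)
      rw [conjEquiv_Xs]
      congr 1
      exact Helper23.WGINV.Xs_congr _ _ (by rw [smul_smul, hcd, one_smul])
    rw [e] at h
    rw [h, Matrix.smul_mul, Matrix.mul_smul]
  · intro hv S hS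
    show ρ (conjEquiv c d hcd (Xs S hS)) v = _
    rw [conjEquiv_Xs, hv (c • S) (by rw [transpose_smul, hS]), Matrix.smul_mul, Matrix.mul_smul,
      smul_smul, mul_comm d c, hcd, one_smul]

theorem wt_ne_bot_of_conj (ψ : AddChar F ℂ) (ρ : Representation ℂ (SpG F n) V)
    (g : GL (Fin n) F) (B : Matrix (Fin n) (Fin n) F) (h : wt ψ ρ B ≠ ⊥) :
    wt ψ ρ (((g⁻¹ : GL (Fin n) F) : Matrix (Fin n) (Fin n) F)ᵀ * B *
      ((g⁻¹ : GL (Fin n) F) : Matrix (Fin n) (Fin n) F)) ≠ ⊥ := by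
  obtain ⟨v, hv, hv0⟩ := Submodule.exists_mem_ne_zero_of_ne_bot h
  intro hbot
  have hmem := Helper23.WGLVW.LvG_mem_wt ψ ρ g B v hv
  rw [hbot, Submodule.mem_bot] at hmem
  apply hv0
  have : ρ (LvG g)⁻¹ (ρ (LvG g) v) = v := by
    rw [← Module.End.mul_apply, ← map_mul, inv_mul_cancel, map_one, Module.End.one_apply]
  rw [← this, hmem, map_zero]

end wts

/-- (TW) the diagonal automorphism `δ` = conjugation by `diag(ν⁻¹ I, I)`. -/
theorem exists_twist {n : ℕ} (ψ : AddChar F ℂ) (ν : F) (hν0 : ν ≠ 0) :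
    ∃ δ : SpG F (n + 1) ≃* SpG F (n + 1),
      ∀ (V : Type u) [AddCommGroup V] [Module ℂ V] (ρ : Representation ℂ (SpG F (n + 1)) V),
        (wt ψ (MonoidHom.comp ρ δ.toMonoidHom : Representation ℂ (SpG F (n + 1)) V) (single 0 0 1) ≠ ⊥ ↔
          wt ψ ρ (single 0 0 ν) ≠ ⊥) ∧
        (wt ψ (MonoidHom.comp ρ δ.toMonoidHom : Representation ℂ (SpG F (n + 1)) V) (single 0 0 ν) ≠ ⊥ ↔
          wt ψ ρ (single 0 0 1) ≠ ⊥) := by
  refine ⟨conjEquiv ν⁻¹ ν (inv_mul_cancel₀ hν0), fun V _ _ ρ => ⟨?_, ?_⟩⟩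
  · rw [wt_comp, smul_single, smul_eq_mul, mul_one]
  · rw [wt_comp, smul_single, smul_eq_mul]
    have hu : ∀ t : Fˣ, ∀ c : F,
        (((t1G t)⁻¹ : GL (Fin (n + 1)) F) : Matrix (Fin (n + 1)) (Fin (n + 1)) F)ᵀ * single 0 0 c *
          (((t1G t)⁻¹ : GL (Fin (n + 1)) F) : Matrix (Fin (n + 1)) (Fin (n + 1)) F) =
        single 0 0 (((t⁻¹ : Fˣ) : F) * c * ((t⁻¹ : Fˣ) : F)) := by
      intro t c
      rw [Helper23.WGINV.t1G_inv_val, Helper23.WGINV.single_zero_zero_eq_bd,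
        Helper23.WGINV.single_zero_zero_eq_bd, bd_transpose, bd_mul, bd_mul, Matrix.mul_zero,
        Matrix.zero_mul]
    constructor
    · intro h
      have := wt_ne_bot_of_conj ψ ρ (t1G (Units.mk0 ν hν0)) _ h
      rw [hu] at this
      have e : (((Units.mk0 ν hν0)⁻¹ : Fˣ) : F) * (ν * ν) * (((Units.mk0 ν hν0)⁻¹ : Fˣ) : F) = 1 := by
        rw [Units.val_inv_eq_inv_val, Units.val_mk0]
        field_simp
      rwa [e] at this
    · intro h
      have := wt_ne_bot_of_conj ψ ρ (t1G (Units.mk0 ν hν0)⁻¹) _ h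
      rw [hu] at this
      have e : ((((Units.mk0 ν hν0)⁻¹)⁻¹ : Fˣ) : F) * 1 * ((((Units.mk0 ν hν0)⁻¹)⁻¹ : Fˣ) : F) =
          ν * ν := by
        rw [inv_inv, Units.val_mk0, mul_one]
      rwa [e] at this

end Cfsg.Agent.Lib.Helper2.WGTW
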