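import Mathlib
import Cfsg.Agent.Lib.Helper2.QuatGen
import Cfsg.Agent.Lib.Helper2.GLCard

/-!
# Sylow 2-subgroups of `SL_2(q)`, `q` odd, are generalised quaternion (helper2 library)
-/

set_option autoImplicit false

namespace Cfsg.Agent.Lib.Helper2

open Matrix

section SL2Quat

variable {F : Type*} [Field F]

/-- in `SL_2(F)`, `char F ≠ 2`, the only involution is `-1` -/
theorem sl2_eq_neg_one_of_mul_self (h2 : (2 : F) ≠ 0) (g : Matrix.SpecialLinearGroup (Fin 2) F)
    (hg : g * g = 1) (hne : g ≠ 1) : g = -1 := by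
  have hdet := g.2
  rw [Matrix.det_fin_two] at hdet
  have h00 := congrArg (fun M : Matrix.SpecialLinearGroup (Fin 2) F => M.1 0 0) hg
  have h01 := congrArg (fun M : Matrix.SpecialLinearGroup (Fin 2) F => M.1 0 1) hg
  have h10 := congrArg (fun M : Matrix.SpecialLinearGroup (Fin 2) F => M.1 1 0) hg
  have h11 := congrArg (fun M : Matrix.SpecialLinearGroup (Fin 2) F => M.1 1 1) hg
  simp only [Matrix.SpecialLinearGroup.coe_mul, Matrix.mul_apply, Fin.sum_univ_two,
    Matrix.SpecialLinearGroup.coe_one, Matrix.one_apply_eq, ne_eq, zero_ne_one, not_false_eq_true,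
    Matrix.one_apply_ne, one_ne_zero] at h00 h01 h10 h11
  set a := g.1 0 0
  set b := g.1 0 1
  set c := g.1 1 0
  set d := g.1 1 1
  have hsum : a + d ≠ 0 := by
    intro h
    have hd : d = -a := by linear_combination h
    apply h2
    rw [hd] at hdet h11
    linear_combination (-1 : F) * h00 - hdet
  have hb : b = 0 := by
    have : b * (a + d) = 0 := by linear_combination h01
    rcases mul_eq_zero.mp this with h | h
    · exact h
    · exact absurd h hsum
  have hc : c = 0 := by
    have : c * (a + d) = 0 := by linear_combination h10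
    rcases mul_eq_zero.mp this with h | h
    · exact h
    · exact absurd h hsum
  rw [hb, hc] at hdet h00 h11
  have had : a = d := by
    have h1 : a * (a - d) = 0 := by linear_combination h00 - hdet
    rcases mul_eq_zero.mp h1 with h | h
    · rw [h] at hdet; simp at hdet
    · linear_combination h
  have ha : a = 1 ∨ a = -1 := by
    have : (a - 1) * (a + 1) = 0 := by linear_combination h00
    rcases mul_eq_zero.mp this with h | h
    · left; linear_combination h
    · right; linear_combination h
  rcases ha with ha | ha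
  · exfalso
    apply hne
    ext i j
    fin_cases i <;> fin_cases j
    · exact ha
    · exact hb
    · exact hc
    · show d = 1
      rw [← had, ha]
  · ext i j
    fin_cases i <;> fin_cases j
    · show a = (-1 : Matrix.SpecialLinearGroup (Fin 2) F).1 0 0
      rw [ha]; simp
    · show b = (-1 : Matrix.SpecialLinearGroup (Fin 2) F).1 0 1
      rw [hb]; simp
    · show c = (-1 : Matrix.SpecialLinearGroup (Fin 2) F).1 1 0
      rw [hc]; simp
    · show d = (-1 : Matrix.SpecialLinearGroup (Fin 2) F).1 1 1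
      rw [← had, ha]; simp

/-- a quaternion subgroup of `SL_2(F)` from a pair of generators -/
theorem sl2_exists_quaternion (h2 : (2 : F) ≠ 0) {n : ℕ} (hn : 2 ≤ n)
    (t w : Matrix.SpecialLinearGroup (Fin 2) F) (ht : orderOf t = 2 * n) (hw : w * w = -1)
    (htw : t * w * t = w) :
    ∃ H : Subgroup (Matrix.SpecialLinearGroup (Fin 2) F),
      Nonempty (H ≃* QuaternionGroup n) ∧ Nat.card H = 4 * n := by
  have hs : t ^ n = -1 := by
    apply sl2_eq_neg_one_of_mul_self h2
    · rw [← pow_add, ← two_mul, ← ht, pow_orderOf_eq_one]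
    · apply pow_ne_one_of_lt_orderOf (by omega)
      rw [ht]; omega
  have hconj : w * t * w⁻¹ = t⁻¹ := by
    calc w * t * w⁻¹ = t⁻¹ * (t * w * t) * w⁻¹ := by group
      _ = t⁻¹ * w * w⁻¹ := by rw [htw]
      _ = t⁻¹ := by group
  exact exists_quaternion_subgroup hn ht (by rw [hw, hs]) hconj

/-- the diagonal torus -/
def diagSL (u : Fˣ) : Matrix.SpecialLinearGroup (Fin 2) F :=
  ⟨!![(u : F), 0; 0, ((u⁻¹ : Fˣ) : F)], by simp [Matrix.det_fin_two]⟩

theorem diagSL_mul (u v : Fˣ) : diagSL (u * v) = diagSL u * diagSL v := by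
  apply Subtype.ext
  rw [Matrix.SpecialLinearGroup.coe_mul]
  simp only [diagSL]
  ext i j
  fin_cases i <;> fin_cases j <;>
    simp [Matrix.mul_apply, Fin.sum_univ_two, mul_comm]

/-- the diagonal torus as a homomorphism -/
def diagSLHom : Fˣ →* Matrix.SpecialLinearGroup (Fin 2) F where
  toFun := diagSL
  map_one' := by
    ext i j
    fin_cases i <;> fin_cases j <;> simp [diagSL]
  map_mul' := diagSL_mul

theorem diagSLHom_injective : Function.Injective (diagSLHom (F := F)) := by
  intro u v h
  have h00 := congrArg (fun M : Matrix.SpecialLinearGroup (Fin 2) F => M.1 0 0) h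
  simp [diagSLHom, diagSL] at h00
  exact Units.ext h00

/-- the Weyl element -/
def weylSL : Matrix.SpecialLinearGroup (Fin 2) F :=
  ⟨!![0, 1; -1, 0], by simp [Matrix.det_fin_two]⟩

theorem weylSL_mul_self : (weylSL : Matrix.SpecialLinearGroup (Fin 2) F) * weylSL = -1 := by
  apply Subtype.ext
  rw [Matrix.SpecialLinearGroup.coe_mul, Matrix.SpecialLinearGroup.coe_neg,
    Matrix.SpecialLinearGroup.coe_one]
  simp only [weylSL]
  ext i j
  fin_cases i <;> fin_cases j <;>
    simp [Matrix.mul_apply, Fin.sum_univ_two]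

theorem diag_weyl_diag (u : Fˣ) : diagSL u * weylSL * diagSL u = weylSL := by
  apply Subtype.ext
  rw [Matrix.SpecialLinearGroup.coe_mul, Matrix.SpecialLinearGroup.coe_mul]
  simp only [weylSL, diagSL]
  ext i j
  fin_cases i <;> fin_cases j <;>
    simp [Matrix.mul_apply, Fin.sum_univ_two]

section nonsplit

variable {a b : F}

/-- the matrix of multiplication by `z` on the basis `1, ω` -/
def matK (z : QuadraticAlgebra F a b) : Matrix (Fin 2) (Fin 2) F :=
  !![z.re, a * z.im; z.im, z.re + b * z.im]

theorem matK_mul (z w : QuadraticAlgebra F a b) : matK (z * w) = matK z * matK w := by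
  ext i j
  fin_cases i <;> fin_cases j <;>
    simp [matK, Matrix.mul_apply, Fin.sum_univ_two] <;> ring

theorem matK_one : matK (1 : QuadraticAlgebra F a b) = 1 := by
  ext i j
  fin_cases i <;> fin_cases j <;> simp [matK, QuadraticAlgebra.re_one, QuadraticAlgebra.im_one]

theorem det_matK (z : QuadraticAlgebra F a b) : (matK z).det = QuadraticAlgebra.norm z := by
  rw [Matrix.det_fin_two, QuadraticAlgebra.norm_def]
  simp [matK]
  ring

theorem matK_injective : Function.Injective (matK (F := F) (a := a) (b := b)) := by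
  intro z w h
  have h00 := congrFun (congrFun h 0) 0
  have h10 := congrFun (congrFun h 1) 0
  simp [matK] at h00 h10
  exact QuadraticAlgebra.ext h00 h10

/-- multiplication matrices as a monoid homomorphism -/
def matKHom : QuadraticAlgebra F a b →* Matrix (Fin 2) (Fin 2) F where
  toFun := matK
  map_one' := matK_one
  map_mul' := matK_mul

/-- elements of norm one, as elements of `SL_2` -/
def slK (z : QuadraticAlgebra F a b) (hz : QuadraticAlgebra.norm z = 1) :
    Matrix.SpecialLinearGroup (Fin 2) F :=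
  ⟨matK z, by rw [det_matK, hz]⟩

theorem orderOf_slK (z : (QuadraticAlgebra F a b)ˣ)
    (hz : QuadraticAlgebra.norm (z : QuadraticAlgebra F a b) = 1) :
    orderOf (slK (z : QuadraticAlgebra F a b) hz) = orderOf z := by
  apply orderOf_eq_orderOf_iff.mpr
  intro j
  have h1 : ((slK (z : QuadraticAlgebra F a b) hz) ^ j).1 =
      matK (((z ^ j : (QuadraticAlgebra F a b)ˣ)) : QuadraticAlgebra F a b) := by
    rw [Matrix.SpecialLinearGroup.coe_pow, Units.val_pow_eq_pow_val]
    exact (map_pow matKHom (z : QuadraticAlgebra F a b) j).symm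
  constructor
  · intro h
    have h2 : matK (((z ^ j : (QuadraticAlgebra F a b)ˣ)) : QuadraticAlgebra F a b) =
        matK (1 : QuadraticAlgebra F a b) := by
      rw [← h1, h, matK_one]; rfl
    exact Units.ext (matK_injective h2)
  · intro h
    apply Subtype.ext
    rw [h1, h, Units.val_one, matK_one]
    rfl

variable [Fintype F]

/-- an element of norm one with prescribed order dividing `q + 1` -/
theorem exists_norm_one_of_order [Fact (∀ r : F, r ^ 2 ≠ a + b * r)] (d : ℕ)
    (hd : d ∣ Fintype.card F + 1) :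
    ∃ z : (QuadraticAlgebra F a b)ˣ, orderOf z = d ∧
      QuadraticAlgebra.norm (z : QuadraticAlgebra F a b) = 1 := by
  classical
  set q := Fintype.card F with hq
  have hq1 : 1 < q := Fintype.one_lt_card
  let _ : Fintype (QuadraticAlgebra F a b) :=
    Fintype.ofEquiv (F × F) (QuadraticAlgebra.equivProd a b).symm
  have hK : Fintype.card (QuadraticAlgebra F a b) = q * q := by
    rw [Fintype.card_congr (QuadraticAlgebra.equivProd a b), Fintype.card_prod]
  have hKu : Nat.card (QuadraticAlgebra F a b)ˣ = (q - 1) * (q + 1) := by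
    rw [Nat.card_eq_fintype_card, Fintype.card_units, hK]
    obtain ⟨r, hr⟩ : ∃ r, q = r + 1 := ⟨q - 1, by omega⟩
    rw [hr]
    simp only [Nat.add_sub_cancel]
    have : (r + 1) * (r + 1) = r * (r + 1 + 1) + 1 := by ring
    rw [this, Nat.add_sub_cancel]
  obtain ⟨γ, hγ⟩ := IsCyclic.exists_generator (α := (QuadraticAlgebra F a b)ˣ)
  have hoγ : orderOf γ = (q - 1) * (q + 1) := by
    rw [← hKu]
    exact orderOf_eq_card_of_forall_mem_zpowers hγ
  obtain ⟨e, he⟩ := hd
  have hdpos : 0 < d := by
    rcases Nat.eq_zero_or_pos d with h | h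
    · rw [h, zero_mul] at he; omega
    · exact h
  have hepos : 0 < e := by
    rcases Nat.eq_zero_or_pos e with h | h
    · rw [h, mul_zero] at he; omega
    · exact h
  refine ⟨γ ^ ((q - 1) * e), ?_, ?_⟩
  · rw [orderOf_pow_of_dvd (by
      have : 0 < q - 1 := by omega
      positivity) (by rw [hoγ, he]; exact ⟨d, by ring⟩), hoγ, he]
    have : (q - 1) * (d * e) = d * ((q - 1) * e) := by ring
    rw [this, Nat.mul_div_cancel]
    have : 0 < q - 1 := by omega
    positivity
  · rw [Units.val_pow_eq_pow_val, map_pow, pow_mul]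
    have hne : QuadraticAlgebra.norm (γ : QuadraticAlgebra F a b) ≠ 0 := by
      rw [Ne, QuadraticAlgebra.norm_eq_zero_iff_eq_zero]
      exact γ.ne_zero
    rw [FiniteField.pow_card_sub_one_eq_one _ hne, one_pow]

end nonsplit

section final

variable [Fintype F]

theorem card_SL2 : Nat.card (Matrix.SpecialLinearGroup (Fin 2) F) =
    Fintype.card F * (Fintype.card F - 1) * (Fintype.card F + 1) := by
  have h := card_SL_field (F := F) 2 (by norm_num)
  rw [Fin.prod_univ_two] at h
  have hq1 : 1 < Fintype.card F := Fintype.one_lt_card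
  obtain ⟨r, hr⟩ : ∃ r, Fintype.card F = r + 1 := ⟨Fintype.card F - 1, by omega⟩
  rw [hr] at h ⊢
  simp only [Nat.add_sub_cancel, Fin.val_zero, pow_zero, Fin.val_one, pow_one] at h ⊢
  have h1 : (r + 1) ^ 2 - 1 = r * (r + 2) := by
    have : (r + 1) ^ 2 = r * (r + 2) + 1 := by ring
    rw [this, Nat.add_sub_cancel]
  have h2 : (r + 1) ^ 2 - (r + 1) = (r + 1) * r := by
    have : (r + 1) ^ 2 = (r + 1) * r + (r + 1) := by ring
    rw [this, Nat.add_sub_cancel]
  rw [h1, h2] at h
  have hr0 : 0 < r := by omega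
  have : r * Nat.card (Matrix.SpecialLinearGroup (Fin 2) F) = r * ((r + 1) * r * (r + 1 + 1)) := by
    rw [h]; ring
  exact Nat.eq_of_mul_eq_mul_left hr0 this

theorem factorization_two_pow_mul_odd (e r : ℕ) (hr : Odd r) :
    (2 ^ e * r).factorization 2 = e := by
  have hr0 : r ≠ 0 := by
    rintro rfl
    exact absurd hr (by decide)
  rw [Nat.factorization_mul (by positivity) hr0, Nat.factorization_pow]
  have h2 : r.factorization 2 = 0 := by
    apply Nat.factorization_eq_zero_of_not_dvd
    rw [← even_iff_two_dvd, Nat.not_even_iff_odd]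
    exact hr
  simp [Nat.Prime.factorization_self Nat.prime_two, h2]

/-- the exact power of two dividing `n` when `4 ∣ n` -/
theorem exists_two_pow_mul_odd_of_four_dvd {n : ℕ} (hn : n ≠ 0) (h4 : 4 ∣ n) :
    ∃ k m : ℕ, 1 ≤ k ∧ Odd m ∧ n = 2 ^ (k + 1) * m := by
  obtain ⟨j, m, hm, hjm⟩ := Nat.exists_eq_two_pow_mul_odd hn
  have hj : 2 ≤ j := by
    by_contra hlt
    push Not at hlt
    obtain ⟨c, hc⟩ := hm
    interval_cases j
    · rw [pow_zero, one_mul] at hjm; omega
    · rw [pow_one] at hjm; omega
  exact ⟨j - 1, m, by omega, hm, by rw [hjm]; congr 2; omega⟩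

theorem sl2_exists_sylow_quaternion (hodd : Odd (Fintype.card F)) :
    ∃ (k : ℕ) (H : Subgroup (Matrix.SpecialLinearGroup (Fin 2) F)), 1 ≤ k ∧
      Nonempty (H ≃* QuaternionGroup (2 ^ k)) ∧
      Nat.card H = 2 ^ (Nat.card (Matrix.SpecialLinearGroup (Fin 2) F)).factorization 2 := by
  classical
  set q := Fintype.card F with hq
  have hq1 : 1 < q := Fintype.one_lt_card
  have h2 : (2 : F) ≠ 0 := by
    intro h
    have hchar : ringChar F = 2 :=
      CharP.ringChar_of_prime_eq_zero Nat.prime_two (by exact_mod_cast h)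
    have h2q := FiniteField.even_card_of_char_two hchar
    rw [← hq] at h2q
    rcases hodd with ⟨c, hc⟩
    omega
  have hcard := card_SL2 (F := F)
  rw [← hq] at hcard
  obtain ⟨c, hc⟩ := hodd
  have hmod : q % 4 = 1 ∨ q % 4 = 3 := by omega
  rcases hmod with hmod | hmod
  · -- split torus
    obtain ⟨k, m, hk, hm, hkm⟩ := exists_two_pow_mul_odd_of_four_dvd (n := q - 1) (by omega)
      (by omega)
    have hm' : Odd ((q + 1) / 2) := by
      rw [Nat.odd_iff]; omega
    have hq2 : q + 1 = 2 * ((q + 1) / 2) := by omega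
    have hfac : (Nat.card (Matrix.SpecialLinearGroup (Fin 2) F)).factorization 2 = k + 2 := by
      rw [hcard, hkm, hq2]
      have : q * (2 ^ (k + 1) * m) * (2 * ((q + 1) / 2)) =
          2 ^ (k + 2) * (q * m * ((q + 1) / 2)) := by ring
      rw [this]
      apply factorization_two_pow_mul_odd
      exact (Odd.mul (Odd.mul ⟨c, hc⟩ hm) hm')
    -- an element of order 2^(k+1) in Fˣ
    have hcu : Nat.card Fˣ = q - 1 := by
      rw [Nat.card_eq_fintype_card, Fintype.card_units]
    obtain ⟨ζ, hζ⟩ := IsCyclic.exists_generator (α := Fˣ)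
    have hoζ : orderOf ζ = 2 ^ (k + 1) * m := by
      rw [← hkm, ← hcu]
      exact orderOf_eq_card_of_forall_mem_zpowers hζ
    have hm0 : m ≠ 0 := by
      rintro rfl
      exact absurd hm (by decide)
    have hoa : orderOf (ζ ^ m) = 2 * 2 ^ k := by
      rw [orderOf_pow_of_dvd hm0 (by rw [hoζ]; exact Dvd.intro_left _ rfl), hoζ,
        Nat.mul_div_cancel _ (Nat.pos_of_ne_zero hm0), pow_succ, mul_comm]
    have hot : orderOf (diagSLHom (ζ ^ m)) = 2 * 2 ^ k := by
      rw [orderOf_injective diagSLHom diagSLHom_injective, hoa]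
    obtain ⟨H, hH, hHc⟩ := sl2_exists_quaternion h2 (n := 2 ^ k)
      (by calc 2 = 2 ^ 1 := rfl
            _ ≤ 2 ^ k := Nat.pow_le_pow_right (by norm_num) hk)
      (diagSLHom (ζ ^ m)) weylSL hot weylSL_mul_self (diag_weyl_diag _)
    refine ⟨k, H, hk, hH, ?_⟩
    rw [hHc, hfac, pow_add]
    ring
  · -- non-split torus
    obtain ⟨k, m, hk, hm, hkm⟩ := exists_two_pow_mul_odd_of_four_dvd (n := q + 1) (by omega)
      (by omega)
    have hm' : Odd ((q - 1) / 2) := by
      rw [Nat.odd_iff]; omega
    have hq2 : q - 1 = 2 * ((q - 1) / 2) := by omega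
    have hfac : (Nat.card (Matrix.SpecialLinearGroup (Fin 2) F)).factorization 2 = k + 2 := by
      rw [hcard, hkm, hq2]
      have : q * (2 * ((q - 1) / 2)) * (2 ^ (k + 1) * m) =
          2 ^ (k + 2) * (q * ((q - 1) / 2) * m) := by ring
      rw [this]
      apply factorization_two_pow_mul_odd
      exact (Odd.mul (Odd.mul ⟨c, hc⟩ hm') hm)
    have hns : ¬ IsSquare (-1 : F) := by
      rw [FiniteField.isSquare_neg_one_iff, ← hq]
      omega
    have hfact : Fact (∀ r : F, r ^ 2 ≠ (-1 : F) + 0 * r) := ⟨by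
      intro r hr
      apply hns
      exact ⟨r, by rw [← pow_two, hr]; ring⟩⟩
    obtain ⟨z, hoz, hnz⟩ := exists_norm_one_of_order (F := F) (a := (-1 : F)) (b := 0)
      (2 * 2 ^ k) (by rw [← hq, hkm, pow_succ, mul_comm (2 ^ k) 2]; exact Dvd.intro _ rfl)
    have hot : orderOf (slK (z : QuadraticAlgebra F (-1) 0) hnz) = 2 * 2 ^ k := by
      rw [orderOf_slK, hoz]
    -- the element w
    have hp : NeZero (ringChar F) := ⟨CharP.char_ne_zero_of_finite F (ringChar F)⟩
    obtain ⟨u', v', huv⟩ := CharP.sq_add_sq F (ringChar F) (-1)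
    set u : F := (u' : F)
    set v : F := (v' : F)
    have huv' : u ^ 2 + v ^ 2 = -1 := by
      rw [huv]; simp
    let w : Matrix.SpecialLinearGroup (Fin 2) F :=
      ⟨!![u, v; v, -u], by rw [Matrix.det_fin_two]; simp; linear_combination (-1 : F) * huv'⟩
    have hw : w * w = -1 := by
      apply Subtype.ext
      rw [Matrix.SpecialLinearGroup.coe_mul, Matrix.SpecialLinearGroup.coe_neg,
        Matrix.SpecialLinearGroup.coe_one]
      show (!![u, v; v, -u] : Matrix (Fin 2) (Fin 2) F) * !![u, v; v, -u] = -1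
      ext i j
      fin_cases i <;> fin_cases j <;> simp [Matrix.mul_apply, Fin.sum_univ_two]
      · linear_combination huv'
      · ring
      · ring
      · linear_combination huv'
    have hxy : (z : QuadraticAlgebra F (-1) 0).re ^ 2 + (z : QuadraticAlgebra F (-1) 0).im ^ 2 = 1 := by
      have h := hnz
      rw [QuadraticAlgebra.norm_def] at h
      linear_combination h
    have htw : slK (z : QuadraticAlgebra F (-1) 0) hnz * w * slK (z : QuadraticAlgebra F (-1) 0) hnz
        = w := by
      apply Subtype.ext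
      rw [Matrix.SpecialLinearGroup.coe_mul, Matrix.SpecialLinearGroup.coe_mul]
      show matK (z : QuadraticAlgebra F (-1) 0) * (!![u, v; v, -u] : Matrix (Fin 2) (Fin 2) F) *
        matK (z : QuadraticAlgebra F (-1) 0) = !![u, v; v, -u]
      set x := (z : QuadraticAlgebra F (-1) 0).re
      set y := (z : QuadraticAlgebra F (-1) 0).im
      ext i j
      fin_cases i <;> fin_cases j <;> simp [matK, Matrix.mul_apply, Fin.sum_univ_two]
      · linear_combination u * hxy
      · linear_combination v * hxy
      · linear_combination v * hxy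
      · linear_combination (-u) * hxy
    obtain ⟨H, hH, hHc⟩ := sl2_exists_quaternion h2 (n := 2 ^ k)
      (by calc 2 = 2 ^ 1 := rfl
            _ ≤ 2 ^ k := Nat.pow_le_pow_right (by norm_num) hk)
      (slK (z : QuadraticAlgebra F (-1) 0) hnz) w hot hw htw
    refine ⟨k, H, hk, hH, ?_⟩
    rw [hHc, hfac, pow_add]
    ring

end final

end SL2Quat

end Cfsg.Agent.Lib.Helper2
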