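import Mathlib
import Cfsg.Prelude.Def_ClassicalGeometry
import Cfsg.Prelude.Def_GeometricClasses
import Cfsg.Agent.Lib.Helper2.SOTGDefs
import Cfsg.Agent.Lib.Helper25.OTDefs

/-!
S5681 / S5709 (`O_a ⊗ O_b` maximal in `Ω`), PART (GA'): the global fixed-point argument for totally
singular lines of the root side `B`.  Definitions (on helper25's `OTDefs`) + the basic calculus of the
nilpotent `N_L = 1 ⊗ ν_L`.  Paper proof: `notes/S5681_GA_plan.md`.
-/

set_option autoImplicit false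
set_option linter.unusedSectionVars false
set_option linter.unusedVariables false

namespace Cfsg.Agent.Lib.Helper2.OTG
open Matrix Module
open Cfsg.Agent.Lib.Helper25.Tens Cfsg.Agent.Lib.Helper19.OSub Cfsg.Agent.Lib.Helper25.OT
open Cfsg.Agent.Lib.Helper2.SOT (fB gim mem_gim fB_add_left fB_add_right fB_smul_left fB_smul_right
  fB_comm)
open scoped Kronecker

variable {F : Type*} [Field F] {a b : ℕ}

/-- orthogonal complement with respect to `fV G1 G2` -/
def perpW (G1 : Matrix (Fin a) (Fin a) F) (G2 : Matrix (Fin b) (Fin b) F)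
    (W : Submodule F (Idx a b → F)) : Submodule F (Idx a b → F) where
  carrier := {v | ∀ w ∈ W, fV G1 G2 v w = 0}
  add_mem' {u v} hu hv w hw := by rw [fV_add_left, hu w hw, hv w hw, add_zero]
  zero_mem' w hw := fV_zero_left G1 G2 w
  smul_mem' c v hv w hw := by rw [fV_smul_left, hv w hw, mul_zero]

lemma mem_perpW {G1 : Matrix (Fin a) (Fin a) F} {G2 : Matrix (Fin b) (Fin b) F}
    {W : Submodule F (Idx a b → F)} {v : Idx a b → F} :
    v ∈ perpW G1 G2 W ↔ ∀ w ∈ W, fV G1 G2 v w = 0 := Iff.rfl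

/-- `A ⊗ D` for a subspace `D` of `B`: all rows of `v` (as an `a × b` matrix) lie in `D` -/
def AT {a : ℕ} (D : Submodule F (Fin b → F)) : Submodule F (Idx a b → F) where
  carrier := {v | ∀ i : Fin a, (fun k : Fin b => v (i, k)) ∈ D}
  add_mem' {u v} hu hv i := D.add_mem (hu i) (hv i)
  zero_mem' i := D.zero_mem
  smul_mem' c v hv i := D.smul_mem c (hv i)

lemma mem_AT {D : Submodule F (Fin b → F)} {v : Idx a b → F} :
    v ∈ (AT D : Submodule F (Idx a b → F)) ↔ ∀ i : Fin a, (fun k : Fin b => v (i, k)) ∈ D :=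
  Iff.rfl

/-! ### `A ⊗ D` -/

lemma AT_mono {a : ℕ} {D D' : Submodule F (Fin b → F)} (h : D ≤ D') :
    (AT D : Submodule F (Idx a b → F)) ≤ AT D' := fun v hv i => h (hv i)

lemma pt_mem_AT {D : Submodule F (Fin b → F)} (x : Fin a → F) {d : Fin b → F} (hd : d ∈ D) :
    pt x d ∈ (AT D : Submodule F (Idx a b → F)) := by
  intro i
  have : (fun k : Fin b => pt x d (i, k)) = x i • d := by
    funext k
    simp [pt]
  rw [this]
  exact D.smul_mem _ hd

/-- `A ⊗ D ≅ D^a` -/
def ATequiv (a : ℕ) (D : Submodule F (Fin b → F)) :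
    (AT D : Submodule F (Idx a b → F)) ≃ₗ[F] (Fin a → D) where
  toFun v := fun i => ⟨fun k => v.1 (i, k), v.2 i⟩
  map_add' u v := by
    funext i
    apply Subtype.ext
    rfl
  map_smul' c v := by
    funext i
    apply Subtype.ext
    rfl
  invFun f := ⟨fun p => (f p.1 : Fin b → F) p.2, fun i => (f i).2⟩
  left_inv v := by
    apply Subtype.ext
    funext p
    rfl
  right_inv f := by
    funext i
    apply Subtype.ext
    rfl

lemma finrank_AT (a : ℕ) (D : Submodule F (Fin b → F)) :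
    finrank F (AT D : Submodule F (Idx a b → F)) = a * finrank F D := by
  rw [(ATequiv a D).finrank_eq, Module.finrank_pi_fintype, Finset.sum_const, Finset.card_univ,
    Fintype.card_fin, smul_eq_mul]

/-- the `B`-support of a subspace `W` of `V`: the span of all rows of all `w ∈ W` -/
def suppB {a : ℕ} (W : Submodule F (Idx a b → F)) : Submodule F (Fin b → F) :=
  Submodule.span F {d | ∃ w ∈ W, ∃ i : Fin a, d = fun k : Fin b => w (i, k)}

lemma le_AT_suppB (W : Submodule F (Idx a b → F)) : W ≤ AT (suppB W) := by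
  intro w hw i
  exact Submodule.subset_span ⟨w, hw, i, rfl⟩

lemma suppB_le {W : Submodule F (Idx a b → F)} {D : Submodule F (Fin b → F)}
    (h : W ≤ AT D) : suppB W ≤ D := by
  unfold suppB
  rw [Submodule.span_le]
  rintro d ⟨w, hw, i, rfl⟩
  exact h hw i

lemma AT_le_AT_iff (ha : 0 < a) {D D' : Submodule F (Fin b → F)} :
    (AT D : Submodule F (Idx a b → F)) ≤ AT D' ↔ D ≤ D' := by
  constructor
  · intro h d hd
    have h1 : pt (Pi.single (⟨0, ha⟩ : Fin a) (1 : F)) d ∈ (AT D' : Submodule F (Idx a b → F)) :=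
      h (pt_mem_AT _ hd)
    have h2 := h1 ⟨0, ha⟩
    have : (fun k : Fin b => pt (Pi.single (⟨0, ha⟩ : Fin a) (1 : F)) d (⟨0, ha⟩, k)) = d := by
      funext k
      simp [pt]
    rwa [this] at h2
  · exact AT_mono

/-- a subspace of `B` on which `fB G2` is nondegenerate -/
def NondegOn (G2 : Matrix (Fin b) (Fin b) F) (D : Submodule F (Fin b → F)) : Prop :=
  ∀ d ∈ D, (∀ d' ∈ D, fB G2 d d' = 0) → d = 0

/-- the nilpotent `N_L = 1 ⊗ ν_L`, `L = ⟨y,z⟩`: `kB G2 y z c = 1 + c • N_L` -/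
noncomputable def NL {a : ℕ} (G2 : Matrix (Fin b) (Fin b) F) (y z : Fin b → F) :
    Matrix (Idx a b) (Idx a b) F :=
  ((kB G2 y z 1 : GL (Idx a b) F) : Matrix (Idx a b) (Idx a b) F) - 1

/-- the root group `X_L = {kB y z c}` -/
noncomputable def XL {a : ℕ} (G2 : Matrix (Fin b) (Fin b) F) (y z : Fin b → F) :
    Subgroup (GL (Idx a b) F) :=
  Subgroup.closure {t | ∃ c : F, t = (kB G2 y z c : GL (Idx a b) F)}

/-- the conjugate root group `g X_{L'} g⁻¹` -/
noncomputable def XLc (G2 : Matrix (Fin b) (Fin b) F) (g : GL (Idx a b) F) (y' z' : Fin b → F) :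
    Subgroup (GL (Idx a b) F) :=
  Subgroup.closure {t | ∃ c : F, t = g * (kB G2 y' z' c : GL (Idx a b) F) * g⁻¹}

/-- `𝓛 = ⟨X_L, g X_{L'} g⁻¹⟩`, in the form used by helper9's `exists_b0_abstract` -/
noncomputable def LL (G2 : Matrix (Fin b) (Fin b) F) (y z : Fin b → F) (g : GL (Idx a b) F)
    (y' z' : Fin b → F) : Subgroup (GL (Idx a b) F) :=
  Subgroup.closure ({t | ∃ c : F, t = (kB G2 y z c : GL (Idx a b) F)} ∪
    {t | ∃ c : F, t = g * (kB G2 y' z' c : GL (Idx a b) F) * g⁻¹})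

lemma LL_eq_sup (G2 : Matrix (Fin b) (Fin b) F) (y z : Fin b → F) (g : GL (Idx a b) F)
    (y' z' : Fin b → F) : LL G2 y z g y' z' = XL G2 y z ⊔ XLc G2 g y' z' := by
  unfold LL XL XLc
  rw [Subgroup.closure_union]

/-- `g ∈ M ∖ KG` -/
def Bad (M : Subgroup (GL (Idx a b) F)) (g : GL (Idx a b) F) : Prop := g ∈ M ∧ g ∉ KG a b F

/-- the triple `(L, L', g)` is good: some `x₀ ∈ 𝓛` maps `A ⊗ L` into `g (A ⊗ L')` -/
def Good (G2 : Matrix (Fin b) (Fin b) F) (y z : Fin b → F) (g : GL (Idx a b) F)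
    (y' z' : Fin b → F) : Prop :=
  ∃ x₀ ∈ LL G2 y z g y' z', ∀ v ∈ (WL y z : Submodule F (Idx a b → F)),
    mv x₀ v ∈ gim g (WL y' z' : Submodule F (Idx a b → F))

/-- the structure statement `S(L)`: `A ⊗ L` and `W' = g (A ⊗ L')` are complementary in `A ⊗ D`,
`D` a nondegenerate subspace of `B` -/
def SLs (G2 : Matrix (Fin b) (Fin b) F) (y z : Fin b → F) (g : GL (Idx a b) F)
    (y' z' : Fin b → F) : Prop :=
  (WL y z : Submodule F (Idx a b → F)) ⊓ gim g (WL y' z') = ⊥ ∧
    ∃ D : Submodule F (Fin b → F), NondegOn G2 D ∧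
      (WL y z : Submodule F (Idx a b → F)) ⊔ gim g (WL y' z') = AT D

end Cfsg.Agent.Lib.Helper2.OTG
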