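import Mathlib
import Cfsg.Prelude.Def_ClassicalGeometry
import Cfsg.Prelude.Def_GeometricClasses
import Cfsg.Agent.Lib.Helper2.OTGDefs

/-!
S5681 / S5709 PART (GA'), N-block: the nilpotent `N_L`: `NL_mulVec`, `kB_val`, `fV_pt_right`,
`ct_eq_zero_of_perp`, `NL_mem_WL`, `NL_perp`.
-/

set_option autoImplicit false
set_option linter.unusedSectionVars false
set_option linter.unusedVariables false

namespace Cfsg.Agent.Lib.Helper2.OTGLeaf
open Matrix Module
open Cfsg.Agent.Lib.Helper25.Tens Cfsg.Agent.Lib.Helper19.OSub Cfsg.Agent.Lib.Helper25.OT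
open Cfsg.Agent.Lib.Helper2.SOT (fB gim mem_gim fB_add_left fB_add_right fB_smul_left fB_smul_right
  fB_comm)
open Cfsg.Agent.Lib.Helper2.OTG
open scoped Kronecker

variable {F : Type*} [Field F] [Fintype F] {a b : ℕ} {G1 : Matrix (Fin a) (Fin a) F}
  {G2 : Matrix (Fin b) (Fin b) F} {M : Subgroup (GL (Idx a b) F)}

/-- matrices agreeing on pure tensors are equal -/
lemma mat_ext_pt {X Y : Matrix (Idx a b) (Idx a b) F}
    (h : ∀ (x : Fin a → F) (v : Fin b → F), X *ᵥ pt x v = Y *ᵥ pt x v) : X = Y := by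
  ext p ⟨i, l⟩
  have h1 := congrFun (mulVec_pt_single X i l) p
  have h2 := congrFun (mulVec_pt_single Y i l) p
  rw [← h1, ← h2, h]

/-- `(G2 y) ⬝ v = fB G2 y v` for symmetric `G2` -/
lemma mulVec_dot_eq_fB (hs : G2ᵀ = G2) (y v : Fin b → F) : (G2 *ᵥ y) ⬝ᵥ v = fB G2 y v := by
  rw [dotProduct_comm]
  exact fB_comm G2 hs v y

/-- the matrix of `N_L` -/
lemma NL_eq (h : Ctx a b G1 G2) {y z : Fin b → F} (hL : TSL G2 y z) :
    (NL G2 y z : Matrix (Idx a b) (Idx a b) F) =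
      (1 : Matrix (Fin a) (Fin a) F) ⊗ₖ Matrix.vecMulVec z (G2 *ᵥ y) -
        (1 : Matrix (Fin a) (Fin a) F) ⊗ₖ Matrix.vecMulVec y (G2 *ᵥ z) := by
  apply mat_ext_pt
  intro x v
  rw [Matrix.sub_mulVec, kron_one_vecMulVec_mulVec, kron_one_vecMulVec_mulVec, ct_pt, ct_pt,
    mulVec_dot_eq_fB h.symm2, mulVec_dot_eq_fB h.symm2]
  unfold NL
  rw [Matrix.sub_mulVec, Matrix.one_mulVec]
  have := mv_kB_pt (a := a) h.symm2 h.two hL 1 x v
  unfold mv at this
  have hsub : ∀ u u' : Fin b → F, pt x (u - u') = pt x u - pt x u' := by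
    intro u u'
    ext p
    simp [pt, mul_sub]
  rw [this, one_smul, pt_add_right, hsub, pt_smul_right, pt_smul_right, pt_smul_left,
    pt_smul_left]
  abel

/-- (N1) -/
theorem NL_mulVec (h : Ctx a b G1 G2) {y z : Fin b → F} (hL : TSL G2 y z) (w : Idx a b → F) :
    (NL G2 y z : Matrix (Idx a b) (Idx a b) F) *ᵥ w =
      pt (ct (G2 *ᵥ y) w) z - pt (ct (G2 *ᵥ z) w) y := by
  rw [NL_eq h hL, Matrix.sub_mulVec, kron_one_vecMulVec_mulVec, kron_one_vecMulVec_mulVec]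

/-- (N2) `kB y z c = 1 + c N_L` -/
theorem kB_val (h : Ctx a b G1 G2) {y z : Fin b → F} (hL : TSL G2 y z) (c : F) :
    ((kB G2 y z c : GL (Idx a b) F) : Matrix (Idx a b) (Idx a b) F) = 1 + c • NL G2 y z := by
  apply mat_ext_pt
  intro x v
  have := mv_kB_pt (a := a) h.symm2 h.two hL c x v
  unfold mv at this
  have hsub : ∀ u u' : Fin b → F, pt x (u - u') = pt x u - pt x u' := by
    intro u u'
    ext p
    simp [pt, mul_sub]
  rw [this, Matrix.add_mulVec, Matrix.one_mulVec, Matrix.smul_mulVec, NL_mulVec h hL, ct_pt, ct_pt,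
    mulVec_dot_eq_fB h.symm2, mulVec_dot_eq_fB h.symm2, pt_add_right, pt_smul_right, hsub,
    pt_smul_right, pt_smul_right, pt_smul_left, pt_smul_left]

/-- (N3) `fV w (x ⊗ v) = fB G1 (ct (G2 v) w) x` -/
theorem fV_pt_right (h : Ctx a b G1 G2) (w : Idx a b → F) (x : Fin a → F) (v : Fin b → F) :
    fV G1 G2 w (pt x v) = fB G1 (ct (G2 *ᵥ v) w) x := by
  unfold fV fB
  rw [kron_mulVec_pt]
  simp only [dotProduct, pt, ct, Fintype.sum_prod_type]
  apply Finset.sum_congr rfl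
  intro i _
  rw [Finset.sum_mul]
  apply Finset.sum_congr rfl
  intro l _
  ring

/-- (N4) `w ⊥ A ⊗ v ⟹ ct (G2 v) w = 0` -/
theorem ct_eq_zero_of_perp (h : Ctx a b G1 G2) (w : Idx a b → F) (v : Fin b → F)
    (hw : ∀ x : Fin a → F, fV G1 G2 w (pt x v) = 0) : ct (G2 *ᵥ v) w = 0 := by
  set u := ct (G2 *ᵥ v) w with hu
  have h0 : ∀ x : Fin a → F, u ⬝ᵥ (G1 *ᵥ x) = 0 := by
    intro x
    have := hw x
    rw [fV_pt_right h] at this
    exact this
  have hdet : IsUnit G1.det := isUnit_iff_ne_zero.2 h.nd1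
  funext i
  have h1 := h0 (G1⁻¹ *ᵥ Pi.single i 1)
  rw [Matrix.mulVec_mulVec, Matrix.mul_nonsing_inv G1 hdet, Matrix.one_mulVec] at h1
  simpa using h1

theorem NL_mem_WL (h : Ctx a b G1 G2) {y z : Fin b → F} (hL : TSL G2 y z) (w : Idx a b → F) :
    (NL G2 y z : Matrix (Idx a b) (Idx a b) F) *ᵥ w ∈ (WL y z : Submodule F (Idx a b → F)) := by
  rw [NL_mulVec h hL]
  exact Submodule.sub_mem _ (pt_right_mem_WL _ y z) (pt_left_mem_WL _ y z)

theorem NL_perp (h : Ctx a b G1 G2) {y z : Fin b → F} (hL : TSL G2 y z) (w : Idx a b → F)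
    (hw : w ∈ perpW G1 G2 (WL y z)) : (NL G2 y z : Matrix (Idx a b) (Idx a b) F) *ᵥ w = 0 := by
  rw [NL_mulVec h hL, ct_eq_zero_of_perp h w y (fun x => hw _ (pt_left_mem_WL x y z)),
    ct_eq_zero_of_perp h w z (fun x => hw _ (pt_right_mem_WL x y z)), pt_zero_left, pt_zero_left,
    sub_zero]

end Cfsg.Agent.Lib.Helper2.OTGLeaf
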