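import Mathlib
import Cfsg.Prelude.Def_ClassicalGeometry
import Cfsg.Prelude.Def_GeometricClasses
import Cfsg.Agent.Lib.Helper2.OTGDefs

/-!
S5681 / S5709 PART (GA'), leaf (S1) `sim_of_kel_mem`.
-/

set_option autoImplicit false
set_option linter.unusedSectionVars false
set_option linter.unusedVariables false

namespace Cfsg.Agent.Lib.Helper2.OTGLeaf
open Matrix Module
open Cfsg.Agent.Lib.Helper25.Tens Cfsg.Agent.Lib.Helper19.OSub Cfsg.Agent.Lib.Helper25.OT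
open Cfsg.Agent.Lib.Helper2.SOT (fB gim mem_gim fB_add_left fB_add_right fB_smul_left fB_smul_right
  fB_comm)
open Cfsg.Agent.Lib.Helper2.OTG
open scoped Kronecker

variable {F : Type*} [Field F] [Fintype F] {a b : ℕ} {G1 : Matrix (Fin a) (Fin a) F}
  {G2 : Matrix (Fin b) (Fin b) F} {M : Subgroup (GL (Idx a b) F)}

lemma fB_single_single' {n : ℕ} (G : Matrix (Fin n) (Fin n) F) (k l : Fin n) :
    fB G (Pi.single k 1) (Pi.single l 1) = G k l := by
  unfold fB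
  simp [dotProduct, Matrix.mulVec, Pi.single_apply]

lemma exists_fB_ne_zero' {n : ℕ} {G : Matrix (Fin n) (Fin n) F} (hG : G.det ≠ 0) (hn : 0 < n) :
    ∃ y y' : Fin n → F, fB G y y' ≠ 0 := by
  have hG0 : G ≠ 0 := by
    intro h0
    apply hG
    rw [h0]
    haveI : Nonempty (Fin n) := ⟨⟨0, hn⟩⟩
    exact Matrix.det_zero
  obtain ⟨k, l, hkl⟩ : ∃ k l, G k l ≠ 0 := by
    by_contra hcon
    push Not at hcon
    apply hG0
    ext k l
    exact hcon k l
  exact ⟨Pi.single k 1, Pi.single l 1, by rw [fB_single_single']; exact hkl⟩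

/-- (S1) a Kronecker element preserving `fV` consists of two similitudes with inverse multipliers. -/
theorem sim_of_kel_mem (h : Ctx a b G1 G2) (α : GL (Fin a) F) (β : GL (Fin b) F)
    (hk : (kel α β : GL (Idx a b) F) ∈ OV G1 G2) :
    ∃ μ : F, μ ≠ 0 ∧
      (∀ x x' : Fin a → F, fB G1 ((α : Matrix (Fin a) (Fin a) F) *ᵥ x)
        ((α : Matrix (Fin a) (Fin a) F) *ᵥ x') = μ * fB G1 x x') ∧
      (∀ y y' : Fin b → F, fB G2 ((β : Matrix (Fin b) (Fin b) F) *ᵥ y)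
        ((β : Matrix (Fin b) (Fin b) F) *ᵥ y') = μ⁻¹ * fB G2 y y') := by
  have key : ∀ (x x' : Fin a → F) (y y' : Fin b → F),
      fB G1 ((α : Matrix (Fin a) (Fin a) F) *ᵥ x) ((α : Matrix (Fin a) (Fin a) F) *ᵥ x') *
        fB G2 ((β : Matrix (Fin b) (Fin b) F) *ᵥ y) ((β : Matrix (Fin b) (Fin b) F) *ᵥ y') =
      fB G1 x x' * fB G2 y y' := by
    intro x x' y y'
    have := fV_mv h.symm1 h.symm2 h.two hk (pt x y) (pt x' y')
    unfold mv at this
    rwa [kel_mulVec_pt, kel_mulVec_pt, fV_pt, fV_pt] at this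
  obtain ⟨x₀, x₀', hx₀⟩ := exists_fB_ne_zero' h.nd1 (by have := h.ha; omega)
  obtain ⟨y₀, y₀', hy₀⟩ := exists_fB_ne_zero' h.nd2 (by have := h.hb; omega)
  set s₀ := fB G1 x₀ x₀' with hs₀
  set t₀ := fB G2 y₀ y₀' with ht₀
  set s := fB G1 ((α : Matrix (Fin a) (Fin a) F) *ᵥ x₀) ((α : Matrix (Fin a) (Fin a) F) *ᵥ x₀')
    with hs
  set t := fB G2 ((β : Matrix (Fin b) (Fin b) F) *ᵥ y₀) ((β : Matrix (Fin b) (Fin b) F) *ᵥ y₀')
    with ht
  have hst : s * t = s₀ * t₀ := key x₀ x₀' y₀ y₀'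
  have hs0 : s ≠ 0 := by
    intro h0
    rw [h0, zero_mul] at hst
    exact mul_ne_zero hx₀ hy₀ hst.symm
  have ht0 : t ≠ 0 := by
    intro h0
    rw [h0, mul_zero] at hst
    exact mul_ne_zero hx₀ hy₀ hst.symm
  refine ⟨s / s₀, div_ne_zero hs0 hx₀, ?_, ?_⟩
  · intro x x'
    have h1 := key x x' y₀ y₀'
    rw [← ht, ← ht₀] at h1
    have h2 : fB G1 ((α : Matrix (Fin a) (Fin a) F) *ᵥ x) ((α : Matrix (Fin a) (Fin a) F) *ᵥ x') * t
        = (s / s₀ * fB G1 x x') * t := by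
      rw [h1]
      field_simp
      linear_combination (fB G1 x x') * hst.symm
    exact mul_right_cancel₀ ht0 h2
  · intro y y'
    have h1 := key x₀ x₀' y y'
    rw [← hs, ← hs₀] at h1
    have h2 : s * fB G2 ((β : Matrix (Fin b) (Fin b) F) *ᵥ y)
        ((β : Matrix (Fin b) (Fin b) F) *ᵥ y') = s * ((s / s₀)⁻¹ * fB G2 y y') := by
      rw [h1]
      field_simp
    exact mul_left_cancel₀ hs0 h2

end Cfsg.Agent.Lib.Helper2.OTGLeaf
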