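import Mathlib
import Cfsg.Prelude.Def_ClassicalGeometry
import Cfsg.Prelude.Def_GeometricClasses
import Cfsg.Agent.Lib.Helper2.OTGDefs

/-!
S5681 / S5709 PART (GA'), W-block: `finrank_WL`, `WL_eq_AT`, `WL_isotropic`, `mem_perpW_gim`,
`mem_of_pt_mem_AT`, `kel_one_row`.
-/

set_option autoImplicit false
set_option linter.unusedSectionVars false
set_option linter.unusedVariables false

namespace Cfsg.Agent.Lib.Helper2.OTGLeaf
open Matrix Module
open Cfsg.Agent.Lib.Helper25.Tens Cfsg.Agent.Lib.Helper19.OSub Cfsg.Agent.Lib.Helper25.OT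
open Cfsg.Agent.Lib.Helper2.SOT (fB gim mem_gim fB_add_left fB_add_right fB_smul_left fB_smul_right
  fB_comm)
open Cfsg.Agent.Lib.Helper2.OTG
open scoped Kronecker

variable {F : Type*} [Field F] [Fintype F] {a b : ℕ} {G1 : Matrix (Fin a) (Fin a) F}
  {G2 : Matrix (Fin b) (Fin b) F} {M : Subgroup (GL (Idx a b) F)}

/-- (W2) `A ⊗ L = AT ⟨y,z⟩` -/
theorem WL_eq_AT (y z : Fin b → F) :
    (WL y z : Submodule F (Idx a b → F)) = AT (Submodule.span F {y, z}) := by
  apply le_antisymm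
  · unfold WL
    rw [Submodule.span_le]
    rintro v ⟨x, rfl | rfl⟩
    · exact pt_mem_AT x (Submodule.subset_span (by simp))
    · exact pt_mem_AT x (Submodule.subset_span (by simp))
  · intro v hv
    rw [mem_AT] at hv
    have hv' : ∀ i : Fin a, ∃ s t : F, s • y + t • z = fun k : Fin b => v (i, k) := by
      intro i
      exact Submodule.mem_span_pair.1 (hv i)
    choose s t hst using hv'
    rw [mem_WL_iff]
    refine ⟨s, t, ?_⟩
    ext ⟨i, k⟩
    have := congrFun (hst i) k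
    simp only [Pi.add_apply, Pi.smul_apply, smul_eq_mul] at this
    simp only [Pi.add_apply, pt]
    exact this.symm

/-- (W1) -/
theorem finrank_WL {y z : Fin b → F} (hL : TSL G2 y z) :
    finrank F (WL y z : Submodule F (Idx a b → F)) = 2 * a := by
  rw [WL_eq_AT, finrank_AT]
  have h1 : finrank F (Submodule.span F (Set.range ![y, z])) = Fintype.card (Fin 2) :=
    finrank_span_eq_card hL.li
  have h2 : Set.range ![y, z] = {y, z} := by
    ext u
    simp only [Set.mem_range, Set.mem_insert_iff, Set.mem_singleton_iff]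
    constructor
    · rintro ⟨i, rfl⟩
      fin_cases i
      · left; rfl
      · right; rfl
    · rintro (rfl | rfl)
      · exact ⟨0, rfl⟩
      · exact ⟨1, rfl⟩
  rw [h2] at h1
  rw [h1, Fintype.card_fin, mul_comm]

/-- (W3) `A ⊗ L` is totally singular -/
theorem WL_isotropic (h : Ctx a b G1 G2) {y z : Fin b → F} (hL : TSL G2 y z) :
    (WL y z : Submodule F (Idx a b → F)) ≤ perpW G1 G2 (WL y z) := by
  intro v hv w hw
  obtain ⟨x₁, x₂, rfl⟩ := (mem_WL_iff y z v).1 hv
  obtain ⟨x₁', x₂', rfl⟩ := (mem_WL_iff y z w).1 hw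
  have hzy : fB G2 z y = 0 := by rw [fB_comm G2 h.symm2]; exact hL.yz
  rw [fV_add_left, fV_add_right, fV_add_right, fV_pt, fV_pt, fV_pt, fV_pt, hL.yy, hL.zz, hL.yz,
    hzy]
  ring

/-- (W4) isometries commute with `⊥` -/
theorem mem_perpW_gim (h : Ctx a b G1 G2) (g : GL (Idx a b) F) (hg : g ∈ OV G1 G2)
    (W : Submodule F (Idx a b → F)) (v : Idx a b → F) :
    mv g v ∈ perpW G1 G2 (gim g W) ↔ v ∈ perpW G1 G2 W := by
  constructor
  · intro hv w hw
    have := hv (mv g w) (mem_gim.2 ⟨w, hw, rfl⟩)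
    rwa [fV_mv h.symm1 h.symm2 h.two hg] at this
  · intro hv u hu
    obtain ⟨w, hw, rfl⟩ := mem_gim.1 hu
    rw [fV_mv h.symm1 h.symm2 h.two hg]
    exact hv w hw

/-- (W5) `x ⊗ d ∈ A ⊗ D`, `x ≠ 0` ⟹ `d ∈ D` -/
theorem mem_of_pt_mem_AT {D : Submodule F (Fin b → F)} {x : Fin a → F} (hx : x ≠ 0)
    {d : Fin b → F} (hd : pt x d ∈ (AT D : Submodule F (Idx a b → F))) : d ∈ D := by
  obtain ⟨i, hi⟩ := Function.ne_iff.mp hx
  have h1 := hd i
  have h2 : (fun k : Fin b => pt x d (i, k)) = x i • d := by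
    funext k
    simp [pt]
  rw [h2] at h1
  have h3 : d = (x i)⁻¹ • (x i • d) := by
    rw [smul_smul, inv_mul_cancel₀ hi, one_smul]
  rw [h3]
  exact D.smul_mem _ h1

/-- (W6) `1 ⊗ β` acts row-wise -/
theorem kel_one_row (β : GL (Fin b) F) (v : Idx a b → F) (i : Fin a) :
    (fun k : Fin b => mv (kel (1 : GL (Fin a) F) β) v (i, k)) =
      (β : Matrix (Fin b) (Fin b) F) *ᵥ (fun k : Fin b => v (i, k)) := by
  funext k
  simp only [mv, kel_val, Units.val_one, Matrix.mulVec, dotProduct, Matrix.kroneckerMap_apply,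
    Fintype.sum_prod_type, Matrix.one_apply]
  rw [Finset.sum_eq_single i]
  · simp
  · intro i' _ hi'
    simp [Ne.symm hi']
  · simp

end Cfsg.Agent.Lib.Helper2.OTGLeaf
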