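import Mathlib
import Cfsg.Prelude.Def_ClassicalGeometry
import Cfsg.Prelude.Def_GeometricClasses
import Cfsg.Agent.Lib.Helper2.OTGDefs
import Cfsg.Agent.Lib.Helper7.SpTN

/-!
S5681 / S5709 PART (GA'), N5-block: the root groups `X_L`, `g X_{L'} g⁻¹` (pattern: helper9 `SOTX1`).
-/

set_option autoImplicit false
set_option linter.unusedSectionVars false
set_option linter.unusedVariables false

namespace Cfsg.Agent.Lib.Helper2.OTGLeaf
open Matrix Module
open Cfsg.Agent.Lib.Helper25.Tens Cfsg.Agent.Lib.Helper19.OSub Cfsg.Agent.Lib.Helper25.OT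
open Cfsg.Agent.Lib.Helper2.SOT (fB gim mem_gim fB_add_left fB_add_right fB_smul_left fB_smul_right
  fB_comm)
open Cfsg.Agent.Lib.Helper2.OTG
open scoped Kronecker

variable {F : Type*} [Field F] [Fintype F] {a b : ℕ} {G1 : Matrix (Fin a) (Fin a) F}
  {G2 : Matrix (Fin b) (Fin b) F} {M : Subgroup (GL (Idx a b) F)}

/-- (N5a) -/
theorem kB_mul (y z : Fin b → F) (c c' : F) :
    (kB G2 y z c : GL (Idx a b) F) * kB G2 y z c' = kB G2 y z (c + c') := by
  unfold kB rhoB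
  rw [← Cfsg.Agent.Lib.Helper7.SpTLeaf.kel_mul_kel, one_mul, rt_mul]

/-- (N5b) -/
theorem kB_zero (y z : Fin b → F) : (kB G2 y z 0 : GL (Idx a b) F) = 1 := by
  unfold kB rhoB
  rw [rt_zero, Cfsg.Agent.Lib.Helper7.SpTLeaf.kel_one_one]

theorem kB_inv (y z : Fin b → F) (c : F) :
    (kB G2 y z c : GL (Idx a b) F)⁻¹ = kB G2 y z (-c) := by
  rw [inv_eq_iff_mul_eq_one, kB_mul, add_neg_cancel, kB_zero]

theorem kB_pow (y z : Fin b → F) (c : F) (n : ℕ) :
    (kB G2 y z c : GL (Idx a b) F) ^ n = kB G2 y z ((n : F) * c) := by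
  induction n with
  | zero => rw [pow_zero, Nat.cast_zero, zero_mul, kB_zero]
  | succ n ih =>
    rw [pow_succ, ih, kB_mul, Nat.cast_succ]
    congr 1; ring

/-- (N5c) -/
theorem mem_XL (y z : Fin b → F) (t : GL (Idx a b) F) :
    t ∈ XL G2 y z ↔ ∃ c : F, t = (kB G2 y z c : GL (Idx a b) F) := by
  constructor
  · intro ht
    unfold XL at ht
    induction ht using Subgroup.closure_induction with
    | mem t ht => exact ht
    | one => exact ⟨0, (kB_zero y z).symm⟩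
    | mul s t _ _ ihs iht =>
      obtain ⟨c, rfl⟩ := ihs
      obtain ⟨c', rfl⟩ := iht
      exact ⟨c + c', kB_mul y z c c'⟩
    | inv s _ ihs =>
      obtain ⟨c, rfl⟩ := ihs
      exact ⟨-c, kB_inv y z c⟩
  · rintro ⟨c, rfl⟩
    exact Subgroup.subset_closure ⟨c, rfl⟩

/-- (N5d) -/
theorem mem_XLc (g : GL (Idx a b) F) (y' z' : Fin b → F) (t : GL (Idx a b) F) :
    t ∈ XLc G2 g y' z' ↔ ∃ c : F, t = g * (kB G2 y' z' c : GL (Idx a b) F) * g⁻¹ := by
  constructor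
  · intro ht
    unfold XLc at ht
    induction ht using Subgroup.closure_induction with
    | mem t ht => exact ht
    | one => exact ⟨0, by rw [kB_zero, mul_one, mul_inv_cancel]⟩
    | mul s t _ _ ihs iht =>
      obtain ⟨c, rfl⟩ := ihs
      obtain ⟨c', rfl⟩ := iht
      refine ⟨c + c', ?_⟩
      rw [← kB_mul]
      group
    | inv s _ ihs =>
      obtain ⟨c, rfl⟩ := ihs
      refine ⟨-c, ?_⟩
      rw [← kB_inv]
      group
  · rintro ⟨c, rfl⟩
    exact Subgroup.subset_closure ⟨c, rfl⟩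

/-- (N5e) `X_L` is a `p`-group, `p = char F`. -/
theorem isPGroup_XL (p : ℕ) [Fact p.Prime] [CharP F p] (y z : Fin b → F) :
    IsPGroup p (XL G2 y z : Subgroup (GL (Idx a b) F)) := by
  rintro ⟨t, ht⟩
  obtain ⟨c, rfl⟩ := (mem_XL y z t).1 ht
  refine ⟨1, ?_⟩
  apply Subtype.ext
  rw [pow_one, Subgroup.coe_pow, Subgroup.coe_one]
  change (kB G2 y z c : GL (Idx a b) F) ^ p = 1
  rw [kB_pow, CharP.cast_eq_zero, zero_mul, kB_zero]

/-- (N5f) -/
theorem isPGroup_XLc (p : ℕ) [Fact p.Prime] [CharP F p] (g : GL (Idx a b) F) (y' z' : Fin b → F) :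
    IsPGroup p (XLc G2 g y' z' : Subgroup (GL (Idx a b) F)) := by
  rintro ⟨t, ht⟩
  obtain ⟨c, rfl⟩ := (mem_XLc g y' z' t).1 ht
  refine ⟨1, ?_⟩
  apply Subtype.ext
  rw [pow_one, Subgroup.coe_pow, Subgroup.coe_one]
  change (g * (kB G2 y' z' c : GL (Idx a b) F) * g⁻¹) ^ p = 1
  rw [conj_pow, kB_pow, CharP.cast_eq_zero, zero_mul, kB_zero, mul_one, mul_inv_cancel]

end Cfsg.Agent.Lib.Helper2.OTGLeaf
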