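import Mathlib
import Cfsg.Prelude.Def_ClassicalGeometry
import Cfsg.Prelude.Def_GeometricClasses
import Cfsg.Agent.Lib.Helper2.OTGDefs
import Cfsg.Agent.Lib.Helper2.OTGN5
import Cfsg.Agent.Lib.Helper23.SOTGTM

/-!
S5681 / S5709 PART (GA'), leaf (P1) `exists_x0`: the fixed point argument (GT) applied
(pattern: helper1 `SOTX2`).
-/

set_option autoImplicit false
set_option linter.unusedSectionVars false
set_option linter.unusedVariables false

namespace Cfsg.Agent.Lib.Helper2.OTGLeaf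
open Matrix Module
open Cfsg.Agent.Lib.Helper25.Tens Cfsg.Agent.Lib.Helper19.OSub Cfsg.Agent.Lib.Helper25.OT
open Cfsg.Agent.Lib.Helper2.SOT (fB gim mem_gim fB_add_left fB_add_right fB_smul_left fB_smul_right
  fB_comm)
open Cfsg.Agent.Lib.Helper2.OTG
open scoped Kronecker

variable {F : Type*} [Field F] [Fintype F] {a b : ℕ} {G1 : Matrix (Fin a) (Fin a) F}
  {G2 : Matrix (Fin b) (Fin b) F} {M : Subgroup (GL (Idx a b) F)}

/-- (P1) -/
theorem exists_x0 (h : MCtx a b G1 G2 M)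
    (hroot : ∀ y z : Fin b → F, TSL G2 y z → ∀ c : F, (kB G2 y z c : GL (Idx a b) F) ∈ M)
    (h2 : L2' G2 M) {y z y' z' : Fin b → F} (hL : TSL G2 y z) (hL' : TSL G2 y' z')
    (g : GL (Idx a b) F) (hg : g ∈ M) :
    ∃ x₀ ∈ LL G2 y z g y' z', g⁻¹ * x₀ ∈ KG a b F := by
  haveI : Fact (ringChar F).Prime := ⟨CharP.char_is_prime F (ringChar F)⟩
  have hXM : XL G2 y z ≤ M := by
    unfold XL
    rw [Subgroup.closure_le]
    rintro t ⟨c, rfl⟩
    exact hroot y z hL c
  have hXcM : XLc G2 g y' z' ≤ M := by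
    unfold XLc
    rw [Subgroup.closure_le]
    rintro t ⟨c, rfl⟩
    exact M.mul_mem (M.mul_mem hg (hroot y' z' hL' c)) (M.inv_mem hg)
  have hXK : (XL G2 y z : Subgroup (GL (Idx a b) F)) ≤ KG a b F := by
    unfold XL
    rw [Subgroup.closure_le]
    rintro t ⟨c, rfl⟩
    exact kB_mem_KG G2 y z c
  rw [LL_eq_sup]
  exact Cfsg.Agent.Lib.Helper23.SOTLeafM.exists_mem_sup_coset (ringChar F) M (KG a b F)
    (XL G2 y z) (XLc G2 g y' z') g hg hXM hXcM (isPGroup_XL (ringChar F) y z)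
    (isPGroup_XLc (ringChar F) g y' z') hXK
    (by
      intro m hm hmt
      apply h2 y z hL m hm
      intro c
      exact hmt _ (Subgroup.subset_closure ⟨c, rfl⟩))
    (by
      intro m hm hmt
      apply h2 y' z' hL' (g⁻¹ * m) (M.mul_mem (M.inv_mem hg) hm)
      intro c
      have := hmt _ (Subgroup.subset_closure ⟨c, rfl⟩ :
        g * (kB G2 y' z' c : GL (Idx a b) F) * g⁻¹ ∈ XLc G2 g y' z')
      have e : (g⁻¹ * m)⁻¹ * (kB G2 y' z' c : GL (Idx a b) F) * (g⁻¹ * m) =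
          m⁻¹ * (g * (kB G2 y' z' c : GL (Idx a b) F) * g⁻¹) * m := by group
      rw [e]
      exact this)

end Cfsg.Agent.Lib.Helper2.OTGLeaf
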