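import Mathlib
import Cfsg.Prelude.Def_Classical

/-!
# Reindexing isometry groups (helper2 library)
-/

set_option autoImplicit false

namespace Cfsg.Agent.Lib.Helper2

section IsomReindex

variable {ι κ : Type} [Fintype ι] [DecidableEq ι] [Fintype κ] [DecidableEq κ]
  {F : Type*} [Field F]

theorem mem_isometryGroup_iff (Q : (ι → F) → F) (g : Matrix.GeneralLinearGroup ι F) :
    g ∈ Cfsg.isometryGroup F Q ↔ ∀ u : ι → F, Q ((g : Matrix ι ι F).mulVec u) = Q u := by
  constructor
  · intro h u
    exact h u u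
  · intro h u _
    exact h u

/-- reindexing `GL` -/
noncomputable def glReindex (e : ι ≃ κ) :
    Matrix.GeneralLinearGroup ι F ≃* Matrix.GeneralLinearGroup κ F :=
  Units.mapEquiv (Matrix.reindexAlgEquiv F F e).toMulEquiv

theorem glReindex_val (e : ι ≃ κ) (g : Matrix.GeneralLinearGroup ι F) :
    ((glReindex e g : Matrix.GeneralLinearGroup κ F) : Matrix κ κ F) =
      (g : Matrix ι ι F).submatrix e.symm e.symm := rfl

theorem isometryGroup_map_reindex (e : ι ≃ κ) (Q : (ι → F) → F) :
    (Cfsg.isometryGroup F Q).map (glReindex e).toMonoidHom =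
      Cfsg.isometryGroup F (fun v : κ → F => Q (v ∘ e)) := by
  ext g'
  rw [Subgroup.mem_map, mem_isometryGroup_iff]
  constructor
  · rintro ⟨g, hg, rfl⟩ u
    rw [mem_isometryGroup_iff] at hg
    show Q ((((glReindex e g : Matrix.GeneralLinearGroup κ F) : Matrix κ κ F).mulVec u) ∘ e) = _
    rw [glReindex_val, Matrix.submatrix_mulVec_equiv]
    have : ((g : Matrix ι ι F).mulVec (u ∘ ⇑e.symm.symm) ∘ ⇑e.symm) ∘ ⇑e =
        (g : Matrix ι ι F).mulVec (u ∘ e) := by
      ext i
      simp
    rw [this, hg]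
  · intro h
    refine ⟨(glReindex e).symm g', ?_, by simp⟩
    rw [mem_isometryGroup_iff]
    intro u
    have h1 := h (u ∘ e.symm)
    have h2 : (g' : Matrix κ κ F) =
        (((glReindex e).symm g' : Matrix.GeneralLinearGroup ι F) : Matrix ι ι F).submatrix
          e.symm e.symm := by
      rw [← glReindex_val, MulEquiv.apply_symm_apply]
    rw [h2, Matrix.submatrix_mulVec_equiv] at h1
    have h3 : ((((glReindex e).symm g' : Matrix.GeneralLinearGroup ι F) : Matrix ι ι F).mulVec
        ((u ∘ ⇑e.symm) ∘ ⇑e.symm.symm) ∘ ⇑e.symm) ∘ ⇑e =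
        (((glReindex e).symm g' : Matrix.GeneralLinearGroup ι F) : Matrix ι ι F).mulVec u := by
      ext i
      simp [Function.comp_def]
    have h4 : (u ∘ ⇑e.symm) ∘ ⇑e = u := by
      ext i; simp
    rw [h3, h4] at h1
    exact h1

/-- isometry groups of forms that differ by a reindexing of the coordinates are isomorphic -/
theorem isometryGroup_reindex (e : ι ≃ κ) (Q : (ι → F) → F) :
    Nonempty (Cfsg.isometryGroup F Q ≃* Cfsg.isometryGroup F (fun v : κ → F => Q (v ∘ e))) :=
  ⟨((glReindex e).subgroupMap (Cfsg.isometryGroup F Q)).trans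
    (MulEquiv.subgroupCongr (isometryGroup_map_reindex e Q))⟩

end IsomReindex

end Cfsg.Agent.Lib.Helper2
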