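/-
helper2: Fourier analysis of a character of `Γ` on `C · T` for an abelian subgroup `T`
centralised by `C`: the functions `c ↦ Θ (c t₀)` have, against any character of `C`, inner products
`∑_μ a_μ μ(t₀)` with natural numbers `a_μ` independent of `t₀` (μ ranges over `Irr(T)`).
-/
import Mathlib
import Cfsg.Agent.Lib.Lead.CharMain
import Cfsg.Agent.Lib.Lead.CharEquiv
import Cfsg.Agent.Lib.Helper10.AbelianRestrict

set_option autoImplicit false

namespace Cfsg.Agent.Lib.Helper2.Glaub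

open Cfsg Cfsg.Agent.CharLib
open scoped ComplexConjugate

universe u

variable {Γ : Type u} [Group Γ] (C T : Subgroup Γ)

/-- The multiplication homomorphism `C × T → Γ` for commuting subgroups. -/
def prodHom (hCT : ∀ c ∈ C, ∀ t ∈ T, c * t = t * c) : C × T →* Γ where
  toFun p := (p.1 : Γ) * (p.2 : Γ)
  map_one' := by simp
  map_mul' p q := by
    have h1 : (q.1 : Γ) * (p.2 : Γ) = (p.2 : Γ) * (q.1 : Γ) := hCT _ q.1.2 _ p.2.2
    simp only [Prod.fst_mul, Prod.snd_mul, Subgroup.coe_mul]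
    calc (p.1 : Γ) * (q.1 : Γ) * ((p.2 : Γ) * (q.2 : Γ))
        = (p.1 : Γ) * ((q.1 : Γ) * (p.2 : Γ)) * (q.2 : Γ) := by group
      _ = (p.1 : Γ) * ((p.2 : Γ) * (q.1 : Γ)) * (q.2 : Γ) := by rw [h1]
      _ = (p.1 : Γ) * (p.2 : Γ) * ((q.1 : Γ) * (q.2 : Γ)) := by group

theorem prodHom_apply (hCT : ∀ c ∈ C, ∀ t ∈ T, c * t = t * c) (p : C × T) :
    prodHom C T hCT p = (p.1 : Γ) * (p.2 : Γ) := rfl

open Classical in
/-- Second orthogonality for an abelian group. -/
theorem sum_irr_mul_conj_of_comm {A : Type u} [Group A] [Fintype A] [Fintype (IrrCharacter A)]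
    (hA : ∀ a b : A, a * b = b * a) (t₀ t : A) :
    ∑ μ : IrrCharacter A, (μ : A → ℂ) t₀ * conj ((μ : A → ℂ) t) =
      if t₀ = t then (Nat.card A : ℂ) else 0 := by
  classical
  rw [sum_irr_mul_conj]
  have h1 : Subgroup.centralizer ({t} : Set A) = ⊤ := by
    rw [eq_top_iff]
    intro x _
    rw [Subgroup.mem_centralizer_iff]
    intro y hy
    exact hA y x
  have h2 : classIndicator t t₀ = if t₀ = t then (1 : ℂ) else 0 := by
    unfold classIndicator
    have h3 : IsConj t₀ t ↔ t₀ = t := by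
      rw [isConj_iff]
      constructor
      · rintro ⟨c, hc⟩
        rw [← hc, hA c t₀, mul_inv_cancel_right]
      · intro h
        exact ⟨1, by rw [h]; group⟩
    simp only [h3]
  rw [h1, h2, Subgroup.card_top]
  split_ifs <;> simp

/-- **Fourier coefficients**: for a character `Θ` of `Γ`, a character `β` of `C` and an abelian
subgroup `T` centralised by `C`, there are natural numbers `a_μ` (`μ ∈ Irr(T)`) with
`[Θ(· t₀)|_C, β] = ∑_μ a_μ μ(t₀)` for every `t₀ ∈ T`. -/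
theorem fourier_coeffs [Fintype Γ] [Fintype C] [Fintype T] [Fintype (IrrCharacter T)]
    (hCT : ∀ c ∈ C, ∀ t ∈ T, c * t = t * c) (hT : ∀ a b : T, a * b = b * a)
    {Θ : Γ → ℂ} (hΘ : IsCharacter Γ Θ) {β : C → ℂ} (hβ : IsCharacter C β) :
    ∃ a : IrrCharacter T → ℕ, ∀ t₀ : T,
      ∑ μ : IrrCharacter T, (a μ : ℂ) * (μ : T → ℂ) t₀ =
        classInner (fun c : C => Θ ((c : Γ) * (t₀ : Γ))) β := by
  classical
  have hΘφ : IsCharacter (C × T) (Θ ∘ prodHom C T hCT) := IsCharacter.comp_hom hΘ _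
  have hβμ : ∀ μ : IrrCharacter T, IsCharacter (C × T)
      ((β ∘ MonoidHom.fst C T) * ((μ : T → ℂ) ∘ MonoidHom.snd C T)) := fun μ =>
    IsCharacter.mul (IsCharacter.comp_hom hβ (MonoidHom.fst C T))
      (IsCharacter.comp_hom (IsIrrCharacter.isCharacter μ.2) (MonoidHom.snd C T))
  choose a ha using fun μ => IsCharacter.classInner_nat hΘφ (hβμ μ)
  refine ⟨a, fun t₀ => ?_⟩
  have hC0 : (Nat.card C : ℂ) ≠ 0 := by exact_mod_cast (Nat.card_pos (α := C)).ne'
  have hT0 : (Nat.card T : ℂ) ≠ 0 := by exact_mod_cast (Nat.card_pos (α := T)).ne'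
  have h1 : ∀ μ : IrrCharacter T, (a μ : ℂ) * (μ : T → ℂ) t₀ =
      (Nat.card (C × T) : ℂ)⁻¹ * ∑ p : C × T,
        (Θ ((p.1 : Γ) * (p.2 : Γ)) * conj (β p.1)) * ((μ : T → ℂ) t₀ * conj ((μ : T → ℂ) p.2)) := by
    intro μ
    rw [← ha μ]
    unfold classInner
    rw [mul_assoc, Finset.sum_mul]
    congr 1
    apply Finset.sum_congr rfl
    intro p _
    simp only [Pi.mul_apply, Function.comp, map_mul, MonoidHom.coe_fst, MonoidHom.coe_snd,
      prodHom_apply]
    ring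
  rw [Finset.sum_congr rfl (fun μ _ => h1 μ), ← Finset.mul_sum, Finset.sum_comm]
  have h2 : ∀ p : C × T, ∑ μ : IrrCharacter T,
      (Θ ((p.1 : Γ) * (p.2 : Γ)) * conj (β p.1)) * ((μ : T → ℂ) t₀ * conj ((μ : T → ℂ) p.2)) =
      (Θ ((p.1 : Γ) * (p.2 : Γ)) * conj (β p.1)) * (if t₀ = p.2 then (Nat.card T : ℂ) else 0) := by
    intro p
    rw [← Finset.mul_sum, sum_irr_mul_conj_of_comm hT]
    congr 1
    by_cases h : t₀ = p.2
    · rw [if_pos h, if_pos h]
    · rw [if_neg h, if_neg h]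
  rw [Finset.sum_congr rfl (fun p _ => h2 p), Fintype.sum_prod_type]
  have h3 : ∀ c : C, ∑ t : T, (Θ ((c : Γ) * (t : Γ)) * conj (β c)) *
      (if t₀ = t then (Nat.card T : ℂ) else 0) =
      (Nat.card T : ℂ) * (Θ ((c : Γ) * (t₀ : Γ)) * conj (β c)) := by
    intro c
    simp only [mul_ite, mul_zero]
    rw [Finset.sum_ite_eq Finset.univ t₀]
    simp only [Finset.mem_univ, if_true]
    ring
  rw [Finset.sum_congr rfl (fun c _ => h3 c), ← Finset.mul_sum, Nat.card_prod]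
  unfold classInner
  push_cast
  field_simp

end Cfsg.Agent.Lib.Helper2.Glaub
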