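/-
helper2: Galois twists `χ ∘ (· ^ k)` of characters with control of the determinant, and the
invariance of canonical extensions (determinantal order prime to the index) under the twists
that are trivial on the normal subgroup (Isaacs 13.4/13.5).
-/
import Mathlib
import Cfsg.Agent.Lib.Helper23.GaloisChar
import Cfsg.Agent.Lib.Helper6.DetChar
import Cfsg.Agent.S0867

set_option autoImplicit false

namespace Cfsg.Agent.Lib.Helper2.Glaub

open Cfsg Cfsg.Agent.CharLib Cfsg.Agent.Lib.Helper6 Cfsg.Agent.Lib.Helper23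

universe u

variable {G : Type u} [Group G] [Finite G]

/-- For `k` prime to `|G|` there is a representation with character `χ(g^k)` and determinant
`(det ρ g)^k`. -/
theorem exists_twist {n : ℕ} (ρ : Representation ℂ G (Fin n → ℂ)) (k : ℕ)
    (hk : k.Coprime (Nat.card G)) :
    ∃ σ : Representation ℂ G (Fin n → ℂ), (∀ g, σ.character g = ρ.character (g ^ k)) ∧
      ∀ g, LinearMap.det (σ g) = (LinearMap.det (ρ g)) ^ k := by
  have : NeZero (Nat.card G) := ⟨Nat.card_pos.ne'⟩
  obtain ⟨τ, hτ⟩ := exists_ringEquiv_complex_pow (Nat.card G) k hk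
  refine ⟨twistRep τ ρ, ?_, ?_⟩
  · intro g
    rw [twistRep_character]
    obtain ⟨ι, hι, μ, h1, h2, h3, h4⟩ := Cfsg.Agent.Lib.Helper24.exists_roots_char_pow ρ g
    have h5 : ρ.character g = ∑ i, μ i := by
      have := h4 1
      simpa using this
    rw [h5, map_sum, h4 k]
    apply Finset.sum_congr rfl
    intro i _
    apply hτ
    obtain ⟨c, hc⟩ := orderOf_dvd_natCard g
    rw [hc, pow_mul, h1 i, one_pow]
  · intro g
    rw [twistRep_apply, LinearMap.det_toLin']
    have h1 : ((LinearMap.toMatrix' (ρ g)).map τ).det = τ ((LinearMap.toMatrix' (ρ g)).det) := by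
      have := RingHom.map_det (τ : ℂ →+* ℂ) (LinearMap.toMatrix' (ρ g))
      exact this.symm
    rw [h1, LinearMap.det_toMatrix']
    apply hτ
    rw [← map_pow, ← map_pow, pow_card_eq_one', map_one, map_one]

/-- The determinantal character of a Galois twist. -/
theorem detChar_comp_pow {χ : G → ℂ} (hχ : IsCharacter G χ) (k : ℕ)
    (hk : k.Coprime (Nat.card G)) : detChar (fun g => χ (g ^ k)) = (detChar χ) ^ k := by
  obtain ⟨n, ρ, rfl⟩ := hχ
  obtain ⟨σ, hσ1, hσ2⟩ := exists_twist ρ k hk
  have h1 : (fun g => ρ.character (g ^ k)) = σ.character := by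
    funext g
    exact (hσ1 g).symm
  rw [h1, detChar_eq_of_rep, detChar_eq_of_rep]
  funext g
  rw [Pi.pow_apply]
  exact hσ2 g

/-- The determinantal order divides the group order. -/
theorem detOrder_dvd_card {χ : G → ℂ} (hχ : IsCharacter G χ) : detOrder χ ∣ Nat.card G := by
  obtain ⟨n, ρ, rfl⟩ := hχ
  unfold detOrder
  rw [detChar_eq_unitsHomToFun, orderOf_unitsHomToFun]
  apply orderOf_dvd_of_pow_eq_one
  ext g
  rw [MonoidHom.pow_apply, ← map_pow, pow_card_eq_one', map_one, MonoidHom.one_apply]

/-- Galois twists preserve the determinantal order. -/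
theorem detOrder_comp_pow {χ : G → ℂ} (hχ : IsCharacter G χ) (k : ℕ)
    (hk : k.Coprime (Nat.card G)) : detOrder (fun g => χ (g ^ k)) = detOrder χ := by
  unfold detOrder
  rw [detChar_comp_pow hχ k hk]
  apply Nat.Coprime.orderOf_pow
  exact Nat.Coprime.coprime_dvd_left (detOrder_dvd_card hχ) hk.symm

/-- **Canonical extensions are fixed by the Galois twists trivial on the normal subgroup**: if
`χ ∈ Irr(G)` restricts irreducibly to `N ⊴ G`, the index of `N` is prime to `o(χ_N) χ(1)` and to
`o(χ)`, then `χ(x^m) = χ(x)` whenever `m` is prime to `|G|` and `m ≡ 1` modulo `|N|`. -/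
theorem canonical_ext_comp_pow (N : Subgroup G) [hN : N.Normal] {χ : G → ℂ}
    (hχ : IsIrrCharacter G χ) (hres : IsIrrCharacter N (resFun N χ)) (d : ℕ) (hd : χ 1 = d)
    (hcop : Nat.Coprime N.index (detOrder (resFun N χ) * d))
    (hdet : Nat.Coprime N.index (detOrder χ)) (m : ℕ) (hm : m.Coprime (Nat.card G))
    (hm1 : m ≡ 1 [MOD Nat.card N]) (x : G) : χ (x ^ m) = χ x := by
  have hχc := IsIrrCharacter.isCharacter hχ
  have hcf := IsCharacter.isClassFunction hχc
  have hinv : ∀ (g : G) (n : N),
      resFun N χ ⟨g * n * g⁻¹, hN.conj_mem (n : G) n.2 g⟩ = resFun N χ n := by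
    intro g n
    rw [resFun_apply, resFun_apply]
    exact hcf _ _
  obtain ⟨χ₀, -, huniq⟩ := Cfsg.Agent.S0867.result N (resFun N χ) hres hinv d
    (by rw [resFun_apply]; exact hd) hcop
  have h1 : χ = χ₀ := huniq χ hχ (fun n => rfl) hdet
  have h2 : (fun g => χ (g ^ m)) = χ₀ := by
    apply huniq _ (isIrrCharacter_comp_pow hχ m hm)
    · intro n
      rw [resFun_apply]
      have h3 : ((n : G)) ^ m = (n : G) := by
        have h4 : n ^ m = n ^ 1 := by
          rw [pow_eq_pow_iff_modEq]
          exact hm1.of_dvd (orderOf_dvd_natCard n)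
        rw [pow_one] at h4
        have h5 := congrArg (fun y : N => (y : G)) h4
        simpa using h5
      show χ ((n : G) ^ m) = χ n
      rw [h3]
    · rw [detOrder_comp_pow hχc m hm]
      exact hdet
  have h3 := congrFun (h2.trans h1.symm) x
  exact h3

end Cfsg.Agent.Lib.Helper2.Glaub
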