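/-
helper2: Glauberman's correspondence for a cyclic operator group (Isaacs, Theorem 13.6), in the form:
`Γ` finite, `G ⊴ Γ`, `s ∈ Γ` of order prime to `|G|` with `|Γ : G|` dividing the order of `s`,
`C = C_G(s)`.  For an irreducible character `χh` of `Γ` restricting irreducibly to `G` with
determinantal order prime to `|Γ : G|` (a canonical extension) the function `c ↦ χh (c s)` on `C` is
`± β` for an irreducible character `β` of `C`.
-/
import Mathlib
import Cfsg.Agent.Lib.Helper2.GlaubCoset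
import Cfsg.Agent.Lib.Helper2.GlaubTwist
import Cfsg.Agent.Lib.Helper2.GlaubFourier
import Cfsg.Agent.Lib.Helper6.Gallagher2
import Cfsg.Agent.Lib.Helper24.IrrFacts
import Cfsg.Agent.Lib.Helper10.Coherence
import Cfsg.Agent.Lib.Helper10.GenChar
import Cfsg.Agent.Lib.Lead.GalChar

set_option autoImplicit false

namespace Cfsg.Agent.Lib.Helper2.Glaub

open Cfsg Cfsg.Agent.CharLib Cfsg.Agent.Lib.Helper6
open scoped ComplexConjugate

universe u

variable {Γ : Type u} [Group Γ]

/-- The standing hypotheses on `G`, `s`, `C = C_G(s)`. -/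
structure Setup (G : Subgroup Γ) (s : Γ) (C : Subgroup Γ) : Prop where
  hCG : C ≤ G
  hC : ∀ x, x ∈ C ↔ x ∈ G ∧ x * s = s * x
  hcop : (Nat.card G).Coprime (orderOf s)
  hidx : G.index ∣ orderOf s

/-- `χh` is a canonical extension to `Γ` of an irreducible character of `G`. -/
structure CanonExt (G : Subgroup Γ) (χh : Γ → ℂ) : Prop where
  irr : IsIrrCharacter Γ χh
  res : IsIrrCharacter G (resFun G χh)
  det : Nat.Coprime G.index (detOrder χh)

variable {G : Subgroup Γ} {s : Γ} {C : Subgroup Γ}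

theorem Setup.comm (h : Setup G s C) {c : Γ} (hc : c ∈ C) : c * s = s * c := ((h.hC c).mp hc).2

theorem Setup.pow_mem (h : Setup G s C) {c : Γ} (hc : c ∈ C) (e : ℕ) : c ^ e ∈ C := C.pow_mem hc e

variable [Finite Γ]

theorem Setup.coprime_card (h : Setup G s C) {m : ℕ} (hm1 : m ≡ 1 [MOD Nat.card G])
    (hm : m.Coprime (orderOf s)) : m.Coprime (Nat.card Γ) := by
  rw [← Subgroup.card_mul_index G]
  apply Nat.Coprime.mul_right
  · have := hm1.gcd_eq
    rw [Nat.gcd_one_left] at this
    exact this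
  · exact Nat.Coprime.coprime_dvd_right h.hidx hm

variable [hG : G.Normal]

/-- A canonical extension takes the same value at `c s^j` and `c s` (`c ∈ C`, `j` prime to the
order of `s`). -/
theorem CanonExt.apply_mul_pow (hS : Setup G s C) {χh : Γ → ℂ} (hχ : CanonExt G χh) {c : Γ}
    (hc : c ∈ C) {j : ℕ} (hj : j.Coprime (orderOf s)) : χh (c * s ^ j) = χh (c * s) := by
  obtain ⟨d, hdpos, hd⟩ := IsIrrCharacter.apply_one_pos hχ.irr
  have hcG : c ∈ G := hS.hCG hc
  -- coprimality for the canonical extension theorem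
  have h1 : Nat.Coprime G.index (detOrder (resFun G χh) * d) := by
    have hidxcop : Nat.Coprime G.index (Nat.card G) :=
      (Nat.Coprime.coprime_dvd_right hS.hidx hS.hcop).symm
    apply Nat.Coprime.mul_right
    · exact Nat.Coprime.coprime_dvd_right
        (detOrder_dvd_card (IsIrrCharacter.isCharacter hχ.res)) hidxcop
    · have h2 := Cfsg.Agent.Lib.Helper24.irr_charDegree_dvd_card (⟨resFun G χh, hχ.res⟩ : IrrCharacter G)
      have h3 := Cfsg.Agent.Lib.Helper24.irr_apply_one (⟨resFun G χh, hχ.res⟩ : IrrCharacter G)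
      have h4 : (d : ℂ) = (charDegree (resFun G χh) : ℂ) := by
        rw [← hd, ← h3]
        rfl
      have h5 : d = charDegree (resFun G χh) := by exact_mod_cast h4
      rw [h5]
      exact Nat.Coprime.coprime_dvd_right h2 hidxcop
  obtain ⟨m, hm1, hmj⟩ := Nat.chineseRemainder hS.hcop 1 j
  have hmcop : m.Coprime (orderOf s) := by
    have := hmj.gcd_eq
    rw [Nat.Coprime, this]
    exact hj
  have hmΓ : m.Coprime (Nat.card Γ) := hS.coprime_card hm1 hmcop
  have h6 := canonical_ext_comp_pow G hχ.irr hχ.res d hd h1 hχ.det m hmΓ hm1 (c * s)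
  have hcm : c ^ m = c := by
    have h7 : c ^ m = c ^ 1 := by
      rw [pow_eq_pow_iff_modEq]
      have h8 : orderOf c ∣ Nat.card G := by
        have := orderOf_dvd_natCard (⟨c, hcG⟩ : G)
        rwa [Subgroup.orderOf_mk] at this
      exact hm1.of_dvd h8
    rwa [pow_one] at h7
  have hsm : s ^ m = s ^ j := pow_eq_pow_iff_modEq.mpr hmj
  rw [(show Commute c s from hS.comm hc).mul_pow, hcm, hsm] at h6
  exact h6

/-- A canonical extension at `(c s)^e` for `e` prime to `|Γ|`. -/
theorem CanonExt.apply_pow (hS : Setup G s C) {χh : Γ → ℂ} (hχ : CanonExt G χh) {c : Γ}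
    (hc : c ∈ C) {e : ℕ} (he : e.Coprime (Nat.card Γ)) : χh ((c * s) ^ e) = χh (c ^ e * s) := by
  rw [(show Commute c s from hS.comm hc).mul_pow]
  apply hχ.apply_mul_pow hS (hS.pow_mem hc e)
  exact Nat.Coprime.coprime_dvd_right (orderOf_dvd_natCard s) he

section ortho

variable [Fintype Γ] [Fintype G] [Fintype C]

omit [Finite Γ] in
/-- Coset orthogonality transported to `C`: if `χ` restricts irreducibly to `G` and `ψ` is an
irreducible character of `Γ` whose restriction to `G` is orthogonal to that of `χ`, then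
`∑_{c ∈ C} ψ(c s) conj χ(c s) = 0`. -/
theorem sum_centralizer_mul_conj_eq_zero (hS : Setup G s C) {χ ψ : Γ → ℂ}
    (hχ : IsIrrCharacter Γ χ) (hχG : IsIrrCharacter G (resFun G χ)) (hψ : IsIrrCharacter Γ ψ)
    (h0 : classInner (resFun G ψ) (resFun G χ) = 0) :
    ∑ c : C, ψ ((c : Γ) * s) * conj (χ ((c : Γ) * s)) = 0 := by
  have h1 := (gallagher_avg G hχ hχG hψ).2.1 h0
  have h2 := congrFun h1 s
  unfold avgMulConj at h2
  have hG0 : (Nat.card G : ℂ) ≠ 0 := by exact_mod_cast (Nat.card_pos (α := G)).ne'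
  have hC0 : (Nat.card C : ℂ) ≠ 0 := by exact_mod_cast (Nat.card_pos (α := C)).ne'
  have h3 : ∑ n : G, ψ ((n : Γ) * s) * conj (χ ((n : Γ) * s)) = 0 := by
    rcases mul_eq_zero.mp h2 with h | h
    · exact absurd (inv_eq_zero.mp h) hG0
    · exact h
  have hψcf := IsCharacter.isClassFunction (IsIrrCharacter.isCharacter hψ)
  have hχcf := IsCharacter.isClassFunction (IsIrrCharacter.isCharacter hχ)
  have h4 := sum_coset_eq G s C hS.hCG hS.hC hS.hcop (fun x => ψ x * conj (χ x))
    (fun g _ x => by simp only [hψcf x g, hχcf x g])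
  rw [h3, mul_zero] at h4
  rcases mul_eq_zero.mp h4.symm with h | h
  · exact absurd h hG0
  · exact h

omit [Finite Γ] in
/-- Coset orthogonality transported to `C`: if `χ` restricts irreducibly to `G`, then
`∑_{c ∈ C} |χ(c s)|² = |C|`. -/
theorem sum_centralizer_mul_conj_self (hS : Setup G s C) {χ : Γ → ℂ}
    (hχ : IsIrrCharacter Γ χ) (hχG : IsIrrCharacter G (resFun G χ)) :
    ∑ c : C, χ ((c : Γ) * s) * conj (χ ((c : Γ) * s)) = (Nat.card C : ℂ) := by
  have h1 := (gallagher_avg G hχ hχG hχ).2.2 rfl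
  have h2 := congrFun h1 s
  unfold avgMulConj at h2
  have hG0 : (Nat.card G : ℂ) ≠ 0 := by exact_mod_cast (Nat.card_pos (α := G)).ne'
  have hC0 : (Nat.card C : ℂ) ≠ 0 := by exact_mod_cast (Nat.card_pos (α := C)).ne'
  have h3 : ∑ n : G, χ ((n : Γ) * s) * conj (χ ((n : Γ) * s)) = (Nat.card G : ℂ) := by
    rw [Pi.one_apply] at h2
    field_simp at h2
    exact h2
  have hχcf := IsCharacter.isClassFunction (IsIrrCharacter.isCharacter hχ)
  have h4 := sum_coset_eq G s C hS.hCG hS.hC hS.hcop (fun x => χ x * conj (χ x))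
    (fun g _ x => by simp only [hχcf x g])
  rw [h3] at h4
  have h5 : (Nat.card G : ℂ) * (Nat.card C : ℂ) =
      (Nat.card G : ℂ) * ∑ c : C, χ ((c : Γ) * s) * conj (χ ((c : Γ) * s)) := by
    rw [← h4]; ring
  exact (mul_left_cancel₀ hG0 h5).symm

omit [Finite Γ] in
/-- An algebraic integer of `ℂ` that is rational is an integer. -/
theorem exists_int_of_isIntegral_of_rat {z : ℂ} (hint : IsIntegral ℤ z) {q : ℚ} (hq : z = (q : ℂ)) :
    ∃ k : ℤ, z = (k : ℂ) := by
  rw [hq] at hint
  have h2 : IsIntegral ℤ q := by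
    apply (isIntegral_algebraMap_iff (algebraMap ℚ ℂ).injective (R := ℤ) (x := q)).mp
    simpa using hint
  obtain ⟨k, hk⟩ := IsIntegrallyClosed.isIntegral_iff.mp h2
  refine ⟨k, ?_⟩
  rw [hq, ← hk]
  simp

omit [Finite Γ] hG in
theorem Setup.commute_zpowers (hS : Setup G s C) :
    ∀ c ∈ C, ∀ t ∈ Subgroup.zpowers s, c * t = t * c := by
  intro c hc t ht
  obtain ⟨k, rfl⟩ := Subgroup.mem_zpowers_iff.mp ht
  exact ((show Commute c s from hS.comm hc).zpow_right k).eq

omit [Finite Γ] in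
theorem zpowers_comm (s : Γ) : ∀ a b : Subgroup.zpowers s, a * b = b * a := by
  intro a b
  obtain ⟨i, hi⟩ := Subgroup.mem_zpowers_iff.mp a.2
  obtain ⟨j, hj⟩ := Subgroup.mem_zpowers_iff.mp b.2
  apply Subtype.ext
  rw [Subgroup.coe_mul, Subgroup.coe_mul, ← hi, ← hj, ← zpow_add, ← zpow_add, add_comm]

omit [Finite Γ] in
/-- **Integrality**: for a canonical extension `χh`, the function `c ↦ χh (c s)` on `C` has integer
inner products with the characters of `C`. -/
theorem CanonExt.classInner_int (hS : Setup G s C) {χh : Γ → ℂ} (hχ : CanonExt G χh) {β : C → ℂ}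
    (hβ : IsCharacter C β) :
    ∃ z : ℤ, classInner (fun c : C => χh ((c : Γ) * s)) β = (z : ℂ) := by
  classical
  -- integrality
  have hint : IsIntegral ℤ (classInner (fun c : C => χh ((c : Γ) * s)) β) := by
    letI : Fintype (Subgroup.zpowers s) := Fintype.ofFinite _
    letI := fintypeIrr (Subgroup.zpowers s)
    obtain ⟨a, ha⟩ := fourier_coeffs C (Subgroup.zpowers s) hS.commute_zpowers (zpowers_comm s)
      (IsIrrCharacter.isCharacter hχ.irr) hβ
    have h1 := ha ⟨s, Subgroup.mem_zpowers s⟩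
    rw [← h1]
    apply IsIntegral.sum
    intro μ _
    exact (isIntegral_natCast (a μ)).mul (Cfsg.Agent.Lib.Helper24.irr_isIntegral μ _)
  -- rationality
  have hrat : ∃ q : ℚ, classInner (fun c : C => χh ((c : Γ) * s)) β = (q : ℂ) := by
    have hNpos : 0 < Nat.card Γ := Nat.card_pos
    haveI : NeZero (Nat.card Γ) := ⟨hNpos.ne'⟩
    obtain ⟨K, _, _, _, ⟨φ⟩⟩ := exists_cyclotomic_field (Nat.card Γ)
    haveI : FiniteDimensional ℚ K := IsCyclotomicExtension.finiteDimensional {Nat.card Γ} ℚ K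
    haveI : IsGalois ℚ K := IsCyclotomicExtension.isGalois {Nat.card Γ} ℚ K
    obtain ⟨n, ρ, -, hρ⟩ := hχ.irr
    obtain ⟨m, ρβ, hρβ⟩ := hβ
    have hβ' : IsCharacter C β := ⟨m, ρβ, hρβ⟩
    have hx : ∀ c : C, ∃ x : K, φ x = χh ((c : Γ) * s) ∧
        ∀ σ : K ≃ₐ[ℚ] K, φ (σ x) = χh (((c : Γ) * s) ^ galExp (Nat.card Γ) K σ) := fun c => by
      obtain ⟨x, -, h2, h3⟩ := exists_cyclotomic_charVal (Nat.card Γ) K φ ρ ((c : Γ) * s)
        pow_card_eq_one'
      exact ⟨x, by rw [h2, hρ], fun σ => by rw [h3 σ, hρ]⟩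
    have hy : ∀ c : C, ∃ y : K, φ y = β c⁻¹ ∧
        ∀ σ : K ≃ₐ[ℚ] K, φ (σ y) = β (c⁻¹ ^ galExp (Nat.card Γ) K σ) := fun c => by
      have hc : (c⁻¹ : C) ^ Nat.card Γ = 1 := by
        obtain ⟨k, hk⟩ := Subgroup.card_subgroup_dvd_card C
        rw [hk, pow_mul, pow_card_eq_one', one_pow]
      obtain ⟨y, -, h2, h3⟩ := exists_cyclotomic_charVal (Nat.card Γ) K φ ρβ c⁻¹ hc
      exact ⟨y, by rw [h2, hρβ], fun σ => by rw [h3 σ, hρβ]⟩
    choose x hx1 hx2 using hx
    choose y hy1 hy2 using hy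
    have hφw : φ (((Nat.card C : K))⁻¹ * ∑ c : C, x c * y c) =
        classInner (fun c : C => χh ((c : Γ) * s)) β := by
      simp only [map_mul, map_inv₀, map_natCast, map_sum, hx1, hy1]
      unfold classInner
      congr 1
      apply Finset.sum_congr rfl
      intro c _
      rw [IsCharacter.apply_inv hβ' c]
    have hfix : ∀ σ : K ≃ₐ[ℚ] K, σ (((Nat.card C : K))⁻¹ * ∑ c : C, x c * y c) =
        ((Nat.card C : K))⁻¹ * ∑ c : C, x c * y c := by
      intro σ
      apply φ.injective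
      rw [hφw]
      simp only [map_mul, map_inv₀, map_natCast, map_sum, hx2, hy2]
      have he : (galExp (Nat.card Γ) K σ).Coprime (Nat.card Γ) := galExp_coprime _ _ σ
      have heC : (Nat.card C).Coprime (galExp (Nat.card Γ) K σ) :=
        (Nat.Coprime.coprime_dvd_right (Subgroup.card_subgroup_dvd_card C) he).symm
      unfold classInner
      congr 1
      rw [← Equiv.sum_comp (powCoprime heC) (fun c : C => χh ((c : Γ) * s) * conj (β c))]
      apply Finset.sum_congr rfl
      intro c _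
      rw [hχ.apply_pow hS c.2 he, powCoprime_apply, ← IsCharacter.apply_inv hβ', inv_pow,
        Subgroup.coe_pow]
    obtain ⟨q, hq⟩ := (IsGalois.mem_range_algebraMap_iff_fixed _).mpr hfix
    refine ⟨q, ?_⟩
    rw [← hφw, ← hq]
    simp
  obtain ⟨q, hq⟩ := hrat
  exact exists_int_of_isIntegral_of_rat hint hq

omit [Finite Γ] in
/-- **Glauberman's theorem, cyclic case (Isaacs 13.6), existence**: for a canonical extension `χh`
there are an irreducible character `β` of `C` and a sign `ε` with `χh (c s) = ε β(c)` on `C`;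
moreover `β` is a constituent of the restriction of `χh` to `C`. -/
theorem CanonExt.exists_sign_irr (hS : Setup G s C) {χh : Γ → ℂ} (hχ : CanonExt G χh) :
    ∃ β : IrrCharacter C, ∃ ε : ℤ, (ε = 1 ∨ ε = -1) ∧
      (∀ c : C, χh ((c : Γ) * s) = (ε : ℂ) * (β : C → ℂ) c) ∧
      classInner (fun c : C => χh (c : Γ)) (β : C → ℂ) ≠ 0 := by
  classical
  letI := fintypeIrr C
  have hχc := IsIrrCharacter.isCharacter hχ.irr
  have hχcf := IsCharacter.isClassFunction hχc
  have hψcf : IsClassFunction C (fun c : C => χh ((c : Γ) * s)) := by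
    intro c h
    show χh (((h * c * h⁻¹ : C) : Γ) * s) = χh ((c : Γ) * s)
    have h1 : ((h * c * h⁻¹ : C) : Γ) * s = (h : Γ) * ((c : Γ) * s) * (h : Γ)⁻¹ := by
      have h2 : (h : Γ) * s = s * (h : Γ) := hS.comm h.2
      have h3 : (h : Γ)⁻¹ * s = s * (h : Γ)⁻¹ := by
        calc (h : Γ)⁻¹ * s = (h : Γ)⁻¹ * (s * (h : Γ)) * (h : Γ)⁻¹ := by group
          _ = (h : Γ)⁻¹ * ((h : Γ) * s) * (h : Γ)⁻¹ := by rw [h2]
          _ = s * (h : Γ)⁻¹ := by group
      simp only [Subgroup.coe_mul, Subgroup.coe_inv]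
      rw [mul_assoc ((h : Γ) * (c : Γ)), h3]
      group
    rw [h1]
    exact hχcf _ _
  have hint : ∀ β : IrrCharacter C,
      ∃ z : ℤ, classInner (fun c : C => χh ((c : Γ) * s)) (β : C → ℂ) = (z : ℂ) :=
    fun β => hχ.classInner_int hS (IsIrrCharacter.isCharacter β.2)
  choose z hz using hint
  have hexp := classFunction_eq_sum hψcf
  have hgen : IsGeneralizedCharacter C (fun c : C => χh ((c : Γ) * s)) := by
    rw [hexp]
    apply Finset.sum_induction _ (IsGeneralizedCharacter C)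
    · intro a b ha hb
      exact Cfsg.Agent.Lib.Helper10.genChar_add ha hb
    · exact Cfsg.Agent.Lib.Helper10.genChar_zero
    · intro β _
      rw [hz β, Int.cast_smul_eq_zsmul]
      exact Cfsg.Agent.Lib.Helper10.genChar_zsmul
        (Cfsg.Agent.Lib.Helper10.isGeneralizedCharacter_of_isCharacter
          (IsIrrCharacter.isCharacter β.2)) (z β)
  have hC0 : (Nat.card C : ℂ) ≠ 0 := by exact_mod_cast (Nat.card_pos (α := C)).ne'
  have hnorm : classInner (fun c : C => χh ((c : Γ) * s)) (fun c : C => χh ((c : Γ) * s)) = 1 := by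
    unfold classInner
    rw [sum_centralizer_mul_conj_self hS hχ.irr hχ.res]
    field_simp
  obtain ⟨ε, hε, hirr⟩ := Cfsg.Agent.Lib.Helper10.genChar_norm_one hgen hnorm
  have hεε : ε * ε = 1 := by rcases hε with rfl | rfl <;> norm_num
  refine ⟨⟨_, hirr⟩, if ε = 1 then 1 else -1, ?_, ?_, ?_⟩
  · split_ifs <;> simp
  · intro c
    show χh ((c : Γ) * s) = _ * (ε • fun c : C => χh ((c : Γ) * s)) c
    rw [Pi.smul_apply, smul_eq_mul, ← mul_assoc]
    have h4 : (((if ε = 1 then 1 else -1 : ℤ)) : ℂ) = ε := by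
      rcases hε with rfl | rfl
      · simp
      · have : ¬ ((-1 : ℂ) = 1) := by norm_num
        simp [this]
    rw [h4, hεε, one_mul]
  · -- constituent
    letI : Fintype (Subgroup.zpowers s) := Fintype.ofFinite _
    letI := fintypeIrr (Subgroup.zpowers s)
    obtain ⟨a, ha⟩ := fourier_coeffs C (Subgroup.zpowers s) hS.commute_zpowers (zpowers_comm s)
      hχc (IsIrrCharacter.isCharacter hirr)
    have h1 := ha ⟨s, Subgroup.mem_zpowers s⟩
    have h2 := ha 1
    have h3 : classInner (fun c : C => χh ((c : Γ) * s)) (ε • fun c : C => χh ((c : Γ) * s)) ≠ 0 := by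
      rw [classInner_smul_right, hnorm, mul_one]
      intro h
      have := (map_eq_zero (starRingEnd ℂ)).mp h
      rw [this, zero_mul] at hεε
      exact zero_ne_one hεε
    have h5 : ∃ μ₀, a μ₀ ≠ 0 := by
      by_contra hcon
      push Not at hcon
      apply h3
      change classInner (fun c : C => χh ((c : Γ) * ((⟨s, Subgroup.mem_zpowers s⟩ : Subgroup.zpowers s) : Γ)))
        (ε • fun c : C => χh ((c : Γ) * s)) = 0
      rw [← h1]
      apply Finset.sum_eq_zero
      intro μ _
      rw [hcon μ, Nat.cast_zero, zero_mul]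
    obtain ⟨μ₀, hμ₀⟩ := h5
    have h6 : (fun c : C => χh ((c : Γ) * ((1 : Subgroup.zpowers s) : Γ))) = fun c : C => χh (c : Γ) := by
      funext c
      rw [Subgroup.coe_one, mul_one]
    rw [h6] at h2
    rw [← h2]
    have h7 : ∀ μ : IrrCharacter (Subgroup.zpowers s), (μ : Subgroup.zpowers s → ℂ) 1 = 1 :=
      fun μ => Cfsg.Agent.Lib.Helper10.irr_one_of_comm (zpowers_comm s) μ.2
    simp only [h7, mul_one]
    rw [← Nat.cast_sum]
    have h8 : 0 < ∑ μ, a μ := by
      apply Finset.sum_pos'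
      · intro μ _; exact Nat.zero_le _
      · exact ⟨μ₀, Finset.mem_univ _, Nat.pos_of_ne_zero hμ₀⟩
    exact_mod_cast h8.ne'

omit [Finite Γ] in
/-- **Injectivity** in Glauberman's theorem: two irreducible characters of `Γ` restricting
irreducibly to `G` and giving the same `± β` on `C s` have the same restriction to `G`. -/
theorem sign_irr_inj (hS : Setup G s C) {χh χh' : Γ → ℂ} (hχ : IsIrrCharacter Γ χh)
    (hχG : IsIrrCharacter G (resFun G χh)) (hχ' : IsIrrCharacter Γ χh')
    (hχG' : IsIrrCharacter G (resFun G χh')) {β : C → ℂ} (hβ : IsIrrCharacter C β) {ε ε' : ℤ}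
    (hε : ε = 1 ∨ ε = -1) (hε' : ε' = 1 ∨ ε' = -1)
    (h : ∀ c : C, χh ((c : Γ) * s) = (ε : ℂ) * β c)
    (h' : ∀ c : C, χh' ((c : Γ) * s) = (ε' : ℂ) * β c) : resFun G χh' = resFun G χh := by
  classical
  by_contra hne
  have h0 : classInner (resFun G χh') (resFun G χh) = 0 := by
    rw [classInner_irr hχG' hχG, if_neg hne]
  have h1 := sum_centralizer_mul_conj_eq_zero hS hχ hχG hχ' h0
  have hC0 : (Nat.card C : ℂ) ≠ 0 := by exact_mod_cast (Nat.card_pos (α := C)).ne'
  have h2 : ∑ c : C, β c * conj (β c) = (Nat.card C : ℂ) := by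
    have h3 := classInner_irr hβ hβ
    rw [if_pos rfl] at h3
    unfold classInner at h3
    field_simp at h3
    exact h3
  have h4 : ∑ c : C, χh' ((c : Γ) * s) * conj (χh ((c : Γ) * s)) =
      ((ε' : ℂ) * (ε : ℂ)) * ∑ c : C, β c * conj (β c) := by
    rw [Finset.mul_sum]
    apply Finset.sum_congr rfl
    intro c _
    rw [h c, h' c, map_mul, map_intCast]
    ring
  rw [h4, h2] at h1
  have h5 : ((ε' : ℂ) * (ε : ℂ)) ≠ 0 := by
    rcases hε with rfl | rfl <;> rcases hε' with rfl | rfl <;> norm_num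
  exact (mul_ne_zero h5 hC0) h1

end ortho

section count

open Classical in
/-- The number of `k` with `k g k⁻¹ = g'` is `|C(g)|` if `g'` is conjugate to `g`, and `0`
otherwise. -/
theorem classIndicator_mul_card_centralizer {H : Type u} [Group H] [Fintype H] (g g' : H) :
    classIndicator g g' * (Nat.card (Subgroup.centralizer ({g} : Set H)) : ℂ) =
      ∑ k : H, if k * g * k⁻¹ = g' then (1 : ℂ) else 0 := by
  rw [Finset.sum_boole]
  unfold classIndicator
  by_cases h : IsConj g' g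
  · rw [if_pos h, one_mul]
    obtain ⟨k₀, hk₀⟩ := isConj_iff.mp h.symm
    congr 1
    rw [Nat.card_eq_fintype_card, ← Fintype.card_subtype]
    apply Fintype.card_congr
    refine
      { toFun := fun z => ⟨k₀ * (z : H), ?_⟩
        invFun := fun k => ⟨k₀⁻¹ * (k : H), ?_⟩
        left_inv := fun z => by simp
        right_inv := fun k => by simp }
    · have hz := Subgroup.mem_centralizer_iff.mp z.2 g rfl
      calc k₀ * (z : H) * g * (k₀ * (z : H))⁻¹ = k₀ * ((z : H) * g) * (z : H)⁻¹ * k₀⁻¹ := by group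
        _ = k₀ * (g * (z : H)) * (z : H)⁻¹ * k₀⁻¹ := by rw [hz]
        _ = k₀ * g * k₀⁻¹ := by group
        _ = g' := hk₀
    · rw [Subgroup.mem_centralizer_iff]
      intro y hy
      rw [Set.mem_singleton_iff] at hy
      subst hy
      have hk : (k : H) * y * (k : H)⁻¹ = k₀ * y * k₀⁻¹ := by rw [k.2, hk₀]
      calc y * (k₀⁻¹ * (k : H)) = k₀⁻¹ * (k₀ * y * k₀⁻¹) * (k : H) := by group
        _ = k₀⁻¹ * ((k : H) * y * (k : H)⁻¹) * (k : H) := by rw [hk]
        _ = k₀⁻¹ * (k : H) * y := by group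
  · rw [if_neg h, zero_mul]
    symm
    rw [Nat.cast_eq_zero, Finset.card_eq_zero, Finset.filter_eq_empty_iff]
    intro k _ hk
    exact h (isConj_iff.mpr ⟨k, hk⟩).symm

variable [Fintype Γ] [Fintype G] [Fintype C]

omit [Finite Γ] in
/-- **Counting**: the number of irreducible characters of `G` fixed by conjugation with `s` equals
the number of irreducible characters of `C = C_G(s)`. -/
theorem card_fixed_irr (hS : Setup G s C) :
    Nat.card {χ : IrrCharacter G // ∀ g : G,
      (χ : G → ℂ) ((MulAut.conjNormal s : G ≃* G) g) = (χ : G → ℂ) g} =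
      Nat.card (IrrCharacter C) := by
  classical
  letI := fintypeIrr G
  have hG0 : (Nat.card G : ℂ) ≠ 0 := by exact_mod_cast (Nat.card_pos (α := G)).ne'
  have h1 : ∑ χ : IrrCharacter G,
      classInner ((χ : G → ℂ) ∘ (MulAut.conjNormal s : G ≃* G)) (χ : G → ℂ) =
      (Nat.card {χ : IrrCharacter G // ∀ g : G,
        (χ : G → ℂ) ((MulAut.conjNormal s : G ≃* G) g) = (χ : G → ℂ) g} : ℂ) := by
    have h2 : ∀ χ : IrrCharacter G,
        classInner ((χ : G → ℂ) ∘ (MulAut.conjNormal s : G ≃* G)) (χ : G → ℂ) =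
        if (∀ g : G, (χ : G → ℂ) ((MulAut.conjNormal s : G ≃* G) g) = (χ : G → ℂ) g)
          then 1 else 0 := by
      intro χ
      rw [classInner_irr (IsIrrCharacter.comp_mulEquiv χ.2 _) χ.2]
      by_cases hχ : ∀ g : G, (χ : G → ℂ) ((MulAut.conjNormal s : G ≃* G) g) = (χ : G → ℂ) g
      · have hχ' : (χ : G → ℂ) ∘ (MulAut.conjNormal s : G ≃* G) = (χ : G → ℂ) := funext hχ
        rw [if_pos hχ, if_pos hχ']
      · have hχ' : ¬ ((χ : G → ℂ) ∘ (MulAut.conjNormal s : G ≃* G) = (χ : G → ℂ)) :=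
          fun h => hχ (fun g => congrFun h g)
        rw [if_neg hχ, if_neg hχ']
    rw [Finset.sum_congr rfl (fun χ _ => h2 χ), Finset.sum_boole, Nat.card_eq_fintype_card,
      Fintype.card_subtype]
  have h3 : ∑ χ : IrrCharacter G,
      classInner ((χ : G → ℂ) ∘ (MulAut.conjNormal s : G ≃* G)) (χ : G → ℂ) =
      (Nat.card G : ℂ)⁻¹ * ((Nat.card G : ℂ) * (Nat.card (ConjClasses C) : ℂ)) := by
    unfold classInner
    rw [← Finset.mul_sum, Finset.sum_comm]
    congr 1
    rw [← sum_twisted_pairs G s C hS.hCG hS.hC hS.hcop]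
    apply Finset.sum_congr rfl
    intro g _
    have h4 := sum_irr_mul_conj ((MulAut.conjNormal s : G ≃* G) g) g
    rw [classIndicator_mul_card_centralizer] at h4
    simp only [Function.comp]
    rw [h4]
    apply Finset.sum_congr rfl
    intro k _
    have h5 : (k * g * k⁻¹ = (MulAut.conjNormal s : G ≃* G) g) ↔
        ((k : Γ) * (g : Γ) * (k : Γ)⁻¹ = s * (g : Γ) * s⁻¹) := by
      rw [Subtype.ext_iff, MulAut.conjNormal_apply]
      simp
    by_cases h6 : (k : Γ) * (g : Γ) * (k : Γ)⁻¹ = s * (g : Γ) * s⁻¹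
    · rw [if_pos h6, if_pos (h5.mpr h6)]
    · rw [if_neg h6, if_neg (fun h => h6 (h5.mp h))]
  rw [h3, ← mul_assoc, inv_mul_cancel₀ hG0, one_mul] at h1
  rw [card_irrCharacter]
  exact_mod_cast h1.symm

end count

end Cfsg.Agent.Lib.Helper2.Glaub
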