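/-
helper2: translation between the "inside a group Γ, S normalises G" formulation of coprime action
statements and the setting of `GlaubMain` (a normal subgroup `G` of `Γ` and a generator `s`).
-/
import Mathlib
import Cfsg.Agent.Lib.Helper2.GlaubMain

set_option autoImplicit false

namespace Cfsg.Agent.Lib.Helper2.Glaub

open Cfsg Cfsg.Agent.CharLib Cfsg.Agent.Lib.Helper6
open scoped ComplexConjugate

universe u

variable {Γ : Type u} [Group Γ]

/-- `G` is normal when normalised by `S` and `G ⊔ S = ⊤`. -/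
theorem normal_of_sup_eq_top (G S : Subgroup Γ) (hnorm : ∀ s ∈ S, ∀ g ∈ G, s * g * s⁻¹ ∈ G)
    (htop : G ⊔ S = ⊤) : G.Normal := by
  rw [← Subgroup.normalizer_eq_top_iff, eq_top_iff, ← htop]
  apply sup_le Subgroup.le_normalizer
  intro s hs
  rw [Subgroup.mem_normalizer_iff]
  intro g
  constructor
  · exact hnorm s hs g
  · intro h
    have := hnorm s⁻¹ (S.inv_mem hs) _ h
    rw [inv_inv] at this
    convert this using 1
    group

/-- Generators of the same cyclic subgroup are coprime powers of each other. -/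
theorem exists_pow_coprime_of_zpowers_eq [Finite Γ] {t s : Γ}
    (h : Subgroup.zpowers t = Subgroup.zpowers s) :
    ∃ j : ℕ, j.Coprime (orderOf s) ∧ t = s ^ j := by
  have h1 : t ∈ Subgroup.zpowers s := by rw [← h]; exact Subgroup.mem_zpowers t
  rw [← mem_powers_iff_mem_zpowers] at h1
  obtain ⟨j, rfl⟩ := h1
  refine ⟨j, ?_, rfl⟩
  have h2 : orderOf (s ^ j) = orderOf s := by
    rw [← Nat.card_zpowers, ← Nat.card_zpowers, h]
  rw [orderOf_pow] at h2
  have hpos : 0 < orderOf s := orderOf_pos s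
  have hg : Nat.gcd (orderOf s) j ∣ orderOf s := Nat.gcd_dvd_left _ _
  obtain ⟨k, hk⟩ := hg
  have hgpos : 0 < Nat.gcd (orderOf s) j := Nat.gcd_pos_of_pos_left _ hpos
  rw [Nat.Coprime, Nat.gcd_comm]
  have h3 : orderOf s / Nat.gcd (orderOf s) j = k := Nat.div_eq_of_eq_mul_right hgpos hk
  rw [h3] at h2
  rw [h2] at hk
  have h4 : orderOf s * 1 = orderOf s * Nat.gcd (orderOf s) j := by
    rw [mul_one, mul_comm]; exact hk
  exact (Nat.eq_of_mul_eq_mul_left hpos h4).symm

variable (G : Subgroup Γ) [hG : G.Normal]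

/-- The subgroup of `Γ` fixing a function on the normal subgroup `G` under conjugation. -/
def stabSub (χ : G → ℂ) : Subgroup Γ where
  carrier := {x | ∀ g : G, χ ((MulAut.conjNormal x : G ≃* G) g) = χ g}
  one_mem' := by
    intro g
    simp
  mul_mem' := by
    intro x y hx hy g
    rw [map_mul, MulAut.mul_apply, hx, hy]
  inv_mem' := by
    intro x hx g
    have := hx ((MulAut.conjNormal x⁻¹ : G ≃* G) g)
    rw [← this, ← MulAut.mul_apply, ← map_mul, mul_inv_cancel, map_one, MulAut.one_apply]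

theorem mem_stabSub {χ : G → ℂ} {x : Γ} :
    x ∈ stabSub G χ ↔ ∀ g : G, χ ((MulAut.conjNormal x : G ≃* G) g) = χ g := Iff.rfl

theorem le_stabSub {χ : G → ℂ} (hχ : IsClassFunction G χ) : G ≤ stabSub G χ := by
  intro x hx g
  have h1 : (MulAut.conjNormal x : G ≃* G) g = (⟨x, hx⟩ : G) * g * (⟨x, hx⟩ : G)⁻¹ := by
    apply Subtype.ext
    rw [MulAut.conjNormal_apply]
    simp
  rw [h1]
  exact hχ g _

/-- The "inside Γ" formulation of invariance under a subgroup `S`. -/
theorem invariant_iff_le_stabSub {χ : G → ℂ} (S : Subgroup Γ) :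
    (∀ s ∈ S, ∀ g g' : G, (g' : Γ) = s * g * s⁻¹ → χ g' = χ g) ↔ S ≤ stabSub G χ := by
  constructor
  · intro h s hs g
    exact h s hs g _ (by rw [MulAut.conjNormal_apply])
  · intro h s hs g g' hg'
    have h1 := h hs g
    have h2 : (MulAut.conjNormal s : G ≃* G) g = g' := by
      apply Subtype.ext
      rw [MulAut.conjNormal_apply, hg']
    rw [h2] at h1
    exact h1

omit hG in
/-- The standing hypotheses of `GlaubMain` from the "inside Γ" hypotheses. -/
theorem setup_of_zpowers [Finite Γ] (S C : Subgroup Γ) [G.Normal] (s : Γ)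
    (hs : Subgroup.zpowers s = S) (hcop : (Nat.card G).Coprime (Nat.card S)) (htop : G ⊔ S = ⊤)
    (hC : C = G ⊓ Subgroup.centralizer (S : Set Γ)) : Setup G s C where
  hCG := by rw [hC]; exact inf_le_left
  hC := by
    intro x
    rw [hC, Subgroup.mem_inf, Subgroup.mem_centralizer_iff]
    constructor
    · rintro ⟨h1, h2⟩
      refine ⟨h1, (h2 s ?_).symm⟩
      rw [← hs]
      exact Subgroup.mem_zpowers s
    · rintro ⟨h1, h2⟩
      refine ⟨h1, ?_⟩
      intro h hh
      rw [SetLike.mem_coe, ← hs] at hh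
      obtain ⟨k, rfl⟩ := Subgroup.mem_zpowers_iff.mp hh
      exact ((show Commute x s from h2).zpow_right k).eq.symm
  hcop := by rw [← Nat.card_zpowers, hs]; exact hcop
  hidx := by
    rw [← Nat.card_zpowers, hs, ← Subgroup.relIndex_top_right, ← htop, Subgroup.relIndex_sup_left]
    exact Subgroup.relIndex_dvd_card G S

variable {G} {s : Γ} {C : Subgroup Γ}

/-- Coprimality needed for canonical extensions. -/
theorem Setup.coprime_index_det [Finite Γ] (hS : Setup G s C) (χ : IrrCharacter G) {d : ℕ}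
    (hd : (χ : G → ℂ) 1 = d) : Nat.Coprime G.index (detOrder (χ : G → ℂ) * d) := by
  have hidxcop : Nat.Coprime G.index (Nat.card G) :=
    (Nat.Coprime.coprime_dvd_right hS.hidx hS.hcop).symm
  apply Nat.Coprime.mul_right
  · exact Nat.Coprime.coprime_dvd_right
      (detOrder_dvd_card (IsIrrCharacter.isCharacter χ.2)) hidxcop
  · have h2 := Cfsg.Agent.Lib.Helper24.irr_charDegree_dvd_card χ
    have h3 := Cfsg.Agent.Lib.Helper24.irr_apply_one χ
    have h4 : (d : ℂ) = (charDegree (χ : G → ℂ) : ℂ) := by rw [← hd, ← h3]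
    have h5 : d = charDegree (χ : G → ℂ) := by exact_mod_cast h4
    rw [h5]
    exact Nat.Coprime.coprime_dvd_right h2 hidxcop

/-- Existence of the canonical extension of a `Γ`-invariant irreducible character of `G`. -/
theorem exists_canonExt [Finite Γ] (hS : Setup G s C) (χ : IrrCharacter G)
    (hinv : stabSub G (χ : G → ℂ) = ⊤) :
    ∃ χh : Γ → ℂ, CanonExt G χh ∧ (∀ g : G, χh g = (χ : G → ℂ) g) ∧
      detOrder χh = detOrder (χ : G → ℂ) := by
  obtain ⟨d, -, hd⟩ := IsIrrCharacter.apply_one_pos χ.2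
  have hinv' : ∀ (g : Γ) (n : G),
      (χ : G → ℂ) ⟨g * n * g⁻¹, hG.conj_mem (n : Γ) n.2 g⟩ = (χ : G → ℂ) n := by
    intro g n
    have h1 : g ∈ stabSub G (χ : G → ℂ) := by rw [hinv]; exact Subgroup.mem_top g
    have h2 := (mem_stabSub G).mp h1 n
    have h3 : (MulAut.conjNormal g : G ≃* G) n = ⟨g * n * g⁻¹, hG.conj_mem (n : Γ) n.2 g⟩ := by
      apply Subtype.ext
      rw [MulAut.conjNormal_apply]
    rw [h3] at h2
    exact h2
  obtain ⟨χh, ⟨h1, h2, h3⟩, -⟩ := Cfsg.Agent.S0867.result G (χ : G → ℂ) χ.2 hinv' d hd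
    (hS.coprime_index_det χ hd)
  have hres : resFun G χh = (χ : G → ℂ) := funext h2
  refine ⟨χh, ⟨h1, by rw [hres]; exact χ.2, ?_⟩, h2, h3⟩
  rw [h3]
  exact Nat.Coprime.coprime_dvd_right (detOrder_dvd_card (IsIrrCharacter.isCharacter χ.2))
    (Nat.Coprime.coprime_dvd_right hS.hidx hS.hcop).symm

/-- Existence in Glauberman's theorem, for all generators of `⟨s⟩` at once. -/
theorem CanonExt.exists_sign_irr_gen [Fintype Γ] [Fintype G] [Fintype C] (hS : Setup G s C)
    {χh : Γ → ℂ} (hχ : CanonExt G χh) :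
    ∃ β : IrrCharacter C, ∃ ε : ℤ, (ε = 1 ∨ ε = -1) ∧
      (∀ c : C, ∀ t : Γ, Subgroup.zpowers t = Subgroup.zpowers s →
        χh ((c : Γ) * t) = (ε : ℂ) * (β : C → ℂ) c) ∧
      classInner (fun c : C => χh (c : Γ)) (β : C → ℂ) ≠ 0 := by
  obtain ⟨β, ε, hε, h1, h2⟩ := hχ.exists_sign_irr hS
  refine ⟨β, ε, hε, ?_, h2⟩
  intro c t ht
  obtain ⟨j, hj, rfl⟩ := exists_pow_coprime_of_zpowers_eq ht
  rw [hχ.apply_mul_pow hS c.2 hj]
  exact h1 c

omit hG in
/-- Uniqueness of the pair `(β, ε)`. -/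
theorem sign_irr_unique [Fintype C] {β β' : IrrCharacter C} {ε ε' : ℤ} (hε : ε = 1 ∨ ε = -1)
    (hε' : ε' = 1 ∨ ε' = -1)
    (h : ∀ c : C, (ε : ℂ) * (β : C → ℂ) c = (ε' : ℂ) * (β' : C → ℂ) c) : β = β' ∧ ε = ε' := by
  obtain ⟨d, hd, hd1⟩ := IsIrrCharacter.apply_one_pos β.2
  obtain ⟨d', hd', hd1'⟩ := IsIrrCharacter.apply_one_pos β'.2
  have h1 := h 1
  rw [hd1, hd1'] at h1
  have h2 : ε * (d : ℤ) = ε' * (d' : ℤ) := by exact_mod_cast h1
  have h3 : ε = ε' := by
    rcases hε with rfl | rfl <;> rcases hε' with rfl | rfl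
    · rfl
    · exfalso; omega
    · exfalso; omega
    · rfl
  refine ⟨?_, h3⟩
  apply Subtype.ext
  funext c
  have h4 := h c
  rw [h3] at h4
  have h5 : (ε' : ℂ) ≠ 0 := by rcases hε' with rfl | rfl <;> norm_num
  exact mul_left_cancel₀ h5 h4

/-- **Surjectivity** in Glauberman's theorem (cyclic case): every irreducible character of `C`
comes from an `s`-invariant irreducible character of `G`. -/
theorem exists_canonExt_of_irr [Fintype Γ] [Fintype G] [Fintype C] (hS : Setup G s C)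
    (htop : G ⊔ Subgroup.zpowers s = ⊤) (β : IrrCharacter C) :
    ∃ (χ : IrrCharacter G) (χh : Γ → ℂ) (ε : ℤ), stabSub G (χ : G → ℂ) = ⊤ ∧ CanonExt G χh ∧
      (∀ g : G, χh g = (χ : G → ℂ) g) ∧ detOrder χh = detOrder (χ : G → ℂ) ∧ (ε = 1 ∨ ε = -1) ∧
      ∀ c : C, ∀ t : Γ, Subgroup.zpowers t = Subgroup.zpowers s →
        χh ((c : Γ) * t) = (ε : ℂ) * (β : C → ℂ) c := by
  classical
  have hX : ∀ χ : {χ : IrrCharacter G // ∀ g : G,
      (χ : G → ℂ) ((MulAut.conjNormal s : G ≃* G) g) = (χ : G → ℂ) g},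
      stabSub G ((χ : IrrCharacter G) : G → ℂ) = ⊤ := by
    intro χ
    rw [eq_top_iff, ← htop]
    apply sup_le
    · exact le_stabSub G (IsCharacter.isClassFunction (IsIrrCharacter.isCharacter χ.1.2))
    · rw [Subgroup.zpowers_le]
      exact χ.2
  have hex := fun χ : {χ : IrrCharacter G // ∀ g : G,
      (χ : G → ℂ) ((MulAut.conjNormal s : G ≃* G) g) = (χ : G → ℂ) g} =>
    exists_canonExt hS χ.1 (hX χ)
  choose χh hχh1 hχh2 hχh3 using hex
  have hex2 := fun χ => (hχh1 χ).exists_sign_irr_gen hS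
  choose F ε hε hF1 hF2 using hex2
  have hinj : Function.Injective F := by
    intro χ₁ χ₂ h12
    have h1 : ∀ c : C, χh χ₁ ((c : Γ) * s) = (ε χ₁ : ℂ) * ((F χ₂ : IrrCharacter C) : C → ℂ) c := by
      intro c
      rw [← h12]
      exact hF1 χ₁ c s rfl
    have h2 : ∀ c : C, χh χ₂ ((c : Γ) * s) = (ε χ₂ : ℂ) * ((F χ₂ : IrrCharacter C) : C → ℂ) c :=
      fun c => hF1 χ₂ c s rfl
    have h3 := sign_irr_inj hS (hχh1 χ₁).irr (hχh1 χ₁).res (hχh1 χ₂).irr (hχh1 χ₂).res (F χ₂).2
      (hε χ₁) (hε χ₂) h1 h2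
    apply Subtype.ext
    apply Subtype.ext
    funext g
    have h4 := congrFun h3 g
    rw [resFun_apply, resFun_apply, hχh2, hχh2] at h4
    exact h4.symm
  haveI : Finite (IrrCharacter C) := finite_irrCharacter
  have hbij := hinj.bijective_of_nat_card_le (le_of_eq (card_fixed_irr hS).symm)
  obtain ⟨χ, rfl⟩ := hbij.2 β
  exact ⟨χ.1, χh χ, ε χ, hX χ, hχh1 χ, hχh2 χ, hχh3 χ, hε χ, hF1 χ⟩

end Cfsg.Agent.Lib.Helper2.Glaub
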