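/-
helper2: the Glauberman correspondence when the operator group acts through a group of prime order
`p` (abstract form): `Γ = G ⟨s⟩`, `s` of `p`-power order with `s ^ p` centralising `G`.  For an
`s`-invariant irreducible character `χ` of `G` with canonical extension `χh` and `χh (c s) = ε β(c)`,
the multiplicities satisfy `[χ_C, β'] ≡ ε [β' = β] (mod p)`.
-/
import Mathlib
import Cfsg.Agent.Lib.Helper2.GlaubTransl
import Cfsg.Agent.Lib.Helper24.CentralElt

set_option autoImplicit false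

namespace Cfsg.Agent.Lib.Helper2.Glaub

open Cfsg Cfsg.Agent.CharLib Cfsg.Agent.Lib.Helper6
open scoped ComplexConjugate

universe u

variable {Γ : Type u} [Group Γ]

/-- A central `p`-element acts trivially in an irreducible representation whose degree and
determinantal order are prime to `p`. -/
theorem apply_mul_central_of_coprime [Finite Γ] {χ : Γ → ℂ} (hχ : IsIrrCharacter Γ χ) {z : Γ}
    (hz : z ∈ Subgroup.center Γ) {p k : ℕ} (hzk : z ^ (p ^ k) = 1)
    (hdet : (detOrder χ).Coprime p) {d : ℕ} (hd : χ 1 = d) (hdp : d.Coprime p) (g : Γ) :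
    χ (g * z) = χ g := by
  obtain ⟨n, ρ, hirr, rfl⟩ := hχ
  haveI : ρ.IsIrreducible := hirr
  obtain ⟨c, hc⟩ := Cfsg.Agent.Lib.Helper24.exists_central_scalar ρ z hz
  rw [Cfsg.Agent.Lib.Helper24.char_mul_scalar ρ z c hc g]
  have hn : n = d := by
    rw [Representation.char_one, Module.finrank_fin_fun] at hd
    exact_mod_cast hd
  have hd0 : d ≠ 0 := by
    intro h0
    rw [h0] at hn
    haveI := Cfsg.Agent.Lib.Helper24.nontrivial_of_isIrreducible ρ
    subst hn
    obtain ⟨x, y, hxy⟩ := exists_pair_ne (Fin 0 → ℂ)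
    exact hxy (Subsingleton.elim x y)
  -- `c ^ (p ^ k) = 1`
  have h1 : c ^ (p ^ k) = 1 := by
    have h2 : (ρ z) ^ (p ^ k) = 1 := by rw [← map_pow, hzk, map_one]
    rw [hc, smul_pow, one_pow] at h2
    have h3 := congrArg (LinearMap.trace ℂ (Fin n → ℂ)) h2
    rw [map_smul, LinearMap.trace_one, Module.finrank_fin_fun, smul_eq_mul, hn] at h3
    have hd0' : (d : ℂ) ≠ 0 := by exact_mod_cast hd0
    have h4 : c ^ (p ^ k) * (d : ℂ) = 1 * (d : ℂ) := by rw [h3, one_mul]
    exact mul_right_cancel₀ hd0' h4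
  -- `c ^ (d * o) = 1`
  have h2 : c ^ (d * detOrder ρ.character) = 1 := by
    have h3 := congrFun (pow_orderOf_eq_one (detChar ρ.character)) z
    have h5 : detChar ρ.character z = c ^ d := by
      rw [detChar_eq_of_rep]
      show LinearMap.det (ρ z) = c ^ d
      rw [hc, LinearMap.det_smul, map_one, mul_one, Module.finrank_fin_fun, hn]
    rw [Pi.pow_apply, h5, ← pow_mul] at h3
    exact h3
  have h3 : orderOf c ∣ Nat.gcd (p ^ k) (d * detOrder ρ.character) :=
    Nat.dvd_gcd (orderOf_dvd_of_pow_eq_one h1) (orderOf_dvd_of_pow_eq_one h2)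
  have h4 : Nat.gcd (p ^ k) (d * detOrder ρ.character) = 1 := by
    apply Nat.Coprime.pow_left
    exact (Nat.Coprime.mul_left hdp hdet).symm
  rw [h4, Nat.dvd_one, orderOf_eq_one_iff] at h3
  rw [h3, one_mul]

variable {G : Subgroup Γ} {s : Γ} {C : Subgroup Γ}

/-- If `s ^ p` centralises `G` and `Γ = G ⟨s⟩`, the powers of `s ^ p` are central. -/
theorem mem_center_of_zpowers_pow (htop : G ⊔ Subgroup.zpowers s = ⊤) {p : ℕ}
    (hz : ∀ g ∈ G, s ^ p * g = g * s ^ p) {t : Γ} (ht : t ∈ Subgroup.zpowers (s ^ p)) :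
    t ∈ Subgroup.center Γ := by
  have h1 : s ^ p ∈ Subgroup.center Γ := by
    have h2 : G ⊔ Subgroup.zpowers s ≤ Subgroup.centralizer {s ^ p} := by
      apply sup_le
      · intro g hg
        rw [Subgroup.mem_centralizer_iff]
        intro h hh
        rw [Set.mem_singleton_iff] at hh
        rw [hh]
        exact hz g hg
      · rw [Subgroup.zpowers_le, Subgroup.mem_centralizer_iff]
        intro h hh
        rw [Set.mem_singleton_iff] at hh
        rw [hh, ← pow_succ, ← pow_succ']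
    rw [htop] at h2
    rw [Subgroup.mem_center_iff]
    intro g
    have h3 := Subgroup.mem_centralizer_iff.mp (h2 (Subgroup.mem_top g)) (s ^ p) rfl
    exact h3.symm
  obtain ⟨i, rfl⟩ := Subgroup.mem_zpowers_iff.mp ht
  exact Subgroup.zpow_mem _ h1 i

section pbase

variable [Fintype Γ] [hG : G.Normal] [Fintype G] [Fintype C]

/-- **Multiplicities modulo `p`** when the operator acts through a group of order `p`. -/
theorem CanonExt.classInner_modEq (hS : Setup G s C) {χh : Γ → ℂ} (hχ : CanonExt G χh)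
    (htop : G ⊔ Subgroup.zpowers s = ⊤) {p a : ℕ} (hp : p.Prime) (ho : orderOf s = p ^ (a + 1))
    (hz : ∀ g ∈ G, s ^ p * g = g * s ^ p) (hdet : (detOrder χh).Coprime p)
    {β : IrrCharacter C} {ε : ℤ} (hβ : ∀ c : C, χh ((c : Γ) * s) = (ε : ℂ) * (β : C → ℂ) c)
    (β' : IrrCharacter C) :
    ∃ m : ℕ, classInner (fun c : C => χh (c : Γ)) (β' : C → ℂ) = (m : ℂ) ∧
      (m : ℤ) ≡ (if β' = β then ε else 0) [ZMOD p] := by
  classical
  have hχc := IsIrrCharacter.isCharacter hχ.irr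
  -- the multiplicity is a natural number
  obtain ⟨m, hm⟩ := IsCharacter.classInner_nat (IsCharacter.restrict hχc C)
    (IsIrrCharacter.isCharacter β'.2)
  refine ⟨m, hm, ?_⟩
  -- degree prime to p
  obtain ⟨d, -, hd⟩ := IsIrrCharacter.apply_one_pos hχ.irr
  have hpG : (Nat.card G).Coprime p := by
    have h1 : p ∣ orderOf s := by rw [ho, pow_succ]; exact Dvd.intro_left _ rfl
    exact Nat.Coprime.coprime_dvd_right h1 hS.hcop
  have hdp : d.Coprime p := by
    have h2 := Cfsg.Agent.Lib.Helper24.irr_charDegree_dvd_card (⟨resFun G χh, hχ.res⟩ : IrrCharacter G)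
    have h3 := Cfsg.Agent.Lib.Helper24.irr_apply_one (⟨resFun G χh, hχ.res⟩ : IrrCharacter G)
    have h4 : (d : ℂ) = (charDegree (resFun G χh) : ℂ) := by
      rw [← hd, ← h3]
      rfl
    have h5 : d = charDegree (resFun G χh) := by exact_mod_cast h4
    rw [h5]
    exact Nat.Coprime.coprime_dvd_left h2 hpG
  letI : Fintype (Subgroup.zpowers s) := Fintype.ofFinite _
  letI := fintypeIrr (Subgroup.zpowers s)
  obtain ⟨cf, hcf⟩ := fourier_coeffs C (Subgroup.zpowers s) hS.commute_zpowers (zpowers_comm s)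
    hχc (IsIrrCharacter.isCharacter β'.2)
  -- values on the central part
  have hv1 : ∀ t : Subgroup.zpowers s, (t : Γ) ∈ Subgroup.zpowers (s ^ p) →
      classInner (fun c : C => χh ((c : Γ) * (t : Γ))) (β' : C → ℂ) = (m : ℂ) := by
    intro t ht
    rw [← hm]
    congr 1
    funext c
    have hcen := mem_center_of_zpowers_pow htop hz ht
    have htk : (t : Γ) ^ (p ^ (a + 1)) = 1 := by
      obtain ⟨i, hi⟩ := Subgroup.mem_zpowers_iff.mp t.2
      rw [← hi, ← zpow_natCast, ← zpow_mul, mul_comm, zpow_mul, zpow_natCast, ← ho,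
        pow_orderOf_eq_one, one_zpow]
    exact apply_mul_central_of_coprime hχ.irr hcen htk hdet hd hdp _
  -- values on the generators
  have hv2 : ∀ t : Subgroup.zpowers s, (t : Γ) ∉ Subgroup.zpowers (s ^ p) →
      classInner (fun c : C => χh ((c : Γ) * (t : Γ))) (β' : C → ℂ) =
        (ε : ℂ) * (if β' = β then 1 else 0) := by
    intro t ht
    have h1 : (t : Γ) ∈ Submonoid.powers s := mem_powers_iff_mem_zpowers.mpr t.2
    obtain ⟨j, hj⟩ := h1
    have hpj : ¬ p ∣ j := by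
      rintro ⟨i, rfl⟩
      apply ht
      have hj' : s ^ (p * i) = (t : Γ) := hj
      rw [← hj', pow_mul]
      exact Subgroup.npow_mem_zpowers _ i
    have hjc : j.Coprime (orderOf s) := by
      rw [ho]
      exact Nat.Coprime.pow_right _ ((Nat.Prime.coprime_iff_not_dvd hp).mpr hpj).symm
    have h2 : (fun c : C => χh ((c : Γ) * (t : Γ))) = (ε : ℂ) • (β : C → ℂ) := by
      funext c
      rw [← hj, hχ.apply_mul_pow hS c.2 hjc, hβ c]
      rfl
    rw [h2, classInner_smul_left, classInner_irr β.2 β'.2]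
    congr 1
    by_cases hb : β' = β
    · rw [if_pos hb, if_pos (by rw [hb])]
    · rw [if_neg hb, if_neg (fun h => hb (Subtype.ext h.symm))]
  -- sum over `⟨s⟩`
  have hsum1 : ∑ t : Subgroup.zpowers s, ∑ μ : IrrCharacter (Subgroup.zpowers s),
      (cf μ : ℂ) * (μ : Subgroup.zpowers s → ℂ) t =
      (Nat.card (Subgroup.zpowers s) : ℂ) *
        (cf ⟨1, Cfsg.Agent.Lib.Helper6.isIrrCharacter_one _⟩ : ℂ) := by
    rw [Finset.sum_comm]
    have h1 : ∀ μ : IrrCharacter (Subgroup.zpowers s),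
        ∑ t : Subgroup.zpowers s, (cf μ : ℂ) * (μ : Subgroup.zpowers s → ℂ) t =
        (Nat.card (Subgroup.zpowers s) : ℂ) * ((cf μ : ℂ) *
          (if μ = ⟨1, Cfsg.Agent.Lib.Helper6.isIrrCharacter_one _⟩ then 1 else 0)) := by
      intro μ
      have h2 := classInner_irr μ.2 (Cfsg.Agent.Lib.Helper6.isIrrCharacter_one (Subgroup.zpowers s))
      unfold classInner at h2
      have hT0 : (Nat.card (Subgroup.zpowers s) : ℂ) ≠ 0 := by
        exact_mod_cast (Nat.card_pos (α := Subgroup.zpowers s)).ne'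
      have h3 : ∑ t : Subgroup.zpowers s, (μ : Subgroup.zpowers s → ℂ) t =
          (Nat.card (Subgroup.zpowers s) : ℂ) *
            (if (μ : Subgroup.zpowers s → ℂ) = 1 then 1 else 0) := by
        rw [← h2, ← mul_assoc, mul_inv_cancel₀ hT0, one_mul]
        apply Finset.sum_congr rfl
        intro t _
        simp
      rw [← Finset.mul_sum, h3]
      by_cases hμ : (μ : Subgroup.zpowers s → ℂ) = 1
      · rw [if_pos hμ, if_pos (Subtype.ext hμ)]
        ring
      · rw [if_neg hμ, if_neg (fun h => hμ (congrArg Subtype.val h))]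
        ring
    rw [Finset.sum_congr rfl (fun μ _ => h1 μ), ← Finset.mul_sum]
    congr 1
    rw [Finset.sum_eq_single (⟨1, Cfsg.Agent.Lib.Helper6.isIrrCharacter_one _⟩ :
      IrrCharacter (Subgroup.zpowers s))]
    · rw [if_pos rfl, mul_one]
    · intro μ _ hμ
      rw [if_neg hμ, mul_zero]
    · intro h
      exact absurd (Finset.mem_univ _) h
  have hsum2 : ∑ t : Subgroup.zpowers s, ∑ μ : IrrCharacter (Subgroup.zpowers s),
      (cf μ : ℂ) * (μ : Subgroup.zpowers s → ℂ) t =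
      ∑ t : Subgroup.zpowers s, (if (t : Γ) ∈ Subgroup.zpowers (s ^ p) then (m : ℂ)
        else (ε : ℂ) * (if β' = β then 1 else 0)) := by
    apply Finset.sum_congr rfl
    intro t _
    rw [hcf t]
    by_cases ht : (t : Γ) ∈ Subgroup.zpowers (s ^ p)
    · rw [if_pos ht, hv1 t ht]
    · rw [if_neg ht, hv2 t ht]
  -- cardinalities
  have hcardT : Nat.card (Subgroup.zpowers s) = p * p ^ a := by
    rw [Nat.card_zpowers, ho, pow_succ, mul_comm]
  have hcardZ : (Finset.univ.filter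
      (fun t : Subgroup.zpowers s => (t : Γ) ∈ Subgroup.zpowers (s ^ p))).card = p ^ a := by
    have hle : Subgroup.zpowers (s ^ p) ≤ Subgroup.zpowers s := by
      rw [Subgroup.zpowers_le]
      exact Subgroup.npow_mem_zpowers s p
    have h1 : Nat.card (Subgroup.zpowers (s ^ p)) = p ^ a := by
      rw [Nat.card_zpowers, orderOf_pow, ho]
      have h2 : Nat.gcd (p ^ (a + 1)) p = p := Nat.gcd_eq_right (Dvd.intro_left _ (pow_succ p a).symm)
      rw [h2, pow_succ, Nat.mul_div_cancel _ hp.pos]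
    rw [← h1, ← Nat.card_congr (Subgroup.subgroupOfEquivOfLe hle).toEquiv,
      Nat.card_eq_fintype_card, Fintype.card_subtype]
    rfl
  rw [hsum1, Finset.sum_ite, Finset.sum_const, Finset.sum_const, nsmul_eq_mul, nsmul_eq_mul,
    hcardZ] at hsum2
  have hcard2 : (Finset.univ.filter
      (fun t : Subgroup.zpowers s => ¬ (t : Γ) ∈ Subgroup.zpowers (s ^ p))).card =
      p * p ^ a - p ^ a := by
    have h1 := Finset.card_filter_add_card_filter_not (s := (Finset.univ :
      Finset (Subgroup.zpowers s))) (fun t : Subgroup.zpowers s => (t : Γ) ∈ Subgroup.zpowers (s ^ p))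
    rw [hcardZ, Finset.card_univ, ← Nat.card_eq_fintype_card, hcardT] at h1
    omega
  rw [hcard2, hcardT] at hsum2
  have hle : p ^ a ≤ p * p ^ a := Nat.le_mul_of_pos_left _ hp.pos
  have hpa : ((p : ℤ) ^ a) ≠ 0 := pow_ne_zero _ (by exact_mod_cast hp.ne_zero)
  by_cases hb : β' = β
  · rw [if_pos hb] at hsum2 ⊢
    have h5 : ((p * p ^ a : ℕ) : ℤ) * (cf ⟨1, Cfsg.Agent.Lib.Helper6.isIrrCharacter_one _⟩ : ℤ) =
        (p ^ a : ℕ) * (m : ℤ) + ((p * p ^ a - p ^ a : ℕ) : ℤ) * (ε * 1) := by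
      exact_mod_cast hsum2
    rw [Nat.cast_sub hle] at h5
    push_cast at h5
    have h6 : (p : ℤ) * (cf ⟨1, Cfsg.Agent.Lib.Helper6.isIrrCharacter_one _⟩ : ℤ) =
        (m : ℤ) + ((p : ℤ) - 1) * ε := by
      apply mul_left_cancel₀ hpa
      linear_combination h5
    have h7 : (m : ℤ) = ε + (p : ℤ) *
        ((cf ⟨1, Cfsg.Agent.Lib.Helper6.isIrrCharacter_one _⟩ : ℤ) - ε) := by
      linear_combination -h6
    rw [h7]
    exact Int.modEq_add_fac_self
  · rw [if_neg hb] at hsum2 ⊢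
    have h5 : ((p * p ^ a : ℕ) : ℤ) * (cf ⟨1, Cfsg.Agent.Lib.Helper6.isIrrCharacter_one _⟩ : ℤ) =
        (p ^ a : ℕ) * (m : ℤ) + ((p * p ^ a - p ^ a : ℕ) : ℤ) * (ε * 0) := by
      exact_mod_cast hsum2
    push_cast at h5
    have h6 : (p : ℤ) * (cf ⟨1, Cfsg.Agent.Lib.Helper6.isIrrCharacter_one _⟩ : ℤ) = (m : ℤ) := by
      apply mul_left_cancel₀ hpa
      linear_combination h5
    rw [← h6]
    have h8 := Int.modEq_add_fac_self (a := 0) (n := (p : ℤ))
      (t := (cf ⟨1, Cfsg.Agent.Lib.Helper6.isIrrCharacter_one _⟩ : ℤ))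
    rwa [zero_add] at h8

omit [Fintype Γ] hG [Fintype G] [Fintype C] in
theorem not_dvd_of_modEq_sign {p : ℕ} (hp : p.Prime) {m : ℕ} {ε : ℤ} (hε : ε = 1 ∨ ε = -1)
    (h : (m : ℤ) ≡ ε [ZMOD p]) : ¬ p ∣ m := by
  intro hd
  have h1 : (p : ℤ) ∣ (m : ℤ) := by exact_mod_cast hd
  have h2 : (p : ℤ) ∣ ε := by
    have h3 := (Int.modEq_iff_dvd.mp h)
    have h4 : ε = (ε - (m : ℤ)) + (m : ℤ) := by ring
    rw [h4]
    exact dvd_add h3 h1
  have h5 : (p : ℤ) ∣ 1 := by
    rcases hε with rfl | rfl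
    · exact h2
    · exact (dvd_neg.mp h2)
  have h6 : p ∣ 1 := by exact_mod_cast h5
  exact hp.one_lt.ne' (Nat.dvd_one.mp h6)

/-- **The Glauberman correspondence when the operator acts through a group of order `p`**,
abstract form. -/
theorem pbase_abstract (hS : Setup G s C) (htop : G ⊔ Subgroup.zpowers s = ⊤) {p a : ℕ}
    (hp : p.Prime) (ho : orderOf s = p ^ (a + 1)) (hz : ∀ g ∈ G, s ^ p * g = g * s ^ p) :
    (∀ χ : IrrCharacter G,
      (∀ g : G, (χ : G → ℂ) ((MulAut.conjNormal s : G ≃* G) g) = (χ : G → ℂ) g) →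
      ∃ β : IrrCharacter C, ∃ ε : ℤ, (ε = 1 ∨ ε = -1) ∧ ∀ β' : IrrCharacter C, ∃ m : ℕ,
        classInner (fun c : C => (χ : G → ℂ) ⟨c, hS.hCG c.2⟩) (β' : C → ℂ) = (m : ℂ) ∧
        (m : ℤ) ≡ (if β' = β then ε else 0) [ZMOD p]) ∧
    (∀ χ χ' : IrrCharacter G,
      (∀ g : G, (χ : G → ℂ) ((MulAut.conjNormal s : G ≃* G) g) = (χ : G → ℂ) g) →
      (∀ g : G, (χ' : G → ℂ) ((MulAut.conjNormal s : G ≃* G) g) = (χ' : G → ℂ) g) →
      ∀ (β : IrrCharacter C) (m m' : ℕ),
        classInner (fun c : C => (χ : G → ℂ) ⟨c, hS.hCG c.2⟩) (β : C → ℂ) = (m : ℂ) → ¬ p ∣ m →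
        classInner (fun c : C => (χ' : G → ℂ) ⟨c, hS.hCG c.2⟩) (β : C → ℂ) = (m' : ℂ) → ¬ p ∣ m' →
        χ = χ') ∧
    (∀ β : IrrCharacter C, ∃ χ : IrrCharacter G,
      (∀ g : G, (χ : G → ℂ) ((MulAut.conjNormal s : G ≃* G) g) = (χ : G → ℂ) g) ∧
      ∃ m : ℕ, classInner (fun c : C => (χ : G → ℂ) ⟨c, hS.hCG c.2⟩) (β : C → ℂ) = (m : ℂ) ∧
        ¬ p ∣ m) := by
  classical
  have hpG : (Nat.card G).Coprime p := by
    have h1 : p ∣ orderOf s := by rw [ho, pow_succ]; exact Dvd.intro_left _ rfl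
    exact Nat.Coprime.coprime_dvd_right h1 hS.hcop
  -- the data attached to an invariant character
  have key : ∀ χ : IrrCharacter G,
      (∀ g : G, (χ : G → ℂ) ((MulAut.conjNormal s : G ≃* G) g) = (χ : G → ℂ) g) →
      ∃ χh : Γ → ℂ, CanonExt G χh ∧ (∀ g : G, χh g = (χ : G → ℂ) g) ∧
        ∃ β : IrrCharacter C, ∃ ε : ℤ, (ε = 1 ∨ ε = -1) ∧
        (∀ c : C, χh ((c : Γ) * s) = (ε : ℂ) * (β : C → ℂ) c) ∧
        ∀ β' : IrrCharacter C, ∃ m : ℕ,
          classInner (fun c : C => (χ : G → ℂ) ⟨c, hS.hCG c.2⟩) (β' : C → ℂ) = (m : ℂ) ∧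
          (m : ℤ) ≡ (if β' = β then ε else 0) [ZMOD p] := by
    intro χ hinv
    have hstab : stabSub G (χ : G → ℂ) = ⊤ := by
      rw [eq_top_iff, ← htop]
      apply sup_le
      · exact le_stabSub G (IsCharacter.isClassFunction (IsIrrCharacter.isCharacter χ.2))
      · rw [Subgroup.zpowers_le]
        exact hinv
    obtain ⟨χh, hcan, hext, hdet⟩ := exists_canonExt hS χ hstab
    obtain ⟨β, ε, hε, hβ, -⟩ := hcan.exists_sign_irr hS
    refine ⟨χh, hcan, hext, β, ε, hε, hβ, ?_⟩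
    intro β'
    have hdet' : (detOrder χh).Coprime p := by
      rw [hdet]
      exact Nat.Coprime.coprime_dvd_left (detOrder_dvd_card (IsIrrCharacter.isCharacter χ.2)) hpG
    obtain ⟨m, hm, hmod⟩ := hcan.classInner_modEq hS htop hp ho hz hdet' hβ β'
    refine ⟨m, ?_, hmod⟩
    rw [← hm]
    congr 1
    funext c
    exact (hext ⟨c, hS.hCG c.2⟩).symm
  refine ⟨?_, ?_, ?_⟩
  · intro χ hinv
    obtain ⟨χh, -, -, β, ε, hε, -, h⟩ := key χ hinv
    exact ⟨β, ε, hε, h⟩
  · intro χ χ' hinv hinv' β m m' hm hpm hm' hpm'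
    obtain ⟨χh, hcan, hext, β₀, ε, hε, hβ₀, h⟩ := key χ hinv
    obtain ⟨χh', hcan', hext', β₀', ε', hε', hβ₀', h'⟩ := key χ' hinv'
    have hb : β = β₀ := by
      by_contra hne
      obtain ⟨m₁, hm₁, hmod⟩ := h β
      rw [if_neg hne] at hmod
      have : (m : ℂ) = (m₁ : ℂ) := by rw [← hm, ← hm₁]
      have hmm : m = m₁ := by exact_mod_cast this
      apply hpm
      rw [hmm]
      have := Int.modEq_zero_iff_dvd.mp hmod
      exact_mod_cast this
    have hb' : β = β₀' := by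
      by_contra hne
      obtain ⟨m₁, hm₁, hmod⟩ := h' β
      rw [if_neg hne] at hmod
      have : (m' : ℂ) = (m₁ : ℂ) := by rw [← hm', ← hm₁]
      have hmm : m' = m₁ := by exact_mod_cast this
      apply hpm'
      rw [hmm]
      have := Int.modEq_zero_iff_dvd.mp hmod
      exact_mod_cast this
    rw [← hb] at hβ₀
    rw [← hb'] at hβ₀'
    have h3 := sign_irr_inj hS hcan.irr hcan.res hcan'.irr hcan'.res β.2 hε hε' hβ₀ hβ₀'
    apply Subtype.ext
    funext g
    have h4 := congrFun h3 g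
    rw [resFun_apply, resFun_apply, hext, hext'] at h4
    exact h4.symm
  · intro β
    obtain ⟨χ, χh, ε, hstab, hcan, hext, hdet, hε, hβ⟩ := exists_canonExt_of_irr hS htop β
    have hinv : ∀ g : G, (χ : G → ℂ) ((MulAut.conjNormal s : G ≃* G) g) = (χ : G → ℂ) g := by
      have h1 : s ∈ stabSub G (χ : G → ℂ) := by rw [hstab]; exact Subgroup.mem_top s
      exact h1
    refine ⟨χ, hinv, ?_⟩
    have hdet' : (detOrder χh).Coprime p := by
      rw [hdet]
      exact Nat.Coprime.coprime_dvd_left (detOrder_dvd_card (IsIrrCharacter.isCharacter χ.2)) hpG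
    obtain ⟨m, hm, hmod⟩ := hcan.classInner_modEq hS htop hp ho hz hdet'
      (fun c => hβ c s rfl) β
    rw [if_pos rfl] at hmod
    refine ⟨m, ?_, not_dvd_of_modEq_sign hp hε hmod⟩
    rw [← hm]
    congr 1
    funext c
    exact (hext ⟨c, hS.hCG c.2⟩).symm

end pbase

end Cfsg.Agent.Lib.Helper2.Glaub
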