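/-
helper2: relative version of the cyclic Glauberman theorem: `G` a subgroup of an arbitrary finite
group `Γ` normalised by an element `s` of order prime to `|G|`; the theorems of `GlaubMain` are
applied inside the subgroup `⟨s⟩ G` and transported back to `G` and `C = C_G(s)`.
-/
import Mathlib
import Cfsg.Agent.Lib.Helper2.GlaubTransl
import Cfsg.Agent.Lib.Helper6.CyclicExtRep
import Cfsg.Agent.Lib.Lead.RealRep

set_option autoImplicit false

namespace Cfsg.Agent.Lib.Helper2.Glaub

open Cfsg Cfsg.Agent.CharLib Cfsg.Agent.Lib.Helper6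
open scoped ComplexConjugate

universe u

section transport

variable {A B : Type u} [Group A] [Group B]

theorem isIrr_comp_equiv_iff (e : A ≃* B) {β : B → ℂ} :
    IsIrrCharacter A (β ∘ e) ↔ IsIrrCharacter B β := by
  constructor
  · intro h
    have h1 := IsIrrCharacter.comp_mulEquiv h e.symm
    have h2 : (β ∘ e) ∘ e.symm = β := by
      funext b
      simp
    rwa [h2] at h1
  · intro h
    exact IsIrrCharacter.comp_mulEquiv h e

theorem classInner_comp_equiv [Fintype A] [Fintype B] (e : A ≃* B) (φ ψ : B → ℂ) :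
    classInner (φ ∘ e) (ψ ∘ e) = classInner φ ψ := by
  unfold classInner
  rw [Nat.card_congr e.toEquiv]
  congr 1
  exact Fintype.sum_equiv e.toEquiv _ _ (fun a => rfl)

/-- A character whose pullback along a homomorphism is irreducible is irreducible. -/
theorem isIrrCharacter_of_comp_hom [Finite A] (f : A →* B) {χ : B → ℂ} (hχ : IsCharacter B χ)
    (h : IsIrrCharacter A (χ ∘ f)) : IsIrrCharacter B χ := by
  obtain ⟨n, ρ, rfl⟩ := hχ
  have h1 : Representation.IsIrreducible (MonoidHom.comp ρ f : Representation ℂ A (Fin n → ℂ)) :=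
    isIrreducible_of_isIrrCharacter _ h
  exact ⟨n, ρ, isIrreducible_of_comp f ρ h1, rfl⟩

/-- The determinantal order of a pullback divides the determinantal order. -/
theorem detOrder_comp_hom_dvd [Finite A] [Finite B] (f : A →* B) {χ : B → ℂ}
    (hχ : IsCharacter B χ) : detOrder (χ ∘ f) ∣ detOrder χ := by
  unfold detOrder
  rw [detChar_comp_hom f hχ]
  apply orderOf_dvd_of_pow_eq_one
  funext a
  have h1 := congrFun (pow_orderOf_eq_one (detChar χ)) (f a)
  simpa using h1

end transport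

variable {Γ : Type u} [Group Γ]

/-- The hypotheses in relative position: `s` normalises `G`, has order prime to `|G|`, and
`C = C_G(s)`. -/
structure RelSetup (G : Subgroup Γ) (s : Γ) (C : Subgroup Γ) : Prop where
  hnorm : ∀ g ∈ G, s * g * s⁻¹ ∈ G
  hnorm' : ∀ g ∈ G, s⁻¹ * g * s ∈ G
  hC : ∀ x, x ∈ C ↔ x ∈ G ∧ x * s = s * x
  hcop : (Nat.card G).Coprime (orderOf s)

/-- The subgroup `⟨s⟩ G`. -/
def amb (G : Subgroup Γ) (s : Γ) : Subgroup Γ := Subgroup.zpowers s ⊔ G

variable {G : Subgroup Γ} {s : Γ} {C : Subgroup Γ}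

theorem le_amb : G ≤ amb G s := le_sup_right

theorem mem_amb : s ∈ amb G s := (le_sup_left : Subgroup.zpowers s ≤ amb G s) (Subgroup.mem_zpowers s)

theorem RelSetup.hCG (h : RelSetup G s C) : C ≤ G := fun x hx => ((h.hC x).mp hx).1

theorem RelSetup.le_amb (h : RelSetup G s C) : C ≤ amb G s := h.hCG.trans Glaub.le_amb

theorem RelSetup.zpowers_le_normalizer (h : RelSetup G s C) :
    Subgroup.zpowers s ≤ Subgroup.normalizer (G : Set Γ) := by
  rw [Subgroup.zpowers_le, Subgroup.mem_normalizer_iff]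
  intro g
  constructor
  · exact h.hnorm g
  · intro hg
    have := h.hnorm' _ hg
    convert this using 1
    group

theorem RelSetup.normal (h : RelSetup G s C) : (G.subgroupOf (amb G s)).Normal :=
  Subgroup.normal_subgroupOf_sup_of_le_normalizer h.zpowers_le_normalizer

theorem zpowers_subgroupOf (H : Subgroup Γ) {t : Γ} (ht : t ∈ H) :
    (Subgroup.zpowers t).subgroupOf H = Subgroup.zpowers (⟨t, ht⟩ : H) := by
  ext x
  rw [Subgroup.mem_subgroupOf, Subgroup.mem_zpowers_iff, Subgroup.mem_zpowers_iff]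
  constructor
  · rintro ⟨k, hk⟩
    refine ⟨k, ?_⟩
    apply Subtype.ext
    rw [Subgroup.coe_zpow]
    exact hk
  · rintro ⟨k, hk⟩
    refine ⟨k, ?_⟩
    rw [← hk, Subgroup.coe_zpow]

theorem sup_subgroupOf_amb :
    G.subgroupOf (amb G s) ⊔ Subgroup.zpowers (⟨s, mem_amb⟩ : amb G s) = ⊤ := by
  rw [← zpowers_subgroupOf (amb G s) mem_amb, ← Subgroup.subgroupOf_sup le_amb le_sup_left,
    Subgroup.subgroupOf_eq_top, sup_comm]
  exact le_refl _

/-- The hypotheses of `GlaubMain` hold inside `⟨s⟩ G`. -/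
theorem RelSetup.setup [Finite Γ] (h : RelSetup G s C) :
    Setup (G.subgroupOf (amb G s)) (⟨s, mem_amb⟩ : amb G s) (C.subgroupOf (amb G s)) where
  hCG := Subgroup.subgroupOf_mono _ h.hCG
  hC := by
    intro x
    rw [Subgroup.mem_subgroupOf, Subgroup.mem_subgroupOf, h.hC]
    constructor
    · rintro ⟨h1, h2⟩
      exact ⟨h1, Subtype.ext h2⟩
    · rintro ⟨h1, h2⟩
      exact ⟨h1, congrArg Subtype.val h2⟩
  hcop := by
    rw [Nat.card_congr (Subgroup.subgroupOfEquivOfLe (Glaub.le_amb (G := G) (s := s))).toEquiv,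
      Subgroup.orderOf_mk]
    exact h.hcop
  hidx := by
    haveI := h.normal
    have h1 := sup_subgroupOf_amb (G := G) (s := s)
    rw [← Subgroup.relIndex_top_right, ← h1, Subgroup.relIndex_sup_left, ← Nat.card_zpowers]
    exact Subgroup.relIndex_dvd_card _ _

/-- **Glauberman's theorem in general position**: `χh` a character of `Γ` restricting irreducibly
to `G`, with determinantal order prime to the order of `s`.  Then `χh (c t) = ε β(c)` for `c ∈ C`
and all generators `t` of `⟨s⟩`, with `β ∈ Irr(C)` and a sign `ε`. -/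
theorem RelSetup.exists_sign_irr [Fintype Γ] [Fintype C] (h : RelSetup G s C) {χh : Γ → ℂ}
    (hχ : IsCharacter Γ χh) (hres : IsIrrCharacter G (resFun G χh))
    (hdet : (detOrder χh).Coprime (orderOf s)) :
    ∃ β : IrrCharacter C, ∃ ε : ℤ, (ε = 1 ∨ ε = -1) ∧
      ∀ c : C, ∀ t : Γ, Subgroup.zpowers t = Subgroup.zpowers s →
        χh ((c : Γ) * t) = (ε : ℂ) * (β : C → ℂ) c := by
  classical
  letI : Fintype (amb G s) := Fintype.ofFinite _
  letI : Fintype (G.subgroupOf (amb G s)) := Fintype.ofFinite _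
  letI : Fintype (C.subgroupOf (amb G s)) := Fintype.ofFinite _
  haveI := h.normal
  have hS := h.setup
  have hχ₀ : IsCharacter (amb G s) (χh ∘ (amb G s).subtype) := IsCharacter.comp_hom hχ _
  have hres₀ : IsIrrCharacter (G.subgroupOf (amb G s))
      (resFun (G.subgroupOf (amb G s)) (χh ∘ (amb G s).subtype)) := by
    have h1 : resFun (G.subgroupOf (amb G s)) (χh ∘ (amb G s).subtype) =
        (resFun G χh) ∘ (Subgroup.subgroupOfEquivOfLe (Glaub.le_amb (G := G) (s := s))) := by
      funext x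
      rfl
    rw [h1]
    exact (isIrr_comp_equiv_iff _).mpr hres
  have hirr₀ : IsIrrCharacter (amb G s) (χh ∘ (amb G s).subtype) :=
    isIrrCharacter_of_comp_hom (G.subgroupOf (amb G s)).subtype hχ₀ hres₀
  have hcan : CanonExt (G.subgroupOf (amb G s)) (χh ∘ (amb G s).subtype) := by
    refine ⟨hirr₀, hres₀, ?_⟩
    have h1 := hS.hidx
    rw [Subgroup.orderOf_mk] at h1
    exact (Nat.Coprime.coprime_dvd_left (detOrder_comp_hom_dvd _ hχ)
      (Nat.Coprime.coprime_dvd_right h1 hdet)).symm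
  obtain ⟨β₀, ε, hε, h1, -⟩ := hcan.exists_sign_irr_gen hS
  refine ⟨⟨(β₀ : C.subgroupOf (amb G s) → ℂ) ∘ (Subgroup.subgroupOfEquivOfLe h.le_amb).symm,
    (isIrr_comp_equiv_iff _).mpr β₀.2⟩, ε, hε, ?_⟩
  intro c t ht
  have htH : t ∈ amb G s := by
    have h2 : t ∈ Subgroup.zpowers s := ht ▸ Subgroup.mem_zpowers t
    exact (le_sup_left : Subgroup.zpowers s ≤ amb G s) h2
  have h2 := h1 ((Subgroup.subgroupOfEquivOfLe h.le_amb).symm c) ⟨t, htH⟩
    (by rw [← zpowers_subgroupOf (amb G s) htH, ← zpowers_subgroupOf (amb G s) mem_amb, ht])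
  exact h2

end Cfsg.Agent.Lib.Helper2.Glaub
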