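/-
helper2: the Glauberman correspondence for an operator group `S` acting on `G` through a quotient
of prime order `p` (`T ⊴ S` of index `p` centralising `G`), inside an arbitrary finite group `Γ`.
-/
import Mathlib
import Cfsg.Agent.Lib.Helper2.GlaubRel
import Cfsg.Agent.Lib.Helper2.GlaubPBase

set_option autoImplicit false

namespace Cfsg.Agent.Lib.Helper2.Glaub

open Cfsg Cfsg.Agent.CharLib Cfsg.Agent.Lib.Helper6
open scoped ComplexConjugate

universe u

variable {Γ : Type u} [Group Γ]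

/-- `S`-invariance of a function on a subgroup `G` of `Γ`, in the "inside `Γ`" formulation. -/
def InvUnder (G S : Subgroup Γ) (χ : G → ℂ) : Prop :=
  ∀ t ∈ S, ∀ g g' : G, (g' : Γ) = t * g * t⁻¹ → χ g' = χ g

/-- The elements of the normaliser of `G` fixing `χ`. -/
def invSub (G : Subgroup Γ) (χ : G → ℂ) : Subgroup Γ where
  carrier := {t | t ∈ Subgroup.normalizer (G : Set Γ) ∧
    ∀ g g' : G, (g' : Γ) = t * g * t⁻¹ → χ g' = χ g}
  one_mem' := by
    refine ⟨Subgroup.one_mem _, ?_⟩
    intro g g' h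
    have : g' = g := by
      apply Subtype.ext
      rw [h]
      group
    rw [this]
  mul_mem' := by
    rintro a b ⟨ha1, ha2⟩ ⟨hb1, hb2⟩
    refine ⟨Subgroup.mul_mem _ ha1 hb1, ?_⟩
    intro g g' h
    have hm : b * (g : Γ) * b⁻¹ ∈ G := (Subgroup.mem_normalizer_iff.mp hb1 g).mp g.2
    have h1 := hb2 g ⟨_, hm⟩ rfl
    have h2 := ha2 ⟨_, hm⟩ g' (by rw [h]; group)
    rw [h2, h1]
  inv_mem' := by
    rintro a ⟨ha1, ha2⟩
    refine ⟨Subgroup.inv_mem _ ha1, ?_⟩
    intro g g' h
    have h1 := ha2 g' g (by rw [h]; group)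
    exact h1.symm

theorem invUnder_iff_le_invSub {G S : Subgroup Γ} (hnorm : S ≤ Subgroup.normalizer (G : Set Γ))
    (χ : G → ℂ) : InvUnder G S χ ↔ S ≤ invSub G χ := by
  constructor
  · intro h t ht
    exact ⟨hnorm ht, h t ht⟩
  · intro h t ht
    exact (h ht).2

/-- A subgroup of prime index together with an element outside it generates. -/
theorem sup_zpowers_eq_of_relIndex_prime {T S : Subgroup Γ} (hTS : T ≤ S) {p : ℕ} (hp : p.Prime)
    (hidx : T.relIndex S = p) {s : Γ} (hs : s ∈ S) (hsT : s ∉ T) : T ⊔ Subgroup.zpowers s = S := by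
  have hle : T ⊔ Subgroup.zpowers s ≤ S := sup_le hTS (by rw [Subgroup.zpowers_le]; exact hs)
  apply le_antisymm hle
  have h1 := Subgroup.relIndex_mul_relIndex T (T ⊔ Subgroup.zpowers s) S
    (le_sup_left : T ≤ T ⊔ Subgroup.zpowers s) hle
  rw [hidx] at h1
  have h2 : T.relIndex (T ⊔ Subgroup.zpowers s) ∣ p := Dvd.intro _ h1
  rcases (Nat.dvd_prime hp).mp h2 with h3 | h3
  · exfalso
    apply hsT
    have h4 := Subgroup.relIndex_eq_one.mp h3
    exact h4 ((le_sup_right : Subgroup.zpowers s ≤ T ⊔ Subgroup.zpowers s) (Subgroup.mem_zpowers s))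
  · rw [h3] at h1
    have h4 : (T ⊔ Subgroup.zpowers s).relIndex S = 1 := by
      have h5 : p * (T ⊔ Subgroup.zpowers s).relIndex S = p * 1 := by rw [h1, mul_one]
      exact Nat.eq_of_mul_eq_mul_left hp.pos h5
    exact Subgroup.relIndex_eq_one.mp h4

/-- The `p`-th power of an element of `S` lies in a normal subgroup of index `p`. -/
theorem pow_mem_of_relIndex {T S : Subgroup Γ} (hTn : ∀ t ∈ T, ∀ x ∈ S, x * t * x⁻¹ ∈ T)
    (hTS : T ≤ S) {p : ℕ} (hidx : T.relIndex S = p) {s : Γ} (hs : s ∈ S) : s ^ p ∈ T := by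
  haveI : (T.subgroupOf S).Normal := (Subgroup.normal_subgroupOf_iff hTS).mpr
    (fun t x ht hx => hTn t ht x hx)
  have h1 := Subgroup.pow_index_mem (T.subgroupOf S) (⟨s, hs⟩ : S)
  rw [← Subgroup.relIndex, hidx, Subgroup.mem_subgroupOf] at h1
  exact h1

section irrEquiv

variable {A B : Type u} [Group A] [Group B]

/-- Transport of irreducible characters along a group isomorphism. -/
def irrEquiv (e : A ≃* B) : IrrCharacter B ≃ IrrCharacter A where
  toFun β := ⟨(β : B → ℂ) ∘ e, (isIrr_comp_equiv_iff e).mpr β.2⟩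
  invFun α := ⟨(α : A → ℂ) ∘ e.symm, (isIrr_comp_equiv_iff e.symm).mpr α.2⟩
  left_inv β := by
    apply Subtype.ext
    funext b
    simp
  right_inv α := by
    apply Subtype.ext
    funext a
    simp

theorem irrEquiv_apply (e : A ≃* B) (β : IrrCharacter B) (a : A) :
    ((irrEquiv e β : IrrCharacter A) : A → ℂ) a = (β : B → ℂ) (e a) := rfl

end irrEquiv

theorem le_normalizer_of_conj_mem {G S : Subgroup Γ} (hnorm : ∀ t ∈ S, ∀ g ∈ G, t * g * t⁻¹ ∈ G) :
    S ≤ Subgroup.normalizer (G : Set Γ) := by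
  intro t ht
  rw [Subgroup.mem_normalizer_iff]
  intro g
  constructor
  · exact hnorm t ht g
  · intro h
    have := hnorm t⁻¹ (S.inv_mem ht) _ h
    rw [inv_inv] at this
    convert this using 1
    group

/-- **The Glauberman correspondence for an operator group acting through a quotient of prime
order**, inside an arbitrary finite group. -/
theorem pbase_rel [Fintype Γ] (G S T C : Subgroup Γ) [Fintype G] [Fintype C]
    (hnorm : ∀ t ∈ S, ∀ g ∈ G, t * g * t⁻¹ ∈ G) (hcop : (Nat.card G).Coprime (Nat.card S))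
    {p : ℕ} (hp : p.Prime) (hSp : IsPGroup p S) (hTS : T ≤ S)
    (hTn : ∀ t ∈ T, ∀ x ∈ S, x * t * x⁻¹ ∈ T) (hidx : T.relIndex S = p)
    (hTG : ∀ t ∈ T, ∀ g ∈ G, t * g = g * t)
    (hC : C = G ⊓ Subgroup.centralizer (S : Set Γ)) (hCG : C ≤ G) :
    (∀ χ : IrrCharacter G, InvUnder G S (χ : G → ℂ) →
      ∃ β : IrrCharacter C, ∃ ε : ℤ, (ε = 1 ∨ ε = -1) ∧ ∀ β' : IrrCharacter C, ∃ m : ℕ,
        classInner (fun c : C => (χ : G → ℂ) ⟨c, hCG c.2⟩) (β' : C → ℂ) = (m : ℂ) ∧
        (m : ℤ) ≡ (if β' = β then ε else 0) [ZMOD p]) ∧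
    (∀ χ χ' : IrrCharacter G, InvUnder G S (χ : G → ℂ) → InvUnder G S (χ' : G → ℂ) →
      ∀ (β : IrrCharacter C) (m m' : ℕ),
        classInner (fun c : C => (χ : G → ℂ) ⟨c, hCG c.2⟩) (β : C → ℂ) = (m : ℂ) → ¬ p ∣ m →
        classInner (fun c : C => (χ' : G → ℂ) ⟨c, hCG c.2⟩) (β : C → ℂ) = (m' : ℂ) → ¬ p ∣ m' →
        χ = χ') ∧
    (∀ β : IrrCharacter C, ∃ χ : IrrCharacter G, InvUnder G S (χ : G → ℂ) ∧
      ∃ m : ℕ, classInner (fun c : C => (χ : G → ℂ) ⟨c, hCG c.2⟩) (β : C → ℂ) = (m : ℂ) ∧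
        ¬ p ∣ m) := by
  classical
  haveI : Fact p.Prime := ⟨hp⟩
  have hSN := le_normalizer_of_conj_mem hnorm
  -- choose `s`
  have hnle : ¬ S ≤ T := by
    intro h
    have h1 := Subgroup.relIndex_eq_one.mpr h
    rw [hidx] at h1
    exact hp.one_lt.ne' h1
  obtain ⟨s, hs, hsT⟩ := SetLike.not_le_iff_exists.mp hnle
  have hST := sup_zpowers_eq_of_relIndex_prime hTS hp hidx hs hsT
  -- relative setup
  have hR : RelSetup G s C :=
    { hnorm := hnorm s hs
      hnorm' := by
        intro g hg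
        have := hnorm s⁻¹ (S.inv_mem hs) g hg
        rwa [inv_inv] at this
      hC := by
        intro x
        rw [hC, Subgroup.mem_inf, Subgroup.mem_centralizer_iff]
        constructor
        · rintro ⟨h1, h2⟩
          exact ⟨h1, (h2 s hs).symm⟩
        · rintro ⟨h1, h2⟩
          refine ⟨h1, ?_⟩
          have h3 : S ≤ Subgroup.centralizer ({x} : Set Γ) := by
            rw [← hST]
            apply sup_le
            · intro t ht
              rw [Subgroup.mem_centralizer_iff]
              intro y hy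
              rw [Set.mem_singleton_iff] at hy
              rw [hy]
              exact (hTG t ht x h1).symm
            · rw [Subgroup.zpowers_le, Subgroup.mem_centralizer_iff]
              intro y hy
              rw [Set.mem_singleton_iff] at hy
              rw [hy]
              exact h2
          intro h hh
          exact (Subgroup.mem_centralizer_iff.mp (h3 hh) x rfl).symm
      hcop := by
        have h1 : orderOf s ∣ Nat.card S := by
          have := orderOf_dvd_natCard (⟨s, hs⟩ : S)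
          rwa [Subgroup.orderOf_mk] at this
        exact Nat.Coprime.coprime_dvd_right h1 hcop }
  -- order of `s`
  obtain ⟨k, hk⟩ := IsPGroup.iff_orderOf.mp hSp ⟨s, hs⟩
  rw [Subgroup.orderOf_mk] at hk
  have hk0 : k ≠ 0 := by
    rintro rfl
    rw [pow_zero, orderOf_eq_one_iff] at hk
    exact hsT (hk ▸ T.one_mem)
  obtain ⟨a, rfl⟩ := Nat.exists_eq_succ_of_ne_zero hk0
  -- ambient group
  letI : Fintype (amb G s) := Fintype.ofFinite _
  letI : Fintype (G.subgroupOf (amb G s)) := Fintype.ofFinite _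
  letI : Fintype (C.subgroupOf (amb G s)) := Fintype.ofFinite _
  haveI := hR.normal
  have hS' := hR.setup
  have ho' : orderOf (⟨s, mem_amb⟩ : amb G s) = p ^ (a + 1) := by
    rw [Subgroup.orderOf_mk]; exact hk
  have hspT : s ^ p ∈ T := pow_mem_of_relIndex hTn hTS hidx hs
  have hz' : ∀ g ∈ G.subgroupOf (amb G s),
      (⟨s, mem_amb⟩ : amb G s) ^ p * g = g * (⟨s, mem_amb⟩ : amb G s) ^ p := by
    intro g hg
    apply Subtype.ext
    simp only [Subgroup.coe_mul, Subgroup.coe_pow]
    exact hTG _ hspT _ (Subgroup.mem_subgroupOf.mp hg)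
  obtain ⟨A1, A3, A4⟩ := pbase_abstract hS' sup_subgroupOf_amb hp ho' hz'
  -- transport
  have Tinv : ∀ χ : IrrCharacter G, InvUnder G S (χ : G → ℂ) ↔
      ∀ g : G.subgroupOf (amb G s),
        ((irrEquiv (Subgroup.subgroupOfEquivOfLe (Glaub.le_amb (G := G) (s := s))) χ :
          IrrCharacter (G.subgroupOf (amb G s))) : G.subgroupOf (amb G s) → ℂ)
          ((MulAut.conjNormal (⟨s, mem_amb⟩ : amb G s) :
            G.subgroupOf (amb G s) ≃* G.subgroupOf (amb G s)) g) =
        ((irrEquiv (Subgroup.subgroupOfEquivOfLe (Glaub.le_amb (G := G) (s := s))) χ :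
          IrrCharacter (G.subgroupOf (amb G s))) : G.subgroupOf (amb G s) → ℂ) g := by
    intro χ
    constructor
    · intro h g
      rw [irrEquiv_apply, irrEquiv_apply]
      apply h s hs
      show (((MulAut.conjNormal (⟨s, mem_amb⟩ : amb G s) :
        G.subgroupOf (amb G s) ≃* G.subgroupOf (amb G s)) g : G.subgroupOf (amb G s)) : Γ) = _
      rw [MulAut.conjNormal_apply]
      rfl
    · intro h
      rw [invUnder_iff_le_invSub hSN, ← hST]
      apply sup_le
      · intro t ht
        refine ⟨hSN (hTS ht), ?_⟩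
        intro g g' hg'
        have : g' = g := by
          apply Subtype.ext
          rw [hg', hTG t ht g g.2]
          group
        rw [this]
      · rw [Subgroup.zpowers_le]
        refine ⟨hSN hs, ?_⟩
        intro g g' hg'
        have h1 := h ((Subgroup.subgroupOfEquivOfLe (Glaub.le_amb (G := G) (s := s))).symm g)
        rw [irrEquiv_apply, irrEquiv_apply, MulEquiv.apply_symm_apply] at h1
        have h2 : (Subgroup.subgroupOfEquivOfLe (Glaub.le_amb (G := G) (s := s)))
            ((MulAut.conjNormal (⟨s, mem_amb⟩ : amb G s) :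
              G.subgroupOf (amb G s) ≃* G.subgroupOf (amb G s))
              ((Subgroup.subgroupOfEquivOfLe (Glaub.le_amb (G := G) (s := s))).symm g)) = g' := by
          apply Subtype.ext
          rw [hg']
          show (((MulAut.conjNormal (⟨s, mem_amb⟩ : amb G s) :
            G.subgroupOf (amb G s) ≃* G.subgroupOf (amb G s))
            ((Subgroup.subgroupOfEquivOfLe (Glaub.le_amb (G := G) (s := s))).symm g) :
              G.subgroupOf (amb G s)) : Γ) = _
          rw [MulAut.conjNormal_apply]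
          rfl
        rw [h2] at h1
        exact h1
  have Tinner : ∀ (χ : IrrCharacter G) (β : IrrCharacter C),
      classInner (fun c : C.subgroupOf (amb G s) =>
        ((irrEquiv (Subgroup.subgroupOfEquivOfLe (Glaub.le_amb (G := G) (s := s))) χ :
          IrrCharacter (G.subgroupOf (amb G s))) : G.subgroupOf (amb G s) → ℂ)
          ⟨c, hS'.hCG c.2⟩)
        ((irrEquiv (Subgroup.subgroupOfEquivOfLe hR.le_amb) β :
          IrrCharacter (C.subgroupOf (amb G s))) : C.subgroupOf (amb G s) → ℂ) =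
      classInner (fun c : C => (χ : G → ℂ) ⟨c, hCG c.2⟩) (β : C → ℂ) := by
    intro χ β
    rw [← classInner_comp_equiv (Subgroup.subgroupOfEquivOfLe hR.le_amb)]
    rfl
  refine ⟨?_, ?_, ?_⟩
  · intro χ hinv
    obtain ⟨β₀, ε, hε, h⟩ := A1 _ ((Tinv χ).mp hinv)
    refine ⟨(irrEquiv (Subgroup.subgroupOfEquivOfLe hR.le_amb)).symm β₀, ε, hε, ?_⟩
    intro β'
    obtain ⟨m, hm, hmod⟩ := h (irrEquiv (Subgroup.subgroupOfEquivOfLe hR.le_amb) β')
    rw [Tinner] at hm
    refine ⟨m, hm, ?_⟩
    by_cases hb : β' = (irrEquiv (Subgroup.subgroupOfEquivOfLe hR.le_amb)).symm β₀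
    · rw [if_pos hb]
      rw [if_pos (by rw [hb, Equiv.apply_symm_apply])] at hmod
      exact hmod
    · rw [if_neg hb]
      rw [if_neg (fun h' => hb (by rw [← h', Equiv.symm_apply_apply]))] at hmod
      exact hmod
  · intro χ χ' hinv hinv' β m m' hm hpm hm' hpm'
    have h1 := A3 _ _ ((Tinv χ).mp hinv) ((Tinv χ').mp hinv')
      (irrEquiv (Subgroup.subgroupOfEquivOfLe hR.le_amb) β) m m'
      (by rw [Tinner]; exact hm) hpm (by rw [Tinner]; exact hm') hpm'
    exact (irrEquiv _).injective h1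
  · intro β
    obtain ⟨χ', hinv', m, hm, hpm⟩ := A4 (irrEquiv (Subgroup.subgroupOfEquivOfLe hR.le_amb) β)
    refine ⟨(irrEquiv (Subgroup.subgroupOfEquivOfLe (Glaub.le_amb (G := G) (s := s)))).symm χ',
      ?_, m, ?_, hpm⟩
    · rw [Tinv, Equiv.apply_symm_apply]
      exact hinv'
    · rw [← Tinner, Equiv.apply_symm_apply]
      exact hm

end Cfsg.Agent.Lib.Helper2.Glaub
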