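import Mathlib
import Cfsg.Prelude.Def_LocalEven
import Cfsg.Prelude.Def_PLocal
import Cfsg.Prelude.Def_FusionSystem

/-!
# S5280 project (helper2): `p`-stable groups have constrained fusion systems — definitions

`CtlIn H N P`: the subgroup `N` controls strong `H`-fusion in `P` (everything inside one ambient group).
`GoodIn H P`: some `R ≤ P`, normalized by `P`, with `C_P(R) ≤ R`, such that `N(R)` controls strong
`H`-fusion in `P` (so `R` is normal and centric in the fusion system of `H` on `P`).
-/

set_option autoImplicit false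

namespace Cfsg.Agent.Lib.Helper2.PC

/-- `N` controls strong `H`-fusion in `P`. -/
def CtlIn {G : Type*} [Group G] (H N P : Subgroup G) : Prop :=
  ∀ (A : Set G) (g : G), g ∈ H → A ⊆ P → (∀ a ∈ A, g * a * g⁻¹ ∈ P) →
    ∃ x ∈ H ⊓ N, ∀ a ∈ A, x * a * x⁻¹ = g * a * g⁻¹

/-- `F_P(H)` has a normal centric subgroup (group-theoretic form). -/
def GoodIn {G : Type*} [Group G] (H P : Subgroup G) : Prop :=
  ∃ R : Subgroup G, R ≤ P ∧ P ≤ Subgroup.normalizer (R : Set G) ∧
    P ⊓ Subgroup.centralizer (R : Set G) ≤ R ∧ CtlIn H (Subgroup.normalizer (R : Set G)) P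

end Cfsg.Agent.Lib.Helper2.PC
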