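/-
helper2: coprime action and conjugacy classes (Isaacs, Corollary 13.10): the classes of the fixed
point subgroup `C = C_G(S)` correspond to the `S`-invariant classes of `G`.
Uses helper1's internal form of Glauberman's lemma.
-/
import Mathlib
import Cfsg.Agent.Lib.Helper1.Coprime

set_option autoImplicit false
open Pointwise

namespace Cfsg.Agent.Lib.Helper2.Glaub

open Cfsg

universe u

variable {Γ : Type u} [Group Γ]

/-- An `S`-invariant class of `G` contains an `S`-fixed element. -/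
theorem exists_conj_mem_centralizer [Finite Γ] {G S : Subgroup Γ}
    (hSG : S ≤ Subgroup.normalizer (G : Set Γ)) (hcop : (Nat.card G).Coprime (Nat.card S))
    (hsolv : Group.IsSolvable S ∨ Group.IsSolvable G) (g : Γ)
    (hinv : ∀ s ∈ S, ∃ k ∈ G, s * g * s⁻¹ = k * g * k⁻¹) :
    ∃ k ∈ G, k * g * k⁻¹ ∈ Subgroup.centralizer (S : Set Γ) := by
  set U : Subgroup Γ := (G ⊔ S) ⊓ Subgroup.centralizer {g} with hU
  have hKU : ∀ γ ∈ G ⊔ S, ∃ k ∈ G, ∃ u ∈ U, γ = k * u := by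
    intro γ hγ
    rw [← SetLike.mem_coe, Subgroup.coe_mul_of_right_le_normalizer_left G S hSG, Set.mem_mul] at hγ
    obtain ⟨g₁, hg₁, s, hs, rfl⟩ := hγ
    obtain ⟨k, hk, hks⟩ := hinv s hs
    refine ⟨g₁ * k, G.mul_mem hg₁ hk, k⁻¹ * s, ⟨?_, ?_⟩, by group⟩
    · exact Subgroup.mul_mem _ (Subgroup.mem_sup_left (G.inv_mem hk)) (Subgroup.mem_sup_right hs)
    · show k⁻¹ * s ∈ Subgroup.centralizer {g}
      rw [Subgroup.mem_centralizer_iff]
      intro y hy
      rw [Set.mem_singleton_iff] at hy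
      subst hy
      have : s * y = k * y * k⁻¹ * s := by
        rw [← hks]
        group
      calc y * (k⁻¹ * s) = k⁻¹ * (k * y * k⁻¹ * s) := by group
        _ = k⁻¹ * (s * y) := by rw [this]
        _ = k⁻¹ * s * y := by group
  obtain ⟨k, hk, hle⟩ := Cfsg.Agent.Lib.Helper1.exists_le_conj_smul_of_coprime hSG hcop.symm hsolv
    (inf_le_left : U ≤ G ⊔ S) hKU
  refine ⟨k, hk, ?_⟩
  rw [Subgroup.mem_centralizer_iff]
  intro s hs
  have h1 := (Cfsg.Agent.Lib.Helper1.mem_conj_smul_iff U k s).mp (hle hs)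
  have h2 := Subgroup.mem_centralizer_iff.mp h1.2 g (Set.mem_singleton g)
  -- h2 : g * (k⁻¹ * s * k) = k⁻¹ * s * k * g
  calc s * (k * g * k⁻¹) = k * (k⁻¹ * s * k * g) * k⁻¹ := by group
    _ = k * (g * (k⁻¹ * s * k)) * k⁻¹ := by rw [h2]
    _ = k * g * k⁻¹ * s := by group

/-- Two `S`-fixed elements conjugate under `G` are conjugate under `C_G(S)`. -/
theorem exists_conj_of_conj [Finite Γ] {G S : Subgroup Γ}
    (hSG : S ≤ Subgroup.normalizer (G : Set Γ)) (hcop : (Nat.card G).Coprime (Nat.card S))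
    (hsolv : Group.IsSolvable S ∨ Group.IsSolvable G) (c : Γ)
    (hc : c ∈ Subgroup.centralizer (S : Set Γ)) (k : Γ) (hk : k ∈ G)
    (hc' : k * c * k⁻¹ ∈ Subgroup.centralizer (S : Set Γ)) :
    ∃ c₀ ∈ G ⊓ Subgroup.centralizer (S : Set Γ), c₀ * c * c₀⁻¹ = k * c * k⁻¹ := by
  set U : Subgroup Γ := Subgroup.centralizer {c} with hU
  have hAU : S ≤ U := by
    intro s hs
    rw [hU, Subgroup.mem_centralizer_iff]
    intro y hy
    rw [Set.mem_singleton_iff] at hy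
    subst hy
    exact (Subgroup.mem_centralizer_iff.mp hc s hs).symm
  have hAkU : S ≤ MulAut.conj k • U := by
    intro s hs
    rw [Cfsg.Agent.Lib.Helper1.mem_conj_smul_iff, hU, Subgroup.mem_centralizer_iff]
    intro y hy
    rw [Set.mem_singleton_iff] at hy
    subst hy
    have h1 := Subgroup.mem_centralizer_iff.mp hc' s hs
    -- h1 : s * (k * y * k⁻¹) = k * y * k⁻¹ * s
    calc y * (k⁻¹ * s * k) = k⁻¹ * (k * y * k⁻¹ * s) * k := by group
      _ = k⁻¹ * (s * (k * y * k⁻¹)) * k := by rw [h1]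
      _ = k⁻¹ * s * k * y := by group
  obtain ⟨c₀, hc₀, hmem⟩ := Cfsg.Agent.Lib.Helper1.exists_mem_centralizer_of_le_conj_smul hSG
    hcop.symm hsolv hAU k hk hAkU
  refine ⟨c₀, hc₀, ?_⟩
  have h2 := Subgroup.mem_centralizer_iff.mp hmem c (Set.mem_singleton c)
  -- h2 : c * (k⁻¹ * c₀) = k⁻¹ * c₀ * c
  calc c₀ * c * c₀⁻¹ = k * (k⁻¹ * c₀ * c) * c₀⁻¹ := by group
    _ = k * (c * (k⁻¹ * c₀)) * c₀⁻¹ := by rw [h2]
    _ = k * c * k⁻¹ := by group

/-- `S`-invariance of a conjugacy class of `G` (as in the statements). -/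
def ClassInv (G S : Subgroup Γ) (K : ConjClasses G) : Prop :=
  ∀ s ∈ S, ∀ g g' : G, (g' : Γ) = s * g * s⁻¹ → ConjClasses.mk g = K → ConjClasses.mk g' = K

/-- The map from classes of `C` to `S`-invariant classes of `G`. -/
theorem classInv_map {G S C : Subgroup Γ} (hC : C = G ⊓ Subgroup.centralizer (S : Set Γ))
    (hCG : C ≤ G) (hSG : S ≤ Subgroup.normalizer (G : Set Γ)) (K : ConjClasses C) :
    ClassInv G S (ConjClasses.map (Subgroup.inclusion hCG) K) := by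
  obtain ⟨c, rfl⟩ := ConjClasses.exists_rep K
  · intro s hs g g' hg' hg
    change ConjClasses.mk g = ConjClasses.mk (Subgroup.inclusion hCG c) at hg
    change ConjClasses.mk g' = ConjClasses.mk (Subgroup.inclusion hCG c)
    have hcc : (c : Γ) ∈ Subgroup.centralizer (S : Set Γ) := (hC.le c.2).2
    have hsc : s * (c : Γ) * s⁻¹ = c := by
      have := Subgroup.mem_centralizer_iff.mp hcc s hs
      rw [this]
      group
    rw [← hg]
    have hg2 : ConjClasses.mk g = ConjClasses.mk (Subgroup.inclusion hCG c) := hg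
    rw [ConjClasses.mk_eq_mk_iff_isConj, isConj_iff] at hg2 ⊢
    obtain ⟨k, hk⟩ := hg2
    -- k * g * k⁻¹ = c; want g' ~ g
    have hsk : s * (k : Γ)⁻¹ * s⁻¹ ∈ G := by
      have := (Subgroup.mem_normalizer_iff.mp (hSG hs) ((k : Γ)⁻¹)).mp (G.inv_mem k.2)
      exact this
    refine ⟨k⁻¹ * ⟨s * (k : Γ)⁻¹ * s⁻¹, hsk⟩⁻¹, ?_⟩
    apply Subtype.ext
    have hk' : (k : Γ) * g * (k : Γ)⁻¹ = c := by
      have := congrArg (Subtype.val) hk
      simpa using this
    have hgc : (g : Γ) = (k : Γ)⁻¹ * c * k := by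
      rw [← hk']
      group
    simp only [Subgroup.coe_mul, Subgroup.coe_inv, hg']
    rw [hgc]
    calc (k : Γ)⁻¹ * (s * (k : Γ)⁻¹ * s⁻¹)⁻¹ * (s * ((k : Γ)⁻¹ * c * k) * s⁻¹) *
          ((k : Γ)⁻¹ * (s * (k : Γ)⁻¹ * s⁻¹)⁻¹)⁻¹
        = (k : Γ)⁻¹ * (s * c * s⁻¹) * k := by group
      _ = (k : Γ)⁻¹ * c * k := by rw [hsc]

/-- **Isaacs 13.10**: the classes of `C = C_G(S)` correspond bijectively to the `S`-invariant
classes of `G`. -/
theorem classMap_bijective [Finite Γ] {G S C : Subgroup Γ}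
    (hC : C = G ⊓ Subgroup.centralizer (S : Set Γ)) (hCG : C ≤ G)
    (hSG : S ≤ Subgroup.normalizer (G : Set Γ)) (hcop : (Nat.card G).Coprime (Nat.card S))
    (hsolv : Group.IsSolvable S ∨ Group.IsSolvable G) :
    Function.Bijective (fun K : ConjClasses C =>
      (⟨ConjClasses.map (Subgroup.inclusion hCG) K, classInv_map hC hCG hSG K⟩ :
        {K : ConjClasses G // ClassInv G S K})) := by
  constructor
  · intro K₁ K₂ h
    have h' := congrArg Subtype.val h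
    simp only at h'
    obtain ⟨c₁, rfl⟩ := ConjClasses.exists_rep K₁
    obtain ⟨c₂, rfl⟩ := ConjClasses.exists_rep K₂
    have h2 : ConjClasses.mk (Subgroup.inclusion hCG c₁) = ConjClasses.mk (Subgroup.inclusion hCG c₂) :=
      h'
    rw [ConjClasses.mk_eq_mk_iff_isConj, isConj_iff] at h2 ⊢
    obtain ⟨k, hk⟩ := h2
    have hk' : (k : Γ) * c₁ * (k : Γ)⁻¹ = c₂ := by
      have := congrArg (Subtype.val) hk
      simpa using this
    have hc₁ : (c₁ : Γ) ∈ Subgroup.centralizer (S : Set Γ) := (hC.le c₁.2).2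
    have hc₂ : (c₂ : Γ) ∈ Subgroup.centralizer (S : Set Γ) := (hC.le c₂.2).2
    obtain ⟨c₀, hc₀, hcc⟩ := exists_conj_of_conj hSG hcop hsolv (c₁ : Γ) hc₁ (k : Γ) k.2
      (by rw [hk']; exact hc₂)
    refine ⟨⟨c₀, by rw [hC]; exact hc₀⟩, ?_⟩
    apply Subtype.ext
    simp only [Subgroup.coe_mul, Subgroup.coe_inv]
    rw [hcc, hk']
  · rintro ⟨K, hK⟩
    obtain ⟨g, rfl⟩ := ConjClasses.exists_rep K
    have hinv : ∀ s ∈ S, ∃ k ∈ G, s * (g : Γ) * s⁻¹ = k * g * k⁻¹ := by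
      intro s hs
      have hsg : s * (g : Γ) * s⁻¹ ∈ G := (Subgroup.mem_normalizer_iff.mp (hSG hs) g).mp g.2
      have := hK s hs g ⟨_, hsg⟩ rfl rfl
      rw [ConjClasses.mk_eq_mk_iff_isConj, isConj_iff] at this
      obtain ⟨k, hk⟩ := this
      -- k * (s g s⁻¹) * k⁻¹ = g
      refine ⟨(k : Γ)⁻¹, G.inv_mem k.2, ?_⟩
      have hk' : (k : Γ) * (s * g * s⁻¹) * (k : Γ)⁻¹ = g := by
        have := congrArg (Subtype.val) hk
        simpa using this
      calc s * (g : Γ) * s⁻¹ = (k : Γ)⁻¹ * ((k : Γ) * (s * g * s⁻¹) * (k : Γ)⁻¹) * k := by group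
        _ = (k : Γ)⁻¹ * g * ((k : Γ)⁻¹)⁻¹ := by rw [hk', inv_inv]
    obtain ⟨k, hk, hkc⟩ := exists_conj_mem_centralizer hSG hcop hsolv (g : Γ) hinv
    have hmem : k * (g : Γ) * k⁻¹ ∈ C := by
      rw [hC]
      exact ⟨G.mul_mem (G.mul_mem hk g.2) (G.inv_mem hk), hkc⟩
    refine ⟨ConjClasses.mk ⟨_, hmem⟩, ?_⟩
    apply Subtype.ext
    show ConjClasses.mk (Subgroup.inclusion hCG ⟨_, hmem⟩) = ConjClasses.mk g
    rw [ConjClasses.mk_eq_mk_iff_isConj, isConj_iff]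
    refine ⟨⟨k, hk⟩⁻¹, ?_⟩
    apply Subtype.ext
    simp only [Subgroup.coe_mul, Subgroup.coe_inv, Subgroup.coe_inclusion]
    group

theorem card_classInv [Finite Γ] {G S C : Subgroup Γ}
    (hC : C = G ⊓ Subgroup.centralizer (S : Set Γ)) (hCG : C ≤ G)
    (hSG : S ≤ Subgroup.normalizer (G : Set Γ)) (hcop : (Nat.card G).Coprime (Nat.card S))
    (hsolv : Group.IsSolvable S ∨ Group.IsSolvable G) :
    Nat.card (ConjClasses C) = Nat.card {K : ConjClasses G // ClassInv G S K} :=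
  Nat.card_congr (Equiv.ofBijective _ (classMap_bijective hC hCG hSG hcop hsolv))

end Cfsg.Agent.Lib.Helper2.Glaub
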