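/-
helper2: the Glauberman correspondence for a `p`-group of operators (Isaacs, Theorem 13.14), inside
an arbitrary finite group `Γ`, by induction on the order of the operator group.
-/
import Mathlib
import Cfsg.Agent.Lib.Helper2.GlaubPRel

set_option autoImplicit false

namespace Cfsg.Agent.Lib.Helper2.Glaub

open Cfsg Cfsg.Agent.CharLib Cfsg.Agent.Lib.Helper6
open scoped ComplexConjugate

universe u

variable {Γ : Type u} [Group Γ]

/-- The correspondence statement for `(G, S, C)` modulo `p`. -/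
def PCorr (G S C : Subgroup Γ) [Fintype G] [Fintype C] (hCG : C ≤ G) (p : ℕ) : Prop :=
  (∀ χ : IrrCharacter G, InvUnder G S (χ : G → ℂ) →
    ∃ β : IrrCharacter C, ∃ ε : ℤ, (ε = 1 ∨ ε = -1) ∧ ∀ β' : IrrCharacter C, ∃ m : ℕ,
      classInner (fun c : C => (χ : G → ℂ) ⟨c, hCG c.2⟩) (β' : C → ℂ) = (m : ℂ) ∧
      (m : ℤ) ≡ (if β' = β then ε else 0) [ZMOD p]) ∧
  (∀ χ χ' : IrrCharacter G, InvUnder G S (χ : G → ℂ) → InvUnder G S (χ' : G → ℂ) →
    ∀ (β : IrrCharacter C) (m m' : ℕ),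
      classInner (fun c : C => (χ : G → ℂ) ⟨c, hCG c.2⟩) (β : C → ℂ) = (m : ℂ) → ¬ p ∣ m →
      classInner (fun c : C => (χ' : G → ℂ) ⟨c, hCG c.2⟩) (β : C → ℂ) = (m' : ℂ) → ¬ p ∣ m' →
      χ = χ') ∧
  (∀ β : IrrCharacter C, ∃ χ : IrrCharacter G, InvUnder G S (χ : G → ℂ) ∧
    ∃ m : ℕ, classInner (fun c : C => (χ : G → ℂ) ⟨c, hCG c.2⟩) (β : C → ℂ) = (m : ℂ) ∧
      ¬ p ∣ m)

/-- Conjugation by an element of the normaliser, as an automorphism of `G`. -/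
def conjEquiv (G : Subgroup Γ) (x : Γ) (hx : x ∈ Subgroup.normalizer (G : Set Γ)) : G ≃* G where
  toFun g := ⟨x * g * x⁻¹, (Subgroup.mem_normalizer_iff.mp hx g).mp g.2⟩
  invFun g := ⟨x⁻¹ * g * x, by
    have h := (Subgroup.mem_normalizer_iff.mp (Subgroup.inv_mem _ hx) g).mp g.2
    rwa [inv_inv] at h⟩
  left_inv g := by
    apply Subtype.ext
    simp only
    group
  right_inv g := by
    apply Subtype.ext
    simp only
    group
  map_mul' a b := by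
    apply Subtype.ext
    simp only [Subgroup.coe_mul]
    group

theorem conjEquiv_coe (G : Subgroup Γ) (x : Γ) (hx : x ∈ Subgroup.normalizer (G : Set Γ)) (g : G) :
    ((conjEquiv G x hx g : G) : Γ) = x * g * x⁻¹ := rfl

theorem invUnder_iff_conj {G S : Subgroup Γ} (hSN : S ≤ Subgroup.normalizer (G : Set Γ))
    (χ : G → ℂ) :
    InvUnder G S χ ↔ ∀ x (hx : x ∈ S), χ ∘ conjEquiv G x (hSN hx) = χ := by
  constructor
  · intro h x hx
    funext g
    exact h x hx g _ rfl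
  · intro h x hx g g' hg'
    have h1 := congrFun (h x hx) g
    have h2 : conjEquiv G x (hSN hx) g = g' := Subtype.ext hg'.symm
    rw [Function.comp, h2] at h1
    exact h1

/-- A sum of integers all but one of which are divisible by `p`. -/
theorem sum_modEq_single {ι : Type*} [Fintype ι] [DecidableEq ι] (f : ι → ℤ) (i₀ : ι) (p : ℤ)
    (h : ∀ i, i ≠ i₀ → p ∣ f i) : ∑ i, f i ≡ f i₀ [ZMOD p] := by
  rw [← Finset.add_sum_erase Finset.univ f (Finset.mem_univ i₀)]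
  have h1 : p ∣ ∑ i ∈ Finset.univ.erase i₀, f i := by
    apply Finset.dvd_sum
    intro i hi
    exact h i (Finset.ne_of_mem_erase hi)
  obtain ⟨k, hk⟩ := h1
  rw [hk]
  exact Int.modEq_add_fac_self

/-- Transitivity of restriction for multiplicities. -/
theorem classInner_restrict_trans {G B C : Subgroup Γ} [Fintype G] [Fintype B] [Fintype C]
    [Fintype (IrrCharacter B)] (hBG : B ≤ G) (hCB : C ≤ B) (hCG : C ≤ G) {χ : G → ℂ}
    (hχ : IsCharacter G χ) (β : C → ℂ) :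
    classInner (fun c : C => χ ⟨c, hCG c.2⟩) β =
      ∑ ξ : IrrCharacter B, classInner (fun b : B => χ ⟨b, hBG b.2⟩) (ξ : B → ℂ) *
        classInner (fun c : C => (ξ : B → ℂ) ⟨c, hCB c.2⟩) β := by
  have h1 : IsCharacter B (fun b : B => χ ⟨b, hBG b.2⟩) :=
    IsCharacter.comp_hom hχ (Subgroup.inclusion hBG)
  have h2 := classFunction_eq_sum (IsCharacter.isClassFunction h1)
  have h3 : (fun c : C => χ ⟨c, hCG c.2⟩) =
      ∑ ξ : IrrCharacter B, classInner (fun b : B => χ ⟨b, hBG b.2⟩) (ξ : B → ℂ) •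
        (fun c : C => (ξ : B → ℂ) ⟨c, hCB c.2⟩) := by
    funext c
    have h4 := congrFun h2 ⟨c, hCB c.2⟩
    rw [Finset.sum_apply] at h4 ⊢
    exact h4
  rw [h3, classInner_sum_left]
  apply Finset.sum_congr rfl
  intro ξ _
  rw [classInner_smul_left]

/-- Simultaneous conjugation does not change multiplicities. -/
theorem classInner_conj_conj {G B : Subgroup Γ} [Fintype G] [Fintype B] (hBG : B ≤ G) (x : Γ)
    (hxG : x ∈ Subgroup.normalizer (G : Set Γ)) (hxB : x ∈ Subgroup.normalizer (B : Set Γ))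
    (χ : G → ℂ) (ξ : B → ℂ) :
    classInner (fun b : B => (χ ∘ conjEquiv G x hxG) ⟨b, hBG b.2⟩) (ξ ∘ conjEquiv B x hxB) =
      classInner (fun b : B => χ ⟨b, hBG b.2⟩) ξ := by
  rw [← classInner_comp_equiv (conjEquiv B x hxB) (fun b : B => χ ⟨b, hBG b.2⟩) ξ]
  rfl

theorem sign_mul_sign {ε₁ ε₂ : ℤ} (h1 : ε₁ = 1 ∨ ε₁ = -1) (h2 : ε₂ = 1 ∨ ε₂ = -1) :
    ε₁ * ε₂ = 1 ∨ ε₁ * ε₂ = -1 := by
  rcases h1 with rfl | rfl <;> rcases h2 with rfl | rfl <;> simp

/-- **Composition step** for the `p`-group correspondence. -/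
theorem pstep [Fintype Γ] (G S T B C : Subgroup Γ) [Fintype G] [Fintype B] [Fintype C] {p : ℕ}
    (hp : p.Prime) (hnorm : ∀ t ∈ S, ∀ g ∈ G, t * g * t⁻¹ ∈ G) (hTS : T ≤ S)
    (hTn : ∀ t ∈ T, ∀ x ∈ S, x * t * x⁻¹ ∈ T)
    (hB : B = G ⊓ Subgroup.centralizer (T : Set Γ)) (hBG : B ≤ G) (hCB : C ≤ B) (hCG : C ≤ G)
    (h1 : PCorr G T B hBG p) (h2 : PCorr B S C hCB p) : PCorr G S C hCG p := by
  classical
  letI := fintypeIrr B
  have hSN := le_normalizer_of_conj_mem hnorm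
  have hnormB : ∀ x ∈ S, ∀ b ∈ B, x * b * x⁻¹ ∈ B := by
    intro x hx b hb
    rw [hB, Subgroup.mem_inf] at hb ⊢
    refine ⟨hnorm x hx b hb.1, ?_⟩
    rw [Subgroup.mem_centralizer_iff]
    intro t ht
    have ht' : x⁻¹ * t * x ∈ T := by
      have := hTn t ht x⁻¹ (S.inv_mem hx)
      rwa [inv_inv] at this
    have h3 := Subgroup.mem_centralizer_iff.mp hb.2 _ ht'
    calc t * (x * b * x⁻¹) = x * ((x⁻¹ * t * x) * b) * x⁻¹ := by group
      _ = x * (b * (x⁻¹ * t * x)) * x⁻¹ := by rw [h3]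
      _ = x * b * x⁻¹ * t := by group
  have hSNB := le_normalizer_of_conj_mem hnormB
  -- the core analysis of an invariant character
  have core : ∀ χ : IrrCharacter G, InvUnder G S (χ : G → ℂ) →
      ∃ ξ₀ : IrrCharacter B, ∃ ε₁ : ℤ, (ε₁ = 1 ∨ ε₁ = -1) ∧ InvUnder B S (ξ₀ : B → ℂ) ∧
        (∀ ξ' : IrrCharacter B, ∃ m : ℕ,
          classInner (fun b : B => (χ : G → ℂ) ⟨b, hBG b.2⟩) (ξ' : B → ℂ) = (m : ℂ) ∧
          (m : ℤ) ≡ (if ξ' = ξ₀ then ε₁ else 0) [ZMOD p]) ∧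
        ∀ (β' : IrrCharacter C) (M N : ℕ),
          classInner (fun c : C => (χ : G → ℂ) ⟨c, hCG c.2⟩) (β' : C → ℂ) = (M : ℂ) →
          classInner (fun c : C => (ξ₀ : B → ℂ) ⟨c, hCB c.2⟩) (β' : C → ℂ) = (N : ℂ) →
          (M : ℤ) ≡ ε₁ * (N : ℤ) [ZMOD p] := by
    intro χ hinv
    have hinvT : InvUnder G T (χ : G → ℂ) := fun t ht => hinv t (hTS ht)
    obtain ⟨ξ₀, ε₁, hε₁, hξ⟩ := h1.1 χ hinvT
    have hχconj := (invUnder_iff_conj hSN (χ : G → ℂ)).mp hinv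
    have hξ₀inv : InvUnder B S (ξ₀ : B → ℂ) := by
      rw [invUnder_iff_conj hSNB]
      intro x hx
      by_contra hne
      have hne' : (⟨(ξ₀ : B → ℂ) ∘ conjEquiv B x (hSNB hx),
          (isIrr_comp_equiv_iff _).mpr ξ₀.2⟩ : IrrCharacter B) ≠ ξ₀ :=
        fun h => hne (congrArg Subtype.val h)
      obtain ⟨m, hm, hmod⟩ := hξ ⟨(ξ₀ : B → ℂ) ∘ conjEquiv B x (hSNB hx),
        (isIrr_comp_equiv_iff _).mpr ξ₀.2⟩
      rw [if_neg hne'] at hmod
      obtain ⟨m₀, hm₀, hmod₀⟩ := hξ ξ₀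
      rw [if_pos rfl] at hmod₀
      have h3 := classInner_conj_conj hBG x (hSN hx) (hSNB hx) (χ : G → ℂ) (ξ₀ : B → ℂ)
      rw [hχconj x hx] at h3
      have h4 : (m : ℂ) = (m₀ : ℂ) := by rw [← hm, ← hm₀]; exact h3
      have h5 : m = m₀ := by exact_mod_cast h4
      rw [h5] at hmod
      apply not_dvd_of_modEq_sign hp hε₁ hmod₀
      have := Int.modEq_zero_iff_dvd.mp hmod
      exact_mod_cast this
    refine ⟨ξ₀, ε₁, hε₁, hξ₀inv, hξ, ?_⟩
    intro β' M N hM hN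
    choose mB hmB hmodB using hξ
    have hn : ∀ ξ : IrrCharacter B, ∃ n : ℕ,
        classInner (fun c : C => (ξ : B → ℂ) ⟨c, hCB c.2⟩) (β' : C → ℂ) = (n : ℂ) := fun ξ =>
      IsCharacter.classInner_nat
        (IsCharacter.comp_hom (IsIrrCharacter.isCharacter ξ.2) (Subgroup.inclusion hCB))
        (IsIrrCharacter.isCharacter β'.2)
    choose nC hnC using hn
    have hN0 : nC ξ₀ = N := by
      have : (nC ξ₀ : ℂ) = (N : ℂ) := by rw [← hnC ξ₀, ← hN]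
      exact_mod_cast this
    have hMsum : (M : ℤ) = ∑ ξ : IrrCharacter B, (mB ξ : ℤ) * (nC ξ : ℤ) := by
      have h3 := classInner_restrict_trans hBG hCB hCG (IsIrrCharacter.isCharacter χ.2)
        (β' : C → ℂ)
      rw [hM] at h3
      have h4 : (M : ℂ) = ((∑ ξ : IrrCharacter B, mB ξ * nC ξ : ℕ) : ℂ) := by
        rw [h3]
        push_cast
        apply Finset.sum_congr rfl
        intro ξ _
        rw [hmB ξ, hnC ξ]
      have h5 : M = ∑ ξ : IrrCharacter B, mB ξ * nC ξ := by exact_mod_cast h4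
      rw [h5]
      push_cast
      rfl
    rw [hMsum]
    have h6 := sum_modEq_single (fun ξ : IrrCharacter B => (mB ξ : ℤ) * (nC ξ : ℤ)) ξ₀ (p : ℤ)
      (fun ξ hne => by
        have h7 := hmodB ξ
        rw [if_neg hne] at h7
        exact dvd_mul_of_dvd_left (Int.modEq_zero_iff_dvd.mp h7) _)
    refine h6.trans ?_
    have h8 := hmodB ξ₀
    rw [if_pos rfl] at h8
    show (mB ξ₀ : ℤ) * (nC ξ₀ : ℤ) ≡ ε₁ * (N : ℤ) [ZMOD p]
    rw [hN0]
    exact Int.ModEq.mul_right _ h8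
  refine ⟨?_, ?_, ?_⟩
  · -- existence and congruences
    intro χ hinv
    obtain ⟨ξ₀, ε₁, hε₁, hξ₀inv, -, hcong⟩ := core χ hinv
    obtain ⟨β₀, ε₂, hε₂, hβ⟩ := h2.1 ξ₀ hξ₀inv
    refine ⟨β₀, ε₁ * ε₂, sign_mul_sign hε₁ hε₂, ?_⟩
    intro β'
    obtain ⟨M, hM⟩ := IsCharacter.classInner_nat
      (IsCharacter.comp_hom (IsIrrCharacter.isCharacter χ.2) (Subgroup.inclusion hCG))
      (IsIrrCharacter.isCharacter β'.2)
    obtain ⟨N, hN, hmodN⟩ := hβ β'
    refine ⟨M, hM, ?_⟩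
    have h3 := hcong β' M N hM hN
    refine h3.trans ?_
    have h4 := Int.ModEq.mul_left ε₁ hmodN
    refine h4.trans ?_
    by_cases hb : β' = β₀
    · rw [if_pos hb, if_pos hb]
    · rw [if_neg hb, if_neg hb, mul_zero]
  · -- injectivity
    intro χ χ' hinv hinv' β m m' hm hpm hm' hpm'
    obtain ⟨ξ₀, ε₁, hε₁, hξ₀inv, hξ, hcong⟩ := core χ hinv
    obtain ⟨ξ₀', ε₁', hε₁', hξ₀inv', hξ', hcong'⟩ := core χ' hinv'
    obtain ⟨N, hN⟩ := IsCharacter.classInner_nat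
      (IsCharacter.comp_hom (IsIrrCharacter.isCharacter ξ₀.2) (Subgroup.inclusion hCB))
      (IsIrrCharacter.isCharacter β.2)
    obtain ⟨N', hN'⟩ := IsCharacter.classInner_nat
      (IsCharacter.comp_hom (IsIrrCharacter.isCharacter ξ₀'.2) (Subgroup.inclusion hCB))
      (IsIrrCharacter.isCharacter β.2)
    have hpN : ¬ p ∣ N := by
      intro hd
      apply hpm
      have h3 := hcong β m N hm hN
      have h4 : (p : ℤ) ∣ ε₁ * (N : ℤ) := dvd_mul_of_dvd_right (by exact_mod_cast hd) _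
      have h5 : (m : ℤ) ≡ 0 [ZMOD p] := h3.trans (Int.modEq_zero_iff_dvd.mpr h4)
      have := Int.modEq_zero_iff_dvd.mp h5
      exact_mod_cast this
    have hpN' : ¬ p ∣ N' := by
      intro hd
      apply hpm'
      have h3 := hcong' β m' N' hm' hN'
      have h4 : (p : ℤ) ∣ ε₁' * (N' : ℤ) := dvd_mul_of_dvd_right (by exact_mod_cast hd) _
      have h5 : (m' : ℤ) ≡ 0 [ZMOD p] := h3.trans (Int.modEq_zero_iff_dvd.mpr h4)
      have := Int.modEq_zero_iff_dvd.mp h5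
      exact_mod_cast this
    have hξeq : ξ₀ = ξ₀' := h2.2.1 ξ₀ ξ₀' hξ₀inv hξ₀inv' β N N' hN hpN hN' hpN'
    obtain ⟨m₁, hm₁, hmod₁⟩ := hξ ξ₀
    rw [if_pos rfl] at hmod₁
    obtain ⟨m₁', hm₁', hmod₁'⟩ := hξ' ξ₀
    rw [if_pos hξeq] at hmod₁'
    exact h1.2.1 χ χ' (fun t ht => hinv t (hTS ht)) (fun t ht => hinv' t (hTS ht)) ξ₀ m₁ m₁'
      hm₁ (not_dvd_of_modEq_sign hp hε₁ hmod₁) hm₁' (not_dvd_of_modEq_sign hp hε₁' hmod₁')
  · -- surjectivity
    intro β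
    obtain ⟨ξ, hξinv, N, hN, hpN⟩ := h2.2.2 β
    obtain ⟨χ, hχT, m₁, hm₁, hpm₁⟩ := h1.2.2 ξ
    have hξconj := (invUnder_iff_conj hSNB (ξ : B → ℂ)).mp hξinv
    have hχinv : InvUnder G S (χ : G → ℂ) := by
      rw [invUnder_iff_conj hSN]
      intro x hx
      have hTinv : InvUnder G T ((χ : G → ℂ) ∘ conjEquiv G x (hSN hx)) := by
        intro t ht g g' hg'
        have ht' : x * t * x⁻¹ ∈ T := hTn t ht x hx
        apply hχT _ ht'
        rw [conjEquiv_coe, conjEquiv_coe, hg']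
        group
      have h3 := classInner_conj_conj hBG x (hSN hx) (hSNB hx) (χ : G → ℂ) (ξ : B → ℂ)
      rw [hξconj x hx, hm₁] at h3
      have h4 := h1.2.1 ⟨(χ : G → ℂ) ∘ conjEquiv G x (hSN hx), (isIrr_comp_equiv_iff _).mpr χ.2⟩ χ
        hTinv hχT ξ m₁ m₁ h3 hpm₁ hm₁ hpm₁
      exact congrArg Subtype.val h4
    refine ⟨χ, hχinv, ?_⟩
    obtain ⟨ξ₀, ε₁, hε₁, hξ₀inv, hξ, hcong⟩ := core χ hχinv
    have hξeq : ξ = ξ₀ := by
      by_contra hne
      obtain ⟨m, hm, hmod⟩ := hξ ξ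
      rw [if_neg hne] at hmod
      have h4 : (m : ℂ) = (m₁ : ℂ) := by rw [← hm, ← hm₁]
      have h5 : m = m₁ := by exact_mod_cast h4
      apply hpm₁
      rw [← h5]
      have := Int.modEq_zero_iff_dvd.mp hmod
      exact_mod_cast this
    obtain ⟨M, hM⟩ := IsCharacter.classInner_nat
      (IsCharacter.comp_hom (IsIrrCharacter.isCharacter χ.2) (Subgroup.inclusion hCG))
      (IsIrrCharacter.isCharacter β.2)
    refine ⟨M, hM, ?_⟩
    intro hd
    rw [hξeq] at hN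
    have h3 := hcong β M N hM hN
    have h4 : (p : ℤ) ∣ ε₁ * (N : ℤ) := by
      have h5 : (M : ℤ) ≡ 0 [ZMOD p] := Int.modEq_zero_iff_dvd.mpr (by exact_mod_cast hd)
      exact Int.modEq_zero_iff_dvd.mp (h3.symm.trans h5)
    have h6 : (p : ℤ) ∣ (N : ℤ) := by
      rcases hε₁ with rfl | rfl
      · simpa using h4
      · simpa using h4
    exact hpN (by exact_mod_cast h6)

end Cfsg.Agent.Lib.Helper2.Glaub
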