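/-
helper2: the Glauberman correspondence for a `p`-group of operators (Isaacs, Theorem 13.14):
the induction on the order of the operator group.
-/
import Mathlib
import Cfsg.Agent.Lib.Helper2.GlaubPGroup

set_option autoImplicit false

namespace Cfsg.Agent.Lib.Helper2.Glaub

open Cfsg Cfsg.Agent.CharLib Cfsg.Agent.Lib.Helper6
open scoped ComplexConjugate

universe u

variable {Γ : Type u} [Group Γ]

/-- A nontrivial finite `p`-subgroup has a normal subgroup of index `p`. -/
theorem exists_normal_index_p [Finite Γ] {p : ℕ} (hp : p.Prime) (S : Subgroup Γ)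
    (hS : IsPGroup p S) (hne : S ≠ ⊥) :
    ∃ T : Subgroup Γ, T ≤ S ∧ (∀ t ∈ T, ∀ x ∈ S, x * t * x⁻¹ ∈ T) ∧ T.relIndex S = p ∧
      Nat.card T < Nat.card S := by
  haveI : Fact p.Prime := ⟨hp⟩
  obtain ⟨N, hN⟩ := IsPGroup.iff_card.mp hS
  have hN0 : N ≠ 0 := by
    rintro rfl
    apply hne
    rw [pow_zero] at hN
    exact Subgroup.eq_bot_of_card_eq S hN
  obtain ⟨N', rfl⟩ := Nat.exists_eq_succ_of_ne_zero hN0
  have hdvd : p ^ N' ∣ Nat.card S := by
    rw [hN]
    exact pow_dvd_pow p (Nat.le_succ N')
  obtain ⟨K, hK⟩ := Sylow.exists_subgroup_card_pow_prime p hdvd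
  have hidx : K.index = p := by
    have h := K.card_mul_index
    rw [hK, hN, pow_succ] at h
    exact Nat.eq_of_mul_eq_mul_left (pow_pos hp.pos N') h
  have hKn : K.Normal := by
    apply Subgroup.normal_of_index_eq_minFac_card
    rw [hidx, hN]
    exact (hp.pow_minFac (Nat.succ_ne_zero N')).symm
  have hinj : Function.Injective S.subtype := Subgroup.subtype_injective S
  have hsub : (K.map S.subtype).subgroupOf S = K := by
    rw [Subgroup.subgroupOf]
    exact Subgroup.comap_map_eq_self_of_injective hinj K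
  refine ⟨K.map S.subtype, Subgroup.map_subtype_le K, ?_, ?_, ?_⟩
  · rintro t ⟨k, hk, rfl⟩ x hx
    refine ⟨⟨x, hx⟩ * k * ⟨x, hx⟩⁻¹, hKn.conj_mem k hk ⟨x, hx⟩, ?_⟩
    simp
  · rw [Subgroup.relIndex, hsub, hidx]
  · rw [Subgroup.card_map_of_injective hinj, hK, hN]
    exact Nat.pow_lt_pow_right hp.one_lt (Nat.lt_succ_self N')

/-- The correspondence for the trivial operator group. -/
theorem pcorr_bot [Fintype Γ] (G C : Subgroup Γ) [iG : Fintype G] [iC : Fintype C] {p : ℕ}
    (hp : p.Prime) (hC : C = G) (hCG : C ≤ G) : PCorr G ⊥ C hCG p := by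
  subst hC
  obtain rfl : iG = iC := Subsingleton.elim _ _
  classical
  have hres : ∀ χ : IrrCharacter C,
      (fun c : C => (χ : C → ℂ) ⟨c, hCG c.2⟩) = (χ : C → ℂ) := by
    intro χ
    funext c
    rfl
  have hinner : ∀ χ β : IrrCharacter C,
      classInner (fun c : C => (χ : C → ℂ) ⟨c, hCG c.2⟩) (β : C → ℂ)
        = ((if β = χ then 1 else 0 : ℕ) : ℂ) := by
    intro χ β
    rw [hres, classInner_irr χ.2 β.2]
    by_cases h : β = χ
    · rw [if_pos h, if_pos (by rw [h])]
      simp
    · rw [if_neg h, if_neg]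
      · simp
      · intro h'
        exact h (Subtype.ext h'.symm)
  have hinv : ∀ χ : IrrCharacter C, InvUnder C ⊥ (χ : C → ℂ) := by
    intro χ t ht g g' hg'
    rw [Subgroup.mem_bot] at ht
    subst ht
    have : g' = g := by
      apply Subtype.ext
      rw [hg']
      group
    rw [this]
  refine ⟨?_, ?_, ?_⟩
  · intro χ _
    refine ⟨χ, 1, Or.inl rfl, ?_⟩
    intro β'
    refine ⟨if β' = χ then 1 else 0, hinner χ β', ?_⟩
    by_cases h : β' = χ
    · rw [if_pos h, if_pos h]
      rfl
    · rw [if_neg h, if_neg h]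
      rfl
  · intro χ χ' _ _ β m m' hm hpm hm' hpm'
    rw [hinner χ β] at hm
    rw [hinner χ' β] at hm'
    have h1 : β = χ := by
      by_contra h
      rw [if_neg h] at hm
      have : m = 0 := by exact_mod_cast hm.symm
      exact hpm (this ▸ dvd_zero p)
    have h2 : β = χ' := by
      by_contra h
      rw [if_neg h] at hm'
      have : m' = 0 := by exact_mod_cast hm'.symm
      exact hpm' (this ▸ dvd_zero p)
    rw [← h1, ← h2]
  · intro β
    refine ⟨β, hinv β, 1, ?_, ?_⟩
    · rw [hinner β β, if_pos rfl]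
    · intro h
      exact hp.one_lt.ne' (Nat.dvd_one.mp h)

/-- **Glauberman correspondence for `p`-groups** (Isaacs 13.14), by induction on `|S|`. -/
theorem pgroup_corr [Fintype Γ] {p : ℕ} (hp : p.Prime) :
    ∀ (n : ℕ) (G S C : Subgroup Γ) [Fintype G] [Fintype C], Nat.card S = n →
      (∀ t ∈ S, ∀ g ∈ G, t * g * t⁻¹ ∈ G) → (Nat.card G).Coprime (Nat.card S) →
      IsPGroup p S → C = G ⊓ Subgroup.centralizer (S : Set Γ) → ∀ hCG : C ≤ G,
      PCorr G S C hCG p := by
  intro n
  induction n using Nat.strong_induction_on with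
  | _ n ih =>
    intro G S C _ _ hn hnorm hcop hS hC hCG
    by_cases hbot : S = ⊥
    · subst hbot
      apply pcorr_bot G C hp
      rw [hC]
      apply inf_eq_left.mpr
      intro g _
      rw [Subgroup.mem_centralizer_iff]
      intro h hh
      have : h = 1 := by simpa using hh
      rw [this]
      simp
    · obtain ⟨T, hTS, hTn, hidx, hlt⟩ := exists_normal_index_p hp S hS hbot
      let B : Subgroup Γ := G ⊓ Subgroup.centralizer (T : Set Γ)
      haveI : Fintype B := Fintype.ofFinite _
      have hBG : B ≤ G := inf_le_left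
      have hCB : C ≤ B := by
        rw [hC]
        exact inf_le_inf_left G (Subgroup.centralizer_le (by exact_mod_cast hTS))
      have h1 : PCorr G T B hBG p := by
        apply ih (Nat.card T) (hn ▸ hlt) G T B rfl
        · intro t ht g hg
          exact hnorm t (hTS ht) g hg
        · exact Nat.Coprime.coprime_dvd_right (Subgroup.card_dvd_of_le hTS) hcop
        · exact hS.to_le hTS
        · rfl
      have hnormB : ∀ t ∈ S, ∀ g ∈ B, t * g * t⁻¹ ∈ B := by
        intro t ht g hg
        refine ⟨hnorm t ht g hg.1, ?_⟩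
        show t * g * t⁻¹ ∈ Subgroup.centralizer (T : Set Γ)
        rw [Subgroup.mem_centralizer_iff]
        intro u hu
        have hu' : t⁻¹ * u * t ∈ T := by
          have := hTn u hu t⁻¹ (Subgroup.inv_mem _ ht)
          rwa [inv_inv] at this
        have hc := (Subgroup.mem_centralizer_iff.mp hg.2) _ hu'
        -- (t⁻¹ u t) g = g (t⁻¹ u t)
        calc u * (t * g * t⁻¹) = t * ((t⁻¹ * u * t) * g) * t⁻¹ := by group
          _ = t * (g * (t⁻¹ * u * t)) * t⁻¹ := by rw [hc]
          _ = t * g * t⁻¹ * u := by group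
      have hTB : ∀ t ∈ T, ∀ g ∈ B, t * g = g * t := by
        intro t ht g hg
        exact (Subgroup.mem_centralizer_iff.mp hg.2) t ht
      have hC' : C = B ⊓ Subgroup.centralizer (S : Set Γ) := by
        rw [hC]
        apply le_antisymm
        · refine le_inf (le_inf inf_le_left ?_) inf_le_right
          exact inf_le_right.trans (Subgroup.centralizer_le (by exact_mod_cast hTS))
        · exact le_inf (inf_le_left.trans inf_le_left) inf_le_right
      have h2 : PCorr B S C hCB p :=
        pbase_rel B S T C hnormB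
          (Nat.Coprime.coprime_dvd_left (Subgroup.card_dvd_of_le hBG) hcop) hp hS hTS hTn hidx
          hTB hC' hCB
      exact pstep G S T B C hp hnorm hTS hTn rfl hBG hCB hCG h1 h2

end Cfsg.Agent.Lib.Helper2.Glaub
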