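/-
helper2: group-theoretic preparation for the solvable Glauberman correspondence:
a nontrivial finite solvable subgroup `T` has a characteristic proper subgroup `T₀` with `T/T₀`
a `p`-group, and then `T = T₀ P` for a Sylow `p`-subgroup `P` of `T`.
-/
import Mathlib
import Cfsg.Agent.Lib.Helper1.Coprime
import Cfsg.Agent.Lib.Helper2.GlaubPGroup

set_option autoImplicit false

namespace Cfsg.Agent.Lib.Helper2.Glaub

universe u

variable {Γ : Type u} [Group Γ]

/-- A nontrivial finite solvable subgroup has a proper subgroup, invariant under everything that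
normalises it, with quotient a `p`-group. -/
theorem exists_char_pquot [Finite Γ] (T : Subgroup Γ) (hsolv : Group.IsSolvable T) (hne : T ≠ ⊥) :
    ∃ p : ℕ, p.Prime ∧ ∃ T₀ : Subgroup Γ, T₀ ≤ T ∧ Nat.card T₀ < Nat.card T ∧
      (∀ x : Γ, x ∈ Subgroup.normalizer (T : Set Γ) → x ∈ Subgroup.normalizer (T₀ : Set Γ)) ∧
      ∀ t ∈ T, ∃ k : ℕ, t ^ (p ^ k) ∈ T₀ := by
  haveI : Nontrivial T := (Subgroup.nontrivial_iff_ne_bot T).mpr hne
  have hlt : commutator T < ⊤ := Group.IsSolvable.commutator_lt_top_of_nontrivial T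
  haveI : Nontrivial (Abelianization T) := by
    show Nontrivial (T ⧸ commutator T)
    exact QuotientGroup.nontrivial_iff.mpr hlt.ne
  have hsurj : Function.Surjective (Abelianization.of : T →* Abelianization T) := by
    intro a
    obtain ⟨t, rfl⟩ := QuotientGroup.mk_surjective a
    exact ⟨t, rfl⟩
  set n := Nat.card (Abelianization T) with hn
  have hn1 : n ≠ 1 := by
    intro h
    have : Subsingleton (Abelianization T) := (Nat.card_eq_one_iff_unique.mp h).1
    exact not_subsingleton (Abelianization T) this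
  have hn0 : n ≠ 0 := Nat.card_pos.ne'
  set p := n.minFac with hpdef
  have hp : p.Prime := Nat.minFac_prime hn1
  haveI : Fact p.Prime := ⟨hp⟩
  have hpn : p ∣ n := Nat.minFac_dvd n
  obtain ⟨e, m, hpm, hnm⟩ := Nat.exists_eq_pow_mul_and_not_dvd hn0 p hp.one_lt.ne'
  let ψ : T →* Abelianization T := (powMonoidHom m).comp Abelianization.of
  have hψ : ∀ t, ψ t = (Abelianization.of t) ^ m := fun t => rfl
  refine ⟨p, hp, ψ.ker.map T.subtype, Subgroup.map_subtype_le _, ?_, ?_, ?_⟩
  · rw [Subgroup.card_map_of_injective (Subgroup.subtype_injective T)]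
    obtain ⟨a, ha⟩ := exists_prime_orderOf_dvd_card' (G := Abelianization T) p hpn
    obtain ⟨t, rfl⟩ := hsurj a
    have hnot : t ∉ ψ.ker := by
      rw [MonoidHom.mem_ker, hψ]
      intro h
      have := orderOf_dvd_of_pow_eq_one h
      rw [ha] at this
      exact hpm this
    apply lt_of_le_of_ne (Subgroup.card_le_card_group _)
    intro h
    have := Subgroup.eq_top_of_card_eq _ h
    rw [this] at hnot
    exact hnot (Subgroup.mem_top t)
  · intro x hx
    apply Cfsg.Agent.Lib.Helper1.mem_normalizer_of_forall_conj_mem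
    rintro y ⟨t, ht, rfl⟩
    rw [SetLike.mem_coe, MonoidHom.mem_ker, hψ] at ht
    let α : T ≃* T := conjEquiv T x hx
    refine ⟨α t, ?_, rfl⟩
    have h1 : Abelianization.of (α t) = Abelianization.map α.toMonoidHom (Abelianization.of t) :=
      (Abelianization.map_of α.toMonoidHom t).symm
    rw [SetLike.mem_coe, MonoidHom.mem_ker, hψ, h1, ← map_pow, ht, map_one]
  · intro t ht
    refine ⟨e, ⟨⟨t, ht⟩ ^ (p ^ e), ?_, rfl⟩⟩
    rw [SetLike.mem_coe, MonoidHom.mem_ker, hψ, map_pow, ← pow_mul, ← hnm, hn]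
    exact pow_card_eq_one'

/-- If `T/T₀` is a `p`-group then `T = T₀ P` for a `p`-subgroup `P` of `T`. -/
theorem exists_pgroup_sup [Finite Γ] {p : ℕ} (hp : p.Prime) (T T₀ : Subgroup Γ) (hle : T₀ ≤ T)
    (hn : T ≤ Subgroup.normalizer (T₀ : Set Γ)) (hq : ∀ t ∈ T, ∃ k : ℕ, t ^ (p ^ k) ∈ T₀) :
    ∃ P : Subgroup Γ, P ≤ T ∧ IsPGroup p P ∧ T₀ ⊔ P = T := by
  haveI : Fact p.Prime := ⟨hp⟩
  set N : Subgroup T := T₀.subgroupOf T with hN
  haveI hNn : N.Normal := (Subgroup.normal_subgroupOf_iff_le_normalizer hle).mpr hn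
  obtain ⟨Q⟩ : Nonempty (Sylow p T) := inferInstance
  have hpq : IsPGroup p (T ⧸ N) := by
    intro q
    obtain ⟨t, rfl⟩ := QuotientGroup.mk_surjective q
    obtain ⟨k, hk⟩ := hq t t.2
    refine ⟨k, ?_⟩
    rw [← QuotientGroup.mk_pow, QuotientGroup.eq_one_iff, hN, Subgroup.mem_subgroupOf]
    simpa using hk
  obtain ⟨k, hk⟩ := IsPGroup.iff_card.mp hpq
  have hNidx : N.index = p ^ k := by rw [Subgroup.index_eq_card, hk]
  set J : Subgroup T := N ⊔ (Q : Subgroup T) with hJ
  have h1 : J.index ∣ p ^ k := hNidx ▸ Subgroup.index_dvd_of_le le_sup_left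
  have h2 : J.index ∣ (Q : Subgroup T).index := Subgroup.index_dvd_of_le le_sup_right
  obtain ⟨j, _, hj⟩ := (Nat.dvd_prime_pow hp).mp h1
  have hj0 : j = 0 := by
    by_contra h0
    have : p ∣ J.index := by
      rw [hj]
      exact dvd_pow_self p h0
    exact Q.not_dvd_index (this.trans h2)
  rw [hj0, pow_zero] at hj
  have hJtop : J = ⊤ := Subgroup.index_eq_one.mp hj
  refine ⟨(Q : Subgroup T).map T.subtype, Subgroup.map_subtype_le _, Q.2.map T.subtype, ?_⟩
  have h3 : N.map T.subtype = T₀ := by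
    rw [hN, Subgroup.subgroupOf_map_subtype]
    exact inf_eq_left.mpr hle
  rw [← h3, ← Subgroup.map_sup, ← hJ, hJtop, ← MonoidHom.range_eq_map, Subgroup.range_subtype]

end Cfsg.Agent.Lib.Helper2.Glaub
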