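/-
helper2: the Glauberman correspondence for a solvable group of operators, as an equivariant
bijective relation, by induction along characteristic subgroups with `p`-group quotients
(Isaacs, Theorem 13.1), together with the counting consequences.
-/
import Mathlib
import Cfsg.Agent.Lib.Helper2.GlaubPInd
import Cfsg.Agent.Lib.Helper2.GlaubSolvGrp
import Cfsg.Agent.Lib.Lead.CharFS

set_option autoImplicit false

namespace Cfsg.Agent.Lib.Helper2.Glaub

open Cfsg Cfsg.Agent.CharLib Cfsg.Agent.Lib.Helper6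
open scoped ComplexConjugate

universe u

variable {Γ : Type u} [Group Γ]

/-- Conjugation by a normalising element, on irreducible characters. -/
noncomputable def cjIrr (G : Subgroup Γ) (x : Γ) (hx : x ∈ Subgroup.normalizer (G : Set Γ))
    (χ : IrrCharacter G) : IrrCharacter G := irrEquiv (conjEquiv G x hx) χ

theorem cjIrr_apply (G : Subgroup Γ) (x : Γ) (hx : x ∈ Subgroup.normalizer (G : Set Γ))
    (χ : IrrCharacter G) (g : G) :
    ((cjIrr G x hx χ : IrrCharacter G) : G → ℂ) g = (χ : G → ℂ) (conjEquiv G x hx g) := rfl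

theorem cjIrr_eq_of_inv {G T : Subgroup Γ} (χ : IrrCharacter G) (hχ : InvUnder G T (χ : G → ℂ))
    (x : Γ) (hxT : x ∈ T) (hx : x ∈ Subgroup.normalizer (G : Set Γ)) : cjIrr G x hx χ = χ := by
  apply Subtype.ext
  funext g
  exact hχ x hxT g _ rfl

theorem invUnder_of_cjIrr {G T : Subgroup Γ} (hTG : T ≤ Subgroup.normalizer (G : Set Γ))
    (χ : IrrCharacter G) (h : ∀ x (hxT : x ∈ T), cjIrr G x (hTG hxT) χ = χ) :
    InvUnder G T (χ : G → ℂ) := by
  intro t ht g g' hg'
  have h1 : ((cjIrr G t (hTG ht) χ : IrrCharacter G) : G → ℂ) g = (χ : G → ℂ) g := by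
    rw [h t ht]
  rw [cjIrr_apply] at h1
  have h2 : conjEquiv G t (hTG ht) g = g' := Subtype.ext hg'.symm
  rw [h2] at h1
  exact h1

theorem invUnder_cjIrr {G T : Subgroup Γ} (χ : IrrCharacter G) (hχ : InvUnder G T (χ : G → ℂ))
    (x : Γ) (hx : x ∈ Subgroup.normalizer (G : Set Γ))
    (hxT : x ∈ Subgroup.normalizer (T : Set Γ)) :
    InvUnder G T ((cjIrr G x hx χ : IrrCharacter G) : G → ℂ) := by
  intro t ht g g' hg'
  have hxt : x * t * x⁻¹ ∈ T := (Subgroup.mem_normalizer_iff.mp hxT t).mp ht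
  exact hχ (x * t * x⁻¹) hxt (conjEquiv G x hx g) (conjEquiv G x hx g') (by
    rw [conjEquiv_coe, conjEquiv_coe, hg']
    group)

theorem invUnder_mono {G T T' : Subgroup Γ} (h : T' ≤ T) {χ : G → ℂ} (hχ : InvUnder G T χ) :
    InvUnder G T' χ := fun t ht => hχ t (h ht)

theorem mem_normalizer_inf_centralizer [Finite Γ] {G T : Subgroup Γ} {x : Γ}
    (hxG : x ∈ Subgroup.normalizer (G : Set Γ)) (hxT : x ∈ Subgroup.normalizer (T : Set Γ)) :
    x ∈ Subgroup.normalizer ((G ⊓ Subgroup.centralizer (T : Set Γ) : Subgroup Γ) : Set Γ) := by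
  apply Cfsg.Agent.Lib.Helper1.mem_normalizer_of_forall_conj_mem
  intro b hb
  refine ⟨(Subgroup.mem_normalizer_iff.mp hxG b).mp hb.1, ?_⟩
  show x * b * x⁻¹ ∈ Subgroup.centralizer (T : Set Γ)
  rw [Subgroup.mem_centralizer_iff]
  intro u hu
  have hu' : x⁻¹ * u * x ∈ T := by
    have := (Subgroup.mem_normalizer_iff.mp (Subgroup.inv_mem _ hxT) u).mp hu
    rwa [inv_inv] at this
  have hc := Subgroup.mem_centralizer_iff.mp hb.2 _ hu'
  calc u * (x * b * x⁻¹) = x * ((x⁻¹ * u * x) * b) * x⁻¹ := by group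
    _ = x * (b * (x⁻¹ * u * x)) * x⁻¹ := by rw [hc]
    _ = x * b * x⁻¹ * u := by group

/-- The complex conjugate of an irreducible character. -/
noncomputable def conjIrr {G : Type u} [Group G] [Finite G] (χ : IrrCharacter G) : IrrCharacter G :=
  ⟨fun g => conj ((χ : G → ℂ) g), IsIrrCharacter.conj' χ.2⟩

theorem conjIrr_apply {G : Type u} [Group G] [Finite G] (χ : IrrCharacter G) (g : G) :
    ((conjIrr χ : IrrCharacter G) : G → ℂ) g = conj ((χ : G → ℂ) g) := rfl

/-- The relation defining the `p`-group correspondence. -/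
def PRel (B C : Subgroup Γ) [Fintype C] (hCB : C ≤ B) (p : ℕ) (ψ : IrrCharacter B)
    (β : IrrCharacter C) : Prop :=
  ∃ m : ℕ, classInner (fun c : C => (ψ : B → ℂ) ⟨c, hCB c.2⟩) (β : C → ℂ) = (m : ℂ) ∧ ¬ p ∣ m

theorem PRel.cj {B C : Subgroup Γ} [Fintype B] [Fintype C] {hCB : C ≤ B} {p : ℕ}
    {ψ : IrrCharacter B} {β : IrrCharacter C} (h : PRel B C hCB p ψ β) (x : Γ)
    (hxB : x ∈ Subgroup.normalizer (B : Set Γ)) (hxC : x ∈ Subgroup.normalizer (C : Set Γ)) :
    PRel B C hCB p (cjIrr B x hxB ψ) (cjIrr C x hxC β) := by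
  obtain ⟨m, hm, hpm⟩ := h
  refine ⟨m, ?_, hpm⟩
  rw [← hm]
  exact classInner_conj_conj hCB x hxB hxC (ψ : B → ℂ) (β : C → ℂ)

theorem PRel.conj [Finite Γ] {B C : Subgroup Γ} [Fintype C] {hCB : C ≤ B} {p : ℕ}
    {ψ : IrrCharacter B} {β : IrrCharacter C} (h : PRel B C hCB p ψ β) :
    PRel B C hCB p (conjIrr ψ) (conjIrr β) := by
  obtain ⟨m, hm, hpm⟩ := h
  refine ⟨m, ?_, hpm⟩
  have h1 : classInner (fun c : C => ((conjIrr ψ : IrrCharacter B) : B → ℂ) ⟨c, hCB c.2⟩)
      ((conjIrr β : IrrCharacter C) : C → ℂ) =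
      conj (classInner (fun c : C => (ψ : B → ℂ) ⟨c, hCB c.2⟩) (β : C → ℂ)) := by
    simp only [classInner, map_mul, map_inv₀, map_natCast, map_sum, conjIrr_apply]
  rw [h1, hm, map_natCast]

/-- An equivariant bijective correspondence between the `T`-invariant irreducible characters
of `G` and the irreducible characters of `C`. -/
structure IsCorr [Finite Γ] (G T C : Subgroup Γ)
    (R : IrrCharacter G → IrrCharacter C → Prop) : Prop where
  exU : ∀ χ : IrrCharacter G, InvUnder G T (χ : G → ℂ) → ∃! β, R χ β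
  exU' : ∀ β : IrrCharacter C, ∃! χ : IrrCharacter G, InvUnder G T (χ : G → ℂ) ∧ R χ β
  equiv : ∀ (x : Γ) (hxG : x ∈ Subgroup.normalizer (G : Set Γ))
    (hxC : x ∈ Subgroup.normalizer (C : Set Γ)), x ∈ Subgroup.normalizer (T : Set Γ) →
    ∀ χ β, R χ β → R (cjIrr G x hxG χ) (cjIrr C x hxC β)
  real : ∀ χ β, R χ β → R (conjIrr χ) (conjIrr β)

/-- The trivial correspondence. -/
theorem isCorr_bot [Finite Γ] (G C : Subgroup Γ) (hC : C = G) :
    ∃ R, IsCorr G ⊥ C R := by
  subst hC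
  refine ⟨fun χ β => χ = β, ?_, ?_, ?_, ?_⟩
  · intro χ _
    exact ⟨χ, rfl, fun β h => h.symm⟩
  · intro β
    refine ⟨β, ⟨?_, rfl⟩, fun χ h => h.2⟩
    intro t ht g g' hg'
    rw [Subgroup.mem_bot] at ht
    subst ht
    have : g' = g := by
      apply Subtype.ext
      rw [hg']
      group
    rw [this]
  · intro x hxG hxC _ χ β h
    subst h
    rfl
  · intro χ β h
    subst h
    rfl

/-- The correspondence of a `p`-group of operators as an `IsCorr`. -/
theorem isCorr_of_pcorr [Finite Γ] (B P C : Subgroup Γ) [Fintype B] [Fintype C] (hCB : C ≤ B)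
    {p : ℕ} (hp : p.Prime) (h : PCorr B P C hCB p) :
    (∀ ψ : IrrCharacter B, InvUnder B P (ψ : B → ℂ) → ∃! β, PRel B C hCB p ψ β) ∧
    (∀ β : IrrCharacter C, ∃! ψ : IrrCharacter B, InvUnder B P (ψ : B → ℂ) ∧
      PRel B C hCB p ψ β) := by
  obtain ⟨h1, h3, h4⟩ := h
  constructor
  · intro χ hχ
    obtain ⟨β, ε, hε, hβ⟩ := h1 χ hχ
    refine ⟨β, ?_, ?_⟩
    · obtain ⟨m, hm, hmod⟩ := hβ β
      rw [if_pos rfl] at hmod
      exact ⟨m, hm, not_dvd_of_modEq_sign hp hε hmod⟩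
    · rintro β' ⟨m, hm, hpm⟩
      by_contra hne
      obtain ⟨m', hm', hmod⟩ := hβ β'
      rw [if_neg hne] at hmod
      have hmm : m = m' := by exact_mod_cast hm.symm.trans hm'
      subst hmm
      apply hpm
      exact_mod_cast Int.modEq_zero_iff_dvd.mp hmod
  · intro β
    obtain ⟨χ, hχ, m, hm, hpm⟩ := h4 β
    refine ⟨χ, ⟨hχ, m, hm, hpm⟩, ?_⟩
    rintro χ' ⟨hχ', m', hm', hpm'⟩
    exact h3 χ' χ hχ' hχ β m' m hm' hpm' hm hpm

/-- **The composition step** for the solvable correspondence. -/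
theorem isCorr_step [Finite Γ] (G T T₀ P B C : Subgroup Γ) [Fintype B] [Fintype C]
    {p : ℕ} (hp : p.Prime) (hTG : T ≤ Subgroup.normalizer (G : Set Γ)) (hT₀T : T₀ ≤ T)
    (hchar : ∀ x : Γ, x ∈ Subgroup.normalizer (T : Set Γ) → x ∈ Subgroup.normalizer (T₀ : Set Γ))
    (hPT : P ≤ T) (hsup : T₀ ⊔ P = T)
    (hB : B = G ⊓ Subgroup.centralizer (T₀ : Set Γ)) (hCB : C ≤ B)
    (R₀ : IrrCharacter G → IrrCharacter B → Prop) (h1 : IsCorr G T₀ B R₀)
    (h2 : PCorr B P C hCB p) :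
    IsCorr G T C (fun χ β => ∃ ψ, R₀ χ ψ ∧ PRel B C hCB p ψ β) := by
  classical
  obtain ⟨h2a, h2b⟩ := isCorr_of_pcorr B P C hCB hp h2
  have hTN : T ≤ Subgroup.normalizer (T : Set Γ) := Subgroup.le_normalizer
  have hTT₀ : T ≤ Subgroup.normalizer (T₀ : Set Γ) := fun t ht => hchar t (hTN ht)
  have hTB : T ≤ Subgroup.normalizer (B : Set Γ) := by
    intro t ht
    rw [hB]
    exact mem_normalizer_inf_centralizer (hTG ht) (hTT₀ ht)
  have hT₀B : ∀ t ∈ T₀, ∀ b : B, t * (b : Γ) * t⁻¹ = b := by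
    intro t ht b
    have hb : (b : Γ) ∈ Subgroup.centralizer (T₀ : Set Γ) := (hB.le b.2).2
    have := Subgroup.mem_centralizer_iff.mp hb t ht
    rw [this]
    group
  -- invariance under `P` and under `T` agree on `B`
  have hinvPT : ∀ ψ : IrrCharacter B, InvUnder B P (ψ : B → ℂ) → InvUnder B T (ψ : B → ℂ) := by
    intro ψ hψ
    rw [invUnder_iff_le_invSub hTB, ← hsup]
    apply sup_le
    · intro t ht
      refine ⟨hTB (hT₀T ht), ?_⟩
      intro g g' hg'
      have : g' = g := by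
        apply Subtype.ext
        rw [hg', hT₀B t ht g]
      rw [this]
    · exact (invUnder_iff_le_invSub (hPT.trans hTB) _).mp hψ
  -- the partner of a `T`-invariant character is `T`-invariant
  have hpartner : ∀ (χ : IrrCharacter G) (ψ : IrrCharacter B), InvUnder G T (χ : G → ℂ) →
      R₀ χ ψ → InvUnder B T (ψ : B → ℂ) := by
    intro χ ψ hχ hR
    apply invUnder_of_cjIrr hTB
    intro x hxT
    have h3 := h1.equiv x (hTG hxT) (hTB hxT) (hTT₀ hxT) χ ψ hR
    rw [cjIrr_eq_of_inv χ hχ x hxT] at h3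
    obtain ⟨β₀, _, huniq⟩ := h1.exU χ (invUnder_mono hT₀T hχ)
    rw [huniq _ h3, huniq _ hR]
  have hpartner' : ∀ (χ : IrrCharacter G) (ψ : IrrCharacter B), InvUnder G T₀ (χ : G → ℂ) →
      InvUnder B T (ψ : B → ℂ) → R₀ χ ψ → InvUnder G T (χ : G → ℂ) := by
    intro χ ψ hχ hψ hR
    apply invUnder_of_cjIrr hTG
    intro x hxT
    have h3 := h1.equiv x (hTG hxT) (hTB hxT) (hTT₀ hxT) χ ψ hR
    rw [cjIrr_eq_of_inv ψ hψ x hxT] at h3
    obtain ⟨χ₀, _, huniq⟩ := h1.exU' ψ
    rw [huniq _ ⟨invUnder_cjIrr χ hχ x (hTG hxT) (hTT₀ hxT), h3⟩, huniq _ ⟨hχ, hR⟩]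
  refine ⟨?_, ?_, ?_, ?_⟩
  · intro χ hχ
    obtain ⟨ψ, hψR, hψu⟩ := h1.exU χ (invUnder_mono hT₀T hχ)
    have hψT := hpartner χ ψ hχ hψR
    obtain ⟨β, hβ, hβu⟩ := h2a ψ (invUnder_mono hPT hψT)
    refine ⟨β, ⟨ψ, hψR, hβ⟩, ?_⟩
    rintro β' ⟨ψ', hψ'R, hβ'⟩
    rw [hψu ψ' hψ'R] at hβ'
    exact hβu β' hβ'
  · intro β
    obtain ⟨ψ, ⟨hψP, hψβ⟩, hψu⟩ := h2b β
    have hψT := hinvPT ψ hψP
    obtain ⟨χ, ⟨hχ₀, hχR⟩, hχu⟩ := h1.exU' ψ
    have hχT := hpartner' χ ψ hχ₀ hψT hχR
    refine ⟨χ, ⟨hχT, ψ, hχR, hψβ⟩, ?_⟩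
    rintro χ' ⟨hχ'T, ψ', hχ'R, hψ'β⟩
    have hψ'T := hpartner χ' ψ' hχ'T hχ'R
    have : ψ' = ψ := hψu ψ' ⟨invUnder_mono hPT hψ'T, hψ'β⟩
    rw [this] at hχ'R
    exact hχu χ' ⟨invUnder_mono hT₀T hχ'T, hχ'R⟩
  · rintro x hxG hxC hxT χ β ⟨ψ, hR, hP⟩
    have hxT₀ := hchar x hxT
    have hxB : x ∈ Subgroup.normalizer (B : Set Γ) := by
      rw [hB]
      exact mem_normalizer_inf_centralizer hxG hxT₀
    exact ⟨cjIrr B x hxB ψ, h1.equiv x hxG hxB hxT₀ χ ψ hR, hP.cj x hxB hxC⟩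
  · rintro χ β ⟨ψ, hR, hP⟩
    exact ⟨conjIrr ψ, h1.real χ ψ hR, hP.conj⟩

/-- **Glauberman correspondence for solvable operator groups**: existence of an equivariant
bijective correspondence. -/
theorem solv_corr [Fintype Γ] :
    ∀ (n : ℕ) (G T C : Subgroup Γ), Nat.card T = n →
      T ≤ Subgroup.normalizer (G : Set Γ) → (Nat.card G).Coprime (Nat.card T) →
      Group.IsSolvable T → C = G ⊓ Subgroup.centralizer (T : Set Γ) →
      ∃ R, IsCorr G T C R := by
  intro n
  induction n using Nat.strong_induction_on with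
  | _ n ih =>
    intro G T C hn hTG hcop hsolv hC
    by_cases hbot : T = ⊥
    · subst hbot
      apply isCorr_bot G C
      rw [hC]
      apply inf_eq_left.mpr
      intro g _
      rw [Subgroup.mem_centralizer_iff]
      intro h hh
      have : h = 1 := by simpa using hh
      rw [this]
      simp
    · obtain ⟨p, hp, T₀, hT₀T, hlt, hchar, hq⟩ := exists_char_pquot T hsolv hbot
      have hTT₀ : T ≤ Subgroup.normalizer (T₀ : Set Γ) :=
        fun t ht => hchar t (Subgroup.le_normalizer ht)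
      obtain ⟨P, hPT, hPp, hsup⟩ := exists_pgroup_sup hp T T₀ hT₀T hTT₀ hq
      let B : Subgroup Γ := G ⊓ Subgroup.centralizer (T₀ : Set Γ)
      haveI : Fintype B := Fintype.ofFinite _
      haveI : Fintype C := Fintype.ofFinite _
      haveI : Fintype G := Fintype.ofFinite _
      have hBG : B ≤ G := inf_le_left
      have hCB : C ≤ B := by
        rw [hC]
        exact inf_le_inf_left G (Subgroup.centralizer_le (by exact_mod_cast hT₀T))
      haveI : Group.IsSolvable T₀ :=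
        Group.isSolvable_of_isSolvable_injective (f := Subgroup.inclusion hT₀T)
          (Subgroup.inclusion_injective _)
      obtain ⟨R₀, hR₀⟩ := ih (Nat.card T₀) (hn ▸ hlt) G T₀ B rfl (hT₀T.trans hTG)
        (Nat.Coprime.coprime_dvd_right (Subgroup.card_dvd_of_le hT₀T) hcop) inferInstance rfl
      have hTB : T ≤ Subgroup.normalizer (B : Set Γ) := fun t ht =>
        mem_normalizer_inf_centralizer (hTG ht) (hTT₀ ht)
      have hC' : C = B ⊓ Subgroup.centralizer (P : Set Γ) := by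
        rw [hC]
        apply le_antisymm
        · refine le_inf (le_inf inf_le_left ?_) ?_
          · exact inf_le_right.trans (Subgroup.centralizer_le (by exact_mod_cast hT₀T))
          · exact inf_le_right.trans (Subgroup.centralizer_le (by exact_mod_cast hPT))
        · refine le_inf (inf_le_left.trans inf_le_left) ?_
          intro c hc
          rw [Subgroup.mem_centralizer_iff]
          have h1 : T₀ ≤ Subgroup.centralizer {c} := by
            intro t ht
            rw [Subgroup.mem_centralizer_iff]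
            intro y hy
            rw [Set.mem_singleton_iff] at hy
            subst hy
            exact (Subgroup.mem_centralizer_iff.mp hc.1.2 t ht).symm
          have h2 : P ≤ Subgroup.centralizer {c} := by
            intro t ht
            rw [Subgroup.mem_centralizer_iff]
            intro y hy
            rw [Set.mem_singleton_iff] at hy
            subst hy
            exact (Subgroup.mem_centralizer_iff.mp hc.2 t ht).symm
          intro t ht
          have h3 : t ∈ Subgroup.centralizer {c} := by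
            have : T₀ ⊔ P ≤ Subgroup.centralizer {c} := sup_le h1 h2
            exact this (hsup ▸ ht)
          exact (Subgroup.mem_centralizer_iff.mp h3 c (Set.mem_singleton c)).symm
      have hPB : ∀ t ∈ P, ∀ g ∈ B, t * g * t⁻¹ ∈ B := by
        intro t ht g hg
        exact (Subgroup.mem_normalizer_iff.mp (hTB (hPT ht)) g).mp hg
      have h2 : PCorr B P C hCB p :=
        pgroup_corr hp (Nat.card P) B P C rfl hPB
          (Nat.Coprime.coprime_dvd_left (Subgroup.card_dvd_of_le hBG)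
            (Nat.Coprime.coprime_dvd_right (Subgroup.card_dvd_of_le hPT) hcop)) hPp hC' hCB
      exact ⟨_, isCorr_step G T T₀ P B C hp hTG hT₀T hchar hPT hsup rfl hCB R₀ hR₀ h2⟩

/-- Counting along a bijective relation. -/
theorem card_eq_of_rel {X Y : Type*} (PX : X → Prop) (R : X → Y → Prop)
    (h1 : ∀ x, PX x → ∃! y, R x y) (h2 : ∀ y, ∃! x, PX x ∧ R x y) :
    Nat.card {x // PX x} = Nat.card Y := by
  classical
  choose f hf hfu using h1
  apply Nat.card_congr
  refine Equiv.ofBijective (fun x : {x // PX x} => f x.1 x.2) ⟨?_, ?_⟩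
  · rintro ⟨x, hx⟩ ⟨x', hx'⟩ h
    simp only at h
    obtain ⟨x₀, _, hu⟩ := h2 (f x hx)
    apply Subtype.ext
    show x = x'
    rw [hu x ⟨hx, hf x hx⟩, hu x' ⟨hx', h ▸ hf x' hx'⟩]
  · intro y
    obtain ⟨x, ⟨hx, hR⟩, _⟩ := h2 y
    exact ⟨⟨x, hx⟩, (hfu x hx y hR).symm⟩

/-- Counting fixed points of compatible involutions along a bijective relation. -/
theorem card_fixed_eq_of_rel {X Y : Type*} (PX : X → Prop) (R : X → Y → Prop)
    (h1 : ∀ x, PX x → ∃! y, R x y) (h2 : ∀ y, ∃! x, PX x ∧ R x y)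
    (σ : X → X) (τ : Y → Y) (hσ : ∀ x, PX x → PX (σ x)) (hR : ∀ x y, R x y → R (σ x) (τ y)) :
    Nat.card {x // PX x ∧ σ x = x} = Nat.card {y // τ y = y} := by
  apply card_eq_of_rel (fun x => PX x ∧ σ x = x) (fun x (y : {y // τ y = y}) => R x y.1)
  · rintro x ⟨hx, hσx⟩
    obtain ⟨y, hy, hu⟩ := h1 x hx
    have hτ : τ y = y := by
      apply hu
      have := hR x y hy
      rwa [hσx] at this
    refine ⟨⟨y, hτ⟩, hy, ?_⟩
    rintro ⟨y', hy'⟩ h
    exact Subtype.ext (hu y' h)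
  · rintro ⟨y, hy⟩
    obtain ⟨x, ⟨hx, hxR⟩, hu⟩ := h2 y
    have hσx : σ x = x := by
      apply hu
      refine ⟨hσ x hx, ?_⟩
      have := hR x y hxR
      rwa [hy] at this
    refine ⟨x, ⟨⟨hx, hσx⟩, hxR⟩, ?_⟩
    rintro x' ⟨⟨hx', _⟩, hx'R⟩
    exact hu x' ⟨hx', hx'R⟩

/-- **Isaacs 13.24, character side**: under a coprime solvable group of operators the number of
invariant irreducible characters is the number of irreducible characters of the fixed points. -/
theorem card_inv_irr_solv [Fintype Γ] (G S C : Subgroup Γ)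
    (hSG : S ≤ Subgroup.normalizer (G : Set Γ)) (hcop : (Nat.card G).Coprime (Nat.card S))
    (hsolv : Group.IsSolvable S) (hC : C = G ⊓ Subgroup.centralizer (S : Set Γ)) :
    Nat.card {χ : IrrCharacter G // InvUnder G S (χ : G → ℂ)} = Nat.card (IrrCharacter C) := by
  obtain ⟨R, hR⟩ := solv_corr (Nat.card S) G S C rfl hSG hcop hsolv hC
  exact card_eq_of_rel _ R hR.exU hR.exU'

end Cfsg.Agent.Lib.Helper2.Glaub
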