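/-
helper2: real-valued invariant characters and real invariant classes under a coprime solvable
group of operators.
-/
import Mathlib
import Cfsg.Agent.Lib.Helper2.GlaubSolv
import Cfsg.Agent.Lib.Helper2.GlaubClass

set_option autoImplicit false

namespace Cfsg.Agent.Lib.Helper2.Glaub

open Cfsg Cfsg.Agent.CharLib Cfsg.Agent.Lib.Helper6
open scoped ComplexConjugate

universe u

variable {Γ : Type u} [Group Γ]

theorem conjIrr_eq_iff {G : Type u} [Group G] [Finite G] (χ : IrrCharacter G) :
    conjIrr χ = χ ↔ ∀ g : G, ((χ : G → ℂ) g).im = 0 := by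
  constructor
  · intro h g
    have := congrArg (fun ξ : IrrCharacter G => (ξ : G → ℂ) g) h
    simp only [conjIrr_apply] at this
    exact Complex.conj_eq_iff_im.mp this
  · intro h
    apply Subtype.ext
    funext g
    rw [conjIrr_apply]
    exact Complex.conj_eq_iff_im.mpr (h g)

theorem invUnder_conjIrr [Finite Γ] {G T : Subgroup Γ} (χ : IrrCharacter G)
    (hχ : InvUnder G T (χ : G → ℂ)) : InvUnder G T ((conjIrr χ : IrrCharacter G) : G → ℂ) := by
  intro t ht g g' hg'
  rw [conjIrr_apply, conjIrr_apply, hχ t ht g g' hg']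

/-- The number of real-valued invariant irreducible characters of `G` is the number of
real-valued irreducible characters of the fixed point subgroup. -/
theorem card_real_inv_irr_solv [Fintype Γ] (G S C : Subgroup Γ)
    (hSG : S ≤ Subgroup.normalizer (G : Set Γ)) (hcop : (Nat.card G).Coprime (Nat.card S))
    (hsolv : Group.IsSolvable S) (hC : C = G ⊓ Subgroup.centralizer (S : Set Γ)) :
    Nat.card {χ : IrrCharacter G // (∀ g : G, ((χ : G → ℂ) g).im = 0) ∧
        InvUnder G S (χ : G → ℂ)} =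
      Nat.card {β : IrrCharacter C // ∀ c : C, ((β : C → ℂ) c).im = 0} := by
  obtain ⟨R, hR⟩ := solv_corr (Nat.card S) G S C rfl hSG hcop hsolv hC
  have h1 := card_fixed_eq_of_rel _ R hR.exU hR.exU' conjIrr conjIrr
    (fun χ hχ => invUnder_conjIrr χ hχ) hR.real
  have e1 : {χ : IrrCharacter G // (∀ g : G, ((χ : G → ℂ) g).im = 0) ∧
        InvUnder G S (χ : G → ℂ)} ≃
      {χ : IrrCharacter G // InvUnder G S (χ : G → ℂ) ∧ conjIrr χ = χ} :=
    Equiv.subtypeEquivRight (fun χ => by rw [conjIrr_eq_iff, and_comm])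
  have e2 : {β : IrrCharacter C // conjIrr β = β} ≃
      {β : IrrCharacter C // ∀ c : C, ((β : C → ℂ) c).im = 0} :=
    Equiv.subtypeEquivRight (fun β => conjIrr_eq_iff β)
  rw [Nat.card_congr e1, h1, Nat.card_congr e2]

/-- Reality of classes is preserved by the class correspondence. -/
theorem real_classMap_iff [Finite Γ] {G S C : Subgroup Γ}
    (hC : C = G ⊓ Subgroup.centralizer (S : Set Γ)) (hCG : C ≤ G)
    (hSG : S ≤ Subgroup.normalizer (G : Set Γ)) (hcop : (Nat.card G).Coprime (Nat.card S))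
    (hsolv : Group.IsSolvable S ∨ Group.IsSolvable G) (Kc : ConjClasses C) :
    (∀ g : C, ConjClasses.mk g = Kc → IsConj g g⁻¹) ↔
      (∀ g : G, ConjClasses.mk g = ConjClasses.map (Subgroup.inclusion hCG) Kc → IsConj g g⁻¹) := by
  obtain ⟨c, rfl⟩ := ConjClasses.exists_rep Kc
  constructor
  · intro h g hg
    have h1 : IsConj c c⁻¹ := h c rfl
    have h2 : IsConj g (Subgroup.inclusion hCG c) := ConjClasses.mk_eq_mk_iff_isConj.mp hg
    have h3 : IsConj (Subgroup.inclusion hCG c) (Subgroup.inclusion hCG c)⁻¹ := by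
      have := (Subgroup.inclusion hCG).map_isConj h1
      rwa [map_inv] at this
    have h4 : IsConj (Subgroup.inclusion hCG c)⁻¹ g⁻¹ := by
      obtain ⟨u, hu⟩ := isConj_iff.mp h2.symm
      exact isConj_iff.mpr ⟨u, by rw [← hu]; group⟩
    exact h2.trans (h3.trans h4)
  · intro h g hg
    have h1 : IsConj g c := ConjClasses.mk_eq_mk_iff_isConj.mp hg
    have h2 : IsConj (Subgroup.inclusion hCG c) (Subgroup.inclusion hCG c)⁻¹ := h _ rfl
    -- `c` and `c⁻¹` are conjugate in `C`
    have h3 : IsConj c c⁻¹ := by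
      obtain ⟨k, hk⟩ := isConj_iff.mp h2
      have hk' : (k : Γ) * c * (k : Γ)⁻¹ = (c : Γ)⁻¹ := by
        have := congrArg (Subtype.val) hk
        simpa using this
      have hc : (c : Γ) ∈ Subgroup.centralizer (S : Set Γ) := (hC.le c.2).2
      obtain ⟨c₀, hc₀, hcc⟩ := exists_conj_of_conj hSG hcop hsolv (c : Γ) hc (k : Γ) k.2
        (by rw [hk']; exact Subgroup.inv_mem _ hc)
      refine isConj_iff.mpr ⟨⟨c₀, by rw [hC]; exact hc₀⟩, ?_⟩
      apply Subtype.ext
      simp only [Subgroup.coe_mul, Subgroup.coe_inv]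
      rw [hcc, hk']
    have h4 : IsConj c⁻¹ g⁻¹ := by
      obtain ⟨u, hu⟩ := isConj_iff.mp h1.symm
      exact isConj_iff.mpr ⟨u, by rw [← hu]; group⟩
    exact h1.trans (h3.trans h4)

theorem card_real_classInv [Finite Γ] {G S C : Subgroup Γ}
    (hC : C = G ⊓ Subgroup.centralizer (S : Set Γ)) (hCG : C ≤ G)
    (hSG : S ≤ Subgroup.normalizer (G : Set Γ)) (hcop : (Nat.card G).Coprime (Nat.card S))
    (hsolv : Group.IsSolvable S ∨ Group.IsSolvable G) :
    Nat.card {Kc : ConjClasses C // ∀ g : C, ConjClasses.mk g = Kc → IsConj g g⁻¹} =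
      Nat.card {Kk : ConjClasses G // (∀ g : G, ConjClasses.mk g = Kk → IsConj g g⁻¹) ∧
        ClassInv G S Kk} := by
  have e1 : {Kc : ConjClasses C // ∀ g : C, ConjClasses.mk g = Kc → IsConj g g⁻¹} ≃
      {Kk : {Kk : ConjClasses G // ClassInv G S Kk} //
        ∀ g : G, ConjClasses.mk g = Kk.1 → IsConj g g⁻¹} :=
    Equiv.subtypeEquiv (Equiv.ofBijective _ (classMap_bijective hC hCG hSG hcop hsolv))
      (fun Kc => real_classMap_iff hC hCG hSG hcop hsolv Kc)
  have e2 : {Kk : {Kk : ConjClasses G // ClassInv G S Kk} //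
        ∀ g : G, ConjClasses.mk g = Kk.1 → IsConj g g⁻¹} ≃
      {Kk : ConjClasses G // (∀ g : G, ConjClasses.mk g = Kk → IsConj g g⁻¹) ∧
        ClassInv G S Kk} :=
    { toFun := fun Kk => ⟨Kk.1.1, Kk.2, Kk.1.2⟩
      invFun := fun Kk => ⟨⟨Kk.1, Kk.2.2⟩, Kk.2.1⟩
      left_inv := fun _ => rfl
      right_inv := fun _ => rfl }
  exact Nat.card_congr (e1.trans e2)

/-- **Real version of Isaacs 13.24**: equally many real-valued invariant irreducible characters
as real invariant classes. -/
theorem card_real_inv_irr_eq_classes [Fintype Γ] (G S : Subgroup Γ)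
    (hSG : S ≤ Subgroup.normalizer (G : Set Γ)) (hcop : (Nat.card G).Coprime (Nat.card S))
    (hsolv : Group.IsSolvable S) :
    Nat.card {χ : IrrCharacter G // (∀ g : G, ((χ : G → ℂ) g).im = 0) ∧
        InvUnder G S (χ : G → ℂ)} =
      Nat.card {Kk : ConjClasses G // (∀ g : G, ConjClasses.mk g = Kk → IsConj g g⁻¹) ∧
        ClassInv G S Kk} := by
  have h1 := card_real_inv_irr_solv G S (G ⊓ Subgroup.centralizer (S : Set Γ)) hSG hcop hsolv rfl
  have h2 := card_real_irr_eq_card_real_classes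
    (G := (G ⊓ Subgroup.centralizer (S : Set Γ) : Subgroup Γ))
  have h3 := card_real_classInv (G := G) (S := S) rfl inf_le_left hSG hcop (Or.inl hsolv)
  exact h1.trans (h2.trans h3)

end Cfsg.Agent.Lib.Helper2.Glaub
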