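/-
helper2: S4864 leaf (N5): the Glauberman correspondence (solvable operator group version,
`solv_corr`) in function form, for `P ∈ Syl_p(G)` acting on a normal `p'`-subgroup `K`.
-/
import Mathlib
import Cfsg.Prelude.Def_Blocks
import Cfsg.Agent.Lib.Helper6.Clifford
import Cfsg.Agent.Lib.Helper2.GlaubReal
import Cfsg.Agent.Lib.Helper12.RealPDefs
import Cfsg.Agent.Lib.Helper12.RealNDefs

set_option autoImplicit false

namespace Cfsg.Agent.Lib.Helper2.RealN

open Cfsg Cfsg.Agent.Lib.Helper6 Cfsg.Agent.Lib.Helper12.RealP Cfsg.Agent.Lib.Helper12.RealN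
open Cfsg.Agent.Lib.Helper2.Glaub

universe u

variable {G : Type u} [Group G] [Finite G]

omit [Finite G] in
/-- The normalizer of `P` normalizes the centralizer of `P`. -/
theorem normalizer_le_normalizer_centralizer_aux (P : Subgroup G) :
    Subgroup.normalizer (P : Set G) ≤
      Subgroup.normalizer ((Subgroup.centralizer (P : Set G) : Subgroup G) : Set G) := by
  intro n hn
  have key : ∀ m : G, m ∈ Subgroup.normalizer (P : Set G) →
      ∀ c ∈ Subgroup.centralizer (P : Set G), m * c * m⁻¹ ∈ Subgroup.centralizer (P : Set G) := by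
    intro m hm c hc
    rw [Subgroup.mem_centralizer_iff]
    intro u hu
    have hu' : m⁻¹ * u * m ∈ P := by
      have := (Subgroup.mem_normalizer_iff.mp (Subgroup.inv_mem _ hm) u).mp hu
      rwa [inv_inv] at this
    have h1 := Subgroup.mem_centralizer_iff.mp hc _ hu'
    calc u * (m * c * m⁻¹) = m * ((m⁻¹ * u * m) * c) * m⁻¹ := by group
      _ = m * (c * (m⁻¹ * u * m)) * m⁻¹ := by rw [h1]
      _ = m * c * m⁻¹ * u := by group
  rw [Subgroup.mem_normalizer_iff]
  intro c
  constructor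
  · exact key n hn c
  · intro h
    have := key n⁻¹ (Subgroup.inv_mem _ hn) _ h
    rw [inv_inv] at this
    have h2 : n⁻¹ * (n * c * n⁻¹) * n = c := by group
    rwa [h2] at this

omit [Finite G] in
theorem mem_normalizer_CP (p : ℕ) (K : Subgroup G) [hK : K.Normal]
    (P : Sylow p G) {n : G} (hn : n ∈ NP P) :
    n ∈ Subgroup.normalizer ((CP K P : Subgroup G) : Set G) := by
  have h1 := normalizer_le_normalizer_centralizer_aux (P : Subgroup G) hn
  rw [Subgroup.mem_normalizer_iff] at h1 ⊢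
  intro c
  have hKn : ∀ c : G, c ∈ K ↔ n * c * n⁻¹ ∈ K := by
    intro c
    constructor
    · intro h
      exact hK.conj_mem c h n
    · intro h
      have := hK.conj_mem _ h n⁻¹
      rw [inv_inv] at this
      have h2 : n⁻¹ * (n * c * n⁻¹) * n = c := by group
      rwa [h2] at this
  show c ∈ K ⊓ Subgroup.centralizer ((P : Subgroup G) : Set G) ↔
    n * c * n⁻¹ ∈ K ⊓ Subgroup.centralizer ((P : Subgroup G) : Set G)
  rw [Subgroup.mem_inf, Subgroup.mem_inf, ← hKn c, ← h1 c]

/-- (N5) The Glauberman correspondence in function form. -/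
theorem exists_glauberman_map (p : ℕ) [Fact p.Prime] (K : Subgroup G) [hK : K.Normal]
    (P : Sylow p G) (hpK : ¬ p ∣ Nat.card ↥K) :
    ∃ F : IrrCharacter ↥(CP K P) → IrrCharacter ↥K,
      (∀ β, InvUnder K (P : Subgroup G) ((F β : IrrCharacter ↥K) : ↥K → ℂ)) ∧
      (∀ χ : IrrCharacter ↥K, InvUnder K (P : Subgroup G) (χ : ↥K → ℂ) → ∃ β, F β = χ) ∧
      (∀ β : IrrCharacter ↥(CP K P), (∀ c, ((β : ↥(CP K P) → ℂ) c).im = 0) ↔
        ∀ k, (((F β : IrrCharacter ↥K) : ↥K → ℂ) k).im = 0) ∧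
      (∀ n ∈ NP P, ∀ β β' : IrrCharacter ↥(CP K P),
        (∀ c c' : ↥(CP K P), (c' : G) = n * (c : G) * n⁻¹ →
          (β' : ↥(CP K P) → ℂ) c' = (β : ↥(CP K P) → ℂ) c) →
        ∀ k k' : ↥K, (k' : G) = n * (k : G) * n⁻¹ →
          ((F β' : IrrCharacter ↥K) : ↥K → ℂ) k' = ((F β : IrrCharacter ↥K) : ↥K → ℂ) k) := by
  classical
  have : Fintype G := Fintype.ofFinite G
  have hKtop : Subgroup.normalizer (K : Set G) = ⊤ := Subgroup.normalizer_eq_top K
  have hPK : (P : Subgroup G) ≤ Subgroup.normalizer (K : Set G) := by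
    rw [hKtop]; exact le_top
  have hcop : (Nat.card ↥K).Coprime (Nat.card ↥(P : Subgroup G)) := by
    obtain ⟨n, hn⟩ := P.2.exists_card_eq
    rw [hn]
    exact Nat.Coprime.pow_right _
      ((Nat.Prime.coprime_iff_not_dvd (Fact.out : p.Prime)).mpr hpK).symm
  have hsolv : Group.IsSolvable ↥(P : Subgroup G) :=
    IsNilpotent.to_isSolvable (h := P.2.isNilpotent)
  obtain ⟨R, hR⟩ := solv_corr (Nat.card ↥(P : Subgroup G)) K (P : Subgroup G) (CP K P) rfl hPK
    hcop hsolv rfl
  choose F hF using fun β => (hR.exU' β).exists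
  have hFu : ∀ (β : IrrCharacter ↥(CP K P)) (χ : IrrCharacter ↥K),
      InvUnder K (P : Subgroup G) (χ : ↥K → ℂ) → R χ β → χ = F β := by
    intro β χ h1 h2
    obtain ⟨χ₀, _, hu⟩ := hR.exU' β
    rw [hu χ ⟨h1, h2⟩, hu (F β) (hF β)]
  refine ⟨F, fun β => (hF β).1, ?_, ?_, ?_⟩
  · intro χ hχ
    obtain ⟨β, hβ, _⟩ := hR.exU χ hχ
    exact ⟨β, (hFu β χ hχ hβ).symm⟩
  · intro β
    rw [← conjIrr_eq_iff, ← conjIrr_eq_iff]
    constructor
    · intro h
      have h1 := hR.real _ _ (hF β).2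
      rw [h] at h1
      exact hFu β _ (invUnder_conjIrr _ (hF β).1) h1
    · intro h
      have h1 := hR.real _ _ (hF β).2
      rw [h] at h1
      obtain ⟨β₀, _, hu⟩ := hR.exU (F β) (hF β).1
      rw [hu _ h1, hu _ (hF β).2]
  · intro n hn β β' hββ' k k' hk
    have hnK : n ∈ Subgroup.normalizer (K : Set G) := by rw [hKtop]; trivial
    have hnC : n ∈ Subgroup.normalizer ((CP K P : Subgroup G) : Set G) :=
      mem_normalizer_CP p K P hn
    have hβ : cjIrr (CP K P) n hnC β' = β := by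
      apply Subtype.ext
      funext c
      rw [cjIrr_apply]
      exact hββ' c _ (conjEquiv_coe _ n hnC c)
    have h1 := hR.equiv n hnK hnC hn _ _ (hF β').2
    rw [hβ] at h1
    have h2 := hFu β _ (invUnder_cjIrr _ (hF β').1 n hnK hn) h1
    have h3 : ((F β : IrrCharacter ↥K) : ↥K → ℂ) k =
        ((cjIrr K n hnK (F β') : IrrCharacter ↥K) : ↥K → ℂ) k := by rw [h2]
    rw [h3, cjIrr_apply]
    have h4 : k' = conjEquiv K n hnK k := by
      apply Subtype.ext
      rw [conjEquiv_coe, hk]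
    rw [h4]

end Cfsg.Agent.Lib.Helper2.RealN
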