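import Mathlib
import Cfsg.Prelude.Def_Characters
import Cfsg.Agent.S0171
import Cfsg.Agent.S0170
import Cfsg.Agent.Lib.Helper18.FrobComp
import Cfsg.Agent.Lib.Helper6.Clifford
import Cfsg.Agent.Lib.Helper10.AbelianRestrict
import Cfsg.Agent.Lib.Lead.FrobThm1

/-!
T.I. subgroups `K` with Frobenius normalizer `N = N_G(K)` (`K < N`, `C_G(k) ≤ K` for `1 ≠ k ∈ K`):
structure of `N` and of the irreducible characters of `N` not containing `K` in their kernel.
-/

set_option autoImplicit false
namespace Cfsg.Agent.Lib.Helper2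
universe u
open Cfsg Cfsg.Agent.CharLib Cfsg.Agent.Lib.Helper6
open scoped ComplexConjugate

section tifrob
variable {G : Type u} [Group G] [Finite G] (K : Subgroup G)

/-- `K` is a Hall subgroup of its normalizer -/
theorem tifrob_coprime
    (hC : ∀ k ∈ K, k ≠ 1 → Subgroup.centralizer ({k} : Set G) ≤ K) :
    Nat.Coprime (Nat.card K) (K.subgroupOf (Subgroup.normalizer (K : Set G))).index := by
  by_contra h
  obtain ⟨q, hq, hq1, hq2⟩ := Nat.Prime.not_coprime_iff_dvd.mp h
  haveI : Fact q.Prime := ⟨hq⟩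
  obtain ⟨Q⟩ : Nonempty (Sylow q ↥(Subgroup.normalizer (K : Set G))) := inferInstance
  have hnot : ¬ (Q : Subgroup ↥(Subgroup.normalizer (K : Set G))) ≤
      K.subgroupOf (Subgroup.normalizer (K : Set G)) := by
    intro hle
    have h1 := Subgroup.index_dvd_of_le hle
    exact Q.not_dvd_index (hq2.trans h1)
  obtain ⟨x, hxQ, hxK⟩ := SetLike.not_le_iff_exists.mp hnot
  have hCq : IsPGroup q (Subgroup.zpowers (x : G)) := by
    obtain ⟨k, hk⟩ := (IsPGroup.iff_orderOf.mp Q.isPGroup') ⟨x, hxQ⟩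
    apply IsPGroup.of_card (n := k)
    rw [Nat.card_zpowers, ← hk, Subgroup.orderOf_mk, Subgroup.orderOf_coe]
  obtain ⟨w, hw, hw1, hwc⟩ := Cfsg.Agent.Lib.Helper18.exists_ne_one_fixed_of_dvd_card K
    (Subgroup.zpowers (x : G)) hCq hq1 (Subgroup.zpowers_le.mpr x.2)
  have hx := hC w hw hw1 (Subgroup.mem_centralizer_singleton_iff.mpr
    (hwc _ (Subgroup.mem_zpowers _)))
  exact hxK (Subgroup.mem_subgroupOf.mpr hx)

/-- a Frobenius complement in the normalizer -/
theorem tifrob_exists_complement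
    (hC : ∀ k ∈ K, k ≠ 1 → Subgroup.centralizer ({k} : Set G) ≤ K) :
    ∃ H : Subgroup ↥(Subgroup.normalizer (K : Set G)),
      K.subgroupOf (Subgroup.normalizer (K : Set G)) ⊓ H = ⊥ ∧
      K.subgroupOf (Subgroup.normalizer (K : Set G)) ⊔ H = ⊤ ∧
      ∀ h ∈ H, h ≠ 1 → ∀ k ∈ K.subgroupOf (Subgroup.normalizer (K : Set G)),
        h * k = k * h → k = 1 := by
  have hcard : Nat.card (K.subgroupOf (Subgroup.normalizer (K : Set G))) = Nat.card K :=
    Nat.card_congr (Subgroup.subgroupOfEquivOfLe Subgroup.le_normalizer).toEquiv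
  have hcop := tifrob_coprime K hC
  rw [← hcard] at hcop
  obtain ⟨H, hH⟩ := Subgroup.exists_right_complement'_of_coprime hcop
  refine ⟨H, hH.disjoint.eq_bot, hH.sup_eq_top, ?_⟩
  intro h hh hh1 k hk hcomm
  by_contra hk1
  have hk1' : (k : G) ≠ 1 := fun h0 => hk1 (Subtype.ext h0)
  have h1 : (h : G) ∈ Subgroup.centralizer ({(k : G)} : Set G) := by
    rw [Subgroup.mem_centralizer_singleton_iff]
    have := congrArg Subtype.val hcomm
    simpa using this
  have h2 : (h : G) ∈ K := hC _ (Subgroup.mem_subgroupOf.mp hk) hk1' h1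
  have h3 : h ∈ K.subgroupOf (Subgroup.normalizer (K : Set G)) ⊓ H :=
    ⟨Subgroup.mem_subgroupOf.mpr h2, hh⟩
  rw [hH.disjoint.eq_bot, Subgroup.mem_bot] at h3
  exact hh1 h3

end tifrob

section tifrob2
variable {G : Type u} [Group G] [Fintype G] (K : Subgroup G)
  [Fintype ↥(Subgroup.normalizer (K : Set G))]

/-- a relevant irreducible character of `N` is induced from a non-principal irreducible character
of `K` -/
theorem tifrob_exists_induced
    (hC : ∀ k ∈ K, k ≠ 1 → Subgroup.centralizer ({k} : Set G) ≤ K)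
    (χ : ↥(Subgroup.normalizer (K : Set G)) → ℂ)
    (hχ : IsIrrCharacter ↥(Subgroup.normalizer (K : Set G)) χ)
    (hrel : ∃ k : ↥(Subgroup.normalizer (K : Set G)), (k : G) ∈ K ∧ χ k ≠ χ 1) :
    ∃ τ : ↥(K.subgroupOf (Subgroup.normalizer (K : Set G))) → ℂ,
      IsIrrCharacter ↥(K.subgroupOf (Subgroup.normalizer (K : Set G))) τ ∧ τ ≠ (fun _ => 1) ∧
      χ = indFun (K.subgroupOf (Subgroup.normalizer (K : Set G))) τ := by
  classical
  obtain ⟨H, hKH, hKH', hfpf⟩ := tifrob_exists_complement K hC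
  set Kn := K.subgroupOf (Subgroup.normalizer (K : Set G)) with hKn
  letI : Fintype ↥Kn := Fintype.ofFinite _
  letI := fintypeIrr ↥Kn
  have hres : IsCharacter ↥Kn (resFun Kn χ) := isCharacter_resFun Kn (IsIrrCharacter.isCharacter hχ)
  have hcls := IsCharacter.isClassFunction hres
  -- a non-principal constituent
  obtain ⟨θ, hθ1, hθ2⟩ : ∃ θ : IrrCharacter ↥Kn, (θ : ↥Kn → ℂ) ≠ (fun _ => 1) ∧
      classInner (resFun Kn χ) (θ : ↥Kn → ℂ) ≠ 0 := by
    by_contra hcon
    push Not at hcon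
    have hdec := classFunction_eq_sum hcls
    obtain ⟨k, hkK, hk⟩ := hrel
    apply hk
    have hval : ∀ y : ↥Kn, resFun Kn χ y =
        classInner (resFun Kn χ) (fun _ => (1 : ℂ)) := by
      intro y
      have h1 := congrFun hdec y
      rw [Finset.sum_apply, Finset.sum_eq_single ⟨(1 : ↥Kn → ℂ), isIrrCharacter_one⟩] at h1
      · rw [h1]
        simp only [Pi.smul_apply, Pi.one_apply, smul_eq_mul, mul_one]
        rfl
      · intro b _ hb
        have hb' : (b : ↥Kn → ℂ) ≠ (fun _ => 1) := by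
          intro h0
          apply hb
          apply Subtype.ext
          exact h0
        rw [Pi.smul_apply, hcon b hb', zero_smul]
      · intro h0
        exact absurd (Finset.mem_univ _) h0
    have e1 := hval ⟨k, Subgroup.mem_subgroupOf.mpr hkK⟩
    have e2 := hval 1
    rw [resFun_apply] at e1 e2
    change χ k = _ at e1
    change χ 1 = _ at e2
    rw [e1, e2]
  have hind := Cfsg.Agent.S0171.result Kn H hKH hKH' hfpf (θ : ↥Kn → ℂ) θ.2 hθ1
  refine ⟨θ, θ.2, hθ1, ?_⟩
  have hrec : classInner χ (indFun Kn (θ : ↥Kn → ℂ)) ≠ 0 := by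
    rw [Cfsg.Agent.Lib.Helper10.classInner_indFun_right Kn _ χ
      (IsCharacter.isClassFunction (IsIrrCharacter.isCharacter hχ))]
    exact hθ2
  have := classInner_irr hχ hind
  by_contra hne
  rw [if_neg hne] at this
  exact hrec this

/-- a relevant irreducible character of `N` vanishes outside `K` -/
theorem tifrob_vanish
    (hC : ∀ k ∈ K, k ≠ 1 → Subgroup.centralizer ({k} : Set G) ≤ K)
    (χ : ↥(Subgroup.normalizer (K : Set G)) → ℂ)
    (hχ : IsIrrCharacter ↥(Subgroup.normalizer (K : Set G)) χ)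
    (hrel : ∃ k : ↥(Subgroup.normalizer (K : Set G)), (k : G) ∈ K ∧ χ k ≠ χ 1)
    (x : ↥(Subgroup.normalizer (K : Set G))) (hx : (x : G) ∉ K) : χ x = 0 := by
  obtain ⟨τ, -, -, rfl⟩ := tifrob_exists_induced K hC χ hχ hrel
  apply indFun_apply_of_forall_not_mem
  intro y hy
  apply hx
  have h1 : (Subgroup.subgroupOf K (Subgroup.normalizer (K : Set G))).Normal := inferInstance
  have h2 := h1.conj_mem _ hy y
  have h3 : y * (y⁻¹ * x * y) * y⁻¹ = x := by group
  rw [h3] at h2
  exact Subgroup.mem_subgroupOf.mp h2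

/-- for abelian `K` the relevant irreducible characters of `N` have degree `|N : K|` -/
theorem tifrob_degree_of_comm
    (hC : ∀ k ∈ K, k ≠ 1 → Subgroup.centralizer ({k} : Set G) ≤ K)
    (hab : ∀ a ∈ K, ∀ b ∈ K, a * b = b * a)
    (χ : ↥(Subgroup.normalizer (K : Set G)) → ℂ)
    (hχ : IsIrrCharacter ↥(Subgroup.normalizer (K : Set G)) χ)
    (hrel : ∃ k : ↥(Subgroup.normalizer (K : Set G)), (k : G) ∈ K ∧ χ k ≠ χ 1) :
    χ 1 = (Nat.card ↥(K.subgroupOf (Subgroup.normalizer (K : Set G))) : ℂ)⁻¹ *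
      (Nat.card ↥(Subgroup.normalizer (K : Set G)) : ℂ) := by
  obtain ⟨τ, hτ, -, rfl⟩ := tifrob_exists_induced K hC χ hχ hrel
  rw [Cfsg.Agent.Lib.Helper10.indFun_apply_one]
  have hcomm : ∀ a b : ↥(K.subgroupOf (Subgroup.normalizer (K : Set G))), a * b = b * a := by
    intro a b
    apply Subtype.ext
    apply Subtype.ext
    exact hab _ (Subgroup.mem_subgroupOf.mp a.2) _ (Subgroup.mem_subgroupOf.mp b.2)
  rw [Cfsg.Agent.Lib.Helper10.irr_one_of_comm hcomm hτ, mul_one]

/-- a non-principal irreducible character of `K` induces to a relevant irreducible character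
of `N` -/
theorem tifrob_induced_mem
    (hC : ∀ k ∈ K, k ≠ 1 → Subgroup.centralizer ({k} : Set G) ≤ K)
    (τ : ↥(K.subgroupOf (Subgroup.normalizer (K : Set G))) → ℂ)
    (hτ : IsIrrCharacter ↥(K.subgroupOf (Subgroup.normalizer (K : Set G))) τ)
    (hτ1 : τ ≠ (fun _ => 1)) :
    IsIrrCharacter ↥(Subgroup.normalizer (K : Set G))
      (indFun (K.subgroupOf (Subgroup.normalizer (K : Set G))) τ) ∧
    ∃ k : ↥(Subgroup.normalizer (K : Set G)), (k : G) ∈ K ∧
      indFun (K.subgroupOf (Subgroup.normalizer (K : Set G))) τ k ≠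
        indFun (K.subgroupOf (Subgroup.normalizer (K : Set G))) τ 1 := by
  classical
  obtain ⟨H, hKH, hKH', hfpf⟩ := tifrob_exists_complement K hC
  letI : Fintype ↥(K.subgroupOf (Subgroup.normalizer (K : Set G))) := Fintype.ofFinite _
  have hind := Cfsg.Agent.S0171.result (K.subgroupOf (Subgroup.normalizer (K : Set G))) H hKH hKH' hfpf τ hτ hτ1
  refine ⟨hind, ?_⟩
  by_contra hcon
  push Not at hcon
  have h1 : classInner (indFun (K.subgroupOf (Subgroup.normalizer (K : Set G))) τ) (indFun (K.subgroupOf (Subgroup.normalizer (K : Set G))) τ) = 1 :=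
    Cfsg.Agent.Lib.Helper10.classInner_irr_self hind
  rw [Cfsg.Agent.Lib.Helper10.classInner_indFun_right (K.subgroupOf (Subgroup.normalizer (K : Set G))) τ (indFun (K.subgroupOf (Subgroup.normalizer (K : Set G))) τ)
    (IsCharacter.isClassFunction (IsIrrCharacter.isCharacter hind))] at h1
  have h2 : ∀ h : ↥(K.subgroupOf (Subgroup.normalizer (K : Set G))), indFun (K.subgroupOf (Subgroup.normalizer (K : Set G))) τ (h : ↥(Subgroup.normalizer (K : Set G))) = indFun (K.subgroupOf (Subgroup.normalizer (K : Set G))) τ 1 :=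
    fun h => hcon _ (Subgroup.mem_subgroupOf.mp h.2)
  simp only [h2] at h1
  have h3 : classInner (fun _ : ↥(K.subgroupOf (Subgroup.normalizer (K : Set G))) => (1 : ℂ)) τ = 0 := by
    have := classInner_irr (isIrrCharacter_one (G := ↥(K.subgroupOf (Subgroup.normalizer (K : Set G))))) hτ
    rw [if_neg] at this
    · exact this
    · intro h0
      exact hτ1 h0.symm
  unfold classInner at h3
  simp only [one_mul] at h3
  rw [← Finset.mul_sum, ← mul_assoc, mul_comm _ (indFun (K.subgroupOf (Subgroup.normalizer (K : Set G))) τ 1), mul_assoc, h3, mul_zero] at h1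
  exact zero_ne_one h1

end tifrob2
section exc
variable {G : Type u} [Group G] [Fintype G] (K : Subgroup G)

/-- exceptional characters for a family (given by a predicate) of irreducible characters of the
normalizer of a T.I. subgroup, of equal degrees and vanishing outside the subgroup
(packaging of S0170) -/
theorem exists_exceptional_of_equal_degree
    (hTI : ∀ g : G, g ∉ Subgroup.normalizer (K : Set G) → ∀ k ∈ K, g * k * g⁻¹ ∈ K → k = 1)
    (P : IrrCharacter ↥(Subgroup.normalizer (K : Set G)) → Prop)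
    (hvan : ∀ χ : IrrCharacter ↥(Subgroup.normalizer (K : Set G)), P χ →
      ∀ x : ↥(Subgroup.normalizer (K : Set G)), (x : G) ∉ K →
        (χ : ↥(Subgroup.normalizer (K : Set G)) → ℂ) x = 0)
    (hdeg : ∀ χ ξ : IrrCharacter ↥(Subgroup.normalizer (K : Set G)), P χ → P ξ →
      (χ : ↥(Subgroup.normalizer (K : Set G)) → ℂ) 1 =
        (ξ : ↥(Subgroup.normalizer (K : Set G)) → ℂ) 1) :
    ∃ (ε : ℂ) (f : {χ : IrrCharacter ↥(Subgroup.normalizer (K : Set G)) // P χ} → IrrCharacter G),
      (ε = 1 ∨ ε = -1) ∧ Function.Injective f ∧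
      ∀ χ ξ : {χ : IrrCharacter ↥(Subgroup.normalizer (K : Set G)) // P χ},
        indFun (Subgroup.normalizer (K : Set G))
          ((χ.1 : ↥(Subgroup.normalizer (K : Set G)) → ℂ) -
            (ξ.1 : ↥(Subgroup.normalizer (K : Set G)) → ℂ)) =
          ε • ((f χ : G → ℂ) - (f ξ : G → ℂ)) := by
  classical
  have hfin : Finite {χ : IrrCharacter ↥(Subgroup.normalizer (K : Set G)) // P χ} :=
    inferInstance
  set n := Nat.card {χ : IrrCharacter ↥(Subgroup.normalizer (K : Set G)) // P χ} with hn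
  have e : {χ : IrrCharacter ↥(Subgroup.normalizer (K : Set G)) // P χ} ≃ Fin n :=
    Finite.equivFin _
  by_cases h2 : 2 ≤ n
  · obtain ⟨ε, hε, θ, hθirr, hθinj, hθ⟩ := Cfsg.Agent.S0170.result (K : Set G)
      (fun x hx => Subgroup.le_normalizer hx) hTI n h2
      (fun i => ((e.symm i).1 : ↥(Subgroup.normalizer (K : Set G)) → ℂ))
      (fun i => (e.symm i).1.2)
      (fun i j hij => e.symm.injective (Subtype.ext (Subtype.ext hij)))
      (fun i x hx => hvan _ (e.symm i).2 x hx)
      (fun i j => hdeg _ _ (e.symm i).2 (e.symm j).2)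
    refine ⟨ε, fun r => ⟨θ (e r), hθirr _⟩, hε, ?_, ?_⟩
    · intro r s hrs
      exact e.injective (hθinj (congrArg Subtype.val hrs))
    · intro χ ξ
      rw [Cfsg.Agent.Lib.Helper10.indFun_sub]
      have := hθ (e χ) (e ξ)
      simpa using this
  · have hsub : Subsingleton {χ : IrrCharacter ↥(Subgroup.normalizer (K : Set G)) // P χ} := by
      rw [← Finite.card_le_one_iff_subsingleton]
      omega
    refine ⟨1, fun _ => ⟨1, isIrrCharacter_one⟩, Or.inl rfl,
      fun a b _ => Subsingleton.elim a b, ?_⟩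
    intro χ ξ
    rw [Subsingleton.elim χ ξ, Cfsg.Agent.Lib.Helper10.indFun_sub, sub_self, sub_self, smul_zero]

end exc

end Cfsg.Agent.Lib.Helper2
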