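/-
helper2: representations of a finite group over a field `k` of characteristic zero (towards
Brauer's splitting field theorem): complements, characters of complements, induction on
representations.  Field-generic versions of lead's `CharDecomp`.
-/
import Mathlib

set_option autoImplicit false

namespace Cfsg.Agent.Lib.Helper2.SplitField

open Representation Module

universe u v w

variable {G : Type u} [Group G] {k : Type w} [Field k]

theorem subrep_isCompl_toSubmodule_k {V : Type v} [AddCommGroup V] [Module k V]
    {ρ : Representation k G V} {W W' : Subrepresentation ρ} (h : IsCompl W W') :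
    IsCompl W.toSubmodule W'.toSubmodule := by
  constructor
  · rw [disjoint_iff]
    have := h.inf_eq_bot
    exact congrArg Subrepresentation.toSubmodule this
  · rw [codisjoint_iff]
    have := h.sup_eq_top
    exact congrArg Subrepresentation.toSubmodule this

/-- The character of a representation is the sum of the characters of two complementary
subrepresentations. -/
theorem character_eq_add_of_isCompl_k {V : Type v} [AddCommGroup V] [Module k V]
    [FiniteDimensional k V] {ρ : Representation k G V} {W W' : Subrepresentation ρ}
    (h : IsCompl W W') :
    ρ.character = W.toRepresentation.character + W'.toRepresentation.character := by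
  funext g
  have hc := subrep_isCompl_toSubmodule_k h
  let N : Bool → Submodule k V := fun b => cond b W.toSubmodule W'.toSubmodule
  have hint : DirectSum.IsInternal N := by
    rw [DirectSum.isInternal_submodule_iff_isCompl N (i := true) (j := false) (by decide)
      (by ext b; cases b <;> simp)]
    exact hc
  have hf : ∀ b, Set.MapsTo (ρ g) (N b) (N b) := by
    intro b
    cases b
    · exact fun v hv => W'.apply_mem_toSubmodule g hv
    · exact fun v hv => W.apply_mem_toSubmodule g hv
  have := LinearMap.trace_eq_sum_trace_restrict hint hf
  simp only [Fintype.sum_bool] at this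
  simp only [Representation.character, Pi.add_apply]
  rw [this]
  rfl

theorem neZero_card (G : Type u) [Group G] [Finite G] (k : Type w) [Field k] [CharZero k] :
    NeZero (Nat.card G : k) :=
  ⟨Nat.cast_ne_zero.mpr Nat.card_pos.ne'⟩

/-- Induction principle for finite-dimensional representations of a finite group over a field
of characteristic zero. -/
theorem rep_induction_k [Finite G] [CharZero k]
    (P : ∀ (V : Type v) [AddCommGroup V] [Module k V] [FiniteDimensional k V],
      Representation k G V → Prop)
    (h0 : ∀ (V : Type v) [AddCommGroup V] [Module k V] [FiniteDimensional k V]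
      (ρ : Representation k G V), Subsingleton V → P V ρ)
    (hirr : ∀ (V : Type v) [AddCommGroup V] [Module k V] [FiniteDimensional k V]
      (ρ : Representation k G V), ρ.IsIrreducible → P V ρ)
    (hsum : ∀ (V : Type v) [AddCommGroup V] [Module k V] [FiniteDimensional k V]
      (ρ : Representation k G V) (W W' : Subrepresentation ρ), IsCompl W W' →
      P W.toSubmodule W.toRepresentation → P W'.toSubmodule W'.toRepresentation → P V ρ)
    (V : Type v) [AddCommGroup V] [Module k V] [FiniteDimensional k V]
    (ρ : Representation k G V) : P V ρ := by
  have hcardne : NeZero (Nat.card G : k) := neZero_card G k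
  suffices H : ∀ (n : ℕ) (V : Type v) [AddCommGroup V] [Module k V] [FiniteDimensional k V]
      (ρ : Representation k G V), finrank k V = n → P V ρ from H _ V ρ rfl
  intro n
  induction n using Nat.strong_induction_on with
  | _ n ih =>
    intro V _ _ _ ρ hn
    rcases subsingleton_or_nontrivial V with hV | hV
    · exact h0 V ρ hV
    by_cases hsimple : ρ.IsIrreducible
    · exact hirr V ρ hsimple
    have hnt : Nontrivial (Subrepresentation ρ) := by
      refine ⟨⊥, ⊤, ?_⟩
      intro hbt
      have : (⊥ : Submodule k V) = ⊤ := congrArg Subrepresentation.toSubmodule hbt
      exact bot_ne_top this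
    have hex : ∃ W : Subrepresentation ρ, W ≠ ⊥ ∧ W ≠ ⊤ := by
      by_contra hcon
      push Not at hcon
      apply hsimple
      exact ⟨fun a => by
        by_cases ha : a = ⊥
        · exact Or.inl ha
        · exact Or.inr (hcon a ha)⟩
    obtain ⟨W, hWbot, hWtop⟩ := hex
    obtain ⟨W', hW'⟩ := exists_isCompl W
    have hc := subrep_isCompl_toSubmodule_k hW'
    have hdim := Submodule.finrank_add_eq_of_isCompl hc
    have hW'bot : W' ≠ ⊥ := by
      intro h
      rw [h] at hW'
      exact hWtop (by simpa using hW'.sup_eq_top)
    have hpos : 0 < finrank k W.toSubmodule := by
      rw [Module.finrank_pos_iff, Submodule.nontrivial_iff_ne_bot]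
      intro h
      exact hWbot (Subrepresentation.toSubmodule_injective h)
    have hpos' : 0 < finrank k W'.toSubmodule := by
      rw [Module.finrank_pos_iff, Submodule.nontrivial_iff_ne_bot]
      intro h
      exact hW'bot (Subrepresentation.toSubmodule_injective h)
    exact hsum V ρ W W' hW'
      (ih (finrank k W.toSubmodule) (by omega) W.toSubmodule W.toRepresentation rfl)
      (ih (finrank k W'.toSubmodule) (by omega) W'.toSubmodule W'.toRepresentation rfl)

end Cfsg.Agent.Lib.Helper2.SplitField
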