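/-
helper2: representations over a subfield `k` of `ℂ`: complex characters of `k`-representations,
`dim Hom` as an inner product, and the embedding lemma over `k` (towards Brauer's splitting field
theorem).
-/
import Mathlib
import Cfsg.Agent.Lib.Helper2.SplitFieldA
import Cfsg.Agent.Lib.Lead.CharEquiv

set_option autoImplicit false

namespace Cfsg.Agent.Lib.Helper2.SplitField

open Representation Module Cfsg Cfsg.Agent.CharLib
open scoped ComplexConjugate

universe u v w

variable {G : Type u} [Group G] {k : Type w} [Field k] [Algebra k ℂ]

/-- The complex-valued character of a representation over `k`. -/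
noncomputable def kchar {V : Type v} [AddCommGroup V] [Module k V] (ρ : Representation k G V) :
    G → ℂ := fun g => algebraMap k ℂ (ρ.character g)

/-- Complexification of a representation over `k` with respect to a basis. -/
noncomputable def complexify {V : Type v} [AddCommGroup V] [Module k V] {n : ℕ}
    (b : Basis (Fin n) k V) (ρ : Representation k G V) : Representation ℂ G (Fin n → ℂ) where
  toFun g := Matrix.toLin' ((LinearMap.toMatrix b b (ρ g)).map (algebraMap k ℂ))
  map_one' := by
    rw [map_one, show (1 : Module.End k V) = LinearMap.id from rfl, LinearMap.toMatrix_id,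
      Matrix.map_one _ (map_zero _) (map_one _), Matrix.toLin'_one]
    rfl
  map_mul' g h := by
    rw [map_mul, LinearMap.toMatrix_mul, Matrix.map_mul, Matrix.toLin'_mul]
    rfl

theorem complexify_toMatrix' {V : Type v} [AddCommGroup V] [Module k V] {n : ℕ}
    (b : Basis (Fin n) k V) (ρ : Representation k G V) (g : G) (i j : Fin n) :
    LinearMap.toMatrix' (complexify b ρ g) i j =
      algebraMap k ℂ (LinearMap.toMatrix b b (ρ g) i j) := by
  show LinearMap.toMatrix' (Matrix.toLin' ((LinearMap.toMatrix b b (ρ g)).map (algebraMap k ℂ)))
    i j = _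
  rw [LinearMap.toMatrix'_toLin', Matrix.map_apply]

theorem complexify_character {V : Type v} [AddCommGroup V] [Module k V] {n : ℕ}
    (b : Basis (Fin n) k V) (ρ : Representation k G V) :
    (complexify b ρ).character = kchar ρ := by
  funext g
  show LinearMap.trace ℂ _ (Matrix.toLin' ((LinearMap.toMatrix b b (ρ g)).map (algebraMap k ℂ)))
    = algebraMap k ℂ (LinearMap.trace k V (ρ g))
  rw [Matrix.trace_toLin'_eq, LinearMap.trace_eq_matrix_trace k b]
  simp [Matrix.trace, map_sum]

theorem isCharacter_kchar {V : Type v} [AddCommGroup V] [Module k V] [FiniteDimensional k V]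
    (ρ : Representation k G V) : IsCharacter G (kchar ρ) :=
  ⟨finrank k V, complexify (Module.finBasis k V) ρ, complexify_character _ ρ⟩

theorem kchar_one {V : Type v} [AddCommGroup V] [Module k V] [FiniteDimensional k V]
    (ρ : Representation k G V) : kchar ρ 1 = (finrank k V : ℂ) := by
  show algebraMap k ℂ (ρ.character 1) = _
  rw [char_one, map_natCast]

/-- `dim Hom_G(ρ, σ) = ⟨χ_σ, χ_ρ⟩` over `k`. -/
theorem finrank_intertwiningMap_k [Fintype G] [CharZero k] {V : Type v} {W : Type v}
    [AddCommGroup V] [Module k V] [FiniteDimensional k V] [AddCommGroup W] [Module k W]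
    [FiniteDimensional k W] (ρ : Representation k G V) (σ : Representation k G W) :
    (finrank k (IntertwiningMap ρ σ) : ℂ) = classInner (kchar σ) (kchar ρ) := by
  have : Invertible (Nat.card G : k) :=
    invertibleOfNonzero (Nat.cast_ne_zero.mpr Nat.card_pos.ne')
  have h := card_inv_mul_sum_char_mul_char_eq_finrank ρ σ
  have h2 := congrArg (algebraMap k ℂ) h
  rw [map_natCast] at h2
  rw [← h2, map_mul, map_inv₀, map_natCast, map_sum]
  simp only [classInner]
  congr 1
  apply Finset.sum_congr rfl
  intro g _
  rw [map_mul]
  show kchar σ g * kchar ρ g⁻¹ = _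
  rw [IsCharacter.apply_inv (isCharacter_kchar ρ) g]

/-- If `χ_σ = χ_ρ + ψ` with `ψ` a complex character, then `ρ` embeds into `σ` over `k`. -/
theorem exists_injective_intertwiningMap_k [Fintype G] [CharZero k]
    {V : Type v} [AddCommGroup V] [Module k V] [FiniteDimensional k V]
    (ρ : Representation k G V) :
    ∀ (W : Type v) [AddCommGroup W] [Module k W] [FiniteDimensional k W]
      (σ : Representation k G W) (ψ : G → ℂ), IsCharacter G ψ → kchar σ = kchar ρ + ψ →
      ∃ f : IntertwiningMap ρ σ, Function.Injective f := by
  have hcardne : NeZero (Nat.card G : k) := neZero_card G k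
  refine rep_induction_k (G := G) (k := k) (fun V _ _ _ ρ =>
    ∀ (W : Type v) [AddCommGroup W] [Module k W] [FiniteDimensional k W]
      (σ : Representation k G W) (ψ : G → ℂ), IsCharacter G ψ → kchar σ = kchar ρ + ψ →
      ∃ f : IntertwiningMap ρ σ, Function.Injective f) ?_ ?_ ?_ V ρ
  · intro V _ _ _ ρ hV W _ _ _ σ ψ _ _
    exact ⟨0, fun a b _ => Subsingleton.elim a b⟩
  · intro V _ _ _ ρ hirr W _ _ _ σ ψ hψ hσ
    have hρc : IsCharacter G (kchar ρ) := isCharacter_kchar ρ
    obtain ⟨n, hn⟩ := IsCharacter.classInner_nat hψ hρc
    obtain ⟨m, hm⟩ := IsCharacter.classInner_nat hρc hρc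
    have hV : Nontrivial V := by
      by_contra h
      rw [not_nontrivial_iff_subsingleton] at h
      have h1 : (⊥ : Subrepresentation ρ) = ⊤ :=
        Subrepresentation.toSubmodule_injective (Subsingleton.elim _ _)
      exact bot_ne_top h1
    have hm0 : m ≠ 0 := by
      intro h0
      rw [h0, Nat.cast_zero] at hm
      have h1 := congrFun (classInner_self_eq_zero hm) 1
      rw [kchar_one, Pi.zero_apply] at h1
      have h2 : finrank k V = 0 := by exact_mod_cast h1
      have h3 : 0 < finrank k V := Module.finrank_pos
      omega
    have hdim : (finrank k (IntertwiningMap ρ σ) : ℂ) = m + n := by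
      rw [finrank_intertwiningMap_k, hσ, classInner_add_left, hm, hn]
    have hne : finrank k (IntertwiningMap ρ σ) ≠ 0 := by
      intro h0
      rw [h0] at hdim
      have : (0 : ℕ) = m + n := by exact_mod_cast hdim
      omega
    have hex : ∃ f : IntertwiningMap ρ σ, f ≠ 0 := by
      by_contra hcon
      push Not at hcon
      have : Subsingleton (IntertwiningMap ρ σ) := ⟨fun a b => by rw [hcon a, hcon b]⟩
      exact hne (Module.finrank_zero_of_subsingleton)
    obtain ⟨f, hf⟩ := hex
    exact ⟨f, (IsIrreducible.injective_or_eq_zero f).resolve_right hf⟩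
  · intro V _ _ _ ρ A A' hc hA hA' W _ _ _ σ ψ hψ hσ
    have hcs := subrep_isCompl_toSubmodule_k hc
    have hρ : kchar ρ = kchar A.toRepresentation + kchar A'.toRepresentation := by
      funext g
      show algebraMap k ℂ (ρ.character g) = algebraMap k ℂ (A.toRepresentation.character g) +
        algebraMap k ℂ (A'.toRepresentation.character g)
      rw [character_eq_add_of_isCompl_k hc, Pi.add_apply, map_add]
    obtain ⟨f, hf⟩ := hA W σ (kchar A'.toRepresentation + ψ)
      (IsCharacter.add (isCharacter_kchar _) hψ) (by rw [hσ, hρ, add_assoc])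
    let B : Subrepresentation σ := f.range
    obtain ⟨B', hB'⟩ := exists_isCompl B
    have hcs' := subrep_isCompl_toSubmodule_k hB'
    have hσ' : kchar σ = kchar B.toRepresentation + kchar B'.toRepresentation := by
      funext g
      show algebraMap k ℂ (σ.character g) = algebraMap k ℂ (B.toRepresentation.character g) +
        algebraMap k ℂ (B'.toRepresentation.character g)
      rw [character_eq_add_of_isCompl_k hB', Pi.add_apply, map_add]
    let fB : IntertwiningMap A.toRepresentation B.toRepresentation :=
      ⟨LinearMap.codRestrict B.toSubmodule f.toLinearMap (fun a => ⟨a, rfl⟩), by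
        intro g; ext a
        exact IntertwiningMap.isIntertwining _ _ f g a⟩
    have hfB : Function.Bijective fB := by
      constructor
      · intro a b hab
        apply hf
        exact congrArg Subtype.val hab
      · rintro ⟨w, a, rfl⟩
        exact ⟨a, rfl⟩
    have hAB : kchar A.toRepresentation = kchar B.toRepresentation := by
      funext g
      show algebraMap k ℂ (A.toRepresentation.character g) =
        algebraMap k ℂ (B.toRepresentation.character g)
      rw [char_iso (IntertwiningMap.ofBijective fB hfB)]
    have hB'c : kchar B'.toRepresentation = kchar A'.toRepresentation + ψ := by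
      have h1 : kchar B.toRepresentation + kchar B'.toRepresentation =
          kchar A.toRepresentation + (kchar A'.toRepresentation + ψ) := by
        rw [← hσ', hσ, hρ, add_assoc]
      rw [hAB] at h1
      exact add_left_cancel h1
    obtain ⟨f', hf'⟩ := hA' B'.toSubmodule B'.toRepresentation ψ hψ hB'c
    let e := Submodule.prodEquivOfIsCompl A.toSubmodule A'.toSubmodule hcs
    let F0 : V →ₗ[k] W :=
      (LinearMap.coprod f.toLinearMap (B'.toSubmodule.subtype ∘ₗ f'.toLinearMap)) ∘ₗ
        e.symm.toLinearMap
    have hF0 : ∀ (a : A.toSubmodule) (a' : A'.toSubmodule),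
        F0 ((a : V) + a') = f a + (f' a' : W) := by
      intro a a'
      have : e.symm ((a : V) + a') = (a, a') := by
        rw [LinearEquiv.symm_apply_eq]; rfl
      simp [F0, this]
    have hdecomp : ∀ v : V, ∃ (a : A.toSubmodule) (a' : A'.toSubmodule), (a : V) + a' = v := by
      intro v
      have : v ∈ A.toSubmodule ⊔ A'.toSubmodule := by rw [hcs.sup_eq_top]; trivial
      obtain ⟨a, ha, b, hb, rfl⟩ := Submodule.mem_sup.mp this
      exact ⟨⟨a, ha⟩, ⟨b, hb⟩, rfl⟩
    refine ⟨⟨F0, ?_⟩, ?_⟩
    · intro g
      ext v
      obtain ⟨a, a', rfl⟩ := hdecomp v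
      have h1 : ρ g ((a : V) + a') = ((A.toRepresentation g a : A.toSubmodule) : V) +
          ((A'.toRepresentation g a' : A'.toSubmodule) : V) := by
        rw [map_add]; rfl
      simp only [LinearMap.comp_apply]
      rw [h1, hF0, hF0, map_add]
      congr 1
      · exact IntertwiningMap.isIntertwining _ _ f g a
      · have := IntertwiningMap.isIntertwining _ _ f' g a'
        have h2 := congrArg Subtype.val this
        exact h2
    · intro v v' hvv'
      obtain ⟨a, a', rfl⟩ := hdecomp v
      obtain ⟨b, b', rfl⟩ := hdecomp v'
      have h1 : F0 ((a : V) + a') = F0 ((b : V) + b') := hvv'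
      rw [hF0, hF0] at h1
      have h2 : f a - f b = (f' b' : W) - (f' a' : W) := by
        have := h1
        rw [← sub_eq_zero] at this ⊢
        rw [← this]; abel
      have h3 : f a - f b ∈ B.toSubmodule ⊓ B'.toSubmodule := by
        refine ⟨⟨a - b, by simp⟩, ?_⟩
        rw [h2]
        exact B'.toSubmodule.sub_mem (f' b').2 (f' a').2
      rw [hcs'.inf_eq_bot, Submodule.mem_bot] at h3
      have h4 : a = b := hf (sub_eq_zero.mp h3)
      have h5 : (f' b' : W) - (f' a' : W) = 0 := by rw [← h2, h3]
      have h6 : f' b' = f' a' := Subtype.ext (sub_eq_zero.mp h5)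
      have h7 : b' = a' := hf' h6
      rw [h4, h7]

/-- **Subtraction of characters over `k`**: if the complex characters of two `k`-representations
differ by a complex character `ψ`, then `ψ` is the character of a `k`-representation. -/
theorem exists_rep_of_sub [Fintype G] [CharZero k]
    {V : Type v} [AddCommGroup V] [Module k V] [FiniteDimensional k V]
    (ρ : Representation k G V) {W : Type v} [AddCommGroup W] [Module k W] [FiniteDimensional k W]
    (σ : Representation k G W) (ψ : G → ℂ) (hψ : IsCharacter G ψ) (h : kchar σ = kchar ρ + ψ) :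
    ∃ (X : Type v) (_ : AddCommGroup X) (_ : Module k X) (_ : FiniteDimensional k X)
      (τ : Representation k G X), kchar τ = ψ := by
  have hcardne : NeZero (Nat.card G : k) := neZero_card G k
  obtain ⟨f, hf⟩ := exists_injective_intertwiningMap_k ρ W σ ψ hψ h
  let B : Subrepresentation σ := f.range
  obtain ⟨B', hB'⟩ := exists_isCompl B
  have hσ' : kchar σ = kchar B.toRepresentation + kchar B'.toRepresentation := by
    funext g
    show algebraMap k ℂ (σ.character g) = algebraMap k ℂ (B.toRepresentation.character g) +
      algebraMap k ℂ (B'.toRepresentation.character g)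
    rw [character_eq_add_of_isCompl_k hB', Pi.add_apply, map_add]
  let fB : IntertwiningMap ρ B.toRepresentation :=
    ⟨LinearMap.codRestrict B.toSubmodule f.toLinearMap (fun a => ⟨a, rfl⟩), by
      intro g; ext a
      exact IntertwiningMap.isIntertwining _ _ f g a⟩
  have hfB : Function.Bijective fB := by
    constructor
    · intro a b hab
      apply hf
      exact congrArg Subtype.val hab
    · rintro ⟨w, a, rfl⟩
      exact ⟨a, rfl⟩
  have hAB : kchar ρ = kchar B.toRepresentation := by
    funext g
    show algebraMap k ℂ (ρ.character g) = algebraMap k ℂ (B.toRepresentation.character g)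
    rw [char_iso (IntertwiningMap.ofBijective fB hfB)]
  refine ⟨B'.toSubmodule, inferInstance, inferInstance, inferInstance, B'.toRepresentation, ?_⟩
  have h1 : kchar B.toRepresentation + kchar B'.toRepresentation =
      kchar B.toRepresentation + ψ := by
    rw [← hσ', h, hAB]
  exact add_left_cancel h1

end Cfsg.Agent.Lib.Helper2.SplitField
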