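/-
helper2: the monomial representation induced from a linear character of a subgroup, over any field
`k` of characteristic zero containing the values: a direct summand of the regular representation
cut out by an idempotent; its character is the induced class function.
-/
import Mathlib
import Cfsg.Agent.Lib.Helper2.SplitFieldB
import Cfsg.Agent.Lib.Helper6.IndFun

set_option autoImplicit false

namespace Cfsg.Agent.Lib.Helper2.SplitField

open Representation Module Cfsg Cfsg.Agent.CharLib
open scoped ComplexConjugate

universe u v w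

/-- The trace of the restriction of an endomorphism to the range of a commuting idempotent. -/
theorem trace_restrict_range_idem {k : Type w} [Field k] {V : Type v} [AddCommGroup V]
    [Module k V] [FiniteDimensional k V] (P T : V →ₗ[k] V) (hP : P ∘ₗ P = P)
    (hTP : T ∘ₗ P = P ∘ₗ T) (hT : ∀ x ∈ LinearMap.range P, T x ∈ LinearMap.range P) :
    LinearMap.trace k _ (T.restrict hT) = LinearMap.trace k V (T ∘ₗ P) := by
  let i : LinearMap.range P →ₗ[k] V := (LinearMap.range P).subtype
  let π : V →ₗ[k] LinearMap.range P := P.codRestrict (LinearMap.range P) (fun x => ⟨x, rfl⟩)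
  have h1 : T.restrict hT = π ∘ₗ (T ∘ₗ i) := by
    apply LinearMap.ext
    rintro ⟨u, v, rfl⟩
    apply Subtype.ext
    show T (P v) = P (T (P v))
    have h2 : P (T (P v)) = T (P (P v)) := (LinearMap.congr_fun hTP (P v)).symm
    have h3 : P (P v) = P v := LinearMap.congr_fun hP v
    rw [h2, h3]
  have h4 : (T ∘ₗ i) ∘ₗ π = T ∘ₗ P := by
    apply LinearMap.ext
    intro v
    rfl
  rw [h1, LinearMap.trace_comp_comm', h4]

variable {G : Type u} [Group G] {k : Type w} [Field k]

/-- The left regular representation on functions. -/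
noncomputable def regRep (G : Type u) [Group G] (k : Type w) [Field k] :
    Representation k G (G → k) where
  toFun g :=
    { toFun := fun f x => f (g⁻¹ * x)
      map_add' := fun _ _ => rfl
      map_smul' := fun _ _ => rfl }
  map_one' := by
    apply LinearMap.ext
    intro f
    funext x
    show f ((1 : G)⁻¹ * x) = f x
    rw [inv_one, one_mul]
  map_mul' g h := by
    apply LinearMap.ext
    intro f
    funext x
    show f ((g * h)⁻¹ * x) = f (h⁻¹ * (g⁻¹ * x))
    rw [mul_inv_rev, mul_assoc]

theorem regRep_apply (g : G) (f : G → k) (x : G) : regRep G k g f x = f (g⁻¹ * x) := rfl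

/-- The idempotent projection onto the monomial module. -/
noncomputable def monoProj (E : Subgroup G) [Fintype E] (μ : E →* k) :
    (G → k) →ₗ[k] (G → k) where
  toFun f x := (Nat.card E : k)⁻¹ * ∑ h : E, μ h * f (x * h)
  map_add' f f' := by
    funext x
    simp only [Pi.add_apply]
    rw [← mul_add, ← Finset.sum_add_distrib]
    congr 1
    apply Finset.sum_congr rfl
    intro h _
    ring
  map_smul' c f := by
    funext x
    simp only [Pi.smul_apply, smul_eq_mul, RingHom.id_apply]
    rw [Finset.mul_sum, Finset.mul_sum, Finset.mul_sum]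
    apply Finset.sum_congr rfl
    intro h _
    ring

theorem monoProj_apply (E : Subgroup G) [Fintype E] (μ : E →* k) (f : G → k) (x : G) :
    monoProj E μ f x = (Nat.card E : k)⁻¹ * ∑ h : E, μ h * f (x * h) := rfl

theorem monoProj_idem [CharZero k] (E : Subgroup G) [Fintype E] (μ : E →* k) :
    monoProj E μ ∘ₗ monoProj E μ = monoProj E μ := by
  have hc : (Nat.card E : k) ≠ 0 := Nat.cast_ne_zero.mpr Nat.card_pos.ne'
  apply LinearMap.ext
  intro f
  funext x
  show monoProj E μ (monoProj E μ f) x = monoProj E μ f x
  rw [monoProj_apply]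
  have h1 : ∀ h : E, μ h * monoProj E μ f (x * h) = monoProj E μ f x := by
    intro h
    rw [monoProj_apply, monoProj_apply, ← mul_assoc, mul_comm (μ h), mul_assoc, Finset.mul_sum]
    congr 1
    apply Fintype.sum_equiv (Equiv.mulLeft h)
    intro h'
    rw [Equiv.coe_mulLeft, map_mul, ← mul_assoc, Subgroup.coe_mul, mul_assoc x]
  rw [Finset.sum_congr rfl (fun h _ => h1 h), Finset.sum_const, Finset.card_univ,
    nsmul_eq_mul, ← Nat.card_eq_fintype_card, ← mul_assoc, inv_mul_cancel₀ hc, one_mul]

theorem regRep_comp_monoProj (E : Subgroup G) [Fintype E] (μ : E →* k) (g : G) :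
    regRep G k g ∘ₗ monoProj E μ = monoProj E μ ∘ₗ regRep G k g := by
  apply LinearMap.ext
  intro f
  funext x
  show monoProj E μ f (g⁻¹ * x) = monoProj E μ (regRep G k g f) x
  rw [monoProj_apply, monoProj_apply]
  congr 1
  apply Finset.sum_congr rfl
  intro h _
  rw [regRep_apply, mul_assoc]

/-- The monomial module as a subrepresentation of the regular representation. -/
noncomputable def monoSub (E : Subgroup G) [Fintype E] (μ : E →* k) :
    Subrepresentation (regRep G k) where
  toSubmodule := LinearMap.range (monoProj E μ)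
  apply_mem_toSubmodule g v hv := by
    obtain ⟨f, rfl⟩ := hv
    exact ⟨regRep G k g f, (LinearMap.congr_fun (regRep_comp_monoProj E μ g) f).symm⟩

/-- The extension by zero of `μ`. -/
noncomputable def extZero (E : Subgroup G) (μ : E →* k) (y : G) : k := by
  classical
  exact if h : y ∈ E then μ ⟨y, h⟩ else 0

theorem monoSub_character [Fintype G] [CharZero k] (E : Subgroup G) [Fintype E] (μ : E →* k)
    (g : G) :
    (monoSub E μ).toRepresentation.character g =
      (Nat.card E : k)⁻¹ * ∑ x : G, extZero E μ (x⁻¹ * g * x) := by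
  classical
  show LinearMap.trace k _ ((regRep G k g).restrict ((monoSub E μ).apply_mem_toSubmodule g)) = _
  refine (trace_restrict_range_idem (monoProj E μ) (regRep G k g) (monoProj_idem E μ)
    (regRep_comp_monoProj E μ g) ((monoSub E μ).apply_mem_toSubmodule g)).trans ?_
  rw [LinearMap.trace_eq_matrix_trace k (Pi.basisFun k G), Matrix.trace, Finset.mul_sum]
  apply Finset.sum_congr rfl
  intro x _
  rw [Matrix.diag_apply, LinearMap.toMatrix_apply, Pi.basisFun_repr, Pi.basisFun_apply]
  show monoProj E μ (Pi.single x 1) (g⁻¹ * x) = _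
  rw [monoProj_apply]
  congr 1
  unfold extZero
  by_cases hx : x⁻¹ * g * x ∈ E
  · rw [dif_pos hx, Finset.sum_eq_single (⟨x⁻¹ * g * x, hx⟩ : E)]
    · have : g⁻¹ * x * ((⟨x⁻¹ * g * x, hx⟩ : E) : G) = x := by
        show g⁻¹ * x * (x⁻¹ * g * x) = x
        group
      rw [this, Pi.single_eq_same, mul_one]
    · intro h _ hne
      have : g⁻¹ * x * (h : G) ≠ x := by
        intro heq
        apply hne
        apply Subtype.ext
        show (h : G) = x⁻¹ * g * x
        calc (h : G) = (g⁻¹ * x)⁻¹ * (g⁻¹ * x * (h : G)) := by group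
          _ = (g⁻¹ * x)⁻¹ * x := by rw [heq]
          _ = x⁻¹ * g * x := by group
      rw [Pi.single_eq_of_ne this, mul_zero]
    · intro h
      exact absurd (Finset.mem_univ _) h
  · rw [dif_neg hx]
    apply Finset.sum_eq_zero
    intro h _
    have : g⁻¹ * x * (h : G) ≠ x := by
      intro heq
      apply hx
      have : (h : G) = x⁻¹ * g * x := by
        calc (h : G) = (g⁻¹ * x)⁻¹ * (g⁻¹ * x * (h : G)) := by group
          _ = (g⁻¹ * x)⁻¹ * x := by rw [heq]
          _ = x⁻¹ * g * x := by group
      rw [← this]
      exact h.2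
    rw [Pi.single_eq_of_ne this, mul_zero]

/-- The complex character of the monomial module is the induced class function. -/
theorem kchar_monoSub [Fintype G] [Algebra k ℂ] [CharZero k] (E : Subgroup G) [Fintype E]
    (μ : E →* k) (lam : E → ℂ) (hlam : ∀ h : E, algebraMap k ℂ (μ h) = lam h) :
    kchar (monoSub E μ).toRepresentation = indFun E lam := by
  classical
  funext g
  show algebraMap k ℂ ((monoSub E μ).toRepresentation.character g) = _
  rw [monoSub_character, Cfsg.Agent.Lib.Helper6.indFun_apply, map_mul, map_inv₀, map_natCast,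
    map_sum]
  congr 1
  apply Finset.sum_congr rfl
  intro x _
  unfold extZero
  by_cases hx : x⁻¹ * g * x ∈ E
  · rw [dif_pos hx, Cfsg.Agent.Lib.Helper6.extendByZero_mem E lam hx, hlam]
  · rw [dif_neg hx, Cfsg.Agent.Lib.Helper6.extendByZero_not_mem E lam hx, map_zero]

end Cfsg.Agent.Lib.Helper2.SplitField
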