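/-
helper2: **Brauer's splitting field theorem**: every complex character of a finite group is
afforded by a representation over any subfield `k` of `ℂ` containing the roots of unity of order
the exponent of the group.  Proof: Brauer's induction theorem writes the character as a difference
of characters of monomial `k`-representations, and the smaller one embeds into the larger one
over `k`.
-/
import Mathlib
import Cfsg.Agent.Lib.Helper2.SplitFieldC
import Cfsg.Agent.Lib.Helper2.BrauerInd

set_option autoImplicit false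

namespace Cfsg.Agent.Lib.Helper2.SplitField

open Representation Module Cfsg Cfsg.Agent.CharLib
open scoped ComplexConjugate

universe u w

variable {G : Type u} [Group G] {k : Type w} [Field k] [Algebra k ℂ]

/-- `ψ` is afforded by a representation over `k`. -/
def KAff (G : Type u) [Group G] (k : Type w) [Field k] [Algebra k ℂ] (ψ : G → ℂ) : Prop :=
  ∃ (X : Type (max u w)) (_ : AddCommGroup X) (_ : Module k X) (_ : FiniteDimensional k X)
    (τ : Representation k G X), kchar τ = ψ

theorem kaff_zero : KAff G k (0 : G → ℂ) := by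
  refine ⟨PUnit.{max u w + 1}, inferInstance, inferInstance, inferInstance, 1, ?_⟩
  funext g
  have : (1 : Representation k G PUnit.{max u w + 1}) g = 0 := Subsingleton.elim _ _
  show algebraMap k ℂ (LinearMap.trace k _ ((1 : Representation k G PUnit.{max u w + 1}) g)) = 0
  rw [this, map_zero, map_zero]

omit [Algebra k ℂ] in
theorem character_prod_k {V W : Type*} [AddCommGroup V] [Module k V] [FiniteDimensional k V]
    [AddCommGroup W] [Module k W] [FiniteDimensional k W]
    (ρ : Representation k G V) (σ : Representation k G W) :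
    (ρ.prod σ).character = ρ.character + σ.character := by
  funext g
  simp only [Representation.character, Pi.add_apply]
  have : (ρ.prod σ) g = (ρ g).prodMap (σ g) := rfl
  rw [this]
  exact LinearMap.trace_prodMap' (ρ g) (σ g)

theorem KAff.add {ψ₁ ψ₂ : G → ℂ} (h1 : KAff G k ψ₁) (h2 : KAff G k ψ₂) : KAff G k (ψ₁ + ψ₂) := by
  obtain ⟨X₁, _, _, _, τ₁, rfl⟩ := h1
  obtain ⟨X₂, _, _, _, τ₂, rfl⟩ := h2
  refine ⟨X₁ × X₂, inferInstance, inferInstance, inferInstance, τ₁.prod τ₂, ?_⟩
  funext g
  show algebraMap k ℂ ((τ₁.prod τ₂).character g) = algebraMap k ℂ (τ₁.character g) +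
    algebraMap k ℂ (τ₂.character g)
  rw [character_prod_k, Pi.add_apply, map_add]

theorem KAff.nsmul {ψ : G → ℂ} (h : KAff G k ψ) (n : ℕ) : KAff G k (n • ψ) := by
  induction n with
  | zero => rw [zero_smul]; exact kaff_zero
  | succ n ih => rw [succ_nsmul]; exact ih.add h

/-- Induced functions from linear characters with values in `k` are afforded over `k`. -/
theorem kaff_indFun [Fintype G] [CharZero k]
    (hk : ∀ z : ℂ, z ^ Monoid.exponent G = 1 → z ∈ Set.range (algebraMap k ℂ))
    (E : Subgroup G) (lam : E →* ℂˣ) :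
    KAff G k (indFun E (fun e => ((lam e : ℂˣ) : ℂ))) := by
  classical
  have hpow : ∀ h : E, ((lam h : ℂˣ) : ℂ) ^ Monoid.exponent G = 1 := by
    intro h
    have h1 : h ^ Monoid.exponent G = 1 := by
      apply Subtype.ext
      rw [Subgroup.coe_pow, Subgroup.coe_one]
      exact Monoid.pow_exponent_eq_one (h : G)
    rw [← Units.val_pow_eq_pow_val, ← map_pow, h1, map_one, Units.val_one]
  choose μ0 hμ0 using fun h : E => hk _ (hpow h)
  have hinj : Function.Injective (algebraMap k ℂ) := (algebraMap k ℂ).injective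
  let μ : E →* k :=
    { toFun := μ0
      map_one' := by
        apply hinj
        rw [hμ0, map_one, map_one, Units.val_one]
      map_mul' := fun a b => by
        apply hinj
        rw [hμ0 (a * b), map_mul (algebraMap k ℂ), hμ0, hμ0, map_mul lam, Units.val_mul] }
  let _ : Fintype E := Fintype.ofFinite E
  exact ⟨_, inferInstance, inferInstance, inferInstance, (monoSub E μ).toRepresentation,
    kchar_monoSub E μ _ (fun h => hμ0 h)⟩

/-- Integer combinations of induced linear characters are differences of `k`-afforded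
characters. -/
theorem kaff_list [Fintype G] [CharZero k]
    (hk : ∀ z : ℂ, z ^ Monoid.exponent G = 1 → z ∈ Set.range (algebraMap k ℂ))
    (l : List ((E : Subgroup G) × ((E →* ℂˣ) × ℤ))) :
    ∃ ψ₁ ψ₂ : G → ℂ, KAff G k ψ₁ ∧ KAff G k ψ₂ ∧
      (l.map fun t => (t.2.2 : ℂ) • indFun t.1 (fun e => ((t.2.1 e : ℂˣ) : ℂ))).sum =
        ψ₁ - ψ₂ := by
  induction l with
  | nil => exact ⟨0, 0, kaff_zero, kaff_zero, by simp⟩
  | cons t l ih =>
    obtain ⟨ψ₁, ψ₂, h1, h2, hsum⟩ := ih
    have hφ := kaff_indFun hk t.1 t.2.1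
    rw [List.map_cons, List.sum_cons, hsum]
    rcases Int.eq_nat_or_neg t.2.2 with ⟨n, hn | hn⟩
    · refine ⟨n • indFun t.1 (fun e => ((t.2.1 e : ℂˣ) : ℂ)) + ψ₁, ψ₂, (hφ.nsmul n).add h1, h2, ?_⟩
      rw [hn, Int.cast_natCast, Nat.cast_smul_eq_nsmul]
      abel
    · refine ⟨ψ₁, n • indFun t.1 (fun e => ((t.2.1 e : ℂˣ) : ℂ)) + ψ₂, h1, (hφ.nsmul n).add h2, ?_⟩
      rw [hn, Int.cast_neg, Int.cast_natCast, neg_smul, Nat.cast_smul_eq_nsmul]
      abel

/-- **Brauer's splitting field theorem**, character form. -/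
theorem kaff_of_isCharacter [Fintype G] [CharZero k]
    (hk : ∀ z : ℂ, z ^ Monoid.exponent G = 1 → z ∈ Set.range (algebraMap k ℂ))
    {χ : G → ℂ} (hχ : IsCharacter G χ) : KAff G k χ := by
  obtain ⟨l, -, hl⟩ := brauer_induction hχ
  obtain ⟨ψ₁, ψ₂, ⟨X₁, _, _, _, τ₁, h1⟩, ⟨X₂, _, _, _, τ₂, h2⟩, hsum⟩ := kaff_list (k := k) hk l
  have h3 : kchar τ₁ = kchar τ₂ + χ := by
    rw [h1, h2, hl, hsum]
    abel
  exact exists_rep_of_sub τ₂ τ₁ χ hχ h3

/-- **Brauer's splitting field theorem**, matrix form. -/
theorem exists_matrix_rep [Fintype G] [CharZero k]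
    (hk : ∀ z : ℂ, z ^ Monoid.exponent G = 1 → z ∈ Set.range (algebraMap k ℂ))
    (n : ℕ) (ρ : Representation ℂ G (Fin n → ℂ)) :
    ∃ σ : Representation ℂ G (Fin n → ℂ), Nonempty (ρ.Equiv σ) ∧
      ∀ g : G, ∀ i j : Fin n, LinearMap.toMatrix' (σ g) i j ∈ Set.range (algebraMap k ℂ) := by
  obtain ⟨X, _, _, _, τ, hτ⟩ := kaff_of_isCharacter (k := k) hk ⟨n, ρ, rfl⟩
  have hdim : finrank k X = n := by
    have h1 := congrFun hτ 1
    rw [kchar_one, char_one, Module.finrank_fin_fun] at h1
    exact_mod_cast h1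
  let b : Basis (Fin n) k X := Module.finBasisOfFinrankEq k X hdim
  refine ⟨complexify b τ, ?_, ?_⟩
  · apply nonempty_equiv_of_character_eq
    rw [complexify_character, hτ]
  · intro g i j
    rw [complexify_toMatrix']
    exact ⟨_, rfl⟩

end Cfsg.Agent.Lib.Helper2.SplitField
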