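/-
helper2: faithful representations of small degree; groups with many classes.
-/
import Mathlib
import Cfsg.Prelude.Def_Characters
import Cfsg.Prelude.Def_Blocks
import Cfsg.Agent.Lib.Lead.CharMain
import Cfsg.Agent.Lib.Lead.CharBurnside
import Cfsg.Agent.Lib.Helper24.IrrFacts
import Cfsg.Agent.Lib.Helper24.Deflation
import Cfsg.Agent.Lib.Helper6.CharNorm

set_option autoImplicit false
open scoped ComplexConjugate

namespace Cfsg.Agent.Lib.Helper2

open Cfsg Cfsg.Agent.CharLib Cfsg.Agent.Lib.Helper24 Module

/-- an irreducible representation on which every element acts trivially has the principal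
character -/
theorem char_eq_one_of_trivial' {G : Type*} [Group G] {V : Type*} [AddCommGroup V] [Module ℂ V]
    [FiniteDimensional ℂ V]
    (ρ : Representation ℂ G V) [ρ.IsIrreducible] (h : ∀ g, ρ g = 1) :
    ρ.character = fun _ => 1 := by
  classical
  have hnt : Nontrivial V := by
    by_contra hV
    rw [not_nontrivial_iff_subsingleton] at hV
    have : (⊥ : Subrepresentation ρ) = ⊤ := by
      apply Subrepresentation.toSubmodule_injective
      exact Subsingleton.elim _ _
    exact bot_ne_top this
  obtain ⟨v, hv⟩ := exists_ne (0 : V)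
  let S : Subrepresentation ρ :=
    { toSubmodule := Submodule.span ℂ {v}
      apply_mem_toSubmodule := by
        intro g w hw
        rw [h g]
        exact hw }
  have hS : S = ⊤ := by
    rcases eq_bot_or_eq_top S with h' | h'
    · exfalso
      have hvS : v ∈ S := Submodule.mem_span_singleton_self v
      rw [h'] at hvS
      exact hv hvS
    · exact h'
  have hspan : Submodule.span ℂ {v} = ⊤ := congrArg Subrepresentation.toSubmodule hS
  have hfr : Module.finrank ℂ V = 1 := by
    rw [← finrank_top ℂ V, ← hspan]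
    exact finrank_span_singleton hv
  funext g
  unfold Representation.character
  rw [h g]
  rw [LinearMap.trace_one, hfr]
  simp

/-- a linear character is trivial on commutators -/
theorem linear_char_commutator {G : Type*} [Group G] {lam : G → ℂ} (hlam : IsCharacter G lam)
    (h1 : lam 1 = 1) (a b : G) : lam (a * b * a⁻¹ * b⁻¹) = 1 := by
  have hm := Cfsg.Agent.Lib.Helper6.IsCharacter.map_mul_of_apply_one hlam h1
  rw [hm, hm, hm]
  have ha : lam a * lam a⁻¹ = 1 := by rw [← hm, mul_inv_cancel, h1]
  have hb : lam b * lam b⁻¹ = 1 := by rw [← hm, mul_inv_cancel, h1]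
  calc lam a * lam b * lam a⁻¹ * lam b⁻¹ = (lam a * lam a⁻¹) * (lam b * lam b⁻¹) := by ring
    _ = 1 := by rw [ha, hb, mul_one]

/-- A finite group with a faithful complex representation of degree less than every prime
divisor of its order is abelian. -/
theorem comm_of_faithful_small_degree {G : Type*} [Group G] [Finite G] {V : Type*}
    [AddCommGroup V] [Module ℂ V] [FiniteDimensional ℂ V] (ρ : Representation ℂ G V)
    (hfaithful : Function.Injective ρ)
    (hdeg : ∀ p : ℕ, p.Prime → p ∣ Nat.card G → Module.finrank ℂ V < p) (a b : G) :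
    a * b = b * a := by
  classical
  let _ := fintypeIrr G
  obtain ⟨m, hm⟩ := exists_decomp_of_rep ρ
  rw [finsum_eq_sum_of_fintype] at hm
  -- degree count
  have h1 : (Module.finrank ℂ V : ℂ) =
      ∑ ψ : IrrCharacter G, ((m ψ * charDegree (ψ : G → ℂ) : ℕ) : ℂ) := by
    have := congrFun hm 1
    rw [Representation.char_one, Finset.sum_apply] at this
    rw [this]
    apply Finset.sum_congr rfl
    intro ψ _
    rw [Pi.smul_apply, irr_apply_one, nsmul_eq_mul, Nat.cast_mul]
  have h1' : Module.finrank ℂ V = ∑ ψ : IrrCharacter G, m ψ * charDegree (ψ : G → ℂ) := by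
    have : (Module.finrank ℂ V : ℂ) =
        ((∑ ψ : IrrCharacter G, m ψ * charDegree (ψ : G → ℂ) : ℕ) : ℂ) := by
      rw [h1, Nat.cast_sum]
    exact_mod_cast this
  -- every constituent is linear
  have hlin : ∀ ψ : IrrCharacter G, m ψ ≠ 0 → charDegree (ψ : G → ℂ) = 1 := by
    intro ψ hψ
    have hle : charDegree (ψ : G → ℂ) ≤ Module.finrank ℂ V := by
      rw [h1']
      calc charDegree (ψ : G → ℂ) ≤ m ψ * charDegree (ψ : G → ℂ) :=
            Nat.le_mul_of_pos_left _ (Nat.pos_of_ne_zero hψ)
        _ ≤ ∑ ψ : IrrCharacter G, m ψ * charDegree (ψ : G → ℂ) :=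
            Finset.single_le_sum (f := fun ψ : IrrCharacter G => m ψ * charDegree (ψ : G → ℂ))
              (fun _ _ => Nat.zero_le _) (Finset.mem_univ ψ)
    by_contra hne
    obtain ⟨p, hp, hpd⟩ := Nat.exists_prime_and_dvd hne
    have hpG : p ∣ Nat.card G := hpd.trans (irr_charDegree_dvd_card ψ)
    have := hdeg p hp hpG
    have hple : p ≤ charDegree (ψ : G → ℂ) := Nat.le_of_dvd (irr_charDegree_pos ψ) hpd
    omega
  -- the character at a commutator equals the degree
  have hval : ρ.character (a * b * a⁻¹ * b⁻¹) = (Module.finrank ℂ V : ℂ) := by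
    rw [← Representation.char_one ρ]
    have e1 := congrFun hm (a * b * a⁻¹ * b⁻¹)
    have e2 := congrFun hm 1
    rw [e1, e2, Finset.sum_apply, Finset.sum_apply]
    apply Finset.sum_congr rfl
    intro ψ _
    rw [Pi.smul_apply, Pi.smul_apply]
    by_cases hψ : m ψ = 0
    · rw [hψ, zero_smul, zero_smul]
    · have hd := hlin ψ hψ
      have hψ1 : (ψ : G → ℂ) 1 = 1 := by rw [irr_apply_one, hd]; simp
      rw [linear_char_commutator (IsIrrCharacter.isCharacter ψ.2) hψ1, hψ1]
  have hone := rep_eq_one_of_char_eq_finrank ρ _ hval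
  have : a * b * a⁻¹ * b⁻¹ = 1 := by
    apply hfaithful
    rw [hone, map_one]
  calc a * b = (a * b * a⁻¹ * b⁻¹) * (b * a) := by group
    _ = b * a := by rw [this, one_mul]

/-- a simple group with more than `|G|/p²` classes has abelian Sylow `p`-subgroups -/
theorem comm_sylow_of_many_classes {G : Type*} [Group G] [Finite G] [IsSimpleGroup G] (p : ℕ)
    [Fact p.Prime] (hp : p ∣ Nat.card G)
    (hmany : Nat.card G < p ^ 2 * Nat.card (ConjClasses G)) (P : Sylow p G) (a b : G)
    (ha : a ∈ P) (hb : b ∈ P) : a * b = b * a := by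
  classical
  have hpp : p.Prime := Fact.out
  let _ := fintypeIrr G
  by_cases hA : ∃ ψ : IrrCharacter G, (ψ : G → ℂ) ≠ (fun _ => 1) ∧ charDegree (ψ : G → ℂ) < p
  · obtain ⟨ψ, hψ1, hψp⟩ := hA
    have hdeg1 := irr_apply_one ψ
    obtain ⟨ψf, n, ρ, hirr, rfl⟩ := ψ
    have hirr' : ρ.IsIrreducible := hirr
    have hn : n = charDegree ρ.character := by
      change ρ.character 1 = (charDegree ρ.character : ℂ) at hdeg1
      rw [Representation.char_one, Module.finrank_fin_fun] at hdeg1
      exact_mod_cast hdeg1
    -- the kernel is trivial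
    have hker : (MonoidHom.ker (ρ : G →* ((Fin n → ℂ) →ₗ[ℂ] (Fin n → ℂ)))) = ⊥ := by
      rcases Subgroup.Normal.eq_bot_or_eq_top
        (MonoidHom.normal_ker (ρ : G →* ((Fin n → ℂ) →ₗ[ℂ] (Fin n → ℂ)))) with h | h
      · exact h
      · exfalso
        apply hψ1
        apply char_eq_one_of_trivial' ρ
        intro g
        have : g ∈ MonoidHom.ker (ρ : G →* ((Fin n → ℂ) →ₗ[ℂ] (Fin n → ℂ))) := by
          rw [h]; trivial
        exact this
    have hinj : Function.Injective ρ := by
      intro x y hxy
      have : x⁻¹ * y ∈ MonoidHom.ker (ρ : G →* ((Fin n → ℂ) →ₗ[ℂ] (Fin n → ℂ))) := by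
        rw [MonoidHom.mem_ker, map_mul, ← hxy, ← map_mul, inv_mul_cancel, map_one]
      rw [hker, Subgroup.mem_bot] at this
      exact inv_mul_eq_one.mp this
    let σ : Representation ℂ (P : Subgroup G) (Fin n → ℂ) := ρ.comp (P : Subgroup G).subtype
    have hσinj : Function.Injective σ := by
      intro x y hxy
      exact Subtype.ext (hinj hxy)
    have hcomm := comm_of_faithful_small_degree σ hσinj (by
      intro q hq hqd
      obtain ⟨k, hk⟩ := IsPGroup.iff_card.mp P.isPGroup'
      rw [hk] at hqd
      have : q = p := (Nat.prime_dvd_prime_iff_eq hq hpp).mp (hq.dvd_of_dvd_pow hqd)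
      rw [this, Module.finrank_fin_fun, hn]
      exact hψp) ⟨a, ha⟩ ⟨b, hb⟩
    exact congrArg Subtype.val hcomm
  · push Not at hA
    -- all nonprincipal irreducible characters have degree at least p
    let ψ₀ : IrrCharacter G := ⟨1, isIrrCharacter_one⟩
    have hsq := finsum_irr_apply_one_sq (G := G)
    rw [finsum_eq_sum_of_fintype] at hsq
    have hsq' : ∑ ψ : IrrCharacter G, charDegree (ψ : G → ℂ) ^ 2 = Nat.card G := by
      have : ((∑ ψ : IrrCharacter G, charDegree (ψ : G → ℂ) ^ 2 : ℕ) : ℂ) = (Nat.card G : ℂ) := by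
        rw [← hsq, Nat.cast_sum]
        apply Finset.sum_congr rfl
        intro ψ _
        rw [irr_apply_one, Nat.cast_pow]
      exact_mod_cast this
    have hk : Fintype.card (IrrCharacter G) = Nat.card (ConjClasses G) := by
      rw [← card_irrCharacter, Nat.card_eq_fintype_card]
    have hlow : 1 + (Fintype.card (IrrCharacter G) - 1) * p ^ 2 ≤ Nat.card G := by
      rw [← hsq', ← Finset.add_sum_erase Finset.univ _ (Finset.mem_univ ψ₀)]
      have hd0 : charDegree (ψ₀ : G → ℂ) = 1 := by
        have := irr_apply_one ψ₀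
        have h1 : (ψ₀ : G → ℂ) 1 = 1 := rfl
        rw [h1] at this
        exact_mod_cast this.symm
      rw [hd0, one_pow]
      apply Nat.add_le_add_left
      have hcard : (Finset.univ.erase ψ₀).card = Fintype.card (IrrCharacter G) - 1 := by
        rw [Finset.card_erase_of_mem (Finset.mem_univ _), Finset.card_univ]
      rw [← hcard, ← smul_eq_mul, ← Finset.sum_const]
      apply Finset.sum_le_sum
      intro ψ hψ
      have hne : ψ ≠ ψ₀ := Finset.ne_of_mem_erase hψ
      have hne' : (ψ : G → ℂ) ≠ fun _ => 1 := by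
        intro h
        apply hne
        apply Subtype.ext
        rw [h]; rfl
      exact Nat.pow_le_pow_left (hA ψ hne') 2
    rw [hk] at hlow
    -- hence p² does not divide |G|
    have hnd : ¬ p ^ 2 ∣ Nat.card G := by
      rintro ⟨j, hj⟩
      rw [hj] at hlow hmany
      have h1 : j < Nat.card (ConjClasses G) := Nat.lt_of_mul_lt_mul_left hmany
      have h2 : (Nat.card (ConjClasses G) - 1) * p ^ 2 < j * p ^ 2 := by
        rw [mul_comm j]; omega
      have h3 : Nat.card (ConjClasses G) - 1 < j := Nat.lt_of_mul_lt_mul_right h2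
      omega
    -- so P has order p
    have hPcard : Nat.card (P : Subgroup G) = p := by
      rw [Sylow.card_eq_multiplicity]
      have hG0 : Nat.card G ≠ 0 := Nat.card_pos.ne'
      have h1 : 1 ≤ (Nat.card G).factorization p :=
        (hpp.dvd_iff_one_le_factorization hG0).mp hp
      have h2 : ¬ 2 ≤ (Nat.card G).factorization p := by
        intro h
        exact hnd ((hpp.pow_dvd_iff_le_factorization hG0).mpr h)
      have : (Nat.card G).factorization p = 1 := by omega
      rw [this, pow_one]
    have hcyc : IsCyclic (P : Subgroup G) := isCyclic_of_prime_card hPcard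
    have := hcyc.isMulCommutative
    have h := this.is_comm.comm (⟨a, ha⟩ : (P : Subgroup G)) ⟨b, hb⟩
    exact congrArg Subtype.val h

end Cfsg.Agent.Lib.Helper2
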