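import Mathlib
import Cfsg.Prelude.Def_Transfer
import Cfsg.Prelude.Def_Solvable
import Cfsg.Prelude.Def_Local
import Cfsg.Agent.Lib.Helper13.R3Defs
import Cfsg.Agent.Lib.Helper2.R3ROOT
import Cfsg.Agent.Lib.Helper20.MaschkeGroup

/-!
# S4404-RED (helper2): `exists_decomp` in `_of` form over the KL statement

Roots whose planes span a subgroup `T₀` of order 16: `T₀` splits into two nontrivial subgroups
invariant under all of them.  `exists_decomp_of` takes the KL statement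
(`exists_invariant_of_card_sixteen`, at the universe of `M`) as a hypothesis.
-/

set_option autoImplicit false

namespace Cfsg.Agent.Lib.Helper2.R3RED

open Pointwise Cfsg.Agent.Lib.Helper13.R3

universe u v

variable {H : Type u} [Group H] {M : Type v} [CommGroup M] [MulDistribMulAction H M]

/-- The action of a subgroup `K` of `H` on a `K`-invariant subgroup `T` of `M`. -/
@[reducible] def subAct (K : Subgroup H) (T : Subgroup M)
    (hK : ∀ k ∈ K, ∀ t ∈ T, k • t ∈ T) : MulDistribMulAction K T where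
  smul k t := ⟨(k : H) • (t : M), hK k k.2 t t.2⟩
  one_smul t := Subtype.ext (one_smul H (t : M))
  mul_smul a b t := Subtype.ext (mul_smul (a : H) (b : H) (t : M))
  smul_mul a s t := Subtype.ext (smul_mul' (a : H) (s : M) (t : M))
  smul_one a := Subtype.ext (smul_one (a : H))

/-- A root `y` of `M` restricted to an invariant subgroup `T ≥ [M,y]` is a root of `T`. -/
theorem isRoot_restrict [Finite M] (hM2 : ∀ m : M, m ^ 2 = 1) (y : H) (hy : IsRoot M y)
    (T : Subgroup M) (hle : cSub M y ≤ T) (α : MulAut T)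
    (hα : ∀ t : T, ((α t : T) : M) = y • (t : M)) : IsRoot T α := by
  classical
  have hsm : ∀ t : T, α • t = α t := fun t => rfl
  refine ⟨fun t => ?_, ?_⟩
  · apply Subtype.ext
    have h1 : (α ^ 3) • t = α (α (α t)) := by
      rw [pow_succ, pow_two]
      rfl
    rw [h1, hα, hα, hα, ← mul_smul, ← mul_smul, ← pow_two, ← pow_succ]
    exact hy.1 _
  · have hmap : (cSub T α).map T.subtype = cSub M y := by
      apply le_antisymm
      · rintro _ ⟨v, hv, rfl⟩
        obtain ⟨t, rfl⟩ := mem_cSub.1 hv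
        refine mem_cSub.2 ⟨(t : M), ?_⟩
        show (y • (t : M)) / (t : M) = (((α • t) / t : T) : M)
        rw [hsm, Subgroup.coe_div, hα]
      · -- the restriction of `cHom M y` to `[M,y]` is injective, hence surjective
        let f : cSub M y → cSub M y := fun w =>
          ⟨(y • (w : M)) / (w : M), mem_cSub.2 ⟨(w : M), rfl⟩⟩
        have hfinj : Function.Injective f := by
          intro a b hab
          have h1 : (y • (a : M)) / (a : M) = (y • (b : M)) / (b : M) := congrArg Subtype.val hab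
          -- a / b is fixed by y
          have h2 : y • ((a : M) / (b : M)) = (a : M) / (b : M) := by
            rw [smul_div']
            rw [div_eq_div_iff_mul_eq_mul] at h1 ⊢
            rw [mul_comm (a : M), ← h1, mul_comm]
          have h3 := Cfsg.Agent.Lib.Helper2.R3ROOT.eq_one_of_fixed hM2 y hy.1 ((a : M) / (b : M))
            ((cSub M y).div_mem a.2 b.2) h2
          exact Subtype.ext (div_eq_one.1 h3)
        have hfsurj : Function.Surjective f := Finite.injective_iff_surjective.1 hfinj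
        intro v hv
        obtain ⟨w, hw⟩ := hfsurj ⟨v, hv⟩
        have hw' : (y • (w : M)) / (w : M) = v := congrArg Subtype.val hw
        refine ⟨(α • (⟨(w : M), hle w.2⟩ : T)) / ⟨(w : M), hle w.2⟩, mem_cSub.2 ⟨_, rfl⟩, ?_⟩
        show (((α • (⟨(w : M), hle w.2⟩ : T)) / ⟨(w : M), hle w.2⟩ : T) : M) = v
        rw [hsm, Subgroup.coe_div, hα]
        exact hw'
    rw [← hy.2, ← hmap]
    exact (Subgroup.card_map_of_injective T.subtype_injective).symm

/-- RED in `_of` form: the KL statement at the universe of `M` is a hypothesis. -/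
theorem exists_decomp_of [Finite H] [Finite M]
    (hKL : ∀ (T : Type v) [CommGroup T] [Finite T], (∀ t : T, t ^ 2 = 1) → Nat.card T = 16 →
      ∀ (D : Subgroup (MulAut T)), Odd (Nat.card D) → Group.IsSolvable D →
      ∀ (S : Set (MulAut T)), Subgroup.closure S = D → (∀ y ∈ S, IsRoot T y) → S.Nonempty →
      ∃ U : Subgroup T, U ≠ ⊥ ∧ U ≠ ⊤ ∧ ∀ d ∈ D, ∀ u ∈ U, d u ∈ U)
    (hodd : Odd (Nat.card H)) [Group.IsSolvable H] (hM2 : ∀ m : M, m ^ 2 = 1)
    (S : Set H) (hS : ∀ y ∈ S, IsRoot M y) (hT : Nat.card ↥(⨆ y ∈ S, cSub M y) = 16) :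
    ∃ U U' : Subgroup M, U ≠ ⊥ ∧ U' ≠ ⊥ ∧ U ⊓ U' = ⊥ ∧ U ⊔ U' = ⨆ y ∈ S, cSub M y ∧
      (∀ y ∈ S, ∀ u ∈ U, y • u ∈ U) ∧ (∀ y ∈ S, ∀ u ∈ U', y • u ∈ U') := by
  classical
  obtain ⟨T₀, hT₀⟩ : ∃ T₀ : Subgroup M, T₀ = ⨆ y ∈ S, cSub M y := ⟨_, rfl⟩
  rw [← hT₀] at hT ⊢
  have hle : ∀ y ∈ S, cSub M y ≤ T₀ := fun y hy => by
    rw [hT₀]
    exact le_iSup₂ (f := fun y (_ : y ∈ S) => cSub M y) y hy
  have hSne : S.Nonempty := by
    by_contra hemp
    rw [Set.not_nonempty_iff_eq_empty] at hemp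
    have h1 : T₀ = ⊥ := by
      rw [hT₀, hemp]
      simp
    rw [h1] at hT
    simp at hT
  have hinvS : ∀ y ∈ S, ∀ t ∈ T₀, y • t ∈ T₀ := by
    intro y hy t ht
    have h1 : y • t = ((y • t) / t) * t := by rw [div_mul_cancel]
    rw [h1]
    exact T₀.mul_mem (hle y hy (mem_cSub.2 ⟨t, rfl⟩)) ht
  have hstab : Subgroup.closure S ≤ MulAction.stabilizer H T₀ := by
    rw [Subgroup.closure_le]
    intro y hy
    rw [SetLike.mem_coe, MulAction.mem_stabilizer_iff]
    apply Subgroup.eq_of_le_of_card_ge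
    · intro t ht
      obtain ⟨s, hs, rfl⟩ := (Subgroup.mem_smul_pointwise_iff_exists t y T₀).1 ht
      exact hinvS y hy s hs
    · exact le_of_eq (Nat.card_congr (Subgroup.equivSMul y T₀).toEquiv)
  have hinvK : ∀ k ∈ Subgroup.closure S, ∀ t ∈ T₀, k • t ∈ T₀ := by
    intro k hk t ht
    have h1 := MulAction.mem_stabilizer_iff.1 (hstab hk)
    have h2 : k • t ∈ k • T₀ := Subgroup.smul_mem_pointwise_smul _ _ _ ht
    rwa [h1] at h2
  let iA : MulDistribMulAction (Subgroup.closure S) T₀ := subAct (Subgroup.closure S) T₀ hinvK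
  let ρ : ↥(Subgroup.closure S) →* MulAut ↥T₀ := MulDistribMulAction.toMulAut _ _
  have hρ : ∀ (k : ↥(Subgroup.closure S)) (t : ↥T₀), ((ρ k t : ↥T₀) : M) = (k : H) • (t : M) :=
    fun _ _ => rfl
  have hT2 : ∀ t : ↥T₀, t ^ 2 = 1 := by
    intro t
    apply Subtype.ext
    rw [Subgroup.coe_pow]
    exact hM2 _
  -- the data for KL
  have hclos : Subgroup.closure (ρ '' ((↑) ⁻¹' S : Set ↥(Subgroup.closure S))) = ρ.range := by
    rw [← MonoidHom.map_closure, Subgroup.closure_closure_coe_preimage, MonoidHom.range_eq_map]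
  have hDodd : Odd (Nat.card ↥ρ.range) := by
    have h1 : Nat.card ↥ρ.range ∣ Nat.card ↥(Subgroup.closure S) := Subgroup.card_range_dvd ρ
    have h2 : Nat.card ↥(Subgroup.closure S) ∣ Nat.card H := Subgroup.card_subgroup_dvd_card _
    exact Odd.of_dvd_nat hodd (h1.trans h2)
  have hDsol : Group.IsSolvable ↥ρ.range := Group.isSolvable_of_surjective ρ.rangeRestrict_surjective
  have hroots : ∀ y' ∈ ρ '' ((↑) ⁻¹' S : Set ↥(Subgroup.closure S)), IsRoot ↥T₀ y' := by
    rintro _ ⟨k, hk, rfl⟩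
    exact isRoot_restrict hM2 (k : H) (hS _ hk) T₀ (hle _ hk) (ρ k) (hρ k)
  have hne' : (ρ '' ((↑) ⁻¹' S : Set ↥(Subgroup.closure S))).Nonempty := by
    obtain ⟨y, hy⟩ := hSne
    exact ⟨ρ ⟨y, Subgroup.subset_closure hy⟩, ⟨y, Subgroup.subset_closure hy⟩, hy, rfl⟩
  obtain ⟨U₀, hU₀bot, hU₀top, hU₀inv⟩ :=
    hKL ↥T₀ hT2 hT ρ.range hDodd hDsol _ hclos hroots hne'
  -- Maschke
  obtain ⟨W, hUW, hUWsup⟩ :=
    Cfsg.Agent.Lib.Helper20.exists_compl_of_exponent_prime Nat.prime_two hT2 U₀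
  have hcop : (Nat.card ↥ρ.range).Coprime (Nat.card ↥T₀) := by
    rw [hT, show (16 : ℕ) = 2 ^ 4 by norm_num]
    exact Nat.Coprime.pow_right _ (Nat.coprime_two_right.2 hDodd)
  obtain ⟨W', hW'inv, hUW', hUW'sup⟩ :=
    Cfsg.Agent.Lib.Helper20.exists_invariant_compl
      (φ := fun a : ↥ρ.range => ((a : MulAut ↥T₀) : ↥T₀ ≃* ↥T₀).toMonoidHom) rfl (fun _ _ => rfl)
      hcop U₀ W (fun a x hx => hU₀inv a a.2 x hx) hUW hUWsup
  have hinj := T₀.subtype_injective
  refine ⟨U₀.map T₀.subtype, W'.map T₀.subtype, ?_, ?_, ?_, ?_, ?_, ?_⟩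
  · rw [Ne, Subgroup.map_eq_bot_iff_of_injective _ hinj]
    exact hU₀bot
  · rw [Ne, Subgroup.map_eq_bot_iff_of_injective _ hinj]
    intro hW'
    rw [hW', sup_bot_eq] at hUW'sup
    exact hU₀top hUW'sup
  · rw [← Subgroup.map_inf _ _ _ hinj, hUW', Subgroup.map_bot]
  · rw [← Subgroup.map_sup, hUW'sup, ← MonoidHom.range_eq_map, Subgroup.range_subtype]
  · rintro y hy _ ⟨u, hu, rfl⟩
    have hk : y ∈ Subgroup.closure S := Subgroup.subset_closure hy
    refine ⟨ρ ⟨y, hk⟩ u, hU₀inv _ ⟨_, rfl⟩ u hu, ?_⟩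
    exact hρ ⟨y, hk⟩ u
  · rintro y hy _ ⟨u, hu, rfl⟩
    have hk : y ∈ Subgroup.closure S := Subgroup.subset_closure hy
    refine ⟨ρ ⟨y, hk⟩ u, hW'inv ⟨_, ⟨⟨y, hk⟩, rfl⟩⟩ u hu, ?_⟩
    exact hρ ⟨y, hk⟩ u

end Cfsg.Agent.Lib.Helper2.R3RED
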