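/-
helper2: S2524, helper13's SL2 sub-market, leaf (G1) `exists_irr_projections`:
Maschke with projections - a complete system of equivariant idempotents whose ranges are irreducible
invariant submodules.  Proof: induction on the dimension; peel off a minimal invariant submodule `N` with
an equivariant projection onto it (average of any linear projection), recurse on its kernel.
-/
import Mathlib
import Cfsg.Agent.Lib.Helper13.SL2SurjDefs

set_option autoImplicit false

namespace Cfsg.Agent.Lib.Helper2.WGSG1

open Cfsg.Agent.Lib.Helper13.SL2Surj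

universe u

section aux

variable {G : Type*} [Group G] {V : Type*} [AddCommGroup V] [Module ℂ V]

/-- averaged projection onto an invariant submodule -/
theorem exists_equivariant_proj [Fintype G] (σ : Representation ℂ G V) (N : Submodule ℂ V)
    (hN : Inv σ N) :
    ∃ p : V →ₗ[ℂ] V, (∀ v, p v ∈ N) ∧ (∀ v ∈ N, p v = v) ∧ (∀ g v, p (σ g v) = σ g (p v)) := by
  obtain ⟨f, hf⟩ := N.subtype.exists_leftInverse_of_injective
    (LinearMap.ker_eq_bot.mpr N.injective_subtype)
  have hf' : ∀ (x : V) (hx : x ∈ N), ((f x : ↥N) : V) = x := by
    intro x hx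
    have := LinearMap.congr_fun hf ⟨x, hx⟩
    simp only [LinearMap.coe_comp, Function.comp_apply, Submodule.subtype_apply,
      LinearMap.id_coe, id_eq] at this
    rw [this]
  have hc : (Fintype.card G : ℂ) ≠ 0 := Nat.cast_ne_zero.mpr Fintype.card_ne_zero
  refine ⟨((Fintype.card G : ℂ)⁻¹) • ∑ g : G, (σ g) ∘ₗ N.subtype ∘ₗ f ∘ₗ (σ g⁻¹), ?_, ?_, ?_⟩
  · intro v
    simp only [LinearMap.smul_apply, LinearMap.sum_apply, LinearMap.coe_comp, Function.comp_apply,
      Submodule.subtype_apply]
    exact N.smul_mem _ (N.sum_mem fun g _ => hN g _ (f _).2)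
  · intro v hv
    simp only [LinearMap.smul_apply, LinearMap.sum_apply, LinearMap.coe_comp, Function.comp_apply,
      Submodule.subtype_apply]
    have : ∀ g : G, σ g ((f (σ g⁻¹ v) : ↥N) : V) = v := by
      intro g
      rw [hf' _ (hN g⁻¹ v hv), ← Module.End.mul_apply, ← map_mul, mul_inv_cancel, map_one,
        Module.End.one_apply]
    simp only [this, Finset.sum_const, Finset.card_univ]
    rw [← Nat.cast_smul_eq_nsmul ℂ, smul_smul, inv_mul_cancel₀ hc, one_smul]
  · intro h v
    simp only [LinearMap.smul_apply, LinearMap.sum_apply, LinearMap.coe_comp, Function.comp_apply,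
      Submodule.subtype_apply, map_smul, map_sum]
    congr 1
    rw [← Equiv.sum_comp (Equiv.mulLeft h)]
    refine Finset.sum_congr rfl fun g _ => ?_
    simp only [Equiv.coe_mulLeft, mul_inv_rev, map_mul, Module.End.mul_apply]
    rw [← Module.End.mul_apply (σ h⁻¹) (σ h), ← map_mul, inv_mul_cancel, map_one,
      Module.End.one_apply]

/-- the image in `V` of an irreducible invariant submodule of an invariant submodule `W` is
irreducible invariant -/
theorem isIrrSub_map_subtype (σ : Representation ℂ G V) (W : Submodule ℂ V) (hW : Inv σ W)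
    (M : Submodule ℂ ↥W) (hM : IsIrrSub (subRep σ W hW) M) :
    IsIrrSub σ (M.map W.subtype) := by
  obtain ⟨hMi, hMne, hMmin⟩ := hM
  refine ⟨?_, ?_, ?_⟩
  · intro g v hv
    obtain ⟨m, hm, rfl⟩ := Submodule.mem_map.mp hv
    exact Submodule.mem_map.mpr ⟨subRep σ W hW g m, hMi g m hm, rfl⟩
  · intro h
    apply hMne
    rw [Submodule.eq_bot_iff]
    intro m hm
    have : (W.subtype m) ∈ M.map W.subtype := Submodule.mem_map_of_mem hm
    rw [h, Submodule.mem_bot] at this
    exact Subtype.ext this
  · intro N' hN' hN'i
    have hc : N'.comap W.subtype ≤ M := by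
      intro x hx
      obtain ⟨m, hm, hmx⟩ := Submodule.mem_map.mp (hN' (Submodule.mem_comap.mp hx))
      have : m = x := Subtype.ext hmx
      rwa [← this]
    have hci : Inv (subRep σ W hW) (N'.comap W.subtype) := by
      intro g x hx
      rw [Submodule.mem_comap] at hx ⊢
      exact hN'i g _ hx
    rcases hMmin _ hc hci with h0 | h1
    · left
      rw [Submodule.eq_bot_iff]
      intro v hv
      obtain ⟨m, hm, rfl⟩ := Submodule.mem_map.mp (hN' hv)
      have : m ∈ N'.comap W.subtype := Submodule.mem_comap.mpr hv
      rw [h0, Submodule.mem_bot] at this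
      rw [this, map_zero]
    · right
      refine le_antisymm hN' ?_
      intro v hv
      obtain ⟨m, hm, rfl⟩ := Submodule.mem_map.mp hv
      rw [← h1] at hm
      exact Submodule.mem_comap.mp hm

end aux

theorem exists_irr_projections_aux {G : Type*} [Group G] [Fintype G] :
    ∀ (n : ℕ) (V : Type u) [AddCommGroup V] [Module ℂ V] [FiniteDimensional ℂ V]
      (σ : Representation ℂ G V), Module.finrank ℂ V = n →
      ∃ (r : ℕ) (π : Fin r → V →ₗ[ℂ] V),
        (∀ i, IsIrrSub σ (LinearMap.range (π i))) ∧
        (∀ i g v, π i (σ g v) = σ g (π i v)) ∧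
        (∀ i v, π i (π i v) = π i v) ∧
        (∀ v, ∑ i, π i v = v) := by
  intro n
  induction n using Nat.strong_induction_on with
  | _ n ih =>
    intro V _ _ _ σ hn
    by_cases hV : Subsingleton V
    · refine ⟨0, Fin.elim0, fun i => i.elim0, fun i => i.elim0, fun i => i.elim0, fun v => ?_⟩
      exact Subsingleton.elim _ _
    · rw [not_subsingleton_iff_nontrivial] at hV
      classical
      -- a minimal non-zero invariant submodule
      have hex : ∃ k : ℕ, ∃ N : Submodule ℂ V, Inv σ N ∧ N ≠ ⊥ ∧ Module.finrank ℂ ↥N = k :=
        ⟨_, ⊤, fun g v _ => Submodule.mem_top, top_ne_bot, rfl⟩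
      obtain ⟨N, hNi, hNne, hNk⟩ := Nat.find_spec hex
      have hNmin : ∀ N' : Submodule ℂ V, Inv σ N' → N' ≠ ⊥ →
          Module.finrank ℂ ↥N ≤ Module.finrank ℂ ↥N' := by
        intro N' h1 h2
        rw [hNk]
        exact Nat.find_min' hex ⟨N', h1, h2, rfl⟩
      have hNirr : IsIrrSub σ N := by
        refine ⟨hNi, hNne, fun N' hle hi => ?_⟩
        by_cases h0 : N' = ⊥
        · exact Or.inl h0
        · exact Or.inr (Submodule.eq_of_le_of_finrank_le hle (hNmin N' hi h0))
      obtain ⟨p, hp1, hp2, hp3⟩ := exists_equivariant_proj σ N hNi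
      have hrange : LinearMap.range p = N := by
        apply le_antisymm
        · rintro _ ⟨v, rfl⟩
          exact hp1 v
        · intro v hv
          exact ⟨v, hp2 v hv⟩
      have hpp : ∀ v, p (p v) = p v := fun v => hp2 _ (hp1 v)
      set W : Submodule ℂ V := LinearMap.ker p with hWdef
      have hW : Inv σ W := by
        intro g v hv
        rw [hWdef, LinearMap.mem_ker] at hv ⊢
        rw [hp3, hv, map_zero]
      have hlt : Module.finrank ℂ ↥W < n := by
        rw [hWdef]
        have h1 := LinearMap.finrank_range_add_finrank_ker p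
        rw [hrange, hn] at h1
        have h2 : 0 < Module.finrank ℂ ↥N := by
          rw [Module.finrank_pos_iff]
          exact Submodule.nontrivial_iff_ne_bot.mpr hNne
        omega
      obtain ⟨r', π', h1, h2, h3, h4⟩ := ih _ hlt ↥W (subRep σ W hW) rfl
      -- the complementary projection into `W`
      let c : V →ₗ[ℂ] ↥W := (LinearMap.id - p).codRestrict W (by
        intro v
        rw [hWdef, LinearMap.mem_ker, LinearMap.sub_apply, LinearMap.id_apply, map_sub, hpp,
          sub_self])
      have hcval : ∀ v, ((c v : ↥W) : V) = v - p v := fun v => rfl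
      have hcW : ∀ w : ↥W, c (w : V) = w := by
        intro w
        apply Subtype.ext
        rw [hcval]
        have : p (w : V) = 0 := LinearMap.mem_ker.mp w.2
        rw [this, sub_zero]
      have hcσ : ∀ g v, c (σ g v) = subRep σ W hW g (c v) := by
        intro g v
        apply Subtype.ext
        rw [hcval, subRep_apply, hcval, hp3, map_sub]
      refine ⟨r' + 1, Fin.cons p (fun i => W.subtype ∘ₗ π' i ∘ₗ c), ?_, ?_, ?_, ?_⟩
      · intro i
        refine Fin.cases ?_ (fun j => ?_) i
        · rw [Fin.cons_zero, hrange]
          exact hNirr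
        · rw [Fin.cons_succ]
          have : LinearMap.range (W.subtype ∘ₗ π' j ∘ₗ c) =
              (LinearMap.range (π' j)).map W.subtype := by
            ext v
            constructor
            · rintro ⟨x, rfl⟩
              exact Submodule.mem_map.mpr ⟨π' j (c x), ⟨c x, rfl⟩, rfl⟩
            · intro hv
              obtain ⟨m, ⟨w, rfl⟩, rfl⟩ := Submodule.mem_map.mp hv
              refine ⟨(w : V), ?_⟩
              simp only [LinearMap.coe_comp, Function.comp_apply, hcW]
          rw [this]
          exact isIrrSub_map_subtype σ W hW _ (h1 j)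
      · intro i
        refine Fin.cases ?_ (fun j => ?_) i
        · intro g v
          rw [Fin.cons_zero]
          exact hp3 g v
        · intro g v
          rw [Fin.cons_succ]
          simp only [LinearMap.coe_comp, Function.comp_apply, Submodule.subtype_apply]
          rw [hcσ, h2, subRep_apply]
      · intro i
        refine Fin.cases ?_ (fun j => ?_) i
        · intro v
          rw [Fin.cons_zero]
          exact hpp v
        · intro v
          rw [Fin.cons_succ]
          simp only [LinearMap.coe_comp, Function.comp_apply, Submodule.subtype_apply]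
          rw [hcW, h3]
      · intro v
        rw [Fin.sum_univ_succ]
        simp only [Fin.cons_zero, Fin.cons_succ, LinearMap.coe_comp, Function.comp_apply,
          Submodule.subtype_apply]
        rw [← Submodule.coe_sum, h4, hcval]
        abel

variable {G : Type*} [Group G] {V V' : Type u} [AddCommGroup V] [Module ℂ V] [AddCommGroup V']
  [Module ℂ V']

/-- (G1) Maschke, with projections: a complete system of equivariant idempotents whose ranges are
irreducible invariant submodules (`r = 0` if `V = 0`). -/
theorem exists_irr_projections [Finite G] [FiniteDimensional ℂ V] (σ : Representation ℂ G V) :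
    ∃ (r : ℕ) (π : Fin r → V →ₗ[ℂ] V),
      (∀ i, IsIrrSub σ (LinearMap.range (π i))) ∧
      (∀ i g v, π i (σ g v) = σ g (π i v)) ∧
      (∀ i v, π i (π i v) = π i v) ∧
      (∀ v, ∑ i, π i v = v) := by
  have : Fintype G := Fintype.ofFinite G
  exact exists_irr_projections_aux _ V σ rfl

end Cfsg.Agent.Lib.Helper2.WGSG1
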