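/-
helper2: S2524, helper13's SL2 sub-market, leaf (G3) `exists_equiv_of_subChar_eq`:
irreducible invariant submodules with the same character are isomorphic
(Mathlib `Representation.char_orthonormal` for the restricted representations).
-/
import Mathlib
import Cfsg.Agent.Lib.Helper13.SL2SurjDefs

set_option autoImplicit false

namespace Cfsg.Agent.Lib.Helper2.WGSG3

open Cfsg.Agent.Lib.Helper13.SL2Surj

universe u

section aux

variable {G : Type*} [Group G] {V : Type*} [AddCommGroup V] [Module ℂ V]

/-- an irreducible invariant submodule carries an irreducible representation (Mathlib's sense) -/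
theorem isIrreducible_subRep (σ : Representation ℂ G V) (N : Submodule ℂ V) (hN : IsIrrSub σ N) :
    Representation.IsIrreducible (subRep σ N hN.1) := by
  obtain ⟨hNi, hNne, hNmin⟩ := hN
  have key : ∀ τ : Subrepresentation (subRep σ N hNi), τ.toSubmodule = ⊥ ∨ τ.toSubmodule = ⊤ := by
    intro τ
    have hle : τ.toSubmodule.map N.subtype ≤ N := by
      intro v hv
      obtain ⟨m, _, rfl⟩ := Submodule.mem_map.mp hv
      exact m.2
    have hinv : Inv σ (τ.toSubmodule.map N.subtype) := by
      intro g v hv
      obtain ⟨m, hm, rfl⟩ := Submodule.mem_map.mp hv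
      exact Submodule.mem_map.mpr ⟨subRep σ N hNi g m, τ.apply_mem_toSubmodule g hm, rfl⟩
    rcases hNmin _ hle hinv with h0 | h1
    · left
      rw [Submodule.eq_bot_iff]
      intro m hm
      have : N.subtype m ∈ τ.toSubmodule.map N.subtype := Submodule.mem_map_of_mem hm
      rw [h0, Submodule.mem_bot] at this
      exact Subtype.ext this
    · right
      rw [Submodule.eq_top_iff']
      intro m
      have : (m : V) ∈ τ.toSubmodule.map N.subtype := by rw [h1]; exact m.2
      obtain ⟨m', hm', hmm⟩ := Submodule.mem_map.mp this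
      have : m' = m := Subtype.ext hmm
      rwa [← this]
  refine { exists_pair_ne := ⟨⊥, ⊤, ?_⟩, eq_bot_or_eq_top := ?_ }
  · intro h
    apply hNne
    have h' : (⊥ : Submodule ℂ ↥N) = ⊤ := congrArg Subrepresentation.toSubmodule h
    rw [Submodule.eq_bot_iff]
    intro v hv
    have : (⟨v, hv⟩ : ↥N) ∈ (⊤ : Submodule ℂ ↥N) := Submodule.mem_top
    rw [← h', Submodule.mem_bot] at this
    exact congrArg Subtype.val this
  · intro τ
    rcases key τ with h | h
    · left
      exact Subrepresentation.toSubmodule_injective h
    · right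
      exact Subrepresentation.toSubmodule_injective h

end aux

variable {G : Type*} [Group G] {V V' : Type u} [AddCommGroup V] [Module ℂ V] [AddCommGroup V']
  [Module ℂ V']

/-- (G3) irreducible invariant submodules with the same character are isomorphic. -/
theorem exists_equiv_of_subChar_eq [Finite G] [FiniteDimensional ℂ V] [FiniteDimensional ℂ V']
    (σ' : Representation ℂ G V') (σ : Representation ℂ G V)
    (N' : Submodule ℂ V') (N : Submodule ℂ V) (hN' : IsIrrSub σ' N') (hN : IsIrrSub σ N)
    (h : subChar σ' N' hN'.1 = subChar σ N hN.1) :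
    ∃ f : ↥N' ≃ₗ[ℂ] ↥N, ∀ (g : G) (v : ↥N'), f (subRep σ' N' hN'.1 g v) = subRep σ N hN.1 g (f v) := by
  classical
  have : Fintype G := Fintype.ofFinite G
  have h1 := isIrreducible_subRep σ' N' hN'
  have h2 := isIrreducible_subRep σ N hN
  have : Invertible (Nat.card G : ℂ) :=
    invertibleOfNonzero (Nat.cast_ne_zero.mpr Nat.card_pos.ne')
  have e1 := Representation.char_orthonormal (subRep σ N hN.1) (subRep σ N hN.1)
  have e2 := Representation.char_orthonormal (subRep σ N hN.1) (subRep σ' N' hN'.1)
  have hch : (subRep σ' N' hN'.1).character = (subRep σ N hN.1).character := h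
  rw [hch, e1, if_pos ⟨Representation.Equiv.refl _⟩] at e2
  have hne : Nonempty (Representation.Equiv (subRep σ' N' hN'.1) (subRep σ N hN.1)) := by
    by_contra hcon
    rw [if_neg hcon] at e2
    exact one_ne_zero e2
  obtain ⟨φ⟩ := hne
  refine ⟨φ.toLinearEquiv, fun g v => ?_⟩
  have := LinearMap.congr_fun (φ.toIntertwiningMap.isIntertwining' g) v
  simpa using this

end Cfsg.Agent.Lib.Helper2.WGSG3
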