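import Mathlib
import Cfsg.Prelude.Def_Characters
import Cfsg.Agent.Lib.Helper24.BSWDefs
import Cfsg.Agent.Lib.Helper21.HalfTrans

/-!
# S3282 (helper2): the G block (real elements of `RR`) in `_of` form

`B3stmt t K`, `B8stmt K` are verbatim the conclusions of the leaves B3 `mem_cent_cases` and
B8 `RR_centralizer`; G1..G4 are proved from them.
-/

set_option autoImplicit false
open Cfsg Cfsg.Agent.Lib.Helper24.BSW

namespace Cfsg.Agent.Lib.Helper2.BSWG

variable {G : Type*} [Group G]

/-- the conclusion of B3 `mem_cent_cases` -/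
def B3stmt (t : G) (K : Subgroup G) : Prop :=
  ∀ g ∈ Subgroup.centralizer ({t} : Set G),
    g ∈ K ∨ (g ∉ K ∧ orderOf g = 2 ∧ ∀ x ∈ K, g * x * g⁻¹ = x⁻¹)

/-- the conclusion of B8 `RR_centralizer` -/
def B8stmt (K : Subgroup G) : Prop :=
  ∀ y ∈ RR K, Odd (Nat.card (Subgroup.centralizer ({y} : Set G))) ∧
    ∀ z ∈ Subgroup.centralizer ({y} : Set G), z ≠ 1 → z ∈ RR K

theorem inv_eq_self_of_orderOf_two {u : G} (hu : orderOf u = 2) : u⁻¹ = u := by
  have h : u ^ 2 = 1 := by rw [← hu]; exact pow_orderOf_eq_one u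
  rw [inv_eq_iff_mul_eq_one, ← pow_two]
  exact h

theorem mul_self_of_orderOf_two {u : G} (hu : orderOf u = 2) : u * u = 1 := by
  have h : u ^ 2 = 1 := by rw [← hu]; exact pow_orderOf_eq_one u
  rw [← pow_two]
  exact h

/-- an element of a subgroup of odd order whose square is `1` is `1` -/
theorem eq_one_of_sq_of_odd (M : Subgroup G) (hM : Odd (Nat.card M)) (m : G) (hm : m ∈ M)
    (h2 : m * m = 1) : m = 1 := by
  have h1 : orderOf m ∣ 2 := by
    apply orderOf_dvd_of_pow_eq_one
    rw [pow_two]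
    exact h2
  have h3 : orderOf m ∣ Nat.card M := by
    have := orderOf_dvd_natCard (⟨m, hm⟩ : M)
    rwa [← Subgroup.orderOf_coe] at this
  have h4 : orderOf m = 1 := by
    rcases (Nat.dvd_prime Nat.prime_two).1 h1 with h | h
    · exact h
    · exfalso
      rw [h] at h3
      obtain ⟨k, hk⟩ := hM
      omega
  exact orderOf_eq_one_iff.1 h4

/-- a fixed-point-free automorphism of order 2 (conjugation by `u`) of a finite subgroup inverts it -/
theorem inverts_of_fpf (M : Subgroup G) [Finite M] (u : G) (huu : u * u = 1)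
    (hnorm : ∀ c ∈ M, u * c * u⁻¹ ∈ M) (hfpf : ∀ c ∈ M, u * c * u⁻¹ = c → c = 1) :
    ∀ c ∈ M, u * c * u⁻¹ = c⁻¹ := by
  let φ : M → M := fun c =>
    ⟨(c : G)⁻¹ * (u * c * u⁻¹), M.mul_mem (M.inv_mem c.2) (hnorm c c.2)⟩
  have hinj : Function.Injective φ := by
    intro c d hcd
    have h1 : (c : G)⁻¹ * (u * c * u⁻¹) = (d : G)⁻¹ * (u * d * u⁻¹) := congrArg Subtype.val hcd
    have h3 : (d : G) * (c : G)⁻¹ = (u * d * u⁻¹) * (u * c * u⁻¹)⁻¹ := by
      have h4 : (u * d * u⁻¹) = (d : G) * ((c : G)⁻¹ * (u * c * u⁻¹)) := by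
        rw [h1]; group
      rw [h4]; group
    have h2 : u * ((d : G) * (c : G)⁻¹) * u⁻¹ = (d : G) * (c : G)⁻¹ := by
      calc u * ((d : G) * (c : G)⁻¹) * u⁻¹ = (u * d * u⁻¹) * (u * c * u⁻¹)⁻¹ := by group
        _ = (d : G) * (c : G)⁻¹ := h3.symm
    have h5 := hfpf _ (M.mul_mem d.2 (M.inv_mem c.2)) h2
    apply Subtype.ext
    exact (mul_inv_eq_one.1 h5).symm
  have hsurj : Function.Surjective φ := Finite.injective_iff_surjective.1 hinj
  intro m hm
  obtain ⟨c, hc⟩ := hsurj ⟨m, hm⟩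
  have hc' : (c : G)⁻¹ * (u * c * u⁻¹) = m := congrArg Subtype.val hc
  rw [← hc']
  have h6 : u * ((c : G)⁻¹ * (u * c * u⁻¹)) * u⁻¹
      = (u * (c : G)⁻¹ * u⁻¹) * ((u * u) * c * (u * u)⁻¹) := by group
  rw [h6, huu]
  group

/-- an element inverting `y` normalizes `C(y)` -/
theorem conj_mem_centralizer_of_inverts (y u : G) (huy : u * y * u⁻¹ = y⁻¹) (c : G)
    (hc : c ∈ Subgroup.centralizer ({y} : Set G)) :
    u * c * u⁻¹ ∈ Subgroup.centralizer ({y} : Set G) := by
  rw [Subgroup.mem_centralizer_singleton_iff] at hc ⊢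
  -- u c u⁻¹ commutes with y⁻¹ = u y u⁻¹, hence with y
  have h1 : (u * c * u⁻¹) * y⁻¹ = y⁻¹ * (u * c * u⁻¹) := by
    rw [← huy]
    calc u * c * u⁻¹ * (u * y * u⁻¹) = u * (c * y) * u⁻¹ := by group
      _ = u * (y * c) * u⁻¹ := by rw [hc]
      _ = u * y * u⁻¹ * (u * c * u⁻¹) := by group
  calc u * c * u⁻¹ * y = y * (y⁻¹ * (u * c * u⁻¹)) * y := by group
    _ = y * ((u * c * u⁻¹) * y⁻¹) * y := by rw [h1]
    _ = y * (u * c * u⁻¹) := by group

/-- conjugation preserves the order -/
theorem orderOf_conj' (n u : G) : orderOf (n * u * n⁻¹) = orderOf u := by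
  have h := orderOf_injective (MulAut.conj n).toMonoidHom (MulAut.conj n).injective u
  simpa [MulAut.conj_apply] using h

section finite

variable [Finite G]

/-- an involution normalizing `C(y)`, `y ∈ RR`, inverts it -/
theorem involution_inverts {K : Subgroup G} (hB8 : B8stmt K) (y : G) (hy : y ∈ RR K) (v : G)
    (hv : orderOf v = 2)
    (hnorm : ∀ c ∈ Subgroup.centralizer ({y} : Set G), v * c * v⁻¹ ∈ Subgroup.centralizer ({y} : Set G)) :
    ∀ c ∈ Subgroup.centralizer ({y} : Set G), v * c * v⁻¹ = c⁻¹ := by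
  apply inverts_of_fpf _ v (mul_self_of_orderOf_two hv) hnorm
  intro c hc hfix
  by_contra hc1
  have hcRR := (hB8 y hy).2 c hc hc1
  have hodd := (hB8 c hcRR).1
  have hvc : v ∈ Subgroup.centralizer ({c} : Set G) := by
    rw [Subgroup.mem_centralizer_singleton_iff]
    calc v * c = (v * c * v⁻¹) * v := by group
      _ = c * v := by rw [hfix]
  have h1 : orderOf v ∣ Nat.card (Subgroup.centralizer ({c} : Set G)) := by
    have := orderOf_dvd_natCard (⟨v, hvc⟩ : Subgroup.centralizer ({c} : Set G))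
    rwa [← Subgroup.orderOf_coe] at this
  rw [hv] at h1
  obtain ⟨k, hk⟩ := hodd
  omega

/-- **G1** in `_of` form. -/
theorem inverts_centralizer_of {K : Subgroup G} (hB8 : B8stmt K) :
    ∀ y ∈ RR K, ∀ u : G, orderOf u = 2 → u * y * u⁻¹ = y⁻¹ →
      ∀ c ∈ Subgroup.centralizer ({y} : Set G), u * c * u⁻¹ = c⁻¹ := by
  intro y hy u hu huy
  exact involution_inverts hB8 y hy u hu (conj_mem_centralizer_of_inverts y u huy)

/-- **G2** in `_of` form. -/
theorem invCount_eq_card_of {K : Subgroup G} (hB8 : B8stmt K) :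
    ∀ y ∈ RR K, ∀ u : G, orderOf u = 2 → u * y * u⁻¹ = y⁻¹ →
      invCount y = Nat.card (Subgroup.centralizer ({y} : Set G)) := by
  intro y hy u hu huy
  have hG1 := inverts_centralizer_of hB8 y hy u hu huy
  have huinv := inv_eq_self_of_orderOf_two hu
  have huu := mul_self_of_orderOf_two hu
  have hodd := (hB8 y hy).1
  unfold invCount
  symm
  refine Nat.card_congr (Equiv.ofBijective
    (fun c : Subgroup.centralizer ({y} : Set G) =>
      (⟨u * (c : G), ?_, ?_⟩ : {v : G // orderOf v = 2 ∧ v * y * v⁻¹ = y⁻¹})) ⟨?_, ?_⟩)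
  · -- order 2
    have h1 : (u * (c : G)) * (u * (c : G)) = 1 := by
      have h2 := hG1 c c.2
      rw [huinv] at h2
      calc u * (c : G) * (u * (c : G)) = (u * c * u) * c := by group
        _ = 1 := by rw [h2]; group
    have h3 : u * (c : G) ≠ 1 := by
      intro h4
      have h5 : (c : G) = u := by
        have : (c : G) = u⁻¹ := eq_inv_of_mul_eq_one_right h4
        rw [this, huinv]
      have h6 := eq_one_of_sq_of_odd _ hodd u (h5 ▸ c.2) huu
      rw [h6, orderOf_one] at hu
      omega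
    have : Fact (Nat.Prime 2) := ⟨Nat.prime_two⟩
    rw [orderOf_eq_prime_iff, pow_two]
    exact ⟨h1, h3⟩
  · -- inverts y
    have hc := Subgroup.mem_centralizer_singleton_iff.1 c.2
    calc u * (c : G) * y * (u * (c : G))⁻¹ = u * ((c : G) * y * (c : G)⁻¹) * u⁻¹ := by group
      _ = u * y * u⁻¹ := by rw [hc]; group
      _ = y⁻¹ := huy
  · intro c d hcd
    have h1 : u * (c : G) = u * (d : G) := congrArg Subtype.val hcd
    exact Subtype.ext (mul_left_cancel h1)
  · rintro ⟨v, hv2, hvy⟩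
    have hmem : u⁻¹ * v ∈ Subgroup.centralizer ({y} : Set G) := by
      rw [Subgroup.mem_centralizer_singleton_iff]
      have h1 : v * y = y⁻¹ * v := by
        calc v * y = (v * y * v⁻¹) * v := by group
          _ = y⁻¹ * v := by rw [hvy]
      have h2 : u * y⁻¹ = y * u := by
        have : u * y⁻¹ * u⁻¹ = y := by
          calc u * y⁻¹ * u⁻¹ = (u * y * u⁻¹)⁻¹ := by group
            _ = y := by rw [huy, inv_inv]
        calc u * y⁻¹ = (u * y⁻¹ * u⁻¹) * u := by group
          _ = y * u := by rw [this]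
      rw [huinv]
      calc u * v * y = u * (v * y) := by group
        _ = u * (y⁻¹ * v) := by rw [h1]
        _ = (u * y⁻¹) * v := by group
        _ = y * u * v := by rw [h2]
        _ = y * (u * v) := by group
    refine ⟨⟨u⁻¹ * v, hmem⟩, ?_⟩
    apply Subtype.ext
    show u * (u⁻¹ * v) = v
    group


omit [Finite G] in
/-- a subgroup inverted by an element is abelian -/
theorem comm_of_inverts (M : Subgroup G) (u : G) (hinv : ∀ c ∈ M, u * c * u⁻¹ = c⁻¹) :
    ∀ a ∈ M, ∀ b ∈ M, a * b = b * a := by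
  intro a ha b hb
  have h := hinv (a * b) (M.mul_mem ha hb)
  rw [show u * (a * b) * u⁻¹ = (u * a * u⁻¹) * (u * b * u⁻¹) by group, hinv a ha, hinv b hb] at h
  have h2 := congrArg Inv.inv h
  simp only [mul_inv_rev, inv_inv] at h2
  exact h2.symm

/-- **G3** in `_of` form. -/
theorem centralizer_eq_of_mem_of {K : Subgroup G} (hB8 : B8stmt K) :
    ∀ y ∈ RR K, ∀ u : G, orderOf u = 2 → u * y * u⁻¹ = y⁻¹ →
      (∀ a ∈ Subgroup.centralizer ({y} : Set G), ∀ b ∈ Subgroup.centralizer ({y} : Set G),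
        a * b = b * a) ∧
      ∀ z ∈ Subgroup.centralizer ({y} : Set G), z ≠ 1 →
        Subgroup.centralizer ({z} : Set G) = Subgroup.centralizer ({y} : Set G) := by
  intro y hy u hu huy
  have hG1 := inverts_centralizer_of hB8 y hy u hu huy
  have hab := comm_of_inverts _ u hG1
  refine ⟨hab, ?_⟩
  intro z hz hz1
  have hzRR := (hB8 y hy).2 z hz hz1
  have huz := hG1 z hz
  have hG1z := inverts_centralizer_of hB8 z hzRR u hu huz
  have habz := comm_of_inverts _ u hG1z
  have hyz : y ∈ Subgroup.centralizer ({z} : Set G) := by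
    rw [Subgroup.mem_centralizer_singleton_iff] at hz ⊢
    exact hz.symm
  have hzz : z ∈ Subgroup.centralizer ({z} : Set G) := by
    rw [Subgroup.mem_centralizer_singleton_iff]
  have hyy : y ∈ Subgroup.centralizer ({y} : Set G) := by
    rw [Subgroup.mem_centralizer_singleton_iff]
  ext g
  constructor
  · intro hg
    rw [Subgroup.mem_centralizer_singleton_iff]
    exact habz g hg y hyz
  · intro hg
    rw [Subgroup.mem_centralizer_singleton_iff]
    exact hab g hg z hz

/-- **G4** in `_of` form. -/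
theorem normalizer_struct_of {t s : G} {K : Subgroup G} (h : Hyp t s K) (hB3 : B3stmt t K)
    (hB8 : B8stmt K) :
    ∀ y ∈ RR K, ∀ u : G, orderOf u = 2 → u * y * u⁻¹ = y⁻¹ →
      Nat.card (Subgroup.normalizer ((Subgroup.centralizer ({y} : Set G) : Subgroup G) : Set G)) =
        Nat.card (Subgroup.centralizer ({y} : Set G)) *
          Nat.card ↥(Subgroup.normalizer ((Subgroup.centralizer ({y} : Set G) : Subgroup G) : Set G)
            ⊓ Subgroup.centralizer ({u} : Set G)) ∧
      (∀ x : G, x * t * x⁻¹ = u →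
        Subgroup.normalizer ((Subgroup.centralizer ({y} : Set G) : Subgroup G) : Set G)
            ⊓ Subgroup.centralizer ({u} : Set G) ≤ K.map (MulAut.conj x).toMonoidHom) ∧
      Nat.card ↥(Subgroup.normalizer ((Subgroup.centralizer ({y} : Set G) : Subgroup G) : Set G)
            ⊓ Subgroup.centralizer ({u} : Set G)) ∣
        Nat.card (Subgroup.centralizer ({y} : Set G)) - 1 := by
  intro y hy u hu huy
  classical
  obtain ⟨M, hMdef⟩ : ∃ M : Subgroup G, M = Subgroup.centralizer ({y} : Set G) := ⟨_, rfl⟩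
  rw [← hMdef]
  have hG1 : ∀ c ∈ M, u * c * u⁻¹ = c⁻¹ := by
    rw [hMdef]; exact inverts_centralizer_of hB8 y hy u hu huy
  have hG3 := centralizer_eq_of_mem_of hB8 y hy u hu huy
  rw [← hMdef] at hG3
  have hodd : Odd (Nat.card M) := by rw [hMdef]; exact (hB8 y hy).1
  have huinv := inv_eq_self_of_orderOf_two hu
  have huu := mul_self_of_orderOf_two hu
  have hyM : y ∈ M := by
    rw [hMdef, Subgroup.mem_centralizer_singleton_iff]
  have hmemM : ∀ g : G, g * y = y * g → g ∈ M := by
    intro g hg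
    rw [hMdef, Subgroup.mem_centralizer_singleton_iff]
    exact hg
  -- `u` normalizes `M`
  have huN : u ∈ Subgroup.normalizer (M : Set G) := by
    rw [Subgroup.mem_normalizer_iff]
    intro c
    constructor
    · intro hc
      rw [hG1 c hc]
      exact M.inv_mem hc
    · intro hc
      have h1 := hG1 _ hc
      have h2 : u * (u * c * u⁻¹) * u⁻¹ = (u * u) * c * (u * u)⁻¹ := by group
      rw [h2, huu] at h1
      have h3 : c = (u * c * u⁻¹)⁻¹ := by
        rw [← h1]; group
      rw [h3]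
      exact M.inv_mem hc
  -- `M ⊓ C(u) = 1`
  have hMCu : ∀ m ∈ M, m ∈ Subgroup.centralizer ({u} : Set G) → m = 1 := by
    intro m hm hmu
    rw [Subgroup.mem_centralizer_singleton_iff] at hmu
    have h1 := hG1 m hm
    have h2 : u * m * u⁻¹ = m := by
      calc u * m * u⁻¹ = (m * u) * u⁻¹ := by rw [hmu]
        _ = m := by group
    rw [h2] at h1
    apply eq_one_of_sq_of_odd M hodd m hm
    calc m * m = m * m⁻¹ := by rw [← h1]
      _ = 1 := mul_inv_cancel m
  -- involutions of `N` invert `M`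
  have hinvN : ∀ v ∈ Subgroup.normalizer (M : Set G), orderOf v = 2 →
      ∀ c ∈ M, v * c * v⁻¹ = c⁻¹ := by
    intro v hvN hv2
    have := involution_inverts hB8 y hy v hv2 (by
      intro c hc
      rw [← hMdef] at hc ⊢
      exact (Subgroup.mem_normalizer_iff.1 hvN c).1 hc)
    rw [← hMdef] at this
    exact this
  -- involutions of `N` are `M`-conjugate to `u`
  have hconjM : ∀ v ∈ Subgroup.normalizer (M : Set G), orderOf v = 2 →
      ∃ w ∈ M, v = w * u * w⁻¹ := by
    intro v hvN hv2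
    have hv := hinvN v hvN hv2
    have hm : u * v ∈ M := by
      apply hmemM
      have h1 : (u * v) * y * (u * v)⁻¹ = y := by
        calc (u * v) * y * (u * v)⁻¹ = u * (v * y * v⁻¹) * u⁻¹ := by group
          _ = u * y⁻¹ * u⁻¹ := by rw [hv y hyM]
          _ = (u * y * u⁻¹)⁻¹ := by group
          _ = y := by rw [huy, inv_inv]
      calc u * v * y = ((u * v) * y * (u * v)⁻¹) * (u * v) := by group
        _ = y * (u * v) := by rw [h1]
    -- squaring is onto `M`
    have hcop : (Nat.card M).Coprime 2 := Nat.coprime_two_right.2 hodd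
    obtain ⟨w, hw⟩ := (Nat.Coprime.pow_left_bijective hcop).2 (⟨u * v, hm⟩⁻¹ : M)
    have hw' : (w : G) * (w : G) = (u * v)⁻¹ := by
      have := congrArg Subtype.val hw
      simpa [pow_two] using this
    refine ⟨w, w.2, ?_⟩
    have h2 := hG1 w w.2
    -- w u w⁻¹ = w (u w⁻¹ u⁻¹) u = w w u
    have h3 : u * (w : G)⁻¹ * u⁻¹ = (w : G) := by
      calc u * (w : G)⁻¹ * u⁻¹ = (u * w * u⁻¹)⁻¹ := by group
        _ = (w : G) := by rw [h2, inv_inv]
    have hvinv := inv_eq_self_of_orderOf_two hv2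
    symm
    calc (w : G) * u * (w : G)⁻¹ = (w : G) * (u * (w : G)⁻¹ * u⁻¹) * u := by group
      _ = ((w : G) * (w : G)) * u := by rw [h3]
      _ = (u * v)⁻¹ * u := by rw [hw']
      _ = v⁻¹ := by group
      _ = v := hvinv
  obtain ⟨N, hNdef⟩ : ∃ N : Subgroup G, N = Subgroup.normalizer (M : Set G) := ⟨_, rfl⟩
  obtain ⟨E, hEdef⟩ : ∃ E : Subgroup G, E = N ⊓ Subgroup.centralizer ({u} : Set G) := ⟨_, rfl⟩
  rw [← hNdef, ← hEdef]
  have hMN : M ≤ N := by rw [hNdef]; exact Subgroup.le_normalizer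
  have hEN : E ≤ N := by rw [hEdef]; exact inf_le_left
  have hECu : E ≤ Subgroup.centralizer ({u} : Set G) := by rw [hEdef]; exact inf_le_right
  have huN' : u ∈ N := by rw [hNdef]; exact huN
  -- `N = M E`
  have hfact : ∀ n ∈ N, ∃ w ∈ M, w⁻¹ * n ∈ E := by
    intro n hn
    have hv2 : orderOf (n * u * n⁻¹) = 2 := by rw [orderOf_conj', hu]
    have hvN : n * u * n⁻¹ ∈ N := N.mul_mem (N.mul_mem hn huN') (N.inv_mem hn)
    obtain ⟨w, hwM, hw⟩ := hconjM _ (by rw [← hNdef]; exact hvN) hv2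
    refine ⟨w, hwM, ?_⟩
    rw [hEdef]
    refine Subgroup.mem_inf.2 ⟨N.mul_mem (N.inv_mem (hMN hwM)) hn, ?_⟩
    rw [Subgroup.mem_centralizer_singleton_iff]
    calc w⁻¹ * n * u = w⁻¹ * (n * u * n⁻¹) * n := by group
      _ = w⁻¹ * (w * u * w⁻¹) * n := by rw [hw]
      _ = u * (w⁻¹ * n) := by group
  have ha : Nat.card N = Nat.card M * Nat.card E := by
    rw [← Nat.card_prod]
    symm
    refine Nat.card_congr (Equiv.ofBijective (fun p : M × E =>
      (⟨(p.1 : G) * (p.2 : G), N.mul_mem (hMN p.1.2) (hEN p.2.2)⟩ : N)) ⟨?_, ?_⟩)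
    · rintro ⟨m, e⟩ ⟨m', e'⟩ hme
      have h1 : (m : G) * e = m' * e' := congrArg Subtype.val hme
      have h2 : (m' : G)⁻¹ * m = e' * (e : G)⁻¹ := by
        calc (m' : G)⁻¹ * m = (m' : G)⁻¹ * ((m : G) * e) * (e : G)⁻¹ := by group
          _ = (m' : G)⁻¹ * ((m' : G) * e') * (e : G)⁻¹ := by rw [h1]
          _ = e' * (e : G)⁻¹ := by group
      have h3 : (m' : G)⁻¹ * m = 1 := hMCu _ (M.mul_mem (M.inv_mem m'.2) m.2) (by
        rw [h2]; exact hECu (E.mul_mem e'.2 (E.inv_mem e.2)))
      have h4 : (m : G) = m' := by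
        rw [inv_mul_eq_one] at h3; exact h3.symm
      have h5 : (e : G) = e' := by
        rw [h4] at h1; exact mul_left_cancel h1
      exact Prod.ext (Subtype.ext h4) (Subtype.ext h5)
    · rintro ⟨n, hn⟩
      obtain ⟨w, hwM, hwE⟩ := hfact n hn
      exact ⟨(⟨w, hwM⟩, ⟨w⁻¹ * n, hwE⟩), Subtype.ext (by
        show w * (w⁻¹ * n) = n
        group)⟩
  have hb : ∀ x : G, x * t * x⁻¹ = u → E ≤ K.map (MulAut.conj x).toMonoidHom := by
    intro x hx e he
    have heN := hEN he
    have heu := Subgroup.mem_centralizer_singleton_iff.1 (hECu he)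
    have hg : x⁻¹ * e * x ∈ Subgroup.centralizer ({t} : Set G) := by
      rw [Subgroup.mem_centralizer_singleton_iff]
      have ht : t = x⁻¹ * u * x := by rw [← hx]; group
      rw [ht]
      calc x⁻¹ * e * x * (x⁻¹ * u * x) = x⁻¹ * (e * u) * x := by group
        _ = x⁻¹ * (u * e) * x := by rw [heu]
        _ = x⁻¹ * u * x * (x⁻¹ * e * x) := by group
    rcases hB3 _ hg with hgK | ⟨-, hg2, -⟩
    · refine ⟨x⁻¹ * e * x, hgK, ?_⟩
      show x * (x⁻¹ * e * x) * x⁻¹ = e
      group
    · have he2 : orderOf e = 2 := by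
        have h1 : e = x * (x⁻¹ * e * x) * x⁻¹ := by group
        rw [h1, orderOf_conj', hg2]
      have hinvM := hinvN e (by rw [← hNdef]; exact heN) he2
      have hm : e * u ∈ M := by
        apply hmemM
        have h1 : (e * u) * y * (e * u)⁻¹ = y := by
          calc (e * u) * y * (e * u)⁻¹ = e * (u * y * u⁻¹) * e⁻¹ := by group
            _ = e * y⁻¹ * e⁻¹ := by rw [huy]
            _ = (e * y * e⁻¹)⁻¹ := by group
            _ = y := by rw [hinvM y hyM, inv_inv]
        calc e * u * y = ((e * u) * y * (e * u)⁻¹) * (e * u) := by group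
          _ = y * (e * u) := by rw [h1]
      have hsq : (e * u) * (e * u) = 1 := by
        have hee := mul_self_of_orderOf_two he2
        calc e * u * (e * u) = e * (u * e) * u := by group
          _ = e * (e * u) * u := by rw [heu]
          _ = (e * e) * (u * u) := by group
          _ = 1 := by rw [hee, huu, one_mul]
      have h1 := eq_one_of_sq_of_odd M hodd _ hm hsq
      have h2 : e = u := by
        have h3 : e = u⁻¹ := eq_inv_of_mul_eq_one_left h1
        rw [h3, huinv]
      rw [h2, ← hx]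
      exact ⟨t, h.htK, rfl⟩
  have hc : Nat.card E ∣ Nat.card M - 1 := by
    have h1 := Cfsg.Agent.Lib.Helper21.HalfTrans.card_dvd_mul_ncard E {m : G | m ∈ M ∧ m ≠ 1} 1
      (by
        intro g hg m hm
        refine ⟨?_, ?_⟩
        · have hgN : g ∈ Subgroup.normalizer (M : Set G) := by rw [← hNdef]; exact hEN hg
          exact (Subgroup.mem_normalizer_iff.1 hgN m).1 hm.1
        · intro h1
          apply hm.2
          have h2 : m = g⁻¹ * (g * m * g⁻¹) * g := by group
          rw [h2, h1]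
          group)
      (by
        intro m hm
        have h1 : E ⊓ Subgroup.centralizer ({m} : Set G) = ⊥ := by
          rw [hG3.2 m hm.1 hm.2, eq_bot_iff]
          intro g hg
          rw [Subgroup.mem_bot]
          exact hMCu g hg.2 (hECu hg.1)
        rw [h1]
        simp)
    rw [one_mul] at h1
    have h2 : {m : G | m ∈ M ∧ m ≠ 1} = (M : Set G) \ {1} := by
      ext m
      simp
    rw [h2, Set.ncard_sdiff_singleton_of_mem M.one_mem] at h1
    have h3 : (M : Set G).ncard = Nat.card M := (Nat.card_coe_set_eq (M : Set G)).symm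
    rw [h3] at h1
    exact h1
  exact ⟨ha, hb, hc⟩

end finite

end Cfsg.Agent.Lib.Helper2.BSWG
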