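import Mathlib
import Cfsg.Agent.Lib.Helper2.Dihedral

/-!
# Counting lemmas for involutions (helper2 library)
-/

set_option autoImplicit false

namespace Cfsg.Agent.Lib.Helper2

section Count

variable {G : Type*} [Group G]

theorem mem_centralizer_singleton {x c : G} :
    c ∈ Subgroup.centralizer ({x} : Set G) ↔ c * x * c⁻¹ = x := by
  rw [Subgroup.mem_centralizer_iff]
  constructor
  · intro h
    rw [← h x rfl]; group
  · intro h y hy
    rw [Set.mem_singleton_iff] at hy
    subst hy
    conv_lhs => rw [← h]
    group

/-- The set of elements conjugating `x` to `y` is a coset of the centralizer. -/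
noncomputable def conjEquivCentralizer {x y : G} (g0 : G) (h0 : g0 * x * g0⁻¹ = y) :
    {g : G // g * x * g⁻¹ = y} ≃ Subgroup.centralizer ({x} : Set G) where
  toFun g := ⟨g0⁻¹ * g.1, by
    rw [mem_centralizer_singleton]
    have : g0⁻¹ * g.1 * x * (g0⁻¹ * g.1)⁻¹ = g0⁻¹ * (g.1 * x * g.1⁻¹) * g0 := by group
    rw [this, g.2, ← h0]; group⟩
  invFun c := ⟨g0 * c.1, by
    have hc := mem_centralizer_singleton.mp c.2
    have : g0 * c.1 * x * (g0 * c.1)⁻¹ = g0 * (c.1 * x * c.1⁻¹) * g0⁻¹ := by group
    rw [this, hc, h0]⟩
  left_inv g := by ext; simp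
  right_inv c := by ext; simp

theorem card_conj_eq_card_centralizer {x y : G} (h : IsConj x y) :
    Nat.card {g : G // g * x * g⁻¹ = y} = Nat.card (Subgroup.centralizer ({x} : Set G)) := by
  obtain ⟨g0, h0⟩ := isConj_iff.mp h
  exact Nat.card_congr (conjEquivCentralizer g0 h0)

theorem card_conj_eq_zero {x y : G} (h : ¬ IsConj x y) :
    Nat.card {g : G // g * x * g⁻¹ = y} = 0 := by
  have : IsEmpty {g : G // g * x * g⁻¹ = y} := ⟨fun g => h (isConj_iff.mpr ⟨g.1, g.2⟩)⟩
  exact Nat.card_of_isEmpty

theorem invol_mul_cancel_left {a b x : G} (h1 : orderOf a = 2) (h3 : a * b = x) : a * x = b := by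
  rw [← h3, ← mul_assoc, invol_mul_self h1, one_mul]

/-- pairs of involutions with product `x` correspond to involutions `u` with `u * x` an
involution; `u` then inverts `x`. -/
def pairsEquiv (x : G) :
    {p : G × G // orderOf p.1 = 2 ∧ orderOf p.2 = 2 ∧ p.1 * p.2 = x} ≃
      {u : G // orderOf u = 2 ∧ orderOf (u * x) = 2} where
  toFun p := ⟨p.1.1, p.2.1, by
    rw [invol_mul_cancel_left p.2.1 p.2.2.2]; exact p.2.2.1⟩
  invFun u := ⟨(u.1, u.1 * x), u.2.1, u.2.2, by
    have hu := invol_mul_self u.2.1
    show u.1 * (u.1 * x) = x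
    rw [← mul_assoc, hu, one_mul]⟩
  left_inv p := by
    obtain ⟨⟨a, b⟩, h1, h2, h3⟩ := p
    simp only [Subtype.mk.injEq, Prod.mk.injEq, true_and]
    exact invol_mul_cancel_left h1 h3
  right_inv u := by ext; rfl

/-- if `u` and `u * x` are involutions then `u` inverts `x`. -/
theorem inverts_of_pair {u x : G} (hu : orderOf u = 2) (hux : orderOf (u * x) = 2) :
    u * x * u⁻¹ = x⁻¹ := by
  have h1 := invol_mul_self hux
  have h2 := invol_inv hu
  rw [h2]
  have h4 : u * x * u * x = 1 := by
    calc u * x * u * x = u * x * (u * x) := by group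
      _ = 1 := h1
  calc u * x * u = (u * x * u * x) * x⁻¹ := by group
    _ = x⁻¹ := by rw [h4, one_mul]

/-- if the involution `u` inverts `x` then `(u * x)^2 = 1`. -/
theorem sq_of_inverts {u x : G} (hu : orderOf u = 2) (h : u * x * u⁻¹ = x⁻¹) :
    (u * x) * (u * x) = 1 := by
  have h2 := invol_inv hu
  rw [h2] at h
  calc u * x * (u * x) = (u * x * u) * x := by group
    _ = 1 := by rw [h, inv_mul_cancel]

/-- for `x^2 ≠ 1`: `u`, `u * x` involutions iff the involution `u` inverts `x`. -/
theorem pair_iff_inverts {u x : G} (hx : x ^ 2 ≠ 1) :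
    (orderOf u = 2 ∧ orderOf (u * x) = 2) ↔ (orderOf u = 2 ∧ u * x * u⁻¹ = x⁻¹) := by
  constructor
  · rintro ⟨h1, h2⟩
    exact ⟨h1, inverts_of_pair h1 h2⟩
  · rintro ⟨h1, h2⟩
    refine ⟨h1, orderOf_two_of ?_ (sq_of_inverts h1 h2)⟩
    intro h3
    apply hx
    have : x = u⁻¹ := by
      have := congrArg (fun z => u⁻¹ * z) h3
      simpa using this
    rw [this, invol_inv h1, pow_two, invol_mul_self h1]

theorem card_pairs_eq_card_inverting [Finite G] {x : G} (hx : x ^ 2 ≠ 1) :
    Nat.card {p : G × G // orderOf p.1 = 2 ∧ orderOf p.2 = 2 ∧ p.1 * p.2 = x} =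
      Nat.card {t : G // orderOf t = 2 ∧ t * x * t⁻¹ = x⁻¹} :=
  Nat.card_congr ((pairsEquiv x).trans (Equiv.subtypeEquivRight fun _ => pair_iff_inverts hx))

theorem orderOf_mul_of_commute {t x : G} (hx : orderOf x = 2) (ht : orderOf t = 2)
    (hc : Commute t x) (hne : t ≠ x) : orderOf (t * x) = 2 := by
  apply orderOf_two_of
  · intro h1
    apply hne
    rw [← invol_inv hx, eq_inv_iff_mul_eq_one]; exact h1
  · have hc' : t * x = x * t := hc
    calc t * x * (t * x) = t * (x * t) * x := by group
      _ = t * (t * x) * x := by rw [hc']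
      _ = (t * t) * (x * x) := by group
      _ = 1 := by rw [invol_mul_self ht, invol_mul_self hx, one_mul]

theorem commute_of_pair {u x : G} (hx : orderOf x = 2) (hu : orderOf u = 2)
    (hux : orderOf (u * x) = 2) : Commute u x := by
  have h := inverts_of_pair hu hux
  rw [invol_inv hx] at h
  show u * x = x * u
  conv_rhs => rw [← h]
  group

/-- for an involution `x`, the involutions commuting with `x` are `x` and the `u` with
`u * x` an involution. -/
noncomputable def commInvolEquiv {x : G} (hx : orderOf x = 2) :
    {t : G // orderOf t = 2 ∧ Commute t x} ≃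
      Option {u : G // orderOf u = 2 ∧ orderOf (u * x) = 2} := by
  classical
  exact
  { toFun := fun t => if h : t.1 = x then none else
      some ⟨t.1, t.2.1, orderOf_mul_of_commute hx t.2.1 t.2.2 h⟩
    invFun := fun o => match o with
      | none => ⟨x, hx, Commute.refl x⟩
      | some u => ⟨u.1, u.2.1, commute_of_pair hx u.2.1 u.2.2⟩
    left_inv := by
      intro t
      by_cases h : t.1 = x
      · simp only [h, dite_true]; ext; exact h.symm
      · simp only [h, dite_false]
    right_inv := by
      intro o
      cases o with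
      | none => simp
      | some u =>
        have : u.1 ≠ x := by
          intro h
          have h2 := u.2.2
          rw [h, invol_mul_self hx, orderOf_one] at h2
          omega
        simp [this] }

theorem card_pairs_add_one [Finite G] {x : G} (hx : orderOf x = 2) :
    Nat.card {p : G × G // orderOf p.1 = 2 ∧ orderOf p.2 = 2 ∧ p.1 * p.2 = x} + 1 =
      Nat.card {t : G // orderOf t = 2 ∧ Commute t x} := by
  rw [Nat.card_congr (commInvolEquiv hx), Finite.card_option, Nat.card_congr (pairsEquiv x)]

/-- orbit-stabilizer for conjugacy classes, in `Nat.card` form -/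
theorem card_eq_card_conj_mul_card_centralizer [Finite G] (s : G) :
    Nat.card G = Nat.card {s' : G // IsConj s s'} * Nat.card (Subgroup.centralizer ({s} : Set G)) := by
  classical
  have : Fintype {s' : G // IsConj s s'} := Fintype.ofFinite _
  let f : G → {s' : G // IsConj s s'} := fun g => ⟨g * s * g⁻¹, isConj_iff.mpr ⟨g, rfl⟩⟩
  rw [← Nat.card_congr (Equiv.sigmaFiberEquiv f), Nat.card_sigma]
  have : ∀ y : {s' : G // IsConj s s'}, Nat.card {g : G // f g = y} =
      Nat.card (Subgroup.centralizer ({s} : Set G)) := by
    intro y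
    rw [← card_conj_eq_card_centralizer y.2]
    apply Nat.card_congr
    apply Equiv.subtypeEquivRight
    intro g
    constructor
    · intro h; exact congrArg Subtype.val h
    · intro h; ext; exact h
  simp_rw [this]
  rw [Finset.sum_const, Finset.card_univ, smul_eq_mul, ← Nat.card_eq_fintype_card]

theorem card_commute_ne_one_add_one_le [Finite G] (z : G) :
    Nat.card {c : G // Commute c z ∧ c ≠ 1} + 1 ≤ Nat.card (Subgroup.centralizer ({z} : Set G)) := by
  rw [← Finite.card_option]
  refine Nat.card_le_card_of_injective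
    (fun o : Option {c : G // Commute c z ∧ c ≠ 1} =>
      match o with
      | none => (1 : Subgroup.centralizer ({z} : Set G))
      | some c => ⟨c.1, by
          rw [Subgroup.mem_centralizer_iff]
          intro y hy
          rw [Set.mem_singleton_iff] at hy
          subst hy
          exact (c.2.1).eq.symm⟩) ?_
  intro a b h
  cases a with
  | none =>
    cases b with
    | none => rfl
    | some c =>
      exfalso
      have := congrArg Subtype.val h
      simp only [Subgroup.coe_one] at this
      exact c.2.2 this.symm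
  | some d =>
    cases b with
    | none =>
      exfalso
      have := congrArg Subtype.val h
      simp only [Subgroup.coe_one] at this
      exact d.2.2 this
    | some c =>
      have := congrArg Subtype.val h
      simp only at this
      congr 1
      ext
      exact this

theorem card_invol_commute_add_one_le [Finite G] (t : G) :
    Nat.card {z : G // orderOf z = 2 ∧ Commute z t} + 1 ≤
      Nat.card (Subgroup.centralizer ({t} : Set G)) := by
  refine le_trans ?_ (card_commute_ne_one_add_one_le t)
  apply Nat.add_le_add_right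
  refine Nat.card_le_card_of_injective
    (fun z : {z : G // orderOf z = 2 ∧ Commute z t} =>
      (⟨z.1, z.2.2, invol_ne_one z.2.1⟩ : {c : G // Commute c t ∧ c ≠ 1})) ?_
  intro a b h
  ext
  have := congrArg Subtype.val h
  exact this

/-- two non-conjugate involutions commute with a common involution -/
theorem exists_invol_commuting [Finite G] {s t : G} (hs : orderOf s = 2) (ht : orderOf t = 2)
    (hnc : ¬ IsConj s t) : ∃ z : G, orderOf z = 2 ∧ Commute z s ∧ Commute z t := by
  have hs2 := invol_mul_self hs
  have ht2 := invol_mul_self ht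
  have heven : Even (orderOf (s * t)) := by
    by_contra hne
    have hodd : Odd (orderOf (s * t)) := Nat.not_even_iff_odd.mp hne
    obtain ⟨d, _, hd⟩ := dih_conj_of_odd hs2 ht2 hodd
    exact hnc (isConj_iff.mpr ⟨d, hd⟩)
  exact ⟨_, dih_central_invol hs2 ht2 (orderOf_pos _) heven⟩

end Count

end Cfsg.Agent.Lib.Helper2
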