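/-
helper2: Thompson order formula (two classes of involutions).
-/
import Mathlib
import Cfsg.Agent.Lib.Helper2.Dihedral
import Cfsg.Agent.Lib.Helper2.Count
import Cfsg.Agent.Lib.Helper2.IndexTwo

set_option autoImplicit false

namespace Cfsg.Agent.Lib.Helper2

section Thompson
variable {G : Type*} [Group G]

theorem isConj_orderOf {x y : G} (h : IsConj x y) : orderOf y = orderOf x := by
  obtain ⟨g, hg⟩ := isConj_iff.mp h
  rw [← hg]
  exact orderOf_injective (MulAut.conj g).toMonoidHom (MulAut.conj g).injective x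

/-- the pairs `(u,v)` of conjugates of `x₁`, `x₂` whose product generates a group containing `z` -/
abbrev thB (x₁ x₂ z : G) : Type _ :=
  {p : G × G // IsConj x₁ p.1 ∧ IsConj x₂ p.2 ∧ z ∈ Subgroup.zpowers (p.1 * p.2)}

/-- conjugation invariance of `thB` -/
def thBEquiv (x₁ x₂ z g : G) : thB x₁ x₂ z ≃ thB x₁ x₂ (g * z * g⁻¹) where
  toFun p := ⟨(g * p.1.1 * g⁻¹, g * p.1.2 * g⁻¹), by
    obtain ⟨h1, h2, h3⟩ := p.2
    refine ⟨h1.trans (isConj_iff.mpr ⟨g, rfl⟩), h2.trans (isConj_iff.mpr ⟨g, rfl⟩), ?_⟩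
    obtain ⟨k, hk⟩ := Subgroup.mem_zpowers_iff.mp h3
    refine Subgroup.mem_zpowers_iff.mpr ⟨k, ?_⟩
    have : g * p.1.1 * g⁻¹ * (g * p.1.2 * g⁻¹) = g * (p.1.1 * p.1.2) * g⁻¹ := by group
    show (g * p.1.1 * g⁻¹ * (g * p.1.2 * g⁻¹)) ^ k = g * z * g⁻¹
    rw [this, conj_zpow, hk]⟩
  invFun p := ⟨(g⁻¹ * p.1.1 * g, g⁻¹ * p.1.2 * g), by
    obtain ⟨h1, h2, h3⟩ := p.2
    refine ⟨h1.trans (isConj_iff.mpr ⟨g⁻¹, by group⟩), h2.trans (isConj_iff.mpr ⟨g⁻¹, by group⟩), ?_⟩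
    obtain ⟨k, hk⟩ := Subgroup.mem_zpowers_iff.mp h3
    refine Subgroup.mem_zpowers_iff.mpr ⟨k, ?_⟩
    have : g⁻¹ * p.1.1 * g * (g⁻¹ * p.1.2 * g) = g⁻¹ * (p.1.1 * p.1.2) * g⁻¹⁻¹ := by group
    show (g⁻¹ * p.1.1 * g * (g⁻¹ * p.1.2 * g)) ^ k = z
    rw [this, conj_zpow, hk]; group⟩
  left_inv p := by
    apply Subtype.ext
    apply Prod.ext
    · show g⁻¹ * (g * p.1.1 * g⁻¹) * g = p.1.1
      group
    · show g⁻¹ * (g * p.1.2 * g⁻¹) * g = p.1.2
      group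
  right_inv p := by
    apply Subtype.ext
    apply Prod.ext
    · show g * (g⁻¹ * p.1.1 * g) * g⁻¹ = p.1.1
      group
    · show g * (g⁻¹ * p.1.2 * g) * g⁻¹ = p.1.2
      group

theorem card_thB_of_isConj (x₁ x₂ : G) {x z : G} (h : IsConj x z) :
    Nat.card (thB x₁ x₂ z) = Nat.card (thB x₁ x₂ x) := by
  obtain ⟨g, hg⟩ := isConj_iff.mp h
  rw [← hg]
  exact (Nat.card_congr (thBEquiv x₁ x₂ x g)).symm

/-- existence and uniqueness of the involution in the cyclic group generated by the product of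
two non-conjugate involutions -/
theorem exists_unique_invol_zpowers [Finite G] {u v : G} (hu : orderOf u = 2) (hv : orderOf v = 2)
    (hnc : ¬ IsConj u v) : ∃! z : G, orderOf z = 2 ∧ z ∈ Subgroup.zpowers (u * v) := by
  have hu2 : u * u = 1 := invol_mul_self hu
  have hv2 : v * v = 1 := invol_mul_self hv
  have heven : Even (orderOf (u * v)) := by
    rw [← Nat.not_odd_iff_even]
    intro hodd
    obtain ⟨d, _, hd⟩ := dih_conj_of_odd hu2 hv2 hodd
    exact hnc (isConj_iff.mpr ⟨d, hd⟩)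
  obtain ⟨m, hm⟩ := heven
  have hpos : 0 < orderOf (u * v) := orderOf_pos _
  have hm0 : m ≠ 0 := by omega
  have hz : orderOf ((u * v) ^ m) = 2 := by
    rw [orderOf_pow_of_dvd hm0 ⟨2, by omega⟩, hm]
    have : m + m = 2 * m := by ring
    rw [this, Nat.mul_div_cancel _ (Nat.pos_of_ne_zero hm0)]
  refine ⟨(u * v) ^ m, ⟨hz, Subgroup.pow_mem _ (Subgroup.mem_zpowers _) _⟩, ?_⟩
  rintro y ⟨hy2, hymem⟩
  have h1 : orderOf (⟨y, hymem⟩ : Subgroup.zpowers (u * v)) = 2 := by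
    rw [Subgroup.orderOf_mk]; exact hy2
  have h2 : orderOf (⟨(u * v) ^ m, Subgroup.pow_mem _ (Subgroup.mem_zpowers _) _⟩ :
      Subgroup.zpowers (u * v)) = 2 := by
    rw [Subgroup.orderOf_mk]; exact hz
  have := invol_unique_of_cyclic h1 h2
  exact congrArg Subtype.val this

/-- Thompson order formula -/
theorem thompson_order_formula [Finite G] (x₁ x₂ : G) (h₁ : orderOf x₁ = 2) (h₂ : orderOf x₂ = 2)
    (hnc : ¬ IsConj x₁ x₂) (hall : ∀ t : G, orderOf t = 2 → IsConj x₁ t ∨ IsConj x₂ t) :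
    Nat.card G = Nat.card (Subgroup.centralizer ({x₂} : Set G)) * Nat.card (thB x₁ x₂ x₁) +
      Nat.card (Subgroup.centralizer ({x₁} : Set G)) * Nat.card (thB x₁ x₂ x₂) := by
  classical
  have : Fintype G := Fintype.ofFinite G
  -- the set of all pairs
  let S : Type _ := {p : G × G // IsConj x₁ p.1 ∧ IsConj x₂ p.2}
  have hS : Nat.card S = Nat.card {u : G // IsConj x₁ u} * Nat.card {v : G // IsConj x₂ v} := by
    rw [← Nat.card_prod]
    exact Nat.card_congr (Equiv.subtypeProdEquivProd (p := fun u => IsConj x₁ u)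
      (q := fun v => IsConj x₂ v))
  have hex : ∀ p : S, ∃! z : G, orderOf z = 2 ∧ z ∈ Subgroup.zpowers (p.1.1 * p.1.2) := by
    intro p
    apply exists_unique_invol_zpowers
    · rw [isConj_orderOf p.2.1]; exact h₁
    · rw [isConj_orderOf p.2.2]; exact h₂
    · intro hc
      exact hnc ((p.2.1.trans hc).trans p.2.2.symm)
  let ι : S → G := fun p => (hex p).choose
  have hι : ∀ p : S, orderOf (ι p) = 2 ∧ ι p ∈ Subgroup.zpowers (p.1.1 * p.1.2) :=
    fun p => (hex p).choose_spec.1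
  have hιu : ∀ (p : S) (z : G), orderOf z = 2 → z ∈ Subgroup.zpowers (p.1.1 * p.1.2) → z = ι p :=
    fun p z h1 h2 => (hex p).choose_spec.2 z ⟨h1, h2⟩
  -- fibres
  have hfib : ∀ z : G, Nat.card {p : S // ι p = z} =
      (if IsConj x₁ z then Nat.card (thB x₁ x₂ x₁) else 0) +
      (if IsConj x₂ z then Nat.card (thB x₁ x₂ x₂) else 0) := by
    intro z
    by_cases hz : orderOf z = 2
    · have hfe : {p : S // ι p = z} ≃ thB x₁ x₂ z :=
        { toFun := fun p => ⟨p.1.1, p.1.2.1, p.1.2.2, by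
            obtain ⟨q, hq⟩ := p
            subst hq
            exact (hι q).2⟩
          invFun := fun p => ⟨⟨p.1, p.2.1, p.2.2.1⟩, (hιu ⟨p.1, p.2.1, p.2.2.1⟩ z hz p.2.2.2).symm⟩
          left_inv := fun p => rfl
          right_inv := fun p => rfl }
      rw [Nat.card_congr hfe]
      rcases hall z hz with h | h
      · have h' : ¬ IsConj x₂ z := fun hc => hnc (h.trans hc.symm)
        rw [if_pos h, if_neg h', add_zero, card_thB_of_isConj x₁ x₂ h]
      · have h' : ¬ IsConj x₁ z := fun hc => hnc (hc.trans h.symm)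
        rw [if_neg h', if_pos h, zero_add, card_thB_of_isConj x₁ x₂ h]
    · have he : IsEmpty {p : S // ι p = z} := ⟨fun p => hz (p.2 ▸ (hι p.1).1)⟩
      have h1' : ¬ IsConj x₁ z := fun hc => hz (by rw [isConj_orderOf hc]; exact h₁)
      have h2' : ¬ IsConj x₂ z := fun hc => hz (by rw [isConj_orderOf hc]; exact h₂)
      rw [Nat.card_of_isEmpty, if_neg h1', if_neg h2']
  have hsum : Nat.card S = Nat.card {u : G // IsConj x₁ u} * Nat.card (thB x₁ x₂ x₁) +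
      Nat.card {v : G // IsConj x₂ v} * Nat.card (thB x₁ x₂ x₂) := by
    rw [← Nat.card_congr (Equiv.sigmaFiberEquiv ι), Nat.card_sigma]
    simp_rw [hfib]
    rw [Finset.sum_add_distrib, ← Finset.sum_filter, ← Finset.sum_filter, Finset.sum_const,
      Finset.sum_const, smul_eq_mul, smul_eq_mul]
    congr 2
    · rw [Nat.card_eq_fintype_card, Fintype.card_subtype]
    · rw [Nat.card_eq_fintype_card, Fintype.card_subtype]
  have hk1 := card_eq_card_conj_mul_card_centralizer x₁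
  have hk2 := card_eq_card_conj_mul_card_centralizer x₂
  rw [hS] at hsum
  obtain ⟨k1, hk1'⟩ : ∃ k, k = Nat.card {u : G // IsConj x₁ u} := ⟨_, rfl⟩
  obtain ⟨k2, hk2'⟩ : ∃ k, k = Nat.card {u : G // IsConj x₂ u} := ⟨_, rfl⟩
  obtain ⟨c1, hc1'⟩ : ∃ k, k = Nat.card (Subgroup.centralizer ({x₁} : Set G)) := ⟨_, rfl⟩
  obtain ⟨c2, hc2'⟩ : ∃ k, k = Nat.card (Subgroup.centralizer ({x₂} : Set G)) := ⟨_, rfl⟩
  obtain ⟨n1, hn1'⟩ : ∃ k, k = Nat.card (thB x₁ x₂ x₁) := ⟨_, rfl⟩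
  obtain ⟨n2, hn2'⟩ : ∃ k, k = Nat.card (thB x₁ x₂ x₂) := ⟨_, rfl⟩
  obtain ⟨N, hN'⟩ : ∃ k, k = Nat.card G := ⟨_, rfl⟩
  rw [← hk1', ← hk2', ← hn1', ← hn2'] at hsum
  rw [← hN', ← hk1', ← hc1'] at hk1
  rw [← hN', ← hk2', ← hc2'] at hk2
  rw [← hc1', ← hc2', ← hn1', ← hn2', ← hN']
  have hNpos : 0 < N := by rw [hN']; exact Nat.card_pos
  apply Nat.eq_of_mul_eq_mul_left hNpos
  calc N * N = (k1 * c1) * (k2 * c2) := by rw [← hk1, ← hk2]
    _ = c1 * c2 * (k1 * k2) := by ring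
    _ = c1 * c2 * (k1 * n1 + k2 * n2) := by rw [hsum]
    _ = (k1 * c1) * (c2 * n1) + (k2 * c2) * (c1 * n2) := by ring
    _ = N * (c2 * n1 + c1 * n2) := by rw [← hk1, ← hk2]; ring

end Thompson

end Cfsg.Agent.Lib.Helper2
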