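import Mathlib
import Cfsg.Agent.Lib.Helper2.SOTDefs
import Cfsg.Agent.Lib.Helper15.QuadClass

set_option autoImplicit false
set_option linter.unusedSectionVars false
set_option linter.unusedVariables false

namespace Cfsg.Agent.Lib.Helper2.SOTBLeaf
open Matrix Module
open Cfsg.Agent.Lib.Helper2.SOT

variable {F : Type*} [Field F] {b : ℕ} {G : Matrix (Fin b) (Fin b) F}

/-- `fB G` as a bilinear form of Mathlib -/
noncomputable def BfB (G : Matrix (Fin b) (Fin b) F) : LinearMap.BilinForm F (Fin b → F) :=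
  Matrix.toBilin' G

lemma BfB_apply (G : Matrix (Fin b) (Fin b) F) (y y' : Fin b → F) : BfB G y y' = fB G y y' := by
  unfold BfB fB
  rw [Matrix.toBilin'_apply']

lemma BfB_nondeg (hdet : G.det ≠ 0) : (BfB G).Nondegenerate := by
  unfold BfB
  rw [Matrix.nondegenerate_toBilin'_iff]
  exact Matrix.nondegenerate_of_det_ne_zero hdet

/-- a subspace all of whose vectors are singular is totally isotropic (char ≠ 2) -/
lemma fB_eq_zero_of_all_sing (hG : Gᵀ = G) (two : (2 : F) ≠ 0) (U : Submodule F (Fin b → F))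
    (h : ∀ u ∈ U, fB G u u = 0) : ∀ u ∈ U, ∀ u' ∈ U, fB G u u' = 0 := by
  intro u hu u' hu'
  have h1 := h (u + u') (U.add_mem hu hu')
  rw [fB_add_left, fB_add_right, fB_add_right, h u hu, h u' hu', fB_comm G hG u' u] at h1
  have h2 : (2 : F) * fB G u u' = 0 := by linear_combination h1
  exact (mul_eq_zero.mp h2).resolve_left two

/-- a totally isotropic subspace has dimension at most `b / 2` -/
lemma two_mul_finrank_le_of_isotropic (hdet : G.det ≠ 0) (U : Submodule F (Fin b → F))
    (h : ∀ u ∈ U, ∀ u' ∈ U, fB G u u' = 0) : 2 * finrank F U ≤ b := by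
  have h1 : U ≤ (BfB G).orthogonal U := by
    intro u hu
    rw [LinearMap.BilinForm.mem_orthogonal_iff]
    intro u' hu'
    show BfB G u' u = 0
    rw [BfB_apply]
    exact h u' hu' u hu
  have h2 := Submodule.finrank_mono h1
  rw [LinearMap.BilinForm.finrank_orthogonal (BfB_nondeg hdet), Module.finrank_fintype_fun_eq_card,
    Fintype.card_fin] at h2
  have h3 : finrank F U ≤ b := by
    have := Submodule.finrank_le U
    rwa [Module.finrank_fintype_fun_eq_card, Fintype.card_fin] at this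
  omega

/-- the hyperplane `v^⊥` meets `U` in codimension at most one -/
lemma finrank_inf_ker_ge (G : Matrix (Fin b) (Fin b) F) (v : Fin b → F)
    (U : Submodule F (Fin b → F)) :
    finrank F U ≤ finrank F ↥(U ⊓ LinearMap.ker (BfB G v)) + 1 := by
  have h1 := Submodule.finrank_sup_add_finrank_inf_eq U (LinearMap.ker (BfB G v))
  have h2 := LinearMap.finrank_range_add_finrank_ker (BfB G v)
  have h3 : finrank F (LinearMap.range (BfB G v)) ≤ 1 := by
    have := Submodule.finrank_le (LinearMap.range (BfB G v))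
    rwa [Module.finrank_self] at this
  have h4 : finrank F ↥(U ⊔ LinearMap.ker (BfB G v)) ≤ finrank F (Fin b → F) :=
    Submodule.finrank_le _
  omega

/-- (B4) EXISTENCE LEMMA: a subspace of codimension at most three (`b ≥ 7`) contains a nonzero
singular vector and a nonsingular vector orthogonal to it. -/
theorem exists_sing_nonsing [Fintype F] (hG : Gᵀ = G) (hdet : G.det ≠ 0) (two : (2 : F) ≠ 0)
    (hb : 7 ≤ b) (U : Submodule F (Fin b → F)) (hU : b ≤ finrank F U + 3) :
    ∃ z₂ ∈ U, ∃ v₂ ∈ U, z₂ ≠ 0 ∧ fB G z₂ z₂ = 0 ∧ fB G v₂ v₂ ≠ 0 ∧ fB G z₂ v₂ = 0 := by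
  classical
  -- a nonsingular vector
  have hv : ∃ v₂ ∈ U, fB G v₂ v₂ ≠ 0 := by
    by_contra hcon
    push Not at hcon
    have := two_mul_finrank_le_of_isotropic hdet U (fB_eq_zero_of_all_sing hG two U hcon)
    omega
  obtain ⟨v₂, hv₂U, hv₂⟩ := hv
  set W : Submodule F (Fin b → F) := U ⊓ LinearMap.ker (BfB G v₂) with hW
  have hWdim : 3 ≤ finrank F W := by
    have := finrank_inf_ker_ge G v₂ U
    rw [← hW] at this
    omega
  let Q : QuadraticForm F W := ((BfB G).toQuadraticMap).comp W.subtype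
  obtain ⟨w, hw0, hQw⟩ := Cfsg.Agent.Lib.Helper15.exists_singular_of_three_le Q hWdim
  refine ⟨(w : Fin b → F), w.2.1, v₂, hv₂U, ?_, ?_, hv₂, ?_⟩
  · intro h0
    exact hw0 (Subtype.ext h0)
  · have : Q w = BfB G (w : Fin b → F) (w : Fin b → F) := by
      simp [Q]
    rw [← BfB_apply, ← this]
    exact hQw
  · have h1 : (w : Fin b → F) ∈ LinearMap.ker (BfB G v₂) := w.2.2
    rw [LinearMap.mem_ker, BfB_apply] at h1
    rw [fB_comm G hG]
    exact h1

end Cfsg.Agent.Lib.Helper2.SOTBLeaf
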