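import Mathlib
import Cfsg.Prelude.Def_ClassicalGeometry
import Cfsg.Prelude.Def_GeometricClasses
import Cfsg.Agent.Lib.Helper2.SOTDefs
import Cfsg.Agent.Lib.Helper2.SOTGDefs
import Cfsg.Agent.Lib.Helper2.SOTA4
import Cfsg.Agent.Lib.Helper1.SOTA5
import Cfsg.Agent.Lib.Helper11.SOTC
import Cfsg.Agent.Lib.Helper11.SOTE

/-!
S5666 PART (GA): the global fixed-point argument, assembled from the landed leaves.
-/

set_option autoImplicit false
set_option linter.unusedSectionVars false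
set_option linter.unusedVariables false

namespace Cfsg.Agent.Lib.Helper2.SOTLeaf
open Matrix Module
open Cfsg.Agent.Lib.Helper25.Tens Cfsg.Agent.Lib.Helper25.SpT Cfsg.Agent.Lib.Helper19.OSub
open Cfsg.Agent.Lib.Helper2.SOT
open scoped Kronecker

variable {F : Type*} [Field F] [Fintype F] {a b : ℕ} {G : Matrix (Fin b) (Fin b) F}
  {M : Subgroup (GL (Idx a b) F)}

/-- (A5) in its exact form -/
theorem exists_opp (h : MCtx a b G M) (h4 : 4 ≤ a) (h1 : L1 M) (h2 : L2 M) (x' : Fin a → F)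
    (hx' : x' ≠ 0) (g : GL (Idx a b) F) (hg : g ∈ M) (hgK : g ∉ KG a b F) :
    ∃ x : Fin a → F, x ≠ 0 ∧ Kp x g x' = ⊥ ∧ ∃ b₀ ∈ M, (∀ v ∈ Yp G x g x', mv b₀ v = v) ∧
      ∀ y : Fin b → F, mv b₀ (pt x y) = - pt x y :=
  Cfsg.Agent.Lib.Helper1.SOTLeaf.exists_opp_core h h4 h1 h2 x' hx' g hg hgK (kp_trivial h h4)

/-- (GA) the global part: `L1` and `L2` force `M ≤ KG`. -/
theorem globalA (h : MCtx a b G M) (h4 : 4 ≤ a) (h1 : L1 M) (h2 : L2 M) : M ≤ KG a b F := by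
  intro g hg
  by_contra hgK
  have ha0 : 0 < a := by omega
  set x' : Fin a → F := Pi.single ⟨0, ha0⟩ 1 with hx'def
  have hx' : x' ≠ 0 := by
    intro h0
    have := congrFun h0 ⟨0, ha0⟩
    simp [hx'def] at this
  obtain ⟨x, hx, hK, b₀, hbM, hfix, hneg⟩ := exists_opp h h4 h1 h2 x' hx' g hg hgK
  have hbK : b₀ ∈ KG a b F := by
    apply h1 x hx b₀ hbM
    intro y
    refine ⟨-y, ?_⟩
    rw [hneg y]
    ext p
    simp [pt]
  obtain ⟨x₄, hx₄, hcomm⟩ :=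
    Cfsg.Agent.Lib.Helper11.SOTLeaf.ending h h4 x x' hx hx' g hg hK b₀ hbK (h.le_sp hbM) hfix hneg
  have hconj : ∀ c' : F, g * (kA x' c' : GL (Idx a b) F) * g⁻¹ ∈ KG a b F := by
    intro c'
    have hmem : g * (kA x' c' : GL (Idx a b) F) * g⁻¹ ∈ M :=
      M.mul_mem (M.mul_mem hg (kA_mem' h x' c')) (M.inv_mem hg)
    exact h1 x₄ hx₄ _ hmem
      (Cfsg.Agent.Lib.Helper11.SOTLeaf.stab_of_commute h.ea x₄ hx₄ _ (fun c => hcomm c c'))
  have hginv : g⁻¹ ∈ KG a b F := by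
    apply h2 x' hx' g⁻¹ (M.inv_mem hg)
    intro c
    rw [inv_inv]
    exact hconj c
  exact hgK (by simpa using (KG a b F).inv_mem hginv)

end Cfsg.Agent.Lib.Helper2.SOTLeaf
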