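import Mathlib
import Cfsg.Agent.Lib.Helper2.SOTDefs
import Cfsg.Agent.Lib.Helper28.SOTBDefs
import Cfsg.Agent.Lib.Helper25.SpTK

set_option autoImplicit false
set_option linter.unusedSectionVars false
set_option linter.unusedVariables false

namespace Cfsg.Agent.Lib.Helper2.SOTBLeaf
open Matrix
open Cfsg.Agent.Lib.Helper25.Tens Cfsg.Agent.Lib.Helper25.SpT
open Cfsg.Agent.Lib.Helper19.OSub
open Cfsg.Agent.Lib.Helper2.SOT Cfsg.Agent.Lib.Helper28.SOTB
open scoped Kronecker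

variable {F : Type*} [Field F] [Fintype F] {b : ℕ} {G : Matrix (Fin b) (Fin b) F}
  {M : Subgroup (GL (Idx 2 b) F)} {o o' : Fin b}

/-- `fB (PᵀGP) y y' = fB G (P y) (P y')` -/
lemma fB_conj (G P : Matrix (Fin b) (Fin b) F) (y y' : Fin b → F) :
    fB (Pᵀ * G * P) y y' = fB G (P *ᵥ y) (P *ᵥ y') := by
  unfold fB
  rw [← Matrix.mulVec_mulVec, ← Matrix.mulVec_mulVec, Matrix.dotProduct_mulVec,
    Matrix.vecMul_transpose, Matrix.mulVec_mulVec]

/-- `fV (PᵀGP) v w = fV G (κ v) (κ w)`, `κ = 1 ⊗ P` -/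
lemma fV_conj {a : ℕ} (G : Matrix (Fin b) (Fin b) F) (P : GL (Fin b) F) (v w : Idx a b → F) :
    fV (P.1ᵀ * G * P.1) v w =
      fV G (mv (kel (1 : GL (Fin a) F) P) v) (mv (kel (1 : GL (Fin a) F) P) w) := by
  revert v
  apply pt_induction
  · simp only [fV, zero_dotProduct, mv_zero]
  · intro v v' hv hv'
    rw [fV_add_left, mv_add, fV_add_left, hv, hv']
  · intro x y
    revert w
    apply pt_induction
    · simp only [fV, Matrix.mulVec_zero, dotProduct_zero]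
    · intro w w' hw hw'
      rw [fV_add_right, mv_add, fV_add_right, hw, hw']
    · intro x' y'
      rw [fV_pt, mv_kel_one_pt, mv_kel_one_pt, fV_pt, fB_conj]

/-- `g ∈ SpV (PᵀGP) ↔ κ g κ⁻¹ ∈ SpV G` -/
lemma mem_SpV_conj {a : ℕ} (G : Matrix (Fin b) (Fin b) F) (P : GL (Fin b) F)
    (g : GL (Idx a b) F) :
    g ∈ SpV (P.1ᵀ * G * P.1) ↔
      kel (1 : GL (Fin a) F) P * g * (kel (1 : GL (Fin a) F) P)⁻¹ ∈ SpV G := by
  rw [mem_SpV, mem_SpV]
  constructor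
  · intro h v w
    have := h (mv (kel (1 : GL (Fin a) F) P)⁻¹ v) (mv (kel (1 : GL (Fin a) F) P)⁻¹ w)
    rw [fV_conj, fV_conj, mv_mv_inv, mv_mv_inv] at this
    rw [mv_mul, mv_mul, mv_mul, mv_mul]
    exact this
  · intro h v w
    have := h (mv (kel (1 : GL (Fin a) F) P) v) (mv (kel (1 : GL (Fin a) F) P) w)
    rw [mv_mul, mv_mul, mv_mul, mv_mul, mv_inv_mv, mv_inv_mv] at this
    rw [fV_conj, fV_conj]
    exact this

/-- (CJ) -/
theorem conj_ctx (h : MCtx 2 b G M) (P : GL (Fin b) F) :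
    MCtx 2 b (P.1ᵀ * G * P.1) (conjM P M) ∧
      (HasTv (P.1ᵀ * G * P.1) (conjM P M) → HasTv G M) := by
  classical
  have hκK : (kel (1 : GL (Fin 2) F) P : GL (Idx 2 b) F) ∈ KG 2 b F := kel_mem_KG _ _
  have hPdet : (P.1).det ≠ 0 := ((Matrix.isUnit_iff_isUnit_det P.1).mp P.isUnit).ne_zero
  constructor
  · refine ⟨⟨h.ea, h.ha, h.hb, h.hn, ?_, ?_, h.two, h.hex⟩, ?_, ?_⟩
    · rw [Matrix.transpose_mul, Matrix.transpose_mul, Matrix.transpose_transpose, h.symm,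
        mul_assoc]
    · rw [Matrix.det_mul, Matrix.det_mul, Matrix.det_transpose]
      exact mul_ne_zero (mul_ne_zero hPdet h.nd) hPdet
    · rintro g ⟨hgK, hgS⟩
      rw [mem_conjM]
      apply h.le
      refine ⟨(KG 2 b F).mul_mem ((KG 2 b F).mul_mem hκK hgK) ((KG 2 b F).inv_mem hκK), ?_⟩
      exact (mem_SpV_conj G P g).mp hgS
    · intro g hg
      rw [mem_conjM] at hg
      exact (mem_SpV_conj G P g).mpr (h.le_sp hg)
  · rintro ⟨x, z', c, hx, hz', hzz, hc, t', ht'M, ht'⟩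
    refine ⟨x, P.1 *ᵥ z', c, hx, ?_, ?_, hc, ?_⟩
    · intro h0
      apply hz'
      have : z' = (P⁻¹).1 *ᵥ (P.1 *ᵥ z') := by
        rw [Matrix.mulVec_mulVec, ← Units.val_mul, inv_mul_cancel, Units.val_one,
          Matrix.one_mulVec]
      rw [this, h0, Matrix.mulVec_zero]
    · rw [← fB_conj]
      exact hzz
    · rw [mem_conjM] at ht'M
      refine ⟨_, ht'M, ?_⟩
      apply Matrix.mulVec_injective
      funext v
      have e1 : ∀ u, t'.1 *ᵥ u = u + (c * fV (P.1ᵀ * G * P.1) u (pt x z')) • pt x z' := by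
        intro u
        rw [ht', tvMat_mulVec]
      have e2 : (kel (1 : GL (Fin 2) F) P * t' * (kel (1 : GL (Fin 2) F) P)⁻¹ : GL (Idx 2 b) F).1 *ᵥ v
          = mv (kel (1 : GL (Fin 2) F) P) (mv t' (mv (kel (1 : GL (Fin 2) F) P)⁻¹ v)) := by
        rw [← mv_mul, ← mv_mul]
      rw [e2, tvMat_mulVec]
      have e3 : mv t' (mv (kel (1 : GL (Fin 2) F) P)⁻¹ v) = _ := e1 _
      rw [e3, mv_add, mv_smul, mv_mv_inv, fV_conj, mv_mv_inv, mv_kel_one_pt]

end Cfsg.Agent.Lib.Helper2.SOTBLeaf
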