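import Mathlib
import Cfsg.Agent.Lib.Helper2.SOTDefs
import Cfsg.Agent.Lib.Helper28.SOTBDefs
import Cfsg.Agent.Lib.Helper9.TensA

set_option autoImplicit false
set_option linter.unusedSectionVars false
set_option linter.unusedVariables false

namespace Cfsg.Agent.Lib.Helper2.SOTBLeaf
open Matrix
open Cfsg.Agent.Lib.Helper25.Tens Cfsg.Agent.Lib.Helper25.SpT
open Cfsg.Agent.Lib.Helper19.OSub
open Cfsg.Agent.Lib.Helper2.SOT Cfsg.Agent.Lib.Helper28.SOTB
open scoped Kronecker

variable {F : Type*} [Field F] [Fintype F] {b : ℕ} {G : Matrix (Fin b) (Fin b) F}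
  {M : Subgroup (GL (Idx 2 b) F)} {o o' : Fin b}

/-- `η_{z,v} - 1` has rank at most two -/
lemma rank_etaMat_sub_one_le (G : Matrix (Fin b) (Fin b) F) (z v : Fin b → F) :
    (etaMat G z v - 1).rank ≤ 2 := by
  classical
  unfold Matrix.rank
  have hle : LinearMap.range (etaMat G z v - 1).mulVecLin ≤
      Submodule.span F (({v, z} : Finset (Fin b → F)) : Set (Fin b → F)) := by
    rintro _ ⟨y, rfl⟩
    rw [Matrix.mulVecLin_apply, Matrix.sub_mulVec, Matrix.one_mulVec, etaMat_mulVec]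
    have hv : v ∈ Submodule.span F (({v, z} : Finset (Fin b → F)) : Set (Fin b → F)) :=
      Submodule.subset_span (by simp)
    have hz : z ∈ Submodule.span F (({v, z} : Finset (Fin b → F)) : Set (Fin b → F)) :=
      Submodule.subset_span (by simp)
    have e : y + fB G y z • v - fB G y v • z - (fB G v v / 2 * fB G y z) • z - y =
        fB G y z • v - fB G y v • z - (fB G v v / 2 * fB G y z) • z := by abel
    rw [e]
    exact Submodule.sub_mem _ (Submodule.sub_mem _ (Submodule.smul_mem _ _ hv)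
      (Submodule.smul_mem _ _ hz)) (Submodule.smul_mem _ _ hz)
  refine (Submodule.finrank_mono hle).trans ?_
  refine (finrank_span_finset_le_card _).trans ?_
  exact Finset.card_le_two

/-- (F1) -/
theorem alpha_scalar (h : Ctx 2 b G) (hb : 5 ≤ b) {z v : Fin b → F} (hz : fB G z z = 0)
    (hzv : fB G z v = 0) (m : GL (Idx 2 b) F) (α : GL (Fin 2) F) (β : GL (Fin b) F)
    (hk : m⁻¹ * kE G z v * m = kel α β) : ∃ c : F, α.1 = c • (1 : Matrix (Fin 2) (Fin 2) F) := by
  classical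
  by_contra hcon
  push Not at hcon
  have hβdet : (β.1).det ≠ 0 := by
    have := (Matrix.isUnit_iff_isUnit_det β.1).mp β.isUnit
    exact this.ne_zero
  have h1 := Cfsg.Agent.Lib.Helper9.TensA.rank_ge_of_nonscalar α.1 β.1 hcon hβdet 1
  have hval : (kel α β : GL (Idx 2 b) F).1 = α.1 ⊗ₖ β.1 := kel_val α β
  have hkE : (kE G z v : GL (Idx 2 b) F).1 - 1 =
      (1 : Matrix (Fin 2) (Fin 2) F) ⊗ₖ (etaMat G z v - 1) := by
    rw [kE_val, etaGL_val h.symm h.two hz hzv]
    ext ⟨i, k⟩ ⟨j, l⟩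
    simp only [Matrix.sub_apply, Matrix.kroneckerMap_apply, Matrix.one_apply, Prod.mk.injEq]
    by_cases hij : i = j <;> by_cases hkl : k = l <;> simp [hij, hkl]
  have e : α.1 ⊗ₖ β.1 - (1 : F) • (1 : Matrix (Fin 2 × Fin b) (Fin 2 × Fin b) F) =
      (m⁻¹).1 * ((kE G z v : GL (Idx 2 b) F).1 - 1) * m.1 := by
    have e1 : (m⁻¹).1 * m.1 = 1 := by rw [← Units.val_mul, inv_mul_cancel, Units.val_one]
    rw [one_smul, ← hval, ← hk, Units.val_mul, Units.val_mul, mul_sub, sub_mul, mul_one, e1]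
  rw [e] at h1
  have hmdet : IsUnit (m.1).det := (Matrix.isUnit_iff_isUnit_det m.1).mp m.isUnit
  have hmidet : IsUnit ((m⁻¹).1).det := (Matrix.isUnit_iff_isUnit_det (m⁻¹).1).mp (m⁻¹).isUnit
  rw [Matrix.rank_mul_eq_left_of_isUnit_det _ _ hmdet,
    Matrix.rank_mul_eq_right_of_isUnit_det _ _ hmidet, hkE,
    Cfsg.Agent.Lib.Helper9.TensA.rank_one_kron] at h1
  have := rank_etaMat_sub_one_le G z v
  omega

end Cfsg.Agent.Lib.Helper2.SOTBLeaf
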