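/-
helper2: auxiliary character-theoretic lemmas for the Brauer-Leonard theorem.
-/
import Mathlib
import Cfsg.Prelude.Def_Characters
import Cfsg.Agent.Lib.Lead.CharInd
import Cfsg.Agent.Lib.Lead.CharOrtho
import Cfsg.Agent.Lib.Lead.CharMain
import Cfsg.Agent.Lib.Lead.CharEquiv
import Cfsg.Agent.Lib.Helper6.Clifford
import Cfsg.Agent.Lib.Helper6.CharExtra

set_option autoImplicit false
set_option linter.unusedSectionVars false
open scoped ComplexConjugate

namespace Cfsg.Agent.Lib.Helper2.BLAux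

open Cfsg Cfsg.Agent.CharLib Cfsg.Agent.Lib.Helper6

universe u
variable {H : Type u} [Group H] [Fintype H]

/-- pointwise complex conjugate of a function -/
def cj (f : H → ℂ) : H → ℂ := fun x => conj (f x)

theorem cj_apply (f : H → ℂ) (x : H) : cj f x = conj (f x) := rfl

theorem classInner_mul_cj (f g h : H → ℂ) :
    classInner (f * cj g) h = classInner f (g * h) := by
  unfold classInner
  congr 1
  apply Finset.sum_congr rfl
  intro x _
  rw [Pi.mul_apply, Pi.mul_apply, cj_apply, map_mul]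
  ring

theorem classInner_sub_right (φ ψ₁ ψ₂ : H → ℂ) :
    classInner φ (ψ₁ - ψ₂) = classInner φ ψ₁ - classInner φ ψ₂ := by
  have : ψ₁ - ψ₂ = ψ₁ + (-1 : ℂ) • ψ₂ := by
    ext x
    simp [sub_eq_add_neg]
  rw [this, classInner_add_right, classInner_smul_right]
  simp
  ring

theorem classInner_char_symm {Φ Ψ : H → ℂ}
    (hΦ : IsCharacter H Φ) (hΨ : IsCharacter H Ψ) : classInner Φ Ψ = classInner Ψ Φ := by
  obtain ⟨n, hn⟩ := IsCharacter.classInner_nat hΦ hΨ
  rw [← classInner_conj_symm Φ Ψ, hn, Complex.conj_natCast]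

theorem isCharacter_cj {χ : H → ℂ} (hχ : IsCharacter H χ) : IsCharacter H (cj χ) :=
  IsCharacter.conj hχ

/-- removing a set of irreducible constituents leaves a character -/
theorem isCharacter_sub_sum {Ψ : H → ℂ} (hΨ : IsCharacter H Ψ) (S : Finset (H → ℂ))
    (hS : ∀ θ ∈ S, IsIrrCharacter H θ ∧ classInner Ψ θ ≠ 0) :
    IsCharacter H (Ψ - ∑ θ ∈ S, θ) := by
  classical
  induction S using Finset.induction_on with
  | empty => simpa using hΨ
  | insert θ S' hθ ih =>
    have ih' := ih (fun η hη => hS η (Finset.mem_insert_of_mem hη))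
    obtain ⟨hirr, hne⟩ := hS θ (Finset.mem_insert_self θ S')
    have e : Ψ - ∑ η ∈ insert θ S', η = (Ψ - ∑ η ∈ S', η) - θ := by
      rw [Finset.sum_insert hθ]
      abel
    rw [e]
    apply IsCharacter.sub_constituent ih' hirr
    rw [classInner_sub_left, classInner_sum_left]
    have : ∑ η ∈ S', classInner η θ = 0 := by
      apply Finset.sum_eq_zero
      intro η hη
      rw [classInner_irr (hS η (Finset.mem_insert_of_mem hη)).1 hirr, if_neg]
      intro h
      exact hθ (h ▸ hη)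
    rw [this, sub_zero]
    exact hne

/-- degree bound from a set of irreducible constituents -/
theorem card_mul_le_degree {Ψ : H → ℂ} (hΨ : IsCharacter H Ψ) (S : Finset (H → ℂ))
    (hS : ∀ θ ∈ S, IsIrrCharacter H θ ∧ classInner Ψ θ ≠ 0) (e : ℕ)
    (he : ∀ θ ∈ S, ∃ m : ℕ, e ≤ m ∧ θ 1 = m) {D : ℕ} (hD : Ψ 1 = D) : S.card * e ≤ D := by
  classical
  obtain ⟨k, hk⟩ := IsCharacter.apply_one (isCharacter_sub_sum hΨ S hS)
  choose! m hm using he
  have h1 : (∑ θ ∈ S, θ) 1 = ((∑ θ ∈ S, m θ : ℕ) : ℂ) := by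
    rw [Finset.sum_apply]
    push_cast
    apply Finset.sum_congr rfl
    intro θ hθ
    exact (hm θ hθ).2
  rw [Pi.sub_apply, hD, h1] at hk
  have h2 : (D : ℂ) = ((∑ θ ∈ S, m θ) + k : ℕ) := by
    rw [Nat.cast_add]
    linear_combination hk
  have h3 : D = (∑ θ ∈ S, m θ) + k := by exact_mod_cast h2
  have h4 : S.card * e ≤ ∑ θ ∈ S, m θ := by
    rw [← smul_eq_mul, ← Finset.sum_const]
    apply Finset.sum_le_sum
    intro θ hθ
    exact (hm θ hθ).1
  omega


theorem classInner_self_nat_pos {Ψ : H → ℂ} (hΨ : IsCharacter H Ψ) (hne : Ψ ≠ 0) :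
    ∃ c : ℕ, 1 ≤ c ∧ classInner Ψ Ψ = c := by
  obtain ⟨c, hc⟩ := IsCharacter.classInner_nat hΨ hΨ
  refine ⟨c, ?_, hc⟩
  by_contra h
  have : c = 0 := by omega
  rw [this, Nat.cast_zero] at hc
  exact hne (classInner_self_eq_zero hc)

/-- restriction to a subgroup does not decrease the multiplicity of an irreducible character -/
theorem classInner_res_ge {G : Type u} [Group G] [Fintype G] {X ψ : G → ℂ} (hX : IsCharacter G X)
    (hψ : IsIrrCharacter G ψ) (K : Subgroup G) [Fintype K] :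
    ∃ m n : ℕ, classInner X ψ = m ∧ classInner (resFun K X) (resFun K ψ) = n ∧ m ≤ n := by
  classical
  let _ := fintypeIrr G
  obtain ⟨x, hx, hcoef⟩ := IsCharacter.exists_decomp_sum hX
  have hψK : IsCharacter K (resFun K ψ) := isCharacter_resFun K (IsIrrCharacter.isCharacter hψ)
  have hc : ∀ φ : IrrCharacter G, ∃ c : ℕ, classInner (resFun K (φ : G → ℂ)) (resFun K ψ) = c :=
    fun φ => IsCharacter.classInner_nat (isCharacter_resFun K (IsIrrCharacter.isCharacter φ.2)) hψK
  choose c hc using hc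
  have hne : resFun K ψ ≠ 0 := by
    intro h0
    obtain ⟨d, hd, hd1⟩ := IsIrrCharacter.apply_one_pos hψ
    have := congrFun h0 1
    rw [resFun_apply] at this
    simp only [Subgroup.coe_one, Pi.zero_apply] at this
    rw [hd1] at this
    have : d = 0 := by exact_mod_cast this
    omega
  obtain ⟨c0, hc0, hc0'⟩ := classInner_self_nat_pos hψK hne
  have hcψ : c ⟨ψ, hψ⟩ = c0 := by
    have := hc ⟨ψ, hψ⟩
    rw [hc0'] at this
    exact_mod_cast this.symm
  refine ⟨x ⟨ψ, hψ⟩, ∑ φ : IrrCharacter G, x φ * c φ, hcoef ⟨ψ, hψ⟩, ?_, ?_⟩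
  · conv_lhs => rw [hx]
    rw [map_sum, classInner_sum_left]
    push_cast
    apply Finset.sum_congr rfl
    intro φ _
    rw [← Nat.cast_smul_eq_nsmul ℂ, map_smul, classInner_smul_left, hc φ]
  · calc x ⟨ψ, hψ⟩ ≤ x ⟨ψ, hψ⟩ * c ⟨ψ, hψ⟩ := by
          rw [hcψ]
          exact Nat.le_mul_of_pos_right _ hc0
      _ ≤ ∑ φ : IrrCharacter G, x φ * c φ :=
          Finset.single_le_sum (f := fun φ => x φ * c φ) (fun _ _ => Nat.zero_le _)
            (Finset.mem_univ _)

/-- a constituent of the restriction of a constituent -/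
theorem classInner_res_ne_zero_of_constituent {Ψ θ : H → ℂ} (hΨ : IsCharacter H Ψ)
    (hθ : IsIrrCharacter H θ) (hne : classInner Ψ θ ≠ 0) (K : Subgroup H) [Fintype K]
    {μ : K → ℂ} (hμ : IsCharacter K μ) (hμne : classInner (resFun K θ) μ ≠ 0) :
    classInner (resFun K Ψ) μ ≠ 0 := by
  have hsub := IsCharacter.sub_constituent hΨ hθ hne
  have e1 : resFun K Ψ = resFun K θ + resFun K (Ψ - θ) := by
    rw [← map_add]
    congr 1
    abel
  obtain ⟨n1, hn1⟩ := IsCharacter.classInner_nat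
    (isCharacter_resFun K (IsIrrCharacter.isCharacter hθ)) hμ
  obtain ⟨n2, hn2⟩ := IsCharacter.classInner_nat (isCharacter_resFun K hsub) hμ
  rw [e1, classInner_add_left, hn1, hn2]
  rw [hn1] at hμne
  have h1 : n1 ≠ 0 := by
    intro h
    apply hμne
    rw [h, Nat.cast_zero]
  have : n1 + n2 ≠ 0 := by omega
  exact_mod_cast this

end Cfsg.Agent.Lib.Helper2.BLAux
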