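import Mathlib
import Cfsg.Agent.Lib.Helper8.TW.Defs
import Cfsg.Agent.Lib.Helper20.AschA89WR
import Cfsg.Agent.Lib.Helper20.AschA89F2J
import Cfsg.Agent.Lib.Helper22.TWExtBasic
import Cfsg.Agent.Lib.Helper22.TWExtMore
import Cfsg.Agent.Lib.Helper23.TWG1
import Cfsg.Agent.Lib.Helper19.TWGrow
import Cfsg.Agent.Lib.Helper14.TWIIDefs

/-!
S5641 (C7 maximal in SL_n; owner helper8), part (II) STAGE II Case B (sub-planner helper14): the CORES of the leaves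
IIB-B0 `star_of_caseB` and IIB-B2b `B2_hQ` of `notes/S5641_IIB_leaves.lean`, with the inputs of the blocks Z / S and the
borrowed `K_lemma` as explicit hypotheses (no dependence on those files).  Taker: helper2.  The exact leaves are in
`Cfsg/Agent/Lib/Helper2/TWIIBB0.lean`, `TWIIBB2b.lean`.
-/

set_option autoImplicit false
set_option linter.unusedSectionVars false
set_option linter.unusedVariables false

namespace Cfsg.Agent.Lib.Helper2.TWIIBLeaf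
open Matrix Cfsg.Geo Cfsg.Agent.Lib.Helper18.AschA89 Cfsg.Agent.Lib.Helper20.AschLeaf Cfsg.Agent.Lib.Helper8.TW
  Cfsg.Agent.Lib.Helper14.TWII

variable {F : Type*} [Field F] {t m : ℕ}

/-- B0 with the Z/S/K inputs as hypotheses -/
theorem star_of_caseB_core
    (hK : ∀ (h : GL (Idx (t + 1) m) F), h ∈ Gstd (t + 1) m F → ∀ (i : Fin (t + 1)) (y : Fin m → F), y ≠ 0 →
      (∀ v ∈ Wf i y, mv h v = v) → (∀ v, mv h v - v ∈ Wf i y) →
      ∃ η : Fin m → F, η ⬝ᵥ y = 0 ∧ (h : Matrix (Idx (t + 1) m) (Idx (t + 1) m) F) = 1 + rootN i y η)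
    (hZconj : ∀ (i i' : Fin (t + 1)) (y y' : Fin m → F) (h u : GL (Idx (t + 1) m) F), InZ i y u →
      img h (Wf i y) = Wf i' y' → InZ i' y' (h * u * h⁻¹))
    (hZroot : ∀ (i : Fin (t + 1)) (y η : Fin m → F) (hη : η ⬝ᵥ y = 0), InZ i y (rootU i y η hη))
    (hrootH : ∀ (i : Fin (t + 1)) (y η : Fin m → F) (hη : η ⬝ᵥ y = 0), rootU i y η hη ∈ Hstd (t + 1) m F)
    (hinv : ∀ (g : GL (Idx (t + 1) m) F) (S S' : Submodule F (Idx (t + 1) m → F)), img g S = S' → img g⁻¹ S' = S)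
    (X : Subgroup (GL (Idx (t + 1) m) F)) (hHX : Hstd (t + 1) m F ≤ X)
    (g s : GL (Idx (t + 1) m) F) (hgX : g ∈ X) (hs : s ∈ Gstd (t + 1) m F) (i i' : Fin (t + 1)) (y y' : Fin m → F)
    (hy : y ≠ 0) (hy' : y' ≠ 0) (hg : img g (Wf i y) = Wf i' y') (hsW : img s (Wf i y) = Wf i' y')
    (hB : ∀ u ∈ X, InZ i' y' u → u ∈ Gstd (t + 1) m F) (η : Fin m → F) (hη : η ⬝ᵥ y = 0) :
    ∃ η'' : Fin m → F, η'' ⬝ᵥ y = 0 ∧
      ((s⁻¹ * g : GL (Idx (t + 1) m) F) : Matrix (Idx (t + 1) m) (Idx (t + 1) m) F) * rootN i y η =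
        rootN i y η'' * ((s⁻¹ * g : GL (Idx (t + 1) m) F) : Matrix (Idx (t + 1) m) (Idx (t + 1) m) F) := by
  set u := rootU i y η hη with hu
  have huX : u ∈ X := hHX (hrootH i y η hη)
  have huZ : InZ i y u := hZroot i y η hη
  have h1X : g * u * g⁻¹ ∈ X := X.mul_mem (X.mul_mem hgX huX) (X.inv_mem hgX)
  have h1Z : InZ i' y' (g * u * g⁻¹) := hZconj i i' y y' g u huZ hg
  have h1G : g * u * g⁻¹ ∈ Gstd (t + 1) m F := hB _ h1X h1Z
  have hsinv : img s⁻¹ (Wf i' y') = Wf i y := hinv s _ _ hsW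
  have h2Z : InZ i y (s⁻¹ * (g * u * g⁻¹) * s⁻¹⁻¹) := hZconj i' i y' y s⁻¹ _ h1Z hsinv
  have h2G : s⁻¹ * (g * u * g⁻¹) * s⁻¹⁻¹ ∈ Gstd (t + 1) m F :=
    (Gstd (t + 1) m F).mul_mem ((Gstd (t + 1) m F).mul_mem ((Gstd (t + 1) m F).inv_mem hs) h1G)
      ((Gstd (t + 1) m F).inv_mem ((Gstd (t + 1) m F).inv_mem hs))
  obtain ⟨η'', h1, h2⟩ := hK _ h2G i y hy h2Z.2 h2Z.1
  refine ⟨η'', h1, ?_⟩
  have e : s⁻¹ * (g * u * g⁻¹) * s⁻¹⁻¹ * (s⁻¹ * g) = (s⁻¹ * g) * u := by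
    group
  have e2 := congrArg (fun x : GL (Idx (t + 1) m) F => (x : Matrix (Idx (t + 1) m) (Idx (t + 1) m) F)) e
  beta_reduce at e2
  rw [Units.val_mul, h2, Units.val_mul (s⁻¹ * g) u, hu, rootU_val, add_mul, one_mul, mul_add, mul_one] at e2
  exact (add_left_cancel e2).symm

/-- the matrix identity behind the last step of B2b -/
theorem b2b_kappa_rootN (i : Fin (t + 1)) (o : Fin m) (α : GL (Fin m) F) (γ : GL (Idx t m) F)
    (hα : (α : Matrix (Fin m) (Fin m) F) *ᵥ (eo o : Fin m → F) = eo o) (η₁ : Fin m → F) :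
    ((slotGL i α * extGL i γ : GL (Idx (t + 1) m) F) : Matrix (Idx (t + 1) m) (Idx (t + 1) m) F) *
        rootN i (eo o) (η₁ ᵥ* (α : Matrix (Fin m) (Fin m) F)) =
      rootN i (eo o) η₁ *
        ((slotGL i α * extGL i γ : GL (Idx (t + 1) m) F) : Matrix (Idx (t + 1) m) (Idx (t + 1) m) F) := by
  rw [Units.val_mul, slotGL_val, extGL_val]
  unfold rootN
  rw [Matrix.mul_assoc, Cfsg.Agent.Lib.Helper22.TWLeaf.ext_comm_slot, ← Matrix.mul_assoc, slot_mul,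
    ← Matrix.mul_assoc, slot_mul, Matrix.mul_vecMulVec, Matrix.vecMulVec_mul, hα]

/-- B2b with the Z/S/K inputs as hypotheses -/
theorem B2_hQ_core
    (hK : ∀ (h : GL (Idx (t + 1) m) F), h ∈ Gstd (t + 1) m F → ∀ (i : Fin (t + 1)) (y : Fin m → F), y ≠ 0 →
      (∀ v ∈ Wf i y, mv h v = v) → (∀ v, mv h v - v ∈ Wf i y) →
      ∃ η : Fin m → F, η ⬝ᵥ y = 0 ∧ (h : Matrix (Idx (t + 1) m) (Idx (t + 1) m) F) = 1 + rootN i y η)
    (hZconj : ∀ (i i' : Fin (t + 1)) (y y' : Fin m → F) (h u : GL (Idx (t + 1) m) F), InZ i y u →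
      img h (Wf i y) = Wf i' y' → InZ i' y' (h * u * h⁻¹))
    (hZmul : ∀ (i : Fin (t + 1)) (y : Fin m → F) (u u' : GL (Idx (t + 1) m) F), InZ i y u → InZ i y u' →
      InZ i y (u * u'))
    (hZinv : ∀ (i : Fin (t + 1)) (y : Fin m → F) (u : GL (Idx (t + 1) m) F), InZ i y u → InZ i y u⁻¹)
    (hinv : ∀ (g : GL (Idx (t + 1) m) F) (S S' : Submodule F (Idx (t + 1) m → F)), img g S = S' → img g⁻¹ S' = S)
    (himul : ∀ (g h : GL (Idx (t + 1) m) F) (S : Submodule F (Idx (t + 1) m → F)), img (g * h) S = img g (img h S))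
    (hslotH : ∀ (i : Fin (t + 1)) (α : GL (Fin m) F), (α : Matrix (Fin m) (Fin m) F).det = 1 →
      slotGL i α ∈ Hstd (t + 1) m F)
    (hslotW : ∀ (i : Fin (t + 1)) (α : GL (Fin m) F) (y : Fin m → F),
      img (slotGL i α) (Wf i y) = Wf i ((α : Matrix (Fin m) (Fin m) F) *ᵥ y))
    (hextW : ∀ (i : Fin (t + 1)) (γ : GL (Idx t m) F) (y : Fin m → F), img (extGL i γ) (Wf i y) = Wf i y)
    (hHconj : ∀ (s h : GL (Idx (t + 1) m) F), s ∈ Gstd (t + 1) m F → h ∈ Hstd (t + 1) m F →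
      s * h * s⁻¹ ∈ Hstd (t + 1) m F)
    (X : Subgroup (GL (Idx (t + 1) m) F)) (hHX : Hstd (t + 1) m F ≤ X)
    (s z g : GL (Idx (t + 1) m) F) (i i' : Fin (t + 1)) (o : Fin m) (y' : Fin m → F) (hy' : y' ≠ 0)
    (α : GL (Fin m) F) (γ : GL (Idx t m) F)
    (hα : (α : Matrix (Fin m) (Fin m) F) *ᵥ (eo o : Fin m → F) = eo o)
    (hz : InZ i (eo o : Fin m → F) z) (hg : g = s * (slotGL i α * extGL i γ) * z) (hgX : g ∈ X)
    (hs : s ∈ Gstd (t + 1) m F) (hsW : img s (Wf i (eo o : Fin m → F)) = Wf i' y')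
    (hB : ∀ u ∈ X, InZ i' y' u → u ∈ Gstd (t + 1) m F)
    (α' : GL (Fin m) F) (hdet : (α' : Matrix (Fin m) (Fin m) F).det = 1)
    (hα' : (α' : Matrix (Fin m) (Fin m) F) *ᵥ (eo o : Fin m → F) = eo o) :
    ∃ η : Fin m → F, η o = 0 ∧
      (((slotGL i α')⁻¹ * z * slotGL i α' * z⁻¹ : GL (Idx (t + 1) m) F) : Matrix (Idx (t + 1) m) (Idx (t + 1) m) F) =
        1 + rootN i (eo o) η := by
  set a := slotGL i α' with ha
  set κ := slotGL i α * extGL i γ with hκ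
  set c := a⁻¹ * z * a * z⁻¹ with hc
  have haH : a ∈ Hstd (t + 1) m F := hslotH i α' hdet
  have haX : a ∈ X := hHX haH
  -- `a⁻¹` stabilises `W`
  have haW : img a (Wf i (eo o : Fin m → F)) = Wf i (eo o) := by rw [ha, hslotW, hα']
  have haW' : img a⁻¹ (Wf i (eo o : Fin m → F)) = Wf i (eo o) := hinv a _ _ haW
  -- `c ∈ Z_W`
  have hcZ : InZ i (eo o : Fin m → F) c := by
    have h1 : InZ i (eo o : Fin m → F) (a⁻¹ * z * a⁻¹⁻¹) := hZconj i i _ _ a⁻¹ z hz haW'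
    rw [inv_inv] at h1
    exact hZmul i _ _ _ h1 (hZinv i _ z hz)
  -- `κ` stabilises `W`
  have hκW : img κ (Wf i (eo o : Fin m → F)) = Wf i (eo o) := by
    rw [hκ, himul, hextW, hslotW, hα]
  -- `κ a κ⁻¹ ∈ H`
  have hκa : κ * a * κ⁻¹ = slotGL i (α * α' * α⁻¹) := by
    rw [hκ, ha, slotGL_mul, slotGL_mul, slotGL_inv, _root_.mul_inv_rev, mul_assoc (slotGL i α) (extGL i γ),
      extGL_comm_slotGL]
    group
  have hdet2 : ((α * α' * α⁻¹ : GL (Fin m) F) : Matrix (Fin m) (Fin m) F).det = 1 := by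
    rw [Units.val_mul, Units.val_mul, Matrix.det_mul, Matrix.det_mul, hdet, mul_one, ← Matrix.det_mul,
      ← Units.val_mul, mul_inv_cancel, Units.val_one, Matrix.det_one]
  have hκaH : κ * a * κ⁻¹ ∈ Hstd (t + 1) m F := by rw [hκa]; exact hslotH i _ hdet2
  have h1X : s * (κ * a * κ⁻¹) * s⁻¹ ∈ X := hHX (hHconj s _ hs hκaH)
  -- `w := s κ c κ⁻¹ s⁻¹ ∈ X`
  have hgag : g * a * g⁻¹ ∈ X := X.mul_mem (X.mul_mem hgX haX) (X.inv_mem hgX)
  have hw : (s * κ) * c * (s * κ)⁻¹ = (s * (κ * a * κ⁻¹) * s⁻¹)⁻¹ * (g * a * g⁻¹) := by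
    rw [hg, hc]
    group
  have hwX : (s * κ) * c * (s * κ)⁻¹ ∈ X := by
    rw [hw]
    exact X.mul_mem (X.inv_mem h1X) hgag
  have hsκW : img (s * κ) (Wf i (eo o : Fin m → F)) = Wf i' y' := by rw [himul, hκW, hsW]
  have hwZ : InZ i' y' ((s * κ) * c * (s * κ)⁻¹) := hZconj i i' _ _ (s * κ) c hcZ hsκW
  have hwG : (s * κ) * c * (s * κ)⁻¹ ∈ Gstd (t + 1) m F := hB _ hwX hwZ
  -- `κ c κ⁻¹ ∈ G ∩ Z_W`
  have hkc : κ * c * κ⁻¹ = s⁻¹ * ((s * κ) * c * (s * κ)⁻¹) * s := by group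
  have hkcG : κ * c * κ⁻¹ ∈ Gstd (t + 1) m F := by
    rw [hkc]
    exact (Gstd (t + 1) m F).mul_mem ((Gstd (t + 1) m F).mul_mem ((Gstd (t + 1) m F).inv_mem hs) hwG) hs
  have hkcZ : InZ i (eo o : Fin m → F) (κ * c * κ⁻¹) := hZconj i i _ _ κ c hcZ hκW
  obtain ⟨η₁, h1, h2⟩ := hK _ hkcG i (eo o) (eo_ne_zero o) hkcZ.2 hkcZ.1
  refine ⟨η₁ ᵥ* (α : Matrix (Fin m) (Fin m) F), ?_, ?_⟩
  · rw [← dot_eo (η₁ ᵥ* (α : Matrix (Fin m) (Fin m) F)) o, ← Matrix.dotProduct_mulVec, hα, h1]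
  · have e : κ * c * κ⁻¹ * κ = κ * c := by group
    have e2 := congrArg (fun x : GL (Idx (t + 1) m) F => (x : Matrix (Idx (t + 1) m) (Idx (t + 1) m) F)) e
    beta_reduce at e2
    rw [Units.val_mul, h2, Units.val_mul κ c, add_mul, one_mul, ← b2b_kappa_rootN i o α γ hα η₁] at e2
    -- κ + κ N = κ c
    have e3 : (κ : Matrix (Idx (t + 1) m) (Idx (t + 1) m) F) * (c : Matrix (Idx (t + 1) m) (Idx (t + 1) m) F) =
        (κ : Matrix (Idx (t + 1) m) (Idx (t + 1) m) F) * (1 + rootN i (eo o) (η₁ ᵥ* (α : Matrix (Fin m) (Fin m) F))) := by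
      rw [mul_add, mul_one]
      exact e2.symm
    have e4 := congrArg (fun M => ((κ⁻¹ : GL (Idx (t + 1) m) F) : Matrix (Idx (t + 1) m) (Idx (t + 1) m) F) * M) e3
    beta_reduce at e4
    rwa [← Matrix.mul_assoc, ← Matrix.mul_assoc, ← Units.val_mul, inv_mul_cancel, Units.val_one, one_mul,
      one_mul] at e4

end Cfsg.Agent.Lib.Helper2.TWIIBLeaf
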