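import Mathlib
import Cfsg.Prelude.Def_Characters
import Cfsg.Agent.Lib.Helper24.BSWDefs
import Cfsg.Agent.Lib.Helper2.BSWG
import Cfsg.Agent.Lib.Helper12.BSWB8
import Cfsg.Agent.Lib.Helper16.BSWB3

/-!
# S3282-G4 (helper2): `normalizer_struct`, exact leaf (= `BSWG.normalizer_struct_of` over the landed B leaves)
-/

set_option autoImplicit false
open Cfsg Cfsg.Agent.Lib.Helper24.BSW

namespace Cfsg.Agent.Lib.Helper2.BSWG4

variable {G : Type*} [Group G] [Finite G]

/-- **G4** -/
theorem normalizer_struct {t s : G} {K : Subgroup G} (h : Hyp t s K) :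
    ∀ y ∈ RR K, ∀ u : G, orderOf u = 2 → u * y * u⁻¹ = y⁻¹ →
      Nat.card (Subgroup.normalizer ((Subgroup.centralizer ({y} : Set G) : Subgroup G) : Set G)) =
        Nat.card (Subgroup.centralizer ({y} : Set G)) *
          Nat.card ↥(Subgroup.normalizer ((Subgroup.centralizer ({y} : Set G) : Subgroup G) : Set G)
            ⊓ Subgroup.centralizer ({u} : Set G)) ∧
      (∀ x : G, x * t * x⁻¹ = u →
        Subgroup.normalizer ((Subgroup.centralizer ({y} : Set G) : Subgroup G) : Set G)
            ⊓ Subgroup.centralizer ({u} : Set G) ≤ K.map (MulAut.conj x).toMonoidHom) ∧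
      Nat.card ↥(Subgroup.normalizer ((Subgroup.centralizer ({y} : Set G) : Subgroup G) : Set G)
            ⊓ Subgroup.centralizer ({u} : Set G)) ∣
        Nat.card (Subgroup.centralizer ({y} : Set G)) - 1 := by
  exact Cfsg.Agent.Lib.Helper2.BSWG.normalizer_struct_of h (Cfsg.Agent.Lib.Helper16.BSWB3.mem_cent_cases h)
    (Cfsg.Agent.Lib.Helper12.BSWB8.RR_centralizer h)

end Cfsg.Agent.Lib.Helper2.BSWG4
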