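import Mathlib
import Cfsg.Prelude.Def_Characters
import Cfsg.Agent.Lib.Helper24.BSWDefs
import Cfsg.Agent.Lib.Helper2.BSWG
import Cfsg.Agent.Lib.Helper12.BSWB8

/-!
# S3282-G1 (helper2): `inverts_centralizer`, exact leaf (= `BSWG.inverts_centralizer_of` over the landed B leaves)
-/

set_option autoImplicit false
open Cfsg Cfsg.Agent.Lib.Helper24.BSW

namespace Cfsg.Agent.Lib.Helper2.BSWG1

variable {G : Type*} [Group G] [Finite G]

/-- **G1** -/
theorem inverts_centralizer {t s : G} {K : Subgroup G} (h : Hyp t s K) :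
    ∀ y ∈ RR K, ∀ u : G, orderOf u = 2 → u * y * u⁻¹ = y⁻¹ →
      ∀ c ∈ Subgroup.centralizer ({y} : Set G), u * c * u⁻¹ = c⁻¹ := by
  exact Cfsg.Agent.Lib.Helper2.BSWG.inverts_centralizer_of (Cfsg.Agent.Lib.Helper12.BSWB8.RR_centralizer h)

end Cfsg.Agent.Lib.Helper2.BSWG1
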