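import Mathlib
import Cfsg.Prelude.Def_Solvable
import Cfsg.Agent.Lib.Helper24.QBS
import Cfsg.Agent.Lib.Helper1.QBB3
import Cfsg.Agent.Lib.Helper9.QBB1
import Cfsg.Agent.Lib.Helper18.QBB4

/-!
# S4125 main body, leaf QBB (helper2): Case B (types `q` and `r ≠ q` cannot both occur)
-/

set_option autoImplicit false
open Cfsg

namespace Cfsg.Agent.Lib.Helper2.QBLeaf

variable {G : Type*} [Group G] [Finite G]

local notation "C(" x ")" => Subgroup.centralizer ({x} : Set G)


omit [Finite G] in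
/-- elements of a `q`-subgroup have `q`-power order -/
theorem exists_orderOf_eq_pow_of_mem (q : ℕ) [hq : Fact q.Prime] (Q : Subgroup G) (hQ : IsPGroup q Q)
    (u : G) (hu : u ∈ Q) : ∃ k : ℕ, orderOf u = q ^ k := by
  obtain ⟨k, hk⟩ := hQ ⟨u, hu⟩
  have hk' : u ^ q ^ k = 1 := by
    have := congrArg Subtype.val hk
    simpa using this
  obtain ⟨j, _, hj⟩ := (Nat.dvd_prime_pow hq.out).mp (orderOf_dvd_of_pow_eq_one hk')
  exact ⟨j, hj⟩

/-- a normal Sylow subgroup contains every `q`-element -/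
theorem mem_of_normal_sylow (q : ℕ) [hq : Fact q.Prime] (Q : Sylow q G)
    (hQ : (Q : Subgroup G).Normal) (u : G) (hu : ∃ k : ℕ, orderOf u = q ^ k) :
    u ∈ (Q : Subgroup G) := by
  obtain ⟨k, hk⟩ := hu
  have hz : IsPGroup q (Subgroup.zpowers u) := by
    apply IsPGroup.of_card (n := k)
    rw [Nat.card_zpowers, hk]
  obtain ⟨S, hS⟩ := hz.exists_le_sylow
  have : Unique (Sylow q G) := Sylow.unique_of_normal Q hQ
  have hSQ : S = Q := Subsingleton.elim S Q
  rw [← hSQ]
  exact hS (Subgroup.mem_zpowers u)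

/-- QBB (Case B), assembled from B1, B3, B4. -/
theorem false_of_mixed (q : ℕ) [Fact q.Prime]
    (hBaer : ∀ x : G, (∃ k : ℕ, orderOf x = q ^ k) →
      ∃ (r : ℕ) (a : ℕ), r.Prime ∧ (C(x)).index = r ^ a)
    (r a b : ℕ) (hr : r.Prime) (hrq : r ≠ q) (ha : 1 ≤ a) (hb : 1 ≤ b) (x y : G)
    (hx : ∃ k : ℕ, orderOf x = q ^ k) (hy : ∃ k : ℕ, orderOf y = q ^ k)
    (hxi : (C(x)).index = q ^ a) (hyi : (C(y)).index = r ^ b) : False := by
  classical
  have hqp : q.Prime := Fact.out
  obtain ⟨Q⟩ : Nonempty (Sylow q G) := inferInstance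
  have hQn : (Q : Subgroup G).Normal :=
    Cfsg.Agent.Lib.Helper9.QBLeaf.sylow_normal_of_mixed q hBaer a ha x hx hxi Q
  have hQu : Unique (Sylow q G) := Sylow.unique_of_normal Q hQn
  -- complement
  have hcop : Nat.Coprime (Nat.card (Q : Subgroup G)) (Q : Subgroup G).index := by
    rw [Q.card_eq_multiplicity]
    exact Nat.Coprime.pow_left _ ((Nat.Prime.coprime_iff_not_dvd hqp).mpr Q.not_dvd_index)
  obtain ⟨N, hN'⟩ := Subgroup.exists_right_complement'_of_coprime hcop
  have hN : N.IsComplement' (Q : Subgroup G) := hN'.symm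
  have htop : (Q : Subgroup G) ⊔ N = ⊤ := hN'.sup_eq_top
  -- the two subgroups
  set Cc : Subgroup G := (Q : Subgroup G) ⊓ Subgroup.centralizer (N : Set G) with hCc
  set Z : Subgroup G := (Q : Subgroup G) ⊓ Subgroup.centralizer ((Q : Subgroup G) : Set G) with hZ
  have hCQ : Cc ≤ (Q : Subgroup G) := inf_le_left
  have hZQ : Z ≤ (Q : Subgroup G) := inf_le_left
  have hZc : ∀ z ∈ Z, ∀ u ∈ (Q : Subgroup G), z * u = u * z := by
    intro z hz u hu
    exact (Subgroup.mem_centralizer_iff.mp (Subgroup.mem_inf.mp hz).2 u hu).symm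
  -- a q-element whose class has size prime to q is central in Q
  have hcentral : ∀ u : G, (∃ k : ℕ, orderOf u = q ^ k) → (C(u)).index.Coprime q → u ∈ Z := by
    intro u hu hidx
    obtain ⟨S, hS, _⟩ := Cfsg.Agent.Lib.Helper24.QBLeaf.exists_sylow_le_centralizer q u hu hidx
    have hSQ : S = Q := Subsingleton.elim S Q
    rw [hSQ] at hS
    refine Subgroup.mem_inf.mpr ⟨mem_of_normal_sylow q Q hQn u hu, ?_⟩
    rw [Subgroup.mem_centralizer_iff]
    intro w hw
    have := Subgroup.mem_centralizer_iff.mp (hS hw) u (Set.mem_singleton u)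
    exact this.symm
  -- a q-element of Q whose class has q-power size is Q-conjugate into Cc
  have hconj : ∀ u ∈ (Q : Subgroup G), ∀ c : ℕ, (C(u)).index = q ^ c →
      ∃ v ∈ (Q : Subgroup G), v * u * v⁻¹ ∈ Cc := by
    intro u hu c hc
    obtain ⟨v, hv, hvn⟩ := Cfsg.Agent.Lib.Helper1.QBLeaf.exists_conj_commute_complement q Q hQn N hN u hu c hc
    refine ⟨v, hv, Subgroup.mem_inf.mpr ⟨?_, ?_⟩⟩
    · exact (Q : Subgroup G).mul_mem ((Q : Subgroup G).mul_mem hv hu) ((Q : Subgroup G).inv_mem hv)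
    · rw [Subgroup.mem_centralizer_iff]
      intro n hn
      exact hvn n hn
  -- dichotomy for a q-element
  have hdich : ∀ u : G, (∃ k : ℕ, orderOf u = q ^ k) →
      (∃ c : ℕ, (C(u)).index = q ^ c) ∨ (C(u)).index.Coprime q := by
    intro u hu
    obtain ⟨s, c, hs, hsc⟩ := hBaer u hu
    by_cases hsq : s = q
    · left; exact ⟨c, hsq ▸ hsc⟩
    · right
      rw [hsc]
      exact Nat.Coprime.pow_left _ ((Nat.coprime_primes hs hqp).mpr hsq)
  have hun : ∀ u ∈ (Q : Subgroup G), u ∈ Z ∨ ∃ v ∈ (Q : Subgroup G), v * u * v⁻¹ ∈ Cc := by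
    intro u hu
    have huq := exists_orderOf_eq_pow_of_mem q (Q : Subgroup G) Q.2 u hu
    rcases hdich u huq with ⟨c, hc⟩ | hcop
    · right; exact hconj u hu c hc
    · left; exact hcentral u huq hcop
  have hB4 := Cfsg.Agent.Lib.Helper18.QBLeaf.conj_mem_of_union (Q : Subgroup G) Cc Z hCQ hZQ hZc hun
  -- x ∈ Cc
  have hxQ : x ∈ (Q : Subgroup G) := mem_of_normal_sylow q Q hQn x hx
  have hyQ : y ∈ (Q : Subgroup G) := mem_of_normal_sylow q Q hQn y hy
  have hxC : x ∈ Cc := by
    obtain ⟨v, hv, hvx⟩ := hconj x hxQ a hxi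
    have := hB4 _ hvx v⁻¹ ((Q : Subgroup G).inv_mem hv)
    have h2 : v⁻¹ * (v * x * v⁻¹) * v⁻¹⁻¹ = x := by group
    rwa [h2] at this
  -- y ∈ Z
  have hyZ : y ∈ Z := by
    apply hcentral y hy
    rw [hyi]
    exact Nat.Coprime.pow_left _ ((Nat.coprime_primes hr hqp).mpr hrq)
  -- if both Q and N centralise u then C(u) = ⊤
  have hall : ∀ u : G, u ∈ Z → u ∈ Subgroup.centralizer (N : Set G) → (C(u)).index = 1 := by
    intro u huZ huN
    rw [Subgroup.index_eq_one, eq_top_iff, ← htop, sup_le_iff]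
    constructor
    · intro w hw
      rw [Subgroup.mem_centralizer_iff]
      intro t ht
      rw [Set.mem_singleton_iff] at ht
      subst ht
      exact (Subgroup.mem_centralizer_iff.mp (Subgroup.mem_inf.mp huZ).2 w hw).symm
    · intro w hw
      rw [Subgroup.mem_centralizer_iff]
      intro t ht
      rw [Set.mem_singleton_iff] at ht
      subst ht
      exact (Subgroup.mem_centralizer_iff.mp huN w hw).symm
  -- w = x * y
  have hwQ : x * y ∈ (Q : Subgroup G) := (Q : Subgroup G).mul_mem hxQ hyQ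
  have hwq := exists_orderOf_eq_pow_of_mem q (Q : Subgroup G) Q.2 (x * y) hwQ
  rcases hdich (x * y) hwq with ⟨c, hc⟩ | hcop
  · -- type q
    obtain ⟨v, hv, hvn⟩ := Cfsg.Agent.Lib.Helper1.QBLeaf.exists_conj_commute_complement q Q hQn N hN (x * y) hwQ c hc
    have hvx : v * x * v⁻¹ ∈ Cc := hB4 x hxC v hv
    have hvy : v * y * v⁻¹ = y := by
      have := hZc y hyZ v hv
      rw [← this]; group
    have hprod : v * (x * y) * v⁻¹ = (v * x * v⁻¹) * y := by
      have h0 : v * (x * y) * v⁻¹ = (v * x * v⁻¹) * (v * y * v⁻¹) := by group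
      rw [h0, hvy]
    have hyN : y ∈ Subgroup.centralizer (N : Set G) := by
      rw [Subgroup.mem_centralizer_iff]
      intro n hn
      have h1 := hvn n hn
      rw [hprod] at h1
      have h2 : n * (v * x * v⁻¹) = (v * x * v⁻¹) * n :=
        Subgroup.mem_centralizer_iff.mp (Subgroup.mem_inf.mp hvx).2 n hn
      -- n * (X * y) = (X * y) * n, n * X = X * n ⇒ n * y = y * n
      have h3 : (v * x * v⁻¹) * (n * y) = (v * x * v⁻¹) * (y * n) := by
        calc (v * x * v⁻¹) * (n * y) = ((v * x * v⁻¹) * n) * y := (mul_assoc _ _ _).symm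
          _ = (n * (v * x * v⁻¹)) * y := by rw [h2]
          _ = n * ((v * x * v⁻¹) * y) := mul_assoc _ _ _
          _ = ((v * x * v⁻¹) * y) * n := h1
          _ = (v * x * v⁻¹) * (y * n) := mul_assoc _ _ _
      exact mul_left_cancel h3
    have h1 := hall y hyZ hyN
    rw [hyi] at h1
    have : 1 < r ^ b := Nat.one_lt_pow (by omega) hr.one_lt
    omega
  · -- other type
    have hwZ : x * y ∈ Z := hcentral (x * y) hwq hcop
    have hxZ : x ∈ Z := by
      have := Z.mul_mem hwZ (Z.inv_mem hyZ)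
      rwa [mul_inv_cancel_right] at this
    have h1 := hall x hxZ (Subgroup.mem_inf.mp hxC).2
    rw [hxi] at h1
    have : 1 < q ^ a := Nat.one_lt_pow (by omega) hqp.one_lt
    omega

end Cfsg.Agent.Lib.Helper2.QBLeaf
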