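/-
helper2: corollaries of the frozen statements of Bender–Glauberman, part G:
assembly of S1431 (B&G Theorem 14.2(d),(e),(f)) from the statement of S1430, S1404, S1425 and the
uniqueness statement of B&G 13.5 (`C_G(Y) ≤ M` for `Y ≤ K*` of prime order), taken as hypotheses.
-/
import Cfsg.Agent.Lib.Helper2.BGCorF
import Cfsg.Agent.Lib.Helper21.EqOrdA

set_option autoImplicit false
set_option linter.style.haveILetI false

namespace Cfsg.Agent.Lib.Helper2.BGCor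

open Cfsg.Agent.Lib.Helper1.BGX
open Cfsg.Agent.Lib.Helper1 (card_subgroupOf_of_le)
open Pointwise

variable {G : Type*} [Group G]

/-- A nonidentity element of a finite group has a power generating a subgroup of prime order;
version returning the prime. -/
theorem exists_pow_prime_order' [Finite G] {k : G} (hk : k ≠ 1) :
    ∃ (j p : ℕ), p.Prime ∧ orderOf (k ^ j) = p ∧ p ∣ orderOf k := by
  have h1 : orderOf k ≠ 1 := fun h => hk (orderOf_eq_one_iff.mp h)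
  obtain ⟨p, hp, hpd⟩ := Nat.exists_prime_and_dvd h1
  exact ⟨orderOf k / p, p, hp, orderOf_pow_orderOf_div (orderOf_pos k).ne' hpd, hpd⟩

/-- Elements of `M_σ` have `σ(M)`-orders. -/
theorem prime_mem_sigma_of_mem_sigmaCore [Finite G] {M : Subgroup G} {y : G}
    (hy : y ∈ Cfsg.sigmaCore M) {q : ℕ} (hq : q.Prime) (hd : q ∣ orderOf y) : q ∈ Cfsg.sigma M := by
  apply primes_card_sigmaCore M q hq
  have h1 : orderOf (⟨y, hy⟩ : ↥(Cfsg.sigmaCore M)) = orderOf y := Subgroup.orderOf_mk y hy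
  rw [← h1] at hd
  exact hd.trans (orderOf_dvd_natCard _)

/-- **S1431(a)** from B&G 13.5 (uniqueness) and S1404. -/
theorem kstar_inf_conj_eq_bot [Finite G] {M K : Subgroup G}
    (h1404 : ∀ (p : ℕ) [Fact p.Prime], p ∈ Cfsg.sigma M → ∀ X : Subgroup G, IsPGroup p X → X ≠ ⊥ →
      X ≤ M → ∀ g : G, X.map (MulAut.conj g).toMonoidHom ≤ M →
        ∃ m ∈ M, ∃ c ∈ Subgroup.centralizer (X : Set G), g = m * c)
    (hU : ∀ Y : Subgroup G, Y ≤ Cfsg.sigmaCore M ⊓ Subgroup.centralizer (K : Set G) →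
      (Nat.card Y).Prime → Subgroup.centralizer (Y : Set G) ≤ M) :
    ∀ g : G, g ∉ M → (Cfsg.sigmaCore M ⊓ Subgroup.centralizer (K : Set G)) ⊓
      M.map (MulAut.conj g).toMonoidHom = ⊥ := by
  intro g hg
  rw [Subgroup.eq_bot_iff_forall]
  rintro y ⟨hyK, hyg⟩
  by_contra hy1
  apply hg
  obtain ⟨j, q, hq, hjo, hqd⟩ := exists_pow_prime_order' hy1
  haveI : Fact q.Prime := ⟨hq⟩
  set Y : Subgroup G := Subgroup.zpowers (y ^ j) with hY
  have hYK : Y ≤ Cfsg.sigmaCore M ⊓ Subgroup.centralizer (K : Set G) := by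
    rw [hY, Subgroup.zpowers_le]; exact Subgroup.pow_mem _ hyK j
  have hYcard : Nat.card Y = q := by rw [hY, Nat.card_zpowers, hjo]
  have hYM : Y ≤ M := hYK.trans (inf_le_left.trans (sigmaCore_le M))
  have hqσ : q ∈ Cfsg.sigma M := prime_mem_sigma_of_mem_sigmaCore hyK.1 hq hqd
  have hYp : IsPGroup q Y := IsPGroup.of_card (n := 1) (by rw [hYcard, pow_one])
  have hY1 : Y ≠ ⊥ := by
    intro h
    rw [h, Subgroup.card_bot] at hYcard
    exact hq.one_lt.ne hYcard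
  -- `g⁻¹ Y g ≤ M`
  have hconj : Y.map (MulAut.conj g⁻¹).toMonoidHom ≤ M := by
    rw [hY, Subgroup.map_le_iff_le_comap, Subgroup.zpowers_le]
    show (MulAut.conj g⁻¹) (y ^ j) ∈ M
    rw [MulAut.conj_apply, inv_inv]
    obtain ⟨m, hm, hmy⟩ := hyg
    have hmy' : g * m * g⁻¹ = y := hmy
    rw [← hmy']
    have : g⁻¹ * (g * m * g⁻¹) ^ j * g = m ^ j := by
      rw [conj_pow]; group
    rw [this]
    exact M.pow_mem hm j
  obtain ⟨m, hm, c, hc, hgmc⟩ := h1404 q hqσ Y hYp hY1 hYM g⁻¹ hconj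
  have hcM : c ∈ M := hU Y hYK (by rw [hYcard]; exact hq) hc
  have h2 : g = (m * c)⁻¹ := by rw [← hgmc, inv_inv]
  rw [h2]
  exact M.inv_mem (M.mul_mem hm hcM)

/-- **S1431(b)** from S1430(c) and the cyclicity of `K`. -/
theorem k_inf_conj_eq_bot [Finite G] {M K : Subgroup G} (hKc : IsCyclic K) (h : T142 M K) :
    ∀ g ∈ M, g ∉ K ⊔ (Cfsg.sigmaCore M ⊓ Subgroup.centralizer (K : Set G)) →
      K ⊓ K.map (MulAut.conj g).toMonoidHom = ⊥ := by
  intro g hgM hg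
  rw [Subgroup.eq_bot_iff_forall]
  rintro x ⟨hxK, hxg⟩
  by_contra hx1
  apply hg
  obtain ⟨j, p, hp, hjo, -⟩ := exists_pow_prime_order' hx1
  set X : Subgroup G := Subgroup.zpowers (x ^ j) with hX
  have hXK : X ≤ K := by rw [hX, Subgroup.zpowers_le]; exact K.pow_mem hxK j
  have hXcard : Nat.card X = p := by rw [hX, Nat.card_zpowers, hjo]
  have hN := (h.2.2 X hXK (by rw [hXcard]; exact hp)).1
  -- `g⁻¹ X g ≤ K`
  have hconj : X.map (MulAut.conj g⁻¹).toMonoidHom ≤ K := by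
    rw [hX, Subgroup.map_le_iff_le_comap, Subgroup.zpowers_le]
    show (MulAut.conj g⁻¹) (x ^ j) ∈ K
    rw [MulAut.conj_apply, inv_inv]
    obtain ⟨k, hk, hkx⟩ := hxg
    have hkx' : g * k * g⁻¹ = x := hkx
    rw [← hkx']
    have : g⁻¹ * (g * k * g⁻¹) ^ j * g = k ^ j := by
      rw [conj_pow]; group
    rw [this]
    exact K.pow_mem hk j
  have hcardc : Nat.card (X.map (MulAut.conj g⁻¹).toMonoidHom) = Nat.card X :=
    Subgroup.card_map_of_injective (MulAut.conj g⁻¹).injective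
  have heq : X.map (MulAut.conj g⁻¹).toMonoidHom = X :=
    Cfsg.Agent.Lib.Helper21.EqOrd.eq_of_card_eq_of_le_isCyclic hKc hconj hXK hcardc
  have hgN : g⁻¹ ∈ M ⊓ Subgroup.normalizer (X : Set G) :=
    ⟨M.inv_mem hgM, (Cfsg.Agent.Lib.Helper8.mem_normalizer_iff_map_conj).mpr heq⟩
  rw [hN] at hgN
  have := Subgroup.inv_mem _ hgN
  rwa [inv_inv] at this

/-- **S1431(d)** from S1431(a) and S1425. -/
theorem le_sigmaCore_of_inf_kstar_ne_bot [Finite G] {M K : Subgroup G}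
    (ha : ∀ g : G, g ∉ M → (Cfsg.sigmaCore M ⊓ Subgroup.centralizer (K : Set G)) ⊓
      M.map (MulAut.conj g).toMonoidHom = ⊥)
    (h1425 : ∀ Y : Subgroup G, Y ≠ ⊥ → (∀ p : ℕ, p.Prime → p ∣ Nat.card Y → p ∈ Cfsg.sigma M) →
      ∃ g : G, Y.map (MulAut.conj g).toMonoidHom ≤ Cfsg.sigmaCore M) :
    ∀ Y : Subgroup G, (∀ p : ℕ, p.Prime → p ∣ Nat.card Y → p ∈ Cfsg.sigma M) →
      Y ⊓ (Cfsg.sigmaCore M ⊓ Subgroup.centralizer (K : Set G)) ≠ ⊥ → Y ≤ Cfsg.sigmaCore M := by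
  intro Y hY hne
  have hY1 : Y ≠ ⊥ := by
    intro h
    apply hne
    rw [h, bot_inf_eq]
  obtain ⟨g, hg⟩ := h1425 Y hY1 hY
  obtain ⟨y, hy1⟩ := (Subgroup.ne_bot_iff_exists_ne_one).mp hne
  have hyY : (y : G) ∈ Y := y.2.1
  have hyK : (y : G) ∈ Cfsg.sigmaCore M ⊓ Subgroup.centralizer (K : Set G) := y.2.2
  have hy1' : (y : G) ≠ 1 := fun h => hy1 (Subtype.ext h)
  -- `g⁻¹ ∈ M`
  have hgM : g⁻¹ ∈ M := by
    by_contra hgn
    have h1 := ha g⁻¹ hgn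
    have h2 : (y : G) ∈ M.map (MulAut.conj g⁻¹).toMonoidHom := by
      refine ⟨g * y * g⁻¹, sigmaCore_le M (hg ⟨y, hyY, rfl⟩), ?_⟩
      show (MulAut.conj g⁻¹) (g * y * g⁻¹) = y
      rw [MulAut.conj_apply, inv_inv]; group
    have h3 : (y : G) ∈ (Cfsg.sigmaCore M ⊓ Subgroup.centralizer (K : Set G)) ⊓
        M.map (MulAut.conj g⁻¹).toMonoidHom := ⟨hyK, h2⟩
    rw [h1, Subgroup.mem_bot] at h3
    exact hy1' h3
  intro z hz
  have h4 : g * z * g⁻¹ ∈ Cfsg.sigmaCore M := hg ⟨z, hz, rfl⟩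
  have h5 := conj_mem_sigmaCore hgM h4
  have h6 : g⁻¹ * (g * z * g⁻¹) * g⁻¹⁻¹ = z := by group
  rwa [h6] at h5

/-- **S1431** assembled: the inputs are the statement of S1430 (`T142`), the cyclicity of `K` (S1351),
S1404, S1425, the uniqueness statement `hU` of B&G 13.5 and clause (c) (`hc`, B&G 14.2(e)). -/
theorem s1431_core [Finite G] {M K : Subgroup G} (hKc : IsCyclic K) (h : T142 M K)
    (h1404 : ∀ (p : ℕ) [Fact p.Prime], p ∈ Cfsg.sigma M → ∀ X : Subgroup G, IsPGroup p X → X ≠ ⊥ →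
      X ≤ M → ∀ g : G, X.map (MulAut.conj g).toMonoidHom ≤ M →
        ∃ m ∈ M, ∃ c ∈ Subgroup.centralizer (X : Set G), g = m * c)
    (h1425 : ∀ Y : Subgroup G, Y ≠ ⊥ → (∀ p : ℕ, p.Prime → p ∣ Nat.card Y → p ∈ Cfsg.sigma M) →
      ∃ g : G, Y.map (MulAut.conj g).toMonoidHom ≤ Cfsg.sigmaCore M)
    (hU : ∀ Y : Subgroup G, Y ≤ Cfsg.sigmaCore M ⊓ Subgroup.centralizer (K : Set G) →
      (Nat.card Y).Prime → Subgroup.centralizer (Y : Set G) ≤ M)
    (hc : ∀ (p : ℕ), p.Prime →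
      p ∣ Nat.card ↥(Cfsg.sigmaCore M ⊓ Subgroup.centralizer (K : Set G)) →
      ∀ S : Sylow p ↥(Cfsg.sigmaCore M),
        Cfsg.InUniqueMaximal
          ((S : Subgroup ↥(Cfsg.sigmaCore M)).map (Cfsg.sigmaCore M).subtype) ∧
        (S : Subgroup ↥(Cfsg.sigmaCore M)).map (Cfsg.sigmaCore M).subtype ≤ M ∧
        ¬ (S : Subgroup ↥(Cfsg.sigmaCore M)).map (Cfsg.sigmaCore M).subtype ≤
          (Cfsg.sigmaCore M ⊓ Subgroup.centralizer (K : Set G))) :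
    (∀ g : G, g ∉ M → (Cfsg.sigmaCore M ⊓ Subgroup.centralizer (K : Set G)) ⊓
        M.map (MulAut.conj g).toMonoidHom = ⊥) ∧
      (∀ g ∈ M, g ∉ K ⊔ (Cfsg.sigmaCore M ⊓ Subgroup.centralizer (K : Set G)) →
        K ⊓ K.map (MulAut.conj g).toMonoidHom = ⊥) ∧
      (∀ (p : ℕ), p.Prime →
        p ∣ Nat.card ↥(Cfsg.sigmaCore M ⊓ Subgroup.centralizer (K : Set G)) →
        ∀ S : Sylow p ↥(Cfsg.sigmaCore M),
          Cfsg.InUniqueMaximal
            ((S : Subgroup ↥(Cfsg.sigmaCore M)).map (Cfsg.sigmaCore M).subtype) ∧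
          (S : Subgroup ↥(Cfsg.sigmaCore M)).map (Cfsg.sigmaCore M).subtype ≤ M ∧
          ¬ (S : Subgroup ↥(Cfsg.sigmaCore M)).map (Cfsg.sigmaCore M).subtype ≤
            (Cfsg.sigmaCore M ⊓ Subgroup.centralizer (K : Set G))) ∧
      ∀ Y : Subgroup G, (∀ p : ℕ, p.Prime → p ∣ Nat.card Y → p ∈ Cfsg.sigma M) →
        Y ⊓ (Cfsg.sigmaCore M ⊓ Subgroup.centralizer (K : Set G)) ≠ ⊥ → Y ≤ Cfsg.sigmaCore M := by
  have ha := kstar_inf_conj_eq_bot (K := K) h1404 hU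
  exact ⟨ha, k_inf_conj_eq_bot hKc h, hc, le_sigmaCore_of_inf_kstar_ne_bot ha h1425⟩

end Cfsg.Agent.Lib.Helper2.BGCor
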