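import Mathlib
import Cfsg.Agent.Lib.Helper2.BGCorM
import Cfsg.Agent.Lib.Helper2.BGCorG
import Cfsg.Agent.S1404

/-!
# S1431 from `κ(M) ∩ τ₃(M) = ∅` (helper2)

Assembly of the conclusion of S1431 (B & G 14.2(d),(e),(f)) from Theorem T1
(`s1430_of_kappa_tau3_empty`), B & G 13.6 (`thm13_6`), `s1431_core`, and the statement of S1425
for `M`.  The argument for "`S ≰ K*`" is helper21's.
-/

set_option autoImplicit false
set_option linter.style.haveILetI false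
open scoped commutatorElement

namespace Cfsg.Agent.Lib.Helper2.BGCor

open Cfsg Cfsg.Agent.Lib.Helper1.BGX
open Cfsg.Agent.Lib.Helper8 (mem_map_conj conj_mem_map_conj map_conj_map_conj map_conj_one
  map_conj_le_iff map_conj_eq_iff card_map_conj mem_normalizer_iff_map_conj IsSylIn sylow_smul_coe)
open Cfsg.Agent.Lib.Helper17.BGU (exists_coatom_ge normalizer_ne_top)
open Cfsg.Agent.Lib.Helper16.BGPrim (thm13_2_zero)

variable {G : Type*} [Group G]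

/-- the statement of S1425 for `M`. -/
def H25 (M : Subgroup G) : Prop :=
  ∀ Y : Subgroup G, Y ≠ ⊥ → (∀ p : ℕ, p.Prime → p ∣ Nat.card Y → p ∈ Cfsg.sigma M) →
    ∃ g : G, Y.map (MulAut.conj g).toMonoidHom ≤ Cfsg.sigmaCore M

/-- **S1431** from `κ(M) ∩ τ₃(M) = ∅`, the statements of S1425 and S1428 for `M`, Corollary R and
Corollary G1. -/
theorem s1431_of_kappa_tau3_empty [Finite G] (hG : Cfsg.IsMinSimpleOddOrder G) {M : Subgroup G}
    (hM : IsCoatom M) (h28 : H28 M) (hR : CorR M) (hG1 : CorG1 M) (h25 : H25 M)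
    (hκτ3 : ∀ p : ℕ, p ∈ Cfsg.kappa M → p ∉ Cfsg.tau3 M) {K : Subgroup G}
    (hK : Cfsg.IsPiHallOf (Cfsg.kappa M) K M) (hK1 : K ≠ ⊥) :
    (∀ g : G, g ∉ M → (Cfsg.sigmaCore M ⊓ Subgroup.centralizer (K : Set G)) ⊓
        M.map (MulAut.conj g).toMonoidHom = ⊥) ∧
      (∀ g ∈ M, g ∉ K ⊔ (Cfsg.sigmaCore M ⊓ Subgroup.centralizer (K : Set G)) →
        K ⊓ K.map (MulAut.conj g).toMonoidHom = ⊥) ∧
      (∀ (p : ℕ), p.Prime →
        p ∣ Nat.card ↥(Cfsg.sigmaCore M ⊓ Subgroup.centralizer (K : Set G)) →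
        ∀ S : Sylow p ↥(Cfsg.sigmaCore M),
          Cfsg.InUniqueMaximal
            ((S : Subgroup ↥(Cfsg.sigmaCore M)).map (Cfsg.sigmaCore M).subtype) ∧
          (S : Subgroup ↥(Cfsg.sigmaCore M)).map (Cfsg.sigmaCore M).subtype ≤ M ∧
          ¬ (S : Subgroup ↥(Cfsg.sigmaCore M)).map (Cfsg.sigmaCore M).subtype ≤
            (Cfsg.sigmaCore M ⊓ Subgroup.centralizer (K : Set G))) ∧
      ∀ Y : Subgroup G, (∀ p : ℕ, p.Prime → p ∣ Nat.card Y → p ∈ Cfsg.sigma M) →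
        Y ⊓ (Cfsg.sigmaCore M ⊓ Subgroup.centralizer (K : Set G)) ≠ ⊥ → Y ≤ Cfsg.sigmaCore M := by
  haveI := hG.2.1
  have hT := s1430_of_kappa_tau3_empty hG hM h28 hR hG1 hκτ3 hK hK1
  obtain ⟨E, hE, hKE⟩ := exists_compl_ge_kappa hG hM hK
  have hκτ1 : ∀ p : ℕ, p ∈ Cfsg.kappa M → p ∈ Cfsg.tau1 M :=
    fun p hp => kappa_subset_tau1 hκτ3 hp
  -- a subgroup `P ≤ K` of prime order
  have hcard : Nat.card K ≠ 1 := fun h => hK1 (Subgroup.card_eq_one.mp h)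
  obtain ⟨p, hp, hpd⟩ := Nat.exists_prime_and_dvd hcard
  haveI : Fact p.Prime := ⟨hp⟩
  obtain ⟨x, hx⟩ := exists_prime_orderOf_dvd_card' p hpd
  have hxo : orderOf (x : G) = p := by rw [Subgroup.orderOf_coe, hx]
  have hpκ : p ∈ Cfsg.kappa M := hK.2.1 p hp hpd
  have hpτ : p ∈ Cfsg.tau1 M := hκτ1 p hpκ
  have hτ1κ : ∀ r : ℕ, r ∈ Cfsg.tau1 M → r ∈ Cfsg.kappa M :=
    fun r hr => tau1_subset_kappa hG hM h28 hE (hKE x.2) hxo hpκ hpτ hr
  obtain ⟨P, hPdef⟩ : ∃ P : Subgroup G, P = Subgroup.zpowers (x : G) := ⟨_, rfl⟩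
  have hPK : P ≤ K := hPdef ▸ Subgroup.zpowers_le.mpr x.2
  have hPc : Nat.card P = p := by rw [hPdef, Nat.card_zpowers, hxo]
  have hPE : P ≤ E := hPK.trans hKE
  have hKstarP : Cfsg.sigmaCore M ⊓ Subgroup.centralizer (K : Set G) ≤
      Cfsg.sigmaCore M ⊓ Subgroup.centralizer (P : Set G) :=
    inf_le_inf_left _ (Subgroup.centralizer_le (by exact_mod_cast hPK))
  -- `K` is cyclic
  have hKτ := isPiHallOf_tau1_of_kappa hκτ1 hτ1κ hE.1 hK hKE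
  obtain ⟨-, h15, -⟩ := Cfsg.Agent.S1415.result hG M hM E hE
  have hKcyc : IsCyclic ↥K := h15 K hKτ
  -- S1404
  have h1404 : ∀ (p : ℕ) [Fact p.Prime], p ∈ Cfsg.sigma M → ∀ X : Subgroup G, IsPGroup p X →
      X ≠ ⊥ → X ≤ M → ∀ g : G, X.map (MulAut.conj g).toMonoidHom ≤ M →
        ∃ m ∈ M, ∃ c ∈ Subgroup.centralizer (X : Set G), g = m * c :=
    fun p _ hp X hXp hX1 hXM => (Cfsg.Agent.S1404.result hG M hM p hp X hXp hX1 hXM).1
  -- `hU`
  have hU : ∀ Y : Subgroup G, Y ≤ Cfsg.sigmaCore M ⊓ Subgroup.centralizer (K : Set G) →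
      (Nat.card Y).Prime → Subgroup.centralizer (Y : Set G) ≤ M := by
    intro Y hY hYp
    haveI : Fact (Nat.card Y).Prime := ⟨hYp⟩
    exact (thm13_6 hG hM h28 hR hE hPE hpτ hPc rfl (hY.trans hKstarP)).1.1
  -- `hc`
  have hc : ∀ (q : ℕ), q.Prime →
      q ∣ Nat.card ↥(Cfsg.sigmaCore M ⊓ Subgroup.centralizer (K : Set G)) →
      ∀ S : Sylow q ↥(Cfsg.sigmaCore M),
        Cfsg.InUniqueMaximal
          ((S : Subgroup ↥(Cfsg.sigmaCore M)).map (Cfsg.sigmaCore M).subtype) ∧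
        (S : Subgroup ↥(Cfsg.sigmaCore M)).map (Cfsg.sigmaCore M).subtype ≤ M ∧
        ¬ (S : Subgroup ↥(Cfsg.sigmaCore M)).map (Cfsg.sigmaCore M).subtype ≤
          (Cfsg.sigmaCore M ⊓ Subgroup.centralizer (K : Set G)) := by
    intro q hq hqd S
    haveI : Fact q.Prime := ⟨hq⟩
    obtain ⟨y, hy⟩ := exists_prime_orderOf_dvd_card' q hqd
    obtain ⟨X, hXdef⟩ : ∃ X : Subgroup G, X = Subgroup.zpowers (y : G) := ⟨_, rfl⟩
    have hXc : Nat.card X = q := by rw [hXdef, Nat.card_zpowers, Subgroup.orderOf_coe, hy]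
    have hXK : X ≤ Cfsg.sigmaCore M ⊓ Subgroup.centralizer (K : Set G) :=
      hXdef ▸ Subgroup.zpowers_le.mpr y.2
    obtain ⟨-, hS⟩ := thm13_6 hG hM h28 hR hE hPE hpτ hPc hXc (hXK.trans hKstarP)
    obtain ⟨hSu, hSM⟩ := hS S
    refine ⟨hSu, hSM, ?_⟩
    intro hSK
    -- helper21's argument
    have hP1 : P ≠ ⊥ := by
      intro h
      rw [h, Subgroup.card_bot] at hPc
      exact hp.one_lt.ne hPc
    have hPtop : P ≠ ⊤ := fun h => hM.1 (top_le_iff.mp (h ▸ hPE.trans hE.1))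
    obtain ⟨H, hH, hNH⟩ := exists_coatom_ge (normalizer_ne_top hP1 hPtop)
    have hSH : (S : Subgroup ↥(Cfsg.sigmaCore M)).map (Cfsg.sigmaCore M).subtype ≤ H :=
      ((hSK.trans hKstarP).trans inf_le_right).trans
        ((Subgroup.centralizer_le_normalizer _).trans hNH)
    obtain ⟨L, -, hLu⟩ := hSu
    have hHM : H = M := (hLu H ⟨hH, hSH⟩).trans (hLu M ⟨hM, hSM⟩).symm
    have hPp : IsPGroup p P := IsPGroup.of_card (n := 1) (by rw [hPc, pow_one])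
    obtain ⟨hnc, -, -⟩ := thm13_2_zero hG hH hpτ.2.1 hpτ.2.2.2.2 hPp hP1 hNH
    apply hnc 1
    rw [map_conj_one]
    exact hHM
  exact s1431_core hKcyc hT h1404 h25 hU hc

end Cfsg.Agent.Lib.Helper2.BGCor
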