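import Mathlib
import Cfsg.Agent.Lib.Helper2.BGCorL

/-!
# S1351 from `κ(M) ∩ τ₃(M) = ∅` (helper2)

Hall `κ(M)`-subgroups of `M` exist (`M` is solvable) and are cyclic: if `K ≠ 1` then
`κ(M) = τ₁(M)` (Theorem T1, step 1) and `K` is a Hall `τ₁(M)`-subgroup of a complement of `M_σ`,
hence cyclic by S1415.
-/

set_option autoImplicit false
set_option linter.style.haveILetI false

namespace Cfsg.Agent.Lib.Helper2.BGCor

open Cfsg Cfsg.Agent.Lib.Helper1.BGX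

variable {G : Type*} [Group G]

/-- **S1351** from `κ(M) ∩ τ₃(M) = ∅` and the statement of S1428 for `M`. -/
theorem s1351_of_kappa_tau3_empty [Finite G] (hG : Cfsg.IsMinSimpleOddOrder G) {M : Subgroup G}
    (hM : IsCoatom M) (h28 : H28 M)
    (hκτ3 : ∀ p : ℕ, p ∈ Cfsg.kappa M → p ∉ Cfsg.tau3 M) :
    (∃ K : Subgroup G, Cfsg.IsPiHallOf (Cfsg.kappa M) K M) ∧
      ∀ K : Subgroup G, Cfsg.IsPiHallOf (Cfsg.kappa M) K M → IsCyclic K := by
  refine ⟨?_, ?_⟩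
  · obtain ⟨K, hK, -⟩ := exists_hall_ge hG hM (Cfsg.kappa M) (bot_le : (⊥ : Subgroup G) ≤ M)
      (fun p hp hd => by
        rw [Subgroup.card_bot] at hd
        exact absurd (Nat.dvd_one.mp hd) hp.one_lt.ne')
    exact ⟨K, hK⟩
  · intro K hK
    by_cases hK1 : K = ⊥
    · rw [hK1]
      infer_instance
    obtain ⟨E, hE, hKE⟩ := exists_compl_ge_kappa hG hM hK
    have hκτ1 : ∀ p : ℕ, p ∈ Cfsg.kappa M → p ∈ Cfsg.tau1 M :=
      fun p hp => kappa_subset_tau1 hκτ3 hp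
    have hcard : Nat.card K ≠ 1 := fun h => hK1 (Subgroup.card_eq_one.mp h)
    obtain ⟨p, hp, hpd⟩ := Nat.exists_prime_and_dvd hcard
    haveI : Fact p.Prime := ⟨hp⟩
    obtain ⟨x, hx⟩ := exists_prime_orderOf_dvd_card' p hpd
    have hxo : orderOf (x : G) = p := by rw [Subgroup.orderOf_coe, hx]
    have hpκ : p ∈ Cfsg.kappa M := hK.2.1 p hp hpd
    have hτ1κ : ∀ r : ℕ, r ∈ Cfsg.tau1 M → r ∈ Cfsg.kappa M :=
      fun r hr => tau1_subset_kappa hG hM h28 hE (hKE x.2) hxo hpκ (hκτ1 p hpκ) hr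
    have hKτ := isPiHallOf_tau1_of_kappa hκτ1 hτ1κ hE.1 hK hKE
    obtain ⟨-, h15, -⟩ := Cfsg.Agent.S1415.result hG M hM E hE
    exact h15 K hKτ

end Cfsg.Agent.Lib.Helper2.BGCor
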