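import Mathlib
import Cfsg.Prelude.Def_Characters
import Cfsg.Agent.Lib.Helper24.BSWDefs
import Cfsg.Agent.Lib.Helper16.BSWT1Defs

/-!
# S3282-T1-TA (helper2): `card_involutions`
-/

set_option autoImplicit false
open Cfsg Cfsg.Agent.Lib.Helper24.BSW Cfsg.Agent.Lib.Helper16.BSWT1

namespace Cfsg.Agent.Lib.Helper2.BSWT1TA

variable {G : Type*} [Group G]

/-- conjugation preserves the order -/
theorem orderOf_conj_eq (n u : G) : orderOf (n * u * n⁻¹) = orderOf u := by
  have h := orderOf_injective (MulAut.conj n).toMonoidHom (MulAut.conj n).injective u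
  simpa [MulAut.conj_apply] using h

/-- the conjugates of `t` are in bijection with the cosets of `C(t)` -/
theorem card_conj_eq_index (t : G) :
    Nat.card {u : G // ∃ g : G, g * t * g⁻¹ = u} = (Subgroup.centralizer ({t} : Set G)).index := by
  rw [Subgroup.index]
  symm
  have hwd : ∀ a b : G, QuotientGroup.leftRel (Subgroup.centralizer ({t} : Set G)) a b →
      (⟨a * t * a⁻¹, a, rfl⟩ : {u : G // ∃ g : G, g * t * g⁻¹ = u}) = ⟨b * t * b⁻¹, b, rfl⟩ := by
    intro a b hab
    rw [QuotientGroup.leftRel_apply, Subgroup.mem_centralizer_singleton_iff] at hab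
    apply Subtype.ext
    show a * t * a⁻¹ = b * t * b⁻¹
    have h1 : t = (a⁻¹ * b) * t * (a⁻¹ * b)⁻¹ := by
      rw [hab]; group
    calc a * t * a⁻¹ = a * ((a⁻¹ * b) * t * (a⁻¹ * b)⁻¹) * a⁻¹ := by rw [← h1]
      _ = b * t * b⁻¹ := by group
  refine Nat.card_congr (Equiv.ofBijective
    (fun q : G ⧸ Subgroup.centralizer ({t} : Set G) =>
      Quotient.liftOn' q (fun a => (⟨a * t * a⁻¹, a, rfl⟩ : {u : G // ∃ g : G, g * t * g⁻¹ = u}))
        hwd) ⟨?_, ?_⟩)
  · intro q₁ q₂
    induction q₁ using Quotient.inductionOn' with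
    | h a =>
      induction q₂ using Quotient.inductionOn' with
      | h b =>
        intro hab
        have h1 : a * t * a⁻¹ = b * t * b⁻¹ := congrArg Subtype.val hab
        apply Quotient.sound'
        rw [QuotientGroup.leftRel_apply, Subgroup.mem_centralizer_singleton_iff]
        calc a⁻¹ * b * t = a⁻¹ * (b * t * b⁻¹) * b := by group
          _ = a⁻¹ * (a * t * a⁻¹) * b := by rw [h1]
          _ = t * (a⁻¹ * b) := by group
  · rintro ⟨u, g, rfl⟩
    exact ⟨Quotient.mk'' g, rfl⟩

/-- **TA** the involutions are the conjugates of `t`. -/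
theorem card_involutions [Finite G] {t s : G} {K : Subgroup G} (h : Hyp t s K) :
    Nat.card {u : G // orderOf u = 2} = (Subgroup.centralizer ({t} : Set G)).index := by
  rw [← card_conj_eq_index t]
  apply Nat.card_congr
  refine Equiv.subtypeEquivRight ?_
  intro u
  constructor
  · intro hu
    exact isConj_iff.1 (h.hconj t u h.ht hu)
  · rintro ⟨g, rfl⟩
    rw [orderOf_conj_eq, h.ht]

end Cfsg.Agent.Lib.Helper2.BSWT1TA
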