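import Mathlib
import Cfsg.Prelude.Def_Characters
import Cfsg.Agent.Lib.Helper24.BSWDefs
import Cfsg.Agent.Lib.Helper16.BSWT1Defs
import Cfsg.Agent.Lib.Helper16.BSWB1
import Cfsg.Agent.Lib.Helper12.BSWB8
import Cfsg.Agent.Lib.Helper2.BSWG
import Cfsg.Agent.Lib.Helper2.BSWG2
import Cfsg.Agent.Lib.Helper2.BSWG4

/-!
# S3282-T1-TF (helper2): `real_struct`
-/

set_option autoImplicit false
open Cfsg Cfsg.Agent.Lib.Helper24.BSW Cfsg.Agent.Lib.Helper16.BSWT1

namespace Cfsg.Agent.Lib.Helper2.BSWT1TF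

variable {G : Type*} [Group G] [Finite G]

/-- **TF** structure of a real `y ∈ RR` when `|K| = 2`. -/
theorem real_struct {t s : G} {K : Subgroup G} (h : Hyp t s K) (hk : Nat.card K = 2) :
    ∀ y ∈ RR K, ∀ u : G, orderOf u = 2 → u * y * u⁻¹ = y⁻¹ →
      Odd (Nat.card (Subgroup.centralizer ({y} : Set G))) ∧
      3 ≤ Nat.card (Subgroup.centralizer ({y} : Set G)) ∧
      invCount y = Nat.card (Subgroup.centralizer ({y} : Set G)) ∧
      Nat.card (Subgroup.normalizer ((Subgroup.centralizer ({y} : Set G) : Subgroup G) : Set G)) =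
        2 * Nat.card (Subgroup.centralizer ({y} : Set G)) ∧
      Nat.card (Subgroup.centralizer ({y} : Set G)) ∣
        (Subgroup.centralizer ({t} : Set G)).index := by
  intro y hy u hu huy
  classical
  have hB8 := Cfsg.Agent.Lib.Helper12.BSWB8.RR_centralizer h
  have hodd := (hB8 y hy).1
  have hG2 := Cfsg.Agent.Lib.Helper2.BSWG2.invCount_eq_card h y hy u hu huy
  obtain ⟨hG4a, hG4b, -⟩ := Cfsg.Agent.Lib.Helper2.BSWG4.normalizer_struct h y hy u hu huy
  have huinv := Cfsg.Agent.Lib.Helper2.BSWG.inv_eq_self_of_orderOf_two hu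
  have hyM : y ∈ Subgroup.centralizer ({y} : Set G) := by
    rw [Subgroup.mem_centralizer_singleton_iff]
  -- `3 ≤ m`
  have hm3 : 3 ≤ Nat.card (Subgroup.centralizer ({y} : Set G)) := by
    have h1 : Nat.card (Subgroup.centralizer ({y} : Set G)) ≠ 1 := by
      intro h1
      have h2 := Subgroup.card_eq_one.1 h1
      rw [h2, Subgroup.mem_bot] at hyM
      exact hy.1 hyM
    have h0 : 0 < Nat.card (Subgroup.centralizer ({y} : Set G)) := Nat.card_pos
    obtain ⟨k, hk⟩ := hodd
    omega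
  -- `|E| = 2`
  obtain ⟨x, hx⟩ := isConj_iff.1 (h.hconj t u h.ht hu)
  have hEle := hG4b x hx
  have hcardmap : Nat.card (K.map (MulAut.conj x).toMonoidHom) = 2 := by
    rw [← hk]
    exact Subgroup.card_map_of_injective (MulAut.conj x).injective
  have huN : u ∈ Subgroup.normalizer
      ((Subgroup.centralizer ({y} : Set G) : Subgroup G) : Set G) := by
    rw [Subgroup.mem_normalizer_iff]
    intro c
    constructor
    · exact Cfsg.Agent.Lib.Helper2.BSWG.conj_mem_centralizer_of_inverts y u huy c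
    · intro hc
      have huy' : u⁻¹ * y * u⁻¹⁻¹ = y⁻¹ := by
        rw [huinv]
        exact huy
      have h1 := Cfsg.Agent.Lib.Helper2.BSWG.conj_mem_centralizer_of_inverts y u⁻¹ huy' _ hc
      have h2 : u⁻¹ * (u * c * u⁻¹) * u⁻¹⁻¹ = c := by group
      rwa [h2] at h1
  have huE : u ∈ Subgroup.normalizer
      ((Subgroup.centralizer ({y} : Set G) : Subgroup G) : Set G)
        ⊓ Subgroup.centralizer ({u} : Set G) := by
    refine Subgroup.mem_inf.2 ⟨huN, ?_⟩
    rw [Subgroup.mem_centralizer_singleton_iff]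
  have hu1 : u ≠ 1 := by
    intro h1
    rw [h1, orderOf_one] at hu
    omega
  have hE2 : Nat.card ↥(Subgroup.normalizer
      ((Subgroup.centralizer ({y} : Set G) : Subgroup G) : Set G)
        ⊓ Subgroup.centralizer ({u} : Set G)) = 2 := by
    have h1 := Subgroup.card_dvd_of_le hEle
    rw [hcardmap] at h1
    rcases (Nat.dvd_prime Nat.prime_two).1 h1 with h2 | h2
    · exfalso
      have h3 := Subgroup.card_eq_one.1 h2
      rw [h3, Subgroup.mem_bot] at huE
      exact hu1 huE
    · exact h2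
  refine ⟨hodd, hm3, hG2, ?_, ?_⟩
  · rw [hG4a, hE2, mul_comm]
  · -- `m ∣ |G| = 4 j`, `m` odd
    have hB1 := (Cfsg.Agent.Lib.Helper16.BSWB1.card_centralizer h).1
    rw [hk] at hB1
    have h1 : Nat.card (Subgroup.centralizer ({y} : Set G)) ∣ Nat.card G :=
      Subgroup.card_subgroup_dvd_card _
    rw [← (Subgroup.centralizer ({t} : Set G)).card_mul_index, hB1] at h1
    have hcop : (Nat.card (Subgroup.centralizer ({y} : Set G))).Coprime (2 * 2) := by
      have h2 : (Nat.card (Subgroup.centralizer ({y} : Set G))).Coprime 2 :=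
        Nat.coprime_two_right.2 hodd
      exact Nat.Coprime.mul_right h2 h2
    exact hcop.dvd_of_dvd_mul_left h1

end Cfsg.Agent.Lib.Helper2.BSWT1TF
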