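import Mathlib
import Cfsg.Prelude.Def_Characters
import Cfsg.Agent.Lib.Helper24.BSWDefs
import Cfsg.Agent.Lib.Helper16.BSWT1Defs
import Cfsg.Agent.Lib.Helper14.BSWB0a
import Cfsg.Agent.Lib.Helper12.BSWB8
import Cfsg.Agent.Lib.Helper2.BSWG1
import Cfsg.Agent.Lib.Helper2.BSWG2
import Cfsg.Agent.Lib.Helper2.BSWG3

/-!
# S3282-T1-TH (helper2): `cls_props`
-/

set_option autoImplicit false
open Cfsg Cfsg.Agent.Lib.Helper24.BSW Cfsg.Agent.Lib.Helper16.BSWT1

namespace Cfsg.Agent.Lib.Helper2.BSWT1TH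

variable {G : Type*} [Group G]

/-- centralizers and conjugation -/
theorem conj_mem_centralizer_conj_iff (g w z : G) :
    g * w * g⁻¹ ∈ Subgroup.centralizer ({g * z * g⁻¹} : Set G) ↔
      w ∈ Subgroup.centralizer ({z} : Set G) := by
  rw [Subgroup.mem_centralizer_singleton_iff, Subgroup.mem_centralizer_singleton_iff]
  constructor
  · intro h1
    have h2 : g * (w * z) * g⁻¹ = g * (z * w) * g⁻¹ := by
      calc g * (w * z) * g⁻¹ = g * w * g⁻¹ * (g * z * g⁻¹) := by group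
        _ = g * z * g⁻¹ * (g * w * g⁻¹) := h1
        _ = g * (z * w) * g⁻¹ := by group
    exact mul_left_cancel (mul_right_cancel h2)
  · intro h1
    calc g * w * g⁻¹ * (g * z * g⁻¹) = g * (w * z) * g⁻¹ := by group
      _ = g * (z * w) * g⁻¹ := by rw [h1]
      _ = g * z * g⁻¹ * (g * w * g⁻¹) := by group

variable [Finite G]

/-- **TH** -/
theorem cls_props {t s : G} {K : Subgroup G} (h : Hyp t s K) (hk : Nat.card K = 2) :
    ∀ y ∈ RR K, ∀ u : G, orderOf u = 2 → u * y * u⁻¹ = y⁻¹ →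
      ∀ z ∈ cls y, z ∈ RR K ∧ invCount z = invCount y ∧ cls z = cls y := by
  intro y hy u hu huy z hz
  obtain ⟨hz1, g, hg⟩ := hz
  have hB8 := Cfsg.Agent.Lib.Helper12.BSWB8.RR_centralizer h
  have hG1 := Cfsg.Agent.Lib.Helper2.BSWG1.inverts_centralizer h y hy u hu huy
  have hG2 := Cfsg.Agent.Lib.Helper2.BSWG2.invCount_eq_card h
  have hG3 := (Cfsg.Agent.Lib.Helper2.BSWG3.centralizer_eq_of_mem h y hy u hu huy).2
  have hz'1 : g * z * g⁻¹ ≠ 1 := by
    intro h1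
    apply hz1
    have h2 : z = g⁻¹ * (g * z * g⁻¹) * g := by group
    rw [h2, h1]
    group
  have hz'RR : g * z * g⁻¹ ∈ RR K := (hB8 y hy).2 _ hg hz'1
  have hzRR : z ∈ RR K := (Cfsg.Agent.Lib.Helper14.BSWB0a.conj_mem_RR_iff K g z).1 hz'RR
  have huz' := hG1 _ hg
  have hCz' := hG3 _ hg hz'1
  refine ⟨hzRR, ?_, ?_⟩
  · rw [← Cfsg.Agent.Lib.Helper14.BSWB0a.invCount_conj g z, hG2 _ hz'RR u hu huz', hCz',
      ← hG2 y hy u hu huy]
  · ext w
    constructor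
    · rintro ⟨hw1, a, ha⟩
      refine ⟨hw1, g * a, ?_⟩
      rw [← hCz']
      have h1 := (conj_mem_centralizer_conj_iff g (a * w * a⁻¹) z).2 ha
      have h2 : g * a * w * (g * a)⁻¹ = g * (a * w * a⁻¹) * g⁻¹ := by group
      rw [h2]
      exact h1
    · rintro ⟨hw1, b, hb⟩
      refine ⟨hw1, g⁻¹ * b, ?_⟩
      rw [← hCz'] at hb
      rw [← conj_mem_centralizer_conj_iff g]
      have h2 : g * (g⁻¹ * b * w * (g⁻¹ * b)⁻¹) * g⁻¹ = b * w * b⁻¹ := by group
      rw [h2]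
      exact hb

end Cfsg.Agent.Lib.Helper2.BSWT1TH
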