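/-
helper2: BS-QUOT (`quot_data`) of the S4705 market "BS" (`notes/S4705_leaves.lean`, planner helper6).
`P` a Sylow `p`-subgroup of order `p`, not normal, `|N_G(P) : C_G(P)| = 2`, every `p`-regular element of `C_G(P)` central (so `C_G(P) = P × Z(G)`):
in `Gbar = G / Z(G)` the image `Q` of `P` is a Sylow `p`-subgroup of order `p`, `C(y) = Q` for `y ∈ Q \ 1`, `|N(Q)| = 2p`, `Q` not normal.
-/
import Mathlib
import Cfsg.Prelude.Def_BlockRank
import Cfsg.Agent.Lib.Helper6.BRHDefs

set_option autoImplicit false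

namespace Cfsg.Agent.Lib.Helper2.BSQUOT

open Cfsg Cfsg.Agent.Lib.Helper8.DOM Cfsg.Agent.Lib.Helper27.DO

universe u

variable {G : Type u} [Group G] [Finite G] {p : ℕ} [Fact p.Prime]

/-- a `p`-element of `C_G(P)` lies in the Sylow `p`-subgroup `P` -/
theorem mem_of_pow_eq_one (P : Sylow p G) {g : G} (hg : g ∈ Cz (P : Subgroup G)) {k : ℕ}
    (hk : g ^ (p ^ k) = 1) : g ∈ (P : Subgroup G) := by
  have hcomm : ∀ x ∈ (P : Subgroup G), x * g = g * x := fun x hx =>
    Subgroup.mem_centralizer_iff.mp hg x hx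
  have hK : IsPGroup p (Subgroup.zpowers g) := by
    rintro ⟨h, hh⟩
    obtain ⟨i, rfl⟩ := Subgroup.mem_zpowers_iff.mp hh
    refine ⟨k, Subtype.ext ?_⟩
    show (g ^ i) ^ (p ^ k) = 1
    rw [← zpow_natCast, ← zpow_mul, mul_comm, zpow_mul, zpow_natCast, hk, one_zpow]
  have hKN : Subgroup.zpowers g ≤ Subgroup.normalizer ((P : Subgroup G) : Set G) := by
    rw [Subgroup.zpowers_le]
    rw [Subgroup.mem_normalizer_iff]
    intro x
    constructor
    · intro hx
      have : g * x * g⁻¹ = x := by rw [← hcomm x hx, mul_inv_cancel_right]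
      rw [this]
      exact hx
    · intro hx
      have h1 := hcomm _ hx
      have : x = g * x * g⁻¹ := by
        have h2 : g * x * g⁻¹ * g = g * (g * x * g⁻¹) := h1
        rw [inv_mul_cancel_right] at h2
        have h3 : x = g * x * g⁻¹ := mul_left_cancel h2
        exact h3
      rw [this]
      exact hx
  have hsup : IsPGroup p (Subgroup.zpowers g ⊔ (P : Subgroup G) : Subgroup G) :=
    IsPGroup.to_sup_of_normal_right' hK P.2 hKN
  have heq := P.is_maximal' hsup le_sup_right
  have : g ∈ (Subgroup.zpowers g ⊔ (P : Subgroup G) : Subgroup G) :=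
    (le_sup_left : Subgroup.zpowers g ≤ _) (Subgroup.mem_zpowers g)
  rw [heq] at this
  exact this

/-- a non-trivial element generates `P` -/
theorem zpowers_eq (P : Sylow p G) (hP : Nat.card (P : Subgroup G) = p) {x : G}
    (hx : x ∈ (P : Subgroup G)) (hx1 : x ≠ 1) : Subgroup.zpowers x = (P : Subgroup G) := by
  have hpp : p.Prime := Fact.out
  have hle : Subgroup.zpowers x ≤ (P : Subgroup G) := Subgroup.zpowers_le.mpr hx
  apply Subgroup.eq_of_le_of_card_ge hle
  rw [hP, Nat.card_zpowers]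
  have h1 : orderOf x ∣ p := by
    have := Subgroup.orderOf_dvd_natCard (P : Subgroup G) hx
    rwa [hP] at this
  rcases (Nat.dvd_prime hpp).mp h1 with h | h
  · exact absurd (orderOf_eq_one_iff.mp h) hx1
  · exact h.ge

/-- the centre is a `p'`-group -/
theorem center_reg (P : Sylow p G) (hP : Nat.card (P : Subgroup G) = p)
    (hnn : ¬ (P : Subgroup G).Normal) : ∀ z ∈ Subgroup.center G, ¬ p ∣ orderOf z := by
  intro z hz hdvd
  have hpp : p.Prime := Fact.out
  have hord : orderOf z ≠ 0 := (orderOf_pos z).ne'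
  set z' := z ^ (orderOf z / p) with hz'
  have hz'ord : orderOf z' = p := orderOf_pow_orderOf_div hord hdvd
  have hz'Z : z' ∈ Subgroup.center G := Subgroup.pow_mem _ hz _
  have hz'C : z' ∈ Cz (P : Subgroup G) := by
    rw [Subgroup.mem_centralizer_iff]
    intro x _
    exact (Subgroup.mem_center_iff.mp hz'Z x)
  have hz'P : z' ∈ (P : Subgroup G) := by
    apply mem_of_pow_eq_one P hz'C (k := 1)
    rw [pow_one, ← hz'ord]
    exact pow_orderOf_eq_one z'
  have hz'1 : z' ≠ 1 := by
    intro h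
    rw [h, orderOf_one] at hz'ord
    exact hpp.one_lt.ne hz'ord
  have hgen := zpowers_eq P hP hz'P hz'1
  apply hnn
  constructor
  intro x hx g
  have hxZ : x ∈ Subgroup.center G := by
    rw [← hgen] at hx
    obtain ⟨i, rfl⟩ := Subgroup.mem_zpowers_iff.mp hx
    exact Subgroup.zpow_mem _ hz'Z i
  have : g * x * g⁻¹ = x := by
    rw [Subgroup.mem_center_iff.mp hxZ g, mul_inv_cancel_right]
  rw [this]
  exact hx

/-- `C_G(P) = P Z(G)` -/
theorem exists_mul_of_mem_Cz (P : Sylow p G)
    (hV : ∀ y ∈ Cz (P : Subgroup G), ¬ p ∣ orderOf y → y ∈ Subgroup.center G)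
    {g : G} (hg : g ∈ Cz (P : Subgroup G)) :
    ∃ x ∈ (P : Subgroup G), ∃ z ∈ Subgroup.center G, g = x * z := by
  have hpp : p.Prime := Fact.out
  have hn : orderOf g ≠ 0 := (orderOf_pos g).ne'
  obtain ⟨k, m, hm, hnkm⟩ := Nat.exists_eq_pow_mul_and_not_dvd hn p hpp.ne_one
  have hcop : Nat.Coprime (p ^ k) m := Nat.Coprime.pow_left k ((Nat.Prime.coprime_iff_not_dvd hpp).mpr hm)
  set g1 := g ^ (p ^ k) with hg1
  set g2 := g ^ m with hg2
  have hg1C : g1 ∈ Cz (P : Subgroup G) := Subgroup.pow_mem _ hg _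
  have hg2C : g2 ∈ Cz (P : Subgroup G) := Subgroup.pow_mem _ hg _
  have hg2P : g2 ∈ (P : Subgroup G) := by
    apply mem_of_pow_eq_one P hg2C (k := k)
    rw [hg2, ← pow_mul, mul_comm, ← hnkm]
    exact pow_orderOf_eq_one g
  have hg1Z : g1 ∈ Subgroup.center G := by
    apply hV g1 hg1C
    intro hdvd
    have h1 : g1 ^ m = 1 := by
      rw [hg1, ← pow_mul, ← hnkm]
      exact pow_orderOf_eq_one g
    exact hm (hdvd.trans (orderOf_dvd_of_pow_eq_one h1))
  -- Bezout
  have hb := Int.gcd_eq_gcd_ab (p ^ k : ℕ) (m : ℕ)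
  have hgcd : ((Int.gcd ((p ^ k : ℕ) : ℤ) (m : ℤ) : ℕ) : ℤ) = 1 := by
    have : Int.gcd ((p ^ k : ℕ) : ℤ) (m : ℤ) = Nat.gcd (p ^ k) m := Int.gcd_natCast_natCast _ _
    rw [this, hcop]
    rfl
  rw [hgcd] at hb
  set a := Int.gcdA ((p ^ k : ℕ) : ℤ) (m : ℤ) with ha
  set b := Int.gcdB ((p ^ k : ℕ) : ℤ) (m : ℤ) with hbdef
  have hgdec : g = g2 ^ b * g1 ^ a := by
    have h1 : g = g ^ ((1 : ℤ)) := (zpow_one g).symm
    rw [hg2, hg1, ← zpow_natCast g m, ← zpow_natCast g (p ^ k), ← zpow_mul, ← zpow_mul, ← zpow_add]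
    have : (m : ℤ) * b + ((p ^ k : ℕ) : ℤ) * a = 1 := by rw [hb]; ring
    rw [this, zpow_one]
  exact ⟨g2 ^ b, Subgroup.zpow_mem _ hg2P b, g1 ^ a, Subgroup.zpow_mem _ hg1Z a, hgdec⟩

/-- BS-QUOT -/
theorem quot_data (hp2 : p ≠ 2) (P : Sylow p G) (hP : Nat.card (P : Subgroup G) = p)
    (hnn : ¬ (P : Subgroup G).Normal)
    (hf : (Cz (P : Subgroup G)).relIndex (Nz (P : Subgroup G)) = 2)
    (hV : ∀ y ∈ Cz (P : Subgroup G), ¬ p ∣ orderOf y → y ∈ Subgroup.center G) :
    ∃ Q : Sylow p (G ⧸ Subgroup.center G), Nat.card (Q : Subgroup (G ⧸ Subgroup.center G)) = p ∧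
      (∀ y : G ⧸ Subgroup.center G, y ∈ (Q : Subgroup (G ⧸ Subgroup.center G)) → y ≠ 1 →
        Subgroup.centralizer ({y} : Set (G ⧸ Subgroup.center G)) =
          (Q : Subgroup (G ⧸ Subgroup.center G))) ∧
      Nat.card (Subgroup.normalizer
        ((Q : Subgroup (G ⧸ Subgroup.center G)) : Set (G ⧸ Subgroup.center G))) = 2 * p ∧
      ¬ (Q : Subgroup (G ⧸ Subgroup.center G)).Normal := by
  classical
  have hpp : p.Prime := Fact.out
  set Z : Subgroup G := Subgroup.center G with hZ
  set π : G →* G ⧸ Z := QuotientGroup.mk' Z with hπ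
  have hπs : Function.Surjective π := QuotientGroup.mk'_surjective Z
  have hker : ∀ g : G, π g = 1 ↔ g ∈ Z := fun g => QuotientGroup.eq_one_iff g
  set Q : Sylow p (G ⧸ Z) := P.mapSurjective hπs with hQ
  have hQcoe : (Q : Subgroup (G ⧸ Z)) = (P : Subgroup G).map π := Sylow.coe_mapSurjective hπs P
  have hreg := center_reg P hP hnn
  have hCmem : ∀ g : G, g ∈ Cz (P : Subgroup G) ↔ π g ∈ (Q : Subgroup (G ⧸ Z)) := by
    intro g
    rw [hQcoe]
    constructor
    · intro hg
      obtain ⟨x, hx, z, hz, rfl⟩ := exists_mul_of_mem_Cz P hV hg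
      refine ⟨x, hx, ?_⟩
      rw [map_mul, (hker z).mpr hz, mul_one]
    · rintro ⟨x, hx, hxg⟩
      have h1 : π (x⁻¹ * g) = 1 := by rw [map_mul, map_inv, hxg, inv_mul_cancel]
      have h2 : x⁻¹ * g ∈ Z := (hker _).mp h1
      have h3 : g = x * (x⁻¹ * g) := by group
      rw [h3]
      apply Subgroup.mul_mem
      · -- `x ∈ P ≤ C_G(P)` as `P` is cyclic
        rw [Subgroup.mem_centralizer_iff]
        intro y hy
        by_cases hx1 : x = 1
        · rw [hx1, mul_one, one_mul]
        · have hgen := zpowers_eq P hP hx hx1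
          have hy' : y ∈ Subgroup.zpowers x := by rw [hgen]; exact hy
          obtain ⟨i, rfl⟩ := Subgroup.mem_zpowers_iff.mp hy'
          exact (Commute.zpow_left (Commute.refl x) i).eq
      · rw [Subgroup.mem_centralizer_iff]
        intro y _
        exact Subgroup.mem_center_iff.mp h2 y
  -- elements of order dividing `p` in `C_G(P)` lie in `P`
  have hpel : ∀ g : G, π g ∈ (Q : Subgroup (G ⧸ Z)) → g ^ p = 1 → g ∈ (P : Subgroup G) := by
    intro g hg hgp
    apply mem_of_pow_eq_one P ((hCmem g).mpr hg) (k := 1)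
    rw [pow_one]
    exact hgp
  have hPp : ∀ x ∈ (P : Subgroup G), x ^ p = 1 := by
    intro x hx
    have h1 : (⟨x, hx⟩ : (P : Subgroup G)) ^ Nat.card (P : Subgroup G) = 1 := pow_card_eq_one'
    rw [hP] at h1
    exact congrArg Subtype.val h1
  -- cardinalities of preimages
  have hcardZ : 0 < Nat.card Z := Nat.card_pos
  have hcomap : ∀ K : Subgroup (G ⧸ Z), Nat.card (K.comap π) = Nat.card K * Nat.card Z := by
    intro K
    have h1 : (K.comap π).index = K.index := Subgroup.index_comap_of_surjective K hπs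
    have h2 := Subgroup.card_mul_index (K.comap π)
    have h3 := Subgroup.card_mul_index K
    have h4 := Subgroup.card_eq_card_quotient_mul_card_subgroup Z
    have hidx : 0 < K.index := Nat.pos_of_ne_zero Subgroup.index_ne_zero_of_finite
    rw [h1] at h2
    have h5 : Nat.card (K.comap π) * K.index = Nat.card K * Nat.card Z * K.index := by
      rw [h2, h4, ← h3]
      ring
    exact Nat.eq_of_mul_eq_mul_right hidx h5
  have hCcomap : Cz (P : Subgroup G) = (Q : Subgroup (G ⧸ Z)).comap π := by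
    ext g
    rw [Subgroup.mem_comap]
    exact hCmem g
  have hQp : Nat.card (Q : Subgroup (G ⧸ Z)) = p := by
    have h1 : Nat.card (Q : Subgroup (G ⧸ Z)) ∣ p := by
      have h0 := Subgroup.card_map_dvd (H := (P : Subgroup G)) π
      rw [hP, ← hQcoe] at h0
      exact h0
    rcases (Nat.dvd_prime hpp).mp h1 with h | h
    · exfalso
      apply hnn
      have hbot : (Q : Subgroup (G ⧸ Z)) = ⊥ := Subgroup.card_eq_one.mp h
      have hPZ : (P : Subgroup G) ≤ Z := by
        intro x hx
        apply (hker x).mp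
        have : π x ∈ (Q : Subgroup (G ⧸ Z)) := by rw [hQcoe]; exact ⟨x, hx, rfl⟩
        rw [hbot] at this
        exact Subgroup.mem_bot.mp this
      constructor
      intro x hx g
      have : g * x * g⁻¹ = x := by
        rw [Subgroup.mem_center_iff.mp (hPZ hx) g, mul_inv_cancel_right]
      rw [this]
      exact hx
    · exact h
  refine ⟨Q, hQp, ?_, ?_, ?_⟩
  · -- centralizers
    intro y hy hy1
    have hy' := hy
    rw [hQcoe] at hy'
    obtain ⟨x, hx, rfl⟩ := hy'
    have hx1 : x ≠ 1 := by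
      rintro rfl
      exact hy1 (map_one π)
    have hgen := zpowers_eq P hP hx hx1
    ext gb
    obtain ⟨g, rfl⟩ := hπs gb
    rw [Subgroup.mem_centralizer_singleton_iff]
    constructor
    · intro hc
      -- `g x g⁻¹ x⁻¹ ∈ Z`
      have h1 : π (g * x * g⁻¹ * x⁻¹) = 1 := by
        rw [map_mul, map_mul, map_mul, map_inv, map_inv, hc]
        group
      have hzZ : g * x * g⁻¹ * x⁻¹ ∈ Z := (hker _).mp h1
      set z := g * x * g⁻¹ * x⁻¹ with hz
      have h2 : g * x * g⁻¹ = z * x := by rw [hz]; group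
      have h3 : (z * x) ^ p = z ^ p := by
        have hcomm : Commute z x := (Subgroup.mem_center_iff.mp hzZ x).symm
        rw [hcomm.mul_pow, hPp x hx, mul_one]
      have h4 : (g * x * g⁻¹) ^ p = 1 := by
        rw [conj_pow, hPp x hx, mul_one, mul_inv_cancel]
      have h5 : z ^ p = 1 := by rw [← h3, ← h2, h4]
      have h6 : z = 1 := by
        have h7 : orderOf z ∣ p := orderOf_dvd_of_pow_eq_one h5
        rcases (Nat.dvd_prime hpp).mp h7 with h | h
        · exact orderOf_eq_one_iff.mp h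
        · exact absurd (h ▸ dvd_refl _ : p ∣ orderOf z) (hreg z hzZ)
      have h8 : g * x = x * g := by
        rw [h6, one_mul] at h2
        have := congrArg (fun t => t * g) h2
        simpa using this
      -- `g ∈ C_G(P)`
      apply (hCmem g).mp
      rw [Subgroup.mem_centralizer_iff]
      intro y hyP
      have hy'' : y ∈ Subgroup.zpowers x := by rw [hgen]; exact hyP
      obtain ⟨i, rfl⟩ := Subgroup.mem_zpowers_iff.mp hy''
      have hc' : Commute x g := h8.symm
      exact (hc'.zpow_left i).eq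
    · intro hg
      have hgC := (hCmem g).mpr hg
      have := Subgroup.mem_centralizer_iff.mp hgC x hx
      rw [← map_mul, ← map_mul, this]
  · -- the normalizer
    have hNcomap : Nz (P : Subgroup G) =
        (Subgroup.normalizer ((Q : Subgroup (G ⧸ Z)) : Set (G ⧸ Z))).comap π := by
      have hA : ∀ g : G, π g ∈ Subgroup.normalizer ((Q : Subgroup (G ⧸ Z)) : Set (G ⧸ Z)) →
          ∀ x ∈ (P : Subgroup G), g * x * g⁻¹ ∈ (P : Subgroup G) := by
        intro g hg x hx
        apply hpel
        · rw [map_mul, map_mul, map_inv]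
          have hxQ : π x ∈ (Q : Subgroup (G ⧸ Z)) := by rw [hQcoe]; exact ⟨x, hx, rfl⟩
          exact (Subgroup.mem_normalizer_iff.mp hg (π x)).mp hxQ
        · rw [conj_pow, hPp x hx, mul_one, mul_inv_cancel]
      ext g
      rw [Subgroup.mem_comap]
      constructor
      · intro hg
        have : π g ∈ (Subgroup.normalizer ((P : Subgroup G) : Set G)).map π := ⟨g, hg, rfl⟩
        have h2 := Subgroup.le_normalizer_map (H := (P : Subgroup G)) π this
        rw [← hQcoe] at h2
        exact h2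
      · intro hg
        show g ∈ Subgroup.normalizer ((P : Subgroup G) : Set G)
        rw [Subgroup.mem_normalizer_iff]
        intro x
        constructor
        · exact hA g hg x
        · intro hx
          have hginv : π g⁻¹ ∈ Subgroup.normalizer ((Q : Subgroup (G ⧸ Z)) : Set (G ⧸ Z)) := by
            rw [map_inv]
            exact Subgroup.inv_mem _ hg
          have := hA g⁻¹ hginv _ hx
          have e : g⁻¹ * (g * x * g⁻¹) * g⁻¹⁻¹ = x := by group
          rwa [e] at this
    have hcardN := hcomap (Subgroup.normalizer ((Q : Subgroup (G ⧸ Z)) : Set (G ⧸ Z)))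
    rw [← hNcomap] at hcardN
    have hcardC := hcomap (Q : Subgroup (G ⧸ Z))
    rw [← hCcomap] at hcardC
    -- `|N| = 2 |C|`
    have hCN : Cz (P : Subgroup G) ≤ Nz (P : Subgroup G) := by
      intro g hg
      rw [hNcomap, Subgroup.mem_comap]
      have hgQ := (hCmem g).mp hg
      exact Subgroup.le_normalizer hgQ
    have h1 := Subgroup.relIndex_mul_index hCN
    have h2 := Subgroup.card_mul_index (Cz (P : Subgroup G))
    have h3 := Subgroup.card_mul_index (Nz (P : Subgroup G))
    have hidx : 0 < (Nz (P : Subgroup G)).index := Nat.pos_of_ne_zero Subgroup.index_ne_zero_of_finite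
    have h4 : Nat.card (Nz (P : Subgroup G)) * (Nz (P : Subgroup G)).index =
        Nat.card (Cz (P : Subgroup G)) * 2 * (Nz (P : Subgroup G)).index := by
      rw [h3, ← h2, ← h1, hf]
      ring
    have h5 : Nat.card (Nz (P : Subgroup G)) = Nat.card (Cz (P : Subgroup G)) * 2 :=
      Nat.eq_of_mul_eq_mul_right hidx h4
    rw [hcardN, hcardC, hQp] at h5
    have h6 : Nat.card (Subgroup.normalizer ((Q : Subgroup (G ⧸ Z)) : Set (G ⧸ Z))) * Nat.card Z =
        2 * p * Nat.card Z := by rw [h5]; ring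
    exact Nat.eq_of_mul_eq_mul_right hcardZ h6
  · -- not normal
    intro hQn
    apply hnn
    constructor
    intro x hx g
    apply hpel
    · rw [map_mul, map_mul, map_inv]
      have hxQ : π x ∈ (Q : Subgroup (G ⧸ Z)) := by rw [hQcoe]; exact ⟨x, hx, rfl⟩
      exact hQn.conj_mem _ hxQ _
    · rw [conj_pow, hPp x hx, mul_one, mul_inv_cancel]

end Cfsg.Agent.Lib.Helper2.BSQUOT
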