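/-
helper2: S0999 + S4701 (BR core, planner helper24), leaf BRC-CENTLE (frozen statements in notes/S0999_leaves.lean):
`|χ(y)|² ≤ aP(χ)²` for `y ∈ N \ P`, and `|C_G(y)| ≤ f (n + 1)`.
-/
import Mathlib
import Cfsg.Prelude.Def_BlockRank
import Cfsg.Prelude.Def_Perm
import Cfsg.Agent.Lib.Helper24.BRCDefs
import Cfsg.Agent.Lib.Helper5.BRCCOL

set_option autoImplicit false

namespace Cfsg.Agent.Lib.Helper2.BRCCENTLE

open Cfsg Cfsg.Agent.Lib.Helper8.DOM Cfsg.Agent.Lib.Helper27.DO Cfsg.Agent.CharLib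
open Cfsg.Agent.Lib.Helper6.BRH Cfsg.Agent.Lib.Helper24.BRC
open scoped ComplexConjugate

universe u

variable {G : Type u} [Group G] [Finite G] {p : ℕ} [Fact p.Prime]

variable {P : Subgroup G} {n w : ℕ} {X Y : Set (IrrCharacter G)} {v : IrrCharacter G → ℤ} {ε : ℤ}

/-- **BRC-CENTLE** (a).  `χ(y) = ∑_β cN χ β · β(y)` with `|β(y)| = 1`. -/
theorem normSq_le (hL : LinData P) (hA : StepA p P n w X Y v ε) (y : G) (hyN : y ∈ Nz P) (hyP : y ∉ P)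
    (χ : IrrCharacter G) : Complex.normSq ((χ : G → ℂ) y) ≤ ((aP P χ : ℝ)) ^ 2 := by
  classical
  have hfin : (Lin P).Finite := Set.toFinite _
  have h1 := hA.resN χ ⟨y, hyN⟩ hyP
  have h2 := hA.sum_cN χ
  rw [finsum_mem_eq_finite_toFinset_sum _ hfin] at h1 h2
  have hnorm : ‖(χ : G → ℂ) y‖ ≤ (aP P χ : ℝ) := by
    have e1 : (χ : G → ℂ) y = (χ : G → ℂ) ((⟨y, hyN⟩ : Nz P) : G) := rfl
    rw [e1, h1, ← h2, Nat.cast_sum]
    refine (norm_sum_le _ _).trans ?_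
    apply Finset.sum_le_sum
    intro β hβ
    have hβL : β ∈ Lin P := (Set.Finite.mem_toFinset hfin).mp hβ
    have h3 := hL.norm_eq β hβL ⟨y, hyN⟩
    have h4 : ‖(β : Nz P → ℂ) ⟨y, hyN⟩‖ = 1 := by
      have h5 : ‖(β : Nz P → ℂ) ⟨y, hyN⟩‖ ^ 2 = 1 := by
        rw [← Complex.normSq_eq_norm_sq]; exact h3
      have h6 : 0 ≤ ‖(β : Nz P → ℂ) ⟨y, hyN⟩‖ := norm_nonneg _
      nlinarith
    rw [norm_mul, h4, mul_one, Complex.norm_natCast]
  rw [Complex.normSq_eq_norm_sq]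
  have h0 : 0 ≤ ‖(χ : G → ℂ) y‖ := norm_nonneg _
  nlinarith

/-- **BRC-CENTLE** (b).  `|C_G(y)| = ∑_χ |χ(y)|² ≤ ∑_χ aP(χ)² = f (n + 1)`. -/
theorem card_centralizer_le (hL : LinData P) (hA : StepA p P n w X Y v ε) (y : G) (hyN : y ∈ Nz P)
    (hyP : y ∉ P) : Nat.card (Subgroup.centralizer ({y} : Set G)) ≤ fI P * (n + 1) := by
  classical
  let _ := fintypeIrr G
  have h1 := Cfsg.Agent.Lib.Helper5.BRCCOL.sum_normSq_eq_card_centralizer y
  have h2 := hA.sum_aP_sq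
  rw [finsum_eq_sum_of_fintype] at h1 h2
  have h3 : (Nat.card (Subgroup.centralizer ({y} : Set G)) : ℝ) ≤ ((fI P * (n + 1) : ℕ) : ℝ) := by
    rw [← h1, ← h2, Nat.cast_sum]
    apply Finset.sum_le_sum
    intro χ _
    rw [Nat.cast_pow]
    exact normSq_le hL hA y hyN hyP χ
  exact_mod_cast h3

end Cfsg.Agent.Lib.Helper2.BRCCENTLE
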