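/-
helper2: S0999 + S4701 (BR core, planner helper24), leaf BRC-EVENF (frozen statement in notes/S0999_leaves.lean):
`ε = -1`, `w = 1`: the unique free linear character of `N / P` is real, hence `f` is even.
-/
import Mathlib
import Cfsg.Prelude.Def_BlockRank
import Cfsg.Prelude.Def_Perm
import Cfsg.Agent.Lib.Helper24.BRCDefs
import Cfsg.Agent.Lib.Lead.CharFS

set_option autoImplicit false

namespace Cfsg.Agent.Lib.Helper2.BRCEVENF

open Cfsg Cfsg.Agent.Lib.Helper8.DOM Cfsg.Agent.Lib.Helper27.DO Cfsg.Agent.CharLib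
open Cfsg.Agent.Lib.Helper6.BRH Cfsg.Agent.Lib.Helper24.BRC
open scoped ComplexConjugate

universe u

variable {G : Type u} [Group G] [Finite G] {p : ℕ} [Fact p.Prime]

variable {P : Subgroup G} {n w : ℕ} {X Y : Set (IrrCharacter G)} {v : IrrCharacter G → ℤ} {ε : ℤ}

/-- the complex conjugate of an irreducible character, as an irreducible character -/
noncomputable def conjIrr (χ : IrrCharacter G) : IrrCharacter G :=
  ⟨fun g => conj ((χ : G → ℂ) g), IsIrrCharacter.conj' χ.2⟩

theorem conjIrr_apply (χ : IrrCharacter G) (g : G) :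
    ((conjIrr χ : IrrCharacter G) : G → ℂ) g = conj ((χ : G → ℂ) g) := rfl

theorem charDegree_conjIrr (χ : IrrCharacter G) :
    charDegree ((conjIrr χ : IrrCharacter G) : G → ℂ) = charDegree (χ : G → ℂ) := by
  have h1 := apply_one_eq (conjIrr χ)
  rw [conjIrr_apply, apply_one_eq χ, Complex.conj_natCast] at h1
  exact_mod_cast h1.symm

/-- the case `t = 1`: `f = p - 1` is even -/
theorem even_of_tI_le_one (hS : Special p P n w X Y v ε) (ht : tI p P ≤ 1) : Even (fI P) := by
  have hpp : p.Prime := Fact.out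
  have hdvd : fI P ∣ p - 1 := hS.bx.b0.dvd
  have hf2 : 2 ≤ fI P := hS.hf2
  obtain ⟨k, hk⟩ := hdvd
  have hk' : tI p P = k := by
    show (p - 1) / fI P = k
    rw [hk, Nat.mul_div_cancel_left _ (by omega)]
  have hp1 : 1 ≤ p - 1 := by
    have := hpp.two_le
    omega
  have hk1 : k = 1 := by
    rcases Nat.eq_zero_or_pos k with h0 | h0
    · rw [h0, mul_zero] at hk
      omega
    · omega
  rw [hk1, mul_one] at hk
  -- `p` is odd
  have hp3 : p ≠ 2 := by
    intro h2
    rw [h2] at hk
    omega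
  rcases hpp.eq_two_or_odd' with h | h
  · exact absurd h hp3
  · rw [← hk]
    obtain ⟨m, hm⟩ := h
    exact ⟨m, by omega⟩

/-- **BRC-EVENF**.  `w = 1`: exactly one free `β₀`; `conj β₀` is free too, so `conj β₀ = β₀`, and `hL.even_of_real`. -/
theorem even_f (hS : Special p P n w X Y v ε) (hL : LinData P) (hA : StepA p P n w X Y v ε)
    (hC2 : StepC p P n w X Y v ε) (hε : ε = -1) (hw : w = 1) : Even (fI P) := by
  classical
  rcases Nat.lt_or_ge (tI p P) 2 with ht | ht
  · exact even_of_tI_le_one hS (by omega)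
  -- the unique free `β₀`
  have hcf : Nat.card (free P X v) = 1 := by rw [hC2.cardFree, hw]
  obtain ⟨hsub, ⟨⟨β₀, hβ₀⟩⟩⟩ := Nat.card_eq_one_iff_unique.mp hcf
  obtain ⟨hβ₀L, hβ₀ne, hβ₀free⟩ := hβ₀
  obtain ⟨β', hβ'L, hβ'⟩ := hL.conj_mem β₀ hβ₀L
  have hβ₀' : ∀ y : Nz P, (β₀ : Nz P → ℂ) y = conj ((β' : Nz P → ℂ) y) := by
    intro y
    rw [hβ', Complex.conj_conj]
  -- `β'` is free
  have hfree' : β' ∈ free P X v := by
    refine ⟨hβ'L, ?_, ?_⟩
    · intro h
      apply hβ₀ne
      apply Subtype.ext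
      funext y
      rw [hβ₀' y, h]
      show conj (1 : ℂ) = 1
      simp
    · intro η hη
      by_contra hne
      -- `cN η̄ β₀ ≠ 0`
      have h1 : cN P (conjIrr η) β₀ = cN P η β' :=
        hA.cN_conj η (conjIrr η) β' β₀ (fun g => conjIrr_apply η g) hβ₀'
      have h1' : cN P (conjIrr η) β₀ ≠ 0 := by rw [h1]; exact hne
      -- the degree of `η̄`
      have hdegη : charDegree (η : G → ℂ) = 1 + n * p := by
        obtain ⟨hηX, hηne, hηv⟩ := hη
        rcases hS.typ η hηX hηne with h | h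
        · exact h.2
        · exfalso
          rw [hηv] at h
          omega
      have hdeg' : charDegree ((conjIrr η : IrrCharacter G) : G → ℂ) = 1 + n * p := by
        rw [charDegree_conjIrr, hdegη]
      -- `deg_cN` at `β₀`
      let _ := fintypeIrr G
      have h2 := hA.deg_cN β₀ hβ₀L
      rw [finsum_eq_sum_of_fintype] at h2
      have h3 : ∀ χ : IrrCharacter G, χ ≠ conjIrr η → cN P χ β₀ = 0 := by
        intro χ hχ
        by_contra hc
        have h4 : cN P (conjIrr η) β₀ * charDegree ((conjIrr η : IrrCharacter G) : G → ℂ) +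
            cN P χ β₀ * charDegree (χ : G → ℂ) ≤
            ∑ χ : IrrCharacter G, cN P χ β₀ * charDegree (χ : G → ℂ) := by
          have h5 : ({conjIrr η, χ} : Finset (IrrCharacter G)) ⊆ Finset.univ := Finset.subset_univ _
          have h6 := Finset.sum_le_sum_of_subset (f := fun χ : IrrCharacter G =>
            cN P χ β₀ * charDegree (χ : G → ℂ)) h5
          rw [Finset.sum_pair (Ne.symm hχ)] at h6
          exact h6
        rw [h2, hdeg'] at h4
        have h7 : 1 ≤ cN P (conjIrr η) β₀ := Nat.one_le_iff_ne_zero.mpr h1'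
        have h8 : 1 ≤ cN P χ β₀ := Nat.one_le_iff_ne_zero.mpr hc
        have h9 : 0 < charDegree (χ : G → ℂ) := charDegree_pos χ
        have h10 : 1 * (1 + n * p) ≤ cN P (conjIrr η) β₀ * (1 + n * p) := Nat.mul_le_mul_right _ h7
        have h11 : 1 * 1 ≤ cN P χ β₀ * charDegree (χ : G → ℂ) := Nat.mul_le_mul h8 h9
        omega
      have h3' : cN P (conjIrr η) β₀ ≤ 1 := by
        have h4 : cN P (conjIrr η) β₀ * charDegree ((conjIrr η : IrrCharacter G) : G → ℂ) ≤
            ∑ χ : IrrCharacter G, cN P χ β₀ * charDegree (χ : G → ℂ) :=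
          Finset.single_le_sum (f := fun χ : IrrCharacter G =>
            cN P χ β₀ * charDegree (χ : G → ℂ)) (fun _ _ => Nat.zero_le _) (Finset.mem_univ _)
        rw [h2, hdeg'] at h4
        have h5 : 0 < 1 + n * p := by omega
        exact Nat.le_of_mul_le_mul_right (by simpa using h4) h5
      -- the sum over `Y`
      have h4 := (hC2.free_spec β₀ ⟨hβ₀L, hβ₀ne, hβ₀free⟩).2
      have hfinY : Y.Finite := Set.toFinite _
      rw [finsum_mem_eq_finite_toFinset_sum _ hfinY] at h4
      have h5 : ∑ ψ ∈ hfinY.toFinset, cN P ψ β₀ ≤ 1 := by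
        calc ∑ ψ ∈ hfinY.toFinset, cN P ψ β₀
            ≤ ∑ ψ ∈ hfinY.toFinset, (if ψ = conjIrr η then 1 else 0) := by
              apply Finset.sum_le_sum
              intro ψ _
              by_cases hψ : ψ = conjIrr η
              · rw [if_pos hψ, hψ]; exact h3'
              · rw [if_neg hψ, h3 ψ hψ]
          _ ≤ 1 := by
              rw [Finset.sum_ite_eq']
              split_ifs <;> omega
      omega
  -- so `β' = β₀`
  have heq : β' = β₀ := by
    have := hsub.elim (⟨β', hfree'⟩ : free P X v) ⟨β₀, ⟨hβ₀L, hβ₀ne, hβ₀free⟩⟩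
    exact congrArg Subtype.val this
  refine hL.even_of_real β₀ hβ₀L hβ₀ne ?_
  intro y
  rw [← hβ' y, heq]

end Cfsg.Agent.Lib.Helper2.BRCEVENF
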