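/-
helper2: S0999 + S4701 (BR core, planner helper24), leaf BRC-SUMZ (frozen statement in notes/S0999_leaves.lean):
`f = 2`: `∑_χ χ(z) = 1` for a `p`-regular `z` with `z² ≠ 1`, by three column orthogonality relations.
-/
import Mathlib
import Cfsg.Prelude.Def_BlockRank
import Cfsg.Prelude.Def_Perm
import Cfsg.Agent.Lib.Helper24.BRCDefs
import Cfsg.Agent.Lib.Helper5.BRCCOL

set_option autoImplicit false

namespace Cfsg.Agent.Lib.Helper2.BRCSUMZ

open Cfsg Cfsg.Agent.Lib.Helper8.DOM Cfsg.Agent.Lib.Helper27.DO Cfsg.Agent.CharLib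
open Cfsg.Agent.Lib.Helper6.BRH Cfsg.Agent.Lib.Helper24.BRC
open scoped ComplexConjugate

universe u

variable {G : Type u} [Group G] [Finite G] {p : ℕ} [Fact p.Prime]

variable {P : Subgroup G} {n w : ℕ} {X Y : Set (IrrCharacter G)} {v : IrrCharacter G → ℤ} {ε : ℤ}

theorem orderOf_eq_of_isConj' {x y : G} (h : IsConj x y) : orderOf x = orderOf y := by
  obtain ⟨c, hc⟩ := isConj_iff.mp h
  rw [← hc]
  have := (MulAut.conj c).orderOf_eq x
  rw [MulAut.conj_apply] at this
  exact this.symm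

/-- when there is no type A character, a sum over all irreducible characters splits as `1_G`, type B, `Y`, and the
characters outside `B_0` -/
theorem sum_split4 [Fintype (IrrCharacter G)] [DecidablePred (· ∈ typeB X v)] [DecidablePred (· ∈ X)]
    [DecidablePred (· ∈ Y)] [DecidablePred (· ∈ X ∪ Y)]
    (hB0 : B0 p P X Y v ε) (hAe : typeA X v = ∅) (hv1 : v (trivIrr G) = 1)
    {M : Type*} [AddCommMonoid M] (F : IrrCharacter G → M) :
    ∑ χ : IrrCharacter G, F χ = F (trivIrr G) + ∑ χ ∈ Finset.univ.filter (· ∈ typeB X v), F χ +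
      ∑ χ ∈ Finset.univ.filter (· ∈ Y), F χ +
      ∑ χ ∈ Finset.univ.filter (fun χ => ¬ χ ∈ X ∪ Y), F χ := by
  classical
  rw [← Finset.sum_filter_add_sum_filter_not Finset.univ (· ∈ X ∪ Y) F]
  congr 1
  have hun : Finset.univ.filter (· ∈ X ∪ Y) =
      Finset.univ.filter (· ∈ X) ∪ Finset.univ.filter (· ∈ Y) := by
    ext χ
    simp [Set.mem_union]
  have hdisj : Disjoint (Finset.univ.filter (· ∈ X)) (Finset.univ.filter (· ∈ Y)) := by
    rw [Finset.disjoint_left]
    intro χ h1 h2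
    rw [Finset.mem_filter] at h1 h2
    exact (Set.disjoint_left.mp hB0.disj) h1.2 h2.2
  rw [hun, Finset.sum_union hdisj]
  congr 1
  have hX : Finset.univ.filter (· ∈ X) =
      insert (trivIrr G) (Finset.univ.filter (· ∈ typeB X v)) := by
    ext χ
    rw [Finset.mem_insert, Finset.mem_filter, Finset.mem_filter]
    constructor
    · rintro ⟨-, hχ⟩
      by_cases hne : χ = trivIrr G
      · exact Or.inl hne
      · right
        refine ⟨Finset.mem_univ _, hχ, ?_⟩
        rcases hB0.sgnX χ hχ with h | h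
        · exfalso
          have : χ ∈ typeA X v := ⟨hχ, hne, h⟩
          rw [hAe] at this
          exact this
        · exact h
    · rintro (rfl | ⟨-, hχ⟩)
      · exact ⟨Finset.mem_univ _, hB0.trivX⟩
      · exact ⟨Finset.mem_univ _, hχ.1⟩
  have hnot : trivIrr G ∉ Finset.univ.filter (· ∈ typeB X v) := by
    rw [Finset.mem_filter]
    rintro ⟨-, -, h⟩
    rw [hv1] at h
    omega
  rw [hX, Finset.sum_insert hnot]

/-- **BRC-SUMZ**. -/
theorem sum_z (hS : Special p P n w X Y v ε) (hL : LinData P) (hA : StepA p P n w X Y v ε)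
    (hC2 : StepC p P n w X Y v ε) (hε : ε = -1) (hw : w = 1) (hnt : n + 1 = tI p P) (hf : fI P = 2)
    (y0 : G) (hy2 : orderOf y0 = 2)
    (hvB : ∀ ξ ∈ typeB X v, (ξ : G → ℂ) y0 = 0) (hvY : ∀ ψ ∈ Y, (ψ : G → ℂ) y0 = -1)
    (hvout : ∀ χ : IrrCharacter G, χ ∉ X ∪ Y → (χ : G → ℂ) y0 = 1)
    (hout1 : ∀ χ : IrrCharacter G, χ ∉ X ∪ Y → aP P χ = 1)
    (z : G) (hzp : ¬ p ∣ orderOf z) (hz1 : z ≠ 1) (hz2 : z ^ 2 ≠ 1) :
    ∑ᶠ χ : IrrCharacter G, (χ : G → ℂ) z = 1 := by
  classical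
  let _ := fintypeIrr G
  have hpp : p.Prime := Fact.out
  have hB0 : B0 p P X Y v ε := hS.bx.b0
  -- an element of order `p`
  obtain ⟨x, hxP, hx1, hxo⟩ : ∃ x ∈ P, x ≠ 1 ∧ orderOf x = p := by
    have hnt : Nontrivial P := by
      rw [← Finite.one_lt_card_iff_nontrivial, hS.hP]
      exact hpp.one_lt
    obtain ⟨x, hx⟩ := exists_ne (1 : P)
    refine ⟨x, x.2, fun h => hx (Subtype.ext h), ?_⟩
    have h1 : orderOf x ∣ p := hS.hP ▸ orderOf_dvd_natCard x
    rw [Subgroup.orderOf_coe]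
    rcases (Nat.dvd_prime hpp).mp h1 with h | h
    · exact absurd (orderOf_eq_one_iff.mp h) hx
    · exact h
  have hxs : p ∣ orderOf x := by rw [hxo]
  -- `v 1_G = 1`
  have hv1 : v (trivIrr G) = 1 := by
    have h1 := hB0.valX (trivIrr G) hB0.trivX x hxs
    have h2 : ((trivIrr G : IrrCharacter G) : G → ℂ) x = 1 := rfl
    rw [h2] at h1
    exact_mod_cast h1.symm
  -- no type A
  have hAe : typeA X v = ∅ := by
    have h1 := hC2.cardLin
    rw [hw, hf] at h1
    have h2 : Nat.card (typeA X v) * (n + 1) = 0 := by omega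
    have h3 : Nat.card (typeA X v) = 0 := by
      rcases Nat.mul_eq_zero.mp h2 with h | h
      · exact h
      · omega
    have h4 : (typeA X v).ncard = 0 := by rw [← Nat.card_coe_set_eq]; exact h3
    exact (Set.ncard_eq_zero (Set.toFinite _)).mp h4
  -- the common value `b` of the exceptional characters at `z`
  have hcY : (Finset.univ.filter (fun χ : IrrCharacter G => χ ∈ Y)).card = n + 1 := by
    rw [hnt]
    have := hB0.cardY
    rw [Nat.card_eq_fintype_card, Fintype.card_subtype] at this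
    exact this
  obtain ⟨ψ₀, hψ₀⟩ : ∃ ψ₀, ψ₀ ∈ Finset.univ.filter (fun χ : IrrCharacter G => χ ∈ Y) := by
    apply Finset.card_pos.mp
    omega
  have hψ₀Y : ψ₀ ∈ Y := (Finset.mem_filter.mp hψ₀).2
  set b : ℂ := (ψ₀ : G → ℂ) z with hb
  have hbY : ∀ ψ ∈ Y, (ψ : G → ℂ) z = b := fun ψ hψ => hS.bx.regY ψ hψ ψ₀ hψ₀Y z hzp
  -- abbreviations
  set A : ℂ := ∑ χ ∈ Finset.univ.filter (· ∈ typeB X v), (χ : G → ℂ) z with hAdef
  set S : ℂ := ∑ χ ∈ Finset.univ.filter (fun χ : IrrCharacter G => ¬ χ ∈ X ∪ Y), (χ : G → ℂ) z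
    with hSdef
  have htz : ((trivIrr G : IrrCharacter G) : G → ℂ) z = 1 := rfl
  -- the sum over `Y`
  have hsumY : ∑ χ ∈ Finset.univ.filter (fun χ : IrrCharacter G => χ ∈ Y), (χ : G → ℂ) z =
      ((n : ℂ) + 1) * b := by
    rw [Finset.sum_congr rfl (fun χ hχ => hbY χ (Finset.mem_filter.mp hχ).2), Finset.sum_const,
      nsmul_eq_mul, hcY]
    push_cast
    ring
  -- degrees
  have hp1 : 1 ≤ p := hpp.pos
  have hdegB : ∀ ξ ∈ typeB X v, (charDegree (ξ : G → ℂ) : ℂ) = (p : ℂ) - 1 := by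
    intro ξ hξ
    obtain ⟨hξX, hξv⟩ := hξ
    have hne : ξ ≠ trivIrr G := by
      rintro rfl
      rw [hv1] at hξv
      omega
    rcases hS.typ ξ hξX hne with h | h
    · exfalso
      rw [hξv] at h
      omega
    · rw [h.2, Nat.cast_sub hp1]
      simp
  have hdegY : ∀ ψ ∈ Y, (charDegree (ψ : G → ℂ) : ℂ) = (p : ℂ) - 2 := by
    intro ψ hψ
    have h1 := hS.hw ψ hψ
    have hf' : (Cz P).relIndex (Nz P) = 2 := hf
    rw [hw, hε, hf'] at h1
    have h2 : ((charDegree (ψ : G → ℂ) : ℤ) : ℂ) = (((1 : ℕ) : ℤ) * (p : ℤ) + -1 * ((2 : ℕ) : ℤ) : ℤ) := by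
      rw [h1]
    push_cast at h2
    rw [h2]
    ring
  have hdegO : ∀ χ : IrrCharacter G, χ ∉ X ∪ Y → (charDegree (χ : G → ℂ) : ℂ) = (p : ℂ) := by
    intro χ hχ
    rw [hA.aP_out χ hχ, hout1 χ hχ, mul_one]
  -- (i) `z` against `1`
  have e1 : 1 + ((p : ℂ) - 1) * A + ((n : ℂ) + 1) * b * ((p : ℂ) - 2) + (p : ℂ) * S = 0 := by
    have h1 := Cfsg.Agent.Lib.Helper5.BRCCOL.sum_mul_conj_eq_zero z 1
      (fun h => hz1 (isConj_one_left.mp h))
    rw [finsum_eq_sum_of_fintype, sum_split4 hB0 hAe hv1] at h1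
    have t1 : ((trivIrr G : IrrCharacter G) : G → ℂ) z *
        conj (((trivIrr G : IrrCharacter G) : G → ℂ) 1) = 1 := by
      show (1 : ℂ) * conj (1 : ℂ) = 1
      simp
    have t2 : ∑ χ ∈ Finset.univ.filter (· ∈ typeB X v), (χ : G → ℂ) z * conj ((χ : G → ℂ) 1) =
        ((p : ℂ) - 1) * A := by
      rw [hAdef, Finset.mul_sum]
      apply Finset.sum_congr rfl
      intro χ hχ
      rw [apply_one_eq, Complex.conj_natCast, hdegB χ (Finset.mem_filter.mp hχ).2]
      ring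
    have t3 : ∑ χ ∈ Finset.univ.filter (fun χ : IrrCharacter G => χ ∈ Y),
        (χ : G → ℂ) z * conj ((χ : G → ℂ) 1) = ((n : ℂ) + 1) * b * ((p : ℂ) - 2) := by
      rw [← hsumY, Finset.sum_mul]
      apply Finset.sum_congr rfl
      intro χ hχ
      rw [apply_one_eq, Complex.conj_natCast, hdegY χ (Finset.mem_filter.mp hχ).2]
    have t4 : ∑ χ ∈ Finset.univ.filter (fun χ : IrrCharacter G => ¬ χ ∈ X ∪ Y),
        (χ : G → ℂ) z * conj ((χ : G → ℂ) 1) = (p : ℂ) * S := by
      rw [hSdef, Finset.mul_sum]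
      apply Finset.sum_congr rfl
      intro χ hχ
      rw [apply_one_eq, Complex.conj_natCast, hdegO χ (Finset.mem_filter.mp hχ).2]
      ring
    rw [t1, t2, t3, t4] at h1
    exact h1
  -- (ii) `z` against `y0`
  have e2 : 1 - ((n : ℂ) + 1) * b + S = 0 := by
    have hnc : ¬ IsConj z y0 := by
      intro h
      have h1 := orderOf_eq_of_isConj' h
      rw [hy2] at h1
      apply hz2
      rw [← h1]
      exact pow_orderOf_eq_one z
    have h1 := Cfsg.Agent.Lib.Helper5.BRCCOL.sum_mul_conj_eq_zero z y0 hnc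
    rw [finsum_eq_sum_of_fintype, sum_split4 hB0 hAe hv1] at h1
    have t1 : ((trivIrr G : IrrCharacter G) : G → ℂ) z *
        conj (((trivIrr G : IrrCharacter G) : G → ℂ) y0) = 1 := by
      show (1 : ℂ) * conj (1 : ℂ) = 1
      simp
    have t2 : ∑ χ ∈ Finset.univ.filter (· ∈ typeB X v), (χ : G → ℂ) z * conj ((χ : G → ℂ) y0) = 0 := by
      apply Finset.sum_eq_zero
      intro χ hχ
      rw [hvB χ (Finset.mem_filter.mp hχ).2]
      simp
    have t3 : ∑ χ ∈ Finset.univ.filter (fun χ : IrrCharacter G => χ ∈ Y),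
        (χ : G → ℂ) z * conj ((χ : G → ℂ) y0) = -(((n : ℂ) + 1) * b) := by
      rw [← hsumY, ← Finset.sum_neg_distrib]
      apply Finset.sum_congr rfl
      intro χ hχ
      rw [hvY χ (Finset.mem_filter.mp hχ).2]
      simp
    have t4 : ∑ χ ∈ Finset.univ.filter (fun χ : IrrCharacter G => ¬ χ ∈ X ∪ Y),
        (χ : G → ℂ) z * conj ((χ : G → ℂ) y0) = S := by
      rw [hSdef]
      apply Finset.sum_congr rfl
      intro χ hχ
      rw [hvout χ (Finset.mem_filter.mp hχ).2]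
      simp
    rw [t1, t2, t3, t4] at h1
    linear_combination h1
  -- (iii) `z` against `x`
  have e3 : 1 - A + b = 0 := by
    have hnc : ¬ IsConj z x := by
      intro h
      have h1 := orderOf_eq_of_isConj' h
      apply hzp
      rw [h1, hxo]
    have h1 := Cfsg.Agent.Lib.Helper5.BRCCOL.sum_mul_conj_eq_zero z x hnc
    rw [finsum_eq_sum_of_fintype, sum_split4 hB0 hAe hv1] at h1
    have t1 : ((trivIrr G : IrrCharacter G) : G → ℂ) z *
        conj (((trivIrr G : IrrCharacter G) : G → ℂ) x) = 1 := by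
      show (1 : ℂ) * conj (1 : ℂ) = 1
      simp
    have t2 : ∑ χ ∈ Finset.univ.filter (· ∈ typeB X v), (χ : G → ℂ) z * conj ((χ : G → ℂ) x) = -A := by
      rw [hAdef, ← Finset.sum_neg_distrib]
      apply Finset.sum_congr rfl
      intro χ hχ
      have hχB := (Finset.mem_filter.mp hχ).2
      rw [hB0.valX χ hχB.1 x hxs, hχB.2]
      simp
    have t3 : ∑ χ ∈ Finset.univ.filter (fun χ : IrrCharacter G => χ ∈ Y),
        (χ : G → ℂ) z * conj ((χ : G → ℂ) x) = b := by
      have h2 := hB0.sumY x hxs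
      rw [finsum_mem_eq_finite_toFinset_sum _ (Set.toFinite Y)] at h2
      have h3 : (Set.toFinite Y).toFinset = Finset.univ.filter (fun χ : IrrCharacter G => χ ∈ Y) := by
        ext χ
        simp
      rw [h3, hε] at h2
      have h4 : ∑ χ ∈ Finset.univ.filter (fun χ : IrrCharacter G => χ ∈ Y),
          (χ : G → ℂ) z * conj ((χ : G → ℂ) x) =
          b * conj (∑ χ ∈ Finset.univ.filter (fun χ : IrrCharacter G => χ ∈ Y), (χ : G → ℂ) x) := by
        rw [map_sum, Finset.mul_sum]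
        apply Finset.sum_congr rfl
        intro χ hχ
        rw [hbY χ (Finset.mem_filter.mp hχ).2]
      rw [h4, h2]
      simp
    have t4 : ∑ χ ∈ Finset.univ.filter (fun χ : IrrCharacter G => ¬ χ ∈ X ∪ Y),
        (χ : G → ℂ) z * conj ((χ : G → ℂ) x) = 0 := by
      apply Finset.sum_eq_zero
      intro χ hχ
      rw [hA.out_zero χ (Finset.mem_filter.mp hχ).2 x hxP hx1]
      simp
    rw [t1, t2, t3, t4] at h1
    linear_combination h1
  -- solve
  have hK : b * ((((p - 1) * (2 * n + 3) : ℕ)) : ℂ) = 0 := by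
    rw [Nat.cast_mul, Nat.cast_sub hp1]
    push_cast
    linear_combination e1 + ((p : ℂ) - 1) * e3 - (p : ℂ) * e2
  have hK0 : ((((p - 1) * (2 * n + 3) : ℕ)) : ℂ) ≠ 0 := by
    have h1 : 0 < p - 1 := by
      have := hpp.two_le
      omega
    have h2 : 0 < (p - 1) * (2 * n + 3) := Nat.mul_pos h1 (by omega)
    exact_mod_cast h2.ne'
  have hb0 : b = 0 := by
    rcases mul_eq_zero.mp hK with h | h
    · exact h
    · exact absurd h hK0
  rw [finsum_eq_sum_of_fintype, sum_split4 hB0 hAe hv1 (fun χ : IrrCharacter G => (χ : G → ℂ) z),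
    hsumY, htz]
  rw [hb0] at e2 e3 ⊢
  linear_combination (-1 : ℂ) * e3 + e2

end Cfsg.Agent.Lib.Helper2.BRCSUMZ
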