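/-
helper2: S0999 + S4701 (BR core, planner helper24), leaf BRC-VALY0 (frozen statement in notes/S0999_leaves.lean):
`f = 2`: the values of all irreducible characters at an element `y0 ∈ N \ P`.
-/
import Mathlib
import Cfsg.Prelude.Def_BlockRank
import Cfsg.Prelude.Def_Perm
import Cfsg.Agent.Lib.Helper24.BRCDefs

set_option autoImplicit false

namespace Cfsg.Agent.Lib.Helper2.BRCVALY0

open Cfsg Cfsg.Agent.Lib.Helper8.DOM Cfsg.Agent.Lib.Helper27.DO Cfsg.Agent.CharLib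
open Cfsg.Agent.Lib.Helper6.BRH Cfsg.Agent.Lib.Helper24.BRC
open scoped ComplexConjugate

universe u

variable {G : Type u} [Group G] [Finite G] {p : ℕ} [Fact p.Prime]

variable {P : Subgroup G} {n w : ℕ} {X Y : Set (IrrCharacter G)} {v : IrrCharacter G → ℤ} {ε : ℤ}

theorem charDegree_trivIrr' : charDegree ((trivIrr G : IrrCharacter G) : G → ℂ) = 1 := by
  have h := apply_one_eq (trivIrr G)
  have h1 : ((trivIrr G : IrrCharacter G) : G → ℂ) 1 = 1 := rfl
  rw [h1] at h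
  exact_mod_cast h.symm

/-- when there is no type A character, a sum over all irreducible characters of a function vanishing on type B splits as
`1_G`, `Y`, and the characters outside `B_0` -/
theorem sum_split [Fintype (IrrCharacter G)] [DecidablePred (· ∈ X)] [DecidablePred (· ∈ Y)]
    [DecidablePred (· ∈ X ∪ Y)]
    (hB0 : B0 p P X Y v ε) (hAe : typeA X v = ∅) {M : Type*} [AddCommMonoid M]
    (F : IrrCharacter G → M) (hB : ∀ χ ∈ typeB X v, F χ = 0) :
    ∑ χ : IrrCharacter G, F χ = F (trivIrr G) + ∑ χ ∈ Finset.univ.filter (· ∈ Y), F χ +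
      ∑ χ ∈ Finset.univ.filter (fun χ => ¬ χ ∈ X ∪ Y), F χ := by
  classical
  rw [← Finset.sum_filter_add_sum_filter_not Finset.univ (· ∈ X ∪ Y) F]
  congr 1
  have hun : Finset.univ.filter (· ∈ X ∪ Y) =
      Finset.univ.filter (· ∈ X) ∪ Finset.univ.filter (· ∈ Y) := by
    ext χ
    simp [Set.mem_union]
  have hdisj : Disjoint (Finset.univ.filter (· ∈ X)) (Finset.univ.filter (· ∈ Y)) := by
    rw [Finset.disjoint_left]
    intro χ h1 h2
    rw [Finset.mem_filter] at h1 h2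
    exact (Set.disjoint_left.mp hB0.disj) h1.2 h2.2
  rw [hun, Finset.sum_union hdisj]
  congr 1
  refine Finset.sum_eq_single_of_mem (trivIrr G) ?_ ?_
  · rw [Finset.mem_filter]
    exact ⟨Finset.mem_univ _, hB0.trivX⟩
  · intro χ hχ hne
    rw [Finset.mem_filter] at hχ
    apply hB
    refine ⟨hχ.2, ?_⟩
    rcases hB0.sgnX χ hχ.2 with h | h
    · exfalso
      have : χ ∈ typeA X v := ⟨hχ.2, hne, h⟩
      rw [hAe] at this
      exact this
    · exact h

/-- **BRC-VALY0**. -/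
theorem val_y0 (hS : Special p P n w X Y v ε) (hL : LinData P) (hA : StepA p P n w X Y v ε)
    (hC2 : StepC p P n w X Y v ε) (hε : ε = -1) (hw : w = 1) (hnt : n + 1 = tI p P) (hf : fI P = 2)
    (y0 : G) (hyN : y0 ∈ Nz P) (hyP : y0 ∉ P)
    (hout1 : ∀ χ : IrrCharacter G, χ ∉ X ∪ Y → aP P χ = 1)
    (hcout : Nat.card ((X ∪ Y)ᶜ : Set (IrrCharacter G)) = n) :
    (∀ ξ ∈ typeB X v, (ξ : G → ℂ) y0 = 0) ∧ (∀ ψ ∈ Y, (ψ : G → ℂ) y0 = -1) ∧
    (∀ χ : IrrCharacter G, χ ∉ X ∪ Y → (χ : G → ℂ) y0 = 1) ∧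
    ∑ᶠ χ : IrrCharacter G, (χ : G → ℂ) y0 = 0 := by
  classical
  let _ := fintypeIrr G
  have hpp : p.Prime := Fact.out
  have hB0 : B0 p P X Y v ε := hS.bx.b0
  -- the free character `β₀`
  have hcf : Nat.card (free P X v) = 1 := by rw [hC2.cardFree, hw]
  obtain ⟨-, ⟨⟨β₀, hβ₀⟩⟩⟩ := Nat.card_eq_one_iff_unique.mp hcf
  obtain ⟨hβ₀L, hβ₀ne, -⟩ := hβ₀
  have htL : trivIrr ↥(Nz P) ∈ Lin P := fun x _ => rfl
  -- `Lin P = {1_N, β₀}`
  have hLin : Lin P = {trivIrr ↥(Nz P), β₀} := by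
    symm
    apply Set.eq_of_subset_of_ncard_le
    · intro β hβ
      rcases hβ with rfl | rfl
      · exact htL
      · exact hβ₀L
    · rw [Set.ncard_pair (Ne.symm hβ₀ne), ← Nat.card_coe_set_eq, hL.card_eq, hf]
    · exact Set.toFinite _
  -- `β₀ y0 = -1`
  have hβy : (β₀ : Nz P → ℂ) ⟨y0, hyN⟩ = -1 := by
    have h1 := hL.sum_not_mem ⟨y0, hyN⟩ hyP
    rw [hLin, finsum_mem_pair (Ne.symm hβ₀ne)] at h1
    have h2 : ((trivIrr ↥(Nz P) : IrrCharacter (Nz P)) : Nz P → ℂ) ⟨y0, hyN⟩ = 1 := rfl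
    rw [h2] at h1
    linear_combination h1
  -- the value at `y0` and `aP` in terms of the two multiplicities
  have hval : ∀ χ : IrrCharacter G, (χ : G → ℂ) y0 =
      (cN P χ (trivIrr ↥(Nz P)) : ℂ) - (cN P χ β₀ : ℂ) := by
    intro χ
    have h1 := hA.resN χ ⟨y0, hyN⟩ hyP
    rw [hLin, finsum_mem_pair (Ne.symm hβ₀ne), hβy] at h1
    have h2 : ((trivIrr ↥(Nz P) : IrrCharacter (Nz P)) : Nz P → ℂ) ⟨y0, hyN⟩ = 1 := rfl
    rw [h2] at h1
    have e1 : (χ : G → ℂ) y0 = (χ : G → ℂ) ((⟨y0, hyN⟩ : Nz P) : G) := rfl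
    rw [e1, h1]
    ring
  have haP : ∀ χ : IrrCharacter G, cN P χ (trivIrr ↥(Nz P)) + cN P χ β₀ = aP P χ := by
    intro χ
    have h1 := hA.sum_cN χ
    rw [hLin, finsum_mem_pair (Ne.symm hβ₀ne)] at h1
    exact h1
  -- no type A
  have hAe : typeA X v = ∅ := by
    have h1 := hC2.cardLin
    rw [hw, hf] at h1
    have h2 : Nat.card (typeA X v) * (n + 1) = 0 := by omega
    have h3 : Nat.card (typeA X v) = 0 := by
      rcases Nat.mul_eq_zero.mp h2 with h | h
      · exact h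
      · omega
    have h4 : (typeA X v).ncard = 0 := by rw [← Nat.card_coe_set_eq]; exact h3
    exact (Set.ncard_eq_zero (Set.toFinite _)).mp h4
  -- type B
  have hvB : ∀ ξ ∈ typeB X v, (ξ : G → ℂ) y0 = 0 := by
    intro ξ hξ
    have h1 := hA.aP_B ξ hξ
    have h2 := haP ξ
    have h3 : cN P ξ (trivIrr ↥(Nz P)) = 0 := by omega
    have h4 : cN P ξ β₀ = 0 := by omega
    rw [hval, h3, h4]
    simp
  -- `Y`
  have hvY : ∀ ψ ∈ Y, (ψ : G → ℂ) y0 = -1 := by
    intro ψ hψ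
    have h1 := hA.aP_Y ψ hψ
    have h2 := haP ψ
    have h3 := hC2.cN_Y_triv ψ hψ
    have h4 : cN P ψ β₀ = 1 := by omega
    rw [hval, h3, h4]
    simp
  -- outside `B_0`
  have hcO : (Finset.univ.filter (fun χ : IrrCharacter G => ¬ χ ∈ X ∪ Y)).card = n := by
    rw [← hcout, Nat.card_eq_fintype_card, Fintype.card_subtype]
    rfl
  have hcNout : ∀ χ : IrrCharacter G, χ ∉ X ∪ Y → cN P χ (trivIrr ↥(Nz P)) = 1 := by
    -- `deg_cN` at `1_N`
    have h1 := hA.deg_cN (trivIrr ↥(Nz P)) htL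
    rw [finsum_eq_sum_of_fintype,
      sum_split hB0 hAe (fun χ : IrrCharacter G => cN P χ (trivIrr ↥(Nz P)) * charDegree (χ : G → ℂ))
        (by
          intro ξ hξ
          have h1 := hA.aP_B ξ hξ
          have h2 := haP ξ
          have h3 : cN P ξ (trivIrr ↥(Nz P)) = 0 := by omega
          show cN P ξ (trivIrr ↥(Nz P)) * charDegree (ξ : G → ℂ) = 0
          rw [h3, zero_mul])] at h1
    have h2 : ∑ χ ∈ Finset.univ.filter (· ∈ Y),
        cN P χ (trivIrr ↥(Nz P)) * charDegree (χ : G → ℂ) = 0 := by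
      apply Finset.sum_eq_zero
      intro ψ hψ
      rw [Finset.mem_filter] at hψ
      rw [hC2.cN_Y_triv ψ hψ.2, zero_mul]
    have h3 : ∑ χ ∈ Finset.univ.filter (fun χ : IrrCharacter G => ¬ χ ∈ X ∪ Y),
        cN P χ (trivIrr ↥(Nz P)) * charDegree (χ : G → ℂ) =
        p * ∑ χ ∈ Finset.univ.filter (fun χ : IrrCharacter G => ¬ χ ∈ X ∪ Y),
          cN P χ (trivIrr ↥(Nz P)) := by
      rw [Finset.mul_sum]
      apply Finset.sum_congr rfl
      intro χ hχ
      rw [Finset.mem_filter] at hχ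
      rw [hA.aP_out χ hχ.2, hout1 χ hχ.2]
      ring
    rw [h2, h3, hA.cN_triv, charDegree_trivIrr'] at h1
    have h4 : ∑ χ ∈ Finset.univ.filter (fun χ : IrrCharacter G => ¬ χ ∈ X ∪ Y),
        cN P χ (trivIrr ↥(Nz P)) = n := by
      have h5 : p * ∑ χ ∈ Finset.univ.filter (fun χ : IrrCharacter G => ¬ χ ∈ X ∪ Y),
          cN P χ (trivIrr ↥(Nz P)) = p * n := by
        rw [mul_comm p n]; omega
      exact Nat.eq_of_mul_eq_mul_left hpp.pos h5
    -- each term is at most `1`, and there are `n` of them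
    have hle : ∀ χ : IrrCharacter G, χ ∉ X ∪ Y → cN P χ (trivIrr ↥(Nz P)) ≤ 1 := by
      intro χ hχ
      have := haP χ
      rw [hout1 χ hχ] at this
      omega
    have h6 : ∑ χ ∈ Finset.univ.filter (fun χ : IrrCharacter G => ¬ χ ∈ X ∪ Y),
        (1 - cN P χ (trivIrr ↥(Nz P))) = 0 := by
      have h7 : ∑ χ ∈ Finset.univ.filter (fun χ : IrrCharacter G => ¬ χ ∈ X ∪ Y),
          cN P χ (trivIrr ↥(Nz P)) +
          ∑ χ ∈ Finset.univ.filter (fun χ : IrrCharacter G => ¬ χ ∈ X ∪ Y),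
            (1 - cN P χ (trivIrr ↥(Nz P))) = n := by
        rw [← Finset.sum_add_distrib, ← hcO, Finset.card_eq_sum_ones]
        apply Finset.sum_congr rfl
        intro χ hχ
        rw [Finset.mem_filter] at hχ
        have := hle χ hχ.2
        omega
      omega
    intro χ hχ
    have h8 := (Finset.sum_eq_zero_iff.mp h6) χ (by
      rw [Finset.mem_filter]; exact ⟨Finset.mem_univ _, hχ⟩)
    have := hle χ hχ
    omega
  have hvO : ∀ χ : IrrCharacter G, χ ∉ X ∪ Y → (χ : G → ℂ) y0 = 1 := by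
    intro χ hχ
    have h1 := hcNout χ hχ
    have h2 := haP χ
    rw [hout1 χ hχ] at h2
    have h3 : cN P χ β₀ = 0 := by omega
    rw [hval, h1, h3]
    simp
  refine ⟨hvB, hvY, hvO, ?_⟩
  -- the sum
  rw [finsum_eq_sum_of_fintype, sum_split hB0 hAe (fun χ : IrrCharacter G => (χ : G → ℂ) y0) hvB]
  have h1 : ∑ χ ∈ Finset.univ.filter (· ∈ Y), (χ : G → ℂ) y0 = -((n : ℂ) + 1) := by
    rw [Finset.sum_congr rfl (fun χ hχ => hvY χ (Finset.mem_filter.mp hχ).2), Finset.sum_const,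
      nsmul_eq_mul, mul_neg, mul_one]
    have hcY : (Finset.univ.filter (fun χ : IrrCharacter G => χ ∈ Y)).card = n + 1 := by
      rw [hnt]
      have := hB0.cardY
      rw [Nat.card_eq_fintype_card, Fintype.card_subtype] at this
      exact this
    rw [hcY]
    push_cast
    ring
  have h2 : ∑ χ ∈ Finset.univ.filter (fun χ : IrrCharacter G => ¬ χ ∈ X ∪ Y), (χ : G → ℂ) y0 =
      (n : ℂ) := by
    rw [Finset.sum_congr rfl (fun χ hχ => hvO χ (Finset.mem_filter.mp hχ).2), Finset.sum_const,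
      nsmul_eq_mul, mul_one, hcO]
  rw [h1, h2]
  have h3 : ((trivIrr G : IrrCharacter G) : G → ℂ) y0 = 1 := rfl
  rw [h3]
  ring

end Cfsg.Agent.Lib.Helper2.BRCVALY0
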