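import Mathlib
import Cfsg.Agent.Lib.Lead.BrLeo7

/-!
helper2: S4481 market leaf **LAT1** `lattice_star` (planner helper6, `notes/S4481_leaves.lean`).

Norm two integer vectors `g j = m0 - mj j - e_{b₀}` with pairwise inner product one and `1 + Σ g f = 0` for a
positive integer vector `f` with `f b₀ = 1` form a star with a common sign.
-/

set_option autoImplicit false

namespace Cfsg.Agent.Lib.Helper2.DIHLAT1

open Cfsg.Agent.CharLib

variable {B : Type*} [Fintype B] [DecidableEq B]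

/-- Values of an integer vector of norm at most three are `0, 1, -1`. -/
theorem val_of_norm_le_three (u : B → ℤ) (n : ℤ) (hn : n ≤ 3) (h2 : ∑ χ : B, u χ * u χ = n) (χ : B) :
    u χ = 0 ∨ u χ = 1 ∨ u χ = -1 := by
  have h1 : u χ * u χ ≤ ∑ χ : B, u χ * u χ :=
    Finset.single_le_sum (f := fun χ => u χ * u χ) (fun i _ => mul_self_nonneg (u i)) (Finset.mem_univ χ)
  rw [h2] at h1
  have h3 : -1 ≤ u χ ∧ u χ ≤ 1 := by
    constructor <;> nlinarith [mul_self_nonneg (u χ)]
  omega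

/-- The support of an integer vector of norm `n ≤ 3` has `n` elements. -/
theorem card_support_of_norm (u : B → ℤ) (n : ℕ) (hn : n ≤ 3) (h2 : ∑ χ : B, u χ * u χ = (n : ℤ)) :
    (Finset.univ.filter (fun χ => u χ ≠ 0)).card = n := by
  have hval := val_of_norm_le_three u n (by exact_mod_cast hn) h2
  have hsq : ∀ χ : B, u χ * u χ = if u χ ≠ 0 then 1 else 0 := by
    intro χ
    rcases hval χ with h | h | h <;> rw [h] <;> simp
  have h1 : ∑ χ : B, u χ * u χ = ((Finset.univ.filter (fun χ => u χ ≠ 0)).card : ℤ) := by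
    rw [Finset.sum_congr rfl (fun χ _ => hsq χ), Finset.sum_boole]
  rw [h2] at h1
  exact_mod_cast h1.symm

/-- An integer vector of norm two is `± e_x ± e_y`. -/
theorem norm_two_shape (u : B → ℤ) (h2 : ∑ χ : B, u χ * u χ = 2) :
    ∃ x y : B, x ≠ y ∧ (u x = 1 ∨ u x = -1) ∧ (u y = 1 ∨ u y = -1) ∧ ∀ χ, χ ≠ x → χ ≠ y → u χ = 0 := by
  have hval := val_of_norm_le_three u 2 (by norm_num) h2
  have hcard := card_support_of_norm u 2 (by norm_num) (by exact_mod_cast h2)
  obtain ⟨x, y, hxy, hS⟩ := Finset.card_eq_two.mp hcard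
  have hx : u x ≠ 0 := by
    have : x ∈ Finset.univ.filter (fun χ => u χ ≠ 0) := by rw [hS]; simp
    exact (Finset.mem_filter.mp this).2
  have hy : u y ≠ 0 := by
    have : y ∈ Finset.univ.filter (fun χ => u χ ≠ 0) := by rw [hS]; simp
    exact (Finset.mem_filter.mp this).2
  refine ⟨x, y, hxy, ?_, ?_, ?_⟩
  · rcases hval x with h | h | h
    · exact absurd h hx
    · exact Or.inl h
    · exact Or.inr h
  · rcases hval y with h | h | h
    · exact absurd h hy
    · exact Or.inl h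
    · exact Or.inr h
  · intro χ h1 h3
    by_contra h4
    have : χ ∈ Finset.univ.filter (fun χ => u χ ≠ 0) := Finset.mem_filter.mpr ⟨Finset.mem_univ _, h4⟩
    rw [hS] at this
    simp only [Finset.mem_insert, Finset.mem_singleton] at this
    rcases this with h | h
    · exact h1 h
    · exact h3 h

/-- A sum against a vector supported on two points. -/
theorem sum_mul_of_support_two (u f : B → ℤ) {x y : B} (hxy : x ≠ y)
    (hz : ∀ χ, χ ≠ x → χ ≠ y → u χ = 0) : ∑ χ : B, u χ * f χ = u x * f x + u y * f y := by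
  have h1 : ∑ χ : B, u χ * f χ = ∑ χ ∈ ({x, y} : Finset B), u χ * f χ := by
    symm
    apply Finset.sum_subset (Finset.subset_univ _)
    intro χ _ hχ
    simp only [Finset.mem_insert, Finset.mem_singleton, not_or] at hχ
    rw [hz χ hχ.1 hχ.2, zero_mul]
  rw [h1, Finset.sum_pair hxy]

/-- An integer vector of norm two with `1 + Σ u f = 0` for a positive integer vector `f` is `e_x - e_y` with
`f y = f x + 1`. -/
theorem exists_eq_indicator_sub_of_norm_two' (u : B → ℤ) (h2 : ∑ χ : B, u χ * u χ = 2)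
    (f : B → ℤ) (hf : ∀ χ, 0 < f χ) (huf : ∑ χ : B, u χ * f χ = -1) :
    ∃ x y : B, x ≠ y ∧ f y = f x + 1 ∧
      ∀ χ : B, u χ = (if χ = x then 1 else 0) - (if χ = y then 1 else 0) := by
  obtain ⟨x, y, hxy, hx, hy, hz⟩ := norm_two_shape u h2
  have hsum := sum_mul_of_support_two u f hxy hz
  rw [huf] at hsum
  have hfx := hf x
  have hfy := hf y
  have key : ∀ (x y : B), x ≠ y → u x = 1 → u y = -1 → (∀ χ, χ ≠ x → χ ≠ y → u χ = 0) →
      ∀ χ : B, u χ = (if χ = x then 1 else 0) - (if χ = y then 1 else 0) := by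
    intro x y hxy hx hy hz χ
    by_cases h1 : χ = x
    · rw [h1, hx, if_pos rfl, if_neg hxy]; ring
    · by_cases h3 : χ = y
      · rw [h3, hy, if_neg (Ne.symm hxy), if_pos rfl]; ring
      · rw [hz χ h1 h3, if_neg h1, if_neg h3]; ring
  rcases hx with hx | hx <;> rcases hy with hy | hy
  · rw [hx, hy] at hsum; omega
  · refine ⟨x, y, hxy, ?_, key x y hxy hx hy hz⟩
    rw [hx, hy] at hsum; omega
  · refine ⟨y, x, Ne.symm hxy, ?_, key y x (Ne.symm hxy) hy hx (fun χ h1 h3 => hz χ h3 h1)⟩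
    rw [hx, hy] at hsum; omega
  · rw [hx, hy] at hsum; omega

/-- **LAT1** the lattice lemma, first half. -/
theorem lattice_star (q : ℕ) (hq : 1 ≤ q) (m0 : B → ℤ) (mj : Fin q → B → ℤ) (b₀ : B) (t : ℤ) (f : B → ℤ)
    (hf : ∀ χ, 0 < f χ) (hf0 : f b₀ = 1)
    (h00 : ∑ χ, m0 χ * m0 χ = t + 2)
    (h0j : ∀ j, ∑ χ, m0 χ * mj j χ = t)
    (hjj : ∀ i j, ∑ χ, mj i χ * mj j χ = t + if i = j then 1 else 0)
    (hb0 : m0 b₀ = 1) (hbj : ∀ j, mj j b₀ = 0)
    (hfj : ∀ j, ∑ χ, (m0 χ - mj j χ) * f χ = 0) :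
    ∃ (δ₁ : ℤ) (c : B) (a : Fin q → B), (δ₁ = 1 ∨ δ₁ = -1) ∧ Function.Injective a ∧ c ≠ b₀ ∧
      (∀ j, a j ≠ b₀ ∧ a j ≠ c) ∧
      (∀ j χ, mj j χ = m0 χ - (if χ = b₀ then 1 else 0) - (if χ = c then δ₁ else 0) +
        (if χ = a j then δ₁ else 0)) := by
  -- the vectors `g j`
  set g : Fin q → B → ℤ := fun j χ => m0 χ - mj j χ - (if χ = b₀ then 1 else 0) with hg
  have hgb : ∀ j, g j b₀ = 0 := by
    intro j
    simp only [hg, hb0, hbj j]; simp
  -- inner products
  have hip : ∀ i j, ∑ χ, g i χ * g j χ = 1 + if i = j then 1 else 0 := by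
    intro i j
    have e : ∀ χ : B, g i χ * g j χ =
        m0 χ * m0 χ - m0 χ * mj j χ - m0 χ * mj i χ + mj i χ * mj j χ
          - (if χ = b₀ then (m0 χ - mj i χ) + (m0 χ - mj j χ) - 1 else 0) := by
      intro χ
      simp only [hg]
      split_ifs <;> ring
    rw [Finset.sum_congr rfl (fun χ _ => e χ), Finset.sum_sub_distrib, Finset.sum_add_distrib,
      Finset.sum_sub_distrib, Finset.sum_sub_distrib, h00, h0j, h0j, hjj, Finset.sum_ite_eq']
    simp only [Finset.mem_univ, if_true, hb0, hbj]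
    ring
  have hgf : ∀ j, ∑ χ, g j χ * f χ = -1 := by
    intro j
    have e : ∀ χ : B, g j χ * f χ = (m0 χ - mj j χ) * f χ - (if χ = b₀ then f χ else 0) := by
      intro χ
      simp only [hg]
      split_ifs <;> ring
    rw [Finset.sum_congr rfl (fun χ _ => e χ), Finset.sum_sub_distrib, hfj, Finset.sum_ite_eq']
    simp only [Finset.mem_univ, if_true, hf0]
    ring
  -- shapes
  have hshape : ∀ j, ∃ x y : B, x ≠ y ∧ f y = f x + 1 ∧
      ∀ χ : B, g j χ = (if χ = x then 1 else 0) - (if χ = y then 1 else 0) := by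
    intro j
    apply exists_eq_indicator_sub_of_norm_two' (g j) _ f hf (hgf j)
    rw [hip j j, if_pos rfl]; ring
  choose x y hxy hfxy hgxy using hshape
  have hxb : ∀ j, x j ≠ b₀ := by
    intro j hxj
    have h1 := hgxy j b₀
    rw [hgb j, ← hxj, if_pos rfl, if_neg (hxy j)] at h1
    omega
  have hyb : ∀ j, y j ≠ b₀ := by
    intro j hyj
    have h1 := hgxy j b₀
    rw [hgb j, ← hyj, if_pos rfl, if_neg (Ne.symm (hxy j))] at h1
    omega
  -- pairs
  have hT : ∀ i j, i ≠ j → (x i = x j ∧ y i ≠ y j) ∨ (x i ≠ x j ∧ y i = y j) := by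
    intro i j hij
    apply lattice_T_aux (hxy i) (hxy j)
    rw [← sum_indicator_sub_mul]
    have h5 : ∑ χ : B, ((if χ = x i then (1:ℤ) else 0) - (if χ = y i then 1 else 0)) *
        ((if χ = x j then (1:ℤ) else 0) - (if χ = y j then 1 else 0)) = ∑ χ : B, g i χ * g j χ :=
      Finset.sum_congr rfl (fun χ _ => by rw [hgxy i χ, hgxy j χ])
    rw [h5, hip i j, if_neg hij]; ring
  -- the dichotomy at the index `0`
  have hq0 : 0 < q := hq
  set i₀ : Fin q := ⟨0, hq0⟩ with hi₀
  have hdich : (∀ j, x j = x i₀) ∨ (∀ j, y j = y i₀) := by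
    by_contra hcon
    rw [not_or, not_forall, not_forall] at hcon
    obtain ⟨⟨j₁, hx₁⟩, ⟨j₂, hy₂⟩⟩ := hcon
    have h1 : j₁ ≠ i₀ := fun h => hx₁ (by rw [h])
    have h2 : j₂ ≠ i₀ := fun h => hy₂ (by rw [h])
    have hy₁ : y j₁ = y i₀ := by
      rcases hT j₁ i₀ h1 with h | h
      · exact absurd h.1 hx₁
      · exact h.2
    have hx₂ : x j₂ = x i₀ := by
      rcases hT j₂ i₀ h2 with h | h
      · exact h.1
      · exact absurd h.2 hy₂
    have h12 : j₁ ≠ j₂ := by
      intro h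
      rw [h] at hy₁
      exact hy₂ hy₁
    rcases hT j₁ j₂ h12 with h | h
    · exact hx₁ (h.1.trans hx₂)
    · exact hy₂ (h.2.symm.trans hy₁)
  have hmj : ∀ j χ, mj j χ = m0 χ - (if χ = b₀ then 1 else 0) - g j χ := by
    intro j χ
    simp only [hg]; ring
  rcases hdich with hcx | hcy
  · -- common `x`
    refine ⟨1, x i₀, y, Or.inl rfl, ?_, hxb i₀, ?_, ?_⟩
    · intro i j hij
      by_contra hne
      rcases hT i j hne with h | h
      · exact h.2 hij
      · exact h.1 ((hcx i).trans (hcx j).symm)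
    · intro j
      refine ⟨hyb j, ?_⟩
      rw [← hcx j]
      exact Ne.symm (hxy j)
    · intro j χ
      rw [hmj j χ, hgxy j χ, hcx j]
      ring
  · -- common `y`
    refine ⟨-1, y i₀, x, Or.inr rfl, ?_, hyb i₀, ?_, ?_⟩
    · intro i j hij
      by_contra hne
      rcases hT i j hne with h | h
      · exact h.2 ((hcy i).trans (hcy j).symm)
      · exact h.1 hij
    · intro j
      refine ⟨hxb j, ?_⟩
      rw [← hcy j]
      exact hxy j
    · intro j χ
      rw [hmj j χ, hgxy j χ, hcy j]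
      split_ifs <;> ring

end Cfsg.Agent.Lib.Helper2.DIHLAT1
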