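/-
helper2: S4017 market (planner helper26), leaf MIX-CORELE:
`O(C_G(t)) ≤ C_G(t)`, it is normalized by `C_G(t)`, and it has odd order
(for the Prelude's `centralizerPPrimeCore 2`).
Exact name + binders of `notes/S4017_leaves.lean` (`core_basic`).
-/
import Mathlib
import Cfsg.Prelude.Def_Local
import Cfsg.Agent.Lib.Helper26.MixDefs
import Cfsg.Agent.Lib.Helper12.Cores

set_option autoImplicit false

namespace Cfsg.Agent.Lib.Helper2.MIXCORELE

open Cfsg Cfsg.Agent.Lib.Helper26.Mix

universe u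

section gen

variable {G : Type u} [Group G] [Finite G]

/-- CORELE : `O(C_G(t)) ≤ C_G(t)`, normalized by `C_G(t)`, of odd order. -/
theorem core_basic (t : G) :
    centralizerPPrimeCore 2 t ≤ Subgroup.centralizer ({t} : Set G) ∧
    (∀ x ∈ Subgroup.centralizer ({t} : Set G), ∀ w ∈ centralizerPPrimeCore 2 t,
      x * w * x⁻¹ ∈ centralizerPPrimeCore 2 t) ∧
    Odd (Nat.card ↥(centralizerPPrimeCore 2 t)) := by
  refine ⟨?_, ?_, ?_⟩
  · unfold centralizerPPrimeCore
    exact Subgroup.map_subtype_le _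
  · intro x hx w hw
    unfold centralizerPPrimeCore at hw ⊢
    obtain ⟨w', hw', rfl⟩ := Subgroup.mem_map.mp hw
    have hchar := Cfsg.Agent.Lib.Helper12.pPrimeCore_characteristic
      (G := ↥(Subgroup.centralizer ({t} : Set G))) 2
    have hn : (pPrimeCore 2 ↥(Subgroup.centralizer ({t} : Set G))).Normal := inferInstance
    refine Subgroup.mem_map.mpr ⟨(⟨x, hx⟩ : ↥(Subgroup.centralizer ({t} : Set G))) * w' *
      (⟨x, hx⟩ : ↥(Subgroup.centralizer ({t} : Set G)))⁻¹, hn.conj_mem _ hw' _, rfl⟩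
  · unfold centralizerPPrimeCore
    rw [Subgroup.card_map_of_injective (Subgroup.subtype_injective _)]
    have hc := Cfsg.Agent.Lib.Helper12.pPrimeCore_coprime
      (X := ↥(Subgroup.centralizer ({t} : Set G))) 2
    exact Nat.coprime_two_right.mp hc

end gen

end Cfsg.Agent.Lib.Helper2.MIXCORELE
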