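import Mathlib
import Cfsg.Agent.Lib.Helper18.UDenseDefs

/-!
S5801 (3) (frames `6 × 1` in `SU_6(q)`), dense case at `n = 6` (paper proof `notes/S5801_frames6_dense_helper2.md`), Step 3 = the kill:
if the image `g E_T` of a coordinate 3-space is split with respect to a partition `P ⊔ Pᶜ` of the rows (every row of `g[·,T]` is
orthogonal to `x₀` or a multiple of `r`), a torus element `t = diag(ε₁ on P, ε₂ off P)` of `L` gives a monomial `y = g⁻¹ t g`
whose permutation is a fixed-point-free involution preserving the 3-set `T`: impossible.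
-/

set_option autoImplicit false
set_option linter.unusedSectionVars false

namespace Cfsg.Agent.Lib.Helper2.UDense6
open Matrix Cfsg.Agent.Lib.Helper11.Mono Cfsg.Agent.Lib.Helper15.MonoLeaf Cfsg.Agent.Lib.Helper18.UDense

variable {F : Type*} [Field F] {ι : Type} [Fintype ι] [DecidableEq ι]

/-- the explicit column of `g⁻¹ t g` -/
lemma col_formula (g : GL ι F) (P : Finset ι) (ε₁ ε₂ : Fˣ) (x : ι → F)
    (hw0 : ∀ s, s ∉ P → ((g : Matrix ι ι F) *ᵥ x) s = 0) (j : ι) (γ : F)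
    (hγ : ∀ s ∈ P, (g : Matrix ι ι F) s j = γ * ((g : Matrix ι ι F) *ᵥ x) s) :
    ((g⁻¹ * dg (fun s => if s ∈ P then ε₁ else ε₂) * g : GL ι F) : Matrix ι ι F) *ᵥ
        (Pi.single j (1 : F)) =
      (ε₂ : F) • (Pi.single j (1 : F) : ι → F) + (((ε₁ : F) - (ε₂ : F)) * γ) • x := by
  have key : ((dg (fun s => if s ∈ P then ε₁ else ε₂) : GL ι F) : Matrix ι ι F) *ᵥ
      ((g : Matrix ι ι F) *ᵥ (Pi.single j (1 : F))) =
      (g : Matrix ι ι F) *ᵥ ((ε₂ : F) • (Pi.single j (1 : F) : ι → F) +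
        (((ε₁ : F) - (ε₂ : F)) * γ) • x) := by
    rw [dg_mulVec, Matrix.mulVec_add, Matrix.mulVec_smul, Matrix.mulVec_smul,
      Matrix.mulVec_single_one]
    ext s
    simp only [Pi.add_apply, Pi.smul_apply, smul_eq_mul, Matrix.col_apply]
    by_cases hs : s ∈ P
    · rw [if_pos hs, hγ s hs]
      ring
    · rw [if_neg hs, hw0 s hs]
      ring
  rw [Units.val_mul, Units.val_mul, ← Matrix.mulVec_mulVec, ← Matrix.mulVec_mulVec, key,
    inv_mulVec_mulVec]

/-- the quadratic relation of `y = g⁻¹ t g` on vectors -/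
lemma quad_formula (g : GL ι F) (P : Finset ι) (ε₁ ε₂ : Fˣ) (v : ι → F) :
    ((g⁻¹ * dg (fun s => if s ∈ P then ε₁ else ε₂) * g : GL ι F) : Matrix ι ι F) *ᵥ
      (((g⁻¹ * dg (fun s => if s ∈ P then ε₁ else ε₂) * g : GL ι F) : Matrix ι ι F) *ᵥ v) =
      ((ε₁ : F) + (ε₂ : F)) •
        (((g⁻¹ * dg (fun s => if s ∈ P then ε₁ else ε₂) * g : GL ι F) : Matrix ι ι F) *ᵥ v) -
        ((ε₁ : F) * (ε₂ : F)) • v := by
  obtain ⟨τ, hτ⟩ : ∃ τ : ι → Fˣ, τ = fun s => if s ∈ P then ε₁ else ε₂ := ⟨_, rfl⟩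
  rw [← hτ]
  have hD : ∀ u : ι → F, ((dg τ : GL ι F) : Matrix ι ι F) *ᵥ
      (((dg τ : GL ι F) : Matrix ι ι F) *ᵥ u) =
      ((ε₁ : F) + (ε₂ : F)) • (((dg τ : GL ι F) : Matrix ι ι F) *ᵥ u) -
        ((ε₁ : F) * (ε₂ : F)) • u := by
    intro u
    rw [dg_mulVec, dg_mulVec]
    ext s
    simp only [Pi.sub_apply, Pi.smul_apply, smul_eq_mul]
    rw [hτ]
    by_cases hs : s ∈ P
    · simp only [if_pos hs]; ring
    · simp only [if_neg hs]; ring
  have e : ∀ u : ι → F, ((g⁻¹ * dg τ * g : GL ι F) : Matrix ι ι F) *ᵥ u =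
      ((g⁻¹ : GL ι F) : Matrix ι ι F) *ᵥ (((dg τ : GL ι F) : Matrix ι ι F) *ᵥ
        ((g : Matrix ι ι F) *ᵥ u)) := by
    intro u
    rw [Units.val_mul, Units.val_mul, ← Matrix.mulVec_mulVec, ← Matrix.mulVec_mulVec]
  rw [e, e v, mulVec_inv_mulVec, hD, Matrix.mulVec_sub, Matrix.mulVec_smul, Matrix.mulVec_smul,
    inv_mulVec_mulVec]


/-- **the kill** -/
theorem kill6 (h6 : Fintype.card ι = 6) (L : Subgroup (GL ι F)) (hD : ColDense L) (g : GL ι F)
    (hg : g ∈ L) (hnm : ¬ IsMono (g : Matrix ι ι F)) {a b c : ι} (hab : a ≠ b) (hac : a ≠ c)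
    (hbc : b ≠ c) (x₀ r : Fin 3 → F) (hr : r ⬝ᵥ x₀ ≠ 0)
    (hsplit : ∀ s, ![(g : Matrix ι ι F) s a, (g : Matrix ι ι F) s b, (g : Matrix ι ι F) s c] ⬝ᵥ x₀ = 0 ∨
      ∃ k : F, ![(g : Matrix ι ι F) s a, (g : Matrix ι ι F) s b, (g : Matrix ι ι F) s c] = k • r)
    (P : Finset ι)
    (hP : ∀ s, s ∈ P ↔
      ![(g : Matrix ι ι F) s a, (g : Matrix ι ι F) s b, (g : Matrix ι ι F) s c] ⬝ᵥ x₀ ≠ 0)
    (hP2 : ∃ s s', s ≠ s' ∧ s ∈ P ∧ s' ∈ P) (hR2 : ∃ s s', s ≠ s' ∧ s ∉ P ∧ s' ∉ P)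
    (ε₁ ε₂ : Fˣ) (hε : ε₁ ≠ ε₂) (ht : dg (fun s => if s ∈ P then ε₁ else ε₂) ∈ L) : False := by
  classical
  have hεF : (ε₁ : F) ≠ (ε₂ : F) := fun h => hε (Units.ext h)
  obtain ⟨xt, hxt⟩ : ∃ xt : ι → F, xt = x₀ 0 • (Pi.single a (1 : F) : ι → F) +
      x₀ 1 • (Pi.single b (1 : F) : ι → F) + x₀ 2 • (Pi.single c (1 : F) : ι → F) := ⟨_, rfl⟩
  have hgx : ∀ s, ((g : Matrix ι ι F) *ᵥ xt) s =
      ![(g : Matrix ι ι F) s a, (g : Matrix ι ι F) s b, (g : Matrix ι ι F) s c] ⬝ᵥ x₀ := by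
    intro s
    rw [hxt, Matrix.mulVec_add, Matrix.mulVec_add, Matrix.mulVec_smul, Matrix.mulVec_smul,
      Matrix.mulVec_smul, Matrix.mulVec_single_one, Matrix.mulVec_single_one,
      Matrix.mulVec_single_one, vec3_dotProduct]
    simp only [Pi.add_apply, Pi.smul_apply, smul_eq_mul, Matrix.col_apply, Matrix.cons_val_zero,
      Matrix.cons_val_one, Matrix.cons_val]
    ring
  have hw0 : ∀ s, s ∉ P → ((g : Matrix ι ι F) *ᵥ xt) s = 0 := by
    intro s hs
    rw [hgx]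
    by_contra h
    exact hs ((hP s).mpr h)
  have hxt0 : ∀ s, s ≠ a → s ≠ b → s ≠ c → xt s = 0 := by
    intro s h1 h2 h3
    rw [hxt]
    simp [h1, h2, h3]
  -- the proportionality constants
  have hγ : ∀ (j : ι) (jj : Fin 3),
      (∀ s, ![(g : Matrix ι ι F) s a, (g : Matrix ι ι F) s b, (g : Matrix ι ι F) s c] jj =
        (g : Matrix ι ι F) s j) →
      ∀ s ∈ P, (g : Matrix ι ι F) s j = (r jj / (r ⬝ᵥ x₀)) * ((g : Matrix ι ι F) *ᵥ xt) s := by
    intro j jj hj s hs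
    rcases hsplit s with h | ⟨k, hk⟩
    · exact absurd h ((hP s).mp hs)
    · rw [hgx, ← hj s, hk, smul_dotProduct, Pi.smul_apply, smul_eq_mul, smul_eq_mul]
      field_simp
  obtain ⟨Y, hY⟩ : ∃ Y : GL ι F, Y = g⁻¹ * dg (fun s => if s ∈ P then ε₁ else ε₂) * g := ⟨_, rfl⟩
  have hYL : Y ∈ L := by
    rw [hY]
    exact L.mul_mem (L.mul_mem (L.inv_mem hg) ht) hg
  have hcol : ∀ (j : ι) (jj : Fin 3),
      (∀ s, ![(g : Matrix ι ι F) s a, (g : Matrix ι ι F) s b, (g : Matrix ι ι F) s c] jj =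
        (g : Matrix ι ι F) s j) →
      (Y : Matrix ι ι F) *ᵥ (Pi.single j (1 : F)) = (ε₂ : F) • (Pi.single j (1 : F) : ι → F) +
        (((ε₁ : F) - (ε₂ : F)) * (r jj / (r ⬝ᵥ x₀))) • xt := by
    intro j jj hj
    rw [hY]
    exact col_formula g P ε₁ ε₂ xt hw0 j _ (hγ j jj hj)
  -- zero entries of `Y`
  have hzero : ∀ j, (j = a ∨ j = b ∨ j = c) → ∀ s, s ≠ a → s ≠ b → s ≠ c →
      (Y : Matrix ι ι F) s j = 0 := by
    intro j hj s h1 h2 h3
    have hsj : s ≠ j := by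
      rcases hj with rfl | rfl | rfl
      · exact h1
      · exact h2
      · exact h3
    have e : (Y : Matrix ι ι F) s j = ((Y : Matrix ι ι F) *ᵥ (Pi.single j (1 : F))) s := by
      rw [Matrix.mulVec_single_one, Matrix.col_apply]
    rw [e]
    rcases hj with rfl | rfl | rfl
    · rw [hcol j 0 (fun s => by simp)]
      simp [hsj, hxt0 s h1 h2 h3]
    · rw [hcol j 1 (fun s => by simp)]
      simp [hsj, hxt0 s h1 h2 h3]
    · rw [hcol j 2 (fun s => by simp)]
      simp [hsj, hxt0 s h1 h2 h3]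
  -- `Y` is monomial
  have hYmono : IsMono (Y : Matrix ι ι F) := by
    by_contra hnmY
    have hcard : 1 < (({a, b, c} : Finset ι)ᶜ).card := by
      rw [Finset.card_compl, h6]
      have : ({a, b, c} : Finset ι).card ≤ 3 := Finset.card_le_three
      omega
    obtain ⟨s, hs, s', hs', hss'⟩ := Finset.one_lt_card.mp hcard
    rw [Finset.mem_compl] at hs hs'
    simp only [Finset.mem_insert, Finset.mem_singleton, not_or] at hs hs'
    exact hD Y hYL hnmY a s s' hss' (hzero a (Or.inl rfl) s hs.1 hs.2.1 hs.2.2)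
      (hzero a (Or.inl rfl) s' hs'.1 hs'.2.1 hs'.2.2)
  -- no fixed point
  have hnofix : ∀ k, ¬ ColAt (Y : Matrix ι ι F) k k := by
    intro k hk
    have hd0 : (Y : Matrix ι ι F) k k ≠ 0 := entry_ne_zero_of_colAt Y hk
    have e1 := mulVec_single_of_colAt hk
    -- `t (g e_k) = d (g e_k)`
    have e2 : ((dg (fun s => if s ∈ P then ε₁ else ε₂) : GL ι F) : Matrix ι ι F) *ᵥ
        ((g : Matrix ι ι F) *ᵥ (Pi.single k (1 : F))) =
        (Y : Matrix ι ι F) k k • ((g : Matrix ι ι F) *ᵥ (Pi.single k (1 : F))) := by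
      have : (g : Matrix ι ι F) *ᵥ ((Y : Matrix ι ι F) *ᵥ (Pi.single k (1 : F))) =
          ((dg (fun s => if s ∈ P then ε₁ else ε₂) : GL ι F) : Matrix ι ι F) *ᵥ
            ((g : Matrix ι ι F) *ᵥ (Pi.single k (1 : F))) := by
        rw [hY, Units.val_mul, Units.val_mul, ← Matrix.mulVec_mulVec, ← Matrix.mulVec_mulVec,
          mulVec_inv_mulVec]
      rw [← this, e1, Matrix.mulVec_smul]
    have e3 : ∀ s, ((if s ∈ P then ε₁ else ε₂ : Fˣ) : F) * (g : Matrix ι ι F) s k =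
        (Y : Matrix ι ι F) k k * (g : Matrix ι ι F) s k := by
      intro s
      have := congrFun e2 s
      rw [dg_mulVec, Matrix.mulVec_single_one] at this
      simpa using this
    by_cases hd : (Y : Matrix ι ι F) k k = (ε₁ : F)
    · obtain ⟨s, s', hss', hs, hs'⟩ := hR2
      have z : ∀ u, u ∉ P → (g : Matrix ι ι F) u k = 0 := by
        intro u hu
        have := e3 u
        rw [if_neg hu, hd] at this
        have h2 : ((ε₂ : F) - (ε₁ : F)) * (g : Matrix ι ι F) u k = 0 := by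
          rw [sub_mul, this, sub_self]
        rcases mul_eq_zero.mp h2 with h | h
        · exact absurd (sub_eq_zero.mp h).symm hεF
        · exact h
      exact hD g hg hnm k s s' hss' (z s hs) (z s' hs')
    · obtain ⟨s, s', hss', hs, hs'⟩ := hP2
      have z : ∀ u, u ∈ P → (g : Matrix ι ι F) u k = 0 := by
        intro u hu
        have := e3 u
        rw [if_pos hu] at this
        have h2 : ((ε₁ : F) - (Y : Matrix ι ι F) k k) * (g : Matrix ι ι F) u k = 0 := by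
          rw [sub_mul, this, sub_self]
        rcases mul_eq_zero.mp h2 with h | h
        · exact absurd (sub_eq_zero.mp h).symm hd
        · exact h
      exact hD g hg hnm k s s' hss' (z s hs) (z s' hs')
  -- the permutation is an involution
  have hinv : ∀ i i' i'', ColAt (Y : Matrix ι ι F) i i' → ColAt (Y : Matrix ι ι F) i' i'' →
      i'' = i := by
    intro i i' i'' h1 h2
    by_contra hne
    have hi'i : i' ≠ i := by
      rintro rfl
      exact hnofix _ h1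
    have e1 := mulVec_single_of_colAt h1
    have e2 := mulVec_single_of_colAt h2
    have q := quad_formula g P ε₁ ε₂ (Pi.single i (1 : F))
    rw [← hY, e1, Matrix.mulVec_smul, e2] at q
    have q' := congrFun q i
    simp only [Pi.smul_apply, Pi.sub_apply, smul_eq_mul, Pi.single_apply, if_neg (Ne.symm hne),
      if_neg (Ne.symm hi'i), mul_zero, if_true, mul_one, zero_sub] at q'
    have : (ε₁ : F) * (ε₂ : F) = 0 := by
      have := q'.symm
      rwa [neg_eq_zero] at this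
    rcases mul_eq_zero.mp this with h | h
    · exact ε₁.ne_zero h
    · exact ε₂.ne_zero h
  -- the permutation preserves `{a, b, c}`
  have hT : ∀ j, (j = a ∨ j = b ∨ j = c) → ∀ i, ColAt (Y : Matrix ι ι F) j i →
      (i = a ∨ i = b ∨ i = c) := by
    intro j hj i hi
    by_contra hcon
    push Not at hcon
    exact entry_ne_zero_of_colAt Y hi (hzero j hj i hcon.1 hcon.2.1 hcon.2.2)
  obtain ⟨ia, hia⟩ := hYmono a
  obtain ⟨ib, hib⟩ := hYmono b
  obtain ⟨ic, hic⟩ := hYmono c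
  have hia' := hT a (Or.inl rfl) ia hia
  have hib' := hT b (Or.inr (Or.inl rfl)) ib hib
  have hic' := hT c (Or.inr (Or.inr rfl)) ic hic
  rcases hia' with rfl | rfl | rfl
  · exact hnofix _ hia
  · -- `a ↦ b`
    rcases hic' with rfl | rfl | rfl
    · exact hbc (hinv _ _ _ hic hia)
    · rcases hib' with rfl | rfl | rfl
      · exact hac (hinv _ _ _ hic hib)
      · exact hnofix _ hib
      · exact hac (hinv _ _ _ hia hib).symm
    · exact hnofix _ hic
  · -- `a ↦ c`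
    rcases hib' with rfl | rfl | rfl
    · exact hbc (hinv _ _ _ hib hia).symm
    · exact hnofix _ hib
    · rcases hic' with rfl | rfl | rfl
      · exact hab (hinv _ _ _ hib hic)
      · exact hab (hinv _ _ _ hia hic).symm
      · exact hnofix _ hic

end Cfsg.Agent.Lib.Helper2.UDense6
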