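import Mathlib

/-!
S5801 (3) (frames `6 × 1` in `SU_6(q)`), dense case at `n = 6` (paper proof `notes/S5801_frames6_dense_helper2.md`):
Lemma M, pure linear algebra in `F³`.  Six rows `ρ s ∈ F³` of rank 3 such that any four of them contain a dependent triple:
there are `x₀`, `r` with `r ⬝ᵥ x₀ ≠ 0` such that every row is orthogonal to `x₀` or a multiple of `r`.
-/

set_option autoImplicit false
set_option linter.unusedSectionVars false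

namespace Cfsg.Agent.Lib.Helper2.UDense6
open Matrix

variable {F : Type*} [Field F]

/-- `x₀ × n = 0`, `n ≠ 0`, `D ⬝ x₀ ≠ 0` ⟹ `D ⬝ n ≠ 0` -/
lemma dot_ne_zero_of_cross_eq_zero {x₀ n D : Fin 3 → F} (h : x₀ ⨯₃ n = 0) (hn : n ≠ 0)
    (hD : D ⬝ᵥ x₀ ≠ 0) : D ⬝ᵥ n ≠ 0 := by
  intro h0
  have key := cross_cross_eq_smul_sub_smul x₀ n D
  rw [h, map_zero, LinearMap.zero_apply, dotProduct_comm n D, h0, zero_smul, sub_zero,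
    dotProduct_comm x₀ D] at key
  exact hn ((smul_eq_zero.mp key.symm).resolve_left hD)

/-- a non-zero vector orthogonal to three vectors: their determinant vanishes -/
lemma triple_eq_zero_of_dot {x U V W : Fin 3 → F} (hx : x ≠ 0) (hU : U ⬝ᵥ x = 0) (hV : V ⬝ᵥ x = 0)
    (hW : W ⬝ᵥ x = 0) : U ⬝ᵥ (V ⨯₃ W) = 0 := by
  have k1 := cross_cross_eq_smul_sub_smul V W x
  rw [hV, hW, zero_smul, zero_smul, sub_zero] at k1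
  have k2 := cross_cross_eq_smul_sub_smul (V ⨯₃ W) x U
  rw [k1, map_zero, LinearMap.zero_apply, dotProduct_comm x U, hU, zero_smul, sub_zero] at k2
  have := (smul_eq_zero.mp k2.symm).resolve_right hx
  rw [dotProduct_comm]
  exact this

/-- `E × D = 0`, `D ⬝ x ≠ 0` ⟹ `E` is a multiple of `D` -/
lemma exists_smul_of_cross_eq_zero {E D x : Fin 3 → F} (h : E ⨯₃ D = 0) (hD : D ⬝ᵥ x ≠ 0) :
    ∃ c : F, E = c • D := by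
  have key := cross_cross_eq_smul_sub_smul E D x
  rw [h, map_zero, LinearMap.zero_apply] at key
  refine ⟨(E ⬝ᵥ x) / (D ⬝ᵥ x), ?_⟩
  have h2 : (D ⬝ᵥ x) • E = (E ⬝ᵥ x) • D := (sub_eq_zero.mp key.symm).symm
  calc E = (D ⬝ᵥ x)⁻¹ • ((D ⬝ᵥ x) • E) := by rw [smul_smul, inv_mul_cancel₀ hD, one_smul]
    _ = ((E ⬝ᵥ x) / (D ⬝ᵥ x)) • D := by rw [h2, smul_smul, div_eq_inv_mul]


lemma triple_rot (u v w : Fin 3 → F) : u ⬝ᵥ (v ⨯₃ w) = w ⬝ᵥ (u ⨯₃ v) := by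
  rw [triple_product_permutation u v w, triple_product_permutation v w u]

lemma triple_swap (u v w : Fin 3 → F) : u ⬝ᵥ (v ⨯₃ w) = -(v ⬝ᵥ (u ⨯₃ w)) := by
  simp only [cross_apply, vec3_dotProduct, Matrix.cons_val_zero, Matrix.cons_val_one, Matrix.cons_val]
  ring

variable {ι : Type} [Fintype ι] [DecidableEq ι]

/-- (b'): any four distinct rows: a non-zero vector orthogonal to all of them but at most one -/
lemma four_rows (h6 : Fintype.card ι = 6) (ρ : ι → (Fin 3 → F))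
    (hb : ∀ k l : ι, k ≠ l → ∃ x : Fin 3 → F, x ≠ 0 ∧ ∃ i : ι, ∀ s, s ≠ k → s ≠ l → s ≠ i →
      ρ s ⬝ᵥ x = 0)
    {s₁ s₂ s₃ s₄ : ι} (h12 : s₁ ≠ s₂) (h13 : s₁ ≠ s₃) (h14 : s₁ ≠ s₄) (h23 : s₂ ≠ s₃)
    (h24 : s₂ ≠ s₄) (h34 : s₃ ≠ s₄) :
    ∃ x : Fin 3 → F, x ≠ 0 ∧ ∃ i : ι, ∀ s, (s = s₁ ∨ s = s₂ ∨ s = s₃ ∨ s = s₄) → s ≠ i →
      ρ s ⬝ᵥ x = 0 := by
  classical
  have hcard : (({s₁, s₂, s₃, s₄} : Finset ι)ᶜ).card = 2 := by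
    rw [Finset.card_compl, h6]
    have : ({s₁, s₂, s₃, s₄} : Finset ι).card = 4 := by
      rw [Finset.card_insert_of_notMem, Finset.card_insert_of_notMem, Finset.card_insert_of_notMem,
        Finset.card_singleton]
      · simpa using h34
      · simp [h23, h24]
      · simp [h12, h13, h14]
    rw [this]
  obtain ⟨k, l, hkl, hset⟩ := Finset.card_eq_two.mp hcard
  have hk : k ∈ ({s₁, s₂, s₃, s₄} : Finset ι)ᶜ := by rw [hset]; simp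
  have hl : l ∈ ({s₁, s₂, s₃, s₄} : Finset ι)ᶜ := by rw [hset]; simp
  rw [Finset.mem_compl] at hk hl
  simp only [Finset.mem_insert, Finset.mem_singleton, not_or] at hk hl
  obtain ⟨x, hx, i, hi⟩ := hb k l hkl
  refine ⟨x, hx, i, fun s hs hsi => hi s ?_ ?_ hsi⟩
  · rintro rfl
    rcases hs with h | h | h | h
    · exact hk.1 h
    · exact hk.2.1 h
    · exact hk.2.2.1 h
    · exact hk.2.2.2 h
  · rintro rfl
    rcases hs with h | h | h | h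
    · exact hl.1 h
    · exact hl.2.1 h
    · exact hl.2.2.1 h
    · exact hl.2.2.2 h

/-- four rows in general position contradict (b') -/
lemma gp_false (ρ : ι → (Fin 3 → F)) {s₁ s₂ s₃ s₄ i : ι} (h12 : s₁ ≠ s₂) (h13 : s₁ ≠ s₃)
    (h14 : s₁ ≠ s₄) (h23 : s₂ ≠ s₃) (h24 : s₂ ≠ s₄) (h34 : s₃ ≠ s₄) {x : Fin 3 → F} (hx : x ≠ 0)
    (h : ∀ s, (s = s₁ ∨ s = s₂ ∨ s = s₃ ∨ s = s₄) → s ≠ i → ρ s ⬝ᵥ x = 0)
    (d123 : ρ s₁ ⬝ᵥ (ρ s₂ ⨯₃ ρ s₃) ≠ 0) (d124 : ρ s₁ ⬝ᵥ (ρ s₂ ⨯₃ ρ s₄) ≠ 0)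
    (d134 : ρ s₁ ⬝ᵥ (ρ s₃ ⨯₃ ρ s₄) ≠ 0) (d234 : ρ s₂ ⬝ᵥ (ρ s₃ ⨯₃ ρ s₄) ≠ 0) : False := by
  by_cases e1 : s₁ = i
  · subst e1
    exact d234 (triple_eq_zero_of_dot hx (h s₂ (by simp) (Ne.symm h12)) (h s₃ (by simp) (Ne.symm h13))
      (h s₄ (by simp) (Ne.symm h14)))
  by_cases e2 : s₂ = i
  · subst e2
    exact d134 (triple_eq_zero_of_dot hx (h s₁ (by simp) e1) (h s₃ (by simp) (Ne.symm h23))
      (h s₄ (by simp) (Ne.symm h24)))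
  by_cases e3 : s₃ = i
  · subst e3
    exact d124 (triple_eq_zero_of_dot hx (h s₁ (by simp) e1) (h s₂ (by simp) e2)
      (h s₄ (by simp) (Ne.symm h34)))
  exact d123 (triple_eq_zero_of_dot hx (h s₁ (by simp) e1) (h s₂ (by simp) e2) (h s₃ (by simp) e3))


/-- Case I core: two non-proportional rows `D, E` off the plane `x₀^⊥` and two rows `A', B'` of the plane avoiding the point
`span(D,E) ∩ x₀^⊥` are in general position -/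
lemma caseI_pair (h6 : Fintype.card ι = 6) (ρ : ι → (Fin 3 → F))
    (hb : ∀ k l : ι, k ≠ l → ∃ x : Fin 3 → F, x ≠ 0 ∧ ∃ i : ι, ∀ s, s ≠ k → s ≠ l → s ≠ i →
      ρ s ⬝ᵥ x = 0)
    {sA sB sD sE : ι} (hAB' : sA ≠ sB) (hAD' : sA ≠ sD) (hAE' : sA ≠ sE) (hBD' : sB ≠ sD)
    (hBE' : sB ≠ sE) (hDE' : sD ≠ sE) {x₀ : Fin 3 → F}
    (hx : x₀ ⨯₃ (ρ sA ⨯₃ ρ sB) = 0) (hAB : ρ sA ⨯₃ ρ sB ≠ 0)
    (hD : ρ sD ⬝ᵥ x₀ ≠ 0) (hE : ρ sE ⬝ᵥ x₀ ≠ 0)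
    (hAm : ρ sA ⬝ᵥ (ρ sD ⨯₃ ρ sE) ≠ 0) (hBm : ρ sB ⬝ᵥ (ρ sD ⨯₃ ρ sE) ≠ 0) : False := by
  obtain ⟨x, hx0, i, hi⟩ := four_rows h6 ρ hb hAB' hAD' hAE' hBD' hBE' hDE'
  refine gp_false ρ hAB' hAD' hAE' hBD' hBE' hDE' hx0 hi ?_ ?_ hAm hBm
  · rw [triple_rot]
    exact dot_ne_zero_of_cross_eq_zero hx hAB hD
  · rw [triple_rot]
    exact dot_ne_zero_of_cross_eq_zero hx hAB hE

/-- two rows of the plane cannot both lie on `span(D,E)` -/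
lemma caseI_two_zero {x₀ U V D E : Fin 3 → F} (hx : x₀ ⨯₃ (U ⨯₃ V) = 0) (hUV : U ⨯₃ V ≠ 0)
    (hD : D ⬝ᵥ x₀ ≠ 0) (hm : D ⨯₃ E ≠ 0) (hU : U ⬝ᵥ (D ⨯₃ E) = 0) (hV : V ⬝ᵥ (D ⨯₃ E) = 0) :
    False := by
  have k1 := cross_cross_eq_smul_sub_smul U V (D ⨯₃ E)
  rw [hU, hV, zero_smul, zero_smul, sub_zero] at k1
  have h1 : D ⬝ᵥ (U ⨯₃ V) ≠ 0 := dot_ne_zero_of_cross_eq_zero hx hUV hD
  have h2 : D ⬝ᵥ (D ⨯₃ E) ≠ 0 := dot_ne_zero_of_cross_eq_zero k1 hm h1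
  exact h2 (dot_self_cross D E)

/-- Case I: three pairwise non-proportional dependent rows -/
lemma caseI (h6 : Fintype.card ι = 6) (ρ : ι → (Fin 3 → F))
    (hrank : ∀ x : Fin 3 → F, (∀ s, ρ s ⬝ᵥ x = 0) → x = 0)
    (hb : ∀ k l : ι, k ≠ l → ∃ x : Fin 3 → F, x ≠ 0 ∧ ∃ i : ι, ∀ s, s ≠ k → s ≠ l → s ≠ i →
      ρ s ⬝ᵥ x = 0)
    {sA sB sC : ι} (hAB' : sA ≠ sB) (hAC' : sA ≠ sC) (hBC' : sB ≠ sC)
    (hAB : ρ sA ⨯₃ ρ sB ≠ 0) (hAC : ρ sA ⨯₃ ρ sC ≠ 0) (hBC : ρ sB ⨯₃ ρ sC ≠ 0)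
    (hdet : ρ sA ⬝ᵥ (ρ sB ⨯₃ ρ sC) = 0) :
    ∃ (x₀ r : Fin 3 → F), r ⬝ᵥ x₀ ≠ 0 ∧ (∀ s, ρ s ⬝ᵥ x₀ = 0 ∨ ∃ c : F, ρ s = c • r) ∧
      ∃ s s', s ≠ s' ∧ ρ s ⬝ᵥ x₀ = 0 ∧ ρ s' ⬝ᵥ x₀ = 0 := by
  obtain ⟨x₀, hx₀⟩ : ∃ x₀, x₀ = ρ sA ⨯₃ ρ sB := ⟨_, rfl⟩
  have hxAB : x₀ ⨯₃ (ρ sA ⨯₃ ρ sB) = 0 := by rw [hx₀, cross_self]
  have hxBC : x₀ ⨯₃ (ρ sB ⨯₃ ρ sC) = 0 := by
    rw [hx₀, cross_cross_eq_smul_sub_smul, hdet, dot_self_cross, zero_smul, zero_smul, sub_zero]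
  have hxAC : x₀ ⨯₃ (ρ sA ⨯₃ ρ sC) = 0 := by
    rw [hx₀, cross_cross_eq_smul_sub_smul, dot_self_cross, triple_swap, hdet, neg_zero, zero_smul,
      zero_smul, sub_zero]
  have hA0 : ρ sA ⬝ᵥ x₀ = 0 := by rw [hx₀, dot_self_cross]
  have hB0 : ρ sB ⬝ᵥ x₀ = 0 := by rw [hx₀, dot_cross_self]
  have hC0 : ρ sC ⬝ᵥ x₀ = 0 := by rw [hx₀, ← triple_rot, hdet]
  have hx₀ne : x₀ ≠ 0 := by rw [hx₀]; exact hAB
  obtain ⟨sD, hD⟩ : ∃ sD, ρ sD ⬝ᵥ x₀ ≠ 0 := by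
    by_contra hcon
    push Not at hcon
    exact hx₀ne (hrank x₀ hcon)
  refine ⟨x₀, ρ sD, hD, ?_, sA, sB, hAB', hA0, hB0⟩
  intro s
  by_cases hE : ρ s ⬝ᵥ x₀ = 0
  · exact Or.inl hE
  right
  by_cases hm : ρ sD ⨯₃ ρ s = 0
  · apply exists_smul_of_cross_eq_zero (x := x₀) _ hD
    rw [← cross_anticomm, hm, neg_zero]
  exfalso
  have hsD : sD ≠ s := by
    rintro rfl
    exact hm (cross_self _)
  have hAD' : sA ≠ sD := by rintro rfl; exact hD hA0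
  have hBD' : sB ≠ sD := by rintro rfl; exact hD hB0
  have hCD' : sC ≠ sD := by rintro rfl; exact hD hC0
  have hAE' : sA ≠ s := by rintro rfl; exact hE hA0
  have hBE' : sB ≠ s := by rintro rfl; exact hE hB0
  have hCE' : sC ≠ s := by rintro rfl; exact hE hC0
  by_cases hAm : ρ sA ⬝ᵥ (ρ sD ⨯₃ ρ s) = 0
  · by_cases hBm : ρ sB ⬝ᵥ (ρ sD ⨯₃ ρ s) = 0
    · exact caseI_two_zero hxAB hAB hD hm hAm hBm
    · by_cases hCm : ρ sC ⬝ᵥ (ρ sD ⨯₃ ρ s) = 0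
      · exact caseI_two_zero hxAC hAC hD hm hAm hCm
      · exact caseI_pair h6 ρ hb hBC' hBD' hBE' hCD' hCE' hsD hxBC hBC hD hE hBm hCm
  · by_cases hBm : ρ sB ⬝ᵥ (ρ sD ⨯₃ ρ s) = 0
    · by_cases hCm : ρ sC ⬝ᵥ (ρ sD ⨯₃ ρ s) = 0
      · exact caseI_two_zero hxBC hBC hD hm hBm hCm
      · exact caseI_pair h6 ρ hb hAC' hAD' hAE' hCD' hCE' hsD hxAC hAC hD hE hAm hCm
    · exact caseI_pair h6 ρ hb hAB' hAD' hAE' hBD' hBE' hsD hxAB hAB hD hE hAm hBm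


/-- rank 3: three independent rows -/
lemma exists_triple_ne_zero (ρ : ι → (Fin 3 → F))
    (hrank : ∀ x : Fin 3 → F, (∀ s, ρ s ⬝ᵥ x = 0) → x = 0) :
    ∃ sA sB sC : ι, ρ sA ⬝ᵥ (ρ sB ⨯₃ ρ sC) ≠ 0 := by
  by_contra hcon
  push Not at hcon
  by_cases hpair : ∃ sA sB : ι, ρ sA ⨯₃ ρ sB ≠ 0
  · obtain ⟨sA, sB, hAB⟩ := hpair
    apply hAB
    apply hrank
    intro s
    rw [← triple_rot]
    exact hcon sA sB s
  · push Not at hpair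
    -- all rows are proportional
    have h1 : (![1, 0, 0] : Fin 3 → F) ≠ 0 := by
      intro h
      have := congrFun h 0
      simp at this
    obtain ⟨sA, hA⟩ : ∃ sA, ρ sA ≠ 0 := by
      by_contra hz
      push Not at hz
      apply h1
      apply hrank
      intro s
      rw [hz s, zero_dotProduct]
    -- a coordinate where `ρ sA` does not vanish
    obtain ⟨i, hi⟩ : ∃ i, ρ sA i ≠ 0 := by
      by_contra hz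
      push Not at hz
      exact hA (funext hz)
    obtain ⟨j, hj⟩ : ∃ j : Fin 3, j ≠ i := by
      fin_cases i
      · exact ⟨1, by decide⟩
      · exact ⟨0, by decide⟩
      · exact ⟨0, by decide⟩
    have hAe : ρ sA ⬝ᵥ (Pi.single i (1 : F)) ≠ 0 := by
      rw [dotProduct_single, mul_one]
      exact hi
    obtain ⟨x, hx⟩ : ∃ x : Fin 3 → F, x = ρ sA i • Pi.single j (1 : F) - ρ sA j • Pi.single i (1 : F) :=
      ⟨_, rfl⟩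
    have hxne : x ≠ 0 := by
      intro h0
      have := congrFun h0 j
      rw [hx] at this
      simp [hj] at this
      exact hi this
    have hAx : ρ sA ⬝ᵥ x = 0 := by
      rw [hx, dotProduct_sub, dotProduct_smul, dotProduct_smul, dotProduct_single, dotProduct_single,
        mul_one, mul_one, smul_eq_mul, smul_eq_mul]
      ring
    apply hxne
    apply hrank
    intro s
    obtain ⟨c, hc⟩ := exists_smul_of_cross_eq_zero (hpair s sA) hAe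
    rw [hc, smul_dotProduct, hAx, smul_zero]

/-- Case II: every dependent triple of rows contains a proportional pair -/
lemma caseII (h6 : Fintype.card ι = 6) (ρ : ι → (Fin 3 → F))
    (hrank : ∀ x : Fin 3 → F, (∀ s, ρ s ⬝ᵥ x = 0) → x = 0)
    (hb : ∀ k l : ι, k ≠ l → ∃ x : Fin 3 → F, x ≠ 0 ∧ ∃ i : ι, ∀ s, s ≠ k → s ≠ l → s ≠ i →
      ρ s ⬝ᵥ x = 0)
    (hII : ∀ s₁ s₂ s₃ : ι, ρ s₁ ⨯₃ ρ s₂ ≠ 0 → ρ s₁ ⨯₃ ρ s₃ ≠ 0 → ρ s₂ ⨯₃ ρ s₃ ≠ 0 →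
      ρ s₁ ⬝ᵥ (ρ s₂ ⨯₃ ρ s₃) ≠ 0) :
    ∃ (x₀ r : Fin 3 → F), r ⬝ᵥ x₀ ≠ 0 ∧ (∀ s, ρ s ⬝ᵥ x₀ = 0 ∨ ∃ c : F, ρ s = c • r) ∧
      ∃ s s', s ≠ s' ∧ ρ s ⬝ᵥ x₀ = 0 ∧ ρ s' ⬝ᵥ x₀ = 0 := by
  obtain ⟨sA, sB, sC, hdet⟩ := exists_triple_ne_zero ρ hrank
  have hAB : ρ sA ⨯₃ ρ sB ≠ 0 := by
    intro h
    apply hdet
    rw [triple_rot, h, dotProduct_zero]
  have hBC : ρ sB ⨯₃ ρ sC ≠ 0 := by
    intro h
    apply hdet
    rw [h, dotProduct_zero]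
  have hAC : ρ sA ⨯₃ ρ sC ≠ 0 := by
    intro h
    apply hdet
    rw [triple_swap, h, dotProduct_zero, neg_zero]
  have hAB' : sA ≠ sB := by rintro rfl; exact hAB (cross_self _)
  have hAC' : sA ≠ sC := by rintro rfl; exact hAC (cross_self _)
  have hBC' : sB ≠ sC := by rintro rfl; exact hBC (cross_self _)
  have hC0 : ρ sC ⬝ᵥ (ρ sA ⨯₃ ρ sB) ≠ 0 := by rw [← triple_rot]; exact hdet
  refine ⟨ρ sA ⨯₃ ρ sB, ρ sC, hC0, ?_, sA, sB, hAB', dot_self_cross _ _, dot_cross_self _ _⟩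
  intro s
  by_cases hsA : s = sA
  · left; rw [hsA]; exact dot_self_cross _ _
  by_cases hsB : s = sB
  · left; rw [hsB]; exact dot_cross_self _ _
  by_cases hsC : s = sC
  · right; exact ⟨1, by rw [hsC, one_smul]⟩
  -- four distinct rows
  obtain ⟨x, hx0, i, hi⟩ := four_rows h6 ρ hb hAB' hAC' (Ne.symm hsA) hBC' (Ne.symm hsB) (Ne.symm hsC)
  -- one of the three other triples is dependent
  have hdep : ρ sA ⬝ᵥ (ρ sB ⨯₃ ρ s) = 0 ∨ ρ sA ⬝ᵥ (ρ sC ⨯₃ ρ s) = 0 ∨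
      ρ sB ⬝ᵥ (ρ sC ⨯₃ ρ s) = 0 := by
    by_contra hcon
    push Not at hcon
    exact gp_false ρ hAB' hAC' (Ne.symm hsA) hBC' (Ne.symm hsB) (Ne.symm hsC) hx0 hi hdet hcon.1
      hcon.2.1 hcon.2.2
  have hpropC : ρ sC ⨯₃ ρ s = 0 → ∃ c : F, ρ s = c • ρ sC := by
    intro h
    apply exists_smul_of_cross_eq_zero (x := ρ sA ⨯₃ ρ sB) _ hC0
    rw [← cross_anticomm, h, neg_zero]
  rcases hdep with h | h | h
  · left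
    rw [← triple_rot]
    exact h
  · -- the triple `A, C, s`
    by_cases hAs : ρ sA ⨯₃ ρ s = 0
    · left
      rw [triple_rot, ← cross_anticomm, hAs, neg_zero, dotProduct_zero]
    · by_cases hCs : ρ sC ⨯₃ ρ s = 0
      · right; exact hpropC hCs
      · exact absurd h (hII sA sC s hAC hAs hCs)
  · -- the triple `B, C, s`
    by_cases hBs : ρ sB ⨯₃ ρ s = 0
    · left
      rw [← triple_rot, hBs, dotProduct_zero]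
    · by_cases hCs : ρ sC ⨯₃ ρ s = 0
      · right; exact hpropC hCs
      · exact absurd h (hII sB sC s hBC hBs hCs)

/-- **Lemma M** -/
theorem exists_split (h6 : Fintype.card ι = 6) (ρ : ι → (Fin 3 → F))
    (hrank : ∀ x : Fin 3 → F, (∀ s, ρ s ⬝ᵥ x = 0) → x = 0)
    (hb : ∀ k l : ι, k ≠ l → ∃ x : Fin 3 → F, x ≠ 0 ∧ ∃ i : ι, ∀ s, s ≠ k → s ≠ l → s ≠ i →
      ρ s ⬝ᵥ x = 0) :
    ∃ (x₀ r : Fin 3 → F), r ⬝ᵥ x₀ ≠ 0 ∧ (∀ s, ρ s ⬝ᵥ x₀ = 0 ∨ ∃ c : F, ρ s = c • r) ∧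
      ∃ s s', s ≠ s' ∧ ρ s ⬝ᵥ x₀ = 0 ∧ ρ s' ⬝ᵥ x₀ = 0 := by
  by_cases hI : ∃ sA sB sC : ι, ρ sA ⨯₃ ρ sB ≠ 0 ∧ ρ sA ⨯₃ ρ sC ≠ 0 ∧ ρ sB ⨯₃ ρ sC ≠ 0 ∧
      ρ sA ⬝ᵥ (ρ sB ⨯₃ ρ sC) = 0
  · obtain ⟨sA, sB, sC, hAB, hAC, hBC, hdet⟩ := hI
    have hAB' : sA ≠ sB := by rintro rfl; exact hAB (cross_self _)
    have hAC' : sA ≠ sC := by rintro rfl; exact hAC (cross_self _)
    have hBC' : sB ≠ sC := by rintro rfl; exact hBC (cross_self _)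
    exact caseI h6 ρ hrank hb hAB' hAC' hBC' hAB hAC hBC hdet
  · push Not at hI
    exact caseII h6 ρ hrank hb (fun s₁ s₂ s₃ h12 h13 h23 => hI s₁ s₂ s₃ h12 h13 h23)

end Cfsg.Agent.Lib.Helper2.UDense6
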