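import Mathlib
import Cfsg.Agent.Lib.Helper18.UDenseDefs
import Cfsg.Agent.Lib.Helper15.UDenseK1
import Cfsg.Agent.Lib.Helper28.UDense6A1
import Cfsg.Agent.Lib.Helper28.UDense6A2
import Cfsg.Agent.Lib.Helper28.UDense6T
import Cfsg.Agent.Lib.Helper2.UDense6M
import Cfsg.Agent.Lib.Helper2.UDense6K

/-!
S5801 (3) (frames `6 × 1` in `SU_6(q)`), DENSE case closed at `n = 6` (paper proof `notes/S5801_frames6_dense_helper2.md`):
assembly of F6 / A1 / A2 / T (helper28), M (`exists_split`) and K (`kill6`).  `not_worldW6` has the shape of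
`Helper18.UDense.not_worldW` with `card ι = 6` in place of `11 ≤ card ι`.
-/

set_option autoImplicit false

namespace Cfsg.Agent.Lib.Helper2.UDense6
open Matrix Cfsg.Agent.Lib.Helper11.Mono Cfsg.Agent.Lib.Helper15.MonoLeaf Cfsg.Agent.Lib.Helper18.UDense

variable {F : Type*} [Field F] [Fintype F] {ι : Type} [Fintype ι] [DecidableEq ι]

/-- (D) forces `L` to be monomial, `card ι = 6`. -/
theorem isMono_of_colDense6 (h6 : Fintype.card ι = 6) (L : Subgroup (GL ι F)) (hD : ColDense L)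
    (Θ : Subgroup Fˣ) (hΘ : 4 ≤ Nat.card Θ) (hT : HasTorus Θ L)
    (ζ : Fˣ) (hζΘ : ζ ∈ Θ) (r : ℕ) (hr : r.Prime) (hζ : orderOf ζ = r)
    (g : GL ι F) (hg : g ∈ L) : IsMono (g : Matrix ι ι F) := by
  classical
  by_contra hnm
  obtain ⟨a, b, c, hab, hac, hbc⟩ :=
    Fintype.two_lt_card_iff.mp (by omega : 2 < Fintype.card ι)
  have hz : ∀ k l : ι, k ≠ l → dg (tcc k l ζ) ∈ L := fun k l hkl => hT k l hkl ζ hζΘ
  have hb := Cfsg.Agent.Lib.Helper28.UDense6.hb6 (by omega) L hD ζ r hr hζ hz g hg a b c hab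
    hac.symm hbc.symm
  have ha := Cfsg.Agent.Lib.Helper28.UDense6.ha6 (by omega) L hD g hg hnm a b c hab
    hac.symm hbc.symm
  have hrank : ∀ x : Fin 3 → F, (∀ s,
      ![(g : Matrix ι ι F) s a, (g : Matrix ι ι F) s b, (g : Matrix ι ι F) s c] ⬝ᵥ x = 0) →
      x = 0 := by
    intro x hx
    by_contra hx0
    obtain ⟨s, -, hs⟩ := ha x hx0 a
    exact hs (hx s)
  obtain ⟨x₀, r', hr', hsplit, s, s', hss', hs0, hs'0⟩ := exists_split h6
    (fun s => ![(g : Matrix ι ι F) s a, (g : Matrix ι ι F) s b, (g : Matrix ι ι F) s c]) hrank hb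
  have hx₀ : x₀ ≠ 0 := by
    rintro rfl
    simp at hr'
  obtain ⟨P, hPdef⟩ : ∃ P : Finset ι, P = Finset.univ.filter (fun s =>
      ![(g : Matrix ι ι F) s a, (g : Matrix ι ι F) s b, (g : Matrix ι ι F) s c] ⬝ᵥ x₀ ≠ 0) :=
    ⟨_, rfl⟩
  have hP : ∀ s, s ∈ P ↔
      ![(g : Matrix ι ι F) s a, (g : Matrix ι ι F) s b, (g : Matrix ι ι F) s c] ⬝ᵥ x₀ ≠ 0 := by
    intro s
    rw [hPdef]
    simp
  obtain ⟨s1, -, h1⟩ := ha x₀ hx₀ a
  obtain ⟨s2, h21, h2⟩ := ha x₀ hx₀ s1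
  have hs1P : s1 ∈ P := (hP _).2 h1
  have hs2P : s2 ∈ P := (hP _).2 h2
  have hsP : s ∉ P := fun h => (hP _).1 h hs0
  have hs'P : s' ∉ P := fun h => (hP _).1 h hs'0
  have hPc : 2 ≤ P.card := Finset.one_lt_card.mpr ⟨s1, hs1P, s2, hs2P, h21.symm⟩
  have hRc : 2 ≤ Pᶜ.card :=
    Finset.one_lt_card.mpr ⟨s, Finset.mem_compl.mpr hsP, s', Finset.mem_compl.mpr hs'P, hss'⟩
  obtain ⟨ε₁, ε₂, hε, ht⟩ :=
    Cfsg.Agent.Lib.Helper28.UDense6.exists_split_torus6 h6 Θ hΘ L hT P hPc hRc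
  exact kill6 h6 L hD g hg hnm hab hac hbc x₀ r' hr' hsplit P hP ⟨s1, s2, h21.symm, hs1P, hs2P⟩
    ⟨s, s', hss', hsP, hs'P⟩ ε₁ ε₂ hε ht

/-- the interface for the rest of S5655 (k = 1) at `n = 6`: a non-monomial element forces a non-monomial element with a
monomial column. -/
theorem not_worldW6 (h6 : Fintype.card ι = 6) (Θ : Subgroup Fˣ) (hΘ : 4 ≤ Nat.card Θ)
    (L : Subgroup (GL ι F)) (hT : HasTorus Θ L) (ζ : Fˣ) (hζΘ : ζ ∈ Θ) (r : ℕ) (hr : r.Prime)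
    (hζ : orderOf ζ = r) (g : GL ι F) (hg : g ∈ L) (hnm : ¬ IsMono (g : Matrix ι ι F)) :
    ¬ WorldW L := by
  intro hW
  exact hnm (isMono_of_colDense6 h6 L
    (Cfsg.Agent.Lib.Helper15.UDenseLeaf.colDense_of_worldW (by omega) Θ hΘ L hT hW) Θ hΘ hT ζ hζΘ r
    hr hζ g hg)

end Cfsg.Agent.Lib.Helper2.UDense6
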