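import Mathlib
import Cfsg.Agent.Lib.Helper18.Glaub2Defs
import Cfsg.Prelude.Def_Solvable
import Cfsg.Prelude.Def_CaseTheorems
import Cfsg.Agent.Lib.Helper23.SIMSAux
import Cfsg.Agent.Lib.Helper18.GLAUBL1P
import Cfsg.Agent.Lib.Helper29.GLAUBL4P

/-! S4385 market "GLAUB2" (planner helper18): leaf DLAM (port of helper23's SIMS2-LAM from `TSData` to
`PData 2`; the outputs of DL2 and DL3 are hypotheses). -/

set_option autoImplicit false

namespace Cfsg.Agent.Lib.Helper2.GLAUB2DLAM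

open Cfsg Cfsg.Agent.Lib.Helper18.Sims3 Cfsg.Agent.Lib.Helper18.Glaub
open Cfsg.Agent.Lib.Helper23.SIMSAux

variable {G : Type*} [Group G]

/-- for `t ≥ 2` the generators `x 0`, `x 1` commute (`⟨x 0, x 1⟩` has order 4). -/
theorem commute_zero_one_d {g : G} {x : ℕ → G} {t : ℕ} (h : PData 2 g x t) (h2 : 2 ≤ t) :
    Commute (x 0) (x 1) := by
  have hc := h.card 0 1 (by omega) (by omega)
  have hc' : Nat.card ↥(Hx x 0 1) = 2 ^ 2 := by rw [hc]
  haveI : Fact (Nat.Prime 2) := ⟨Nat.prime_two⟩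
  have hcomm := IsPGroup.commutative_of_card_eq_prime_sq hc'
    ⟨x 0, mem_Hx x (le_refl 0) (by omega)⟩ ⟨x 1, mem_Hx x (by omega) (le_refl 1)⟩
  have := congrArg (fun y : ↥(Hx x 0 1) => (y : G)) hcomm
  exact this

/-- LEAF DLAM (port of SIMS2-LAM; the outputs of DL2 and DL3 are hypotheses). -/
theorem lam_eq_d [Finite G] {g : G} {x : ℕ → G} {t : ℕ} (h : PData 2 g x t) (h2 : 2 ≤ t)
    (h4 : t ≤ 4)
    (hL2 : ∃ l, 1 ≤ l ∧ l ≤ t ∧ CommLt x l ∧ ¬ Commute (x 0) (x l))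
    (hL3 : ∀ l, 1 ≤ l → l ≤ t → CommLt x l → 2 * l ≤ t + 2) :
    ∃ l, CommLt x l ∧ ¬ Commute (x 0) (x l) ∧
      (t = 2 → l = 2) ∧ (t = 3 → l = 2) ∧ (t = 4 → l = 3) := by
  obtain ⟨l, hl1, hlt, hl, hnc⟩ := hL2
  have h2l := hL3 l hl1 hlt hl
  obtain ⟨hpow, _, hcm, _⟩ :=
    Cfsg.Agent.Lib.Helper18.GLAUBL1P.pdata_basic Nat.prime_two h (by omega)
  have hne1 : l ≠ 1 := by
    intro hl1'
    rw [hl1'] at hnc
    exact hnc (commute_zero_one_d h h2)
  have hne2 : t = 4 → l ≠ 2 := by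
    intro ht hl2
    subst hl2
    have hc : cm (x 0) (x 2) ∈ Hx x 1 1 := by
      have := hcm 0 2 (by omega) (by omega) 1 1
      simpa using this
    have hc1 : cm (x 0) (x 2) ≠ 1 := by
      intro h'
      exact hnc ((cm_eq_one_iff _ _).mp h')
    have hbot : Hx x 2 1 = ⊥ := by
      unfold Hx
      rw [Set.Icc_eq_empty (by omega), Set.image_empty, Subgroup.closure_empty]
    have hc' : cm (x 0) (x 2) ∉ Hx x (1 + 1) (2 - 1) := by
      show cm (x 0) (x 2) ∉ Hx x 2 1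
      rw [hbot, Subgroup.mem_bot]
      exact hc1
    have := Cfsg.Agent.Lib.Helper29.GLAUBL4P.le_add_mu_p Nat.prime_two h hpow hcm 2 (le_refl 2)
      (by omega) hl hnc 1 (le_refl 1) (by omega) hc hc'
    omega
  refine ⟨l, hl, hnc, ?_, ?_, ?_⟩
  · intro ht; omega
  · intro ht; omega
  · intro ht
    have := hne2 ht
    omega

end Cfsg.Agent.Lib.Helper2.GLAUB2DLAM
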