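import Mathlib
import Cfsg.Agent.Lib.Helper18.Glaub2Defs
import Cfsg.Prelude.Def_Solvable
import Cfsg.Prelude.Def_CaseTheorems
import Cfsg.Agent.Lib.Helper18.SIMSL1

/-! S4385 market "GLAUB2" (planner helper18): leaf DNK (port of helper10's SIMS2-NK from `TSData` to
`PData 2`): `⟨x_1, ..., x_(t-1)⟩` is normalized by `⟨x_0, ..., x_t⟩`. -/

set_option autoImplicit false

namespace Cfsg.Agent.Lib.Helper2.GLAUB2DNK

open Cfsg Cfsg.Agent.Lib.Helper18.Sims3 Cfsg.Agent.Lib.Helper18.Glaub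
open Cfsg.Agent.Lib.Helper18.SIMSL1

variable {G : Type*} [Group G]

/-- LEAF DNK (port of SIMS2-NK). -/
theorem Hx_le_normalizer_d [Finite G] {g : G} {x : ℕ → G} {t : ℕ} (h : PData 2 g x t)
    (ht : 2 ≤ t) :
    Hx x 0 t ≤ Subgroup.normalizer ((Hx x 1 (t - 1) : Subgroup G) : Set G) := by
  have hK : Nat.card ↥(Hx x 1 (t - 1)) = 2 ^ (t - 1) := by
    rw [h.card 1 (t - 1) (by omega) (by omega)]
    congr 1
    omega
  have hL : Nat.card ↥(Hx x 0 (t - 1)) = 2 ^ t := by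
    rw [h.card 0 (t - 1) (by omega) (by omega)]
    congr 1
    omega
  have hR : Nat.card ↥(Hx x 1 t) = 2 ^ t := by
    rw [h.card 1 t (by omega) (by omega)]
    congr 1
    omega
  have hpow : 2 ^ t = 2 * 2 ^ (t - 1) := by
    rw [← pow_succ']
    congr 1
    omega
  have hnL : Hx x 0 (t - 1) ≤ Subgroup.normalizer ((Hx x 1 (t - 1) : Subgroup G) : Set G) :=
    le_normalizer_of_card (Hx_mono x (by omega) le_rfl) (by rw [hL, hK, hpow])
  have hnR : Hx x 1 t ≤ Subgroup.normalizer ((Hx x 1 (t - 1) : Subgroup G) : Set G) :=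
    le_normalizer_of_card (Hx_mono x le_rfl (by omega)) (by rw [hR, hK, hpow])
  unfold Hx
  rw [Subgroup.closure_le]
  rintro _ ⟨k, ⟨_, hk2⟩, rfl⟩
  rcases Nat.lt_or_ge k t with hlt | hge
  · exact hnL (mem_Hx x (Nat.zero_le k) (by omega))
  · exact hnR (mem_Hx x (by omega) hk2)

end Cfsg.Agent.Lib.Helper2.GLAUB2DNK
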