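import Mathlib
import Cfsg.Agent.Lib.Helper10.NilCovB1

/-!
# S3894 leaves B2 (+ spare B3): Cauchy element in the centralizer of an irreducible 2×2 matrix

`Irred g` unfolds to helper10's `NoEigen ↑g`.
-/

namespace Cfsg.Agent.Lib.Helper2.NilCovB23

open Matrix
open commutatorElement

variable {F : Type*} [Field F]

/-- `g` has no eigenvector in `F²`. -/
def Irred (g : GL (Fin 2) F) : Prop :=
  ∀ v : Fin 2 → F, v ≠ 0 → ∀ c : F, (g : Matrix (Fin 2) (Fin 2) F).mulVec v ≠ c • v

theorem det_sub_smul_ne_zero {g : GL (Fin 2) F} (hg : Irred g) (c : F) :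
    ((g : Matrix (Fin 2) (Fin 2) F) - c • (1 : Matrix (Fin 2) (Fin 2) F)).det ≠ 0 := by
  intro h
  obtain ⟨v, hv0, hv⟩ := Matrix.exists_mulVec_eq_zero_iff.mpr h
  apply hg v hv0 c
  rw [Matrix.sub_mulVec, Matrix.smul_mulVec, Matrix.one_mulVec, sub_eq_zero] at hv
  exact hv

theorem entry10_ne_zero {g : GL (Fin 2) F} (hg : Irred g) :
    (g : Matrix (Fin 2) (Fin 2) F) 1 0 ≠ 0 := by
  intro h
  apply hg ![1, 0] (by intro h0; have := congrFun h0 0; simp at this)
    ((g : Matrix (Fin 2) (Fin 2) F) 0 0)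
  ext i
  fin_cases i <;> simp [Matrix.mulVec, dotProduct, Fin.sum_univ_two, h]

/-- (B1a) the commutant of an irreducible `g` is `{a + b g}`. -/
theorem comm_eq_lin {g : GL (Fin 2) F} (hg : Irred g) (x : Matrix (Fin 2) (Fin 2) F)
    (hx : x * (g : Matrix (Fin 2) (Fin 2) F) = (g : Matrix (Fin 2) (Fin 2) F) * x) :
    ∃ a b : F, x = a • (1 : Matrix (Fin 2) (Fin 2) F) + b • (g : Matrix (Fin 2) (Fin 2) F) := by
  have hc := entry10_ne_zero hg
  set G : Matrix (Fin 2) (Fin 2) F := (g : Matrix (Fin 2) (Fin 2) F) with hG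
  have e00 := congrFun (congrFun hx 0) 0
  have e01 := congrFun (congrFun hx 0) 1
  have e10 := congrFun (congrFun hx 1) 0
  have e11 := congrFun (congrFun hx 1) 1
  simp only [Matrix.mul_apply, Fin.sum_univ_two] at e00 e01 e10 e11
  refine ⟨x 0 0 - x 1 0 / G 1 0 * G 0 0, x 1 0 / G 1 0, ?_⟩
  ext i j
  fin_cases i <;> fin_cases j <;>
    simp only [Fin.zero_eta, Fin.mk_one, Fin.isValue, Matrix.add_apply, Matrix.smul_apply,
      Matrix.one_apply_eq, Matrix.one_apply_ne, ne_eq, zero_ne_one, one_ne_zero,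
      not_false_eq_true, smul_eq_mul, mul_one, mul_zero, zero_add] <;>
    field_simp <;> grind

/-- (B1c) a nonzero `a + b g` is invertible. -/
theorem det_lin_ne_zero {g : GL (Fin 2) F} (hg : Irred g) (a b : F) (h : a ≠ 0 ∨ b ≠ 0) :
    (a • (1 : Matrix (Fin 2) (Fin 2) F) + b • (g : Matrix (Fin 2) (Fin 2) F)).det ≠ 0 := by
  by_cases hb : b = 0
  · subst hb
    have ha : a ≠ 0 := by tauto
    simp [ha]
  · have : a • (1 : Matrix (Fin 2) (Fin 2) F) + b • (g : Matrix (Fin 2) (Fin 2) F)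
        = b • ((g : Matrix (Fin 2) (Fin 2) F) - (-a / b) • (1 : Matrix (Fin 2) (Fin 2) F)) := by
      rw [smul_sub, smul_smul, add_comm, sub_eq_add_neg, ← neg_smul]
      congr 2
      field_simp
    rw [this, Matrix.det_smul]
    exact mul_ne_zero (pow_ne_zero _ hb) (det_sub_smul_ne_zero hg _)

/-- a nonzero `a + b g` is a non-zero-divisor. -/
theorem eq_zero_of_lin_mul_eq_zero {g : GL (Fin 2) F} (hg : Irred g) (a b : F)
    (M : Matrix (Fin 2) (Fin 2) F)
    (h : (a • (1 : Matrix (Fin 2) (Fin 2) F) + b • (g : Matrix (Fin 2) (Fin 2) F)) * M = 0) :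
    (a • (1 : Matrix (Fin 2) (Fin 2) F) + b • (g : Matrix (Fin 2) (Fin 2) F)) = 0 ∨ M = 0 := by
  by_cases hab : a ≠ 0 ∨ b ≠ 0
  · right
    have hdet := det_lin_ne_zero hg a b hab
    have hu : IsUnit (a • (1 : Matrix (Fin 2) (Fin 2) F) + b • (g : Matrix (Fin 2) (Fin 2) F)) :=
      (Matrix.isUnit_iff_isUnit_det _).mpr (isUnit_iff_ne_zero.mpr hdet)
    exact (hu.mul_right_eq_zero).mp h
  · left
    have ha : a = 0 := by by_contra h0; exact hab (Or.inl h0)
    have hb : b = 0 := by by_contra h0; exact hab (Or.inr h0)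
    simp [ha, hb]

/-- Cayley–Hamilton for `2 × 2`. -/
theorem cayley_two (M : Matrix (Fin 2) (Fin 2) F) :
    M * M - M.trace • M + M.det • (1 : Matrix (Fin 2) (Fin 2) F) = 0 := by
  ext i j
  fin_cases i <;> fin_cases j <;>
    simp [Matrix.mul_apply, Fin.sum_univ_two, Matrix.trace_fin_two, Matrix.det_fin_two] <;> ring

/-- Key lemma: a matrix commuting with the irreducible `y` (`det y = 1`) that has the trace of
`y` and determinant `1` is `y` or `y⁻¹`. -/
theorem eq_or_eq_inv {y : GL (Fin 2) F} (hy : Irred y)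
    (hdet : (y : Matrix (Fin 2) (Fin 2) F).det = 1)
    (Y' : Matrix (Fin 2) (Fin 2) F)
    (hcomm : Y' * (y : Matrix (Fin 2) (Fin 2) F) = (y : Matrix (Fin 2) (Fin 2) F) * Y')
    (htr : Y'.trace = (y : Matrix (Fin 2) (Fin 2) F).trace) (hdet' : Y'.det = 1) :
    Y' = (y : Matrix (Fin 2) (Fin 2) F) ∨ Y' = ((y⁻¹ : GL (Fin 2) F) : Matrix (Fin 2) (Fin 2) F) := by
  set Y : Matrix (Fin 2) (Fin 2) F := (y : Matrix (Fin 2) (Fin 2) F) with hY
  set Yi : Matrix (Fin 2) (Fin 2) F := ((y⁻¹ : GL (Fin 2) F) : Matrix (Fin 2) (Fin 2) F) with hYi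
  have hYYi : Y * Yi = 1 := by
    rw [hY, hYi, ← Matrix.GeneralLinearGroup.coe_mul, mul_inv_cancel]; rfl
  have hYiY : Yi * Y = 1 := by
    rw [hY, hYi, ← Matrix.GeneralLinearGroup.coe_mul, inv_mul_cancel]; rfl
  -- Y + Yi = t
  have hCH := cayley_two Y
  rw [hdet, one_smul] at hCH
  have hsum : Y + Yi = Y.trace • (1 : Matrix (Fin 2) (Fin 2) F) := by
    have h1 : (Y * Y - Y.trace • Y + 1) * Yi = 0 := by rw [hCH, zero_mul]
    rw [add_mul, sub_mul, mul_assoc, hYYi, mul_one, one_mul, smul_mul_assoc, hYYi] at h1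
    have : Y + Yi = Y.trace • (1 : Matrix (Fin 2) (Fin 2) F) + (Y - Y.trace • 1 + Yi) := by abel
    rw [this, h1, add_zero]
  obtain ⟨a, b, hab⟩ := comm_eq_lin hy Y' hcomm
  have hCH' := cayley_two Y'
  rw [hdet', one_smul, htr] at hCH'
  -- (Y' - Y) * (Y' - Yi) = 0
  have hprod : (Y' - Y) * (Y' - Yi) = 0 := by
    have hcomm' : Y * Y' = Y' * Y := hcomm.symm
    have e : (Y' - Y) * (Y' - Yi) = Y' * Y' - Y' * (Y + Yi) + Y * Yi := by
      rw [sub_mul, mul_sub, mul_sub, hcomm', mul_add]; abel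
    rw [e, hsum, hYYi, mul_smul_comm, mul_one]
    exact hCH'
  have hform : Y' - Y = a • (1 : Matrix (Fin 2) (Fin 2) F) + (b - 1) • Y := by
    rw [hab, sub_smul, one_smul]; abel
  rw [hform] at hprod
  rcases eq_zero_of_lin_mul_eq_zero hy a (b - 1) _ hprod with h | h
  · left
    rw [← hform] at h
    exact sub_eq_zero.mp h
  · right
    exact sub_eq_zero.mp h


theorem not_irred_one : ¬ Irred (1 : GL (Fin 2) F) := by
  intro h
  apply h ![1, 0] (by intro h0; have := congrFun h0 0; simp at this) 1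
  simp

/-- An element of odd order of a nilpotent subgroup is not inverted by any element of it, unless
trivial. -/
theorem eq_one_of_inverted {G : Type*} [Group G] (S : Subgroup G) (hS : Group.IsNilpotent ↥S)
    (y z : G) (hy : y ∈ S) (hz : z ∈ S)
    (hconj : z * y * z⁻¹ = y⁻¹) (hord : Odd (orderOf y)) : y = 1 := by
  have key : ∀ k : ℕ, y ^ (2 ^ k) ∈ S.lowerCentralSeries k := by
    intro k
    induction k with
    | zero => simpa using hy
    | succ k ih =>
      have hc : z * (y ^ (2 ^ k)) * z⁻¹ = (y ^ (2 ^ k))⁻¹ := by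
        rw [← conj_pow, hconj, inv_pow]
      have hmem : ⁅y ^ (2 ^ k), z⁆ ∈ S.lowerCentralSeries (k + 1) := by
        rw [Subgroup.lowerCentralSeries_succ]
        exact Subgroup.commutator_mem_commutator ih hz
      have he : ⁅y ^ (2 ^ k), z⁆ = y ^ (2 ^ (k + 1)) := by
        rw [commutatorElement_def, pow_succ, pow_mul, pow_two]
        have h2 : z * (y ^ 2 ^ k)⁻¹ * z⁻¹ = y ^ 2 ^ k := by
          have h3 : z * (y ^ 2 ^ k)⁻¹ * z⁻¹ = (z * y ^ 2 ^ k * z⁻¹)⁻¹ := by group
          rw [h3, hc, inv_inv]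
        rw [mul_assoc, mul_assoc, ← mul_assoc z, h2]
      rw [← he]; exact hmem
  obtain ⟨n, hn⟩ := (Subgroup.isNilpotent_iff_lowerCentralSeries S).mp hS
  have h1 : y ^ (2 ^ n) = 1 := by
    have := key n
    rw [hn, Subgroup.mem_bot] at this
    exact this
  have hdvd : orderOf y ∣ 2 ^ n := orderOf_dvd_of_pow_eq_one h1
  have hcop : Nat.Coprime (orderOf y) (2 ^ n) :=
    Nat.Coprime.pow_right n (Nat.coprime_two_right.mpr hord)
  have : orderOf y = 1 := Nat.Coprime.eq_one_of_dvd hcop hdvd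
  exact orderOf_eq_one_iff.mp this

/-- (B3) a nilpotent subgroup of `GL₂(F)` containing an irreducible `y` of determinant one and
odd order centralizes `y`. -/
theorem le_centralizer_of_nilpotent (A : Subgroup (GL (Fin 2) F)) (hA : Group.IsNilpotent ↥A)
    (y : GL (Fin 2) F) (hyA : y ∈ A) (hy : Irred y)
    (hdet : (y : Matrix (Fin 2) (Fin 2) F).det = 1) (hord : Odd (orderOf y)) :
    A ≤ Subgroup.centralizer ({y} : Set (GL (Fin 2) F)) := by
  set yA : ↥A := ⟨y, hyA⟩ with hyAdef
  have key : ∀ n : ℕ, ∀ z ∈ Subgroup.upperCentralSeries ↥A n, z * yA = yA * z := by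
    intro n
    induction n with
    | zero =>
      intro z hz
      rw [Subgroup.upperCentralSeries_zero, Subgroup.mem_bot] at hz
      rw [hz, one_mul, mul_one]
    | succ n ih =>
      intro z hz
      rw [Subgroup.mem_upperCentralSeries_succ_iff] at hz
      have hc := ih _ (hz yA)
      -- y' = z y z⁻¹ commutes with y
      set y' : ↥A := z * yA * z⁻¹ with hy'
      have hy'c : y' * yA = yA * y' := by
        have e : y' = ⁅z, yA⁆ * yA := by
          rw [hy', commutatorElement_def]; group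
        rw [e, mul_assoc, ← mul_assoc yA, ← hc, mul_assoc]
      -- pass to matrices
      have hM : ((y' : GL (Fin 2) F) : Matrix (Fin 2) (Fin 2) F)
          = ((z : GL (Fin 2) F) : Matrix (Fin 2) (Fin 2) F) * (y : Matrix (Fin 2) (Fin 2) F)
            * (((z : GL (Fin 2) F)⁻¹ : GL (Fin 2) F) : Matrix (Fin 2) (Fin 2) F) := by
        simp [hy', hyAdef]
      have hzz : ((z : GL (Fin 2) F) : Matrix (Fin 2) (Fin 2) F)
          * (((z : GL (Fin 2) F)⁻¹ : GL (Fin 2) F) : Matrix (Fin 2) (Fin 2) F) = 1 := by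
        rw [← Matrix.GeneralLinearGroup.coe_mul, mul_inv_cancel]; rfl
      have hzz' : (((z : GL (Fin 2) F)⁻¹ : GL (Fin 2) F) : Matrix (Fin 2) (Fin 2) F)
          * ((z : GL (Fin 2) F) : Matrix (Fin 2) (Fin 2) F) = 1 := by
        rw [← Matrix.GeneralLinearGroup.coe_mul, inv_mul_cancel]; rfl
      have hcommM : ((y' : GL (Fin 2) F) : Matrix (Fin 2) (Fin 2) F) * (y : Matrix (Fin 2) (Fin 2) F)
          = (y : Matrix (Fin 2) (Fin 2) F) * ((y' : GL (Fin 2) F) : Matrix (Fin 2) (Fin 2) F) := by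
        have := congrArg (fun t : ↥A => ((t : GL (Fin 2) F) : Matrix (Fin 2) (Fin 2) F)) hy'c
        simpa [hyAdef] using this
      have htr : ((y' : GL (Fin 2) F) : Matrix (Fin 2) (Fin 2) F).trace
          = (y : Matrix (Fin 2) (Fin 2) F).trace := by
        rw [hM, Matrix.trace_mul_cycle, hzz', one_mul]
      have hdet' : ((y' : GL (Fin 2) F) : Matrix (Fin 2) (Fin 2) F).det = 1 := by
        rw [hM, Matrix.det_mul, Matrix.det_mul, mul_right_comm, ← Matrix.det_mul, hzz,
          Matrix.det_one, one_mul, hdet]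
      rcases eq_or_eq_inv hy hdet _ hcommM htr hdet' with h | h
      · -- y' = y
        have h' : (y' : GL (Fin 2) F) = y := Units.ext h
        have h'' : y' = yA := Subtype.ext h'
        rw [hy'] at h''
        calc z * yA = (z * yA * z⁻¹) * z := by group
          _ = yA * z := by rw [h'']
      · -- y' = y⁻¹ : impossible
        exfalso
        have h' : (y' : GL (Fin 2) F) = y⁻¹ := Units.ext h
        have h'' : (z : GL (Fin 2) F) * y * (z : GL (Fin 2) F)⁻¹ = y⁻¹ := by
          rw [← h', hy']; simp [hyAdef]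
        have h1 := eq_one_of_inverted A hA y (z : GL (Fin 2) F) hyA z.2 h'' hord
        rw [h1] at hy
        exact not_irred_one hy
  obtain ⟨n, hn⟩ := hA.nilpotent'
  intro z hz
  rw [Subgroup.mem_centralizer_iff]
  intro w hw
  rw [Set.mem_singleton_iff] at hw
  subst hw
  have h1 := key n ⟨z, hz⟩ (by rw [hn]; exact Subgroup.mem_top _)
  have h2 := congrArg (fun t : ↥A => (t : GL (Fin 2) F)) h1
  simpa [hyAdef] using h2.symm


/-- matrices of the form `a + b M` commute with everything commuting with `M`. -/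
theorem lin_commute {M N : Matrix (Fin 2) (Fin 2) F} (h : M * N = N * M) (a b : F) :
    (a • (1 : Matrix (Fin 2) (Fin 2) F) + b • M) * N = N * (a • (1 : Matrix (Fin 2) (Fin 2) F) + b • M) := by
  rw [add_mul, mul_add, smul_mul_assoc, smul_mul_assoc, mul_smul_comm, mul_smul_comm, one_mul,
    mul_one, h]

theorem mem_centralizer_iff_matrix {g w : GL (Fin 2) F} :
    w ∈ Subgroup.centralizer ({g} : Set (GL (Fin 2) F)) ↔
      (w : Matrix (Fin 2) (Fin 2) F) * (g : Matrix (Fin 2) (Fin 2) F)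
        = (g : Matrix (Fin 2) (Fin 2) F) * (w : Matrix (Fin 2) (Fin 2) F) := by
  rw [Subgroup.mem_centralizer_singleton_iff]
  constructor
  · intro h
    have := congrArg (fun t : GL (Fin 2) F => (t : Matrix (Fin 2) (Fin 2) F)) h
    simpa using this
  · intro h
    apply Units.ext
    simpa using h

/-- (B2) Cauchy element of odd prime order `r ∣ q + 1` in the centralizer `T` of an irreducible
`g`: it has determinant one, is irreducible, and has the same centralizer. -/
theorem exists_order_r [Fintype F] {g : GL (Fin 2) F} (hg : Irred g)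
    (hcard : Nat.card (Subgroup.centralizer ({g} : Set (GL (Fin 2) F))) = Fintype.card F ^ 2 - 1)
    (r : ℕ) (hr : r.Prime) (hdvd : r ∣ Fintype.card F + 1) (hodd : r ≠ 2) :
    ∃ y ∈ Subgroup.centralizer ({g} : Set (GL (Fin 2) F)), orderOf y = r ∧
      (y : Matrix (Fin 2) (Fin 2) F).det = 1 ∧ Irred y ∧
      Subgroup.centralizer ({y} : Set (GL (Fin 2) F))
        = Subgroup.centralizer ({g} : Set (GL (Fin 2) F)) := by
  classical
  set q := Fintype.card F with hq
  have hq1 : 1 ≤ q := Fintype.card_pos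
  have : Fact r.Prime := ⟨hr⟩
  -- r ∤ q - 1
  have hnd : ¬ r ∣ q - 1 := by
    intro h
    have h2 : r ∣ (q + 1) - (q - 1) := Nat.dvd_sub hdvd h
    have : (q + 1) - (q - 1) = 2 := by omega
    rw [this] at h2
    exact hodd ((Nat.prime_dvd_prime_iff_eq hr Nat.prime_two).mp h2)
  have hcop : Nat.Coprime r (q - 1) := (Nat.Prime.coprime_iff_not_dvd hr).mpr hnd
  -- Cauchy
  have hdvd2 : r ∣ Nat.card (Subgroup.centralizer ({g} : Set (GL (Fin 2) F))) := by
    rw [hcard]
    obtain ⟨m, hm⟩ : ∃ m, q = m + 1 := ⟨q - 1, by omega⟩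
    have e : q ^ 2 - 1 = (q - 1) * (q + 1) := by
      rw [hm]
      have : (m + 1) ^ 2 = m * (m + 1 + 1) + 1 := by ring
      rw [this]; simp
    rw [e]
    exact Dvd.dvd.mul_left hdvd _
  obtain ⟨y0, hy0⟩ := exists_prime_orderOf_dvd_card' r hdvd2
  set y : GL (Fin 2) F := (y0 : GL (Fin 2) F) with hy
  have hyT : y ∈ Subgroup.centralizer ({g} : Set (GL (Fin 2) F)) := y0.2
  have hyord : orderOf y = r := by rw [hy, Subgroup.orderOf_coe, hy0]
  have hyg := mem_centralizer_iff_matrix.mp hyT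
  set Y : Matrix (Fin 2) (Fin 2) F := (y : Matrix (Fin 2) (Fin 2) F) with hY
  set G : Matrix (Fin 2) (Fin 2) F := (g : Matrix (Fin 2) (Fin 2) F) with hG
  -- determinant one
  have hdet : Y.det = 1 := by
    have h1 : (Matrix.GeneralLinearGroup.det y) ^ r = 1 := by
      rw [← map_pow, ← hyord, pow_orderOf_eq_one, map_one]
    have h2 : (Matrix.GeneralLinearGroup.det y) ^ (q - 1) = 1 := by
      have : Nat.card Fˣ = q - 1 := by rw [Nat.card_units, Nat.card_eq_fintype_card]
      rw [← this]; exact pow_card_eq_one'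
    have h3 : Matrix.GeneralLinearGroup.det y = 1 := (pow_eq_one_iff_of_coprime hcop).mp ⟨h1, h2⟩
    have := congrArg Units.val h3
    simpa using this
  -- y = a + b g with b ≠ 0
  obtain ⟨a, b, hab⟩ := comm_eq_lin hg Y hyg
  have hb : b ≠ 0 := by
    intro hb
    rw [hb, zero_smul, add_zero] at hab
    have ha : a ≠ 0 := by
      intro ha
      rw [ha, zero_smul] at hab
      rw [hab] at hdet
      simp at hdet
    have hpow : y ^ (q - 1) = 1 := by
      apply Units.ext
      rw [Units.val_pow_eq_pow_val, Units.val_one]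
      change Y ^ (q - 1) = 1
      rw [hab, smul_pow, one_pow, FiniteField.pow_card_sub_one_eq_one a ha, one_smul]
    have := orderOf_dvd_of_pow_eq_one hpow
    rw [hyord] at this
    exact hnd this
  have hyirr : Irred y := by
    intro v hv c hc
    apply hg v hv ((c - a) / b)
    change Y.mulVec v = c • v at hc
    rw [hab, Matrix.add_mulVec, Matrix.smul_mulVec, Matrix.smul_mulVec, Matrix.one_mulVec] at hc
    have : b • G.mulVec v = (c - a) • v := by
      rw [sub_smul, ← hc]; abel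
    have h2 : G.mulVec v = b⁻¹ • (b • G.mulVec v) := by
      rw [smul_smul, inv_mul_cancel₀ hb, one_smul]
    rw [h2, this, smul_smul, div_eq_inv_mul]
  refine ⟨y, hyT, hyord, hdet, hyirr, ?_⟩
  ext w
  rw [mem_centralizer_iff_matrix, mem_centralizer_iff_matrix]
  constructor
  · intro hw
    obtain ⟨a', b', hw'⟩ := comm_eq_lin hyirr _ hw
    rw [hw']
    exact lin_commute hyg a' b'
  · intro hw
    obtain ⟨a', b', hw'⟩ := comm_eq_lin hg _ hw
    rw [hw']
    have : G * Y = Y * G := hyg.symm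
    change (a' • (1 : Matrix (Fin 2) (Fin 2) F) + b' • G) * Y = Y * (a' • 1 + b' • G)
    exact lin_commute this a' b'

/-- (B2) without the cardinality hypothesis (helper10's `card_centralizer`), stated with
helper10's `NoEigen`. -/
theorem exists_order_r' [Fintype F] (g : GL (Fin 2) F)
    (hg : Cfsg.Agent.Lib.Helper10.NilCovB1.NoEigen (g : Matrix (Fin 2) (Fin 2) F))
    (r : ℕ) (hr : r.Prime) (hdvd : r ∣ Fintype.card F + 1) (hodd : r ≠ 2) :
    ∃ y ∈ Subgroup.centralizer ({g} : Set (GL (Fin 2) F)), orderOf y = r ∧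
      (y : Matrix (Fin 2) (Fin 2) F).det = 1 ∧
      Cfsg.Agent.Lib.Helper10.NilCovB1.NoEigen (y : Matrix (Fin 2) (Fin 2) F) ∧
      Subgroup.centralizer ({y} : Set (GL (Fin 2) F))
        = Subgroup.centralizer ({g} : Set (GL (Fin 2) F)) :=
  exists_order_r (g := g) hg (Cfsg.Agent.Lib.Helper10.NilCovB1.card_centralizer g hg) r hr hdvd hodd

end Cfsg.Agent.Lib.Helper2.NilCovB23
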