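import Mathlib
import Cfsg.Agent.Lib.Helper2.GLCard

/-!
# Small `PSL_2(q)` via the action on the projective line (helper2 library)
-/

set_option autoImplicit false

namespace Cfsg.Agent.Lib.Helper2

open Matrix

section PSL2Small

variable (F : Type*) [Field F] [Fintype F]

theorem card_projLine : Nat.card (Projectivization F (Fin 2 → F)) = Fintype.card F + 1 := by
  rw [Projectivization.card_of_finrank_two F (Fin 2 → F) (by simp), Nat.card_eq_fintype_card]

/-- If `2 * |PSL_2(q)| = (q+1)!` then `PSL_2(q) ≃ A_{q+1}`. -/
theorem psl2_equiv_alt (m : ℕ) (hX : Fintype.card F + 1 = m)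
    (hcard : 2 * Nat.card (ProjectiveSpecialLinearGroup (Fin 2) F) = m.factorial) :
    Nonempty (ProjectiveSpecialLinearGroup (Fin 2) F ≃* alternatingGroup (Fin m)) := by
  classical
  have : Fintype (Projectivization F (Fin 2 → F)) := Fintype.ofFinite _
  have hXc : Fintype.card (Projectivization F (Fin 2 → F)) = m := by
    rw [← Nat.card_eq_fintype_card, card_projLine, hX]
  set φ := Projectivization.PSLAction.toPermHom (K := F) (ι := Fin 2) with hφ
  have hinj : Function.Injective φ :=
    Matrix.ProjectiveSpecialLinearGroup.toPermHom_injective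
  have hR : Nat.card φ.range = Nat.card (ProjectiveSpecialLinearGroup (Fin 2) F) :=
    (Nat.card_congr (MonoidHom.ofInjective hinj).toEquiv).symm
  have hidx : φ.range.index = 2 := by
    have h1 := Subgroup.card_mul_index φ.range
    rw [hR, Nat.card_eq_fintype_card (α := Equiv.Perm _), Fintype.card_perm, hXc, ← hcard] at h1
    have hpos : 0 < Nat.card (ProjectiveSpecialLinearGroup (Fin 2) F) := Nat.card_pos
    have h2 : Nat.card (ProjectiveSpecialLinearGroup (Fin 2) F) * φ.range.index =
        Nat.card (ProjectiveSpecialLinearGroup (Fin 2) F) * 2 := by rw [h1]; ring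
    exact Nat.eq_of_mul_eq_mul_left hpos h2
  have halt := Equiv.Perm.eq_alternatingGroup_of_index_eq_two hidx
  have e1 : ProjectiveSpecialLinearGroup (Fin 2) F ≃* φ.range := MonoidHom.ofInjective hinj
  have e2 : φ.range ≃* alternatingGroup (Projectivization F (Fin 2 → F)) :=
    MulEquiv.subgroupCongr halt
  have e3 : alternatingGroup (Projectivization F (Fin 2 → F)) ≃* alternatingGroup (Fin m) :=
    Equiv.altCongrHom (Fintype.equivFinOfCardEq hXc)
  exact ⟨(e1.trans e2).trans e3⟩

end PSL2Small

end Cfsg.Agent.Lib.Helper2
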