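/-
helper2: the Clifford algebra of the form `∑ xᵢ²` over `ZMod 3`: generators `e i`, the elements
`x i j = e i - e j` (which square to `-1`), their intertwining relations with the `e m`, and the
fact that an even element commuting with all `e m` is a scalar.
(Used to construct the double cover of the alternating group.)
-/
import Mathlib

set_option autoImplicit false

namespace Cfsg.Agent.Lib.Helper2.SpinAlt

open CliffordAlgebra

/-- The standard quadratic form `∑ xᵢ²` on `(ZMod 3)ⁿ`. -/
noncomputable def Qf (n : ℕ) : QuadraticForm (ZMod 3) (Fin n → ZMod 3) :=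
  QuadraticMap.weightedSumSquares (ZMod 3) (fun _ : Fin n => (1 : ZMod 3))

variable {n : ℕ}

theorem Qf_apply (v : Fin n → ZMod 3) : Qf n v = ∑ i, v i * v i := by
  unfold Qf
  rw [QuadraticMap.weightedSumSquares_apply]
  simp

theorem Qf_single (i : Fin n) : Qf n (Pi.single i 1) = 1 := by
  classical
  rw [Qf_apply, Finset.sum_eq_single i]
  · simp
  · intro j _ hji
    rw [Pi.single_eq_of_ne hji, mul_zero]
  · intro h
    exact absurd (Finset.mem_univ _) h

theorem Qf_polar_single {i j : Fin n} (hij : i ≠ j) :
    QuadraticMap.polar (Qf n) (Pi.single i 1) (Pi.single j 1) = 0 := by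
  classical
  unfold QuadraticMap.polar
  rw [Qf_single, Qf_single, Qf_apply]
  have h : ∀ k : Fin n, ((Pi.single i (1 : ZMod 3) + Pi.single j (1 : ZMod 3) : Fin n → ZMod 3) k) *
      ((Pi.single i (1 : ZMod 3) + Pi.single j (1 : ZMod 3) : Fin n → ZMod 3) k) =
      (if k = i then 1 else 0) + (if k = j then 1 else 0) := by
    intro k
    simp only [Pi.add_apply, Pi.single_apply]
    by_cases hki : k = i
    · have hkj : k ≠ j := fun h => hij (hki.symm.trans h)
      simp [hki, hij]
    · by_cases hkj : k = j
      · simp [hkj, hij.symm]
      · simp [hki, hkj]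
  simp_rw [h]
  rw [Finset.sum_add_distrib]
  simp

/-- the generators -/
noncomputable def e (i : Fin n) : CliffordAlgebra (Qf n) := ι (Qf n) (Pi.single i 1)

theorem e_mul_self (i : Fin n) : e i * e i = 1 := by
  unfold e
  rw [ι_sq_scalar, Qf_single, map_one]

theorem e_mul_e {i j : Fin n} (hij : i ≠ j) : e i * e j = -(e j * e i) := by
  unfold e
  have h := ι_mul_ι_add_swap (Q := Qf n) (Pi.single i 1) (Pi.single j 1)
  rw [Qf_polar_single hij, map_zero] at h
  exact eq_neg_of_add_eq_zero_left h

theorem three_eq_zero : (1 : CliffordAlgebra (Qf n)) + 1 + 1 = 0 := by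
  have h : (1 : ZMod 3) + 1 + 1 = 0 := by decide
  have h2 := congrArg (algebraMap (ZMod 3) (CliffordAlgebra (Qf n))) h
  simpa using h2

theorem two_eq_neg_one : (1 : CliffordAlgebra (Qf n)) + 1 = -1 := by
  have h := three_eq_zero (n := n)
  exact eq_neg_of_add_eq_zero_left h

/-- `x i j = e i - e j` -/
noncomputable def x (i j : Fin n) : CliffordAlgebra (Qf n) := e i - e j

theorem x_mul_self {i j : Fin n} (hij : i ≠ j) : x i j * x i j = -1 := by
  unfold x
  rw [sub_mul, mul_sub, mul_sub, e_mul_self, e_mul_self, e_mul_e hij]
  have h := two_eq_neg_one (n := n)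
  calc (1 - -(e j * e i)) - (e j * e i - 1) = 1 + 1 := by abel
    _ = -1 := h

theorem x_mul_e {i j : Fin n} (hij : i ≠ j) (m : Fin n) :
    x i j * e m = -(e (Equiv.swap i j m) * x i j) := by
  unfold x
  by_cases hmi : m = i
  · subst hmi
    rw [Equiv.swap_apply_left, sub_mul, mul_sub, e_mul_self, e_mul_self]
    abel
  · by_cases hmj : m = j
    · subst hmj
      rw [Equiv.swap_apply_right, sub_mul, mul_sub, e_mul_self, e_mul_self]
      abel
    · rw [Equiv.swap_apply_of_ne_of_ne hmi hmj, sub_mul, mul_sub,
        e_mul_e (Ne.symm hmi), e_mul_e (Ne.symm hmj)]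
      abel

theorem x_mul_x {i j : Fin n} (hij : i ≠ j) (k l : Fin n) :
    x i j * x k l = -(x (Equiv.swap i j k) (Equiv.swap i j l) * x i j) := by
  have h1 := x_mul_e hij k
  have h2 := x_mul_e hij l
  unfold x at h1 h2 ⊢
  rw [mul_sub (e i - e j), h1, h2, sub_mul (e (Equiv.swap i j k))]
  abel

/-- the generators of the double cover: `a i j k l = x i j * x k l` -/
noncomputable def a (i j k l : Fin n) : CliffordAlgebra (Qf n) := x i j * x k l

theorem a_mul_a_rev {i j k l : Fin n} (hij : i ≠ j) (hkl : k ≠ l) :
    a i j k l * a k l i j = 1 := by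
  unfold a
  calc x i j * x k l * (x k l * x i j) = x i j * (x k l * x k l) * x i j := by
        simp only [mul_assoc]
    _ = 1 := by
        rw [x_mul_self hkl, mul_neg, mul_one, neg_mul, x_mul_self hij, neg_neg]

theorem a_mul_e {i j k l : Fin n} (hij : i ≠ j) (hkl : k ≠ l) (m : Fin n) :
    a i j k l * e m = e ((Equiv.swap i j * Equiv.swap k l) m) * a i j k l := by
  unfold a
  rw [mul_assoc, x_mul_e hkl, mul_neg, ← mul_assoc, x_mul_e hij, neg_mul, neg_neg, mul_assoc,
    Equiv.Perm.mul_apply]

/-! ### Words in the generators -/

/-- the word `e l₁ * e l₂ * ⋯` -/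
noncomputable def word (l : List (Fin n)) : CliffordAlgebra (Qf n) := (l.map e).prod

@[simp] theorem word_nil : word ([] : List (Fin n)) = 1 := rfl

@[simp] theorem word_cons (i : Fin n) (l : List (Fin n)) : word (i :: l) = e i * word l := by
  unfold word
  rw [List.map_cons, List.prod_cons]

theorem word_append (l l' : List (Fin n)) : word (l ++ l') = word l * word l' := by
  unfold word
  rw [List.map_append, List.prod_append]

theorem e_mul_word (m : Fin n) (l : List (Fin n)) :
    e m * word l = ((-1 : ZMod 3) ^ (l.countP (fun i => i ≠ m))) • (word l * e m) := by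
  induction l with
  | nil => simp
  | cons i l ih =>
    rw [word_cons, List.countP_cons]
    by_cases him : i = m
    · subst him
      simp only [ne_eq, not_true_eq_false, decide_false, Bool.false_eq_true, if_false, add_zero]
      rw [mul_assoc, ih, mul_smul_comm]
    · have h1 : (decide (i ≠ m)) = true := by simp [him]
      rw [h1, if_pos rfl, pow_succ, mul_smul, ← mul_assoc, e_mul_e (Ne.symm him), neg_mul,
        mul_assoc, ih, mul_smul_comm, mul_assoc]
      simp

theorem span_word : Submodule.span (ZMod 3) (Set.range (word : List (Fin n) → _)) = ⊤ := by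
  classical
  rw [eq_top_iff]
  intro y hy
  clear hy
  induction y using CliffordAlgebra.induction with
  | algebraMap r =>
    rw [Algebra.algebraMap_eq_smul_one]
    exact Submodule.smul_mem _ _ (Submodule.subset_span ⟨[], rfl⟩)
  | ι v =>
    have hv : ι (Qf n) v = ∑ i, v i • e i := by
      unfold e
      simp_rw [← map_smul, ← map_sum]
      congr 1
      ext j
      simp [Finset.sum_apply, Pi.single_apply]
    rw [hv]
    apply Submodule.sum_mem
    intro i _
    apply Submodule.smul_mem
    apply Submodule.subset_span
    exact ⟨[i], by simp⟩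
  | mul a b ha hb =>
    have h := Submodule.mul_mem_mul ha hb
    rw [Submodule.span_mul_span] at h
    refine Submodule.span_mono ?_ h
    rintro _ ⟨_, ⟨l, rfl⟩, _, ⟨l', rfl⟩, rfl⟩
    exact ⟨l ++ l', word_append l l'⟩
  | add a b ha hb => exact Submodule.add_mem _ ha hb

/-- a word in which every letter occurs an even number of times is `±1` -/
theorem word_eq_of_even_count (l : List (Fin n)) (h : ∀ m, Even (l.count m)) :
    word l = 1 ∨ word l = -1 := by
  classical
  induction' hk : l.length using Nat.strong_induction_on with k ih generalizing l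
  cases l with
  | nil => left; rfl
  | cons i l' =>
    have hi := h i
    rw [List.count_cons_self] at hi
    have hmem : i ∈ l' := by
      by_contra hni
      rw [List.count_eq_zero_of_not_mem hni] at hi
      exact absurd hi (by decide)
    obtain ⟨s, t, rfl⟩ := List.append_of_mem hmem
    have hcount : ∀ m, Even ((s ++ t).count m) := by
      intro m
      have hm := h m
      rw [List.count_cons, List.count_append, List.count_cons] at hm
      rw [List.count_append]
      by_cases hmi : i = m
      · subst hmi
        simp only [beq_self_eq_true, if_true] at hm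
        have : s.count i + (t.count i + 1) + 1 = (s.count i + t.count i) + 2 := by ring
        rw [this] at hm
        exact (Nat.even_add.mp hm).mpr even_two
      · have hb : (i == m) = false := by simp [hmi]
        simp only [hb, Bool.false_eq_true, if_false, add_zero] at hm
        exact hm
    have hlen : (s ++ t).length < k := by
      rw [← hk]
      simp only [List.length_cons, List.length_append]
      omega
    have hw : word (i :: (s ++ i :: t)) =
        ((-1 : ZMod 3) ^ (s.countP (fun j => j ≠ i))) • word (s ++ t) := by
      rw [word_cons, word_append, word_cons, ← mul_assoc, e_mul_word, smul_mul_assoc, mul_assoc,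
        ← mul_assoc (e i), e_mul_self, one_mul, ← word_append]
    rw [hw]
    rcases ih _ hlen (s ++ t) hcount rfl with h1 | h1
    · rw [h1]
      rcases neg_one_pow_eq_or (ZMod 3) (s.countP (fun j => j ≠ i)) with h2 | h2
      · left; rw [h2, one_smul]
      · right; rw [h2, neg_smul, one_smul]
    · rw [h1]
      rcases neg_one_pow_eq_or (ZMod 3) (s.countP (fun j => j ≠ i)) with h2 | h2
      · right; rw [h2, one_smul]
      · left; rw [h2, neg_smul, one_smul, neg_neg]

theorem count_add_countP_ne (m : Fin n) (l : List (Fin n)) :
    l.count m + l.countP (fun i => i ≠ m) = l.length := by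
  induction l with
  | nil => simp
  | cons i l ih =>
    rw [List.count_cons, List.countP_cons, List.length_cons]
    by_cases him : i = m
    · subst him
      simp only [beq_self_eq_true, if_true, ne_eq, not_true_eq_false, decide_false,
        Bool.false_eq_true, if_false, add_zero]
      simp only [ne_eq] at ih
      omega
    · have hb : (i == m) = false := by simp [him]
      have h1 : (decide (i ≠ m)) = true := by simp [him]
      rw [hb, h1]
      simp only [Bool.false_eq_true, if_false, if_true, add_zero]
      omega

/-! ### Averaging operators -/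

theorem four_smul_eq (y : CliffordAlgebra (Qf n)) : (2 : ZMod 3) • (y + y) = y := by
  rw [← two_smul (ZMod 3) y, smul_smul]
  have h : (2 : ZMod 3) * 2 = 1 := by decide
  rw [h, one_smul]

/-- averaging over conjugation by `e m` -/
noncomputable def P (m : Fin n) : Module.End (ZMod 3) (CliffordAlgebra (Qf n)) :=
  (2 : ZMod 3) • (LinearMap.id + (LinearMap.mulLeft (ZMod 3) (e m)).comp
    (LinearMap.mulRight (ZMod 3) (e m)))

theorem P_apply (m : Fin n) (y : CliffordAlgebra (Qf n)) :
    P m y = (2 : ZMod 3) • (y + e m * (y * e m)) := rfl

theorem P_of_commute (m : Fin n) (y : CliffordAlgebra (Qf n)) (h : e m * y = y * e m) :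
    P m y = y := by
  rw [P_apply, ← mul_assoc, h, mul_assoc, e_mul_self, mul_one, four_smul_eq]

theorem P_word (m : Fin n) (l : List (Fin n)) :
    P m (word l) = if Even (l.countP (fun i => i ≠ m)) then word l else 0 := by
  rw [P_apply, ← mul_assoc, e_mul_word, smul_mul_assoc, mul_assoc, e_mul_self, mul_one]
  split_ifs with h
  · rw [h.neg_one_pow, one_smul, four_smul_eq]
  · rw [Nat.not_even_iff_odd] at h
    rw [h.neg_one_pow, neg_smul, one_smul, add_neg_cancel, smul_zero]

/-- projection onto the even part -/
noncomputable def E : Module.End (ZMod 3) (CliffordAlgebra (Qf n)) :=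
  (2 : ZMod 3) • (LinearMap.id + (involute (Q := Qf n)).toLinearMap)

theorem E_apply (y : CliffordAlgebra (Qf n)) : E y = (2 : ZMod 3) • (y + involute y) := rfl

theorem E_of_involute (y : CliffordAlgebra (Qf n)) (h : involute y = y) : E y = y := by
  rw [E_apply, h, four_smul_eq]

theorem involute_word (l : List (Fin n)) :
    involute (word l) = ((-1 : ZMod 3) ^ l.length) • word l := by
  induction l with
  | nil => simp
  | cons i l ih =>
    rw [word_cons, map_mul, ih, List.length_cons, pow_succ, mul_smul]
    unfold e
    rw [involute_ι]
    simp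

theorem E_word (l : List (Fin n)) :
    E (word l) = if Even l.length then word l else 0 := by
  rw [E_apply, involute_word]
  split_ifs with h
  · rw [h.neg_one_pow, one_smul, four_smul_eq]
  · rw [Nat.not_even_iff_odd] at h
    rw [h.neg_one_pow, neg_smul, one_smul, add_neg_cancel, smul_zero]

theorem prodP_of_commute (L : List (Fin n)) (y : CliffordAlgebra (Qf n))
    (h : ∀ m, e m * y = y * e m) : (L.map P).prod y = y := by
  induction L with
  | nil => simp
  | cons m L ih =>
    rw [List.map_cons, List.prod_cons, Module.End.mul_apply, ih, P_of_commute m y (h m)]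

theorem prodP_word (L : List (Fin n)) (l : List (Fin n)) :
    (L.map P).prod (word l) =
      if ∀ m ∈ L, Even (l.countP (fun i => i ≠ m)) then word l else 0 := by
  induction L with
  | nil => simp
  | cons m L ih =>
    rw [List.map_cons, List.prod_cons, Module.End.mul_apply, ih]
    by_cases h : ∀ m ∈ L, Even (l.countP (fun i => i ≠ m))
    · rw [if_pos h, P_word]
      by_cases hm : Even (l.countP (fun i => i ≠ m))
      · rw [if_pos hm, if_pos]
        intro m' hm'
        rcases List.mem_cons.mp hm' with rfl | h'
        · exact hm
        · exact h m' h'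
      · rw [if_neg hm, if_neg]
        intro hall
        exact hm (hall m (List.mem_cons_self))
    · rw [if_neg h, map_zero, if_neg]
      intro hall
      exact h (fun m' hm' => hall m' (List.mem_cons_of_mem _ hm'))

/-- an element fixed by `involute` and commuting with all generators is a scalar -/
theorem scalar_of_commute (y : CliffordAlgebra (Qf n)) (hc : ∀ m, e m * y = y * e m)
    (hi : involute y = y) : ∃ c : ZMod 3, y = algebraMap (ZMod 3) (CliffordAlgebra (Qf n)) c := by
  classical
  have key : ∀ t : CliffordAlgebra (Qf n),
      E (((List.finRange n).map P).prod t) ∈ Submodule.span (ZMod 3) {(1 : CliffordAlgebra (Qf n))} := by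
    intro t
    have ht : t ∈ Submodule.span (ZMod 3) (Set.range (word : List (Fin n) → _)) := by
      rw [span_word]; trivial
    induction ht using Submodule.span_induction with
    | mem t ht =>
      obtain ⟨l, rfl⟩ := ht
      rw [prodP_word]
      split_ifs with h
      · rw [E_word]
        split_ifs with h2
        · have hcount : ∀ m, Even (l.count m) := by
            intro m
            have h3 := count_add_countP_ne m l
            have h4 := h m (List.mem_finRange m)
            rw [← h3] at h2
            exact (Nat.even_add.mp h2).mpr h4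
          rcases word_eq_of_even_count l hcount with h5 | h5
          · rw [h5]; exact Submodule.mem_span_singleton_self _
          · rw [h5]; exact Submodule.neg_mem _ (Submodule.mem_span_singleton_self _)
        · exact Submodule.zero_mem _
      · rw [map_zero]; exact Submodule.zero_mem _
    | zero => simp
    | add a b _ _ ha hb => rw [map_add, map_add]; exact Submodule.add_mem _ ha hb
    | smul r a _ ha => rw [map_smul, map_smul]; exact Submodule.smul_mem _ _ ha
  have h1 := key y
  rw [prodP_of_commute _ y hc, E_of_involute y hi] at h1
  obtain ⟨c, hc'⟩ := Submodule.mem_span_singleton.mp h1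
  exact ⟨c, by rw [← hc', Algebra.algebraMap_eq_smul_one]⟩

end Cfsg.Agent.Lib.Helper2.SpinAlt
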