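/-
helper2: the double cover of the alternating group `A_n` (`n ≥ 4`) as a subgroup of
`(CliffordAlgebra)ˣ × Perm (Fin n)` over `ZMod 3`, generated by the pairs
`(x i j * x k l, swap i j * swap k l)`.
-/
import Mathlib
import Cfsg.Agent.Lib.Helper2.SpinAlt1

set_option autoImplicit false

namespace Cfsg.Agent.Lib.Helper2.SpinAlt

open CliffordAlgebra

variable {n : ℕ}

instance invertibleTwoZModThree : Invertible (2 : ZMod 3) := ⟨2, by decide, by decide⟩

theorem algebraMap_inj :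
    Function.Injective (algebraMap (ZMod 3) (CliffordAlgebra (Qf n))) :=
  (algebraMap (ZMod 3) (CliffordAlgebra (Qf n))).injective

theorem neg_one_ne_one : (-1 : CliffordAlgebra (Qf n)) ≠ 1 := by
  intro h
  have h2 := two_eq_neg_one (n := n)
  rw [h] at h2
  have h3 : (1 : CliffordAlgebra (Qf n)) = 0 := by simp at h2
  exact one_ne_zero h3

theorem e_injective : Function.Injective (e : Fin n → CliffordAlgebra (Qf n)) := by
  intro m m' h
  by_contra hne
  have h1 := e_mul_e hne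
  rw [← h, e_mul_self] at h1
  exact neg_one_ne_one h1.symm

theorem x_eq_ι (i j : Fin n) : x i j = ι (Qf n) (Pi.single i 1 - Pi.single j 1) := by
  unfold x e
  rw [map_sub]

theorem involute_x (i j : Fin n) : involute (x i j) = -x i j := by
  rw [x_eq_ι, involute_ι]

theorem reverse_x (i j : Fin n) : reverse (x i j) = x i j := by
  rw [x_eq_ι, reverse_ι]

theorem involute_a (i j k l : Fin n) : involute (a i j k l) = a i j k l := by
  unfold a
  rw [map_mul, involute_x, involute_x, neg_mul_neg]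

theorem reverse_a (i j k l : Fin n) : reverse (a i j k l) = a k l i j := by
  unfold a
  rw [reverse.map_mul, reverse_x, reverse_x]

/-- the generators as units -/
noncomputable def aU (i j k l : Fin n) (hij : i ≠ j) (hkl : k ≠ l) : (CliffordAlgebra (Qf n))ˣ :=
  ⟨a i j k l, a k l i j, a_mul_a_rev hij hkl, a_mul_a_rev hkl hij⟩

/-- the generators of the double cover -/
noncomputable def gen (i j k l : Fin n) (hij : i ≠ j) (hkl : k ≠ l) :
    (CliffordAlgebra (Qf n))ˣ × Equiv.Perm (Fin n) :=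
  (aU i j k l hij hkl, Equiv.swap i j * Equiv.swap k l)

/-- the double cover of the alternating group -/
noncomputable def Gam (n : ℕ) : Subgroup ((CliffordAlgebra (Qf n))ˣ × Equiv.Perm (Fin n)) :=
  Subgroup.closure {g | ∃ (i j k l : Fin n) (hij : i ≠ j) (hkl : k ≠ l), g = gen i j k l hij hkl}

theorem gen_mem (i j k l : Fin n) (hij : i ≠ j) (hkl : k ≠ l) : gen i j k l hij hkl ∈ Gam n :=
  Subgroup.subset_closure ⟨i, j, k, l, hij, hkl, rfl⟩

/-- the invariants of the elements of `Gam n` -/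
def Inv (g : (CliffordAlgebra (Qf n))ˣ × Equiv.Perm (Fin n)) : Prop :=
  (∀ m, (g.1 : CliffordAlgebra (Qf n)) * e m = e (g.2 m) * g.1) ∧
  involute (g.1 : CliffordAlgebra (Qf n)) = g.1 ∧
  (g.1 : CliffordAlgebra (Qf n)) * reverse (g.1 : CliffordAlgebra (Qf n)) = 1 ∧
  Equiv.Perm.sign g.2 = 1

theorem inv_of_mem {g : (CliffordAlgebra (Qf n))ˣ × Equiv.Perm (Fin n)} (hg : g ∈ Gam n) :
    Inv g := by
  unfold Gam at hg
  induction hg using Subgroup.closure_induction with
  | mem g hg =>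
    obtain ⟨i, j, k, l, hij, hkl, rfl⟩ := hg
    refine ⟨fun m => a_mul_e hij hkl m, involute_a i j k l, ?_, ?_⟩
    · show a i j k l * reverse (a i j k l) = 1
      rw [reverse_a, a_mul_a_rev hij hkl]
    · show Equiv.Perm.sign (Equiv.swap i j * Equiv.swap k l) = 1
      rw [Equiv.Perm.sign_mul, Equiv.Perm.sign_swap hij, Equiv.Perm.sign_swap hkl]
      rfl
  | one =>
    refine ⟨fun m => by simp, by simp, by simp, by simp⟩
  | mul g h _ _ hg hh =>
    obtain ⟨g1, g2, g3, g4⟩ := hg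
    obtain ⟨h1, h2, h3, h4⟩ := hh
    refine ⟨fun m => ?_, ?_, ?_, ?_⟩
    · rw [Prod.fst_mul, Prod.snd_mul, Units.val_mul, Equiv.Perm.mul_apply, mul_assoc, h1 m,
        ← mul_assoc, g1, mul_assoc]
    · rw [Prod.fst_mul, Units.val_mul, map_mul, g2, h2]
    · rw [Prod.fst_mul, Units.val_mul, reverse.map_mul]
      calc (g.1 : CliffordAlgebra (Qf n)) * h.1 * (reverse (h.1 : CliffordAlgebra (Qf n)) *
            reverse (g.1 : CliffordAlgebra (Qf n)))
          = g.1 * (h.1 * reverse (h.1 : CliffordAlgebra (Qf n))) *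
            reverse (g.1 : CliffordAlgebra (Qf n)) := by simp only [mul_assoc]
        _ = 1 := by rw [h3, mul_one, g3]
    · rw [Prod.snd_mul, Equiv.Perm.sign_mul, g4, h4, mul_one]
  | inv g _ hg =>
    obtain ⟨g1, g2, g3, g4⟩ := hg
    have hrev : reverse (g.1 : CliffordAlgebra (Qf n)) = ((g.1⁻¹ : (CliffordAlgebra (Qf n))ˣ) :
        CliffordAlgebra (Qf n)) := by
      have := congrArg (fun t => ((g.1⁻¹ : (CliffordAlgebra (Qf n))ˣ) : CliffordAlgebra (Qf n)) * t) g3
      simpa using this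
    refine ⟨fun m => ?_, ?_, ?_, ?_⟩
    · rw [Prod.fst_inv, Prod.snd_inv]
      have h5 := g1 ((g.2⁻¹ : Equiv.Perm (Fin n)) m)
      have h6 : g.2 ((g.2⁻¹ : Equiv.Perm (Fin n)) m) = m := by
        rw [← Equiv.Perm.mul_apply, mul_inv_cancel, Equiv.Perm.one_apply]
      rw [h6] at h5
      calc ((g.1⁻¹ : (CliffordAlgebra (Qf n))ˣ) : CliffordAlgebra (Qf n)) * e m
          = (g.1⁻¹ : (CliffordAlgebra (Qf n))ˣ) * (e m * g.1) *
              (g.1⁻¹ : (CliffordAlgebra (Qf n))ˣ) := by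
            rw [mul_assoc, mul_assoc, Units.mul_inv, mul_one]
        _ = e ((g.2⁻¹ : Equiv.Perm (Fin n)) m) * (g.1⁻¹ : (CliffordAlgebra (Qf n))ˣ) := by
            rw [← h5, ← mul_assoc, Units.inv_mul, one_mul]
    · rw [Prod.fst_inv]
      calc involute ((g.1⁻¹ : (CliffordAlgebra (Qf n))ˣ) : CliffordAlgebra (Qf n))
          = involute ((g.1⁻¹ : (CliffordAlgebra (Qf n))ˣ) : CliffordAlgebra (Qf n)) *
              (involute (g.1 : CliffordAlgebra (Qf n)) * (g.1⁻¹ : (CliffordAlgebra (Qf n))ˣ)) := by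
            rw [g2, Units.mul_inv, mul_one]
        _ = (g.1⁻¹ : (CliffordAlgebra (Qf n))ˣ) := by
            rw [← mul_assoc, ← map_mul, Units.inv_mul, map_one, one_mul]
    · rw [Prod.fst_inv, ← hrev, reverse_reverse, hrev, Units.inv_mul]
    · rw [Prod.snd_inv, Equiv.Perm.sign_inv, g4]

theorem sq_eq_one_zmod3 : ∀ c : ZMod 3, c * c = 1 → c = 1 ∨ c = -1 := by decide

/-- the kernel of the projection to the permutations is `{±1}` -/
theorem fst_of_snd_eq_one {g : (CliffordAlgebra (Qf n))ˣ × Equiv.Perm (Fin n)} (hg : g ∈ Gam n)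
    (h : g.2 = 1) : g.1 = 1 ∨ g.1 = -1 := by
  obtain ⟨g1, g2, g3, -⟩ := inv_of_mem hg
  have hc : ∀ m, e m * (g.1 : CliffordAlgebra (Qf n)) = (g.1 : CliffordAlgebra (Qf n)) * e m := by
    intro m
    rw [g1 m, h, Equiv.Perm.one_apply]
  obtain ⟨c, hc'⟩ := scalar_of_commute _ hc g2
  rw [hc', reverse.commutes, ← map_mul] at g3
  have h1 : c * c = 1 := algebraMap_inj (by rw [g3, map_one])
  rcases sq_eq_one_zmod3 c h1 with rfl | rfl
  · left
    apply Units.ext
    rw [hc', map_one, Units.val_one]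
  · right
    apply Units.ext
    rw [hc', map_neg, map_one, Units.val_neg, Units.val_one]

theorem a_mul_x {i j k l : Fin n} (hij : i ≠ j) (hkl : k ≠ l) (k' l' : Fin n) :
    a i j k l * x k' l' =
      x ((Equiv.swap i j * Equiv.swap k l) k') ((Equiv.swap i j * Equiv.swap k l) l') *
        a i j k l := by
  have h1 := a_mul_e hij hkl k'
  have h2 := a_mul_e hij hkl l'
  unfold x
  rw [mul_sub, h1, h2, sub_mul]

/-- the two basic generators anticommute -/
theorem a_anticomm {i0 i1 i2 i3 : Fin n} (h01 : i0 ≠ i1) (h02 : i0 ≠ i2) (h03 : i0 ≠ i3)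
    (h12 : i1 ≠ i2) (h13 : i1 ≠ i3) (h23 : i2 ≠ i3) :
    a i0 i1 i2 i3 * a i0 i2 i1 i3 = -(a i0 i2 i1 i3 * a i0 i1 i2 i3) := by
  have hs0 : (Equiv.swap i0 i1 * Equiv.swap i2 i3) i0 = i1 := by
    rw [Equiv.Perm.mul_apply, Equiv.swap_apply_of_ne_of_ne h02 h03, Equiv.swap_apply_left]
  have hs1 : (Equiv.swap i0 i1 * Equiv.swap i2 i3) i1 = i0 := by
    rw [Equiv.Perm.mul_apply, Equiv.swap_apply_of_ne_of_ne h12 h13, Equiv.swap_apply_right]
  have hs2 : (Equiv.swap i0 i1 * Equiv.swap i2 i3) i2 = i3 := by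
    rw [Equiv.Perm.mul_apply, Equiv.swap_apply_left,
      Equiv.swap_apply_of_ne_of_ne (Ne.symm h03) (Ne.symm h13)]
  have hs3 : (Equiv.swap i0 i1 * Equiv.swap i2 i3) i3 = i2 := by
    rw [Equiv.Perm.mul_apply, Equiv.swap_apply_right,
      Equiv.swap_apply_of_ne_of_ne (Ne.symm h02) (Ne.symm h12)]
  have hx : x i1 i3 * x i0 i2 = -(x i0 i2 * x i1 i3) := by
    rw [x_mul_x h13, Equiv.swap_apply_of_ne_of_ne h01 h03,
      Equiv.swap_apply_of_ne_of_ne (Ne.symm h12) h23]
  calc a i0 i1 i2 i3 * a i0 i2 i1 i3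
      = a i0 i1 i2 i3 * x i0 i2 * x i1 i3 := by
        conv_lhs => rw [show a i0 i2 i1 i3 = x i0 i2 * x i1 i3 from rfl]
        rw [mul_assoc]
    _ = x i1 i3 * x i0 i2 * a i0 i1 i2 i3 := by
        rw [a_mul_x h01 h23, hs0, hs2, mul_assoc, a_mul_x h01 h23, hs1, hs3, mul_assoc]
    _ = -(a i0 i2 i1 i3 * a i0 i1 i2 i3) := by
        rw [hx, neg_mul]
        rfl

end Cfsg.Agent.Lib.Helper2.SpinAlt
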