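/-
helper2: the double cover `Gam n` of the alternating group: central involution, kernel of the
projection, surjectivity, finiteness; final packaging `exists_double_cover`.
-/
import Mathlib
import Cfsg.Agent.Lib.Helper2.SpinAlt2

set_option autoImplicit false

namespace Cfsg.Agent.Lib.Helper2.SpinAlt

open CliffordAlgebra
open scoped commutatorElement

variable {n : ℕ}

/-- the projection onto the alternating group -/
noncomputable def toAlt (n : ℕ) : Gam n →* alternatingGroup (Fin n) where
  toFun g := ⟨g.1.2, Equiv.Perm.mem_alternatingGroup.mpr (inv_of_mem g.2).2.2.2⟩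
  map_one' := rfl
  map_mul' _ _ := rfl

theorem toAlt_apply (g : Gam n) : ((toAlt n g : alternatingGroup (Fin n)) : Equiv.Perm (Fin n)) = g.1.2 :=
  rfl

/-- products of an even number of transpositions are in the image -/
theorem exists_mem_of_swaps : ∀ (k : ℕ) (l : List (Equiv.Perm (Fin n))), l.length = 2 * k →
    (∀ g ∈ l, g.IsSwap) → ∃ g ∈ Gam n, g.2 = l.prod := by
  intro k
  induction k with
  | zero =>
    intro l hl _
    have : l = [] := List.length_eq_zero_iff.mp (by omega)
    subst this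
    exact ⟨1, one_mem _, rfl⟩
  | succ k ih =>
    intro l hl hsw
    match l, hl, hsw with
    | [], hl, _ => simp at hl
    | [_], hl, _ => simp at hl; omega
    | s :: t :: l', hl, hsw =>
      obtain ⟨i, j, hij, rfl⟩ := hsw s (by simp)
      obtain ⟨k', l'', hkl, rfl⟩ := hsw t (by simp)
      have hlen : l'.length = 2 * k := by
        simp only [List.length_cons] at hl
        omega
      obtain ⟨g, hg, hg2⟩ := ih l' hlen (fun g hg => hsw g (by simp [hg]))
      refine ⟨gen i j k' l'' hij hkl * g, mul_mem (gen_mem i j k' l'' hij hkl) hg, ?_⟩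
      rw [Prod.snd_mul, hg2, List.prod_cons, List.prod_cons, ← mul_assoc]
      rfl

theorem toAlt_surjective : Function.Surjective (toAlt n) := by
  intro τ
  obtain ⟨l, hl1, hl2⟩ := (Equiv.Perm.truncSwapFactors (τ : Equiv.Perm (Fin n))).out
  have hsign : Equiv.Perm.sign (τ : Equiv.Perm (Fin n)) = 1 :=
    Equiv.Perm.mem_alternatingGroup.mp τ.2
  rw [← hl1, Equiv.Perm.sign_prod_list_swap hl2] at hsign
  have heven : Even l.length := by
    rw [← neg_one_pow_eq_one_iff_even (R := ℤˣ) (by decide)]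
    exact hsign
  obtain ⟨k, hk⟩ := heven
  obtain ⟨g, hg, hg2⟩ := exists_mem_of_swaps k l (by omega) hl2
  refine ⟨⟨g, hg⟩, ?_⟩
  apply Subtype.ext
  rw [toAlt_apply]
  show g.2 = τ
  rw [hg2, hl1]

/-! ### The central involution -/

/-- first generator used for the commutator -/
noncomputable def g1 (hn : 4 ≤ n) : Gam n :=
  ⟨gen (⟨0, by omega⟩ : Fin n) ⟨1, by omega⟩ ⟨2, by omega⟩ ⟨3, by omega⟩
    (by intro h; simp [Fin.ext_iff] at h) (by intro h; simp [Fin.ext_iff] at h), gen_mem _ _ _ _ _ _⟩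

/-- second generator used for the commutator -/
noncomputable def g2 (hn : 4 ≤ n) : Gam n :=
  ⟨gen (⟨0, by omega⟩ : Fin n) ⟨2, by omega⟩ ⟨1, by omega⟩ ⟨3, by omega⟩
    (by intro h; simp [Fin.ext_iff] at h) (by intro h; simp [Fin.ext_iff] at h), gen_mem _ _ _ _ _ _⟩

/-- the central involution -/
noncomputable def zc (hn : 4 ≤ n) : Gam n := ⁅g1 hn, g2 hn⁆

theorem zc_fst (hn : 4 ≤ n) : (zc hn).1.1 = -1 := by
  have hanti := a_anticomm (n := n) (i0 := ⟨0, by omega⟩) (i1 := ⟨1, by omega⟩)
    (i2 := ⟨2, by omega⟩) (i3 := ⟨3, by omega⟩)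
    (by intro h; simp [Fin.ext_iff] at h) (by intro h; simp [Fin.ext_iff] at h)
    (by intro h; simp [Fin.ext_iff] at h) (by intro h; simp [Fin.ext_iff] at h)
    (by intro h; simp [Fin.ext_iff] at h) (by intro h; simp [Fin.ext_iff] at h)
  set u : (CliffordAlgebra (Qf n))ˣ := (g1 hn).1.1 with hu
  set v : (CliffordAlgebra (Qf n))ˣ := (g2 hn).1.1 with hv
  have huv : (u : CliffordAlgebra (Qf n)) * v = -((v : CliffordAlgebra (Qf n)) * u) := hanti
  have h1 : (zc hn).1.1 = u * v * u⁻¹ * v⁻¹ := rfl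
  rw [h1]
  apply Units.ext
  rw [Units.val_mul, Units.val_mul, Units.val_mul, huv, Units.val_neg, Units.val_one]
  rw [neg_mul, neg_mul, mul_assoc (v : CliffordAlgebra (Qf n)), Units.mul_inv, mul_one,
    Units.mul_inv]

theorem zc_snd (hn : 4 ≤ n) : (zc hn).1.2 = 1 := by
  obtain ⟨h1, -, -, -⟩ := inv_of_mem (zc hn).2
  apply Equiv.ext
  intro m
  have h2 := h1 m
  rw [zc_fst, Units.val_neg, Units.val_one, neg_mul, one_mul, mul_neg, mul_one, neg_inj] at h2
  rw [Equiv.Perm.one_apply]
  exact (e_injective h2).symm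

theorem zc_val (hn : 4 ≤ n) :
    ((zc hn : Gam n) : (CliffordAlgebra (Qf n))ˣ × Equiv.Perm (Fin n)) = (-1, 1) :=
  Prod.ext (zc_fst hn) (zc_snd hn)

theorem zc_mem_center (hn : 4 ≤ n) : zc hn ∈ Subgroup.center (Gam n) := by
  rw [Subgroup.mem_center_iff]
  intro g
  apply Subtype.ext
  rw [Subgroup.coe_mul, Subgroup.coe_mul, zc_val]
  apply Prod.ext
  · simp
  · simp

theorem neg_one_units_ne_one : (-1 : (CliffordAlgebra (Qf n))ˣ) ≠ 1 := by
  intro h
  have := congrArg Units.val h
  rw [Units.val_neg, Units.val_one] at this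
  exact neg_one_ne_one this

theorem zc_ne_one (hn : 4 ≤ n) : zc hn ≠ 1 := by
  intro h
  have h1 : (zc hn).1.1 = (1 : Gam n).1.1 := by rw [h]
  rw [zc_fst] at h1
  exact neg_one_units_ne_one h1

theorem zc_sq (hn : 4 ≤ n) : zc hn ^ 2 = 1 := by
  apply Subtype.ext
  rw [pow_two, Subgroup.coe_mul, zc_val]
  apply Prod.ext
  · simp
  · simp

theorem orderOf_zc (hn : 4 ≤ n) : orderOf (zc hn) = 2 :=
  orderOf_eq_prime (zc_sq hn) (zc_ne_one hn)

theorem zc_mem_commutator (hn : 4 ≤ n) : zc hn ∈ commutator (Gam n) := by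
  rw [commutator_def]
  exact Subgroup.commutator_mem_commutator (Subgroup.mem_top _) (Subgroup.mem_top _)

theorem ker_toAlt (hn : 4 ≤ n) : (toAlt n).ker = Subgroup.zpowers (zc hn) := by
  apply le_antisymm
  · intro g hg
    rw [MonoidHom.mem_ker] at hg
    have h2 : g.1.2 = 1 := by
      have := congrArg (fun t : alternatingGroup (Fin n) => (t : Equiv.Perm (Fin n))) hg
      simpa [toAlt_apply] using this
    rcases fst_of_snd_eq_one g.2 h2 with h1 | h1
    · have : g = 1 := by
        apply Subtype.ext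
        exact Prod.ext h1 h2
      rw [this]
      exact one_mem _
    · have : g = zc hn := by
        apply Subtype.ext
        rw [zc_val]
        exact Prod.ext h1 h2
      rw [this]
      exact Subgroup.mem_zpowers _
  · rw [Subgroup.zpowers_le, MonoidHom.mem_ker]
    apply Subtype.ext
    rw [toAlt_apply, zc_snd]
    rfl

theorem finite_Gam (hn : 4 ≤ n) : Finite (Gam n) := by
  have h1 : Finite ((Gam n) ⧸ (toAlt n).ker) :=
    Finite.of_equiv _ (QuotientGroup.quotientKerEquivOfSurjective _ toAlt_surjective).symm.toEquiv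
  have h2 : Finite (toAlt n).ker := by
    rw [ker_toAlt hn]
    have : IsOfFinOrder (zc hn) := by
      rw [← orderOf_pos_iff, orderOf_zc hn]
      norm_num
    exact Finite.of_equiv _ (finEquivZPowers this)
  exact Finite.of_equiv _ (Subgroup.groupEquivQuotientProdSubgroup (s := (toAlt n).ker)).symm

/-- **Existence of the double cover of the alternating group.** -/
theorem exists_double_cover (hn : 4 ≤ n) :
    ∃ (Γ : Type) (_ : Group Γ) (_ : Finite Γ) (z : Γ) (_ : z ∈ Subgroup.center Γ),
      orderOf z = 2 ∧ z ∈ commutator Γ ∧ ∃ _ : (Subgroup.zpowers z).Normal,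
        Nonempty (Γ ⧸ Subgroup.zpowers z ≃* alternatingGroup (Fin n)) := by
  have hN : (Subgroup.zpowers (zc hn)).Normal := by
    rw [← ker_toAlt hn]
    exact MonoidHom.normal_ker _
  refine ⟨Gam n, inferInstance, finite_Gam hn, zc hn, zc_mem_center hn, orderOf_zc hn,
    zc_mem_commutator hn, hN, ⟨?_⟩⟩
  exact (QuotientGroup.quotientMulEquivOfEq (ker_toAlt hn).symm).trans
    (QuotientGroup.quotientKerEquivOfSurjective _ toAlt_surjective)

end Cfsg.Agent.Lib.Helper2.SpinAlt
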