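/-
helper2: BT-DEGNEG (`deg_of_neg`) of the S0997 market (`notes/S0997_leaves.lean`, planner helper19; mathematics helper21 msg 8245 (1)).
`t = 2`, `ε = -1`, `Y = {ξ, ξ'}`: every `η ∈ X` of sign `-1` has degree `p - 1`.
(i) PHI-trick (`Helper6.BRHPHI.phi_pairing`): `⟨ξ conj ξ', η⟩ ≥ 1`;
(ii) `∑_{x ∈ P} ξ(x) conj ξ'(x) = p` (`pavg_core`: `(ξ + ξ')|_P = ρ_P + 1_P`, both contain `1_P` once; `P` is abelian, so its irreducible
characters are linear, `Cfsg.Agent.S0187.result`), and every irreducible constituent has a non-negative `P`-sum.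
-/
import Mathlib
import Cfsg.Prelude.Def_BlockRank
import Cfsg.Agent.Lib.Helper6.BRHDefs
import Cfsg.Agent.Lib.Helper6.BRHPHI
import Cfsg.Agent.Lib.Helper6.DefectOrder
import Cfsg.Agent.Lib.Helper24.BRCDefs
import Cfsg.Agent.Lib.Helper29.DOTI
import Cfsg.Agent.Lib.Lead.CharDecomp
import Cfsg.Agent.Lib.Lead.CharOrtho
import Cfsg.Agent.S0187

set_option autoImplicit false

namespace Cfsg.Agent.Lib.Helper2.BTDEGNEG

open Cfsg Cfsg.Agent.Lib.Helper8.DOM Cfsg.Agent.Lib.Helper27.DO Cfsg.Agent.CharLib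
open Cfsg.Agent.Lib.Helper6.BRH Cfsg.Agent.Lib.Helper24.BRC
open scoped ComplexConjugate

universe u

/-- two characters `α, α'` of an abelian group `A` with `α + α' = ρ_A + 1_A`, each containing `1_A` exactly once, have `⟨α, α'⟩ = 1`. -/
theorem pavg_core {A : Type u} [Group A] [Fintype A] (hcomm : ∀ a b : A, a * b = b * a)
    (α α' : A → ℂ) (hα : IsCharacter A α) (hα' : IsCharacter A α')
    (hsum : ∀ x : A, x ≠ 1 → α x + α' x = 1) (h1 : α 1 + α' 1 = (Nat.card A : ℂ) + 1)
    (hfix : ∑ x : A, α x = (Nat.card A : ℂ)) (hfix' : ∑ x : A, α' x = (Nat.card A : ℂ)) :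
    ∑ x : A, α x * conj (α' x) = (Nat.card A : ℂ) := by
  classical
  have : Finite A := Finite.of_fintype A
  let _ : Fintype (IrrCharacter A) := Fintype.ofFinite _
  have hcard0 : (Nat.card A : ℂ) ≠ 0 := card_ne_zero_complex
  obtain ⟨a, ha⟩ := IsCharacter.exists_decomp hα
  obtain ⟨b, hb⟩ := IsCharacter.exists_decomp hα'
  rw [finsum_eq_sum_of_fintype] at ha hb
  have hlin : ∀ μ : IrrCharacter A, (μ : A → ℂ) 1 = 1 := (Cfsg.Agent.S0187.result).mp hcomm
  have hns : ∀ (m : ℕ) (χ : A → ℂ), m • χ = (m : ℂ) • χ := fun m χ =>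
    (Nat.cast_smul_eq_nsmul ℂ m χ).symm
  -- inner products with the irreducible characters
  have hinn : ∀ (c : IrrCharacter A → ℕ) (φ : A → ℂ), φ = ∑ μ : IrrCharacter A, c μ • (μ : A → ℂ) →
      ∀ lam : IrrCharacter A, classInner φ (lam : A → ℂ) = (c lam : ℂ) := by
    intro c φ hφ lam
    rw [hφ, classInner_sum_left]
    rw [Finset.sum_eq_single lam]
    · rw [hns, classInner_smul_left, classInner_irr', if_pos rfl, mul_one]
    · intro μ _ hμ
      rw [hns, classInner_smul_left, classInner_irr', if_neg hμ, mul_zero]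
    · intro h
      exact absurd (Finset.mem_univ lam) h
  have hinA := hinn a α ha
  have hinB := hinn b α' hb
  -- the trivial character
  set τ : IrrCharacter A := trivIrr A with hτ
  have hτ1 : ∀ x : A, (τ : A → ℂ) x = 1 := fun x => rfl
  -- `α + α' = 1 + |A| δ_1`
  have hpt : ∀ x : A, α x + α' x = 1 + (if x = 1 then (Nat.card A : ℂ) else 0) := by
    intro x
    by_cases hx : x = 1
    · rw [if_pos hx, hx, h1]; ring
    · rw [if_neg hx, hsum x hx, add_zero]
  -- `⟨α + α', λ⟩ = 1 + [λ = τ]`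
  have hsumInner : ∀ lam : IrrCharacter A,
      (a lam : ℂ) + (b lam : ℂ) = 1 + (if τ = lam then 1 else 0) := by
    intro lam
    rw [← hinA lam, ← hinB lam, ← classInner_add_left, ← classInner_irr' τ lam]
    unfold classInner
    have h2 : ∑ g : A, (α + α') g * conj ((lam : A → ℂ) g) =
        ∑ g : A, (τ : A → ℂ) g * conj ((lam : A → ℂ) g) + (Nat.card A : ℂ) := by
      have h3 : ∀ g : A, (α + α') g * conj ((lam : A → ℂ) g) =
          (τ : A → ℂ) g * conj ((lam : A → ℂ) g) +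
            (if g = 1 then (Nat.card A : ℂ) * conj ((lam : A → ℂ) g) else 0) := by
        intro g
        rw [Pi.add_apply, hpt g, hτ1 g, add_mul]
        congr 1
        split_ifs <;> simp
      rw [Finset.sum_congr rfl (fun g _ => h3 g), Finset.sum_add_distrib, Finset.sum_ite_eq' Finset.univ (1 : A),
        if_pos (Finset.mem_univ _), hlin lam, map_one, mul_one]
    rw [h2, mul_add, inv_mul_cancel₀ hcard0, add_comm]
  have hnat : ∀ lam : IrrCharacter A, a lam + b lam = 1 + (if τ = lam then 1 else 0) := by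
    intro lam
    have := hsumInner lam
    split_ifs at this ⊢ with h
    · exact_mod_cast this
    · exact_mod_cast this
  -- multiplicity of the trivial character
  have htrivA : ∀ (φ : A → ℂ), ∑ x : A, φ x = (Nat.card A : ℂ) → classInner φ (τ : A → ℂ) = 1 := by
    intro φ hφ
    unfold classInner
    have : ∑ g : A, φ g * conj ((τ : A → ℂ) g) = ∑ g : A, φ g := by
      apply Finset.sum_congr rfl
      intro g _
      rw [hτ1 g, map_one, mul_one]
    rw [this, hφ, inv_mul_cancel₀ hcard0]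
  have haτ : a τ = 1 := by
    have := htrivA α hfix
    rw [hinA τ] at this
    exact_mod_cast this
  have hbτ : b τ = 1 := by
    have := htrivA α' hfix'
    rw [hinB τ] at this
    exact_mod_cast this
  -- `⟨α, α'⟩ = ∑ a b = 1`
  have hprod : classInner α α' = 1 := by
    conv_lhs => rw [hb]
    rw [classInner_sum_right]
    rw [Finset.sum_eq_single τ]
    · rw [hns, classInner_smul_right, hinA τ, haτ, hbτ]
      simp
    · intro μ _ hμ
      rw [hns, classInner_smul_right, hinA μ]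
      have := hnat μ
      rw [if_neg (Ne.symm hμ)] at this
      have h0 : a μ = 0 ∨ b μ = 0 := by omega
      rcases h0 with h0 | h0 <;> rw [h0] <;> simp
    · intro h
      exact absurd (Finset.mem_univ τ) h
  unfold classInner at hprod
  rw [inv_mul_eq_iff_eq_mul₀ hcard0, mul_one] at hprod
  exact hprod

variable {G : Type u} [Group G] [Finite G] {p : ℕ} [Fact p.Prime]
variable {X Y : Set (IrrCharacter G)} {v : IrrCharacter G → ℤ} {ε : ℤ}

/-- BT-DEGNEG -/
theorem deg_of_neg (P : Subgroup G) (hP : Nat.card P = p) (hSyl : ¬ p ∣ P.index) (bx : B0X p P X Y v ε) (hε : ε = -1)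
    (hf : 2 * fI P + 1 = p) (hdegY : ∀ ψ ∈ Y, charDegree (ψ : G → ℂ) + fI P = p)
    (heven : ∀ η ∈ X, η ≠ trivIrr G → 2 ∣ charDegree (η : G → ℂ))
    (hdX : ∀ η ∈ X, (charDegree (η : G → ℂ) : ℤ) ≡ v η [ZMOD p]) :
    ∀ η ∈ X, v η = -1 → charDegree (η : G → ℂ) = p - 1 := by
  classical
  let _ : Fintype G := Fintype.ofFinite G
  let _ : Fintype (IrrCharacter G) := Fintype.ofFinite _
  let _ : Fintype P := Fintype.ofFinite _
  have hpp : p.Prime := Fact.out
  set f := fI P with hfdef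
  have hf0 : 0 < f := by
    rcases Nat.eq_zero_or_pos f with h | h
    · exfalso
      rw [h] at hf
      have : p = 1 := by omega
      exact hpp.one_lt.ne' this
    · exact h
  have d := bx.b0
  -- `Y = {ξ, ξ'}`
  have hcY : Nat.card Y = 2 := by
    rw [d.cardY]
    have : p - 1 = 2 * f := by omega
    rw [this]
    exact Nat.mul_div_cancel _ hf0
  obtain ⟨ξ0, ξ0', hne0, hY0⟩ := Nat.card_eq_two_iff.mp hcY
  set ξ : IrrCharacter G := ξ0.1 with hξdef
  set ξ' : IrrCharacter G := ξ0'.1 with hξ'def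
  have hξY : ξ ∈ Y := ξ0.2
  have hξ'Y : ξ' ∈ Y := ξ0'.2
  have hne : ξ ≠ ξ' := fun h => hne0 (Subtype.ext h)
  have hYeq : ∀ ψ ∈ Y, ψ = ξ ∨ ψ = ξ' := by
    intro ψ hψ
    have : (⟨ψ, hψ⟩ : Y) ∈ ({ξ0, ξ0'} : Set Y) := by rw [hY0]; exact Set.mem_univ _
    rcases this with h | h
    · left; exact congrArg Subtype.val h
    · right; exact congrArg Subtype.val h
  -- sums over `Y`
  have hsumY2 : ∀ F : IrrCharacter G → ℂ, ∑ᶠ ψ ∈ Y, F ψ = F ξ + F ξ' := by
    intro F
    have hYset : Y = {ξ, ξ'} := by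
      ext ψ
      constructor
      · intro hψ
        rcases hYeq ψ hψ with h | h
        · left; exact h
        · right; exact h
      · rintro (h | h)
        · rw [h]; exact hξY
        · rw [Set.mem_singleton_iff] at h; rw [h]; exact hξ'Y
    rw [hYset]
    exact finsum_mem_pair hne
  -- elements of `P#` are `p`-singular
  have hsing : ∀ x : G, x ∈ P → x ≠ 1 → p ∣ orderOf x := by
    intro x hx hx1
    rw [Cfsg.Agent.Lib.Helper29.DOTI.orderOf_eq_of_mem P hP hx hx1]
  -- `ξ + ξ' = 1` on `P#`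
  have hsum1 : ∀ x : G, x ∈ P → x ≠ 1 → (ξ : G → ℂ) x + (ξ' : G → ℂ) x = 1 := by
    intro x hx hx1
    have := d.sumY x (hsing x hx hx1)
    rw [hsumY2 (fun ψ => (ψ : G → ℂ) x), hε] at this
    rw [this]
    push_cast
    ring
  -- degrees
  have hdeg : ∀ ψ ∈ Y, (ψ : G → ℂ) 1 = (f : ℂ) + 1 := by
    intro ψ hψ
    rw [apply_one_eq]
    have := hdegY ψ hψ
    have h2 : charDegree (ψ : G → ℂ) = f + 1 := by omega
    rw [h2]
    push_cast
    ring
  have hcardP : (Nat.card P : ℂ) = 2 * (f : ℂ) + 1 := by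
    rw [hP, ← hf]
    push_cast
    ring
  -- sums over `P` as sums over the subtype
  have hsub : ∀ F : G → ℂ, ∑ᶠ x ∈ (P : Set G), F x = ∑ x : P, F (x : G) := by
    intro F
    rw [finsum_mem_eq_finite_toFinset_sum _ (Set.toFinite _)]
    exact Finset.sum_subtype _ (by simp) F
  have hsub' : ∀ F : G → ℂ, ∑ᶠ x ∈ {x : G | x ∈ P ∧ x ≠ 1}, F x = ∑ x : P, F (x : G) - F 1 := by
    intro F
    have h1 : (P : Set G) = insert (1 : G) {x : G | x ∈ P ∧ x ≠ 1} := by
      ext x
      simp only [SetLike.mem_coe, Set.mem_insert_iff, Set.mem_setOf_eq]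
      constructor
      · intro hx
        by_cases h : x = 1
        · left; exact h
        · right; exact ⟨hx, h⟩
      · rintro (h | h)
        · rw [h]; exact P.one_mem
        · exact h.1
    have h2 : (1 : G) ∉ {x : G | x ∈ P ∧ x ≠ 1} := fun h => h.2 rfl
    have h3 := finsum_mem_insert F h2 (Set.toFinite _)
    rw [← h1, hsub] at h3
    rw [h3]
    ring
  have hfixY : ∀ ψ ∈ Y, ∑ x : P, (ψ : G → ℂ) (x : G) = (Nat.card P : ℂ) := by
    intro ψ hψ
    have := d.psumY ψ hψ
    rw [hsub', hε, hdeg ψ hψ] at this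
    rw [hcardP]
    have h4 : ∑ x : P, (ψ : G → ℂ) (x : G) = -(((-1 : ℤ) : ℂ)) * (f : ℂ) + ((f : ℂ) + 1) := by
      rw [← this]; ring
    rw [h4]
    push_cast
    ring
  -- the `P`-average of `ξ conj ξ'`
  have hcommP : ∀ a b : P, a * b = b * a := by
    have hcyc : IsCyclic P := isCyclic_of_prime_card hP
    intro a b
    exact hcyc.commGroup.mul_comm a b
  have hpavg : ∑ x : P, (ξ : G → ℂ) (x : G) * conj ((ξ' : G → ℂ) (x : G)) = (Nat.card P : ℂ) := by
    apply pavg_core hcommP (fun x : P => (ξ : G → ℂ) (x : G)) (fun x : P => (ξ' : G → ℂ) (x : G))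
      (IsCharacter.restrict (IsIrrCharacter.isCharacter ξ.2) P)
      (IsCharacter.restrict (IsIrrCharacter.isCharacter ξ'.2) P)
    · intro x hx
      exact hsum1 (x : G) x.2 (fun h => hx (Subtype.ext h))
    · show (ξ : G → ℂ) 1 + (ξ' : G → ℂ) 1 = _
      rw [hdeg ξ hξY, hdeg ξ' hξ'Y, hcardP]
      ring
    · exact hfixY ξ hξY
    · exact hfixY ξ' hξ'Y
  -- the sign of the trivial character
  have hvt : v (trivIrr G) = 1 := by
    have hnt : Nontrivial P := by
      rw [← Finite.one_lt_card_iff_nontrivial, hP]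
      exact hpp.one_lt
    obtain ⟨x, hx⟩ := exists_ne (1 : P)
    have hx1 : (x : G) ≠ 1 := fun h => hx (Subtype.ext h)
    have h1 := d.valX (trivIrr G) d.trivX (x : G) (hsing (x : G) x.2 hx1)
    have h2 : ((trivIrr G : IrrCharacter G) : G → ℂ) (x : G) = 1 := rfl
    rw [h2] at h1
    exact_mod_cast h1.symm
  -- the decompositions
  have hξc := IsIrrCharacter.isCharacter ξ.2
  have hξ'c := IsIrrCharacter.isCharacter ξ'.2
  obtain ⟨mA, hA⟩ := IsCharacter.exists_decomp (IsCharacter.mul hξc (IsCharacter.conj hξc))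
  obtain ⟨mL, hL⟩ := IsCharacter.exists_decomp (IsCharacter.mul hξc (IsCharacter.conj hξ'c))
  have hreg : ∀ g : G, ¬ p ∣ orderOf g → (ξ' : G → ℂ) g = (ξ : G → ℂ) g :=
    fun g hg => bx.regY ξ' hξ'Y ξ hξY g hg
  -- `P`-sums of the irreducible characters
  have key : ∀ ζ : IrrCharacter G, ∃ n : ℕ, ∑ x : P, (ζ : G → ℂ) (x : G) = (Nat.card P : ℂ) * (n : ℂ) :=
    fun ζ => Cfsg.Agent.Lib.Helper6.exists_sum_subgroup_eq (ζ : G → ℂ) (IsIrrCharacter.isCharacter ζ.2) P
  choose n hn using key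
  have hLsum : ∑ ζ : IrrCharacter G, mL ζ * n ζ = 1 := by
    rw [finsum_eq_sum_of_fintype] at hL
    have h1 : ∑ x : P, (ξ : G → ℂ) (x : G) * conj ((ξ' : G → ℂ) (x : G)) =
        ((Nat.card P * ∑ ζ : IrrCharacter G, mL ζ * n ζ : ℕ) : ℂ) := by
      have h2 : ∀ x : P, (ξ : G → ℂ) (x : G) * conj ((ξ' : G → ℂ) (x : G)) =
          ∑ ζ : IrrCharacter G, (mL ζ : ℂ) * (ζ : G → ℂ) (x : G) := by
        intro x
        have := congrFun hL (x : G)
        simp only [Finset.sum_apply, Pi.smul_apply, nsmul_eq_mul] at this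
        exact this
      rw [Finset.sum_congr rfl (fun x _ => h2 x), Finset.sum_comm]
      push_cast
      rw [Finset.mul_sum]
      apply Finset.sum_congr rfl
      intro ζ _
      rw [← Finset.mul_sum, hn ζ]
      ring
    rw [hpavg] at h1
    have h3 : Nat.card P = Nat.card P * ∑ ζ : IrrCharacter G, mL ζ * n ζ := by exact_mod_cast h1
    have h4 : 0 < Nat.card P := Nat.card_pos
    have h5 : Nat.card P * 1 = Nat.card P * ∑ ζ : IrrCharacter G, mL ζ * n ζ := by rw [mul_one]; exact h3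
    exact (Nat.eq_of_mul_eq_mul_left h4 h5).symm
  -- the main step
  intro η hη hv
  have hηne : η ≠ trivIrr G := by
    intro h
    rw [h, hvt] at hv
    norm_num at hv
  have hmL : 1 ≤ mL η := by
    have h1 := Cfsg.Agent.Lib.Helper6.BRHPHI.phi_pairing (p := p) ξ ξ' hne hreg mA mL hA hL {η} (v η) (by
      intro g hg
      rw [finsum_mem_singleton]
      exact d.valX η hη g hg)
    rw [finsum_mem_singleton, hv] at h1
    have h2 : (0 : ℤ) ≤ (mA η : ℤ) := Int.natCast_nonneg _
    omega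
  -- `n η ≤ 1`
  have hnη : mL η * n η ≤ 1 := by
    rw [← hLsum]
    exact Finset.single_le_sum (f := fun ζ => mL ζ * n ζ) (fun _ _ => Nat.zero_le _) (Finset.mem_univ η)
  have hn1 : n η ≤ 1 := by
    calc n η = 1 * n η := (one_mul _).symm
      _ ≤ mL η * n η := Nat.mul_le_mul_right _ hmL
      _ ≤ 1 := hnη
  -- the `P`-sum of `η` is `η(1) - (p - 1)`
  have hηsum : ∑ x : P, (η : G → ℂ) (x : G) = (charDegree (η : G → ℂ) : ℂ) - ((p : ℂ) - 1) := by
    have h1 : ∑ᶠ x ∈ {x : G | x ∈ P ∧ x ≠ 1}, (η : G → ℂ) x = ∑ᶠ x ∈ {x : G | x ∈ P ∧ x ≠ 1}, (-1 : ℂ) := by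
      apply finsum_mem_congr rfl
      intro x hx
      rw [d.valX η hη x (hsing x hx.1 hx.2), hv]
      push_cast
      ring
    rw [hsub', hsub'] at h1
    have h2 : ∑ x : P, (-1 : ℂ) = -(p : ℂ) := by
      rw [Finset.sum_const, Finset.card_univ, ← Nat.card_eq_fintype_card, hP]
      simp
    rw [h2, apply_one_eq] at h1
    have h3 : ∑ x : P, (η : G → ℂ) (x : G) = (charDegree (η : G → ℂ) : ℂ) + (-(p : ℂ) - (-1)) := by
      rw [← h1]; ring
    rw [h3]; ring
  have hle : charDegree (η : G → ℂ) + 1 ≤ 2 * p := by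
    have h1 := hn η
    rw [hηsum, hP] at h1
    have h2 : (charDegree (η : G → ℂ) : ℂ) + 1 = ((p + p * n η : ℕ) : ℂ) := by
      push_cast
      rw [← h1]; ring
    have h3 : charDegree (η : G → ℂ) + 1 = p + p * n η := by exact_mod_cast h2
    rw [h3]
    nlinarith [hn1]
  -- congruence and parity
  have hcong := hdX η hη
  rw [hv] at hcong
  have hpos := charDegree_pos η
  have h2dvd := heven η hη hηne
  have hdvd : (p : ℤ) ∣ (charDegree (η : G → ℂ) : ℤ) + 1 := by
    have := hcong.symm.dvd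
    simpa using this
  obtain ⟨k, hk⟩ := hdvd
  have hp2 : 2 ≤ p := hpp.two_le
  have hk1 : k = 1 ∨ k = 2 := by
    have h1 : (0 : ℤ) < (p : ℤ) * k := by rw [← hk]; positivity
    have h2 : (p : ℤ) * k ≤ 2 * p := by rw [← hk]; exact_mod_cast hle
    have h3 : 0 < k := by
      by_contra h
      push_neg at h
      have : (p : ℤ) * k ≤ 0 := mul_nonpos_of_nonneg_of_nonpos (by positivity) h
      omega
    have h4 : k ≤ 2 := by
      by_contra h
      push_neg at h
      have : (p : ℤ) * 3 ≤ (p : ℤ) * k := mul_le_mul_of_nonneg_left (by omega) (by positivity)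
      have hp0 : (0 : ℤ) < p := by exact_mod_cast hpp.pos
      omega
    omega
  rcases hk1 with h | h
  · rw [h, mul_one] at hk
    omega
  · exfalso
    rw [h] at hk
    obtain ⟨c, hc⟩ := h2dvd
    rw [hc] at hk
    push_cast at hk
    omega

end Cfsg.Agent.Lib.Helper2.BTDEGNEG
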