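/-
helper2: BRW-ARITHM1 (`arith_minus_eq`) of helper27's S4700/S0996 wrapper market, part S v2 (notes/S4700_S_leaves.lean):
helper19's BRW-ARITHM computation without `f < p - 1` (here `f = p - 1`); the case `q = 1` is the second alternative.
-/
import Mathlib
import Cfsg.Agent.Lib.Helper27.BRWDefs

set_option autoImplicit false

namespace Cfsg.Agent.Lib.Helper2.BRWARITHM1

open Cfsg.Agent.Lib.Helper27.BRW

variable {p : ℕ} [Fact p.Prime]

/-- ARITHM1 : `D = u'p-1 ∣ (p-1)(1+np)`, `u' ≥ 2`. -/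
theorem arith_minus_eq (n u' : ℕ) (hn : 1 ≤ n) (hu : 2 ≤ u')
    (hdvd : (u' * p - 1) ∣ (p - 1) * (1 + n * p)) :
    Alt p n ∨ u' * p - 1 = (p - 1) * (1 + n * p) := by
  have hpp : p.Prime := Fact.out
  have hp2 : 2 ≤ p := hpp.two_le
  have hp0 : 0 < p := hpp.pos
  obtain ⟨w, rfl⟩ : ∃ w, u' = w + 1 := ⟨u' - 1, by omega⟩
  have hw : 1 ≤ w := by omega
  obtain ⟨P1, hP1⟩ : ∃ P1, p = P1 + 1 := ⟨p - 1, by omega⟩
  have hP1' : p - 1 = P1 := by omega
  rw [hP1'] at hdvd ⊢
  -- `D = w p + (p-1)`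
  obtain ⟨D, hD⟩ : ∃ D, (w + 1) * p - 1 = D := ⟨_, rfl⟩
  have hD1 : D = w * p + P1 := by
    rw [← hD]
    have : (w + 1) * p = w * p + P1 + 1 := by rw [add_mul, one_mul]; omega
    omega
  rw [hD] at hdvd ⊢
  have h1 : D ∣ P1 * (1 + n * p) := hdvd
  have h2 : D ∣ p * (w * (1 + n * p)) := by
    have h3 : D ∣ P1 * (1 + n * p) + p * (w * (1 + n * p)) := by
      have : P1 * (1 + n * p) + p * (w * (1 + n * p)) = D * (1 + n * p) := by rw [hD1]; ring
      rw [this]; exact dvd_mul_right _ _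
    exact (Nat.dvd_add_right h1).mp h3
  have hcop : Nat.Coprime D p := by
    rw [Nat.coprime_comm, Nat.Prime.coprime_iff_not_dvd hpp]
    intro hpd
    have h4 : p ∣ D + 1 := by
      have : D + 1 = (w + 1) * p := by rw [hD1, add_mul, one_mul]; omega
      rw [this]; exact dvd_mul_left _ _
    have h5 : p ∣ 1 := (Nat.dvd_add_right hpd).mp h4
    have := Nat.le_of_dvd one_pos h5
    omega
  have h6 : D ∣ w * (1 + n * p) := hcop.dvd_of_dvd_mul_left h2
  obtain ⟨c, hc⟩ := h6
  have hDp : D + 1 = (w + 1) * p := by rw [hD1, add_mul, one_mul]; omega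
  -- `p ∣ c + w`
  have h7 : c + w + p * (w * n) = p * ((w + 1) * c) := by
    have : D * c + c = p * ((w + 1) * c) := by
      have : (D + 1) * c = p * ((w + 1) * c) := by rw [hDp]; ring
      rw [← this]; ring
    rw [← this, ← hc]; ring
  have h8 : p ∣ c + w := by
    have h9 : p ∣ c + w + p * (w * n) := h7 ▸ dvd_mul_right _ _
    exact (Nat.dvd_add_left (dvd_mul_right p _)).mp h9
  obtain ⟨j, hj⟩ := h8
  have hjpos : 0 < j := by
    rcases Nat.eq_zero_or_pos j with h | h
    · rw [h] at hj; omega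
    · exact h
  -- `w (n + w + 1) = D j`
  have h10 : w * (n + w + 1) = D * j := by
    have h11 : p * (w * (n + w + 1)) = p * (D * j) := by
      have e1 : D * (c + w) = D * (p * j) := by rw [hj]
      have e2 : D * (c + w) = w * (1 + n * p) + D * w := by rw [mul_add, ← hc]
      have e3 : w * (1 + n * p) + D * w = p * (w * (n + w + 1)) := by
        have : w * (1 + n * p) + D * w = w * ((D + 1) + n * p) := by ring
        rw [this, hDp]; ring
      rw [← e3, ← e2, e1]; ring
    exact Nat.eq_of_mul_eq_mul_left hp0 h11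
  -- `w ∣ j (p-1)`
  have h12 : w ∣ j * P1 := by
    have h13 : w ∣ D * j := h10 ▸ dvd_mul_right _ _
    have h14 : D * j = w * (p * j) + j * P1 := by rw [hD1]; ring
    rw [h14] at h13
    exact (Nat.dvd_add_right (dvd_mul_right w _)).mp h13
  obtain ⟨q, hq⟩ := h12
  have h15 : n + w + 1 = j * p + q := by
    have h16 : w * (n + w + 1) = w * (j * p + q) := by
      rw [h10, hD1, mul_add w, ← hq]; ring
    exact Nat.eq_of_mul_eq_mul_left hw h16
  have hP1pos : 0 < P1 := by omega
  have hqpos : 0 < q := by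
    rcases Nat.eq_zero_or_pos q with h | h
    · rw [h, mul_zero] at hq
      have := Nat.mul_pos hjpos hP1pos
      omega
    · exact h
  by_cases hq1 : q = 1
  · right
    rw [hq1, mul_one] at hq
    -- `w = j (p-1)`, `n = j`
    have hnj : n = j := by
      have : j * p = j * P1 + j := by rw [hP1]; ring
      omega
    rw [hD1, ← hq, hnj]; ring
  · left
    obtain ⟨r, hr⟩ : ∃ r, q = r + 1 := ⟨q - 1, by omega⟩
    have hrpos : 0 < r := by omega
    refine ⟨j, r, hjpos, hrpos, ?_⟩
    rw [hr] at hq h15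
    have e1 : n + w = j * p + r := by omega
    have e2 : w * (r + 1) + j = j * p := by rw [← hq, hP1]; ring
    have e3 : n * (r + 1) + w * (r + 1) = (j * p + r) * (r + 1) := by rw [← e1]; ring
    have e4 : (j * p + r) * (r + 1) = j * r * p + j * p + r ^ 2 + r := by ring
    rw [e4, ← e2] at e3
    have : n * (r + 1) + w * (r + 1) = (j * r * p + r ^ 2 + r + j) + w * (r + 1) := by
      rw [e3]; ring
    omega

end Cfsg.Agent.Lib.Helper2.BRWARITHM1
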