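/-
helper2: S0999 + S4701 / S4700 + S0996 (BR core, planner helper24; seam S5 of helper27's notes/S4700_S_leaves.lean):
STEP E (`f = 2`) assembled from the landed leaves EXINV, CENTLE, INVGE, INVOL, SUMDEG, VALY0, SUMZ, EXP2, REC,
in `_of` form over the outputs `LinData`, `StepA`, `StepC` of the first three layers.
-/
import Mathlib
import Cfsg.Prelude.Def_BlockRank
import Cfsg.Prelude.Def_Perm
import Cfsg.Agent.Lib.Helper24.BRCDefs
import Cfsg.Agent.Lib.Helper4.BRCEXINV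
import Cfsg.Agent.Lib.Helper4.BRCEXP2
import Cfsg.Agent.Lib.Helper5.BRCINVGE
import Cfsg.Agent.Lib.Helper5.BRCINVOL
import Cfsg.Agent.Lib.Helper7.BRCSUMDEG
import Cfsg.Agent.Lib.Helper17.BRCREC
import Cfsg.Agent.Lib.Helper2.BRCCENTLE
import Cfsg.Agent.Lib.Helper2.BRCVALY0
import Cfsg.Agent.Lib.Helper2.BRCSUMZ

set_option autoImplicit false

namespace Cfsg.Agent.Lib.Helper2.BRCStepE

open Cfsg Cfsg.Agent.Lib.Helper8.DOM Cfsg.Agent.Lib.Helper27.DO Cfsg.Agent.CharLib
open Cfsg.Agent.Lib.Helper6.BRH Cfsg.Agent.Lib.Helper24.BRC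
open scoped ComplexConjugate

universe u

variable {G : Type u} [Group G] [Finite G] {p : ℕ} [Fact p.Prime]

variable {P : Subgroup G} {n w : ℕ} {X Y : Set (IrrCharacter G)} {v : IrrCharacter G → ℤ} {ε : ℤ}

/-- the order of `G` in the special case: `|G| = p f (1 + n p)` -/
theorem card_eq_of_special (hS : Special p P n w X Y v ε) :
    Nat.card G = p * (fI P * (1 + n * p)) := by
  have hle : Cz P ≤ Nz P := Subgroup.centralizer_le_normalizer _
  have h1 : (Cz P).relIndex (Nz P) * (Nz P).index = (Cz P).index := Subgroup.relIndex_mul_index hle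
  have h2 : Nat.card (Cz P) * (Cz P).index = Nat.card G := Subgroup.card_mul_index _
  have h3 : Nat.card (Cz P) = p := by rw [hS.hC, hS.hP]
  rw [← h2, ← h1, h3, hS.hidx]

/-- S5 : Step E (`f = 2`), over the outputs of layers 0, 1, 2. -/
theorem stepE_of (hS : Special p P n w X Y v ε) (hL : LinData P) (hA : StepA p P n w X Y v ε)
    (hC2 : StepC p P n w X Y v ε) (hε : ε = -1) (hw : w = 1) (hnt : n + 1 = tI p P) (hf : fI P = 2) :
    ∃ (m : ℕ) (F : Type) (_ : Field F) (_ : Fintype F), Fintype.card F = 2 ^ m ∧ p = 2 ^ m + 1 ∧ 3 < p ∧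
      Nonempty (G ≃* Matrix.SpecialLinearGroup (Fin 2) F) := by
  classical
  let _ := fintypeIrr G
  have hpp : p.Prime := Fact.out
  have hn1 : 1 ≤ n := hS.hn
  -- arithmetic: `p = 2 n + 3`
  have hpn : p = 2 * n + 3 := by
    have hdvd : fI P ∣ p - 1 := hS.bx.b0.dvd
    rw [hf] at hdvd
    obtain ⟨k, hk⟩ := hdvd
    have ht : tI p P = k := by
      show (p - 1) / fI P = k
      rw [hf, hk, Nat.mul_div_cancel_left _ (by omega)]
    have := hpp.two_le
    omega
  have hp3 : 3 < p := by omega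
  have hp1 : p - 1 = 2 * n + 2 := by omega
  have hp2 : p - 2 = 2 * n + 1 := by omega
  -- the order of `G`
  have hcard : Nat.card G = p * (p - 1) * (p - 2) := by
    rw [card_eq_of_special hS, hf, hp1, hp2, hpn]
    ring
  have hcard' : Nat.card G = (2 * n + 3) * (2 * n + 2) * (2 * n + 1) := by
    rw [hcard, hp1, hp2, hpn]
  -- the involution `y0`
  obtain ⟨y0, hyN, hyP, hy2⟩ := Cfsg.Agent.Lib.Helper4.BRCEXINV.exists_invol hS ⟨1, by rw [hf]⟩
  -- `|C(y0)| ≤ p - 1`
  have hCle : Nat.card (Subgroup.centralizer ({y0} : Set G)) ≤ 2 * n + 2 := by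
    have := Cfsg.Agent.Lib.Helper2.BRCCENTLE.card_centralizer_le hL hA y0 hyN hyP
    rw [hf] at this
    omega
  -- involutions
  set I : ℕ := Nat.card {g : G // orderOf g = 2} with hI
  have hGle : Nat.card G ≤ I * Nat.card (Subgroup.centralizer ({y0} : Set G)) :=
    Cfsg.Agent.Lib.Helper5.BRCINVGE.card_le_invol_mul y0 hy2
  have hIle : 1 + I ≤ ∑ᶠ χ : IrrCharacter G, charDegree (χ : G → ℂ) :=
    Cfsg.Agent.Lib.Helper5.BRCINVOL.one_add_card_invol_le
  -- `r = 0`, `s = 1`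
  have hr : Nat.card (typeA X v) = 0 := by
    have h1 := hC2.cardLin
    rw [hw, hf] at h1
    have h2 : Nat.card (typeA X v) * (n + 1) = 0 := by omega
    rcases Nat.mul_eq_zero.mp h2 with h | h
    · exact h
    · omega
  have hs : Nat.card (typeB X v) = 1 := by
    have h1 := hC2.cardX
    rw [hr, hf] at h1
    omega
  -- the sums over the characters outside `B_0`
  have hfinO : ((X ∪ Y)ᶜ : Set (IrrCharacter G)).Finite := Set.toFinite _
  set Zs : ℕ := ∑ᶠ χ ∈ ((X ∪ Y)ᶜ : Set (IrrCharacter G)), (aP P χ) ^ 2 with hZs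
  set Za : ℕ := ∑ᶠ χ ∈ ((X ∪ Y)ᶜ : Set (IrrCharacter G)), aP P χ with hZa
  have hZsn : Zs = n := by
    have h1 := Cfsg.Agent.Lib.Helper7.BRCSUMDEG.sum_out_sq hS hA
    rw [hr, hw, hf, ← hnt] at h1
    omega
  have hZale : Za ≤ Zs := by
    rw [hZa, hZs, finsum_mem_eq_finite_toFinset_sum _ hfinO, finsum_mem_eq_finite_toFinset_sum _ hfinO]
    apply Finset.sum_le_sum
    intro χ _
    exact Nat.le_self_pow (by norm_num) _
  -- the sum of the degrees
  have hsumY : ∑ᶠ ψ ∈ Y, charDegree (ψ : G → ℂ) = (n + 1) * (2 * n + 1) := by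
    have hfinY : Y.Finite := Set.toFinite _
    have hdegY : ∀ ψ ∈ Y, charDegree (ψ : G → ℂ) = 2 * n + 1 := by
      intro ψ hψ
      have h1 := hS.hw ψ hψ
      have hf' : (Cz P).relIndex (Nz P) = 2 := hf
      rw [hw, hε, hf', hpn] at h1
      push_cast at h1
      have h2 : (charDegree (ψ : G → ℂ) : ℤ) = ((2 * n + 1 : ℕ) : ℤ) := by
        rw [h1]; push_cast; ring
      exact_mod_cast h2
    rw [finsum_mem_eq_finite_toFinset_sum _ hfinY,
      Finset.sum_congr rfl (fun ψ hψ => hdegY ψ ((Set.Finite.mem_toFinset hfinY).mp hψ)),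
      Finset.sum_const, smul_eq_mul]
    congr 1
    rw [← Set.ncard_eq_toFinset_card Y hfinY, ← Nat.card_coe_set_eq, hS.bx.b0.cardY]
    exact hnt.symm
  have hsumdeg : ∑ᶠ χ : IrrCharacter G, charDegree (χ : G → ℂ) =
      1 + (2 * n + 2) + (n + 1) * (2 * n + 1) + (2 * n + 3) * Za := by
    have h1 := Cfsg.Agent.Lib.Helper7.BRCSUMDEG.sum_degree hS hA
    rw [hr, hs, hsumY, ← hZa, hp1] at h1
    rw [h1, hpn]
    ring
  -- the chain of inequalities is a chain of equalities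
  have hI1 : (2 * n + 3) * (2 * n + 1) ≤ I := by
    have h1 : Nat.card G ≤ I * (2 * n + 2) := hGle.trans (Nat.mul_le_mul_left _ hCle)
    rw [hcard'] at h1
    have h2 : (2 * n + 3) * (2 * n + 1) * (2 * n + 2) ≤ I * (2 * n + 2) := by
      calc (2 * n + 3) * (2 * n + 1) * (2 * n + 2) = (2 * n + 3) * (2 * n + 2) * (2 * n + 1) := by ring
        _ ≤ I * (2 * n + 2) := h1
    exact Nat.le_of_mul_le_mul_right h2 (by omega)
  have hI2 : 1 + I ≤ 1 + (2 * n + 2) + (n + 1) * (2 * n + 1) + (2 * n + 3) * n := by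
    rw [hsumdeg] at hIle
    have : (2 * n + 3) * Za ≤ (2 * n + 3) * n := Nat.mul_le_mul_left _ (hZale.trans hZsn.le)
    omega
  have hIeq : I = (2 * n + 3) * (2 * n + 1) := by
    have : 1 + (2 * n + 2) + (n + 1) * (2 * n + 1) + (2 * n + 3) * n = 1 + (2 * n + 3) * (2 * n + 1) := by
      ring
    omega
  have hZan : Za = n := by
    have h1 : 1 + I ≤ 1 + (2 * n + 2) + (n + 1) * (2 * n + 1) + (2 * n + 3) * Za := by
      rw [← hsumdeg]; exact hIle
    have h2 : (2 * n + 3) * n ≤ (2 * n + 3) * Za := by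
      have : 1 + (2 * n + 2) + (n + 1) * (2 * n + 1) + (2 * n + 3) * n =
          1 + (2 * n + 3) * (2 * n + 1) := by ring
      omega
    have h3 : n ≤ Za := Nat.le_of_mul_le_mul_left h2 (by omega)
    omega
  have hsumeq : 1 + I = ∑ᶠ χ : IrrCharacter G, charDegree (χ : G → ℂ) := by
    rw [hsumdeg, hZan, hIeq]
    ring
  have hcent : Nat.card (Subgroup.centralizer ({y0} : Set G)) = p - 1 := by
    rw [hp1]
    refine le_antisymm hCle ?_
    rw [hcard', hIeq] at hGle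
    have h2 : (2 * n + 3) * (2 * n + 1) * (2 * n + 2) ≤
        (2 * n + 3) * (2 * n + 1) * Nat.card (Subgroup.centralizer ({y0} : Set G)) := by
      calc (2 * n + 3) * (2 * n + 1) * (2 * n + 2) = (2 * n + 3) * (2 * n + 2) * (2 * n + 1) := by ring
        _ ≤ _ := hGle
    exact Nat.le_of_mul_le_mul_left h2 (Nat.mul_pos (by omega) (by omega))
  have hGeq : Nat.card G = I * Nat.card (Subgroup.centralizer ({y0} : Set G)) := by
    rw [hcent, hp1, hIeq, hcard']
    ring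
  -- `aP = 1` outside `B_0`, and there are `n` such characters
  have hout1 : ∀ χ : IrrCharacter G, χ ∉ X ∪ Y → aP P χ = 1 := by
    have h1 : ∑ χ ∈ hfinO.toFinset, ((aP P χ) ^ 2 - aP P χ) = 0 := by
      have h2 : ∑ χ ∈ hfinO.toFinset, aP P χ + ∑ χ ∈ hfinO.toFinset, ((aP P χ) ^ 2 - aP P χ) =
          ∑ χ ∈ hfinO.toFinset, (aP P χ) ^ 2 := by
        rw [← Finset.sum_add_distrib]
        apply Finset.sum_congr rfl
        intro χ _
        have : aP P χ ≤ (aP P χ) ^ 2 := Nat.le_self_pow (by norm_num) _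
        omega
      have h3 : ∑ χ ∈ hfinO.toFinset, aP P χ = n := by
        rw [← finsum_mem_eq_finite_toFinset_sum _ hfinO]; exact hZan
      have h4 : ∑ χ ∈ hfinO.toFinset, (aP P χ) ^ 2 = n := by
        rw [← finsum_mem_eq_finite_toFinset_sum _ hfinO]; exact hZsn
      omega
    intro χ hχ
    have h2 := (Finset.sum_eq_zero_iff.mp h1) χ ((Set.Finite.mem_toFinset hfinO).mpr hχ)
    have h3 : 0 < aP P χ := by
      have h4 := hA.aP_out χ hχ
      have h5 := charDegree_pos χ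
      rcases Nat.eq_zero_or_pos (aP P χ) with h | h
      · rw [h, mul_zero] at h4; omega
      · exact h
    have h6 : (aP P χ) ^ 2 ≤ aP P χ := by omega
    have h7 : aP P χ * aP P χ ≤ aP P χ * 1 := by rw [mul_one, ← sq]; exact h6
    have h8 := Nat.le_of_mul_le_mul_left h7 h3
    omega
  have hcout : Nat.card ((X ∪ Y)ᶜ : Set (IrrCharacter G)) = n := by
    have h4 : ∑ χ ∈ hfinO.toFinset, (aP P χ) ^ 2 = n := by
      rw [← finsum_mem_eq_finite_toFinset_sum _ hfinO]; exact hZsn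
    rw [Finset.sum_congr rfl (fun χ hχ => by
      rw [hout1 χ ((Set.Finite.mem_toFinset hfinO).mp hχ)]), Finset.sum_const, smul_eq_mul] at h4
    rw [Nat.card_coe_set_eq, Set.ncard_eq_toFinset_card _ hfinO]
    simpa using h4
  -- the values at `y0`
  obtain ⟨hvB, hvY, hvO, hsum0⟩ := Cfsg.Agent.Lib.Helper2.BRCVALY0.val_y0 hS hL hA hC2 hε hw hnt hf
    y0 hyN hyP hout1 hcout
  have hsqrt := Cfsg.Agent.Lib.Helper5.BRCINVOL.card_sqrt_of_invol_eq hsumeq
  have hconj := Cfsg.Agent.Lib.Helper5.BRCINVGE.isConj_of_card_eq y0 hy2 hGeq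
  have hsumz : ∀ z : G, ¬ p ∣ orderOf z → z ≠ 1 → z ^ 2 ≠ 1 →
      ∑ᶠ χ : IrrCharacter G, (χ : G → ℂ) z = 1 := fun z hzp hz1 hz2 =>
    Cfsg.Agent.Lib.Helper2.BRCSUMZ.sum_z hS hL hA hC2 hε hw hnt hf y0 hy2 hvB hvY hvO hout1 z hzp hz1 hz2
  have hexp := Cfsg.Agent.Lib.Helper4.BRCEXP2.exp_two y0 hy2 hsqrt hconj hcent hsum0 hsumz
  exact Cfsg.Agent.Lib.Helper17.BRCREC.rec_sl2 hp3 hcard hS.core y0 hy2 hconj hcent hexp

end Cfsg.Agent.Lib.Helper2.BRCStepE
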