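/-
helper2: S0999 + S4701 / S4700 + S0996 (BR core, planner helper24; seam S4 of helper27's notes/S4700_S_leaves.lean):
STEP D (`ε = -1`, `w = 1`, `n + 1 = t` ⇒ `t = 2 ∨ f = 2`) assembled from the landed leaves EVENF, EXINV, CENTLE, INVGE, INVOL,
SUMDEG, ARITHD, in `_of` form over the outputs `LinData`, `StepA`, `StepC` of the first three layers.
-/
import Mathlib
import Cfsg.Prelude.Def_BlockRank
import Cfsg.Prelude.Def_Perm
import Cfsg.Agent.Lib.Helper24.BRCDefs
import Cfsg.Agent.Lib.Helper4.BRCEXINV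
import Cfsg.Agent.Lib.Helper5.BRCINVGE
import Cfsg.Agent.Lib.Helper5.BRCINVOL
import Cfsg.Agent.Lib.Helper7.BRCSUMDEG
import Cfsg.Agent.Lib.Helper16.BRCARITHD
import Cfsg.Agent.Lib.Helper2.BRCCENTLE
import Cfsg.Agent.Lib.Helper2.BRCEVENF
import Cfsg.Agent.Lib.Helper2.BRCStepE

set_option autoImplicit false

namespace Cfsg.Agent.Lib.Helper2.BRCStepD

open Cfsg Cfsg.Agent.Lib.Helper8.DOM Cfsg.Agent.Lib.Helper27.DO Cfsg.Agent.CharLib
open Cfsg.Agent.Lib.Helper6.BRH Cfsg.Agent.Lib.Helper24.BRC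
open scoped ComplexConjugate

universe u

variable {G : Type u} [Group G] [Finite G] {p : ℕ} [Fact p.Prime]

variable {P : Subgroup G} {n w : ℕ} {X Y : Set (IrrCharacter G)} {v : IrrCharacter G → ℤ} {ε : ℤ}

/-- S4 : Step D, over the outputs of layers 0, 1, 2. -/
theorem stepD_of (hS : Special p P n w X Y v ε) (hL : LinData P) (hA : StepA p P n w X Y v ε)
    (hC2 : StepC p P n w X Y v ε) (hft : fI P < p - 1) (hε : ε = -1) (hw : w = 1)
    (hnt : n + 1 = tI p P) : tI p P = 2 ∨ fI P = 2 := by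
  classical
  let _ := fintypeIrr G
  have hpp : p.Prime := Fact.out
  set f : ℕ := fI P with hfdef
  set t : ℕ := tI p P with htdef
  have hf2 : 2 ≤ f := hS.hf2
  -- `p = 1 + t f`, `2 ≤ t`
  have hpt : p - 1 = f * t := by
    have hdvd : fI P ∣ p - 1 := hS.bx.b0.dvd
    obtain ⟨k, hk⟩ := hdvd
    have ht : tI p P = k := by
      show (p - 1) / fI P = k
      rw [hk, Nat.mul_div_cancel_left _ (by omega)]
    rw [htdef, ht, hfdef, hk]
  have hp : p = 1 + t * f := by
    have := hpp.two_le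
    rw [mul_comm]
    omega
  have ht2 : 2 ≤ t := by
    by_contra hlt
    have ht1 : t ≤ 1 := by omega
    have : f * t ≤ f * 1 := Nat.mul_le_mul_left _ ht1
    omega
  have hfp : f ≤ p := by omega
  -- the involution `y0`
  have hev : Even (fI P) := Cfsg.Agent.Lib.Helper2.BRCEVENF.even_f hS hL hA hC2 hε hw
  obtain ⟨y0, hyN, hyP, hy2⟩ := Cfsg.Agent.Lib.Helper4.BRCEXINV.exists_invol hS hev
  have hCle : Nat.card (Subgroup.centralizer ({y0} : Set G)) ≤ f * t := by
    have := Cfsg.Agent.Lib.Helper2.BRCCENTLE.card_centralizer_le hL hA y0 hyN hyP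
    rw [hnt] at this
    exact this
  set I : ℕ := Nat.card {g : G // orderOf g = 2} with hI
  have hGle : Nat.card G ≤ I * Nat.card (Subgroup.centralizer ({y0} : Set G)) :=
    Cfsg.Agent.Lib.Helper5.BRCINVGE.card_le_invol_mul y0 hy2
  have hIle : 1 + I ≤ ∑ᶠ χ : IrrCharacter G, charDegree (χ : G → ℂ) :=
    Cfsg.Agent.Lib.Helper5.BRCINVOL.one_add_card_invol_le
  have hIG : p * f * (1 + n * p) ≤ I * (f * t) := by
    have h1 := Cfsg.Agent.Lib.Helper2.BRCStepE.card_eq_of_special hS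
    rw [h1] at hGle
    calc p * f * (1 + n * p) = p * (fI P * (1 + n * p)) := by rw [hfdef]; ring
      _ ≤ I * Nat.card (Subgroup.centralizer ({y0} : Set G)) := hGle
      _ ≤ I * (f * t) := Nat.mul_le_mul_left _ hCle
  -- the counts
  set r : ℕ := Nat.card (typeA X v) with hr
  set s : ℕ := Nat.card (typeB X v) with hs
  have hrt : r * t + 2 = f := by
    have h1 := hC2.cardLin
    rw [hw, hnt] at h1
    omega
  have hrs : r + s + 1 = f := hC2.cardX
  -- the sums over the characters outside `B_0`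
  have hfinO : ((X ∪ Y)ᶜ : Set (IrrCharacter G)).Finite := Set.toFinite _
  set Zs : ℕ := ∑ᶠ χ ∈ ((X ∪ Y)ᶜ : Set (IrrCharacter G)), (aP P χ) ^ 2 with hZs
  set Za : ℕ := ∑ᶠ χ ∈ ((X ∪ Y)ᶜ : Set (IrrCharacter G)), aP P χ with hZa
  have hZ : Zs + 1 + r * t ^ 2 + t = f * t := by
    have h1 := Cfsg.Agent.Lib.Helper7.BRCSUMDEG.sum_out_sq hS hA
    rw [hw, hnt, one_pow, mul_one] at h1
    exact h1
  have hZale : Za ≤ Zs := by
    rw [hZa, hZs, finsum_mem_eq_finite_toFinset_sum _ hfinO, finsum_mem_eq_finite_toFinset_sum _ hfinO]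
    apply Finset.sum_le_sum
    intro χ _
    exact Nat.le_self_pow (by norm_num) _
  -- the sum of the degrees
  have hsumY : ∑ᶠ ψ ∈ Y, charDegree (ψ : G → ℂ) = t * (p - f) := by
    have hfinY : Y.Finite := Set.toFinite _
    have hdegY : ∀ ψ ∈ Y, charDegree (ψ : G → ℂ) = p - f := by
      intro ψ hψ
      have h1 := hS.hw ψ hψ
      rw [hw, hε] at h1
      have h2 : (charDegree (ψ : G → ℂ) : ℤ) = ((p - f : ℕ) : ℤ) := by
        rw [h1, Nat.cast_sub hfp]
        push_cast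
        ring
      exact_mod_cast h2
    rw [finsum_mem_eq_finite_toFinset_sum _ hfinY,
      Finset.sum_congr rfl (fun ψ hψ => hdegY ψ ((Set.Finite.mem_toFinset hfinY).mp hψ)),
      Finset.sum_const, smul_eq_mul]
    congr 1
    rw [← Set.ncard_eq_toFinset_card Y hfinY, ← Nat.card_coe_set_eq, hS.bx.b0.cardY]
  have hdeg : 1 + I ≤ 1 + r * (1 + n * p) + s * (p - 1) + t * (p - f) + p * Za := by
    have h1 := Cfsg.Agent.Lib.Helper7.BRCSUMDEG.sum_degree hS hA
    rw [hsumY, ← hZa] at h1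
    rw [← h1]
    exact hIle
  exact Cfsg.Agent.Lib.Helper16.BRCARITHD.arithD p f t n r s I Zs Za hp ht2 hf2 hnt hrt hrs hZ hZale hIG hdeg

end Cfsg.Agent.Lib.Helper2.BRCStepD
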