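import Mathlib
import Cfsg.Prelude.Def_Solvable
import Cfsg.Prelude.Def_Local
import Cfsg.Prelude.Def_Transfer
import Cfsg.Prelude.Def_PLocal
import Cfsg.Agent.Lib.Helper26.AUTQDefs

/-!
# S4411-BW (helper2): `bw` in `_of` form over `lemmaB`

Lemma B for a subgroup `X` of an ambient group `G`: apply the abstract Lemma B (hypothesis `hB`,
verbatim the statement of `lemmaB` after `hpq h23`) to the type `↥X`.
-/

set_option autoImplicit false

namespace Cfsg.Agent.Lib.Helper2.AUTQBW

open Cfsg Cfsg.Agent.Lib.Helper26.AUTQ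

universe u

/-- comap of a characteristic subgroup along an isomorphism is characteristic -/
theorem characteristic_comap_mulEquiv {H K : Type*} [Group H] [Group K] (e : H ≃* K)
    (T : Subgroup K) (hT : T.Characteristic) : (T.comap e.toMonoidHom).Characteristic := by
  rw [Subgroup.characteristic_iff_le_comap]
  intro φ x hx
  rw [Subgroup.mem_comap] at hx ⊢
  have h1 := (Subgroup.characteristic_iff_le_comap.mp hT) (e.symm.trans (φ.trans e)) hx
  rw [Subgroup.mem_comap] at h1
  simpa using h1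

/-- the normalizer of a subgroup of `↥X` and of its image in `G` -/
theorem coe_mem_normalizer_map {G : Type*} [Group G] (X : Subgroup G) (T' : Subgroup ↥X) (y : ↥X)
    (hy : y ∈ Subgroup.normalizer (T' : Set ↥X)) :
    (y : G) ∈ Subgroup.normalizer ((T'.map X.subtype : Subgroup G) : Set G) := by
  have hle : T'.map X.subtype ≤ X := by
    rintro _ ⟨t, _, rfl⟩
    exact t.2
  have h1 := Subgroup.subgroupOf_normalizer_eq hle
  have h2 : (T'.map X.subtype).subgroupOf X = T' :=
    Subgroup.comap_map_eq_self_of_injective X.subtype_injective T'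
  rw [h2] at h1
  rw [← h1, Subgroup.mem_subgroupOf] at hy
  exact hy

/-- centralizing the image in `G` gives centralizing in `↥X` -/
theorem mem_centralizer_of_coe {G : Type*} [Group G] (X : Subgroup G) (T' : Subgroup ↥X) (y : ↥X)
    (hy : (y : G) ∈ Subgroup.centralizer ((T'.map X.subtype : Subgroup G) : Set G)) :
    y ∈ Subgroup.centralizer (T' : Set ↥X) := by
  rw [Subgroup.mem_centralizer_iff] at hy ⊢
  intro t ht
  apply Subtype.ext
  exact hy (t : G) ⟨t, ht, rfl⟩

/-- (BW) in `_of` form: `hB` is verbatim `lemmaB p q hpq h23`. -/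
theorem bw_of {G : Type u} [Group G] [Finite G] (p q : ℕ) [Fact p.Prime] [Fact q.Prime]
    (hB : ∀ {X : Type u} [Group X] [Finite X]
      (a b : ℕ) (_ : Nat.card X = p ^ a * q ^ b)
      (R : Sylow p X) (H : Subgroup X) [H.Normal] (_ : IsPGroup p H)
      (_ : ∀ T : Subgroup X, T ≤ R → (T.subgroupOf (R : Subgroup X)).Characteristic →
        ∀ y ∈ Subgroup.normalizer (T : Set X), QElt q y → y ∈ Subgroup.centralizer (T : Set X))
      (_ : ∀ T : Subgroup X, H < T → T ≤ R → (R : Subgroup X) ≤ Subgroup.normalizer (T : Set X) →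
        ∀ y ∈ Subgroup.normalizer (T : Set X), QElt q y → y ∈ Subgroup.centralizer (H : Set X)),
      ∀ y : X, QElt q y → y ∈ Subgroup.centralizer (H : Set X))
    (H₀ X R : Subgroup G) (hH₀ : IsPGroup p H₀) (hRX : R ≤ X) (hHR : H₀ ≤ R)
    (hXN : X ≤ Subgroup.normalizer (H₀ : Set G)) (hR : IsPGroup p R) (hRsyl : ¬ p ∣ R.relIndex X)
    (hX : ∃ a b : ℕ, Nat.card X = p ^ a * q ^ b)
    (hF1 : ∀ T : Subgroup G, T ≤ R → (T.subgroupOf R).Characteristic →
        ∀ y ∈ Subgroup.normalizer (T : Set G), QElt q y → y ∈ Subgroup.centralizer (T : Set G))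
    (hF2 : ∀ T : Subgroup G, H₀ < T → T ≤ R → R ≤ Subgroup.normalizer (T : Set G) →
        ∀ y ∈ Subgroup.normalizer (T : Set G), QElt q y → y ∈ Subgroup.centralizer (T : Set G)) :
    ∀ y ∈ X, QElt q y → y ∈ Subgroup.centralizer (H₀ : Set G) := by
  classical
  obtain ⟨a, b, hcard⟩ := hX
  have hHX : H₀ ≤ X := hHR.trans hRX
  have hRp : IsPGroup p ↥(R.subgroupOf X) := hR.comap_subtype
  obtain ⟨R', hR'⟩ : ∃ R' : Sylow p ↥X, (R' : Subgroup ↥X) = R.subgroupOf X :=
    ⟨hRp.toSylow hRsyl, rfl⟩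
  have hnorm : (H₀.subgroupOf X).Normal := (Subgroup.normal_subgroupOf_iff_le_normalizer hHX).mpr hXN
  have hHp : IsPGroup p ↥(H₀.subgroupOf X) := hH₀.comap_subtype
  have hmapH : (H₀.subgroupOf X).map X.subtype = H₀ := Subgroup.map_subgroupOf_eq_of_le hHX
  -- facts on images
  have hmapR : ∀ T' : Subgroup ↥X, T' ≤ R' → T'.map X.subtype ≤ R := by
    rintro T' hT' _ ⟨t, ht, rfl⟩
    have h1 : t ∈ (R' : Subgroup ↥X) := hT' ht
    rw [hR', Subgroup.mem_subgroupOf] at h1
    exact h1
  have hB' := hB a b hcard R' (H₀.subgroupOf X) hHp ?_ ?_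
  · intro y hy hq
    have h1 := hB' ⟨y, hy⟩ ((qElt_coe_iff (⟨y, hy⟩ : ↥X)).1 hq)
    rw [Subgroup.mem_centralizer_iff] at h1 ⊢
    intro h hh
    have h2 := h1 ⟨h, hHX hh⟩ (by
      show (⟨h, hHX hh⟩ : ↥X) ∈ H₀.subgroupOf X
      rw [Subgroup.mem_subgroupOf]
      exact hh)
    exact congrArg Subtype.val h2
  · -- (F1)
    intro T' hT'R hchar y hy hq
    apply mem_centralizer_of_coe
    refine hF1 (T'.map X.subtype) (hmapR T' hT'R) ?_ (y : G) (coe_mem_normalizer_map X T' y hy)
      ((qElt_coe_iff y).2 hq)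
    -- transport of `Characteristic`
    have hRX' : R.subgroupOf X = (R' : Subgroup ↥X) := hR'.symm
    let e : ↥R ≃* ↥(R' : Subgroup ↥X) :=
      (Subgroup.subgroupOfEquivOfLe hRX).symm.trans (MulEquiv.subgroupCongr hRX')
    have he : ∀ r : ↥R, (((e r : ↥(R' : Subgroup ↥X)) : ↥X) : G) = (r : G) := fun r => rfl
    have h1 := characteristic_comap_mulEquiv e _ hchar
    have h2 : (T'.map X.subtype).subgroupOf R
        = (T'.subgroupOf (R' : Subgroup ↥X)).comap e.toMonoidHom := by
      ext r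
      rw [Subgroup.mem_subgroupOf, Subgroup.mem_comap, Subgroup.mem_subgroupOf]
      constructor
      · rintro ⟨t, ht, htr⟩
        have h3 : ((e r : ↥(R' : Subgroup ↥X)) : ↥X) = t := Subtype.ext ((he r).trans htr.symm)
        show ((e r : ↥(R' : Subgroup ↥X)) : ↥X) ∈ T'
        rw [h3]
        exact ht
      · intro h3
        exact ⟨((e r : ↥(R' : Subgroup ↥X)) : ↥X), h3, he r⟩
    rw [h2]
    exact h1
  · -- (F2)
    intro T' hlt hT'R hRT' y hy hq
    have h1 : H₀ < T'.map X.subtype := by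
      rw [← hmapH]
      exact Subgroup.map_subtype_lt_map_subtype.2 hlt
    have h2 : R ≤ Subgroup.normalizer ((T'.map X.subtype : Subgroup G) : Set G) := by
      intro r hr
      have h3 : (⟨r, hRX hr⟩ : ↥X) ∈ (R' : Subgroup ↥X) := by
        rw [hR', Subgroup.mem_subgroupOf]
        exact hr
      exact coe_mem_normalizer_map X T' ⟨r, hRX hr⟩ (hRT' h3)
    have h4 := hF2 (T'.map X.subtype) h1 (hmapR T' hT'R) h2 (y : G)
      (coe_mem_normalizer_map X T' y hy) ((qElt_coe_iff y).2 hq)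
    apply mem_centralizer_of_coe
    rw [hmapH]
    exact Subgroup.centralizer_le h1.le h4

end Cfsg.Agent.Lib.Helper2.AUTQBW
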