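import Mathlib
import Cfsg.Prelude.Def_Solvable
import Cfsg.Prelude.Def_Local
import Cfsg.Prelude.Def_Transfer
import Cfsg.Prelude.Def_PLocal
import Cfsg.Agent.Lib.Helper26.AUTQDefs
import Cfsg.Agent.Lib.Helper1.Commutator

/-!
# S4411-F (helper2): `f12`, the consequences (F1), (F2) of the extremal choice of `H₀`
-/

set_option autoImplicit false

namespace Cfsg.Agent.Lib.Helper2.AUTQF

open Cfsg Cfsg.Agent.Lib.Helper26.AUTQ

universe u

/-- (F) consequences of the lexicographically extremal choice of `H₀`. -/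
theorem f12 {G : Type*} [Group G] [Finite G] (p q : ℕ) [Fact p.Prime] [Fact q.Prime]
    (H₀ : Subgroup G) (hH₀ : IsPGroup p H₀)
    (hmax : ∀ T : Subgroup G, IsPGroup p T → Aq q T →
      nP p T < nP p H₀ ∨ (nP p T = nP p H₀ ∧ Nat.card T ≤ Nat.card H₀))
    (hns : nP p H₀ < (Nat.card G).factorization p)
    (R : Subgroup G) (hRM : R ≤ Subgroup.normalizer (H₀ : Set G)) (hR : IsPGroup p R)
    (hRsyl : ¬ p ∣ R.relIndex (Subgroup.normalizer (H₀ : Set G))) :
    (∀ T : Subgroup G, T ≤ R → (T.subgroupOf R).Characteristic →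
        ∀ y ∈ Subgroup.normalizer (T : Set G), QElt q y → y ∈ Subgroup.centralizer (T : Set G)) ∧
    (∀ T : Subgroup G, H₀ < T → T ≤ R → R ≤ Subgroup.normalizer (T : Set G) →
        ∀ y ∈ Subgroup.normalizer (T : Set G), QElt q y → y ∈ Subgroup.centralizer (T : Set G)) := by
  classical
  have hp : p.Prime := Fact.out
  obtain ⟨a, ha⟩ := IsPGroup.iff_card.1 hR
  have hcardN : Nat.card R * R.relIndex (Subgroup.normalizer (H₀ : Set G))
      = Nat.card (Subgroup.normalizer (H₀ : Set G)) := by
    have h1 := (R.subgroupOf (Subgroup.normalizer (H₀ : Set G))).card_mul_index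
    rw [Nat.card_congr (Subgroup.subgroupOfEquivOfLe hRM).toEquiv] at h1
    exact h1
  have hrel0 : R.relIndex (Subgroup.normalizer (H₀ : Set G)) ≠ 0 := by
    intro h
    rw [h, mul_zero] at hcardN
    exact Nat.card_pos.ne' hcardN.symm
  have hnP : nP p H₀ = a := by
    unfold nP
    rw [← hcardN, Nat.factorization_mul Nat.card_pos.ne' hrel0, ha, hp.factorization_pow]
    simp [Nat.factorization_eq_zero_of_not_dvd hRsyl]
  have hge : ∀ (T R₁ : Subgroup G) (b : ℕ), R₁ ≤ Subgroup.normalizer (T : Set G) →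
      Nat.card R₁ = p ^ b → b ≤ nP p T := by
    intro T R₁ b hle hb
    unfold nP
    rw [← hp.pow_dvd_iff_le_factorization Nat.card_pos.ne', ← hb]
    exact Subgroup.card_dvd_of_le hle
  have hconv : ∀ T : Subgroup G, ¬ Aq q T → ∀ y ∈ Subgroup.normalizer (T : Set G), QElt q y →
      y ∈ Subgroup.centralizer (T : Set G) := by
    intro T hT y hy hq
    by_contra hc
    exact hT ⟨y, hy, hq, hc⟩
  constructor
  · intro T hTR hchar
    apply hconv
    intro hAq
    have hTp : IsPGroup p T := hR.to_le hTR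
    obtain ⟨P, hRP⟩ := hR.exists_le_sylow
    have hPcard := P.card_eq_multiplicity
    have hne : R ≠ (P : Subgroup G) := by
      intro heq
      rw [← heq, ha] at hPcard
      have := Nat.pow_right_injective hp.two_le hPcard
      omega
    have hPnil : Group.IsNilpotent ↥(P : Subgroup G) := P.isPGroup'.isNilpotent
    have hnc := Group.normalizerCondition_of_isNilpotent (G := ↥(P : Subgroup G))
    have hlt' : R.subgroupOf (P : Subgroup G) < ⊤ := by
      refine lt_of_le_of_ne le_top ?_
      intro h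
      rw [Subgroup.subgroupOf_eq_top] at h
      exact hne (le_antisymm hRP h)
    have h2 := hnc _ hlt'
    obtain ⟨x, hxN, hxR⟩ := SetLike.exists_of_lt h2
    rw [← Subgroup.subgroupOf_normalizer_eq hRP, Subgroup.mem_subgroupOf] at hxN
    rw [Subgroup.mem_subgroupOf] at hxR
    obtain ⟨Rs, hRs⟩ : ∃ Rs : Subgroup G,
        Rs = Subgroup.normalizer (R : Set G) ⊓ (P : Subgroup G) := ⟨_, rfl⟩
    have hRsp : IsPGroup p Rs := by
      rw [hRs]
      exact P.isPGroup'.to_le inf_le_right
    obtain ⟨c, hc⟩ := IsPGroup.iff_card.1 hRsp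
    have hRRs : R ≤ Rs := by
      rw [hRs]
      exact le_inf Subgroup.le_normalizer hRP
    have hxRs : (x : G) ∈ Rs := by
      rw [hRs]
      exact ⟨hxN, x.2⟩
    have hne2 : R ≠ Rs := fun h => hxR (by rw [h]; exact hxRs)
    have hac : a < c := by
      by_contra hca
      push Not at hca
      apply hne2
      apply Subgroup.eq_of_le_of_card_ge hRRs
      rw [ha, hc]
      exact Nat.pow_le_pow_right hp.pos hca
    have hRsT : Rs ≤ Subgroup.normalizer (T : Set G) := by
      have := hchar
      have h3 := Cfsg.Agent.Lib.Helper1.normalizer_le_normalizer_map_subtype_of_characteristic R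
        (T.subgroupOf R)
      rw [Subgroup.map_subgroupOf_eq_of_le hTR] at h3
      rw [hRs]
      exact inf_le_left.trans h3
    have h4 := hge T Rs c hRsT hc
    rcases hmax T hTp hAq with h | ⟨h, -⟩ <;> omega
  · intro T hlt hTR hRT
    apply hconv
    intro hAq
    have hTp : IsPGroup p T := hR.to_le hTR
    have h3 := hge T R a hRT ha
    rcases hmax T hTp hAq with h | ⟨-, h⟩
    · omega
    · exact hlt.ne (Subgroup.eq_of_le_of_card_ge hlt.le h)

end Cfsg.Agent.Lib.Helper2.AUTQF
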