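import Mathlib

/-!
# Two primes between `n` and `2n` (helper2)

A variant of Bertrand's postulate: for `6 ≤ n` there are two distinct primes in `(n, 2n]`.
The proof follows Mathlib's proof of Bertrand's postulate, allowing one exceptional prime.
-/

set_option autoImplicit false

namespace Cfsg.Agent.Lib.Helper2.TwoPrimes

section RealPart

open Real

theorem real_main_inequality' {x : ℝ} (x_large : (512 : ℝ) ≤ x) :
    x * (2 * x) * (2 * x) ^ √(2 * x) * 4 ^ (2 * x / 3) ≤ 4 ^ x := by
  let f : ℝ → ℝ := fun x => log x + log (2 * x) + √(2 * x) * log (2 * x) - log 4 / 3 * x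
  have hf' : ∀ x, 0 < x → 0 < x * (2 * x) * (2 * x) ^ √(2 * x) / 4 ^ (x / 3) := fun x h =>
    div_pos (mul_pos (mul_pos h (mul_pos two_pos h)) (rpow_pos_of_pos (mul_pos two_pos h) _))
      (rpow_pos_of_pos four_pos _)
  have hf : ∀ x, 0 < x → f x = log (x * (2 * x) * (2 * x) ^ √(2 * x) / 4 ^ (x / 3)) := by
    intro x h5
    have h6 := mul_pos (zero_lt_two' ℝ) h5
    have h7 := rpow_pos_of_pos h6 (√(2 * x))
    rw [log_div (mul_pos (mul_pos h5 h6) h7).ne' (rpow_pos_of_pos four_pos _).ne',
      log_mul (mul_pos h5 h6).ne' h7.ne', log_mul h5.ne' h6.ne',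
      log_rpow h6, log_rpow zero_lt_four, ← mul_div_right_comm, ← mul_div, mul_comm x]
  have h5 : 0 < x := lt_of_lt_of_le (by norm_num1) x_large
  rw [← div_le_one (rpow_pos_of_pos four_pos x), ← div_div_eq_mul_div, ← rpow_sub four_pos, ←
    mul_div 2 x, mul_div_left_comm, ← mul_one_sub, (by norm_num1 : (1 : ℝ) - 2 / 3 = 1 / 3),
    mul_one_div, ← log_nonpos_iff (hf' x h5).le, ← hf x h5]
  have hlog2 : ConcaveOn ℝ (Set.Ioi (0.5 : ℝ)) (fun x : ℝ => log (2 * x)) := by
    have h0 : ConcaveOn ℝ (Set.Ioi (0.5 : ℝ)) (fun x : ℝ => log 2 + log x) := by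
      apply ConcaveOn.add
      · exact concaveOn_const _ (convex_Ioi 0.5)
      · exact strictConcaveOn_log_Ioi.concaveOn.subset
          (Set.Ioi_subset_Ioi (by norm_num)) (convex_Ioi 0.5)
    refine h0.congr ?_
    intro y hy
    have hy0 : (0 : ℝ) < y := lt_trans (by norm_num) (Set.mem_Ioi.mp hy)
    simp only
    rw [log_mul two_ne_zero hy0.ne']
  have h : ConcaveOn ℝ (Set.Ioi 0.5) f := by
    apply ConcaveOn.sub
    · apply ConcaveOn.add
      · apply ConcaveOn.add
        · exact strictConcaveOn_log_Ioi.concaveOn.subset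
            (Set.Ioi_subset_Ioi (by norm_num)) (convex_Ioi 0.5)
        · exact hlog2
      convert!
        ((strictConcaveOn_sqrt_mul_log_Ioi.concaveOn.comp_linearMap ((2 : ℝ) • LinearMap.id)))
        using 1
      ext x
      simp only [Set.mem_Ioi, Set.mem_preimage, LinearMap.smul_apply,
        LinearMap.id_coe, id_eq, smul_eq_mul]
      rw [← mul_lt_mul_iff_right₀ (two_pos)]
      norm_num1
      rfl
    apply ConvexOn.smul
    · refine div_nonneg (log_nonneg (by norm_num1)) (by norm_num1)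
    · exact convexOn_id (convex_Ioi (0.5 : ℝ))
  suffices ∃ x1 x2, 0.5 < x1 ∧ x1 < x2 ∧ x2 ≤ x ∧ 0 ≤ f x1 ∧ f x2 ≤ 0 by
    obtain ⟨x1, x2, h1, h2, h0, h3, h4⟩ := this
    exact (h.right_le_of_le_left'' h1 ((h1.trans h2).trans_le h0) h2 h0 (h4.trans h3)).trans h4
  refine ⟨18, 512, by norm_num1, by norm_num1, x_large, ?_, ?_⟩
  · have : √(2 * 18 : ℝ) = 6 := (sqrt_eq_iff_mul_self_eq_of_pos (by norm_num1)).mpr (by norm_num1)
    rw [hf _ (by norm_num1), log_nonneg_iff (by positivity), this, one_le_div (by norm_num1)]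
    norm_num1
  · have : √(2 * 512) = 32 :=
      (sqrt_eq_iff_mul_self_eq_of_pos (by norm_num1)).mpr (by norm_num1)
    rw [hf _ (by norm_num1), log_nonpos_iff (hf' _ (by norm_num1)).le, this,
        div_le_one (by positivity)]
    conv in (512 : ℝ) * _ => equals 2 ^ 19 => norm_num1
    conv in 2 * 512 => equals 2 ^ 10 => norm_num1
    conv in 32 => rw [← Nat.cast_ofNat]
    rw [rpow_natCast, ← pow_mul, ← pow_add]
    conv in 4 => equals 2 ^ (2 : ℝ) => rw [rpow_two]; norm_num1
    rw [← rpow_mul, ← rpow_natCast]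
    on_goal 1 => apply rpow_le_rpow_of_exponent_le
    all_goals norm_num1

end RealPart

section NatPart

open Nat

theorem main_inequality' {n : ℕ} (n_large : 512 ≤ n) :
    n * (2 * n) * (2 * n) ^ sqrt (2 * n) * 4 ^ (2 * n / 3) ≤ 4 ^ n := by
  rw [← @cast_le ℝ]
  simp only [cast_mul, cast_pow, ← Real.rpow_natCast, cast_ofNat]
  refine _root_.trans ?_ (real_main_inequality' (by exact_mod_cast n_large))
  gcongr
  · have n2_pos : 0 < 2 * n := by positivity
    exact mod_cast n2_pos
  · exact_mod_cast Real.nat_sqrt_le_real_sqrt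
  · norm_num1
  · exact cast_div_le.trans (by norm_cast)

/-- The small primes contribute little to the central binomial coefficient. -/
theorem prod_small_le (n : ℕ) (n_pos : 0 < n) :
    ∏ p ∈ Finset.range (2 * n / 3 + 1), p ^ (centralBinom n).factorization p ≤
      (2 * n) ^ sqrt (2 * n) * 4 ^ (2 * n / 3) := by
  have n2_pos : 1 ≤ 2 * n := mul_pos (zero_lt_two' ℕ) n_pos
  let S := {p ∈ Finset.range (2 * n / 3 + 1) | Nat.Prime p}
  let f x := x ^ n.centralBinom.factorization x
  have : ∏ x ∈ S, f x = ∏ x ∈ Finset.range (2 * n / 3 + 1), f x := by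
    refine Finset.prod_filter_of_ne fun p _ h => ?_
    contrapose h; dsimp only [f]
    rw [factorization_eq_zero_of_not_prime n.centralBinom h, _root_.pow_zero]
  change ∏ x ∈ Finset.range (2 * n / 3 + 1), f x ≤ _
  rw [← this, ← Finset.prod_filter_mul_prod_filter_not S (· ≤ sqrt (2 * n))]
  apply mul_le_mul'
  · refine (Finset.prod_le_prod' fun p _ => (?_ : f p ≤ 2 * n)).trans ?_
    · exact pow_factorization_choose_le (mul_pos two_pos n_pos)
    have : (Finset.Icc 1 (sqrt (2 * n))).card = sqrt (2 * n) := by rw [card_Icc, Nat.add_sub_cancel]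
    rw [Finset.prod_const]
    refine pow_right_mono₀ n2_pos ((Finset.card_le_card fun x hx => ?_).trans this.le)
    obtain ⟨h1, h2⟩ := Finset.mem_filter.1 hx
    exact Finset.mem_Icc.mpr ⟨(Finset.mem_filter.1 h1).2.one_lt.le, h2⟩
  · refine le_trans ?_ (primorial_le_four_pow (2 * n / 3))
    refine (Finset.prod_le_prod' fun p hp => (?_ : f p ≤ p)).trans ?_
    · obtain ⟨h1, h2⟩ := Finset.mem_filter.1 hp
      refine (pow_right_mono₀ (Finset.mem_filter.1 h1).2.one_lt.le ?_).trans (pow_one p).le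
      exact Nat.factorization_choose_le_one (sqrt_lt'.mp <| not_le.1 h2)
    refine Finset.prod_le_prod_of_subset_of_one_le' (Finset.filter_subset _ _) ?_
    exact fun p hp _ => (Finset.mem_filter.1 hp).2.one_lt.le

/-- If `q` is the only prime in `(n, 2n]`, the central binomial coefficient is small. -/
theorem centralBinom_le_of_one_prime (n : ℕ) (n_large : 2 < n) (q : ℕ)
    (hq : ∀ p : ℕ, p.Prime → n < p → p ≤ 2 * n → p = q) :
    centralBinom n ≤ (2 * n) * ((2 * n) ^ sqrt (2 * n) * 4 ^ (2 * n / 3)) := by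
  have n_pos : 0 < n := (Nat.zero_le _).trans_lt n_large
  have n2_pos : 1 ≤ 2 * n := mul_pos (zero_lt_two' ℕ) n_pos
  by_cases hqq : q.Prime ∧ n < q ∧ q ≤ 2 * n
  · obtain ⟨hqp, hnq, hq2⟩ := hqq
    have hqA : q ∉ Finset.range (2 * n / 3 + 1) := by
      rw [Finset.mem_range, Nat.lt_succ_iff]
      intro h
      have : 2 * n / 3 ≤ n := by omega
      omega
    have hsub : insert q (Finset.range (2 * n / 3 + 1)) ⊆ Finset.range (2 * n + 1) := by
      intro x hx
      rw [Finset.mem_insert] at hx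
      rw [Finset.mem_range]
      rcases hx with rfl | hx
      · omega
      · rw [Finset.mem_range] at hx
        have : 2 * n / 3 ≤ 2 * n := Nat.div_le_self _ _
        omega
    have key : centralBinom n =
        ∏ p ∈ insert q (Finset.range (2 * n / 3 + 1)), p ^ (centralBinom n).factorization p := by
      refine (Eq.trans ?_ n.prod_pow_factorization_centralBinom).symm
      apply Finset.prod_subset hsub
      intro x hx h2x
      rw [Finset.mem_range, Nat.lt_succ_iff] at hx
      rw [Finset.mem_insert, not_or, Finset.mem_range, Nat.lt_succ_iff, not_le,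
        div_lt_iff_lt_mul three_pos, mul_comm x] at h2x
      obtain ⟨hxq, h2x⟩ := h2x
      by_cases hxp : x.Prime
      · have hxn : x ≤ n := by
          by_contra hcon
          exact hxq (hq x hxp (not_le.mp hcon) hx)
        rw [factorization_centralBinom_of_two_mul_self_lt_three_mul n_large hxn h2x, Nat.pow_zero]
      · rw [factorization_eq_zero_of_not_prime n.centralBinom hxp, Nat.pow_zero]
    rw [key, Finset.prod_insert hqA]
    exact Nat.mul_le_mul (pow_factorization_choose_le (mul_pos two_pos n_pos))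
      (prod_small_le n n_pos)
  · have no_prime : ∀ p : ℕ, p.Prime → n < p → 2 * n < p := by
      intro p hp hnp
      by_contra hcon
      have h2 := hq p hp hnp (not_lt.mp hcon)
      exact hqq ⟨h2 ▸ hp, h2 ▸ hnp, h2 ▸ not_lt.mp hcon⟩
    calc centralBinom n ≤ (2 * n) ^ sqrt (2 * n) * 4 ^ (2 * n / 3) :=
          centralBinom_le_of_no_bertrand_prime n n_large no_prime
      _ ≤ (2 * n) * ((2 * n) ^ sqrt (2 * n) * 4 ^ (2 * n / 3)) :=
          Nat.le_mul_of_pos_left _ n2_pos

theorem exists_two_primes_eventually (n : ℕ) (n_large : 512 ≤ n) :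
    ∃ p q : ℕ, p.Prime ∧ q.Prime ∧ n < p ∧ p < q ∧ q ≤ 2 * n := by
  obtain ⟨p₁, hp₁, hnp₁, hp₁2⟩ := Nat.exists_prime_lt_and_le_two_mul n (by omega)
  by_contra hcon
  have hone : ∀ p : ℕ, p.Prime → n < p → p ≤ 2 * n → p = p₁ := by
    intro p hp hnp hp2
    by_contra hne
    rcases lt_or_gt_of_ne hne with h | h
    · exact hcon ⟨p, p₁, hp, hp₁, hnp, h, hp₁2⟩
    · exact hcon ⟨p₁, p, hp₁, hp, hnp₁, h, hp2⟩
  have h1 : 4 ^ n < n * n.centralBinom :=
    Nat.four_pow_lt_mul_centralBinom n (le_trans (by norm_num1) n_large)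
  have h2 := centralBinom_le_of_one_prime n (lt_of_lt_of_le (by norm_num1) n_large) p₁ hone
  have h3 := main_inequality' n_large
  have h4 : n * n.centralBinom ≤ 4 ^ n := by
    calc n * n.centralBinom ≤ n * ((2 * n) * ((2 * n) ^ sqrt (2 * n) * 4 ^ (2 * n / 3))) :=
          Nat.mul_le_mul_left _ h2
      _ = n * (2 * n) * (2 * n) ^ sqrt (2 * n) * 4 ^ (2 * n / 3) := by ring
      _ ≤ 4 ^ n := h3
  omega

theorem two_primes_succ {n : ℕ} (r : ℕ) {p q : ℕ} (hp : p.Prime) (hq : q.Prime) (hpq : p < q)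
    (cov : q ≤ 2 * r)
    (H : n < r → ∃ p q : ℕ, p.Prime ∧ q.Prime ∧ n < p ∧ p < q ∧ q ≤ 2 * n) (hn : n < p) :
    ∃ p q : ℕ, p.Prime ∧ q.Prime ∧ n < p ∧ p < q ∧ q ≤ 2 * n := by
  rcases lt_or_ge n r with h | h
  · exact H h
  · exact ⟨p, q, hp, hq, hn, hpq, by omega⟩

/-- For `6 ≤ n` there are two distinct primes in `(n, 2n]`. -/
theorem exists_two_primes (n : ℕ) (hn : 6 ≤ n) :
    ∃ p q : ℕ, p.Prime ∧ q.Prime ∧ n < p ∧ p < q ∧ q ≤ 2 * n := by
  rcases lt_or_ge 511 n with h | h
  · exact exists_two_primes_eventually n h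
  replace h : n < 547 := h.trans_lt (by norm_num1)
  revert h
  refine two_primes_succ 317 (p := 547) (q := 631) (by norm_num1) (by norm_num1) (by norm_num1)
    (by norm_num1) ?_
  refine two_primes_succ 277 (p := 317) (q := 547) (by norm_num1) (by norm_num1) (by norm_num1)
    (by norm_num1) ?_
  refine two_primes_succ 163 (p := 277) (q := 317) (by norm_num1) (by norm_num1) (by norm_num1)
    (by norm_num1) ?_
  refine two_primes_succ 139 (p := 163) (q := 277) (by norm_num1) (by norm_num1) (by norm_num1)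
    (by norm_num1) ?_
  refine two_primes_succ 83 (p := 139) (q := 163) (by norm_num1) (by norm_num1) (by norm_num1)
    (by norm_num1) ?_
  refine two_primes_succ 73 (p := 83) (q := 139) (by norm_num1) (by norm_num1) (by norm_num1)
    (by norm_num1) ?_
  refine two_primes_succ 43 (p := 73) (q := 83) (by norm_num1) (by norm_num1) (by norm_num1)
    (by norm_num1) ?_
  refine two_primes_succ 37 (p := 43) (q := 73) (by norm_num1) (by norm_num1) (by norm_num1)
    (by norm_num1) ?_
  refine two_primes_succ 23 (p := 37) (q := 43) (by norm_num1) (by norm_num1) (by norm_num1)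
    (by norm_num1) ?_
  refine two_primes_succ 19 (p := 23) (q := 37) (by norm_num1) (by norm_num1) (by norm_num1)
    (by norm_num1) ?_
  refine two_primes_succ 13 (p := 19) (q := 23) (by norm_num1) (by norm_num1) (by norm_num1)
    (by norm_num1) ?_
  refine two_primes_succ 11 (p := 13) (q := 19) (by norm_num1) (by norm_num1) (by norm_num1)
    (by norm_num1) ?_
  refine two_primes_succ 7 (p := 11) (q := 13) (by norm_num1) (by norm_num1) (by norm_num1)
    (by norm_num1) ?_
  refine two_primes_succ 6 (p := 7) (q := 11) (by norm_num1) (by norm_num1) (by norm_num1)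
    (by norm_num1) ?_
  intro h
  omega

end NatPart

end Cfsg.Agent.Lib.Helper2.TwoPrimes
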