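import Mathlib
import Cfsg.Agent.Lib.Helper2.TwoPrimes

/-!
# Element orders in symmetric groups and groups of order `p^a q^b` (helper2)
-/

set_option autoImplicit false

namespace Cfsg.Agent.Lib.Helper2.AltSpec

open Nat

theorem exists_dvd_of_prime_dvd_multiset_lcm {p : ℕ} (hp : p.Prime) (s : Multiset ℕ)
    (h : p ∣ s.lcm) : ∃ a ∈ s, p ∣ a := by
  induction s using Multiset.induction_on with
  | empty =>
    rw [Multiset.lcm_zero] at h
    exact absurd (Nat.dvd_one.mp h) hp.one_lt.ne'
  | cons a s ih =>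
    rw [Multiset.lcm_cons] at h
    have h2 : p ∣ a * s.lcm := h.trans (_root_.lcm_dvd (dvd_mul_right a _) (dvd_mul_left _ a))
    rcases (Nat.Prime.dvd_mul hp).mp h2 with h3 | h3
    · exact ⟨a, Multiset.mem_cons_self a s, h3⟩
    · obtain ⟨b, hb, hpb⟩ := ih h3
      exact ⟨b, Multiset.mem_cons_of_mem hb, hpb⟩

/-- A permutation of `n` points has no element of order `p * q` when `n < p + q`. -/
theorem perm_orderOf_ne_mul {n p q : ℕ} (hp : p.Prime) (hq : q.Prime) (hpq : p ≠ q)
    (hn : n < p + q) (σ : Equiv.Perm (Fin n)) : orderOf σ ≠ p * q := by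
  intro hord
  have hl := Equiv.Perm.lcm_cycleType σ
  rw [hord] at hl
  obtain ⟨a, ha, hpa⟩ := exists_dvd_of_prime_dvd_multiset_lcm hp σ.cycleType
    (hl ▸ dvd_mul_right p q)
  obtain ⟨b, hb, hqb⟩ := exists_dvd_of_prime_dvd_multiset_lcm hq σ.cycleType
    (hl ▸ dvd_mul_left q p)
  have hsum : σ.cycleType.sum ≤ n := by
    have := Equiv.Perm.sum_cycleType_le σ
    simpa using this
  have hapos : 0 < a := by
    have := Equiv.Perm.two_le_of_mem_cycleType ha
    omega
  have hbpos : 0 < b := by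
    have := Equiv.Perm.two_le_of_mem_cycleType hb
    omega
  have hpa' : p ≤ a := Nat.le_of_dvd hapos hpa
  have hqb' : q ≤ b := Nat.le_of_dvd hbpos hqb
  by_cases hab : a = b
  · subst hab
    have hcop : Nat.Coprime p q := (Nat.coprime_primes hp hq).mpr hpq
    have hdvd : p * q ∣ a := hcop.mul_dvd_of_dvd_of_dvd hpa hqb
    have h1 : p * q ≤ a := Nat.le_of_dvd hapos hdvd
    have h2 : a ≤ σ.cycleType.sum := Multiset.le_sum_of_mem ha
    have h3 : p + q ≤ p * q := by
      have hp2 := hp.two_le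
      have hq2 := hq.two_le
      nlinarith
    omega
  · have hb' : b ∈ σ.cycleType.erase a := (Multiset.mem_erase_of_ne (Ne.symm hab)).mpr hb
    have h1 : a + (σ.cycleType.erase a).sum = σ.cycleType.sum := Multiset.sum_erase ha
    have h2 : b ≤ (σ.cycleType.erase a).sum := Multiset.le_sum_of_mem hb'
    omega

/-- A group of order `p^a q^b` in which Sylow counting forces both Sylow subgroups to be normal
has an element of order `p * q`. -/
theorem exists_orderOf_eq_mul {H : Type*} [Group H] [Finite H] {p q a b : ℕ}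
    [hp : Fact p.Prime] [hq : Fact q.Prime] (hpq : p ≠ q) (ha : a ≠ 0) (hb : b ≠ 0)
    (hcard : Nat.card H = p ^ a * q ^ b)
    (h1 : ∀ d, d ∣ q ^ b → d % p = 1 → d = 1) (h2 : ∀ d, d ∣ p ^ a → d % q = 1 → d = 1) :
    ∃ x : H, orderOf x = p * q := by
  have hcop : Nat.Coprime p q := (Nat.coprime_primes hp.out hq.out).mpr hpq
  -- normality of Sylow subgroups
  have key : ∀ (r s c e : ℕ) [Fact r.Prime], Nat.Coprime r s → Nat.card H = r ^ c * s ^ e →
      (∀ d, d ∣ s ^ e → d % r = 1 → d = 1) → ∀ P : Sylow r H, (P : Subgroup H).Normal := by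
    intro r s c e hr hrs hc hd P
    have hidx : (P : Subgroup H).index ∣ s ^ e := by
      have h3 : (P : Subgroup H).index ∣ r ^ c * s ^ e := hc ▸ Subgroup.index_dvd_card _
      have h4 : Nat.Coprime ((P : Subgroup H).index) (r ^ c) := by
        apply Nat.Coprime.pow_right
        exact ((Nat.Prime.coprime_iff_not_dvd hr.out).mpr (Sylow.not_dvd_index P)).symm
      exact h4.dvd_of_dvd_mul_left h3
    have h5 : Nat.card (Sylow r H) ∣ s ^ e := (Sylow.card_dvd_index P).trans hidx
    have h6 : Nat.card (Sylow r H) % r = 1 := by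
      have := card_sylow_modEq_one r H
      rw [Nat.ModEq, Nat.mod_eq_of_lt hr.out.one_lt] at this
      exact this
    have h7 := hd _ h5 h6
    have : Subsingleton (Sylow r H) := by
      rw [← Finite.card_le_one_iff_subsingleton, h7]
    exact Sylow.normal_of_subsingleton P
  obtain ⟨P⟩ : Nonempty (Sylow p H) := inferInstance
  obtain ⟨Q⟩ : Nonempty (Sylow q H) := inferInstance
  have hPn : (P : Subgroup H).Normal := key p q a b hcop hcard h1 P
  have hQn : (Q : Subgroup H).Normal :=
    key q p b a hcop.symm (by rw [hcard, mul_comm]) h2 Q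
  have hdis : Disjoint (P : Subgroup H) (Q : Subgroup H) :=
    IsPGroup.disjoint_of_ne p q hpq _ _ P.isPGroup' Q.isPGroup'
  have hpdvd : p ∣ Nat.card H := by
    rw [hcard]
    exact Dvd.dvd.mul_right (dvd_pow_self p ha) _
  have hqdvd : q ∣ Nat.card H := by
    rw [hcard]
    exact Dvd.dvd.mul_left (dvd_pow_self q hb) _
  obtain ⟨x, hx⟩ := exists_prime_orderOf_dvd_card' p hpdvd
  obtain ⟨y, hy⟩ := exists_prime_orderOf_dvd_card' q hqdvd
  have hxP : x ∈ (P : Subgroup H) := by
    have hpg : IsPGroup p (Subgroup.zpowers x) := by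
      rw [IsPGroup.iff_card]
      exact ⟨1, by rw [Nat.card_zpowers, hx, pow_one]⟩
    obtain ⟨P', hP'⟩ := hpg.exists_le_sylow
    have : Subsingleton (Sylow p H) := by
      have := Sylow.unique_of_normal P hPn
      infer_instance
    have : P' = P := Subsingleton.elim _ _
    rw [← this]
    exact hP' (Subgroup.mem_zpowers x)
  have hyQ : y ∈ (Q : Subgroup H) := by
    have hpg : IsPGroup q (Subgroup.zpowers y) := by
      rw [IsPGroup.iff_card]
      exact ⟨1, by rw [Nat.card_zpowers, hy, pow_one]⟩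
    obtain ⟨Q', hQ'⟩ := hpg.exists_le_sylow
    have : Subsingleton (Sylow q H) := by
      have := Sylow.unique_of_normal Q hQn
      infer_instance
    have : Q' = Q := Subsingleton.elim _ _
    rw [← this]
    exact hQ' (Subgroup.mem_zpowers y)
  have hcomm : Commute x y :=
    Subgroup.commute_of_normal_of_disjoint _ _ hPn hQn hdis x y hxP hyQ
  refine ⟨x * y, ?_⟩
  rw [hcomm.orderOf_mul_eq_mul_orderOf_of_coprime (by rw [hx, hy]; exact hcop), hx, hy]

theorem not_sq_dvd_factorial {n p : ℕ} (hp : p.Prime) (h1 : p ≤ n) (h2 : n < 2 * p) :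
    ¬ p ^ 2 ∣ n ! := by
  have hp2 := hp.two_le
  have hlog : Nat.log p n < 2 := Nat.log_lt_of_lt_pow (by omega) (by nlinarith)
  rw [hp.pow_dvd_factorial_iff hlog]
  have hI : Finset.Ico 1 2 = {1} := by decide
  rw [hI, Finset.sum_singleton, pow_one]
  have : n / p < 2 := Nat.div_lt_of_lt_mul (by omega)
  omega

theorem decomp {N p q : ℕ} (hp : p.Prime) (hq : q.Prime) (hpq : p ≠ q) (hpN : p ∣ N)
    (hqN : q ∣ N) (hp2 : ¬ p ^ 2 ∣ N) (hq2 : ¬ q ^ 2 ∣ N) :
    ∃ k, N = (p ^ 1 * q ^ 1) * k ∧ Nat.Coprime (p ^ 1 * q ^ 1) k := by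
  have hcop : Nat.Coprime p q := (Nat.coprime_primes hp hq).mpr hpq
  obtain ⟨k, hk⟩ := hcop.mul_dvd_of_dvd_of_dvd hpN hqN
  refine ⟨k, by rw [pow_one, pow_one]; exact hk, ?_⟩
  rw [pow_one, pow_one]
  apply Nat.Coprime.mul_left
  · rw [Nat.Prime.coprime_iff_not_dvd hp]
    rintro ⟨j, rfl⟩
    exact hp2 ⟨q * j, by rw [hk]; ring⟩
  · rw [Nat.Prime.coprime_iff_not_dvd hq]
    rintro ⟨j, rfl⟩
    exact hq2 ⟨p * j, by rw [hk]; ring⟩

theorem half_factorial_facts {n p : ℕ} (hn : 2 ≤ n) (hp : p.Prime) (hp3 : p ≠ 2) (h1 : p ≤ n)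
    (h2 : n < 2 * p) : p ∣ n ! / 2 ∧ ¬ p ^ 2 ∣ n ! / 2 := by
  have h2dvd : 2 ∣ n ! := Nat.dvd_factorial (by norm_num) hn
  have heq : 2 * (n ! / 2) = n ! := Nat.mul_div_cancel' h2dvd
  constructor
  · have hpd : p ∣ 2 * (n ! / 2) := by
      rw [heq]
      exact hp.dvd_factorial.mpr h1
    have hc : Nat.Coprime p 2 := (Nat.coprime_primes hp Nat.prime_two).mpr hp3
    exact hc.dvd_of_dvd_mul_left hpd
  · intro h
    exact not_sq_dvd_factorial hp h1 h2 (h.trans ⟨2, by omega⟩)

/-- The arithmetic input: a pair of primes whose Hall subgroup would contain an element of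
order `p * q`, while the alternating group of degree `n` has none. -/
theorem key_arith (n : ℕ) (hn : 5 ≤ n) :
    ∃ p q a b k : ℕ, p.Prime ∧ q.Prime ∧ p ≠ q ∧ a ≠ 0 ∧ b ≠ 0 ∧
      n ! / 2 = (p ^ a * q ^ b) * k ∧ Nat.Coprime (p ^ a * q ^ b) k ∧
      (∀ d, d ∣ q ^ b → d % p = 1 → d = 1) ∧ (∀ d, d ∣ p ^ a → d % q = 1 → d = 1) ∧
      n < p + q := by
  rcases lt_or_ge n 12 with hlt | hge
  · have hdiv : ∀ (m r : ℕ), 0 < m → m ≤ 25 → (∀ d, d ≤ 25 → d ∣ m → d % r = 1 → d = 1) →
        ∀ d, d ∣ m → d % r = 1 → d = 1 := by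
      intro m r hm hm25 h d hd
      exact h d ((Nat.le_of_dvd hm hd).trans hm25) hd
    interval_cases n
    · refine ⟨3, 5, 1, 1, 4, by norm_num, by norm_num, by norm_num, by norm_num, by norm_num,
        by decide, by decide, ?_, ?_, by norm_num⟩
      · exact hdiv _ _ (by norm_num) (by norm_num) (by decide)
      · exact hdiv _ _ (by norm_num) (by norm_num) (by decide)
    · refine ⟨3, 5, 2, 1, 8, by norm_num, by norm_num, by norm_num, by norm_num, by norm_num,
        by decide, by decide, ?_, ?_, by norm_num⟩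
      · exact hdiv _ _ (by norm_num) (by norm_num) (by decide)
      · exact hdiv _ _ (by norm_num) (by norm_num) (by decide)
    · refine ⟨5, 7, 1, 1, 72, by norm_num, by norm_num, by norm_num, by norm_num, by norm_num,
        by decide, by decide, ?_, ?_, by norm_num⟩
      · exact hdiv _ _ (by norm_num) (by norm_num) (by decide)
      · exact hdiv _ _ (by norm_num) (by norm_num) (by decide)
    · refine ⟨5, 7, 1, 1, 576, by norm_num, by norm_num, by norm_num, by norm_num, by norm_num,
        by decide, by norm_num, ?_, ?_, by norm_num⟩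
      · exact hdiv _ _ (by norm_num) (by norm_num) (by decide)
      · exact hdiv _ _ (by norm_num) (by norm_num) (by decide)
    · refine ⟨5, 7, 1, 1, 5184, by norm_num, by norm_num, by norm_num, by norm_num, by norm_num,
        by norm_num [Nat.factorial], by norm_num, ?_, ?_, by norm_num⟩
      · exact hdiv _ _ (by norm_num) (by norm_num) (by decide)
      · exact hdiv _ _ (by norm_num) (by norm_num) (by decide)
    · refine ⟨5, 7, 2, 1, 10368, by norm_num, by norm_num, by norm_num, by norm_num, by norm_num,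
        by norm_num [Nat.factorial], by norm_num, ?_, ?_, by norm_num⟩
      · exact hdiv _ _ (by norm_num) (by norm_num) (by decide)
      · exact hdiv _ _ (by norm_num) (by norm_num) (by decide)
    · refine ⟨7, 11, 1, 1, 259200, by norm_num, by norm_num, by norm_num, by norm_num,
        by norm_num, by norm_num [Nat.factorial], by norm_num, ?_, ?_, by norm_num⟩
      · exact hdiv _ _ (by norm_num) (by norm_num) (by decide)
      · exact hdiv _ _ (by norm_num) (by norm_num) (by decide)
  · obtain ⟨p, q, hp, hq, hmp, hpq, hq2⟩ :=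
      Cfsg.Agent.Lib.Helper2.TwoPrimes.exists_two_primes (n / 2) (by omega)
    have hpn : p ≤ n := by omega
    have hqn : q ≤ n := by omega
    have hn2p : n < 2 * p := by omega
    have hn2q : n < 2 * q := by omega
    have hp3 : p ≠ 2 := by omega
    have hq3 : q ≠ 2 := by omega
    obtain ⟨hpN, hpN2⟩ := half_factorial_facts (by omega) hp hp3 hpn hn2p
    obtain ⟨hqN, hqN2⟩ := half_factorial_facts (by omega) hq hq3 hqn hn2q
    obtain ⟨k, hk, hcop⟩ := decomp hp hq hpq.ne hpN hqN hpN2 hqN2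
    refine ⟨p, q, 1, 1, k, hp, hq, hpq.ne, one_ne_zero, one_ne_zero, hk, hcop, ?_, ?_, by omega⟩
    · intro d hd hmod
      rw [pow_one] at hd
      obtain ⟨i, hi⟩ := hp.odd_of_ne_two hp3
      obtain ⟨j, hj⟩ := hq.odd_of_ne_two hq3
      rcases (Nat.dvd_prime hq).mp hd with rfl | rfl
      · rfl
      · exfalso
        have : d % p = d - p := by
          rw [Nat.mod_eq_sub_mod hpq.le, Nat.mod_eq_of_lt (by omega)]
        omega
    · intro d hd hmod
      rw [pow_one] at hd
      rcases (Nat.dvd_prime hp).mp hd with rfl | rfl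
      · rfl
      · exfalso
        rw [Nat.mod_eq_of_lt hpq] at hmod
        have := hp.two_le
        omega

end Cfsg.Agent.Lib.Helper2.AltSpec
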