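import Mathlib

/-!
helper2: weighted orbit counting; conjugacy classes vs. automorphism orbits (for S4067).
-/

set_option autoImplicit false

namespace Cfsg.Agent.Lib.Helper2.AutOrb

open MulAction

/-- Weighted orbit counting: if `c ≤ W x * |orbit x|` for all `x` then `c * #orbits ≤ ∑ W`. -/
theorem orbits_bound {A X : Type*} [Group A] [MulAction A X] [Fintype X] (c : ℕ) (W : X → ℕ)
    (h : ∀ x, c ≤ W x * Nat.card (orbit A x)) :
    c * Nat.card (orbitRel.Quotient A X) ≤ ∑ x, W x := by
  classical
  let Ω := orbitRel.Quotient A X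
  have : Fintype Ω := Fintype.ofFinite Ω
  have h1 : ∑ ω : Ω, ∑ x with (Quotient.mk'' x : Ω) = ω, W x = ∑ x, W x :=
    Finset.sum_fiberwise _ _ _
  rw [← h1, Nat.card_eq_fintype_card, mul_comm]
  have h2 : ∀ ω ∈ (Finset.univ : Finset Ω), c ≤ ∑ x with (Quotient.mk'' x : Ω) = ω, W x := by
    intro ω _
    induction ω using Quotient.inductionOn' with
    | h x₀ =>
      set F : Finset X := Finset.univ.filter (fun x => (Quotient.mk'' x : Ω) = Quotient.mk'' x₀) with hF
      have hmem : ∀ x, x ∈ F ↔ x ∈ orbit A x₀ := by
        intro x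
        rw [hF, Finset.mem_filter]
        simp only [Finset.mem_univ, true_and]
        rw [Quotient.eq'']
        rfl
      have hcard : F.card = Nat.card (orbit A x₀) := by
        rw [Nat.card_eq_fintype_card, ← Set.toFinset_card]
        congr 1
        ext x
        rw [hmem, Set.mem_toFinset]
      have hx₀ : x₀ ∈ F := (hmem x₀).mpr (mem_orbit_self x₀)
      have hpos : 0 < F.card := Finset.card_pos.mpr ⟨x₀, hx₀⟩
      have h3 : ∀ x ∈ F, c ≤ W x * F.card := by
        intro x hx
        have := h x
        rw [orbit_eq_iff.mpr ((hmem x).mp hx)] at this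
        rw [hcard]
        exact this
      have h4 : F.card * c ≤ (∑ x ∈ F, W x) * F.card := by
        rw [Finset.sum_mul]
        have := Finset.card_nsmul_le_sum F (fun x => W x * F.card) c h3
        simpa [smul_eq_mul] using this
      rw [mul_comm] at h4
      exact Nat.le_of_mul_le_mul_right h4 hpos
  have := Finset.card_nsmul_le_sum (Finset.univ : Finset Ω) _ c h2
  simpa [smul_eq_mul] using this

/-- Conjugacy classes surject onto automorphism orbits. -/
theorem card_autOrbits_le_card_conjClasses (G : Type*) [Group G] [Finite G] :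
    Nat.card (orbitRel.Quotient (MulAut G) G) ≤ Nat.card (ConjClasses G) := by
  classical
  have : Finite (ConjClasses G) := inferInstance
  refine Nat.card_le_card_of_surjective
    (fun c : ConjClasses G => Quotient.liftOn' c
      (fun g => (Quotient.mk'' g : orbitRel.Quotient (MulAut G) G)) ?_) ?_
  · intro a b hab
    apply Quotient.sound'
    change IsConj a b at hab
    rw [isConj_iff] at hab
    obtain ⟨u, hu⟩ := hab
    change a ∈ orbit (MulAut G) b
    refine ⟨MulAut.conj u⁻¹, ?_⟩
    change MulAut.conj u⁻¹ b = a
    rw [← hu]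
    simp [MulAut.conj_apply]
    group
  · intro q
    induction q using Quotient.inductionOn' with
    | h g => exact ⟨ConjClasses.mk g, rfl⟩

/-- The automorphism orbit of `g` contains all conjugates. -/
theorem conj_mem_orbit {G : Type*} [Group G] (g u : G) : u * g * u⁻¹ ∈ orbit (MulAut G) g :=
  ⟨MulAut.conj u, by simp [MulAut.conj_apply]⟩

end Cfsg.Agent.Lib.Helper2.AutOrb
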