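import Mathlib
import Cfsg.Agent.Lib.Helper2.AutOrbA

/-!
helper2: a non-class-preserving automorphism `g ↦ g * c ^ k(g) * w ^ choose(k(g),2)` of a group with
central commutators, and the resulting lower bound `p * p` for automorphism orbits (for S4067).
-/

set_option autoImplicit false

namespace Cfsg.Agent.Lib.Helper2.AutOrb

open MulAction

theorem add_choose_two' (a b : ℕ) : (a + b).choose 2 = a.choose 2 + b.choose 2 + a * b := by
  induction b with
  | zero => simp
  | succ b ih =>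
    rw [← add_assoc, Nat.choose_succ_succ' (a + b) 1, Nat.choose_succ_succ' b 1, ih]
    simp only [Nat.choose_one_right]
    ring

/-- Data for the twisting automorphism. -/
structure TwistData (G : Type*) [Group G] (p : ℕ) where
  y : G
  c : G
  z : G
  w : G
  k : G → ℕ
  z_cen : ∀ g, g * z = z * g
  w_cen : ∀ g, g * w = w * g
  hy : ∀ g, y * g = g * y * z ^ k g
  hc : ∀ g, c * g = g * c * w ^ k g
  hyc : y * c = c * y
  hz : orderOf z = p
  hE : c ^ p * w ^ (p.choose 2) = 1
  hw : w ^ p = 1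

namespace TwistData

variable {G : Type*} [Group G] {p : ℕ} (d : TwistData G p)

theorem wpow_cen (m : ℕ) (g : G) : g * d.w ^ m = d.w ^ m * g :=
  ((Commute.pow_right (d.w_cen g) m : Commute g (d.w ^ m))).eq

theorem zpow_cen (m : ℕ) (g : G) : g * d.z ^ m = d.z ^ m * g :=
  ((Commute.pow_right (d.z_cen g) m : Commute g (d.z ^ m))).eq

/-- the cocycle -/
def E (n : ℕ) : G := d.c ^ n * d.w ^ (n.choose 2)

theorem E_zero : d.E 0 = 1 := by simp [E]

theorem E_add (a b : ℕ) : d.E (a + b) = d.E a * d.E b * d.w ^ (a * b) := by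
  unfold E
  rw [add_choose_two', pow_add, pow_add, pow_add]
  have h1 : Commute (d.w ^ (a.choose 2)) (d.c ^ b) := (d.wpow_cen _ _).symm
  rw [h1.mul_mul_mul_comm]
  simp only [mul_assoc]

theorem E_add_p (n : ℕ) : d.E (n + p) = d.E n := by
  rw [E_add]
  have h1 : d.E p = 1 := d.hE
  rw [h1, mul_one, mul_comm n p, pow_mul, d.hw, one_pow, mul_one]

theorem E_add_mul (n t : ℕ) : d.E (n + p * t) = d.E n := by
  induction t with
  | zero => simp
  | succ t ih => rw [mul_add, mul_one, ← add_assoc, E_add_p, ih]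

theorem E_mod (n : ℕ) : d.E (n % p) = d.E n := by
  conv_rhs => rw [← Nat.mod_add_div n p]
  rw [E_add_mul]

theorem E_modEq {a b : ℕ} (h : a ≡ b [MOD p]) : d.E a = d.E b := by
  rw [← d.E_mod a, ← d.E_mod b, h]

theorem c_pow_comm (a : ℕ) (h : G) : d.c ^ a * h = h * d.c ^ a * d.w ^ (a * d.k h) := by
  induction a with
  | zero => simp
  | succ a ih =>
    rw [pow_succ, mul_assoc, d.hc h, ← mul_assoc, ← mul_assoc, ih]
    rw [add_mul, one_mul, pow_add]
    have := d.wpow_cen (a * d.k h) d.c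
    simp only [mul_assoc]
    rw [← mul_assoc (d.w ^ (a * d.k h)) d.c, ← this]
    simp only [mul_assoc]

theorem y_pow_comm (a : ℕ) (h : G) : d.y ^ a * h = h * d.y ^ a * d.z ^ (a * d.k h) := by
  induction a with
  | zero => simp
  | succ a ih =>
    rw [pow_succ, mul_assoc, d.hy h, ← mul_assoc, ← mul_assoc, ih]
    rw [add_mul, one_mul, pow_add]
    have := d.zpow_cen (a * d.k h) d.y
    simp only [mul_assoc]
    rw [← mul_assoc (d.z ^ (a * d.k h)) d.y, ← this]
    simp only [mul_assoc]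

theorem E_comm (a : ℕ) (h : G) : d.E a * h = h * d.E a * d.w ^ (a * d.k h) := by
  unfold E
  rw [mul_assoc, ← d.wpow_cen, ← mul_assoc, d.c_pow_comm]
  simp only [mul_assoc]
  rw [d.wpow_cen (a.choose 2)]

theorem y_comm_E (n : ℕ) : d.y * d.E n = d.E n * d.y := by
  unfold E
  have h1 : Commute d.y (d.c ^ n) := Commute.pow_right d.hyc n
  have h2 : Commute d.y (d.w ^ (n.choose 2)) := d.wpow_cen _ _
  exact (h1.mul_right h2).eq

theorem k_mul (g h : G) : d.k (g * h) ≡ d.k g + d.k h [MOD p] := by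
  have h1 := d.hy (g * h)
  have h2 : d.y * (g * h) = g * h * d.y * d.z ^ (d.k g + d.k h) := by
    calc d.y * (g * h) = (d.y * g) * h := (mul_assoc _ _ _).symm
      _ = g * d.y * (d.z ^ d.k g * h) := by rw [d.hy g, mul_assoc]
      _ = g * d.y * (h * d.z ^ d.k g) := by rw [d.zpow_cen]
      _ = g * (d.y * h) * d.z ^ d.k g := by simp only [mul_assoc]
      _ = g * (h * d.y * d.z ^ d.k h) * d.z ^ d.k g := by rw [d.hy h]
      _ = g * h * d.y * (d.z ^ d.k h * d.z ^ d.k g) := by simp only [mul_assoc]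
      _ = g * h * d.y * d.z ^ (d.k g + d.k h) := by rw [← pow_add, add_comm]
  rw [h2] at h1
  have h3 := mul_left_cancel h1
  have := pow_eq_pow_iff_modEq.mp h3
  rw [d.hz] at this
  exact this.symm

/-- the twisting endomorphism -/
def psiFun (g : G) : G := g * d.E (d.k g)

theorem psiFun_mul (g h : G) : d.psiFun (g * h) = d.psiFun g * d.psiFun h := by
  unfold psiFun
  rw [d.E_modEq (d.k_mul g h), d.E_add]
  have := d.E_comm (d.k g) h
  calc g * h * (d.E (d.k g) * d.E (d.k h) * d.w ^ (d.k g * d.k h))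
      = g * (h * d.E (d.k g) * d.w ^ (d.k g * d.k h)) * d.E (d.k h) := by
        simp only [mul_assoc]
        rw [d.wpow_cen (d.k g * d.k h) (d.E (d.k h))]
    _ = g * d.E (d.k g) * (h * d.E (d.k h)) := by
        rw [← this]
        simp only [mul_assoc]

theorem k_dvd_of_comm (g : G) (h : d.y * g = g * d.y) : p ∣ d.k g := by
  have h1 := d.hy g
  rw [h] at h1
  have h2 : d.z ^ d.k g = 1 := by
    have := mul_left_cancel (a := g * d.y) (b := 1) (c := d.z ^ d.k g) (by rw [mul_one]; exact h1)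
    exact this.symm
  have h3 := orderOf_dvd_of_pow_eq_one h2
  rw [d.hz] at h3
  exact h3

theorem E_eq_one_of_dvd {n : ℕ} (h : p ∣ n) : d.E n = 1 := by
  rw [← d.E_zero]
  apply d.E_modEq
  exact (Nat.modEq_zero_iff_dvd.mpr h)

theorem psiFun_injective : Function.Injective d.psiFun := by
  have hker : ∀ g, d.psiFun g = 1 → g = 1 := by
    intro g hg
    unfold psiFun at hg
    have h1 : g = (d.E (d.k g))⁻¹ := eq_inv_of_mul_eq_one_left hg
    have h2 : d.y * g = g * d.y := by
      have hc : Commute d.y (d.E (d.k g)) := d.y_comm_E _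
      have := hc.inv_right
      rw [← h1] at this
      exact this.eq
    have h3 := d.E_eq_one_of_dvd (d.k_dvd_of_comm g h2)
    rw [h3, inv_one] at h1
    exact h1
  intro a b hab
  have h1 : d.psiFun (a * b⁻¹) = 1 := by
    have h2 := d.psiFun_mul (a * b⁻¹) b
    rw [inv_mul_cancel_right, hab] at h2
    exact (mul_eq_right.mp h2.symm)
  have := hker _ h1
  exact mul_inv_eq_one.mp this

/-- the twisting automorphism -/
noncomputable def psi [Finite G] : MulAut G :=
  MulEquiv.ofBijective (MonoidHom.mk' d.psiFun (d.psiFun_mul))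
    ⟨d.psiFun_injective, Finite.injective_iff_surjective.mp (d.psiFun_injective)⟩

theorem psi_apply [Finite G] (g : G) : d.psi g = g * d.E (d.k g) := rfl

/-- `k` is unchanged (mod p) along `g * E^j` -/
theorem k_mul_E_pow (g : G) (j : ℕ) : d.k (g * d.E (d.k g) ^ j) ≡ d.k g [MOD p] := by
  have h1 := d.hy (g * d.E (d.k g) ^ j)
  have hc : Commute d.y (d.E (d.k g) ^ j) := Commute.pow_right (d.y_comm_E _) j
  have h2 : d.y * (g * d.E (d.k g) ^ j) = g * d.E (d.k g) ^ j * d.y * d.z ^ d.k g := by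
    rw [← mul_assoc, d.hy g, mul_assoc (g * d.y), ← d.zpow_cen, ← mul_assoc, mul_assoc g, hc.eq]
    simp only [mul_assoc]
  rw [h2] at h1
  have h3 := mul_left_cancel h1
  have := pow_eq_pow_iff_modEq.mp h3
  rw [d.hz] at this
  exact this.symm

theorem psi_pow_apply [Finite G] (g : G) (j : ℕ) :
    (d.psi ^ j) g = g * d.E (d.k g) ^ j := by
  induction j with
  | zero => simp
  | succ j ih =>
    rw [pow_succ', MulAut.mul_apply, ih, psi_apply, d.E_modEq (d.k_mul_E_pow g j), pow_succ, mul_assoc]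

/-- the `p * p` elements of the orbit -/
def orbElt (g : G) (i j : ℕ) : G := d.y ^ i * (g * d.E (d.k g) ^ j) * (d.y ^ i)⁻¹

theorem orbElt_mem [Finite G] (g : G) (i j : ℕ) :
    d.orbElt g i j ∈ orbit (MulAut G) g := by
  have h1 : g * d.E (d.k g) ^ j ∈ orbit (MulAut G) g := ⟨d.psi ^ j, d.psi_pow_apply g j⟩
  have h2 := conj_mem_orbit (g * d.E (d.k g) ^ j) (d.y ^ i)
  rw [orbit_eq_iff.mpr h1] at h2
  exact h2

theorem orbElt_eq (g : G) (i j : ℕ) :
    d.orbElt g i j = g * d.E (d.k g) ^ j * d.z ^ (i * d.k (g * d.E (d.k g) ^ j)) := by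
  unfold orbElt
  rw [d.y_pow_comm, mul_assoc (g * d.E (d.k g) ^ j * d.y ^ i), ← d.zpow_cen, ← mul_assoc,
    mul_inv_cancel_right]

theorem card_orbit_ge [Finite G] (hp : p.Prime) (N : Subgroup G) [N.Normal] (hzN : d.z ∈ N)
    (hwN : d.w ∈ N) (hcN : orderOf (QuotientGroup.mk d.c : G ⧸ N) = p) (g : G) (hg : ¬ p ∣ d.k g) :
    p * p ≤ Nat.card (orbit (MulAut G) g) := by
  classical
  have hcard : Nat.card (Fin p × Fin p) = p * p := by simp
  rw [← hcard]
  refine Nat.card_le_card_of_injective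
    (fun ij : Fin p × Fin p => (⟨d.orbElt g ij.1 ij.2, d.orbElt_mem g _ _⟩ : orbit (MulAut G) g)) ?_
  rintro ⟨i, j⟩ ⟨i', j'⟩ h
  have h0 : d.orbElt g i j = d.orbElt g i' j' := congrArg Subtype.val h
  -- images in the quotient
  have hq : ∀ (a b : ℕ), (QuotientGroup.mk (d.orbElt g a b) : G ⧸ N) =
      QuotientGroup.mk g * (QuotientGroup.mk d.c : G ⧸ N) ^ (d.k g * b) := by
    intro a b
    rw [d.orbElt_eq]
    have hz1 : (QuotientGroup.mk d.z : G ⧸ N) = 1 := (QuotientGroup.eq_one_iff _).mpr hzN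
    have hw1 : (QuotientGroup.mk d.w : G ⧸ N) = 1 := (QuotientGroup.eq_one_iff _).mpr hwN
    simp only [QuotientGroup.mk_mul, QuotientGroup.mk_pow, E, hz1, hw1, one_pow, mul_one, pow_mul]
  have h1 := congrArg (QuotientGroup.mk : G → G ⧸ N) h0
  rw [hq, hq] at h1
  have h2 := mul_left_cancel h1
  have h3 := pow_eq_pow_iff_modEq.mp h2
  rw [hcN] at h3
  have hcop : Nat.Coprime p (d.k g) := (Nat.Prime.coprime_iff_not_dvd hp).mpr hg
  have h4 : (j : ℕ) ≡ j' [MOD p] := Nat.ModEq.cancel_left_of_coprime hcop h3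
  have hj : (j : ℕ) = j' := by
    have := Nat.ModEq.eq_of_lt_of_lt h4 j.2 j'.2
    exact this
  have hjj : j = j' := Fin.ext hj
  subst hjj
  rw [d.orbElt_eq, d.orbElt_eq] at h0
  have h5 := mul_left_cancel h0
  have h6 := pow_eq_pow_iff_modEq.mp h5
  rw [d.hz] at h6
  have hcop2 : Nat.Coprime p (d.k (g * d.E (d.k g) ^ (j : ℕ))) := by
    apply (Nat.Prime.coprime_iff_not_dvd hp).mpr
    intro hdvd
    apply hg
    have := d.k_mul_E_pow g j
    exact (Nat.modEq_zero_iff_dvd.mp ((this.symm.trans (Nat.modEq_zero_iff_dvd.mpr hdvd))))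
  have h7 : (i : ℕ) ≡ i' [MOD p] := by
    apply Nat.ModEq.cancel_right_of_coprime hcop2
    exact h6
  have hi : (i : ℕ) = i' := Nat.ModEq.eq_of_lt_of_lt h7 i.2 i'.2
  have hii : i = i' := Fin.ext hi
  rw [hii]

end TwistData

end Cfsg.Agent.Lib.Helper2.AutOrb
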