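import Mathlib
import Cfsg.Agent.Lib.Helper2.AutOrbB

/-!
helper2: groups whose commutator subgroup has order `p = minFac |G|`: building the twisting data
(for S4067).
-/

set_option autoImplicit false

namespace Cfsg.Agent.Lib.Helper2.AutOrb

open MulAction

section general

variable {G : Type*} [Group G]

theorem comm_mem (y g : G) : y * g * y⁻¹ * g⁻¹ ∈ commutator G := by
  have h := Subgroup.commutator_mem_commutator (Subgroup.mem_top y) (Subgroup.mem_top g)
  rw [commutatorElement_def] at h
  rw [_root_.commutator_def]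
  exact h

theorem comm_cen (hcen : commutator G ≤ Subgroup.center G) (y g u : G) :
    u * (y * g * y⁻¹ * g⁻¹) = (y * g * y⁻¹ * g⁻¹) * u :=
  (Subgroup.mem_center_iff.mp (hcen (comm_mem y g)) u)

/-- `y * g = g * y * [g⁻¹-type commutator]` -/
theorem mul_eq_comm (hcen : commutator G ≤ Subgroup.center G) (y g : G) :
    y * g = g * y * (y * g * y⁻¹ * g⁻¹) := by
  rw [mul_assoc g, comm_cen hcen y g y, ← mul_assoc, comm_cen hcen y g g]
  group

theorem comm_mul (hcen : commutator G ≤ Subgroup.center G) (y g h : G) :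
    y * (g * h) * y⁻¹ * (g * h)⁻¹ = (y * g * y⁻¹ * g⁻¹) * (y * h * y⁻¹ * h⁻¹) := by
  have h1 : y * (g * h) * y⁻¹ * (g * h)⁻¹ = y * g * y⁻¹ * (y * h * y⁻¹ * h⁻¹) * g⁻¹ := by group
  rw [h1, mul_assoc (y * g * y⁻¹), ← comm_cen hcen y h g⁻¹]
  simp only [mul_assoc]

/-- moving a power past an element -/
theorem pow_mul_comm' {g h u : G} (hu : g * h = h * g * u) (hc : ∀ a, a * u = u * a) (n : ℕ) :
    g ^ n * h = h * g ^ n * u ^ n := by
  induction n with
  | zero => simp
  | succ n ih =>
    have hun : ∀ a, a * u ^ n = u ^ n * a := fun a => (Commute.pow_right (hc a) n).eq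
    calc g ^ (n + 1) * h = g ^ n * (g * h) := by rw [pow_succ, mul_assoc]
      _ = g ^ n * h * g * u := by rw [hu]; simp only [mul_assoc]
      _ = h * g ^ n * u ^ n * g * u := by rw [ih]
      _ = h * g ^ n * g * (u ^ n * u) := by
          rw [mul_assoc (h * g ^ n), ← hun g]; simp only [mul_assoc]
      _ = h * g ^ (n + 1) * u ^ (n + 1) := by rw [← pow_succ, mul_assoc h, ← pow_succ]

theorem mul_pow_of_comm {g h u : G} (hu : h * g = g * h * u) (hc : ∀ a, a * u = u * a) (n : ℕ) :
    (g * h) ^ n = g ^ n * h ^ n * u ^ (n.choose 2) := by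
  induction n with
  | zero => simp
  | succ n ih =>
    have hun : ∀ (m : ℕ) a, a * u ^ m = u ^ m * a := fun m a => (Commute.pow_right (hc a) m).eq
    have h1 := pow_mul_comm' hu hc n
    have hch : (n + 1).choose 2 = n + n.choose 2 := by
      rw [Nat.choose_succ_succ' n 1, Nat.choose_one_right]
    calc (g * h) ^ (n + 1) = (g * h) ^ n * (g * h) := pow_succ _ _
      _ = g ^ n * h ^ n * u ^ (n.choose 2) * (g * h) := by rw [ih]
      _ = g ^ n * (h ^ n * g) * h * u ^ (n.choose 2) := by
          rw [mul_assoc (g ^ n * h ^ n) (u ^ (n.choose 2)) (g * h), ← hun (n.choose 2) (g * h)]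
          simp only [mul_assoc]
      _ = g ^ n * (g * h ^ n * u ^ n) * h * u ^ (n.choose 2) := by rw [h1]
      _ = g ^ n * g * (h ^ n * h) * (u ^ n * u ^ (n.choose 2)) := by
          have e1 : u ^ n * h = h * u ^ n := (hun n h).symm
          simp only [mul_assoc]
          rw [← mul_assoc (u ^ n) h, e1, mul_assoc]
      _ = g ^ (n + 1) * h ^ (n + 1) * u ^ ((n + 1).choose 2) := by
          rw [← pow_succ, ← pow_succ, ← pow_add, hch]

end general

section finite

variable {G : Type*} [Group G] [Finite G]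

/-- a normal subgroup whose order is the least prime divisor of `|G|` is central -/
theorem le_center_of_card_eq_minFac (D : Subgroup G) [D.Normal]
    (hD : Nat.card D = (Nat.card G).minFac) : D ≤ Subgroup.center G := by
  classical
  intro x hx
  by_cases hx1 : x = 1
  · rw [hx1]; exact Subgroup.one_mem _
  set p := (Nat.card G).minFac with hp
  -- the conjugation orbit of x
  have h1 : (orbit (ConjAct G) x).ncard ∣ Nat.card G := by
    rw [← MulAction.index_stabilizer]
    have := Subgroup.index_dvd_card (stabilizer (ConjAct G) x)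
    rwa [show Nat.card (ConjAct G) = Nat.card G from rfl] at this
  have h2 : orbit (ConjAct G) x ⊆ ((D : Set G) \ {1}) := by
    rintro _ ⟨u, rfl⟩
    obtain ⟨v, rfl⟩ : ∃ v : G, ConjAct.toConjAct v = u := ⟨ConjAct.ofConjAct u, rfl⟩
    change ConjAct.toConjAct v • x ∈ _
    rw [ConjAct.toConjAct_smul]
    refine ⟨‹D.Normal›.conj_mem x hx v, ?_⟩
    intro h
    apply hx1
    have : v * x * v⁻¹ = 1 := h
    have h3 : x = v⁻¹ * (v * x * v⁻¹) * v := by group
    rw [h3, this]; group
  have h3 : (orbit (ConjAct G) x).ncard ≤ p - 1 := by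
    have hfin : ((D : Set G) \ {1}).Finite := Set.toFinite _
    have h4 := Set.ncard_le_ncard h2 hfin
    have h5 : ((D : Set G) \ {1}).ncard = p - 1 := by
      rw [Set.ncard_sdiff_singleton_of_mem (show (1 : G) ∈ (D : Set G) from D.one_mem), ← hD]
      congr 1
    rw [h5] at h4
    exact h4
  have hGpos : Nat.card G ≠ 1 := by
    intro h
    have := (Nat.card_eq_one_iff_unique.mp h).1
    exact hx1 (Subsingleton.elim x 1)
  have hpp : p.Prime := Nat.minFac_prime hGpos
  have h6 : (orbit (ConjAct G) x).ncard = 1 := by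
    by_contra hne
    have hpos : 0 < (orbit (ConjAct G) x).ncard :=
      (Set.ncard_pos (Set.toFinite _)).mpr ⟨x, mem_orbit_self x⟩
    have h7 : 2 ≤ (orbit (ConjAct G) x).ncard := by omega
    have := Nat.minFac_le_of_dvd h7 h1
    have := hpp.two_le
    omega
  obtain ⟨a, ha⟩ := Set.ncard_eq_one.mp h6
  have hxa : x = a := by
    have : x ∈ orbit (ConjAct G) x := mem_orbit_self x
    rw [ha] at this
    exact this
  rw [Subgroup.mem_center_iff]
  intro g
  have : ConjAct.toConjAct g • x ∈ orbit (ConjAct G) x := ⟨_, rfl⟩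
  rw [ha, Set.mem_singleton_iff, ← hxa, ConjAct.toConjAct_smul] at this
  calc g * x = g * x * g⁻¹ * g := by group
    _ = x * g := by rw [this]

end finite

section prime

variable {G : Type*} [Group G] [Finite G] {p : ℕ}

/-- setting: the commutator subgroup is central of prime order `p` -/
structure Setting (G : Type*) [Group G] (p : ℕ) : Prop where
  hp : p.Prime
  hcen : commutator G ≤ Subgroup.center G
  hcard : Nat.card (commutator G) = p

namespace Setting

variable (S : Setting G p)
include S

theorem pow_eq_one {d : G} (hd : d ∈ commutator G) : d ^ p = 1 := by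
  have h := pow_card_eq_one' (G := commutator G) (x := ⟨d, hd⟩)
  rw [S.hcard] at h
  exact congrArg Subtype.val h

theorem exists_pow {z d : G} (hz : z ∈ commutator G) (hz1 : z ≠ 1) (hd : d ∈ commutator G) :
    ∃ k : ℕ, z ^ k = d := by
  haveI := Fact.mk S.hp
  have hne : (⟨z, hz⟩ : commutator G) ≠ 1 := fun h => hz1 (congrArg Subtype.val h)
  have h1 : (⟨d, hd⟩ : commutator G) ∈ Subgroup.zpowers (⟨z, hz⟩ : commutator G) :=
    mem_zpowers_of_prime_card S.hcard hne
  obtain ⟨k, hk⟩ := (mem_powers_iff_mem_zpowers.mpr h1)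
  exact ⟨k, congrArg Subtype.val hk⟩

theorem orderOf_eq {z : G} (hz : z ∈ commutator G) (hz1 : z ≠ 1) : orderOf z = p := by
  haveI := Fact.mk S.hp
  exact orderOf_eq_prime (S.pow_eq_one hz) hz1

theorem comm_ne_one {y x : G} (hyx : y * x ≠ x * y) : y * x * y⁻¹ * x⁻¹ ≠ 1 := by
  intro h
  apply hyx
  have : y * x = (y * x * y⁻¹ * x⁻¹) * (x * y) := by group
  rw [this, h, one_mul]

theorem exists_k {y x : G} (hyx : y * x ≠ x * y) :
    ∃ k : G → ℕ, ∀ g, y * g = g * y * (y * x * y⁻¹ * x⁻¹) ^ k g := by
  have h : ∀ g, ∃ k : ℕ, (y * x * y⁻¹ * x⁻¹) ^ k = y * g * y⁻¹ * g⁻¹ :=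
    fun g => S.exists_pow (comm_mem y x) (S.comm_ne_one hyx) (comm_mem y g)
  choose k hk using h
  refine ⟨k, fun g => ?_⟩
  rw [hk g]
  exact mul_eq_comm S.hcen y g

theorem twist_central {y x c : G} (hyx : y * x ≠ x * y) (hcZ : c ∈ Subgroup.center G)
    (hcp : c ^ p = 1) :
    ∃ d : TwistData G p, d.y = y ∧ d.c = c ∧ d.z ∈ commutator G ∧ d.w ∈ commutator G := by
  obtain ⟨k, hk⟩ := S.exists_k hyx
  refine ⟨{ y := y, c := c, z := y * x * y⁻¹ * x⁻¹, w := 1, k := k,
            z_cen := fun g => comm_cen S.hcen y x g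
            w_cen := fun g => by simp
            hy := hk
            hc := fun g => by
              simp only [one_pow, mul_one]
              exact (Subgroup.mem_center_iff.mp hcZ g).symm
            hyc := Subgroup.mem_center_iff.mp hcZ y
            hz := S.orderOf_eq (comm_mem y x) (S.comm_ne_one hyx)
            hE := by simp [hcp]
            hw := one_pow p }, rfl, rfl, comm_mem y x, Subgroup.one_mem _⟩

theorem twist_self {c x : G} (hcx : c * x ≠ x * c)
    (hE : c ^ p * (c * x * c⁻¹ * x⁻¹) ^ (p.choose 2) = 1) :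
    ∃ d : TwistData G p, d.y = c ∧ d.c = c ∧ d.z ∈ commutator G ∧ d.w ∈ commutator G := by
  obtain ⟨k, hk⟩ := S.exists_k hcx
  refine ⟨{ y := c, c := c, z := c * x * c⁻¹ * x⁻¹, w := c * x * c⁻¹ * x⁻¹, k := k,
            z_cen := fun g => comm_cen S.hcen c x g
            w_cen := fun g => comm_cen S.hcen c x g
            hy := hk
            hc := hk
            hyc := rfl
            hz := S.orderOf_eq (comm_mem c x) (S.comm_ne_one hcx)
            hE := hE
            hw := S.pow_eq_one (comm_mem c x) }, rfl, rfl, comm_mem c x, comm_mem c x⟩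

/-- the centralizer of a noncentral element has index `p` -/
theorem card_centralizer_mul {y : G} (hy : y ∉ Subgroup.center G) :
    Nat.card (Subgroup.centralizer ({y} : Set G)) * p = Nat.card G := by
  let φ : G →* G := MonoidHom.mk' (fun g => y * g * y⁻¹ * g⁻¹) (comm_mul S.hcen y)
  have hker : φ.ker = Subgroup.centralizer ({y} : Set G) := by
    ext g
    rw [MonoidHom.mem_ker, Subgroup.mem_centralizer_iff]
    change y * g * y⁻¹ * g⁻¹ = 1 ↔ _
    constructor
    · intro h a ha
      rw [Set.mem_singleton_iff] at ha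
      subst ha
      have : a * g = (a * g * a⁻¹ * g⁻¹) * (g * a) := by group
      rw [this, h, one_mul]
    · intro h
      have := h y rfl
      calc y * g * y⁻¹ * g⁻¹ = (y * g) * y⁻¹ * g⁻¹ := by group
        _ = (g * y) * y⁻¹ * g⁻¹ := by rw [this]
        _ = 1 := by group
  have hrange : φ.range ≤ commutator G := by
    rintro _ ⟨g, rfl⟩
    exact comm_mem y g
  have hne : Nat.card φ.range ≠ 1 := by
    intro h
    apply hy
    rw [Subgroup.mem_center_iff]
    intro g
    have h1 : φ.range = ⊥ := Subgroup.card_eq_one.mp h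
    have h2 : φ g ∈ φ.range := ⟨g, rfl⟩
    rw [h1, Subgroup.mem_bot] at h2
    have h3 : y * g * y⁻¹ * g⁻¹ = 1 := h2
    have : y * g = (y * g * y⁻¹ * g⁻¹) * (g * y) := by group
    rw [this, h3, one_mul]
  have hdvd : Nat.card φ.range ∣ p := by
    rw [← S.hcard]
    exact Subgroup.card_dvd_of_le hrange
  have hp := (Nat.dvd_prime S.hp).mp hdvd
  have hcr : Nat.card φ.range = p := hp.resolve_left hne
  rw [← hker, ← hcr, ← Subgroup.index_ker, Subgroup.card_mul_index]

end Setting

end prime

end Cfsg.Agent.Lib.Helper2.AutOrb
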