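import Mathlib
import Cfsg.Agent.Lib.Helper2.AutOrbC

/-!
helper2: the orbit count `p * #(Aut-orbits) ≤ |G|` from twisting data (for S4067).
-/

set_option autoImplicit false

namespace Cfsg.Agent.Lib.Helper2.AutOrb

open MulAction

theorem arith_aux (p q N m zc S : ℕ) (hp : 2 ≤ p) (h1 : p * p * q ≤ S)
    (h2 : S + p * zc + m = p * p * zc + p * m + N) (h3 : m * p = N) (h4 : zc * (p * p) ≤ N) :
    p * q ≤ N := by
  obtain ⟨r, rfl⟩ : ∃ r, p = r + 2 := ⟨p - 2, by omega⟩
  by_contra hcon
  have h5 : N + 1 ≤ (r + 2) * q := by omega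
  have e1 := Nat.mul_le_mul_left (r + 2) h1
  have e2 := congrArg (fun t => (r + 2) * t) h2
  have e4 := Nat.mul_le_mul_left (r + 1) h4
  have e5 := Nat.mul_le_mul_left ((r + 2) * (r + 2)) h5
  have e6 := congrArg (fun t => (r + 2) * t) h3
  have e7 := congrArg (fun t => (r + 2) * (r + 2) * t) h3
  have n1 := Nat.zero_le (r * r * N)
  have n2 := Nat.zero_le (r * N)
  nlinarith [e1, e2, e4, e5, e6, e7, n1, n2, h3]

section

variable {G : Type*} [Group G] [Finite G]

theorem conj_orbit_subset (g : G) : orbit (ConjAct G) g ⊆ orbit (MulAut G) g := by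
  rintro _ ⟨u, rfl⟩
  obtain ⟨v, rfl⟩ : ∃ v : G, ConjAct.toConjAct v = u := ⟨ConjAct.ofConjAct u, rfl⟩
  change ConjAct.toConjAct v • g ∈ _
  rw [ConjAct.toConjAct_smul]
  exact conj_mem_orbit g v

theorem mem_center_of_conj_orbit_ncard {g : G} (h : (orbit (ConjAct G) g).ncard = 1) :
    g ∈ Subgroup.center G := by
  obtain ⟨a, ha⟩ := Set.ncard_eq_one.mp h
  have hxa : g = a := by
    have : g ∈ orbit (ConjAct G) g := mem_orbit_self g
    rw [ha] at this
    exact this
  rw [Subgroup.mem_center_iff]
  intro u
  have : ConjAct.toConjAct u • g ∈ orbit (ConjAct G) g := ⟨_, rfl⟩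
  rw [ha, Set.mem_singleton_iff, ← hxa, ConjAct.toConjAct_smul] at this
  calc u * g = u * g * u⁻¹ * u := by group
    _ = g * u := by rw [this]

/-- noncentral elements have automorphism orbits of size at least the least prime divisor -/
theorem minFac_le_card_orbit {g : G} (hg : g ∉ Subgroup.center G) :
    (Nat.card G).minFac ≤ Nat.card (orbit (MulAut G) g) := by
  have h1 : (orbit (ConjAct G) g).ncard ∣ Nat.card G := by
    rw [← MulAction.index_stabilizer]
    have := Subgroup.index_dvd_card (stabilizer (ConjAct G) g)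
    rwa [show Nat.card (ConjAct G) = Nat.card G from rfl] at this
  have hpos : 0 < (orbit (ConjAct G) g).ncard :=
    (Set.ncard_pos (Set.toFinite _)).mpr ⟨g, mem_orbit_self g⟩
  have hne : (orbit (ConjAct G) g).ncard ≠ 1 := fun h => hg (mem_center_of_conj_orbit_ncard h)
  have h2 : 2 ≤ (orbit (ConjAct G) g).ncard := by omega
  have h3 := Nat.minFac_le_of_dvd h2 h1
  have h4 := Set.ncard_le_ncard (conj_orbit_subset g) (Set.toFinite _)
  rw [Nat.card_coe_set_eq]
  omega

theorem sum_ite_mem [Fintype G] (H : Subgroup G) [DecidablePred (· ∈ H)] (a : ℕ) :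
    ∑ g : G, (if g ∈ H then a else 0) = Nat.card H * a := by
  rw [Finset.sum_ite, Finset.sum_const_zero, add_zero, Finset.sum_const, smul_eq_mul,
    Nat.card_eq_fintype_card, Fintype.card_subtype]

/-- The main count. -/
theorem Setting.orbits_le {p : ℕ} (S : Setting G p) (hpmin : p = (Nat.card G).minFac)
    (hZ : Nat.card (Subgroup.center G) * (p * p) ≤ Nat.card G) (d : TwistData G p)
    (hdy : d.y ∉ Subgroup.center G) (hdz : d.z ∈ commutator G) (hdw : d.w ∈ commutator G)
    (hc : d.c ∉ commutator G) (hcp : d.c ^ p ∈ commutator G) :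
    p * Nat.card (orbitRel.Quotient (MulAut G) G) ≤ Nat.card G := by
  classical
  haveI : Fintype G := Fintype.ofFinite G
  haveI := Fact.mk S.hp
  set M := Subgroup.centralizer ({d.y} : Set G) with hM
  set Z := Subgroup.center G with hZdef
  have hMcard : Nat.card M * p = Nat.card G := S.card_centralizer_mul hdy
  have hZM : Z ≤ M := Subgroup.center_le_centralizer _
  have hcN : orderOf (QuotientGroup.mk d.c : G ⧸ commutator G) = p := by
    apply orderOf_eq_prime
    · rw [← QuotientGroup.mk_pow]
      exact (QuotientGroup.eq_one_iff _).mpr hcp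
    · intro h
      exact hc ((QuotientGroup.eq_one_iff _).mp h)
  have hmemM : ∀ g, g ∈ M ↔ d.y * g = g * d.y := by
    intro g
    rw [hM, Subgroup.mem_centralizer_iff]
    constructor
    · intro h; exact h d.y rfl
    · intro h a ha
      rw [Set.mem_singleton_iff] at ha
      rw [ha]; exact h
  let W : G → ℕ := fun g => if g ∈ Z then p * p else if g ∈ M then p else 1
  have hp2 : 2 ≤ p := S.hp.two_le
  have key : ∀ g, p * p ≤ W g * Nat.card (orbit (MulAut G) g) := by
    intro g
    have hpos : 1 ≤ Nat.card (orbit (MulAut G) g) := by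
      have : Nonempty (orbit (MulAut G) g) := ⟨⟨g, mem_orbit_self g⟩⟩
      exact Nat.card_pos
    by_cases hgZ : g ∈ Z
    · simp only [W, if_pos hgZ]
      exact Nat.le_mul_of_pos_right _ hpos
    · by_cases hgM : g ∈ M
      · simp only [W, if_neg hgZ, if_pos hgM]
        have := minFac_le_card_orbit hgZ
        rw [← hpmin] at this
        exact Nat.mul_le_mul_left p this
      · simp only [W, if_neg hgZ, if_neg hgM, one_mul]
        apply d.card_orbit_ge S.hp (commutator G) hdz hdw hcN g
        intro hdvd
        apply hgM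
        rw [hmemM]
        have h1 := d.hy g
        have h2 : d.z ^ d.k g = 1 := by
          have hz := d.hz
          have h3 : orderOf d.z ∣ d.k g := by rw [hz]; exact hdvd
          exact orderOf_dvd_iff_pow_eq_one.mp h3
        rw [h2, mul_one] at h1
        exact h1
  have hbound := orbits_bound (A := MulAut G) (p * p) W key
  -- compute the sum
  have hsum : (∑ g, W g) + p * Nat.card Z + Nat.card M
      = p * p * Nat.card Z + p * Nat.card M + Nat.card G := by
    have e1 : ∀ g : G, W g + (if g ∈ Z then p else 0) + (if g ∈ M then 1 else 0)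
        = (if g ∈ Z then p * p else 0) + (if g ∈ M then p else 0) + 1 := by
      intro g
      by_cases hgZ : g ∈ Z
      · have hgM : g ∈ M := hZM hgZ
        simp only [W, if_pos hgZ, if_pos hgM]
      · by_cases hgM : g ∈ M
        · simp only [W, if_neg hgZ, if_pos hgM]; ring
        · simp only [W, if_neg hgZ, if_neg hgM]
    have e2 := Finset.sum_congr (rfl : (Finset.univ : Finset G) = Finset.univ) (fun g _ => e1 g)
    rw [Finset.sum_add_distrib, Finset.sum_add_distrib, Finset.sum_add_distrib, Finset.sum_add_distrib,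
      sum_ite_mem, sum_ite_mem, sum_ite_mem, sum_ite_mem, Finset.sum_const, Finset.card_univ,
      ← Nat.card_eq_fintype_card] at e2
    simp only [smul_eq_mul, mul_one] at e2
    rw [mul_comm (Nat.card Z) p, mul_comm (Nat.card Z) (p * p), mul_comm (Nat.card M) p] at e2
    exact e2
  exact arith_aux p _ (Nat.card G) (Nat.card M) (Nat.card Z) (∑ g, W g) hp2 hbound hsum hMcard hZ

end

end Cfsg.Agent.Lib.Helper2.AutOrb
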