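import Mathlib
import Cfsg.Agent.Lib.Helper2.AutOrbD

/-!
helper2: existence of the twisting data when `|G'| = p` is the least prime divisor of `|G|` (for S4067).
-/

set_option autoImplicit false

namespace Cfsg.Agent.Lib.Helper2.AutOrb

open MulAction

section

variable {G : Type*} [Group G] [Finite G] {p : ℕ}

namespace Setting

variable (S : Setting G p)
include S

theorem exists_not_comm : ∃ y x : G, y * x ≠ x * y := by
  by_contra h
  push Not at h
  have h1 : commutator G = ⊥ := by
    rw [_root_.commutator_def, Subgroup.commutator_top_right_eq_bot_iff_le_center]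
    intro g _
    rw [Subgroup.mem_center_iff]
    intro a
    exact h a g
  have h2 := S.hcard
  rw [h1, Subgroup.card_bot] at h2
  exact S.hp.one_lt.ne h2

theorem exists_not_comm_of_not_mem_center {c : G} (hc : c ∉ Subgroup.center G) :
    ∃ x : G, c * x ≠ x * c := by
  by_contra h
  push Not at h
  apply hc
  rw [Subgroup.mem_center_iff]
  intro a
  exact (h a).symm

/-- `h * g = g * h * u` with `u` a central commutator -/
theorem swap_eq (g h : G) : h * g = g * h * (h⁻¹ * g⁻¹ * h * g) := by group

theorem swap_mem (g h : G) : h⁻¹ * g⁻¹ * h * g ∈ commutator G := by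
  have := comm_mem h⁻¹ g⁻¹
  simpa using this

theorem swap_cen (g h a : G) : a * (h⁻¹ * g⁻¹ * h * g) = (h⁻¹ * g⁻¹ * h * g) * a :=
  Subgroup.mem_center_iff.mp (S.hcen (S.swap_mem g h)) a

/-- `p`-th powers are central -/
theorem pow_mem_center (g : G) : g ^ p ∈ Subgroup.center G := by
  rw [Subgroup.mem_center_iff]
  intro h
  have h1 := pow_mul_comm' (S.swap_eq h g) (S.swap_cen h g) p
  rw [S.pow_eq_one (S.swap_mem h g), mul_one] at h1
  exact h1.symm

theorem data_odd (hp2 : p ≠ 2) (hZ : Nat.card (Subgroup.center G) * (p * p) ≤ Nat.card G) :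
    ∃ d : TwistData G p, d.y ∉ Subgroup.center G ∧ d.z ∈ commutator G ∧ d.w ∈ commutator G ∧
      d.c ∉ commutator G ∧ d.c ^ p ∈ commutator G := by
  have hp := S.hp
  have h2p : 2 < p := lt_of_le_of_ne hp.two_le (Ne.symm hp2)
  have hch : p ∣ p.choose 2 := Nat.Prime.dvd_choose_self hp (by norm_num) h2p
  have hpow : ∀ {u : G}, u ∈ commutator G → u ^ (p.choose 2) = 1 := by
    intro u hu
    obtain ⟨t, ht⟩ := hch
    rw [ht, pow_mul, S.pow_eq_one hu, one_pow]
  let φ : G →* G := MonoidHom.mk' (fun g => g ^ p) (by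
    intro g h
    have := mul_pow_of_comm (S.swap_eq g h) (S.swap_cen g h) p
    rw [hpow (S.swap_mem g h), mul_one] at this
    exact this)
  have hrange : φ.range ≤ Subgroup.center G := by
    rintro _ ⟨g, rfl⟩
    exact S.pow_mem_center g
  have hker : commutator G ≤ φ.ker := by
    intro d hd
    rw [MonoidHom.mem_ker]
    exact S.pow_eq_one hd
  have hcard : Nat.card φ.ker * Nat.card φ.range = Nat.card G := by
    rw [← Subgroup.index_ker, Subgroup.card_mul_index]
  have hle : Nat.card φ.range ≤ Nat.card (Subgroup.center G) := Subgroup.card_le_of_le hrange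
  have hZpos : 0 < Nat.card (Subgroup.center G) := Nat.card_pos
  have hkerbig : p * p ≤ Nat.card φ.ker := by
    have h1 : Nat.card (Subgroup.center G) * (p * p) ≤ Nat.card φ.ker * Nat.card (Subgroup.center G) := by
      calc Nat.card (Subgroup.center G) * (p * p) ≤ Nat.card G := hZ
        _ = Nat.card φ.ker * Nat.card φ.range := hcard.symm
        _ ≤ Nat.card φ.ker * Nat.card (Subgroup.center G) := Nat.mul_le_mul_left _ hle
    rw [mul_comm] at h1
    exact Nat.le_of_mul_le_mul_right h1 hZpos
  obtain ⟨c, hcker, hcD⟩ : ∃ c, c ∈ φ.ker ∧ c ∉ commutator G := by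
    by_contra h
    push Not at h
    have h1 : φ.ker ≤ commutator G := fun c hc => h c hc
    have h2 := Subgroup.card_le_of_le h1
    rw [S.hcard] at h2
    have : p < p * p := by nlinarith [hp.two_le]
    omega
  have hcp : c ^ p = 1 := hcker
  obtain ⟨y, x, hyx⟩ := S.exists_not_comm
  by_cases hcZ : c ∈ Subgroup.center G
  · obtain ⟨d, hdy, hdc, hdz, hdw⟩ := S.twist_central hyx hcZ hcp
    refine ⟨d, ?_, hdz, hdw, ?_, ?_⟩
    · rw [hdy]
      intro hy
      exact hyx (Subgroup.mem_center_iff.mp hy x).symm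
    · rw [hdc]; exact hcD
    · rw [hdc, hcp]; exact Subgroup.one_mem _
  · obtain ⟨x', hcx⟩ := S.exists_not_comm_of_not_mem_center hcZ
    have hE : c ^ p * (c * x' * c⁻¹ * x'⁻¹) ^ (p.choose 2) = 1 := by
      rw [hcp, hpow (comm_mem c x'), one_mul]
    obtain ⟨d, hdy, hdc, hdz, hdw⟩ := S.twist_self hcx hE
    refine ⟨d, ?_, hdz, hdw, ?_, ?_⟩
    · rw [hdy]; exact hcZ
    · rw [hdc]; exact hcD
    · rw [hdc, hcp]; exact Subgroup.one_mem _

end Setting

theorem data_two (S : Setting G 2) :
    ∃ d : TwistData G 2, d.y ∉ Subgroup.center G ∧ d.z ∈ commutator G ∧ d.w ∈ commutator G ∧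
      d.c ∉ commutator G ∧ d.c ^ 2 ∈ commutator G := by
  classical
  obtain ⟨y, x, hyx⟩ := S.exists_not_comm
  -- any two nontrivial elements of `G'` coincide
  have huniq : ∀ {a b : G}, a ∈ commutator G → b ∈ commutator G → a ≠ 1 → b ≠ 1 → a = b := by
    intro a b ha hb ha1 hb1
    obtain ⟨k, hk⟩ := S.exists_pow ha ha1 hb
    have ha2 : a ^ 2 = 1 := S.pow_eq_one ha
    rcases Nat.even_or_odd' k with ⟨m, rfl | rfl⟩
    · rw [pow_mul, ha2, one_pow] at hk
      exact absurd hk.symm hb1
    · rw [pow_succ, pow_mul, ha2, one_pow, one_mul] at hk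
      exact hk
  have hynZ : y ∉ Subgroup.center G := fun hy => hyx (Subgroup.mem_center_iff.mp hy x).symm
  by_cases hA : ∃ t, t ∈ Subgroup.center G ∧ t ^ 2 = 1 ∧ t ∉ commutator G
  · obtain ⟨t, htZ, ht2, htD⟩ := hA
    obtain ⟨d, hdy, hdc, hdz, hdw⟩ := S.twist_central hyx htZ ht2
    refine ⟨d, by rw [hdy]; exact hynZ, hdz, hdw, by rw [hdc]; exact htD, ?_⟩
    rw [hdc, ht2]; exact Subgroup.one_mem _
  · push Not at hA
    set u : G := x⁻¹ * y⁻¹ * x * y with hu
    have huD : u ∈ commutator G := S.swap_mem y x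
    have hu1 : u ≠ 1 := by
      intro h
      apply hyx
      have := S.swap_eq y x
      rw [← hu, h, mul_one] at this
      exact this.symm
    have hu2 : u ^ 2 = 1 := S.pow_eq_one huD
    let sq : Subgroup.center G →* Subgroup.center G := MonoidHom.mk' (fun t => t ^ 2) (by
      intro a b
      have hab : Commute a b := by
        have h := Subgroup.mem_center_iff.mp a.2 (b : G)
        exact Subtype.ext h.symm
      exact hab.mul_pow 2)
    have hsq : ∀ t : Subgroup.center G, sq t = t ^ 2 := fun t => rfl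
    -- the kernel of squaring has order 2
    have hker_le : Nat.card sq.ker ≤ 2 := by
      rw [← S.hcard]
      refine Nat.card_le_card_of_injective
        (fun t : sq.ker => (⟨((t : Subgroup.center G) : G), hA _ (t : Subgroup.center G).2 (by
          have h1 : sq (t : Subgroup.center G) = 1 := t.2
          rw [hsq] at h1
          have := congrArg (Subtype.val) h1
          simpa using this)⟩ : commutator G)) ?_
      intro t t' h
      have h1 : ((t : Subgroup.center G) : G) = ((t' : Subgroup.center G) : G) := by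
        have := congrArg Subtype.val h
        exact this
      exact Subtype.ext (Subtype.ext h1)
    have hker_ne : Nat.card sq.ker ≠ 1 := by
      intro h
      have h1 : sq.ker = ⊥ := Subgroup.card_eq_one.mp h
      have h2 : (⟨u, S.hcen huD⟩ : Subgroup.center G) ∈ sq.ker := by
        rw [MonoidHom.mem_ker, hsq]
        exact Subtype.ext hu2
      rw [h1, Subgroup.mem_bot] at h2
      exact hu1 (congrArg Subtype.val h2)
    have hker_pos : 0 < Nat.card sq.ker := Nat.card_pos
    have hker2 : Nat.card sq.ker = 2 := by omega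
    have hidx : sq.range.index = 2 := by
      have h1 := Subgroup.card_mul_index sq.ker
      have h2 := Subgroup.card_mul_index sq.range
      rw [Subgroup.index_ker] at h1
      have h3 : 0 < Nat.card sq.range := Nat.card_pos
      have h4 : Nat.card sq.range * sq.range.index = Nat.card sq.range * Nat.card sq.ker := by
        rw [h2, ← h1, mul_comm]
      rw [← hker2]
      exact Nat.eq_of_mul_eq_mul_left h3 h4
    -- squares are central
    have hsqZ : ∀ g : G, g ^ 2 ∈ Subgroup.center G := fun g => S.pow_mem_center g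
    set e : Subgroup.center G := ⟨u, S.hcen huD⟩ with he
    have hyx2 : (y * x) ^ 2 = y ^ 2 * x ^ 2 * u := by
      have := mul_pow_of_comm (S.swap_eq y x) (S.swap_cen y x) 2
      simpa using this
    have hkey : ∃ g : G, g ∉ Subgroup.center G ∧
        (((⟨g ^ 2, hsqZ g⟩ : Subgroup.center G) ∈ sq.range) ↔ e ∈ sq.range) := by
      by_cases h1 : ((⟨y ^ 2, hsqZ y⟩ : Subgroup.center G) ∈ sq.range) ↔ e ∈ sq.range
      · exact ⟨y, hynZ, h1⟩
      by_cases h2 : ((⟨x ^ 2, hsqZ x⟩ : Subgroup.center G) ∈ sq.range) ↔ e ∈ sq.range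
      · refine ⟨x, ?_, h2⟩
        intro hx
        exact hyx (Subgroup.mem_center_iff.mp hx y)
      refine ⟨y * x, ?_, ?_⟩
      · intro h
        apply hyx
        have h3 := Subgroup.mem_center_iff.mp h x
        have h4 : x * (y * x) = (x * y) * x := by group
        have h5 : y * x * x = (y * x) * x := rfl
        rw [h4] at h3
        exact (mul_right_cancel h3).symm
      · have h3 : (⟨(y * x) ^ 2, hsqZ (y * x)⟩ : Subgroup.center G) =
            (⟨y ^ 2, hsqZ y⟩ : Subgroup.center G) * ⟨x ^ 2, hsqZ x⟩ * e := by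
          apply Subtype.ext
          simp only [Subgroup.coe_mul, he]
          exact hyx2
        rw [h3, Subgroup.mul_mem_iff_of_index_two hidx, Subgroup.mul_mem_iff_of_index_two hidx]
        tauto
    obtain ⟨g, hgZ, hg⟩ := hkey
    have hmem : (⟨g ^ 2, hsqZ g⟩ : Subgroup.center G) * e ∈ sq.range :=
      (Subgroup.mul_mem_iff_of_index_two hidx).mpr hg
    obtain ⟨t, ht⟩ := hmem
    have ht' : (t : G) ^ 2 = g ^ 2 * u := by
      rw [hsq] at ht
      have := congrArg Subtype.val ht
      simpa [he] using this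
    have htcen : ∀ a : G, a * (t : G)⁻¹ = (t : G)⁻¹ * a := by
      intro a
      have := Subgroup.mem_center_iff.mp (Subgroup.inv_mem _ t.2) a
      exact this
    set c : G := g * (t : G)⁻¹ with hc
    have hc2 : c ^ 2 = u⁻¹ := by
      have h1 : c ^ 2 = g ^ 2 * ((t : G) ^ 2)⁻¹ := by
        rw [hc, pow_two, pow_two, pow_two, mul_assoc, ← mul_assoc (t : G)⁻¹, ← htcen g]
        group
      have h2 : g ^ 2 * u = u * g ^ 2 := S.swap_cen y x (g ^ 2)
      rw [h1, ht', h2]
      group
    have hcZ : c ∉ Subgroup.center G := by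
      intro h
      apply hgZ
      have : g = c * (t : G) := by rw [hc]; group
      rw [this]
      exact Subgroup.mul_mem _ h t.2
    have hcD : c ∉ commutator G := fun h => hcZ (S.hcen h)
    have hc2D : c ^ 2 ∈ commutator G := by rw [hc2]; exact Subgroup.inv_mem _ huD
    have hc21 : c ^ 2 ≠ 1 := by
      rw [hc2]
      intro h
      exact hu1 (inv_eq_one.mp h)
    obtain ⟨x', hcx⟩ := S.exists_not_comm_of_not_mem_center hcZ
    have hz1 := S.comm_ne_one hcx
    have hzD := comm_mem c x'
    have heq : c ^ 2 = c * x' * c⁻¹ * x'⁻¹ := huniq hc2D hzD hc21 hz1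
    have hE : c ^ 2 * (c * x' * c⁻¹ * x'⁻¹) ^ (Nat.choose 2 2) = 1 := by
      rw [Nat.choose_self, pow_one, ← heq, ← pow_add]
      have := S.pow_eq_one hc2D
      rw [← pow_mul] at this
      exact this
    obtain ⟨d, hdy, hdc, hdz, hdw⟩ := S.twist_self hcx hE
    refine ⟨d, by rw [hdy]; exact hcZ, hdz, hdw, by rw [hdc]; exact hcD, by rw [hdc]; exact hc2D⟩

end

end Cfsg.Agent.Lib.Helper2.AutOrb
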