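import Mathlib
import Cfsg.Prelude.Def_Blocks
import Cfsg.Agent.Lib.Lead.CharMain
import Cfsg.Agent.Lib.Lead.SecondMain6
import Cfsg.Agent.Lib.Helper24.IrrFacts
import Cfsg.Agent.Lib.Helper21.IsaacsCor126

/-!
helper2: if `p * k(G) > |G|` for the least prime divisor `p` of `|G|` and `G` is nonabelian,
then `|G'| = p` (character degree count; for S4067).
-/

set_option autoImplicit false

namespace Cfsg.Agent.Lib.Helper2.AutOrb

open Cfsg Cfsg.Agent.CharLib Cfsg.Agent.Lib.Helper24

universe u

section

variable {G : Type u} [Group G] [Fintype G]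

theorem sum_charDegree_sq [Fintype (IrrCharacter G)] :
    ∑ χ : IrrCharacter G, charDegree (χ : G → ℂ) ^ 2 = Nat.card G := by
  have h := finsum_irr_apply_one_sq (G := G)
  rw [finsum_eq_sum_of_fintype] at h
  have h2 : ∑ χ : IrrCharacter G, ((charDegree (χ : G → ℂ) : ℕ) : ℂ) ^ 2 = (Nat.card G : ℂ) := by
    rw [← h]
    apply Finset.sum_congr rfl
    intro χ _
    rw [irr_apply_one]
  exact_mod_cast h2

theorem sum_charDegree_trivOn (N : Subgroup G) [N.Normal] [Fintype N] [Fintype (IrrCharacter G)]
    [DecidablePred (fun χ : IrrCharacter G => TrivOn N (χ : G → ℂ))] :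
    ∑ χ : IrrCharacter G, (if TrivOn N (χ : G → ℂ) then
      charDegree (χ : G → ℂ) * charDegree (χ : G → ℂ) else 0) = N.index := by
  have h := sum_sq_trivOn N
  have h2 : ∑ χ : IrrCharacter G, (((if TrivOn N (χ : G → ℂ) then
      charDegree (χ : G → ℂ) * charDegree (χ : G → ℂ) else 0 : ℕ)) : ℂ) = (N.index : ℂ) := by
    rw [← h]
    apply Finset.sum_congr rfl
    intro χ _
    by_cases ht : TrivOn N (χ : G → ℂ)
    · rw [if_pos ht, if_pos ht, irr_apply_one]
      push_cast
      rfl
    · rw [if_neg ht, if_neg ht]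
      simp
  exact_mod_cast h2

theorem trivOn_commutator_of_degree_one (χ : IrrCharacter G) (h : charDegree (χ : G → ℂ) = 1) :
    TrivOn (commutator G) (χ : G → ℂ) := by
  have h1 : (χ : G → ℂ) 1 = 1 := by rw [irr_apply_one, h]; simp
  intro n
  rw [Cfsg.Agent.Lib.Helper21.Isaacs.irr_apply_commutator_of_linear χ h1 n n.2, h1]

end

theorem card_commutator_eq_minFac {G : Type u} [Group G] [Finite G] (hna : ¬ IsMulCommutative G)
    (hk : Nat.card G < (Nat.card G).minFac * Nat.card (ConjClasses G)) :
    Nat.card (commutator G) = (Nat.card G).minFac := by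
  classical
  letI : Fintype G := Fintype.ofFinite G
  letI : Fintype (IrrCharacter G) := fintypeIrr G
  letI : Fintype (commutator G) := Fintype.ofFinite _
  set p := (Nat.card G).minFac with hp
  set D : Subgroup G := commutator G with hD
  have hN1 : Nat.card G ≠ 1 := by
    intro h
    apply hna
    have : Subsingleton G := (Nat.card_eq_one_iff_unique.mp h).1
    exact ⟨⟨fun a b => Subsingleton.elim _ _⟩⟩
  have hpp : p.Prime := Nat.minFac_prime hN1
  have hpos : 0 < p := hpp.pos
  -- the three sums
  have hS1 := sum_charDegree_sq (G := G)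
  have hS2 := sum_charDegree_trivOn (G := G) D
  have hk' : Nat.card (ConjClasses G) = ∑ _χ : IrrCharacter G, 1 := by
    rw [← card_irrCharacter, Nat.card_eq_fintype_card]
    simp
  set B := (Finset.univ.filter (fun χ : IrrCharacter G => ¬ TrivOn D (χ : G → ℂ))).card with hB
  have hBsum : ∀ c : ℕ, ∑ χ : IrrCharacter G, (if TrivOn D (χ : G → ℂ) then 0 else c) = B * c := by
    intro c
    rw [Finset.sum_ite, Finset.sum_const_zero, zero_add, Finset.sum_const, smul_eq_mul]
  -- degrees
  have hdeg : ∀ χ : IrrCharacter G, ¬ TrivOn D (χ : G → ℂ) → p ≤ charDegree (χ : G → ℂ) := by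
    intro χ ht
    have h1 : charDegree (χ : G → ℂ) ≠ 1 := fun h => ht (trivOn_commutator_of_degree_one χ h)
    have h2 := irr_charDegree_pos χ
    have h3 := irr_charDegree_dvd_card χ
    exact Nat.minFac_le_of_dvd (by omega) h3
  -- first inequality: a + p*p*B ≤ N
  have hI1 : D.index + B * (p * p) ≤ Nat.card G := by
    rw [← hS1, ← hS2, ← hBsum (p * p), ← Finset.sum_add_distrib]
    apply Finset.sum_le_sum
    intro χ _
    by_cases ht : TrivOn D (χ : G → ℂ)
    · rw [if_pos ht, if_pos ht, add_zero, pow_two]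
    · rw [if_neg ht, if_neg ht, zero_add, pow_two]
      exact Nat.mul_le_mul (hdeg χ ht) (hdeg χ ht)
  -- second inequality: k ≤ a + B
  have hI2 : Nat.card (ConjClasses G) ≤ D.index + B := by
    rw [hk', ← hS2, ← mul_one B, ← hBsum 1, ← Finset.sum_add_distrib]
    apply Finset.sum_le_sum
    intro χ _
    by_cases ht : TrivOn D (χ : G → ℂ)
    · rw [if_pos ht, if_pos ht, add_zero]
      have := irr_charDegree_pos χ
      exact Nat.mul_pos this this
    · rw [if_neg ht, if_neg ht, zero_add]
  -- conclude |D| ≤ p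
  have hidx := Subgroup.index_mul_card D
  have hDle : Nat.card D ≤ p := by
    by_contra hlt
    push Not at hlt
    have h1 : (p + 1) * D.index ≤ Nat.card G := by
      rw [← hidx, mul_comm]
      exact Nat.mul_le_mul_left _ hlt
    have h2 : p * Nat.card (ConjClasses G) ≤ Nat.card G := by
      have h3 : p * (p * Nat.card (ConjClasses G)) ≤ p * Nat.card G := by
        have hp1 : 1 ≤ p := hpos
        nlinarith [Nat.mul_le_mul_left (p * p) hI2, hI1, h1, Nat.mul_le_mul_left (p - 1) h1]
      exact Nat.le_of_mul_le_mul_left h3 hpos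
    omega
  have hD1 : Nat.card D ≠ 1 := by
    intro h
    apply hna
    have hbot : commutator G = ⊥ := Subgroup.card_eq_one.mp h
    refine ⟨⟨fun a b => ?_⟩⟩
    have hmem : a * b * a⁻¹ * b⁻¹ ∈ commutator G := by
      rw [_root_.commutator_def]
      have := Subgroup.commutator_mem_commutator (Subgroup.mem_top a) (Subgroup.mem_top b)
      simpa [commutatorElement_def] using this
    rw [hbot, Subgroup.mem_bot] at hmem
    have : a * b = (a * b * a⁻¹ * b⁻¹) * (b * a) := by group
    rw [this, hmem, one_mul]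
  have hDpos : 0 < Nat.card D := Nat.card_pos
  have hDdvd : Nat.card D ∣ Nat.card G := Subgroup.card_subgroup_dvd_card D
  have hple : p ≤ Nat.card D := Nat.minFac_le_of_dvd (by omega) hDdvd
  omega

end Cfsg.Agent.Lib.Helper2.AutOrb
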