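/-
helper2: Part Q of the proof of B&G Lemma 9.5 (S1402).
`H` solvable of odd order, `P` a Sylow `p`-subgroup of `H` with `P ≤ [H, H]`, `A ≤ P` abelian and
normal in `P`.  Then `Q = P ∩ O_{p',p}(H)` satisfies `A ≤ Q ≤ P`, `P ≤ N_G(Q)` and
`P ≤ [N_G(Q), N_G(Q)]`.
-/
import Mathlib
import Cfsg.Agent.Lib.Helper17.BGUniqA

set_option autoImplicit false
open scoped commutatorElement

namespace Cfsg.Agent.Lib.Helper2.BG95

open Cfsg.Agent.Lib.Helper8 (IsSylIn)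
open Cfsg.Agent.Lib.Helper12.CoreControl (coreQ coreQ_coprime
  normalizer_le_normalizer_coreQ)

variable {G : Type*} [Group G]

/-- the product set `X * C` as a subgroup, when `C` normalizes `X`. -/
def mulSub (X C : Subgroup G) (h : C ≤ Subgroup.normalizer (X : Set G)) : Subgroup G where
  carrier := {g | ∃ k ∈ X, ∃ c ∈ C, g = k * c}
  one_mem' := ⟨1, X.one_mem, 1, C.one_mem, by simp⟩
  mul_mem' := by
    rintro _ _ ⟨k, hk, c, hc, rfl⟩ ⟨k', hk', c', hc', rfl⟩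
    refine ⟨k * (c * k' * c⁻¹), X.mul_mem hk ?_, c * c', C.mul_mem hc hc', by group⟩
    exact (Subgroup.mem_normalizer_iff.mp (h hc) k').mp hk'
  inv_mem' := by
    rintro _ ⟨k, hk, c, hc, rfl⟩
    refine ⟨c⁻¹ * k⁻¹ * c⁻¹⁻¹, ?_, c⁻¹, C.inv_mem hc, by group⟩
    exact (Subgroup.mem_normalizer_iff.mp (h (C.inv_mem hc)) k⁻¹).mp (X.inv_mem hk)

theorem mem_mulSub {X C : Subgroup G} {h : C ≤ Subgroup.normalizer (X : Set G)} {g : G} :
    g ∈ mulSub X C h ↔ ∃ k ∈ X, ∃ c ∈ C, g = k * c := Iff.rfl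

theorem commutator_self_le (N : Subgroup G) : ⁅N, N⁆ ≤ N :=
  Subgroup.commutator_le.mpr (fun _ ha _ hb =>
    N.mul_mem (N.mul_mem (N.mul_mem ha hb) (N.inv_mem ha)) (N.inv_mem hb))

/-- Dedekind-type step: `H = X N` with `X` normal in `H` of order prime to `p`; a `p`-element of
`N ∩ [H, H]` lies in `[N, N]`. -/
theorem mem_commutator_of_factor [Finite G] {p : ℕ} [Fact p.Prime] {H X N : Subgroup G}
    (hXn : H ≤ Subgroup.normalizer (X : Set G)) (hXc : (Nat.card X).Coprime p)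
    (hNH : N ≤ H) (hfac : ∀ h ∈ H, ∃ k ∈ X, ∃ n ∈ N, h = k * n)
    {x : G} (hxN : x ∈ N) (hxH : x ∈ ⁅H, H⁆) {j : ℕ} (hxp : x ^ (p ^ j) = 1) :
    x ∈ ⁅N, N⁆ := by
  classical
  have hpp : p.Prime := Fact.out
  have hNN : ⁅N, N⁆ ≤ N := commutator_self_le N
  have hCn : ⁅N, N⁆ ≤ Subgroup.normalizer (X : Set G) := hNN.trans (hNH.trans hXn)
  -- `[H,H] ≤ X [N,N]`
  have hle : ⁅H, H⁆ ≤ mulSub X ⁅N, N⁆ hCn := by
    rw [Subgroup.commutator_le]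
    intro a ha b hb
    obtain ⟨k₁, hk₁, n₁, hn₁, rfl⟩ := hfac a ha
    obtain ⟨k₂, hk₂, n₂, hn₂, rfl⟩ := hfac b hb
    have hu : ⁅n₁, n₂⁆ ∈ ⁅N, N⁆ := Subgroup.commutator_mem_commutator hn₁ hn₂
    have hconj : ∀ h ∈ H, ∀ k ∈ X, h * k * h⁻¹ ∈ X := fun h hh k hk =>
      (Subgroup.mem_normalizer_iff.mp (hXn hh) k).mp hk
    refine ⟨k₁ * (n₁ * k₂ * n₁⁻¹) *
      (⁅n₁, n₂⁆ * ((n₂ * k₁⁻¹ * n₂⁻¹) * k₂⁻¹) * ⁅n₁, n₂⁆⁻¹), ?_, ⁅n₁, n₂⁆, hu, ?_⟩
    · refine X.mul_mem (X.mul_mem hk₁ (hconj _ (hNH hn₁) _ hk₂)) ?_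
      refine hconj _ (hNH (hNN hu)) _ ?_
      exact X.mul_mem (hconj _ (hNH hn₂) _ (X.inv_mem hk₁)) (X.inv_mem hk₂)
    · simp only [commutatorElement_def]; group
  obtain ⟨k, hk, c, hc, hxkc⟩ := hle hxH
  have hcN : c ∈ N := hNN hc
  have hkN : k ∈ N := by
    have : k = x * c⁻¹ := by rw [hxkc]; group
    rw [this]; exact N.mul_mem hxN (N.inv_mem hcN)
  -- work in the abelianization of `N`
  set m := Nat.card X with hm
  have hkm : k ^ m = 1 := by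
    have h1 : (⟨k, hk⟩ : ↥X) ^ m = 1 := pow_card_eq_one'
    have h2 := congrArg (fun z : ↥X => (z : G)) h1
    simpa only [Subgroup.coe_pow, Subgroup.coe_one, Subgroup.coe_mk] using h2
  have hc' : (⟨c, hcN⟩ : ↥N) ∈ _root_.commutator ↥N := by
    have h1 : c ∈ (_root_.commutator ↥N).map N.subtype := by
      rw [Subgroup.map_subtype_commutator]; exact hc
    obtain ⟨y, hy, hyx⟩ := h1
    have : y = ⟨c, hcN⟩ := Subtype.ext hyx
    rw [← this]; exact hy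
  have hofc : Abelianization.of (⟨c, hcN⟩ : ↥N) = 1 := by
    rw [← MonoidHom.mem_ker, Abelianization.ker_of]; exact hc'
  have hofx : Abelianization.of (⟨x, hxN⟩ : ↥N) = Abelianization.of (⟨k, hkN⟩ : ↥N) := by
    have : (⟨x, hxN⟩ : ↥N) = ⟨k, hkN⟩ * ⟨c, hcN⟩ := Subtype.ext hxkc
    rw [this, map_mul, hofc, mul_one]
  have h1 : (Abelianization.of (⟨x, hxN⟩ : ↥N)) ^ m = 1 := by
    rw [hofx, ← map_pow]
    have : (⟨k, hkN⟩ : ↥N) ^ m = 1 := Subtype.ext (by simpa using hkm)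
    rw [this, map_one]
  have h2 : (Abelianization.of (⟨x, hxN⟩ : ↥N)) ^ (p ^ j) = 1 := by
    rw [← map_pow]
    have : (⟨x, hxN⟩ : ↥N) ^ (p ^ j) = 1 := Subtype.ext (by simpa using hxp)
    rw [this, map_one]
  have hcop : Nat.Coprime m (p ^ j) := Nat.Coprime.pow_right _ hXc
  have h3 : Abelianization.of (⟨x, hxN⟩ : ↥N) = 1 := by
    have d1 := orderOf_dvd_of_pow_eq_one h1
    have d2 := orderOf_dvd_of_pow_eq_one h2
    exact orderOf_eq_one_iff.mp (Nat.eq_one_of_dvd_coprimes hcop d1 d2)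
  have h4 : (⟨x, hxN⟩ : ↥N) ∈ _root_.commutator ↥N := by
    rw [← Abelianization.ker_of, MonoidHom.mem_ker]; exact h3
  have h5 : x ∈ (_root_.commutator ↥N).map N.subtype := ⟨⟨x, hxN⟩, h4, rfl⟩
  rw [Subgroup.map_subtype_commutator] at h5
  exact h5

/-- **Part Q.** -/
theorem exists_normal_core_sylow [Finite G] {p : ℕ} [Fact p.Prime] {H P A : Subgroup G}
    (hsol : Group.IsSolvable ↥H) (hodd : Odd (Nat.card H)) (hP : IsSylIn p P H)
    (hPH : P ≤ ⁅H, H⁆) (hAP : A ≤ P) (hAc : ∀ a ∈ A, ∀ b ∈ A, a * b = b * a)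
    (hAn : P ≤ Subgroup.normalizer (A : Set G)) :
    ∃ Q : Subgroup G, A ≤ Q ∧ Q ≤ P ∧ P ≤ Subgroup.normalizer (Q : Set G) ∧
      P ≤ ⁅Subgroup.normalizer (Q : Set G), Subgroup.normalizer (Q : Set G)⁆ := by
  classical
  obtain ⟨Q, hQP, hPQ, hQab, hQfac, -⟩ :=
    Cfsg.Agent.Lib.Helper17.BGU.exists_frattini_core_in hsol hodd hP
  refine ⟨Q, hQab A hAP hAc hAn, hQP, hPQ, ?_⟩
  set N : Subgroup G := H ⊓ Subgroup.normalizer (Q : Set G) with hN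
  have hXn : H ≤ Subgroup.normalizer ((coreQ p H : Subgroup G) : Set G) :=
    Subgroup.le_normalizer.trans (normalizer_le_normalizer_coreQ p H)
  have hfac : ∀ h ∈ H, ∃ k ∈ coreQ p H, ∃ n ∈ N, h = k * n := by
    intro h hh
    obtain ⟨k, hk, n, hnH, hnN, rfl⟩ := hQfac h hh
    exact ⟨k, hk, n, ⟨hnH, hnN⟩, rfl⟩
  have hPp : IsPGroup p P := hP.isPGroup
  intro x hx
  obtain ⟨j, hj⟩ := hPp ⟨x, hx⟩
  have hxj : x ^ (p ^ j) = 1 := by
    have := congrArg Subtype.val hj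
    simpa using this
  have hxN : x ∈ N := ⟨hP.1 hx, hPQ hx⟩
  have h1 : x ∈ ⁅N, N⁆ :=
    mem_commutator_of_factor hXn (coreQ_coprime p H) inf_le_left hfac hxN
      (hPH hx) hxj
  exact Subgroup.commutator_mono inf_le_right inf_le_right h1

end Cfsg.Agent.Lib.Helper2.BG95
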