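/-
helper2: Part T of the proof of B&G Lemma 9.5 (S1402).
If `I` is an odd-order group normalizing an `r`-group `R` of rank at most two (`r` odd), then every
`p`-subgroup (`p ≠ r`) of the derived subgroup of `I` centralizes `R`.
-/
import Mathlib
import Cfsg.Prelude.Def_CaseTheorems
import Cfsg.Agent.Lib.Helper17.OddAutRank2

set_option autoImplicit false
open scoped commutatorElement

namespace Cfsg.Agent.Lib.Helper2.BG95

variable {G : Type*} [Group G]

/-- **Part T.** `I ≤ N_G(R)` of odd order, `R` an `r`-group with no elementary abelian subgroup of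
order `r ^ 3`, `r` odd, `p ≠ r`: every `p`-subgroup of `[I, I]` centralizes `R`. -/
theorem pgroup_commutator_le_centralizer [Finite G] (r : ℕ) [Fact r.Prime] (hr2 : r ≠ 2)
    (R I : Subgroup G) (hR : IsPGroup r R) (hrk : Cfsg.PRankLE r 2 ↥R)
    (hIR : I ≤ Subgroup.normalizer (R : Set G)) (hodd : Odd (Nat.card I))
    (p : ℕ) [Fact p.Prime] (hpr : p ≠ r) (X : Subgroup G) (hX : IsPGroup p X)
    (hXI : X ≤ ⁅I, I⁆) :
    X ≤ Subgroup.centralizer (R : Set G) := by
  classical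
  have hpp : p.Prime := Fact.out
  have hrp : r.Prime := Fact.out
  set f : ↥I →* MulAut ↥R := R.normalizerMonoidHom.comp (Subgroup.inclusion hIR) with hf
  set B : Subgroup (MulAut ↥R) := f.range with hB
  have hBodd : Odd (Nat.card B) := by
    have h1 : Nat.card B ∣ Nat.card ↥I := by
      rw [hB]
      exact Subgroup.card_range_dvd f
    exact Odd.of_dvd_nat hodd h1
  have hmain := (Cfsg.Agent.Lib.Helper17.odd_aut_rank_two r hr2 hR hrk B hBodd).1
  have hII : ⁅I, I⁆ ≤ I := Subgroup.commutator_le.mpr (fun _ ha _ hb =>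
    I.mul_mem (I.mul_mem (I.mul_mem ha hb) (I.inv_mem ha)) (I.inv_mem hb))
  intro x hx
  have hxI : x ∈ I := hII (hXI hx)
  -- `x` as an element of the derived subgroup of `↥I`
  have hxc : (⟨x, hxI⟩ : ↥I) ∈ _root_.commutator ↥I := by
    have h1 : x ∈ (_root_.commutator ↥I).map I.subtype := by
      rw [Subgroup.map_subtype_commutator]; exact hXI hx
    obtain ⟨y, hy, hyx⟩ := h1
    have : y = ⟨x, hxI⟩ := Subtype.ext hyx
    rw [← this]; exact hy
  have hβ : f ⟨x, hxI⟩ ∈ ⁅B, B⁆ := by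
    have h1 : f ⟨x, hxI⟩ ∈ (_root_.commutator ↥I).map f := Subgroup.mem_map_of_mem f hxc
    rw [commutator_def, Subgroup.map_commutator] at h1
    rw [hB, MonoidHom.range_eq_map]
    exact h1
  obtain ⟨k, hk⟩ := hmain _ hβ
  -- `x` has `p`-power order
  obtain ⟨j, hj⟩ := hX ⟨x, hx⟩
  have hxj : x ^ (p ^ j) = 1 := by
    have := congrArg Subtype.val hj
    simpa using this
  have hβj : (f ⟨x, hxI⟩) ^ (p ^ j) = 1 := by
    rw [← map_pow]
    have : (⟨x, hxI⟩ : ↥I) ^ (p ^ j) = 1 := Subtype.ext (by simpa using hxj)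
    rw [this, map_one]
  have hcop : Nat.Coprime (r ^ k) (p ^ j) :=
    Nat.Coprime.pow _ _ ((Nat.coprime_primes hrp hpp).mpr (Ne.symm hpr))
  have hβ1 : f ⟨x, hxI⟩ = 1 := by
    have h1 : orderOf (f ⟨x, hxI⟩) ∣ r ^ k := orderOf_dvd_of_pow_eq_one hk
    have h2 : orderOf (f ⟨x, hxI⟩) ∣ p ^ j := orderOf_dvd_of_pow_eq_one hβj
    have h3 : orderOf (f ⟨x, hxI⟩) = 1 := Nat.eq_one_of_dvd_coprimes hcop h1 h2
    exact orderOf_eq_one_iff.mp h3
  have hker : Subgroup.inclusion hIR ⟨x, hxI⟩ ∈ R.normalizerMonoidHom.ker := by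
    rw [MonoidHom.mem_ker]
    exact hβ1
  rw [Subgroup.normalizerMonoidHom_ker, Subgroup.mem_subgroupOf] at hker
  exact hker

end Cfsg.Agent.Lib.Helper2.BG95
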