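import Mathlib
import Cfsg.Agent.Lib.Helper2.BGCorZ
import Cfsg.Agent.Lib.Helper20.BGAlpha
import Cfsg.Agent.Lib.Helper16.BGPrimD
import Cfsg.Agent.Lib.Helper1.BGX2
import Cfsg.Agent.S1375

/-!
# B & G 14.7 / S1372 (helper2): in `M = K U M_σ` with `K ≠ 1 ≠ U`, every `x ∈ M_σ^#` has
`C_G(x) ≤ M`.

If not, S1375 gives a maximal `N ⊇ C_G(x)` with `M ∩ N` a complement of `N_σ`, so `M ∩ N` has all
ranks `≤ 2`; but the `ℓ`-torsion `W` of `Z(M_σ)` lies in `C_M(x)` and S1446 for the Frobenius group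
`U ⋊ K` acting on `W` gives `|W| = |C_W(K)| ^ |K|` with `|K| ≥ 3`.
-/

set_option autoImplicit false
set_option linter.style.haveILetI false
set_option linter.unusedVariables false
set_option linter.unusedSectionVars false
open scoped commutatorElement

namespace Cfsg.Agent.Lib.Helper2.BGDs

open Cfsg
open Cfsg.Agent.Lib.Helper2.BGCor (primes_card_sigmaCore sigmaCore_le conj_mem_sigmaCore)
open Cfsg.Agent.Lib.Helper21.BG147 (coprime_kappa_sigma card_sup_of_inf_eq_bot)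

universe u

variable {G : Type u} [Group G]

/-- the `ℓ`-torsion of the centre of a subgroup `S`, as a subgroup of the ambient group. -/
def omegaCenter (S : Subgroup G) (l : ℕ) : Subgroup G where
  carrier := {z | z ∈ S ∧ (∀ y ∈ S, y * z = z * y) ∧ z ^ l = 1}
  one_mem' := ⟨S.one_mem, fun y _ => by simp, one_pow l⟩
  mul_mem' := by
    rintro a b ⟨ha, hac, hal⟩ ⟨hb, hbc, hbl⟩
    refine ⟨S.mul_mem ha hb, fun y hy => ?_, ?_⟩
    · rw [← mul_assoc, hac y hy, mul_assoc, hbc y hy, mul_assoc]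
    · have hcomm : Commute a b := (hbc a ha)
      rw [hcomm.mul_pow, hal, hbl, one_mul]
  inv_mem' := by
    rintro a ⟨ha, hac, hal⟩
    refine ⟨S.inv_mem ha, fun y hy => ?_, by rw [inv_pow, hal, inv_one]⟩
    have := hac y hy
    calc y * a⁻¹ = a⁻¹ * (a * y) * a⁻¹ := by group
      _ = a⁻¹ * (y * a) * a⁻¹ := by rw [this]
      _ = a⁻¹ * y := by group

theorem mem_omegaCenter {S : Subgroup G} {l : ℕ} {z : G} :
    z ∈ omegaCenter S l ↔ z ∈ S ∧ (∀ y ∈ S, y * z = z * y) ∧ z ^ l = 1 := Iff.rfl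

theorem omegaCenter_le (S : Subgroup G) (l : ℕ) : omegaCenter S l ≤ S := fun _ h => h.1

theorem omegaCenter_comm (S : Subgroup G) (l : ℕ) :
    ∀ a ∈ omegaCenter S l, ∀ b ∈ omegaCenter S l, a * b = b * a :=
  fun a ha b hb => hb.2.1 a ha.1

theorem omegaCenter_le_centralizer {S : Subgroup G} (l : ℕ) {x : G} (hx : x ∈ S) :
    omegaCenter S l ≤ Subgroup.centralizer ({x} : Set G) := by
  intro z hz
  rw [Subgroup.mem_centralizer_iff]
  intro h hh
  rw [Set.mem_singleton_iff] at hh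
  rw [hh]
  exact hz.2.1 x hx

/-- anything normalizing `S` normalizes `omegaCenter S l`. -/
theorem conj_mem_omegaCenter {S : Subgroup G} {l : ℕ} {m : G}
    (hm : ∀ y, y ∈ S ↔ m * y * m⁻¹ ∈ S) {z : G} (hz : z ∈ omegaCenter S l) :
    m * z * m⁻¹ ∈ omegaCenter S l := by
  obtain ⟨hzS, hzc, hzl⟩ := hz
  refine ⟨(hm z).mp hzS, fun y hy => ?_, ?_⟩
  · have hy' : m⁻¹ * y * m ∈ S := by
      rw [hm]
      have : m * (m⁻¹ * y * m) * m⁻¹ = y := by group
      rw [this]; exact hy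
    have := hzc _ hy'
    calc y * (m * z * m⁻¹) = m * ((m⁻¹ * y * m) * z) * m⁻¹ := by group
      _ = m * (z * (m⁻¹ * y * m)) * m⁻¹ := by rw [this]
      _ = m * z * m⁻¹ * y := by group
  · rw [conj_pow, hzl, mul_one, mul_inv_cancel]

theorem le_normalizer_omegaCenter {S P : Subgroup G} (l : ℕ)
    (hP : P ≤ Subgroup.normalizer (S : Set G)) :
    P ≤ Subgroup.normalizer ((omegaCenter S l : Subgroup G) : Set G) := by
  intro m hm
  have hmS := hP hm
  rw [Subgroup.mem_normalizer_iff] at hmS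
  rw [Subgroup.mem_normalizer_iff]
  intro z
  constructor
  · intro hz
    exact conj_mem_omegaCenter hmS hz
  · intro hz
    have hmS' : ∀ y, y ∈ S ↔ m⁻¹ * y * m⁻¹⁻¹ ∈ S := by
      intro y
      rw [hmS (m⁻¹ * y * m⁻¹⁻¹)]
      have : m * (m⁻¹ * y * m⁻¹⁻¹) * m⁻¹ = y := by group
      rw [this]
    have := conj_mem_omegaCenter hmS' hz
    have e : m⁻¹ * (m * z * m⁻¹) * m⁻¹⁻¹ = z := by group
    rwa [e] at this

theorem isPGroup_omegaCenter (S : Subgroup G) {l : ℕ} (hl : l.Prime) :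
    IsPGroup l ↥(omegaCenter S l) := by
  intro z
  refine ⟨1, ?_⟩
  apply Subtype.ext
  rw [pow_one, Subgroup.coe_pow, z.2.2.2]
  rfl

/-- a nontrivial nilpotent subgroup has nontrivial `ℓ`-torsion in its centre for some prime `ℓ`. -/
theorem exists_omegaCenter_ne_bot [Finite G] {S : Subgroup G} (hS1 : S ≠ ⊥)
    (hnil : Group.IsNilpotent ↥S) : ∃ l : ℕ, l.Prime ∧ omegaCenter S l ≠ ⊥ := by
  haveI : Nontrivial ↥S := by
    rw [← Subgroup.nontrivial_iff_ne_bot] at hS1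
    exact hS1
  haveI : Nontrivial (Subgroup.center ↥S) := by
    rw [Subgroup.nontrivial_iff_ne_bot]
    exact Group.IsNilpotent.center_ne_bot (G := ↥S)
  have hc1 : Nat.card (Subgroup.center ↥S) ≠ 1 := by
    intro h
    have := (Subgroup.card_eq_one (H := Subgroup.center ↥S)).mp h
    exact (Subgroup.nontrivial_iff_ne_bot _).mp inferInstance this
  obtain ⟨l, hl, hld⟩ := Nat.exists_prime_and_dvd hc1
  haveI : Fact l.Prime := ⟨hl⟩
  obtain ⟨z, hz⟩ := exists_prime_orderOf_dvd_card' (G := ↥(Subgroup.center ↥S)) l hld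
  refine ⟨l, hl, ?_⟩
  intro h0
  have hzmem : ((z : ↥S) : G) ∈ omegaCenter S l := by
    refine ⟨(z : ↥S).2, fun y hy => ?_, ?_⟩
    · have := Subgroup.mem_center_iff.mp z.2 ⟨y, hy⟩
      exact congrArg Subtype.val this
    · have h1 : z ^ l = 1 := by rw [← hz]; exact pow_orderOf_eq_one z
      have h2 : ((z ^ l : ↥(Subgroup.center ↥S)) : ↥S) = 1 := by rw [h1]; rfl
      have h3 : (((z ^ l : ↥(Subgroup.center ↥S)) : ↥S) : G) = 1 := by rw [h2]; rfl
      simpa using h3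
  rw [h0, Subgroup.mem_bot] at hzmem
  have hz1 : z = 1 := by
    apply Subtype.ext
    apply Subtype.ext
    exact hzmem
  rw [hz1, orderOf_one] at hz
  exact hl.one_lt.ne hz


variable [Finite G]

/-- If `M ∩ N` is a complement of `N_σ` in the maximal subgroup `N`, then every elementary abelian
`ℓ`-subgroup of `M ∩ N` has order at most `ℓ ^ 2` (since `α(N) ⊆ σ(N)`). -/
theorem card_le_sq_of_complIn (hG : Cfsg.IsMinSimpleOddOrder G) {M N : Subgroup G}
    (hN : IsCoatom N) (hc : Cfsg.IsComplIn (M ⊓ N) (Cfsg.sigmaCore N) N) {l : ℕ} (hl : l.Prime)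
    {A : Subgroup G} (hAMN : A ≤ M ⊓ N) (hAc : ∀ a ∈ A, ∀ b ∈ A, a * b = b * a)
    (hAl : ∀ a ∈ A, a ^ l = 1) : Nat.card A ≤ l ^ 2 := by
  by_contra h
  rw [not_le] at h
  have hAN : A ≤ N := hAMN.trans inf_le_right
  have hα : l ∈ Cfsg.alpha N := by
    refine ⟨hl, fun hr => ?_⟩
    have h1 := hr (A.subgroupOf N) ?_ ?_
    · rw [Cfsg.Agent.Lib.Helper1.card_subgroupOf_of_le hAN] at h1
      omega
    · refine ⟨⟨?_⟩⟩
      rintro ⟨a, ha⟩ ⟨b, hb⟩
      apply Subtype.ext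
      apply Subtype.ext
      exact hAc _ (Subgroup.mem_subgroupOf.mp ha) _ (Subgroup.mem_subgroupOf.mp hb)
    · intro a ha
      apply Subtype.ext
      rw [Subgroup.coe_pow]
      exact hAl _ (Subgroup.mem_subgroupOf.mp ha)
  have hσ : l ∈ Cfsg.sigma N :=
    Cfsg.Agent.Lib.Helper1.BGX.alpha_subset_sigma hG (Cfsg.Agent.Lib.Helper16.BGPrim.ut hG) hN hα
  have hHall := (Cfsg.Agent.S1350.result hG N hN).1
  apply hHall.2.2 l hl hσ
  have h1 : Nat.card ↥(M ⊓ N) ∣ (Cfsg.sigmaCore N).relIndex N :=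
    Cfsg.Agent.Lib.Helper2.BGCor.card_dvd_relIndex_of_complIn hc le_rfl
  have h2 : Nat.card A ∣ Nat.card ↥(M ⊓ N) := Subgroup.card_dvd_of_le hAMN
  have hAp : IsPGroup l ↥A := by
    intro z
    refine ⟨1, ?_⟩
    apply Subtype.ext
    rw [pow_one, Subgroup.coe_pow, hAl _ z.2]
    rfl
  haveI : Fact l.Prime := ⟨hl⟩
  obtain ⟨n, hn⟩ := hAp.exists_card_eq
  have hn0 : n ≠ 0 := by
    rintro rfl
    rw [pow_zero] at hn
    rw [hn] at h
    have := hl.one_lt
    nlinarith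
  have h3 : l ∣ Nat.card A := by
    rw [hn]; exact dvd_pow_self l hn0
  exact h3.trans (h2.trans h1)

/-- **Key step for S1372** (B & G 14.7 / 15.x): in a standard factorisation `M = K U M_σ` with
`K ≠ 1` and `U ≠ 1`, the centralizer in `G` of every non-identity element of `M_σ` lies in `M`. -/
theorem centralizer_le_of_KU (hG : Cfsg.IsMinSimpleOddOrder G) {M K U : Subgroup G}
    (hM : IsCoatom M) (hKU : Cfsg.IsSigmaDecomposition M K U) (hK1 : K ≠ ⊥) (hU1 : U ≠ ⊥)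
    {x : G} (hx : x ∈ Cfsg.sigmaCore M) (hx1 : x ≠ 1) :
    Subgroup.centralizer ({x} : Set G) ≤ M := by
  by_contra hxM
  obtain ⟨N, ⟨hN, hCN⟩, -, -, -, -, hcompl, -⟩ :=
    Cfsg.Agent.S1375.result hG M hM x hx hx1 hxM
  obtain ⟨hCU, hnil⟩ := Cfsg.Agent.Lib.Helper20.BGAlpha.cent_U_eq_bot hG hM hKU hU1
  have hS1 : Cfsg.sigmaCore M ≠ ⊥ := by
    intro h
    rw [h, Subgroup.mem_bot] at hx
    exact hx1 hx
  obtain ⟨l, hl, hW1⟩ := exists_omegaCenter_ne_bot hS1 hnil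
  have hWS : omegaCenter (Cfsg.sigmaCore M) l ≤ Cfsg.sigmaCore M := omegaCenter_le _ _
  have hWM : omegaCenter (Cfsg.sigmaCore M) l ≤ M := hWS.trans (sigmaCore_le M)
  have hWN : omegaCenter (Cfsg.sigmaCore M) l ≤ N := (omegaCenter_le_centralizer l hx).trans hCN
  have hbound : Nat.card ↥(omegaCenter (Cfsg.sigmaCore M) l) ≤ l ^ 2 :=
    card_le_sq_of_complIn hG hN hcompl hl (le_inf hWM hWN) (omegaCenter_comm _ _)
      (fun a ha => ha.2.2)
  -- the S1446 set-up
  have hHall := (Cfsg.Agent.S1350.result hG M hM).1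
  have hUM : U ≤ M := hKU.compl.1
  have hKM : K ≤ M := hKU.hall.1
  have hUK : U ⊓ K = ⊥ := by
    apply le_antisymm _ bot_le
    rw [← hKU.compl.2.2.1]
    exact inf_le_inf_left _ le_sup_left
  haveI : Group.IsSolvable ↥M := hG.2.2.2 M hM.1
  have hle : U ⊔ K ≤ M := sup_le hUM hKM
  have hsolv : Group.IsSolvable ↥(U ⊔ K) :=
    Group.isSolvable_of_isSolvable_injective (Subgroup.inclusion_injective hle)
  have hodd : Odd (Nat.card ↥(U ⊔ K)) :=
    Odd.of_dvd_nat hG.1 (Subgroup.card_subgroup_dvd_card _)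
  have hcard : Nat.card ↥(U ⊔ K) = Nat.card K * Nat.card U := by
    rw [sup_comm]
    apply card_sup_of_inf_eq_bot K U hKU.normal
    rw [inf_comm]; exact hUK
  have hcop0 : (Nat.card ↥(U ⊔ K)).Coprime (Nat.card (Cfsg.sigmaCore M)) := by
    rw [hcard]
    apply Nat.Coprime.mul_left
    · exact coprime_kappa_sigma hKU.hall.2.1 le_rfl
    · apply Nat.coprime_of_dvd
      intro q hq hqU hqσ
      exact (Cfsg.Agent.Lib.Helper1.BGKap.not_kappa_sigma_of_dvd_card_U hHall hKU hq hqU).2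
        (primes_card_sigmaCore M q hq hqσ)
  have hcop : (Nat.card ↥(U ⊔ K)).Coprime (Nat.card ↥(omegaCenter (Cfsg.sigmaCore M) l)) :=
    Nat.Coprime.coprime_dvd_right (Subgroup.card_dvd_of_le hWS) hcop0
  have hnS : M ≤ Subgroup.normalizer ((Cfsg.sigmaCore M : Subgroup G) : Set G) :=
    Cfsg.Agent.Lib.Helper2.BGCor.le_normalizer_sigmaCore M
  have hWnil : Group.IsNilpotent ↥(omegaCenter (Cfsg.sigmaCore M) l) := by
    haveI : IsMulCommutative ↥(omegaCenter (Cfsg.sigmaCore M) l) := ⟨⟨by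
      rintro ⟨a, ha⟩ ⟨b, hb⟩
      apply Subtype.ext
      exact omegaCenter_comm _ _ a ha b hb⟩⟩
    letI : CommGroup ↥(omegaCenter (Cfsg.sigmaCore M) l) :=
      { (inferInstance : Group ↥(omegaCenter (Cfsg.sigmaCore M) l)) with
        mul_comm := fun a b => IsMulCommutative.is_comm.comm a b }
    exact CommGroup.isNilpotent
  have hCW : omegaCenter (Cfsg.sigmaCore M) l ⊓ Subgroup.centralizer (U : Set G) = ⊥ := by
    apply le_antisymm _ bot_le
    rw [← hCU]
    exact inf_le_inf_right _ hWS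
  have h30 := (Cfsg.Agent.S1430.result hG M hM K hKU.hall hK1).1
  have hpr : ∀ k ∈ K, k ≠ 1 →
      omegaCenter (Cfsg.sigmaCore M) l ⊓ Subgroup.centralizer ({k} : Set G) =
        omegaCenter (Cfsg.sigmaCore M) l ⊓ Subgroup.centralizer (K : Set G) := by
    intro k hk hk1
    have h := h30 k hk hk1
    apply le_antisymm
    · intro z hz
      have : z ∈ Cfsg.sigmaCore M ⊓ Subgroup.centralizer ({k} : Set G) := ⟨hWS hz.1, hz.2⟩
      rw [h] at this
      exact ⟨hz.1, this.2⟩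
    · intro z hz
      have : z ∈ Cfsg.sigmaCore M ⊓ Subgroup.centralizer (K : Set G) := ⟨hWS hz.1, hz.2⟩
      rw [← h] at this
      exact ⟨hz.1, this.2⟩
  obtain ⟨hp, hcW, -⟩ := Cfsg.Agent.S1446.result (X := G) U K (omegaCenter (Cfsg.sigmaCore M) l)
    hU1 hK1 hUK hKU.normal (Cfsg.Agent.S1353.result hG M hM K U hKU) hsolv hodd hW1 hWnil
    (le_normalizer_omegaCenter l (hUM.trans hnS)) (le_normalizer_omegaCenter l (hKM.trans hnS))
    hcop hCW hpr
  -- arithmetic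
  have hKodd : Odd (Nat.card K) := Odd.of_dvd_nat hG.1 (Subgroup.card_subgroup_dvd_card _)
  have hp3 : 3 ≤ Nat.card K := by
    have h2 := hp.two_le
    rcases Nat.lt_or_ge 2 (Nat.card K) with h | h
    · exact h
    · have : Nat.card K = 2 := le_antisymm h h2
      rw [this] at hKodd
      exact absurd hKodd (by decide)
  haveI : Fact l.Prime := ⟨hl⟩
  obtain ⟨n, hn⟩ := (isPGroup_omegaCenter (Cfsg.sigmaCore M) hl).exists_card_eq
  have hcd : Nat.card ↥(omegaCenter (Cfsg.sigmaCore M) l ⊓ Subgroup.centralizer (K : Set G)) ∣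
      l ^ n := by
    rw [← hn]; exact Subgroup.card_dvd_of_le inf_le_left
  obtain ⟨j, -, hj⟩ := (Nat.dvd_prime_pow hl).mp hcd
  have hW1' : Nat.card ↥(omegaCenter (Cfsg.sigmaCore M) l) ≠ 1 :=
    fun h => hW1 (Subgroup.card_eq_one.mp h)
  have hj0 : j ≠ 0 := by
    rintro rfl
    rw [pow_zero] at hj
    rw [hj, one_pow] at hcW
    exact hW1' hcW
  have hl2 := hl.two_le
  have h1 : l ^ 3 ≤ Nat.card ↥(omegaCenter (Cfsg.sigmaCore M) l) := by
    rw [hcW, hj, ← pow_mul]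
    apply Nat.pow_le_pow_right hl.pos
    have : 1 ≤ j := Nat.one_le_iff_ne_zero.mpr hj0
    nlinarith
  have h2 : l ^ 2 < l ^ 3 := Nat.pow_lt_pow_right hl.one_lt (by norm_num)
  omega

end Cfsg.Agent.Lib.Helper2.BGDs
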