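import Mathlib
import Cfsg.Agent.Lib.Helper2.BGDsA
import Cfsg.Agent.Lib.Helper9.BG145B
import Cfsg.Prelude.Def_OddOrderChar

/-!
# Generic lemmas for the Dade hypothesis (towards S1537, helper2)

* `dade_mono`: the Dade hypothesis restricts to `L`-invariant subsets;
* `normalizer_eq_of_invariant`: a nonempty `M`-invariant set of non-identity elements of a maximal
  subgroup `M` of a simple group has set-normalizer `M`;
* `supportR_le_centralizer`, `conj_mem_supportR_of_mem_centralizer`: the two clauses of the Dade
  hypothesis for `a ↦ R(a)` that hold by definition.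
-/

set_option autoImplicit false
set_option linter.style.haveILetI false
set_option linter.unusedVariables false
set_option linter.unusedSectionVars false

namespace Cfsg.Agent.Lib.Helper2.BGDs

open Cfsg

universe u

variable {G : Type u} [Group G]

/-- the Dade hypothesis restricts to invariant subsets. -/
theorem dade_mono {A B : Set G} {L : Subgroup G} {H : G → Subgroup G}
    (h : Cfsg.DadeHypothesis B L H) (hAB : A ⊆ B)
    (hinv : ∀ x ∈ L, ∀ a ∈ A, x * a * x⁻¹ ∈ A) : Cfsg.DadeHypothesis A L H where
  one_not_mem := fun h1 => h.one_not_mem (hAB h1)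
  subset := fun a ha => h.subset (hAB ha)
  conj_mem := hinv
  fusion := fun a ha g hg => h.fusion a (hAB ha) g (hAB hg)
  le_centralizer := fun a ha => h.le_centralizer a (hAB ha)
  conj_mem_H := fun a ha => h.conj_mem_H a (hAB ha)
  inf_eq_bot := fun a ha => h.inf_eq_bot a (hAB ha)
  sup_eq := fun a ha => h.sup_eq a (hAB ha)
  coprime := fun a ha b hb => h.coprime a (hAB ha) b (hAB hb)

/-- `R(a) ≤ C_G(a)`, by definition. -/
theorem supportR_le_centralizer (M : Subgroup G) (a : G) :
    Cfsg.supportR M a ≤ Subgroup.centralizer ({a} : Set G) := by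
  unfold Cfsg.supportR
  split_ifs with h
  · exact inf_le_right
  · exact bot_le

/-- `C_G(a)` normalizes `R(a)`, by definition. -/
theorem conj_mem_supportR_of_mem_centralizer (M : Subgroup G) (a : G) {c u : G}
    (hc : c ∈ Subgroup.centralizer ({a} : Set G)) (hu : u ∈ Cfsg.supportR M a) :
    c * u * c⁻¹ ∈ Cfsg.supportR M a := by
  unfold Cfsg.supportR at hu ⊢
  split_ifs at hu ⊢ with h
  · have h2 := Classical.choose_spec h.2.exists
    refine ⟨?_, ?_⟩
    · -- `c ∈ L` normalizes `L_F`
      have hcL : c ∈ Classical.choose h.2.exists := h2.2 hc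
      obtain ⟨u', hu', hu'e⟩ := hu.1
      refine ⟨⟨c, hcL⟩ * u' * ⟨c, hcL⟩⁻¹,
        (Cfsg.fittingHall_normal _).conj_mem u' hu' ⟨c, hcL⟩, ?_⟩
      rw [← hu'e]
      rfl
    · exact Subgroup.mul_mem _ (Subgroup.mul_mem _ hc hu.2) (Subgroup.inv_mem _ hc)
  · rw [Subgroup.mem_bot] at hu ⊢
    rw [hu, mul_one, mul_inv_cancel]

variable [Finite G]

/-- a nonempty `M`-invariant set of non-identity elements of the maximal subgroup `M` of a simple
group has set-normalizer `M`. -/
theorem normalizer_eq_of_invariant (hG : Cfsg.IsMinSimpleOddOrder G) {M : Subgroup G}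
    (hM : IsCoatom M) {A : Set G} (hAM : A ⊆ (M : Set G)) (hne : ∃ a ∈ A, a ≠ 1)
    (hinv : ∀ m ∈ M, ∀ a ∈ A, m * a * m⁻¹ ∈ A) : Subgroup.normalizer A = M := by
  haveI := hG.2.1
  have hle : M ≤ Subgroup.normalizer A := by
    intro m hm
    rw [Subgroup.mem_set_normalizer_iff]
    intro n
    constructor
    · exact hinv m hm n
    · intro h
      have := hinv m⁻¹ (M.inv_mem hm) _ h
      have e : m⁻¹ * (m * n * m⁻¹) * m⁻¹⁻¹ = n := by group
      rwa [e] at this
  rcases hM.le_iff.mp hle with h | h
  · -- the normalizer is everything: the normal closure of `A` is a proper nontrivial normal subgroup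
    exfalso
    have hAG : ∀ g : G, ∀ a ∈ A, g * a * g⁻¹ ∈ A := by
      intro g a ha
      have hg : g ∈ Subgroup.normalizer A := by rw [h]; trivial
      exact (Subgroup.mem_set_normalizer_iff.mp hg a).mp ha
    have hNM : Subgroup.normalClosure A ≤ M := by
      rw [Subgroup.normalClosure, Subgroup.closure_le]
      intro x hx
      rw [Group.mem_conjugatesOfSet_iff] at hx
      obtain ⟨a, ha, hax⟩ := hx
      obtain ⟨c, hc⟩ := isConj_iff.mp hax
      rw [← hc]
      exact hAM (hAG c a ha)
    have hnorm : (Subgroup.normalClosure A).Normal := Subgroup.normalClosure_normal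
    rcases hnorm.eq_bot_or_eq_top with h0 | h0
    · obtain ⟨a, ha, ha1⟩ := hne
      have : a ∈ Subgroup.normalClosure A := Subgroup.subset_normalClosure ha
      rw [h0, Subgroup.mem_bot] at this
      exact ha1 this
    · rw [h0, top_le_iff] at hNM
      exact hM.1 hNM
  · exact h

end Cfsg.Agent.Lib.Helper2.BGDs
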