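import Mathlib
import Cfsg.Agent.Lib.Helper2.BGDsB
import Cfsg.Agent.Lib.Helper2.BGCorF
import Cfsg.Agent.Lib.Helper22.PiClasses
import Cfsg.Agent.Lib.Helper27.BGPCountD
import Cfsg.Agent.S1370
import Cfsg.Agent.S1375
import Cfsg.Agent.S1430
import Cfsg.Agent.S1432

/-!
# The Dade hypothesis for `A₀(M)` in the `σ`-language (towards S1537, helper2), part 1:
the trichotomy for the elements of `M̂_σ`.

For `a ∈ M^#` centralizing some `y ∈ M_σ^#`:
* `a ∈ M_σ`; or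
* (T) the `σ(M)'`-primes of `o(a)` lie in `τ₂(M)` and `M` is the only maximal subgroup containing
  `C_G(a')` for every `σ(M)'`-element `a' ≠ 1` of `⟨a⟩`; or
* (K) the `σ(M)'`-primes of `o(a)` lie in `κ(M)`, and then `a` is `M`-conjugate into `K` or into
  `Ẑ = K K* ∖ (K ∪ K*)`.
-/

set_option autoImplicit false
set_option linter.style.haveILetI false
set_option linter.unusedVariables false
set_option linter.unusedSectionVars false

namespace Cfsg.Agent.Lib.Helper2.BGDs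

open Cfsg
open Cfsg.Agent.Lib.Helper2.BGCor (primes_card_sigmaCore sigmaCore_le conj_mem_sigmaCore
  pRankLE_one_of_kappa)
open Cfsg.Agent.Lib.Helper22.PiClasses (IsPi exists_pi_decomp)
open Cfsg.Agent.Lib.Helper8 (mem_map_conj conj_mem_map_conj)

universe u

variable {G : Type u} [Group G] [Finite G]

/-- `K*` -/
abbrev kstar (M K : Subgroup G) : Subgroup G :=
  Cfsg.sigmaCore M ⊓ Subgroup.centralizer (K : Set G)

/-- `Ẑ = K K* ∖ (K ∪ K*)` -/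
abbrev zhat (M K : Subgroup G) : Set G :=
  (↑(K ⊔ kstar M K) : Set G) \ ((K : Set G) ∪ ↑(kstar M K))

/-- the set `A₀(M)^#` of the `σ`-language. -/
def BSet (M K : Subgroup G) : Set G := Cfsg.sigmaA0 M K \ {1}

theorem mem_BSet {M K : Subgroup G} {a : G} :
    a ∈ BSet M K ↔ a ∈ M ∧ (∃ y ∈ Cfsg.sigmaCore M, y ≠ 1 ∧ a * y = y * a) ∧
      (¬ ∃ k ∈ K, k ≠ 1 ∧ ∃ m ∈ M, a = m * k * m⁻¹) ∧ a ≠ 1 := by
  unfold BSet Cfsg.sigmaA0 Cfsg.sigmaHat
  simp only [Set.mem_sdiff, Set.mem_ofPred_eq, Set.mem_singleton_iff]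
  tauto

theorem BSet_subset (M K : Subgroup G) : BSet M K ⊆ (M : Set G) := fun a ha => (mem_BSet.mp ha).1

theorem conj_mem_BSet {M K : Subgroup G} {m a : G} (hm : m ∈ M) (ha : a ∈ BSet M K) :
    m * a * m⁻¹ ∈ BSet M K := by
  rw [mem_BSet] at ha ⊢
  obtain ⟨haM, ⟨y, hy, hy1, hay⟩, hnk, ha1⟩ := ha
  refine ⟨M.mul_mem (M.mul_mem hm haM) (M.inv_mem hm),
    ⟨m * y * m⁻¹, conj_mem_sigmaCore hm hy, ?_, ?_⟩, ?_, ?_⟩
  · intro h
    apply hy1
    have : y = m⁻¹ * (m * y * m⁻¹) * m := by group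
    rw [this, h]; group
  · calc m * a * m⁻¹ * (m * y * m⁻¹) = m * (a * y) * m⁻¹ := by group
      _ = m * (y * a) * m⁻¹ := by rw [hay]
      _ = m * y * m⁻¹ * (m * a * m⁻¹) := by group
  · rintro ⟨k, hk, hk1, n, hn, e⟩
    apply hnk
    refine ⟨k, hk, hk1, m⁻¹ * n, M.mul_mem (M.inv_mem hm) hn, ?_⟩
    have : a = m⁻¹ * (m * a * m⁻¹) * m := by group
    rw [this, e]; group
  · intro h
    apply ha1
    have : a = m⁻¹ * (m * a * m⁻¹) * m := by group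
    rw [this, h]; group

/-- a prime of `κ(M)` is not in `τ₂(M)`. -/
theorem not_tau2_of_kappa {M : Subgroup G} {p : ℕ} (h : p ∈ Cfsg.kappa M) : p ∉ Cfsg.tau2 M :=
  fun h2 => h2.2.2.2 (pRankLE_one_of_kappa h)

/-- the `σ(M)`/`σ(M)'`-decomposition of an element of `M` outside `M_σ`. -/
theorem exists_sigma_decomp (hG : Cfsg.IsMinSimpleOddOrder G) {M : Subgroup G} (hM : IsCoatom M)
    {a : G} (haM : a ∈ M) (haσ : a ∉ Cfsg.sigmaCore M) :
    ∃ s u : G, s ∈ Subgroup.zpowers a ∧ u ∈ Subgroup.zpowers a ∧ s ∈ Cfsg.sigmaCore M ∧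
      u ≠ 1 ∧ (∀ p : ℕ, p.Prime → p ∣ orderOf u → p ∉ Cfsg.sigma M) ∧ s * u = a ∧
      ∀ p : ℕ, p.Prime → p ∣ orderOf a → p ∉ Cfsg.sigma M → p ∣ orderOf u := by
  obtain ⟨s, u, hs, hu, hsπ, huπ, hsu⟩ :=
    exists_pi_decomp (Cfsg.sigma M) a (isOfFinOrder_of_finite a)
  have hsM : s ∈ M := (Subgroup.zpowers_le.mpr haM) hs
  have hsσ : s ∈ Cfsg.sigmaCore M :=
    (Cfsg.Agent.Lib.Helper9.BG144.mem_sigmaCore_iff hG hM).mpr ⟨hsM, hsπ⟩
  refine ⟨s, u, hs, hu, hsσ, ?_, fun p hp hd => huπ p hp hd, hsu, ?_⟩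
  · rintro rfl
    rw [mul_one] at hsu
    rw [← hsu] at haσ
    exact haσ hsσ
  · intro p hp hpa hpσ
    have hc : Commute s u := Cfsg.Agent.Lib.Helper22.PiClasses.commute_zpowers hs hu
    have h1 : orderOf a ∣ orderOf s * orderOf u := by
      rw [← hsu]
      exact hc.orderOf_mul_dvd_lcm.trans (Nat.lcm_dvd_mul _ _)
    rcases (Nat.Prime.dvd_mul hp).mp (hpa.trans h1) with h | h
    · exact absurd (hsπ p hp h) hpσ
    · exact h

/-- **the dichotomy (T)/(K)** for an element of `M̂_σ` outside `M_σ`. -/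
theorem tau2_or_kappa (hG : Cfsg.IsMinSimpleOddOrder G) {M : Subgroup G} (hM : IsCoatom M)
    {a y : G} (haM : a ∈ M) (hy : y ∈ Cfsg.sigmaCore M) (hy1 : y ≠ 1) (hay : a * y = y * a)
    (haσ : a ∉ Cfsg.sigmaCore M) :
    ((∀ p : ℕ, p.Prime → p ∣ orderOf a → p ∉ Cfsg.sigma M → p ∈ Cfsg.tau2 M) ∧
      ∀ a' ∈ Subgroup.zpowers a, a' ≠ 1 →
        (∀ p : ℕ, p.Prime → p ∣ orderOf a' → p ∉ Cfsg.sigma M) →
        Subgroup.centralizer ({a'} : Set G) ≤ M ∧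
          ∀ L : Subgroup G, IsCoatom L → Subgroup.centralizer ({a'} : Set G) ≤ L → L = M) ∨
    (∀ p : ℕ, p.Prime → p ∣ orderOf a → p ∉ Cfsg.sigma M → p ∈ Cfsg.kappa M) := by
  obtain ⟨s, u, hs, hu, hsσ, hu1, huσ, hsu, hdiv⟩ := exists_sigma_decomp hG hM haM haσ
  have hzM : Subgroup.zpowers a ≤ M := Subgroup.zpowers_le.mpr haM
  have hcent : ∀ a' ∈ Subgroup.zpowers a,
      a' ∈ M ⊓ Subgroup.centralizer ({y} : Set G) := by
    intro a' ha'
    refine Subgroup.mem_inf.mpr ⟨hzM ha', ?_⟩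
    rw [Subgroup.mem_centralizer_iff]
    intro z hz
    rw [Set.mem_singleton_iff] at hz
    rw [hz]
    obtain ⟨k, rfl⟩ := Subgroup.mem_zpowers_iff.mp ha'
    exact ((Commute.zpow_left (show Commute a y from hay) k).eq).symm
  rcases Cfsg.Agent.S1432.result hG M hM y hy hy1 u (hcent u hu) hu1 huσ with h | h
  · right
    intro p hp hpa hpσ
    exact h.1 p hp (hdiv p hp hpa hpσ)
  · left
    have hfirst : ∀ p : ℕ, p.Prime → p ∣ orderOf a → p ∉ Cfsg.sigma M → p ∈ Cfsg.tau2 M :=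
      fun p hp hpa hpσ => h.1 p hp (hdiv p hp hpa hpσ)
    refine ⟨hfirst, ?_⟩
    intro a' ha' ha'1 ha'σ
    rcases Cfsg.Agent.S1432.result hG M hM y hy hy1 a' (hcent a' ha') ha'1 ha'σ with h' | h'
    · exfalso
      have ho1 : orderOf a' ≠ 1 := fun h => ha'1 (orderOf_eq_one_iff.mp h)
      obtain ⟨p, hp, hpd⟩ := Nat.exists_prime_and_dvd ho1
      have hκ := h'.1 p hp hpd
      have hτ := hfirst p hp (hpd.trans (orderOf_dvd_of_mem_zpowers ha')) (ha'σ p hp hpd)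
      exact not_tau2_of_kappa hκ hτ
    · exact h'.2.2

/-- in case (K), an element of `A₀(M)^#` outside `M_σ` is `M`-conjugate into `Ẑ`. -/
theorem mem_zhat_of_kappa (hG : Cfsg.IsMinSimpleOddOrder G) {M K U : Subgroup G}
    (hM : IsCoatom M) (hKU : Cfsg.IsSigmaDecomposition M K U) {a : G} (ha : a ∈ BSet M K)
    (haσ : a ∉ Cfsg.sigmaCore M)
    (hκ : ∀ p : ℕ, p.Prime → p ∣ orderOf a → p ∉ Cfsg.sigma M → p ∈ Cfsg.kappa M) :
    K ≠ ⊥ ∧ ∃ m ∈ M, ∃ z ∈ zhat M K, a = m * z * m⁻¹ := by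
  obtain ⟨haM, -, hnk, ha1⟩ := mem_BSet.mp ha
  obtain ⟨s, u, hs, hu, hsσ, hu1, huσ, hsu, hdiv⟩ := exists_sigma_decomp hG hM haM haσ
  have hzM : Subgroup.zpowers a ≤ M := Subgroup.zpowers_le.mpr haM
  have huM : u ∈ M := hzM hu
  haveI hsolv : Group.IsSolvable ↥M := hG.2.2.2 M hM.1
  have huκ : ∀ p : ℕ, p.Prime → p ∣ Nat.card (Subgroup.zpowers u) → p ∈ Cfsg.kappa M := by
    intro p hp hd
    rw [Nat.card_zpowers] at hd
    exact hκ p hp (hd.trans (orderOf_dvd_of_mem_zpowers hu)) (huσ p hp hd)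
  obtain ⟨m, hm, hle⟩ := Cfsg.Agent.Lib.Helper27.BGConj.exists_conj_le_of_pi (Cfsg.kappa M)
    hsolv hKU.hall.1 (Subgroup.zpowers_le.mpr huM) huκ hKU.hall.2.2
  have hkK : m * u * m⁻¹ ∈ K := hle (conj_mem_map_conj (Subgroup.mem_zpowers u))
  have hk1 : m * u * m⁻¹ ≠ 1 := by
    intro h
    apply hu1
    have : u = m⁻¹ * (m * u * m⁻¹) * m := by group
    rw [this, h]; group
  have hK1 : K ≠ ⊥ := by
    intro h
    rw [h, Subgroup.mem_bot] at hkK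
    exact hk1 hkK
  refine ⟨hK1, ?_⟩
  have hc : Commute s u := Cfsg.Agent.Lib.Helper22.PiClasses.commute_zpowers hs hu
  have hs' : m * s * m⁻¹ ∈ kstar M K := by
    have h30 := (Cfsg.Agent.S1430.result hG M hM K hKU.hall hK1).1 _ hkK hk1
    show m * s * m⁻¹ ∈ Cfsg.sigmaCore M ⊓ Subgroup.centralizer (K : Set G)
    rw [← h30]
    refine Subgroup.mem_inf.mpr ⟨conj_mem_sigmaCore hm hsσ, ?_⟩
    rw [Subgroup.mem_centralizer_iff]
    intro z hz
    rw [Set.mem_singleton_iff] at hz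
    rw [hz]
    calc m * u * m⁻¹ * (m * s * m⁻¹) = m * (u * s) * m⁻¹ := by group
      _ = m * (s * u) * m⁻¹ := by rw [hc.eq]
      _ = m * s * m⁻¹ * (m * u * m⁻¹) := by group
  have hz : m * a * m⁻¹ = (m * s * m⁻¹) * (m * u * m⁻¹) := by
    rw [← hsu]; group
  refine ⟨m⁻¹, M.inv_mem hm, m * a * m⁻¹, ⟨?_, ?_⟩, by group⟩
  · rw [hz]
    exact Subgroup.mul_mem _ ((le_sup_right : kstar M K ≤ K ⊔ kstar M K) hs')
      ((le_sup_left : K ≤ K ⊔ kstar M K) hkK)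
  · rintro (h | h)
    · apply hnk
      refine ⟨m * a * m⁻¹, h, ?_, m⁻¹, M.inv_mem hm, by group⟩
      intro h1
      apply ha1
      have : a = m⁻¹ * (m * a * m⁻¹) * m := by group
      rw [this, h1]; group
    · apply haσ
      have h2 : m⁻¹ * (m * a * m⁻¹) * m⁻¹⁻¹ ∈ Cfsg.sigmaCore M :=
        conj_mem_sigmaCore (M.inv_mem hm) h.1
      have e : m⁻¹ * (m * a * m⁻¹) * m⁻¹⁻¹ = a := by group
      rwa [e] at h2

/-- for `z ∈ Ẑ` and `h z h⁻¹ ∈ Ẑ` one has `h ∈ Z = K K*` (S1370). -/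
theorem mem_of_conj_zhat (hG : Cfsg.IsMinSimpleOddOrder G) {M K U : Subgroup G}
    (hM : IsCoatom M) (hKU : Cfsg.IsSigmaDecomposition M K U) (hK1 : K ≠ ⊥) {z h : G}
    (hz : z ∈ zhat M K) (hhz : h * z * h⁻¹ ∈ zhat M K) : h ∈ K ⊔ kstar M K := by
  obtain ⟨hTI, hN⟩ := Cfsg.Agent.S1370.result hG M hM K U hKU hK1
  by_contra hh
  have hh' : h ∉ Subgroup.normalizer (zhat M K) := by
    rw [show zhat M K = ((↑(K ⊔ (Cfsg.sigmaCore M ⊓ Subgroup.centralizer (K : Set G))) : Set G) \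
      ((K : Set G) ∪ ↑(Cfsg.sigmaCore M ⊓ Subgroup.centralizer (K : Set G)))) from rfl, hN]
    exact hh
  have := hTI h hh' z hz hhz
  rw [this] at hz
  exact hz.2 (Or.inl K.one_mem)

theorem zhat_le (M K : Subgroup G) (hKM : K ≤ M) : K ⊔ kstar M K ≤ M :=
  sup_le hKM (inf_le_left.trans (sigmaCore_le M))

/-- `C_G(z) ≤ Z` for `z ∈ Ẑ`. -/
theorem centralizer_le_of_zhat (hG : Cfsg.IsMinSimpleOddOrder G) {M K U : Subgroup G}
    (hM : IsCoatom M) (hKU : Cfsg.IsSigmaDecomposition M K U) (hK1 : K ≠ ⊥) {z : G}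
    (hz : z ∈ zhat M K) : Subgroup.centralizer ({z} : Set G) ≤ K ⊔ kstar M K := by
  intro c hc
  apply mem_of_conj_zhat hG hM hKU hK1 hz
  have : c * z = z * c := by
    have := Subgroup.mem_centralizer_iff.mp hc z (Set.mem_singleton z)
    exact this.symm
  have e : c * z * c⁻¹ = z := by rw [this]; group
  rw [e]; exact hz

end Cfsg.Agent.Lib.Helper2.BGDs
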