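import Mathlib
import Cfsg.Agent.Lib.Helper2.BGDsC
import Cfsg.Agent.Lib.Helper16.BGTyA
import Cfsg.Agent.Lib.Helper1.BGX4

/-!
# The Dade hypothesis for `A₀(M)^#` in the `σ`-language (towards S1537, helper2), part 2.

`dade_BSet : DadeHypothesis (BSet M K) M (supportR M)` for a standard factorisation `M = K U M_σ`,
given the conclusion (a) of S1436 (B & G 14.4(c)) as a hypothesis `H1436a G`.
-/

set_option autoImplicit false
set_option linter.style.haveILetI false
set_option linter.unusedVariables false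
set_option linter.unusedSectionVars false

namespace Cfsg.Agent.Lib.Helper2.BGDs

open Cfsg
open Cfsg.Agent.Lib.Helper2.BGCor (primes_card_sigmaCore sigmaCore_le conj_mem_sigmaCore)
open Cfsg.Agent.Lib.Helper8 (mem_map_conj conj_mem_map_conj map_conj_map_conj map_conj_one
  mem_normalizer_iff_map_conj)
open Cfsg.Agent.Lib.Helper9.BG144 (RData exists_rdata supportR_of_le mem_sigmaCore_iff
  exists_conj_eq)
open Cfsg.Agent.Lib.Helper27.BGPCount (h1428_real sp_real)

universe u

variable {G : Type u} [Group G] [Finite G]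

/-- conclusion (a) of S1436 (B & G 14.4(c)). -/
def H1436a (G : Type u) [Group G] : Prop :=
  ∀ (M : Subgroup G), IsCoatom M → ∀ x : G, x ∈ Cfsg.sigmaCore M → x ≠ 1 →
    ¬ Subgroup.centralizer ({x} : Set G) ≤ M → ∀ N : Subgroup G, IsCoatom N →
    Subgroup.centralizer ({x} : Set G) ≤ N →
    (∃ p ∈ Cfsg.sigma N, p ∣ Nat.card M) → Cfsg.kappa M = ∅ ∧ Cfsg.tau2 M = ∅

theorem orderOf_conj' (g a : G) : orderOf (g * a * g⁻¹) = orderOf a := by
  have : g * a * g⁻¹ = (MulAut.conj g) a := by rw [MulAut.conj_apply]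
  rw [this]
  exact MulEquiv.orderOf_eq (MulAut.conj g) a

theorem conj_mem_zpowers {g a a' : G} (h : a' ∈ Subgroup.zpowers a) :
    g * a' * g⁻¹ ∈ Subgroup.zpowers (g * a * g⁻¹) := by
  obtain ⟨k, rfl⟩ := Subgroup.mem_zpowers_iff.mp h
  rw [Subgroup.mem_zpowers_iff]
  refine ⟨k, ?_⟩
  rw [conj_zpow]

theorem centralizer_le_of_mem_zpowers {a a' : G} (h : a' ∈ Subgroup.zpowers a) :
    Subgroup.centralizer ({a} : Set G) ≤ Subgroup.centralizer ({a'} : Set G) := by
  intro c hc
  rw [Subgroup.mem_centralizer_iff] at hc ⊢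
  intro z hz
  rw [Set.mem_singleton_iff] at hz
  rw [hz]
  obtain ⟨k, rfl⟩ := Subgroup.mem_zpowers_iff.mp h
  have h1 : a * c = c * a := hc a (Set.mem_singleton a)
  exact ((Commute.zpow_left (show Commute a c from h1) k).eq)

theorem centralizer_conj (g a : G) :
    Subgroup.centralizer ({g * a * g⁻¹} : Set G) =
      (Subgroup.centralizer ({a} : Set G)).map (MulAut.conj g).toMonoidHom := by
  ext c
  rw [mem_map_conj, Subgroup.mem_centralizer_iff, Subgroup.mem_centralizer_iff]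
  constructor
  · intro h z hz
    rw [Set.mem_singleton_iff] at hz
    rw [hz]
    have := h (g * a * g⁻¹) (Set.mem_singleton _)
    calc a * (g⁻¹ * c * g) = g⁻¹ * ((g * a * g⁻¹) * c) * g := by group
      _ = g⁻¹ * (c * (g * a * g⁻¹)) * g := by rw [this]
      _ = g⁻¹ * c * g * a := by group
  · intro h z hz
    rw [Set.mem_singleton_iff] at hz
    rw [hz]
    have := h a (Set.mem_singleton _)
    calc g * a * g⁻¹ * c = g * (a * (g⁻¹ * c * g)) * g⁻¹ := by group
      _ = g * ((g⁻¹ * c * g) * a) * g⁻¹ := by rw [this]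
      _ = c * (g * a * g⁻¹) := by group

section main

variable (hG : Cfsg.IsMinSimpleOddOrder G) {M K U : Subgroup G} (hM : IsCoatom M)
  (hKU : Cfsg.IsSigmaDecomposition M K U)

include hG hM in
/-- an element of `M` outside `M_σ` has a prime divisor of its order outside `σ(M)`. -/
theorem exists_prime_not_sigma {a : G} (haM : a ∈ M) (haσ : a ∉ Cfsg.sigmaCore M) :
    ∃ p : ℕ, p.Prime ∧ p ∣ orderOf a ∧ p ∉ Cfsg.sigma M := by
  by_contra h
  push Not at h
  exact haσ ((mem_sigmaCore_iff hG hM).mpr ⟨haM, h⟩)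

include hG hM in
theorem conj_not_mem_sigmaCore {a g : G} (haM : a ∈ M) (haσ : a ∉ Cfsg.sigmaCore M) :
    g * a * g⁻¹ ∉ Cfsg.sigmaCore M := by
  intro h
  obtain ⟨p, hp, hpa, hpσ⟩ := exists_prime_not_sigma hG hM haM haσ
  have := ((mem_sigmaCore_iff hG hM).mp h).2 p hp (by rw [orderOf_conj']; exact hpa)
  exact hpσ this

include hG hM in
theorem mem_of_map_conj_eq {g : G} (hM1 : M ≠ ⊥)
    (h : M.map (MulAut.conj g).toMonoidHom = M) : g ∈ M := by
  have := mem_normalizer_iff_map_conj.mpr h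
  rwa [Cfsg.Agent.Lib.Helper1.BGX.normalizer_coatom hG hM hM1] at this

include hG hM hKU in
/-- **fusion outside `M_σ`**: if `a ∈ A₀(M)^# ∖ M_σ` and `g a g⁻¹ ∈ A₀(M)^#` then `g ∈ M`. -/
theorem mem_of_conj_mem_BSet {a g : G} (ha : a ∈ BSet M K) (haσ : a ∉ Cfsg.sigmaCore M)
    (hb : g * a * g⁻¹ ∈ BSet M K) : g ∈ M := by
  obtain ⟨haM, ⟨y, hy, hy1, hay⟩, -, ha1⟩ := mem_BSet.mp ha
  obtain ⟨hbM, ⟨y', hy', hy'1, hby⟩, -, hb1⟩ := mem_BSet.mp hb
  have hM1 : M ≠ ⊥ := by
    intro h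
    rw [h, Subgroup.mem_bot] at haM
    exact ha1 haM
  have hbσ := conj_not_mem_sigmaCore hG hM (g := g) haM haσ
  obtain ⟨p, hp, hpa, hpσ⟩ := exists_prime_not_sigma hG hM haM haσ
  have hpb : p ∣ orderOf (g * a * g⁻¹) := by rw [orderOf_conj']; exact hpa
  rcases tau2_or_kappa hG hM haM hy hy1 hay haσ with hT | hK
  · rcases tau2_or_kappa hG hM hbM hy' hy'1 hby hbσ with hT' | hK'
    · obtain ⟨s, u, hs, hu, hsσ, hu1, huσ, hsu, hdiv⟩ := exists_sigma_decomp hG hM haM haσ
      have h1 := (hT.2 u hu hu1 huσ).1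
      have hu' : g * u * g⁻¹ ∈ Subgroup.zpowers (g * a * g⁻¹) := conj_mem_zpowers hu
      have hu'1 : g * u * g⁻¹ ≠ 1 := by
        intro h
        apply hu1
        have : u = g⁻¹ * (g * u * g⁻¹) * g := by group
        rw [this, h]; group
      have hu'σ : ∀ p : ℕ, p.Prime → p ∣ orderOf (g * u * g⁻¹) → p ∉ Cfsg.sigma M := by
        intro q hq hd
        rw [orderOf_conj'] at hd
        exact huσ q hq hd
      have h2 := (hT'.2 _ hu' hu'1 hu'σ).2
      have h3 : Subgroup.centralizer ({g * u * g⁻¹} : Set G) ≤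
          M.map (MulAut.conj g).toMonoidHom := by
        rw [centralizer_conj]
        exact Subgroup.map_mono h1
      have h4 := h2 _ (Cfsg.Agent.Lib.Helper17.BGU.isCoatom_map_conj g hM) h3
      exact mem_of_map_conj_eq hG hM hM1 h4
    · exact absurd (hT.1 p hp hpa hpσ) (not_tau2_of_kappa (hK' p hp hpb hpσ))
  · rcases tau2_or_kappa hG hM hbM hy' hy'1 hby hbσ with hT' | hK'
    · exact absurd (hT'.1 p hp hpb hpσ) (not_tau2_of_kappa (hK p hp hpa hpσ))
    · obtain ⟨hK1, m, hm, z, hz, e⟩ := mem_zhat_of_kappa hG hM hKU ha haσ hK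
      obtain ⟨-, m', hm', z', hz', e'⟩ := mem_zhat_of_kappa hG hM hKU hb hbσ hK'
      have hh : (m'⁻¹ * g * m) * z * (m'⁻¹ * g * m)⁻¹ ∈ zhat M K := by
        have : (m'⁻¹ * g * m) * z * (m'⁻¹ * g * m)⁻¹ = m'⁻¹ * (g * (m * z * m⁻¹) * g⁻¹) * m' := by
          group
        rw [this, ← e, e']
        have : m'⁻¹ * (m' * z' * m'⁻¹) * m' = z' := by group
        rw [this]; exact hz'
      have h5 := zhat_le M K hKU.hall.1 (mem_of_conj_zhat hG hM hKU hK1 hz hh)
      have : g = m' * (m'⁻¹ * g * m) * m⁻¹ := by group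
      rw [this]
      exact M.mul_mem (M.mul_mem hm' h5) (M.inv_mem hm)

include hG hM hKU in
/-- outside `M_σ` the centralizers of the elements of `A₀(M)^#` lie in `M`. -/
theorem centralizer_le_of_not_sigma {a : G} (ha : a ∈ BSet M K) (haσ : a ∉ Cfsg.sigmaCore M) :
    Subgroup.centralizer ({a} : Set G) ≤ M := by
  intro c hc
  apply mem_of_conj_mem_BSet hG hM hKU ha haσ
  have : c * a = a * c := by
    have := Subgroup.mem_centralizer_iff.mp hc a (Set.mem_singleton a)
    exact this.symm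
  have e : c * a * c⁻¹ = a := by rw [this]; group
  rw [e]; exact ha

include hG hM hKU in
/-- **fusion in `A₀(M)^#`** is controlled by `M`. -/
theorem fusion_BSet {a g : G} (ha : a ∈ BSet M K) (hb : g * a * g⁻¹ ∈ BSet M K) :
    ∃ x ∈ M, x * a * x⁻¹ = g * a * g⁻¹ := by
  by_cases haσ : a ∈ Cfsg.sigmaCore M
  · obtain ⟨haM, -, -, ha1⟩ := mem_BSet.mp ha
    have hM1 : M ≠ ⊥ := by
      intro h
      rw [h, Subgroup.mem_bot] at haM
      exact ha1 haM
    have hbM : g * a * g⁻¹ ∈ M := BSet_subset M K hb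
    have hmem : a ∈ M.map (MulAut.conj g⁻¹).toMonoidHom := by
      rw [mem_map_conj, inv_inv]; exact hbM
    obtain ⟨r, hra, hMr, -⟩ := exists_conj_eq hG (sp_real hG) (h1428_real hG) hM haσ ha1 hmem
    have h1 : M.map (MulAut.conj (g * r)).toMonoidHom = M := by
      rw [← map_conj_map_conj, ← hMr, map_conj_map_conj, mul_inv_cancel, map_conj_one]
    refine ⟨g * r, mem_of_map_conj_eq hG hM hM1 h1, ?_⟩
    calc g * r * a * (g * r)⁻¹ = g * (r * a) * r⁻¹ * g⁻¹ := by group
      _ = g * (a * r) * r⁻¹ * g⁻¹ := by rw [hra]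
      _ = g * a * g⁻¹ := by group
  · exact ⟨g, mem_of_conj_mem_BSet hG hM hKU ha haσ hb, rfl⟩

include hG hM hKU in
/-- `R(a) = 1` unless `a ∈ M_σ` and `C_G(a) ⊄ M`. -/
theorem supportR_eq_bot_of_not_sigma {a : G} (ha : a ∈ BSet M K)
    (haσ : a ∉ Cfsg.sigmaCore M) : Cfsg.supportR M a = ⊥ :=
  supportR_of_le (centralizer_le_of_not_sigma hG hM hKU ha haσ)

include hG hM hKU in
/-- the two complement clauses. -/
theorem compl_BSet {a : G} (ha : a ∈ BSet M K) :
    Cfsg.supportR M a ⊓ (M ⊓ Subgroup.centralizer ({a} : Set G)) = ⊥ ∧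
      Cfsg.supportR M a ⊔ (M ⊓ Subgroup.centralizer ({a} : Set G)) =
        Subgroup.centralizer ({a} : Set G) := by
  by_cases hC : Subgroup.centralizer ({a} : Set G) ≤ M
  · rw [supportR_of_le hC, bot_inf_eq, bot_sup_eq, inf_eq_right.mpr hC]
    exact ⟨rfl, rfl⟩
  · have haσ : a ∈ Cfsg.sigmaCore M := by
      by_contra h
      exact hC (centralizer_le_of_not_sigma hG hM hKU ha h)
    obtain ⟨-, -, -, ha1⟩ := mem_BSet.mp ha
    obtain ⟨N, ⟨hN, hCN⟩, huniq, hσF, -, hcompl, -, -⟩ :=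
      Cfsg.Agent.S1375.result hG M hM a haσ ha1 hC
    rw [Cfsg.Agent.Lib.Helper9.BG144.supportR_of_unique hC hN hCN huniq, ← hσF]
    refine ⟨?_, ?_⟩
    · rw [inf_comm]; exact hcompl.2.2.1
    · rw [sup_comm]; exact Cfsg.Agent.Lib.Helper16.BGTy.isComplIn_sup_eq hcompl

include hG hM hKU in
/-- the coprimality clause (given S1436(a)). -/
theorem coprime_BSet (h36 : H1436a G) {a b : G} (ha : a ∈ BSet M K) (hb : b ∈ BSet M K) :
    Nat.Coprime (Nat.card (Cfsg.supportR M a))
      (Nat.card ↥(M ⊓ Subgroup.centralizer ({b} : Set G))) := by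
  by_cases hC : Subgroup.centralizer ({a} : Set G) ≤ M
  · rw [supportR_of_le hC, Subgroup.card_bot]
    exact Nat.coprime_one_left _
  · have haσ : a ∈ Cfsg.sigmaCore M := by
      by_contra h
      exact hC (centralizer_le_of_not_sigma hG hM hKU ha h)
    obtain ⟨-, -, -, ha1⟩ := mem_BSet.mp ha
    obtain ⟨N, hN⟩ := exists_rdata hG (sp_real hG) (h1428_real hG) hM haσ ha1 hC
    rw [hN.supportR_eq hG hC]
    apply Nat.coprime_of_dvd
    intro s hs hs1 hs2
    have hsN : s ∈ Cfsg.sigma N :=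
      primes_card_sigmaCore N s hs (hs1.trans (Subgroup.card_dvd_of_le inf_le_left))
    have hsM : s ∣ Nat.card M := hs2.trans (Subgroup.card_dvd_of_le inf_le_left)
    obtain ⟨hκ, hτ⟩ := h36 M hM a haσ ha1 hC N hN.coatom hN.cent_le ⟨s, hsN, hsM⟩
    have hsσ : s ∉ Cfsg.sigma M := hN.sigma_disjoint (sp_real hG) hM haσ ha1 hsN
    haveI : Fact s.Prime := ⟨hs⟩
    obtain ⟨c, hc⟩ := exists_prime_orderOf_dvd_card' (G := ↥(M ⊓ Subgroup.centralizer ({b} : Set G)))
      s hs2
    have hcmem : (c : G) ∈ M ⊓ Subgroup.centralizer ({b} : Set G) := c.2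
    have hco : orderOf (c : G) = s := by rw [Subgroup.orderOf_coe]; exact hc
    have hc1 : (c : G) ≠ 1 := by
      intro h
      rw [h, orderOf_one] at hco
      exact hs.one_lt.ne hco
    obtain ⟨hbM, ⟨y, hy, hy1, hby⟩, -, hb1⟩ := mem_BSet.mp hb
    by_cases hbσ : b ∈ Cfsg.sigmaCore M
    · have hcσ : ∀ p : ℕ, p.Prime → p ∣ orderOf (c : G) → p ∉ Cfsg.sigma M := by
        intro p hp hd
        rw [hco] at hd
        rw [(Nat.prime_dvd_prime_iff_eq hp hs).mp hd]
        exact hsσ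
      rcases Cfsg.Agent.S1432.result hG M hM b hbσ hb1 (c : G) hcmem hc1 hcσ with h | h
      · have := h.1 s hs (by rw [hco])
        rw [hκ] at this
        exact this
      · have := h.1 s hs (by rw [hco])
        rw [hτ] at this
        exact this
    · obtain ⟨p, hp, hpb, hpσ⟩ := exists_prime_not_sigma hG hM hbM hbσ
      rcases tau2_or_kappa hG hM hbM hy hy1 hby hbσ with hT | hK
      · have := hT.1 p hp hpb hpσ
        rw [hτ] at this
        exact this
      · have := hK p hp hpb hpσ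
        rw [hκ] at this
        exact this

include hG hM hKU in
/-- **the Dade hypothesis for `A₀(M)^#`** (σ-language), given S1436(a). -/
theorem dade_BSet (h36 : H1436a G) : Cfsg.DadeHypothesis (BSet M K) M (Cfsg.supportR M) where
  one_not_mem := fun h => (mem_BSet.mp h).2.2.2 rfl
  subset := BSet_subset M K
  conj_mem := fun x hx a ha => conj_mem_BSet hx ha
  fusion := fun a ha g hg => fusion_BSet hG hM hKU ha hg
  le_centralizer := fun a _ => supportR_le_centralizer M a
  conj_mem_H := fun a _ c hc u hu => conj_mem_supportR_of_mem_centralizer M a hc hu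
  inf_eq_bot := fun a ha => (compl_BSet hG hM hKU ha).1
  sup_eq := fun a ha => (compl_BSet hG hM hKU ha).2
  coprime := fun a ha b hb => coprime_BSet hG hM hKU h36 ha hb

end main

end Cfsg.Agent.Lib.Helper2.BGDs
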