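import Mathlib
import Cfsg.Agent.Lib.Helper2.BGDsD
import Cfsg.Agent.Lib.Helper16.BGTyE
import Cfsg.Agent.Lib.Helper19.BGTyp8
import Cfsg.Agent.Lib.Helper8.BGEx5
import Cfsg.Agent.Lib.Helper9.BG152B
import Cfsg.Agent.S1364
import Cfsg.Agent.S1365

/-!
# The Dade hypothesis for `A₁(M)`, `A(M)`, `A₀(M)` in the language of types (towards S1537,
helper2), part 3: the sets of the type-language lie in `A₀(M)^#` of the `σ`-language, are
`M`-invariant and nonempty.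
-/

set_option autoImplicit false
set_option linter.style.haveILetI false
set_option linter.unusedVariables false
set_option linter.unusedSectionVars false

namespace Cfsg.Agent.Lib.Helper2.BGDs

open Cfsg
open Cfsg.Agent.Lib.Helper2.BGCor (sigmaCore_le conj_mem_sigmaCore)
open Cfsg.Agent.Lib.Helper16.BGTy (HNU HKF)

universe u

variable {G : Type u} [Group G] [Finite G] {M K U : Subgroup G}

theorem conj_mem_fittingHallOf {m a : G} (hm : m ∈ M) (ha : a ∈ Cfsg.fittingHallOf M) :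
    m * a * m⁻¹ ∈ Cfsg.fittingHallOf M := by
  obtain ⟨a', ha', rfl⟩ := ha
  exact ⟨⟨m, hm⟩ * a' * ⟨m, hm⟩⁻¹, (Cfsg.fittingHall_normal ↥M).conj_mem a' ha' ⟨m, hm⟩, rfl⟩

theorem conj_mem_typeCore {m a : G} (hm : m ∈ M) (ha : a ∈ Cfsg.typeCore M) :
    m * a * m⁻¹ ∈ Cfsg.typeCore M := by
  unfold Cfsg.typeCore at ha ⊢
  split_ifs at ha ⊢ with h
  · exact Cfsg.Agent.Lib.Helper16.BGPrim.conj_mem_commutator_self hm ha
  · exact conj_mem_fittingHallOf hm ha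

theorem ne_one_of_conj_ne_one {m a : G} (h : a ≠ 1) : m * a * m⁻¹ ≠ 1 := by
  intro h1
  apply h
  have : a = m⁻¹ * (m * a * m⁻¹) * m := by group
  rw [this, h1]; group

theorem conj_comm {m a x : G} (h : a * x = x * a) :
    m * a * m⁻¹ * (m * x * m⁻¹) = m * x * m⁻¹ * (m * a * m⁻¹) := by
  calc m * a * m⁻¹ * (m * x * m⁻¹) = m * (a * x) * m⁻¹ := by group
    _ = m * (x * a) * m⁻¹ := by rw [h]
    _ = m * x * m⁻¹ * (m * a * m⁻¹) := by group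

/-- elements of `M_σ^#` are not `M`-conjugate into `K`. -/
theorem not_conj_K_of_mem_sigmaCore (hKσ : K ⊓ Cfsg.sigmaCore M = ⊥) {a : G}
    (ha : a ∈ Cfsg.sigmaCore M) :
    ¬ ∃ k ∈ K, k ≠ 1 ∧ ∃ m ∈ M, a = m * k * m⁻¹ := by
  rintro ⟨k, hk, hk1, m, hm, rfl⟩
  apply hk1
  have h1 : k ∈ Cfsg.sigmaCore M := by
    have := conj_mem_sigmaCore (M.inv_mem hm) ha
    have e : m⁻¹ * (m * k * m⁻¹) * m⁻¹⁻¹ = k := by group
    rwa [e] at this
  have : k ∈ K ⊓ Cfsg.sigmaCore M := Subgroup.mem_inf.mpr ⟨hk, h1⟩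
  rw [hKσ] at this
  exact Subgroup.mem_bot.mp this

theorem mem_BSet_of_mem_sigmaCore (hKσ : K ⊓ Cfsg.sigmaCore M = ⊥) {a : G}
    (ha : a ∈ Cfsg.sigmaCore M) (ha1 : a ≠ 1) : a ∈ BSet M K :=
  mem_BSet.mpr ⟨sigmaCore_le M ha, ⟨a, ha, ha1, rfl⟩, not_conj_K_of_mem_sigmaCore hKσ ha, ha1⟩

/-- `K ∩ U M_σ = 1`. -/
theorem K_inf_sup (hKU : Cfsg.IsSigmaDecomposition M K U) (hKσ : K ⊓ Cfsg.sigmaCore M = ⊥) :
    K ⊓ (U ⊔ Cfsg.sigmaCore M) = ⊥ := by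
  rw [eq_bot_iff]
  intro k hk
  obtain ⟨hkK, hk2⟩ := Subgroup.mem_inf.mp hk
  have hUn : U ≤ Subgroup.normalizer ((Cfsg.sigmaCore M : Subgroup G) : Set G) := by
    intro u hu
    rw [Subgroup.mem_normalizer_iff]
    intro n
    have huM : u ∈ M := hKU.compl.1 hu
    constructor
    · intro hn
      exact conj_mem_sigmaCore huM hn
    · intro hn
      have := conj_mem_sigmaCore (M.inv_mem huM) hn
      have e : u⁻¹ * (u * n * u⁻¹) * u⁻¹⁻¹ = n := by group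
      rwa [e] at this
  have h1 : k ∈ ((U ⊔ Cfsg.sigmaCore M : Subgroup G) : Set G) := hk2
  rw [Subgroup.coe_mul_of_left_le_normalizer_right U _ hUn] at h1
  obtain ⟨u, hu, s, hs, e0⟩ := h1
  have e0' : u * s = k := e0
  subst e0'
  have hu' : u ∈ U ⊓ (K ⊔ Cfsg.sigmaCore M) := by
    refine Subgroup.mem_inf.mpr ⟨hu, ?_⟩
    have e : u = u * s * s⁻¹ := by group
    rw [e]
    exact Subgroup.mul_mem _ (Subgroup.mem_sup_left hkK)
      (Subgroup.mem_sup_right (Subgroup.inv_mem _ hs))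
  rw [hKU.compl.2.2.1] at hu'
  have hu1 : u = 1 := Subgroup.mem_bot.mp hu'
  rw [hu1, one_mul] at hkK ⊢
  have : s ∈ K ⊓ Cfsg.sigmaCore M := Subgroup.mem_inf.mpr ⟨hkK, hs⟩
  rw [hKσ] at this
  exact this

/-- elements of `U M_σ` are not `M`-conjugate into `K^#`. -/
theorem not_conj_K_of_mem_sup (hKU : Cfsg.IsSigmaDecomposition M K U)
    (hKσ : K ⊓ Cfsg.sigmaCore M = ⊥)
    (hnorm : ∀ m ∈ M, ∀ a ∈ U ⊔ Cfsg.sigmaCore M, m * a * m⁻¹ ∈ U ⊔ Cfsg.sigmaCore M) {a : G}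
    (ha : a ∈ U ⊔ Cfsg.sigmaCore M) :
    ¬ ∃ k ∈ K, k ≠ 1 ∧ ∃ m ∈ M, a = m * k * m⁻¹ := by
  rintro ⟨k, hk, hk1, m, hm, rfl⟩
  apply hk1
  have h1 : k ∈ U ⊔ Cfsg.sigmaCore M := by
    have := hnorm m⁻¹ (M.inv_mem hm) _ ha
    have e : m⁻¹ * (m * k * m⁻¹) * m⁻¹⁻¹ = k := by group
    rwa [e] at this
  have : k ∈ K ⊓ (U ⊔ Cfsg.sigmaCore M) := Subgroup.mem_inf.mpr ⟨hk, h1⟩
  rw [K_inf_sup hKU hKσ] at this
  exact Subgroup.mem_bot.mp this

section main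

variable (hG : Cfsg.IsMinSimpleOddOrder G) (hM : IsCoatom M)
include hG hM

omit hM in
theorem hkf_real : HKF G := fun M K U hM hKU hK1 =>
  (Cfsg.Agent.S1364.result hG M hM K U hKU hK1).2.2.1

/-- `M_F ≠ 1`. -/
theorem fittingHallOf_ne_bot : Cfsg.fittingHallOf M ≠ ⊥ := by
  obtain ⟨K, U, hKU⟩ := Cfsg.Agent.Lib.Helper16.BGTy.exists_sigmaDecomposition hG hM
  by_cases hK : K = ⊥
  · have hU := Cfsg.Agent.Lib.Helper16.BGTy.U_ne_bot_of_K_eq_bot hG hM hKU hK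
    rw [← Cfsg.Agent.Lib.Helper16.BGTy.sigmaCore_eq_fittingHallOf_of_U_ne_bot hG hM hKU hU]
    exact Cfsg.Agent.Lib.Helper8.BGEx.sigmaCore_ne_bot_of_coatom hG hM
  · obtain ⟨-, h1, h2, -⟩ := Cfsg.Agent.S1364.result hG M hM K U hKU hK
    intro h0
    apply h1
    rw [eq_bot_iff, ← h0]
    exact h2

theorem fittingHallOf_le_sigmaCore' : Cfsg.fittingHallOf M ≤ Cfsg.sigmaCore M :=
  Cfsg.Agent.Lib.Helper9.BG144.fittingHallOf_le_sigmaCore hG hM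

theorem sigmaCore_le_derived' : Cfsg.sigmaCore M ≤ ⁅M, M⁆ :=
  Cfsg.Agent.Lib.Helper19.BGTyp.sigmaCore_le_derived hG hM

/-- `K = 1` ⟹ `M` is not of type P. -/
theorem not_III_IV_of_K_bot (hKU : Cfsg.IsSigmaDecomposition M K U) (hK : K = ⊥) :
    ¬ (Cfsg.IsOfTypeIII M ∨ Cfsg.IsOfTypeIV M) := by
  intro h
  obtain ⟨W₁, U', W₂, hP, -, -⟩ := Cfsg.Agent.Lib.Helper16.BGTy.typeIII_IV_data h
  exact Cfsg.Agent.Lib.Helper16.BGTy.typeP_K_ne_bot hG hM hP hKU.hall hK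

theorem not_III_IV_of_typeI (hI : Cfsg.IsOfTypeI M) :
    ¬ (Cfsg.IsOfTypeIII M ∨ Cfsg.IsOfTypeIV M) := by
  obtain ⟨K, U, hKU⟩ := Cfsg.Agent.Lib.Helper16.BGTy.exists_sigmaDecomposition hG hM
  exact not_III_IV_of_K_bot hG hM hKU
    (Cfsg.Agent.Lib.Helper16.BGTy.typeI_imp hG (hkf_real hG) hM hKU hI).1

theorem typeCore_le_sigmaCore (h63 : HNU G) : Cfsg.typeCore M ≤ Cfsg.sigmaCore M := by
  by_cases h : Cfsg.IsOfTypeIII M ∨ Cfsg.IsOfTypeIV M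
  · rw [Cfsg.Agent.Lib.Helper16.BGTy.typeCore_eq_of_III_IV h,
      Cfsg.Agent.Lib.Helper16.BGTy.typeIII_IV_commutator_eq hG h63 hM h]
  · rw [Cfsg.Agent.Lib.Helper16.BGTy.typeCore_eq_of_not_III_IV h]
    exact fittingHallOf_le_sigmaCore' hG hM

theorem fittingHallOf_le_typeCore : Cfsg.fittingHallOf M ≤ Cfsg.typeCore M := by
  by_cases h : Cfsg.IsOfTypeIII M ∨ Cfsg.IsOfTypeIV M
  · rw [Cfsg.Agent.Lib.Helper16.BGTy.typeCore_eq_of_III_IV h]
    exact (fittingHallOf_le_sigmaCore' hG hM).trans (sigmaCore_le_derived' hG hM)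
  · rw [Cfsg.Agent.Lib.Helper16.BGTy.typeCore_eq_of_not_III_IV h]

theorem typeCore_le_derived : Cfsg.typeCore M ≤ ⁅M, M⁆ := by
  by_cases h : Cfsg.IsOfTypeIII M ∨ Cfsg.IsOfTypeIV M
  · rw [Cfsg.Agent.Lib.Helper16.BGTy.typeCore_eq_of_III_IV h]
  · rw [Cfsg.Agent.Lib.Helper16.BGTy.typeCore_eq_of_not_III_IV h]
    exact (fittingHallOf_le_sigmaCore' hG hM).trans (sigmaCore_le_derived' hG hM)

theorem typeCore_ne_bot : Cfsg.typeCore M ≠ ⊥ := by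
  intro h0
  apply fittingHallOf_ne_bot hG hM
  rw [eq_bot_iff, ← h0]
  exact fittingHallOf_le_typeCore hG hM

omit hG hM in
theorem derived_le : ⁅M, M⁆ ≤ M := Cfsg.Agent.Lib.Helper16.BGPrim.commutator_self_le' M

/-! ### the three sets -/

theorem typeA1_nonempty : ∃ a ∈ Cfsg.typeA1 M, a ≠ 1 := by
  obtain ⟨a, ha1⟩ := (Subgroup.ne_bot_iff_exists_ne_one.mp (typeCore_ne_bot hG hM))
  refine ⟨a.1, ⟨a.2, ?_⟩, ?_⟩
  · intro h
    exact ha1 (Subtype.ext h)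
  · intro h
    exact ha1 (Subtype.ext h)

theorem typeA1_subset_typeA : Cfsg.typeA1 M ⊆ Cfsg.typeA M := by
  rintro a ⟨ha, ha1⟩
  have ha1' : a ≠ 1 := ha1
  unfold Cfsg.typeA
  split_ifs with hI
  · have h := not_III_IV_of_typeI hG hM hI
    rw [SetLike.mem_coe, Cfsg.Agent.Lib.Helper16.BGTy.typeCore_eq_of_not_III_IV h] at ha
    exact ⟨Cfsg.Agent.Lib.Helper16.BGTy.fittingHallOf_le M ha, ha1', a, ha, ha1', rfl⟩
  · exact ⟨typeCore_le_derived hG hM ha, ha1', a, ha, ha1', rfl⟩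

omit hG hM in
theorem typeA_subset_typeA0 : Cfsg.typeA M ⊆ Cfsg.typeA0 M := fun a ha => Or.inl ha

omit hG hM in
theorem typeA1_invariant : ∀ m ∈ M, ∀ a ∈ Cfsg.typeA1 M, m * a * m⁻¹ ∈ Cfsg.typeA1 M := by
  rintro m hm a ⟨ha, ha1⟩
  exact ⟨conj_mem_typeCore hm ha, ne_one_of_conj_ne_one ha1⟩

omit hG hM in
theorem typeA_invariant : ∀ m ∈ M, ∀ a ∈ Cfsg.typeA M, m * a * m⁻¹ ∈ Cfsg.typeA M := by
  intro m hm a ha
  unfold Cfsg.typeA at ha ⊢
  split_ifs at ha ⊢ with hI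
  · obtain ⟨haM, ha1, x, hx, hx1, hax⟩ := ha
    exact ⟨M.mul_mem (M.mul_mem hm haM) (M.inv_mem hm), ne_one_of_conj_ne_one ha1,
      m * x * m⁻¹, conj_mem_fittingHallOf hm hx, ne_one_of_conj_ne_one hx1, conj_comm hax⟩
  · obtain ⟨haM, ha1, x, hx, hx1, hax⟩ := ha
    exact ⟨Cfsg.Agent.Lib.Helper16.BGPrim.conj_mem_commutator_self hm haM,
      ne_one_of_conj_ne_one ha1,
      m * x * m⁻¹, conj_mem_typeCore hm hx, ne_one_of_conj_ne_one hx1, conj_comm hax⟩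

omit hG hM in
theorem typeA0_invariant : ∀ m ∈ M, ∀ a ∈ Cfsg.typeA0 M, m * a * m⁻¹ ∈ Cfsg.typeA0 M := by
  intro m hm a ha
  rcases ha with ha | ⟨hI, W₁, U', W₂, hP, n, hn, w, hw, hw1, hw2, rfl⟩
  · exact Or.inl (typeA_invariant m hm a ha)
  · refine Or.inr ⟨hI, W₁, U', W₂, hP, m * n, M.mul_mem hm hn, w, hw, hw1, hw2, ?_⟩
    group

variable (hKU : Cfsg.IsSigmaDecomposition M K U)
include hKU

theorem typeA1_subset_BSet (h63 : HNU G) : Cfsg.typeA1 M ⊆ BSet M K := by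
  rintro a ⟨ha, ha1⟩
  exact mem_BSet_of_mem_sigmaCore (Cfsg.Agent.Lib.Helper9.BG152.K_inf_sigmaCore hG hM hKU)
    (typeCore_le_sigmaCore hG hM h63 ha) ha1

theorem typeA_subset_BSet (h63 : HNU G) : Cfsg.typeA M ⊆ BSet M K := by
  intro a ha
  have hKσ := Cfsg.Agent.Lib.Helper9.BG152.K_inf_sigmaCore hG hM hKU
  unfold Cfsg.typeA at ha
  split_ifs at ha with hI
  · obtain ⟨haM, ha1, x, hx, hx1, hax⟩ := ha
    have hK : K = ⊥ := (Cfsg.Agent.Lib.Helper16.BGTy.typeI_imp hG (hkf_real hG) hM hKU hI).1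
    refine mem_BSet.mpr ⟨haM, ⟨x, fittingHallOf_le_sigmaCore' hG hM hx, hx1, hax⟩, ?_, ha1⟩
    rintro ⟨k, hk, hk1, -⟩
    rw [hK] at hk
    exact hk1 (Subgroup.mem_bot.mp hk)
  · obtain ⟨haM', ha1, x, hx, hx1, hax⟩ := ha
    refine mem_BSet.mpr ⟨derived_le haM', ⟨x, typeCore_le_sigmaCore hG hM h63 hx, hx1, hax⟩,
      ?_, ha1⟩
    by_cases hK : K = ⊥
    · rintro ⟨k, hk, hk1, -⟩
      rw [hK] at hk
      exact hk1 (Subgroup.mem_bot.mp hk)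
    · have hM' := (Cfsg.Agent.S1365.result hG M hM K U hKU hK).1
      apply not_conj_K_of_mem_sup hKU hKσ ?_ (hM' ▸ haM')
      intro m hm b hb
      rw [← hM'] at hb ⊢
      exact Cfsg.Agent.Lib.Helper16.BGPrim.conj_mem_commutator_self hm hb

/-- the elements of `W₁W₂ ∖ (W₁ ∪ W₂)` lie in `A₀(M)^#` of the `σ`-language. -/
theorem zhatType_subset_BSet {W₁ U' W₂ : Subgroup G} (hP : Cfsg.IsTypePWith M W₁ U' W₂) {w : G}
    (hw : w ∈ W₁ ⊔ W₂) (hw1 : w ∉ W₁) (hw2 : w ∉ W₂) : w ∈ BSet M K := by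
  have hKσ := Cfsg.Agent.Lib.Helper9.BG152.K_inf_sigmaCore hG hM hKU
  obtain ⟨hW1ne, hW2ne, hinf, hcomm, hcyc, hN⟩ := hP.selfNormalizing
  have hWn : W₁ ≤ Subgroup.normalizer ((W₂ : Subgroup G) : Set G) := by
    intro a ha
    rw [Subgroup.mem_normalizer_iff]
    intro n
    constructor
    · intro hn
      have e : a * n * a⁻¹ = n := by rw [hcomm a ha n hn]; group
      rw [e]; exact hn
    · intro hn
      have e : n = a⁻¹ * (a * n * a⁻¹) * a := by group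
      have e2 : a⁻¹ * (a * n * a⁻¹) * a = a * n * a⁻¹ := by
        have := hcomm a ha _ hn
        calc a⁻¹ * (a * n * a⁻¹) * a = a⁻¹ * (a * (a * n * a⁻¹)) := by rw [this]; group
          _ = a * n * a⁻¹ := by group
      rw [e, e2]; exact hn
  have h1 : w ∈ ((W₁ ⊔ W₂ : Subgroup G) : Set G) := hw
  rw [Subgroup.coe_mul_of_left_le_normalizer_right W₁ _ hWn] at h1
  obtain ⟨a, ha, b, hb, e0⟩ := h1
  have e0' : a * b = w := e0
  subst e0'
  have ha' : a ∈ W₁ := ha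
  have hb' : b ∈ W₂ := hb
  have hb1 : b ≠ 1 := by
    intro h
    apply hw1
    rw [h, mul_one]; exact ha'
  have hbF : b ∈ Cfsg.fittingHallOf M := (hP.W₂_le hb').1
  have hbσ : b ∈ Cfsg.sigmaCore M := fittingHallOf_le_sigmaCore' hG hM hbF
  have hbM' : b ∈ ⁅M, M⁆ := sigmaCore_le_derived' hG hM hbσ
  have haM : a ∈ M := hP.W₁_compl.2.1 ha'
  have hab : a * b = b * a := hcomm a ha' b hb'
  have hw1' : a * b ≠ 1 := by
    intro h
    apply hw1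
    rw [h]; exact W₁.one_mem
  refine mem_BSet.mpr ⟨M.mul_mem haM (sigmaCore_le M hbσ), ⟨b, hbσ, hb1, ?_⟩, ?_, hw1'⟩
  · rw [hab, mul_assoc, ← hab]
  · rintro ⟨k, hk, hk1, n, hn, e⟩
    apply hb1
    set c := Nat.card W₁ with hc
    have hac : a ^ c = 1 := by
      have h0 : (⟨a, ha'⟩ : W₁) ^ Nat.card W₁ = 1 := pow_card_eq_one'
      have h0' := congrArg Subtype.val h0
      rw [Subgroup.coe_pow, Subgroup.coe_one] at h0'
      exact h0'
    have h2 : (a * b) ^ c = b ^ c := by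
      rw [(show Commute a b from hab).mul_pow, hac, one_mul]
    have h3 : (n * k * n⁻¹) ^ c = n * k ^ c * n⁻¹ := conj_pow
    rw [e, h3] at h2
    have hkc : k ^ c ∈ Cfsg.sigmaCore M := by
      have h4 : n⁻¹ * (b ^ c) * n⁻¹⁻¹ ∈ Cfsg.sigmaCore M :=
        conj_mem_sigmaCore (M.inv_mem hn) (Subgroup.pow_mem _ hbσ c)
      rw [← h2] at h4
      have e4 : n⁻¹ * (n * k ^ c * n⁻¹) * n⁻¹⁻¹ = k ^ c := by group
      rwa [e4] at h4
    have hkc1 : k ^ c = 1 := by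
      have : k ^ c ∈ K ⊓ Cfsg.sigmaCore M := Subgroup.mem_inf.mpr ⟨Subgroup.pow_mem _ hk c, hkc⟩
      rw [hKσ] at this
      exact Subgroup.mem_bot.mp this
    have hbc : b ^ c = 1 := by
      rw [← h2, hkc1]; group
    have hd1 : orderOf b ∣ c := orderOf_dvd_of_pow_eq_one hbc
    have hd2 : orderOf b ∣ Nat.card ↥⁅M, M⁆ := Subgroup.orderOf_dvd_natCard _ hbM'
    have hcop := Cfsg.Agent.Lib.Helper16.BGTy.typeP_coprime_W1 hP
    have : orderOf b = 1 := Nat.eq_one_of_dvd_coprimes hcop hd1 hd2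
    exact orderOf_eq_one_iff.mp this

theorem typeA0_subset_BSet (h63 : HNU G) : Cfsg.typeA0 M ⊆ BSet M K := by
  intro a ha
  rcases ha with ha | ⟨hI, W₁, U', W₂, hP, n, hn, w, hw, hw1, hw2, rfl⟩
  · exact typeA_subset_BSet hG hM hKU h63 ha
  · exact conj_mem_BSet hn (zhatType_subset_BSet hG hM hKU hP hw hw1 hw2)

/-- **S1537** in hypothesis form. -/
theorem s1537_of (h36 : H1436a G) (h63 : HNU G) (A : Set G)
    (hA : A = Cfsg.typeA1 M ∨ A = Cfsg.typeA M ∨ A = Cfsg.typeA0 M) :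
    Subgroup.normalizer A = M ∧ Cfsg.DadeHypothesis A M (Cfsg.supportR M) := by
  have hD := dade_BSet hG hM hKU h36
  have hne1 := typeA1_nonempty hG hM
  rcases hA with rfl | rfl | rfl
  · have hsub := typeA1_subset_BSet hG hM hKU h63
    exact ⟨normalizer_eq_of_invariant hG hM (hsub.trans (BSet_subset M K)) hne1 typeA1_invariant,
      dade_mono hD hsub typeA1_invariant⟩
  · have hsub := typeA_subset_BSet hG hM hKU h63
    obtain ⟨a, ha, ha1⟩ := hne1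
    exact ⟨normalizer_eq_of_invariant hG hM (hsub.trans (BSet_subset M K))
        ⟨a, typeA1_subset_typeA hG hM ha, ha1⟩ typeA_invariant,
      dade_mono hD hsub typeA_invariant⟩
  · have hsub := typeA0_subset_BSet hG hM hKU h63
    obtain ⟨a, ha, ha1⟩ := hne1
    exact ⟨normalizer_eq_of_invariant hG hM (hsub.trans (BSet_subset M K))
        ⟨a, typeA_subset_typeA0 (typeA1_subset_typeA hG hM ha), ha1⟩ typeA0_invariant,
      dade_mono hD hsub typeA0_invariant⟩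

end main

end Cfsg.Agent.Lib.Helper2.BGDs
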