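/-
helper2: group theory for the Brauer-Leonard theorem: Sylow p-subgroups all of whose
non-identity elements have the centralizer of the whole Sylow subgroup.
-/
import Mathlib

set_option autoImplicit false
set_option linter.unusedSectionVars false
open scoped Pointwise

namespace Cfsg.Agent.Lib.Helper2.BLGroup

theorem pow_pow_mul_of_pow_mul {K : Type*} [Monoid K] (r : ℕ)
    (h : ∀ c d : K, (c * d) ^ r = c ^ r * d ^ r) (k : ℕ) (c d : K) :
    (c * d) ^ (r ^ k) = c ^ (r ^ k) * d ^ (r ^ k) := by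
  induction k with
  | zero => simp
  | succ k ih => rw [pow_succ, pow_mul, pow_mul, pow_mul, ih, h]

open scoped IsMulCommutative in
/-- power map into a central Sylow subgroup -/
theorem exists_pow_hom {K : Type*} [Group K] [Finite K] {p : ℕ} [Fact p.Prime] (Q : Sylow p K)
    (hQ : (Q : Subgroup K) ≤ Subgroup.center K) :
    ∃ a : ℕ, (∀ c : K, c ^ a ∈ (Q : Subgroup K)) ∧ (∀ u ∈ (Q : Subgroup K), u ^ a = u) ∧
      ∀ c d : K, (c * d) ^ a = c ^ a * d ^ a := by
  classical
  have hcomm : ∀ (a : K), a ∈ (Q : Subgroup K) → ∀ b : K, a * b = b * a := by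
    intro a ha b
    exact ((Subgroup.mem_center_iff.mp (hQ ha)) b).symm
  have : IsMulCommutative (Q : Subgroup K) :=
    ⟨⟨fun a b => Subtype.ext (hcomm a a.2 b)⟩⟩
  set r := (Q : Subgroup K).index with hr
  have key : ∀ (g : K) (k : ℕ) (g₀ : K), g₀⁻¹ * g ^ k * g₀ ∈ (Q : Subgroup K) →
      g₀⁻¹ * g ^ k * g₀ = g ^ k := by
    intro g k g₀ h
    obtain ⟨z, hz⟩ : ∃ z, z = g₀⁻¹ * g ^ k * g₀ := ⟨_, rfl⟩
    rw [← hz] at h ⊢
    have e1 : g ^ k = g₀ * z * g₀⁻¹ := by rw [hz]; group
    rw [← hcomm z h g₀, mul_assoc, mul_inv_cancel, mul_one] at e1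
    exact e1.symm
  have hmul : ∀ c d : K, (c * d) ^ r = c ^ r * d ^ r := by
    intro c d
    have h1 := MonoidHom.transfer_eq_pow (MonoidHom.id (Q : Subgroup K)) (c * d) (key (c * d))
    have h2 := MonoidHom.transfer_eq_pow (MonoidHom.id (Q : Subgroup K)) c (key c)
    have h3 := MonoidHom.transfer_eq_pow (MonoidHom.id (Q : Subgroup K)) d (key d)
    rw [map_mul, h2, h3] at h1
    have := congrArg Subtype.val h1
    simpa using this.symm
  have hmem : ∀ c : K, c ^ r ∈ (Q : Subgroup K) := by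
    intro c
    exact MonoidHom.transfer_eq_pow_aux c (key c)
  set q := Nat.card (Q : Subgroup K) with hq
  have hcop : Nat.Coprime r q := by
    obtain ⟨n, hn⟩ := IsPGroup.iff_card.mp Q.2
    rw [hq, hn]
    apply Nat.Coprime.pow_right
    rw [Nat.coprime_comm]
    exact (Nat.Prime.coprime_iff_not_dvd Fact.out).mpr Q.not_dvd_index
  have hqpos : 0 < q := Nat.card_pos
  have htot : 0 < Nat.totient q := Nat.totient_pos.mpr hqpos
  have hmod : r ^ Nat.totient q ≡ 1 [MOD q] := Nat.ModEq.pow_totient hcop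
  refine ⟨r ^ Nat.totient q, ?_, ?_, ?_⟩
  · intro c
    obtain ⟨k, hk⟩ : ∃ k, Nat.totient q = k + 1 := ⟨Nat.totient q - 1, by omega⟩
    rw [hk, pow_succ', pow_mul]
    exact Subgroup.pow_mem _ (hmem c) _
  · intro u hu
    have hr0 : 0 < r := Nat.pos_of_ne_zero (Subgroup.FiniteIndex.index_ne_zero)
    have h1 : 1 ≤ r ^ Nat.totient q := Nat.one_le_pow _ _ hr0
    have h2 : q ∣ r ^ Nat.totient q - 1 := (Nat.modEq_iff_dvd' h1).mp hmod.symm
    obtain ⟨t, ht⟩ := h2
    have h3 : r ^ Nat.totient q = 1 + q * t := by omega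
    have h4 : u ^ q = 1 := by
      have h5 : (⟨u, hu⟩ : (Q : Subgroup K)) ^ Nat.card (Q : Subgroup K) = 1 := pow_card_eq_one'
      have h6 := congrArg Subtype.val h5
      rw [Subgroup.coe_pow, Subgroup.coe_one] at h6
      exact h6
    rw [h3, pow_add, pow_one, pow_mul, h4, one_pow, mul_one]
  · exact pow_pow_mul_of_pow_mul r hmul _


section star

variable {G : Type*} [Group G] [Finite G] {p : ℕ} [Fact p.Prime] (P : Sylow p G)
  (hstar : ∀ x ∈ (P : Subgroup G), x ≠ 1 →
    Subgroup.centralizer ({x} : Set G) = Subgroup.centralizer ((P : Subgroup G) : Set G))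

include hstar

theorem mem_centralizer_iff_comm {x : G} (hx : x ∈ (P : Subgroup G)) (hx1 : x ≠ 1) (g : G) :
    g ∈ Subgroup.centralizer ((P : Subgroup G) : Set G) ↔ x * g = g * x := by
  rw [← hstar x hx hx1, Subgroup.mem_centralizer_iff]
  simp

theorem le_centralizer :
    (P : Subgroup G) ≤ Subgroup.centralizer ((P : Subgroup G) : Set G) := by
  intro x hx
  by_cases hx1 : x = 1
  · rw [hx1]
    exact one_mem _
  · exact (mem_centralizer_iff_comm P hstar hx hx1 x).mpr rfl

omit hstar in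
theorem mem_of_isPGroup_zpowers {x : G}
    (hxC : x ∈ Subgroup.centralizer ((P : Subgroup G) : Set G))
    (hx : IsPGroup p (Subgroup.zpowers x)) : x ∈ (P : Subgroup G) := by
  have h1 : Subgroup.zpowers x ≤ Subgroup.normalizer ((P : Subgroup G) : Set G) := by
    rw [Subgroup.zpowers_le]
    exact Subgroup.centralizer_le_normalizer _ hxC
  have h2 := IsPGroup.to_sup_of_normal_right' hx P.2 h1
  have h3 := P.is_maximal' h2 le_sup_right
  have h4 : x ∈ Subgroup.zpowers x ⊔ (P : Subgroup G) :=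
    (le_sup_left : Subgroup.zpowers x ≤ _) (Subgroup.mem_zpowers x)
  rw [h3] at h4
  exact h4

omit hstar in
theorem isPGroup_zpowers_of_mem {x : G} (hx : x ∈ (P : Subgroup G)) :
    IsPGroup p (Subgroup.zpowers x) :=
  P.2.to_le ((Subgroup.zpowers_le).mpr hx)

omit hstar in
theorem isPGroup_zpowers_conj {x : G} (hx : IsPGroup p (Subgroup.zpowers x)) (g : G) :
    IsPGroup p (Subgroup.zpowers (g * x * g⁻¹)) := by
  have h := hx.map (MulAut.conj g).toMonoidHom
  rw [MonoidHom.map_zpowers] at h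
  have e : (MulAut.conj g).toMonoidHom x = g * x * g⁻¹ := by simp
  rw [e] at h
  exact h


theorem mem_normalizer_of_conj_mem {y g : G} (hy : y ∈ (P : Subgroup G)) (hy1 : y ≠ 1)
    (hgy : g * y * g⁻¹ ∈ (P : Subgroup G)) :
    g ∈ Subgroup.normalizer ((P : Subgroup G) : Set G) := by
  have hx1 : g * y * g⁻¹ ≠ 1 := by
    intro h
    apply hy1
    have : y = g⁻¹ * (g * y * g⁻¹) * g := by group
    rw [this, h]
    group
  rw [Subgroup.mem_set_normalizer_iff]
  intro h
  constructor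
  · intro hh
    have hhC := le_centralizer P hstar hh
    have h1 := (mem_centralizer_iff_comm P hstar hy hy1 h).mp hhC
    have h2 : g * h * g⁻¹ ∈ Subgroup.centralizer ((P : Subgroup G) : Set G) := by
      rw [mem_centralizer_iff_comm P hstar hgy hx1]
      calc g * y * g⁻¹ * (g * h * g⁻¹) = g * (y * h) * g⁻¹ := by group
        _ = g * (h * y) * g⁻¹ := by rw [h1]
        _ = g * h * g⁻¹ * (g * y * g⁻¹) := by group
    exact mem_of_isPGroup_zpowers P h2 (isPGroup_zpowers_conj (isPGroup_zpowers_of_mem P hh) g)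
  · intro hh
    have hhC := le_centralizer P hstar hh
    have h1 := (mem_centralizer_iff_comm P hstar hgy hx1 _).mp hhC
    have h2 : h ∈ Subgroup.centralizer ((P : Subgroup G) : Set G) := by
      rw [mem_centralizer_iff_comm P hstar hy hy1]
      calc y * h = g⁻¹ * (g * y * g⁻¹ * (g * h * g⁻¹)) * g := by group
        _ = g⁻¹ * (g * h * g⁻¹ * (g * y * g⁻¹)) * g := by rw [h1]
        _ = h * y := by group
    have h3 := isPGroup_zpowers_conj (isPGroup_zpowers_of_mem P hh) g⁻¹
    have e : g⁻¹ * (g * h * g⁻¹) * g⁻¹⁻¹ = h := by group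
    rw [e] at h3
    exact mem_of_isPGroup_zpowers P h2 h3

theorem ti (g : G) (hg : g ∉ Subgroup.normalizer ((P : Subgroup G) : Set G)) :
    (P : Subgroup G) ⊓ (MulAut.conj g • (P : Subgroup G)) = ⊥ := by
  rw [Subgroup.eq_bot_iff_forall]
  intro x hx
  by_contra hx1
  obtain ⟨hxP, hxg⟩ := Subgroup.mem_inf.mp hx
  rw [Subgroup.mem_pointwise_smul_iff_inv_smul_mem] at hxg
  have e : (MulAut.conj g)⁻¹ • x = g⁻¹ * x * g := by
    rw [← map_inv]
    simp
  rw [e] at hxg
  apply hg
  apply mem_normalizer_of_conj_mem P hstar hxg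
  · intro h
    apply hx1
    have : x = g * (g⁻¹ * x * g) * g⁻¹ := by group
    rw [this, h]
    group
  · have : g * (g⁻¹ * x * g) * g⁻¹ = x := by group
    rw [this]
    exact hxP

/-- the TI-set of elements with a non-identity power in `P` -/
def setA (P : Sylow p G) : Set G := {t : G | ∃ u ∈ (P : Subgroup G), u ≠ 1 ∧ u ∈ Subgroup.zpowers t}

omit hstar in
theorem one_not_mem_setA : (1 : G) ∉ setA P := by
  rintro ⟨u, _, hu1, hu⟩
  rw [Subgroup.zpowers_one_eq_bot, Subgroup.mem_bot] at hu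
  exact hu1 hu

theorem setA_subset {t : G} (ht : t ∈ setA P) :
    t ∈ Subgroup.centralizer ((P : Subgroup G) : Set G) := by
  obtain ⟨u, huP, hu1, hu⟩ := ht
  rw [mem_centralizer_iff_comm P hstar huP hu1]
  obtain ⟨k, rfl⟩ := Subgroup.mem_zpowers_iff.mp hu
  exact ((Commute.refl t).zpow_left k).eq

omit hstar in
theorem mem_setA_of_mem {u : G} (hu : u ∈ (P : Subgroup G)) (hu1 : u ≠ 1) : u ∈ setA P :=
  ⟨u, hu, hu1, Subgroup.mem_zpowers u⟩

theorem setA_ti {t g : G} (ht : t ∈ setA P) (hgt : g * t * g⁻¹ ∈ setA P) :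
    g ∈ Subgroup.normalizer ((P : Subgroup G) : Set G) := by
  obtain ⟨u, huP, hu1, hu⟩ := ht
  obtain ⟨k, rfl⟩ := Subgroup.mem_zpowers_iff.mp hu
  have hC := setA_subset P hstar hgt
  have h2 : g * t ^ k * g⁻¹ ∈ Subgroup.centralizer ((P : Subgroup G) : Set G) := by
    rw [← conj_zpow]
    exact Subgroup.zpow_mem _ hC k
  have h3 := mem_of_isPGroup_zpowers P h2
    (isPGroup_zpowers_conj (isPGroup_zpowers_of_mem P huP) g)
  exact mem_normalizer_of_conj_mem P hstar huP hu1 h3

omit hstar in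
theorem conj_mem_setA {n t : G} (hn : n ∈ Subgroup.normalizer ((P : Subgroup G) : Set G))
    (ht : t ∈ setA P) : n * t * n⁻¹ ∈ setA P := by
  obtain ⟨u, huP, hu1, hu⟩ := ht
  obtain ⟨k, rfl⟩ := Subgroup.mem_zpowers_iff.mp hu
  refine ⟨n * t ^ k * n⁻¹, ?_, ?_, ?_⟩
  · exact (Subgroup.mem_set_normalizer_iff.mp hn _).mp huP
  · intro h
    apply hu1
    have : t ^ k = n⁻¹ * (n * t ^ k * n⁻¹) * n := by group
    rw [this, h]
    group
  · rw [← conj_zpow]
    exact Subgroup.zpow_mem _ (Subgroup.mem_zpowers _) k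

theorem normalizer_setA (hne : ∃ u ∈ (P : Subgroup G), u ≠ 1) :
    Subgroup.normalizer (setA P) = Subgroup.normalizer ((P : Subgroup G) : Set G) := by
  obtain ⟨u, huP, hu1⟩ := hne
  apply le_antisymm
  · intro g hg
    have h1 := (Subgroup.mem_set_normalizer_iff.mp hg u).mp (mem_setA_of_mem P huP hu1)
    exact setA_ti P hstar (mem_setA_of_mem P huP hu1) h1
  · intro n hn
    rw [Subgroup.mem_set_normalizer_iff]
    intro t
    constructor
    · exact conj_mem_setA P hn
    · intro h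
      have := conj_mem_setA P (Subgroup.inv_mem _ hn) h
      have e : n⁻¹ * (n * t * n⁻¹) * n⁻¹⁻¹ = t := by group
      rw [e] at this
      exact this

theorem setA_TI (hne : ∃ u ∈ (P : Subgroup G), u ≠ 1) (g : G)
    (hg : g ∉ Subgroup.normalizer (setA P)) (t : G) (ht : t ∈ setA P)
    (hgt : g * t * g⁻¹ ∈ setA P) : t = 1 := by
  exfalso
  apply hg
  rw [normalizer_setA P hstar hne]
  exact setA_ti P hstar ht hgt

end star

end Cfsg.Agent.Lib.Helper2.BLGroup
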