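/-
helper2: local character theory for the Brauer-Leonard theorem: a group `N` with normal
subgroups `P ≤ C`, `P` central in `C`, `N/C` acting semiregularly on `P`, and a power map
`c ↦ c ^ a` projecting `C` onto `P`.
-/
import Mathlib
import Cfsg.Prelude.Def_Characters
import Cfsg.Agent.Lib.Lead.CharInd
import Cfsg.Agent.Lib.Lead.CharOrtho
import Cfsg.Agent.Lib.Lead.CharMain
import Cfsg.Agent.Lib.Lead.CharMore
import Cfsg.Agent.Lib.Lead.CharEquiv
import Cfsg.Agent.Lib.Helper6.Clifford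
import Cfsg.Agent.Lib.Helper6.CliffordCorr
import Cfsg.Agent.Lib.Helper6.CharNorm
import Cfsg.Agent.Lib.Helper6.LinChar
import Cfsg.Agent.Lib.Helper6.CharExtra
import Cfsg.Agent.Lib.Helper6.AbelianQuot
import Cfsg.Agent.Lib.Helper24.CentralElt

set_option autoImplicit false
set_option linter.unusedSectionVars false
open scoped ComplexConjugate

namespace Cfsg.Agent.Lib.Helper2.BLLocal

open Cfsg Cfsg.Agent.CharLib Cfsg.Agent.Lib.Helper6

universe u
variable {N : Type u} [Group N] [Fintype N]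

/-- the local configuration -/
structure LocalData (C P : Subgroup N) (a : ℕ) : Prop where
  hPC : P ≤ C
  cent : ∀ u ∈ P, ∀ c ∈ C, u * c = c * u
  semi : ∀ n : N, ∀ u ∈ P, u ≠ 1 → n * u * n⁻¹ = u → n ∈ C
  pow_mem : ∀ c ∈ C, c ^ a ∈ P
  pow_id : ∀ u ∈ P, u ^ a = u
  pow_mul : ∀ c ∈ C, ∀ d ∈ C, (c * d) ^ a = c ^ a * d ^ a

/-- elements of `C` with non-trivial projection to `P` -/
def setA (C : Subgroup N) (a : ℕ) : Set N := {x | x ∈ C ∧ x ^ a ≠ 1}

/-- `P` is not in the kernel -/
def PNontriv (P : Subgroup N) (θ : N → ℂ) : Prop := ∃ u ∈ P, θ u ≠ θ 1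

variable {C P : Subgroup N} [hC : C.Normal] [hP : P.Normal] [Fintype C] [Fintype P] {a : ℕ}

theorem LocalData.comm (hD : LocalData C P a) (u v : P) : u * v = v * u :=
  Subtype.ext (hD.cent u u.2 v (hD.hPC v.2))

theorem irr_apply_one (hD : LocalData C P a) {μ : P → ℂ} (hμ : IsIrrCharacter P μ) : μ 1 = 1 :=
  (comm_iff_forall_irr_apply_one.mp hD.comm) ⟨μ, hμ⟩

theorem conjFun_eq_conjNormal (n : N) (μ : P → ℂ) (u : P) :
    conjFun P n μ u = μ (MulAut.conjNormal n u) := by
  rw [conjFun_apply]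
  congr 1

/-- the stabilizer in `N` of a non-trivial linear character of `P` lies in `C` -/
theorem stab_le (hD : LocalData C P a) {μ : P → ℂ} (hμ : IsIrrCharacter P μ)
    (hμ1 : ∃ u : P, μ u ≠ 1) {n : N} (hn : conjFun P n μ = μ) : n ∈ C := by
  classical
  by_contra hnC
  have h1 := irr_apply_one hD hμ
  have hmul := IsCharacter.map_mul_of_apply_one (IsIrrCharacter.isCharacter hμ) h1
  let κ : P → P := fun u => MulAut.conjNormal n u * u⁻¹
  have hκ : ∀ u, μ (κ u) = 1 := by
    intro u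
    show μ (MulAut.conjNormal n u * u⁻¹) = 1
    rw [hmul, ← conjFun_eq_conjNormal n μ u, hn, ← hmul, mul_inv_cancel, h1]
  have hinj : Function.Injective κ := by
    intro u v huv
    have h3 : MulAut.conjNormal n u * u⁻¹ = MulAut.conjNormal n v * v⁻¹ := huv
    have h4 : MulAut.conjNormal n (v⁻¹ * u) = v⁻¹ * u := by
      rw [map_mul, map_inv]
      have e2 : MulAut.conjNormal n u = MulAut.conjNormal n v * v⁻¹ * u := by
        rw [← h3, inv_mul_cancel_right]
      rw [e2, mul_assoc, inv_mul_cancel_left]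
    by_contra huv'
    have h5 : ((v⁻¹ * u : P) : N) ≠ 1 := by
      intro h
      apply huv'
      have : v⁻¹ * u = 1 := Subtype.ext h
      rw [inv_mul_eq_one] at this
      exact this.symm
    have h6 := congrArg Subtype.val h4
    rw [MulAut.conjNormal_apply] at h6
    exact hnC (hD.semi n _ (v⁻¹ * u : P).2 h5 h6)
  have hsurj : Function.Surjective κ := Finite.injective_iff_surjective.mp hinj
  obtain ⟨u, hu⟩ := hμ1
  obtain ⟨v, rfl⟩ := hsurj u
  exact hu (hκ v)


/-- elements of `C` fix every function on `P` -/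
theorem conjFun_of_mem_C (hD : LocalData C P a) {c : N} (hc : c ∈ C) (μ : P → ℂ) :
    conjFun P c μ = μ := by
  funext u
  rw [conjFun_apply]
  congr 1
  apply Subtype.ext
  show c * u * c⁻¹ = u
  rw [← hD.cent u u.2 c hc, mul_inv_cancel_right]

theorem card_stab (hD : LocalData C P a) {μ : P → ℂ} (hμ : IsIrrCharacter P μ)
    (hμ1 : ∃ u : P, μ u ≠ 1) :
    Nat.card {g : N // conjFun P g μ = μ} = Nat.card C := by
  apply Nat.card_congr
  apply Equiv.subtypeEquivRight
  intro g
  exact ⟨fun h => stab_le hD hμ hμ1 h, fun h => conjFun_of_mem_C hD h μ⟩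

theorem card_conjOrbit (hD : LocalData C P a) {μ : P → ℂ} (hμ : IsIrrCharacter P μ)
    (hμ1 : ∃ u : P, μ u ≠ 1) : (conjOrbit P μ).card = C.index := by
  have h1 := card_conjOrbit_mul P μ
  rw [card_stab hD hμ hμ1, ← Subgroup.index_mul_card C] at h1
  exact Nat.eq_of_mul_eq_mul_right Nat.card_pos h1

theorem conjOrbit_nontriv {μ : P → ℂ} (hμ1 : ∃ u : P, μ u ≠ 1) {ψ : P → ℂ}
    (hψ : ψ ∈ conjOrbit P μ) : ∃ u : P, ψ u ≠ 1 := by
  obtain ⟨g, rfl⟩ := (mem_conjOrbit P).mp hψ
  obtain ⟨u, hu⟩ := hμ1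
  refine ⟨MulAut.conjNormal g⁻¹ u, ?_⟩
  rw [conjFun_eq_conjNormal, ← MulAut.mul_apply, ← map_mul, mul_inv_cancel, map_one]
  exact hu

/-- structure of the restriction to `P` of an irreducible character not trivial on `P` -/
theorem pnontriv_structure (hD : LocalData C P a) {θ : N → ℂ} (hθ : IsIrrCharacter N θ)
    (hnt : PNontriv P θ) :
    ∃ (μ : P → ℂ) (f : ℕ), IsIrrCharacter P μ ∧ (∃ u : P, μ u ≠ 1) ∧ 0 < f ∧
      resFun P θ = (f : ℂ) • ∑ ψ ∈ conjOrbit P μ, ψ ∧ (conjOrbit P μ).card = C.index ∧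
      θ 1 = ((f * C.index : ℕ) : ℂ) := by
  classical
  have hθc := IsIrrCharacter.isCharacter hθ
  have hres : IsCharacter P (resFun P θ) := isCharacter_resFun P hθc
  have hne : resFun P θ ≠ 0 := by
    intro h0
    obtain ⟨d, hd, hd1⟩ := IsIrrCharacter.apply_one_pos hθ
    have := congrFun h0 1
    rw [resFun_apply] at this
    simp only [Subgroup.coe_one, Pi.zero_apply] at this
    rw [hd1] at this
    have : d = 0 := by exact_mod_cast this
    omega
  obtain ⟨μ, hμ, hμne⟩ := IsCharacter.exists_constituent hres hne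
  have hcl := clifford P hθ hμ hμne
  obtain ⟨f, hf⟩ := IsCharacter.classInner_nat hres (IsIrrCharacter.isCharacter hμ)
  have hf0 : f ≠ 0 := by
    intro h0
    rw [h0, Nat.cast_zero] at hf
    exact hμne hf
  rw [hf] at hcl
  have hone : ∀ ψ ∈ conjOrbit P μ, ψ 1 = 1 := by
    intro ψ hψ
    obtain ⟨g, rfl⟩ := (mem_conjOrbit P).mp hψ
    exact irr_apply_one hD (isIrrCharacter_conjFun P hμ g)
  have hμ1 : ∃ u : P, μ u ≠ 1 := by
    by_contra hcon
    push Not at hcon
    obtain ⟨u, hu, hne⟩ := hnt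
    apply hne
    have hall : ∀ ψ ∈ conjOrbit P μ, ∀ v : P, ψ v = 1 := by
      intro ψ hψ v
      obtain ⟨g, rfl⟩ := (mem_conjOrbit P).mp hψ
      rw [conjFun_eq_conjNormal]
      exact hcon _
    have e1 := congrFun hcl ⟨u, hu⟩
    have e2 := congrFun hcl 1
    rw [resFun_apply, Pi.smul_apply, Finset.sum_apply] at e1 e2
    rw [Finset.sum_congr rfl (fun ψ hψ => hall ψ hψ _)] at e1 e2
    simp only [Subgroup.coe_one] at e2
    show θ u = θ 1
    rw [e1, e2]
  have hcard := card_conjOrbit hD hμ hμ1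
  refine ⟨μ, f, hμ, hμ1, Nat.pos_of_ne_zero hf0, hcl, hcard, ?_⟩
  have e2 := congrFun hcl 1
  rw [resFun_apply, Pi.smul_apply, Finset.sum_apply, Finset.sum_congr rfl hone] at e2
  simp only [Subgroup.coe_one, Finset.sum_const, hcard, smul_eq_mul, nsmul_eq_mul, mul_one] at e2
  rw [e2]
  push_cast
  ring


theorem card_irr_P (hD : LocalData C P a) : Nat.card (IrrCharacter P) = Nat.card P := by
  rw [card_irrCharacter]
  symm
  apply Nat.card_eq_of_bijective (ConjClasses.mk : P → ConjClasses P)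
  constructor
  · intro x y hxy
    rw [ConjClasses.mk_eq_mk_iff_isConj, isConj_iff] at hxy
    obtain ⟨c, hc⟩ := hxy
    rw [← hc, hD.comm c x, mul_inv_cancel_right]
  · exact ConjClasses.mk_surjective

theorem trivial_irr_eq {μ ν : P → ℂ} (hμ : ¬ ∃ u : P, μ u ≠ 1) (hν : ¬ ∃ u : P, ν u ≠ 1) :
    μ = ν := by
  push Not at hμ hν
  funext u
  rw [hμ u, hν u]

/-- a character of `N` whose restriction to `P` contains all non-trivial irreducible characters
has degree at least `|P| - 1` -/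
theorem card_le_degree_of_full (hD : LocalData C P a) {Ψ : N → ℂ} (hΨ : IsCharacter N Ψ)
    (h : ∀ μ : P → ℂ, IsIrrCharacter P μ → (∃ u : P, μ u ≠ 1) →
      classInner (resFun P Ψ) μ ≠ 0)
    {d : ℕ} (hd : Ψ 1 = d) : Nat.card P ≤ d + 1 := by
  classical
  let _ := fintypeIrr P
  obtain ⟨m, hm, hcoef⟩ := IsCharacter.exists_decomp_sum (isCharacter_resFun P hΨ)
  have h1 : (d : ℂ) = ∑ μ : IrrCharacter P, (m μ : ℂ) := by
    have e := congrFun hm 1
    rw [resFun_apply, Finset.sum_apply] at e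
    simp only [Subgroup.coe_one, Pi.smul_apply] at e
    rw [hd] at e
    rw [e]
    apply Finset.sum_congr rfl
    intro μ _
    rw [irr_apply_one hD μ.2]
    simp
  have h1' : d = ∑ μ : IrrCharacter P, m μ := by exact_mod_cast h1
  have h2 : Fintype.card (IrrCharacter P) = Nat.card P := by
    rw [← Nat.card_eq_fintype_card, card_irr_P hD]
  rw [← h2, h1']
  have hm1 : ∀ μ : IrrCharacter P, (∃ u : P, (μ : P → ℂ) u ≠ 1) → 1 ≤ m μ := by
    intro μ hμ
    have := h μ.1 μ.2 hμ
    rw [hcoef μ] at this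
    have : m μ ≠ 0 := by
      intro h0
      apply this
      rw [h0, Nat.cast_zero]
    omega
  have hsplit := Finset.card_filter_add_card_filter_not (s := (Finset.univ : Finset (IrrCharacter P)))
    (fun μ : IrrCharacter P => ∃ u : P, (μ : P → ℂ) u ≠ 1)
  have htriv : (Finset.univ.filter
      (fun μ : IrrCharacter P => ¬ ∃ u : P, (μ : P → ℂ) u ≠ 1)).card ≤ 1 := by
    rw [Finset.card_le_one]
    intro x hx y hy
    rw [Finset.mem_filter] at hx hy
    exact Subtype.ext (trivial_irr_eq hx.2 hy.2)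
  have hnon : (Finset.univ.filter
      (fun μ : IrrCharacter P => ∃ u : P, (μ : P → ℂ) u ≠ 1)).card ≤ ∑ μ : IrrCharacter P, m μ := by
    calc (Finset.univ.filter (fun μ : IrrCharacter P => ∃ u : P, (μ : P → ℂ) u ≠ 1)).card
        = ∑ μ ∈ Finset.univ.filter (fun μ : IrrCharacter P => ∃ u : P, (μ : P → ℂ) u ≠ 1), 1 := by
          simp
      _ ≤ ∑ μ ∈ Finset.univ.filter (fun μ : IrrCharacter P => ∃ u : P, (μ : P → ℂ) u ≠ 1), m μ := by
          apply Finset.sum_le_sum
          intro μ hμ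
          exact hm1 μ (Finset.mem_filter.mp hμ).2
      _ ≤ ∑ μ : IrrCharacter P, m μ := by
          apply Finset.sum_le_sum_of_subset
          exact Finset.filter_subset _ _
  rw [Finset.card_univ] at hsplit
  omega


/-- the irreducible constituents of the restriction to `P` form one orbit of size `|N : C|` -/
theorem exists_orbit (hD : LocalData C P a) {θ : N → ℂ} (hθ : IsIrrCharacter N θ)
    (hnt : PNontriv P θ) :
    ∃ O : Finset (P → ℂ), O.card = C.index ∧ (∀ ψ ∈ O, ∃ u : P, ψ u ≠ 1) ∧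
      ∀ η : P → ℂ, IsIrrCharacter P η → classInner (resFun P θ) η ≠ 0 → η ∈ O := by
  classical
  obtain ⟨μ, f, hμ, hμ1, hf, hcl, hcard, -⟩ := pnontriv_structure hD hθ hnt
  refine ⟨conjOrbit P μ, hcard, fun ψ hψ => conjOrbit_nontriv hμ1 hψ, ?_⟩
  intro η hη hne
  by_contra hmem
  apply hne
  rw [hcl, classInner_smul_left, classInner_sum_left]
  rw [Finset.sum_eq_zero, mul_zero]
  intro ψ hψ
  obtain ⟨g, rfl⟩ := (mem_conjOrbit P).mp hψ
  rw [classInner_irr (isIrrCharacter_conjFun P hμ g) hη, if_neg]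
  intro h
  exact hmem (h ▸ hψ)

theorem constituent_nontriv (hD : LocalData C P a) {θ : N → ℂ} (hθ : IsIrrCharacter N θ)
    (hnt : PNontriv P θ) {η : P → ℂ} (hη : IsIrrCharacter P η)
    (hne : classInner (resFun P θ) η ≠ 0) : ∃ u : P, η u ≠ 1 := by
  obtain ⟨O, -, hO1, hO2⟩ := exists_orbit hD hθ hnt
  exact hO1 η (hO2 η hη hne)

theorem degree_eq (hD : LocalData C P a) {θ : N → ℂ} (hθ : IsIrrCharacter N θ)
    (hnt : PNontriv P θ) : ∃ f : ℕ, 0 < f ∧ θ 1 = ((f * C.index : ℕ) : ℂ) := by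
  obtain ⟨μ, f, -, -, hf, -, -, h⟩ := pnontriv_structure hD hθ hnt
  exact ⟨f, hf, h⟩

theorem card_nontriv_irr (hD : LocalData C P a) [Fintype (IrrCharacter P)] :
    Nat.card P ≤ (Finset.univ.filter
      (fun μ : IrrCharacter P => ∃ u : P, (μ : P → ℂ) u ≠ 1)).card + 1 := by
  classical
  have h2 : Fintype.card (IrrCharacter P) = Nat.card P := by
    rw [← Nat.card_eq_fintype_card, card_irr_P hD]
  have hsplit := Finset.card_filter_add_card_filter_not (s := (Finset.univ : Finset (IrrCharacter P)))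
    (fun μ : IrrCharacter P => ∃ u : P, (μ : P → ℂ) u ≠ 1)
  have htriv : (Finset.univ.filter
      (fun μ : IrrCharacter P => ¬ ∃ u : P, (μ : P → ℂ) u ≠ 1)).card ≤ 1 := by
    rw [Finset.card_le_one]
    intro x hx y hy
    rw [Finset.mem_filter] at hx hy
    exact Subtype.ext (trivial_irr_eq hx.2 hy.2)
  rw [Finset.card_univ] at hsplit
  omega

/-- if `|N : C| + 1 < |P|`, some non-trivial character of `P` is not a constituent -/
theorem exists_nonconstituent (hD : LocalData C P a) {θ : N → ℂ} (hθ : IsIrrCharacter N θ)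
    (hnt : PNontriv P θ) (hlt : C.index + 1 < Nat.card P) :
    ∃ μ : P → ℂ, IsIrrCharacter P μ ∧ (∃ u : P, μ u ≠ 1) ∧ classInner (resFun P θ) μ = 0 := by
  classical
  let _ := fintypeIrr P
  by_contra hcon
  push Not at hcon
  obtain ⟨O, hOcard, -, hO2⟩ := exists_orbit hD hθ hnt
  have h1 := card_nontriv_irr hD (P := P)
  have h2 : (Finset.univ.filter
      (fun μ : IrrCharacter P => ∃ u : P, (μ : P → ℂ) u ≠ 1)).card ≤ O.card := by
    apply Finset.card_le_card_of_injOn (fun μ : IrrCharacter P => (μ : P → ℂ))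
    · intro μ hμ
      have hμ' := (Finset.mem_filter.mp hμ).2
      exact hO2 μ.1 μ.2 (hcon μ.1 μ.2 hμ')
    · intro x _ y _ hxy
      exact Subtype.ext hxy
  omega

/-- a full family is large -/
theorem card_le_mul_of_full (hD : LocalData C P a) (F : Finset (N → ℂ))
    (hF : ∀ θ ∈ F, IsIrrCharacter N θ ∧ PNontriv P θ)
    (hfull : ∀ μ : P → ℂ, IsIrrCharacter P μ → (∃ u : P, μ u ≠ 1) →
      ∃ θ ∈ F, classInner (resFun P θ) μ ≠ 0) :
    Nat.card P ≤ C.index * F.card + 1 := by
  classical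
  let _ := fintypeIrr P
  have h1 := card_nontriv_irr hD (P := P)
  set S := Finset.univ.filter (fun μ : IrrCharacter P => ∃ u : P, (μ : P → ℂ) u ≠ 1) with hS
  have hch : ∀ μ : IrrCharacter P, ∃ θ : N → ℂ, μ ∈ S → θ ∈ F ∧ classInner (resFun P θ) μ.1 ≠ 0 := by
    intro μ
    by_cases hμ : μ ∈ S
    · obtain ⟨θ, hθ, h⟩ := hfull μ.1 μ.2 (Finset.mem_filter.mp hμ).2
      exact ⟨θ, fun _ => ⟨hθ, h⟩⟩
    · exact ⟨0, fun h => absurd h hμ⟩
  choose g hg using hch
  have h2 : S.card ≤ C.index * (S.image g).card := by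
    apply Finset.card_le_mul_card_image
    intro θ hθ
    obtain ⟨μ₀, hμ₀, rfl⟩ := Finset.mem_image.mp hθ
    obtain ⟨hmem, -⟩ := hg μ₀ hμ₀
    obtain ⟨hirr, hnt⟩ := hF _ hmem
    obtain ⟨O, hOcard, -, hO2⟩ := exists_orbit hD hirr hnt
    rw [← hOcard]
    apply Finset.card_le_card_of_injOn (fun μ : IrrCharacter P => (μ : P → ℂ))
    · intro μ hμ
      rw [Finset.mem_coe, Finset.mem_filter] at hμ
      have := (hg μ hμ.1).2
      rw [hμ.2] at this
      exact hO2 μ.1 μ.2 this
    · intro x _ y _ hxy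
      exact Subtype.ext hxy
  have h3 : (S.image g).card ≤ F.card := by
    apply Finset.card_le_card
    intro θ hθ
    obtain ⟨μ₀, hμ₀, rfl⟩ := Finset.mem_image.mp hθ
    exact (hg μ₀ hμ₀).1
  have h4 : C.index * (S.image g).card ≤ C.index * F.card := Nat.mul_le_mul_left _ h3
  omega


theorem classInner_char_symm {H : Type u} [Group H] [Fintype H] {Φ Ψ : H → ℂ}
    (hΦ : IsCharacter H Φ) (hΨ : IsCharacter H Ψ) : classInner Φ Ψ = classInner Ψ Φ := by
  obtain ⟨n, hn⟩ := IsCharacter.classInner_nat hΦ hΨ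
  rw [← classInner_conj_symm Φ Ψ, hn, Complex.conj_natCast]

/-- general position: a `P`-trivial irreducible character `η` of `N` satisfies
`⟨θ_i, θ_0 η⟩ = 0` when some constituent of `θ_i|_P` is missing from `θ_0|_P`. -/
theorem general_position {θ₀ θᵢ η : N → ℂ} (hθ₀ : IsCharacter N θ₀)
    (hθᵢ : IsIrrCharacter N θᵢ) (hη : IsCharacter N η) (hηP : ¬ PNontriv P η)
    {μ : P → ℂ} (hμ : IsIrrCharacter P μ) (h0 : classInner (resFun P θ₀) μ = 0)
    (hi : classInner (resFun P θᵢ) μ ≠ 0) : classInner θᵢ (θ₀ * η) = 0 := by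
  classical
  by_contra hne
  have hprod : IsCharacter N (θ₀ * η) := IsCharacter.mul hθ₀ hη
  have hne' : classInner (θ₀ * η) θᵢ ≠ 0 := by
    rw [classInner_char_symm hprod (IsIrrCharacter.isCharacter hθᵢ)]
    exact hne
  have hsub := IsCharacter.sub_constituent hprod hθᵢ hne'
  have hres : resFun P (θ₀ * η) = η 1 • resFun P θ₀ := by
    funext u
    rw [resFun_apply, Pi.smul_apply, resFun_apply, Pi.mul_apply, smul_eq_mul, mul_comm]
    congr 1
    by_contra hcon
    exact hηP ⟨u, u.2, hcon⟩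
  have e1 : resFun P (θ₀ * η) = resFun P θᵢ + resFun P (θ₀ * η - θᵢ) := by
    rw [← map_add]
    congr 1
    abel
  have e2 : classInner (resFun P (θ₀ * η)) μ = 0 := by
    rw [hres, classInner_smul_left, h0, mul_zero]
  rw [e1, classInner_add_left] at e2
  obtain ⟨n1, hn1⟩ := IsCharacter.classInner_nat
    (isCharacter_resFun P (IsIrrCharacter.isCharacter hθᵢ)) (IsIrrCharacter.isCharacter hμ)
  obtain ⟨n2, hn2⟩ := IsCharacter.classInner_nat
    (isCharacter_resFun P hsub) (IsIrrCharacter.isCharacter hμ)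
  rw [hn1] at hi
  rw [hn1, hn2] at e2
  have : n1 + n2 = 0 := by exact_mod_cast e2
  have : n1 = 0 := by omega
  apply hi
  rw [this, Nat.cast_zero]


/-! ### The level of `C` -/

/-- the projection `C → P` -/
noncomputable def proj (hD : LocalData C P a) : C →* P where
  toFun c := ⟨(c : N) ^ a, hD.pow_mem c c.2⟩
  map_one' := by
    apply Subtype.ext
    simp
  map_mul' c d := by
    apply Subtype.ext
    simp [hD.pow_mul c c.2 d d.2]

theorem proj_inclusion (hD : LocalData C P a) (u : P) :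
    proj hD (Subgroup.inclusion hD.hPC u) = u :=
  Subtype.ext (hD.pow_id u u.2)

theorem coe_proj (hD : LocalData C P a) (c : C) : ((proj hD c : P) : N) = (c : N) ^ a := rfl

/-- `φ` has central character `ω` on `P` -/
def CentralHom (hD : LocalData C P a) (φ : C → ℂ) (ω : P →* ℂˣ) : Prop :=
  ∀ (u : P) (c : C), φ (Subgroup.inclusion hD.hPC u * c) = ((ω u : ℂˣ) : ℂ) * φ c

theorem inclusion_mem_center (hD : LocalData C P a) (u : P) :
    Subgroup.inclusion hD.hPC u ∈ Subgroup.center C := by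
  rw [Subgroup.mem_center_iff]
  intro c
  apply Subtype.ext
  exact (hD.cent u u.2 c c.2).symm

theorem exists_centralHom (hD : LocalData C P a) {φ : C → ℂ} (hφ : IsIrrCharacter C φ) :
    ∃ ω : P →* ℂˣ, CentralHom hD φ ω := by
  classical
  obtain ⟨d, hd, hd1⟩ := IsIrrCharacter.apply_one_pos hφ
  have hφ1 : φ 1 ≠ 0 := by
    rw [hd1]
    exact_mod_cast hd.ne'
  obtain ⟨n, ρ, hirr, rfl⟩ := hφ
  have : ρ.IsIrreducible := hirr
  have hsc : ∀ u : P, ∃ c : ℂ, ∀ g : C,
      ρ.character (Subgroup.inclusion hD.hPC u * g) = c * ρ.character g := by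
    intro u
    obtain ⟨c, hc⟩ := Cfsg.Agent.Lib.Helper24.exists_central_scalar ρ _ (inclusion_mem_center hD u)
    exact ⟨c, fun g => Cfsg.Agent.Lib.Helper24.char_scalar_mul ρ _ c hc g⟩
  choose sc hsc using hsc
  have hsc1 : sc 1 = 1 := by
    have := hsc 1 1
    rw [map_one, one_mul] at this
    have h2 : (1 - sc 1) * ρ.character 1 = 0 := by linear_combination this
    rcases mul_eq_zero.mp h2 with h | h
    · linear_combination -h
    · exact absurd h hφ1
  have hscmul : ∀ u v : P, sc (u * v) = sc u * sc v := by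
    intro u v
    have h1 := hsc (u * v) 1
    have h2 := hsc u (Subgroup.inclusion hD.hPC v * 1)
    have h3 := hsc v 1
    rw [map_mul, mul_assoc, h2, h3] at h1
    have h4 : (sc (u * v) - sc u * sc v) * ρ.character 1 = 0 := by linear_combination -h1
    rcases mul_eq_zero.mp h4 with h | h
    · linear_combination h
    · exact absurd h hφ1
  let f : P →* ℂ := { toFun := sc, map_one' := hsc1, map_mul' := hscmul }
  refine ⟨f.toHomUnits, ?_⟩
  intro u c
  rw [MonoidHom.coe_toHomUnits]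
  exact hsc u c

theorem CentralHom.apply_inclusion (hD : LocalData C P a) {φ : C → ℂ} {ω : P →* ℂˣ}
    (h : CentralHom hD φ ω) (u : P) :
    φ (Subgroup.inclusion hD.hPC u) = ((ω u : ℂˣ) : ℂ) * φ 1 := by
  have := h u 1
  rwa [mul_one] at this

theorem CentralHom.unique (hD : LocalData C P a) {φ : C → ℂ} {ω ω' : P →* ℂˣ}
    (hφ1 : φ 1 ≠ 0) (h : CentralHom hD φ ω) (h' : CentralHom hD φ ω') : ω = ω' := by
  apply MonoidHom.ext
  intro u
  apply Units.ext
  have e1 := h.apply_inclusion hD u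
  have e2 := h'.apply_inclusion hD u
  rw [e1] at e2
  exact mul_right_cancel₀ hφ1 e2

/-- conjugating by `n : N` twists the central character -/
theorem CentralHom.conjFun (hD : LocalData C P a) {φ : C → ℂ} {ω : P →* ℂˣ}
    (h : CentralHom hD φ ω) (n : N) :
    CentralHom hD (conjFun C n φ) (ω.comp (MulAut.conjNormal n : MulAut P).toMonoidHom) := by
  intro u c
  rw [conjFun_apply, conjFun_apply]
  have e : (⟨n * ((Subgroup.inclusion hD.hPC u * c : C) : N) * n⁻¹,
      hC.conj_mem _ (Subgroup.inclusion hD.hPC u * c : C).2 n⟩ : C) =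
      Subgroup.inclusion hD.hPC (MulAut.conjNormal n u) * ⟨n * c * n⁻¹, hC.conj_mem c c.2 n⟩ := by
    apply Subtype.ext
    simp only [Subgroup.coe_mul, Subgroup.coe_inclusion, MulAut.conjNormal_apply]
    group
  rw [e, h]
  rfl

/-- the linear character of `C` attached to a linear character of `P` -/
noncomputable def lin (hD : LocalData C P a) (β : P →* ℂˣ) : C → ℂ :=
  fun c => (((β.comp (proj hD)) c : ℂˣ) : ℂ)

theorem lin_isCharacter (hD : LocalData C P a) (β : P →* ℂˣ) : IsCharacter C (lin hD β) :=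
  isCharacter_of_hom (β.comp (proj hD))

theorem lin_one (hD : LocalData C P a) (β : P →* ℂˣ) : lin hD β 1 = 1 := by
  simp [lin]

theorem lin_apply (hD : LocalData C P a) (β : P →* ℂˣ) (c : C) :
    lin hD β c = ((β (proj hD c) : ℂˣ) : ℂ) := rfl

theorem lin_of_pow_eq_one (hD : LocalData C P a) (β : P →* ℂˣ) (c : C) (hc : (c : N) ^ a = 1) :
    lin hD β c = 1 := by
  rw [lin_apply]
  have : proj hD c = 1 := Subtype.ext hc
  rw [this, map_one, Units.val_one]

theorem twist_irr (hD : LocalData C P a) (β : P →* ℂˣ) {φ : C → ℂ} (hφ : IsIrrCharacter C φ) :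
    IsIrrCharacter C (lin hD β * φ) :=
  isIrrCharacter_linear_mul (lin_isCharacter hD β) (lin_one hD β) hφ

theorem twist_centralHom (hD : LocalData C P a) (β : P →* ℂˣ) {φ : C → ℂ} {ω : P →* ℂˣ}
    (h : CentralHom hD φ ω) : CentralHom hD (lin hD β * φ) (β * ω) := by
  intro u c
  rw [Pi.mul_apply, Pi.mul_apply, h u c, lin_apply, lin_apply, map_mul, proj_inclusion, map_mul,
    MonoidHom.mul_apply]
  push_cast
  ring


theorem apply_one_ne_zero {H : Type u} [Group H] {φ : H → ℂ} (hφ : IsIrrCharacter H φ) :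
    φ 1 ≠ 0 := by
  obtain ⟨d, hd, hd1⟩ := IsIrrCharacter.apply_one_pos hφ
  rw [hd1]
  exact_mod_cast hd.ne'

/-- the inertia group in `N` of an irreducible character of `C` with non-trivial central
character is `C` -/
theorem inertia_eq (hD : LocalData C P a) {φ : C → ℂ} (hφ : IsIrrCharacter C φ)
    {ω : P →* ℂˣ} (h : CentralHom hD φ ω) (hω : ω ≠ 1) (n : N) :
    n ∈ C ↔ conjFun C n φ = φ := by
  constructor
  · intro hn
    exact conjFun_of_mem C (IsCharacter.isClassFunction (IsIrrCharacter.isCharacter hφ)) hn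
  · intro hn
    have h2 := h.conjFun hD n
    rw [hn] at h2
    have h3 := CentralHom.unique hD (apply_one_ne_zero hφ) h h2
    have hμ : IsIrrCharacter P (fun u => ((ω u : ℂˣ) : ℂ)) := isIrrCharacter_of_hom ω
    apply stab_le hD hμ
    · by_contra hcon
      push Not at hcon
      apply hω
      apply MonoidHom.ext
      intro u
      apply Units.ext
      exact hcon u
    · funext u
      rw [conjFun_eq_conjNormal]
      show ((ω (MulAut.conjNormal n u) : ℂˣ) : ℂ) = ((ω u : ℂˣ) : ℂ)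
      conv_rhs => rw [h3]
      rfl

theorem resLE_refl (φ : C → ℂ) : resLE (le_refl C) φ = φ := by
  funext c
  rw [resLE_apply]

/-- induction from `C` of an irreducible character with non-trivial central character -/
theorem indFun_irr (hD : LocalData C P a) {φ : C → ℂ} (hφ : IsIrrCharacter C φ)
    {ω : P →* ℂˣ} (h : CentralHom hD φ ω) (hω : ω ≠ 1) : IsIrrCharacter N (indFun C φ) := by
  have hf : classInner (resLE (le_refl C) φ) φ ≠ 0 := by
    rw [resLE_refl, classInner_irr hφ hφ, if_pos rfl]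
    exact one_ne_zero
  exact (isIrrCharacter_indFun_inertia (le_refl C) hφ (inertia_eq hD hφ h hω) hφ hf).1

/-- every irreducible character of `N` non-trivial on `P` is induced from `C` -/
theorem exists_indFun_eq (hD : LocalData C P a) {θ : N → ℂ} (hθ : IsIrrCharacter N θ)
    (hnt : PNontriv P θ) :
    ∃ (φ : C → ℂ) (ω : P →* ℂˣ), IsIrrCharacter C φ ∧ CentralHom hD φ ω ∧ ω ≠ 1 ∧
      indFun C φ = θ := by
  classical
  have hθc := IsIrrCharacter.isCharacter hθ
  have hres : IsCharacter C (resFun C θ) := isCharacter_resFun C hθc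
  have hne : resFun C θ ≠ 0 := by
    intro h0
    have := congrFun h0 1
    rw [resFun_apply] at this
    simp only [Subgroup.coe_one, Pi.zero_apply] at this
    exact apply_one_ne_zero hθ this
  obtain ⟨φ, hφ, hφne⟩ := IsCharacter.exists_constituent hres hne
  obtain ⟨ω, hω⟩ := exists_centralHom hD hφ
  have hω1 : ω ≠ 1 := by
    intro h1
    obtain ⟨u, hu, hne⟩ := hnt
    apply hne
    have hcl := clifford C hθ hφ hφne
    have hall : ∀ ψ ∈ conjOrbit C φ, ψ ⟨u, hD.hPC hu⟩ = ψ 1 := by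
      intro ψ hψ
      obtain ⟨g, rfl⟩ := (mem_conjOrbit C).mp hψ
      have h2 := (hω.conjFun hD g).apply_inclusion hD ⟨u, hu⟩
      rw [h1] at h2
      simp only [MonoidHom.one_comp, MonoidHom.one_apply, Units.val_one, one_mul] at h2
      exact h2
    have e1 := congrFun hcl ⟨u, hD.hPC hu⟩
    have e2 := congrFun hcl 1
    rw [resFun_apply, Pi.smul_apply, Finset.sum_apply] at e1 e2
    rw [Finset.sum_congr rfl hall] at e1
    simp only [Subgroup.coe_one] at e2
    show θ u = θ 1
    rw [e1, e2]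
  refine ⟨φ, ω, hφ, hω, hω1, ?_⟩
  obtain ⟨ψ, hψ, hind, hin⟩ := exists_indFun_inertia_eq (le_refl C) hφ
    (inertia_eq hD hφ hω hω1) hθ hφne
  rw [resLE_refl] at hin
  have : ψ = φ := by
    by_contra hne2
    rw [classInner_irr hψ hφ, if_neg hne2] at hin
    exact hφne hin.symm
  rw [← this]
  exact hind


theorem conj_mem_setA_iff (x g : N) : x⁻¹ * g * x ∈ setA C a ↔ g ∈ setA C a := by
  unfold setA
  show (x⁻¹ * g * x ∈ C ∧ (x⁻¹ * g * x) ^ a ≠ 1) ↔ (g ∈ C ∧ g ^ a ≠ 1)
  have e1 : x⁻¹ * g * x ∈ C ↔ g ∈ C := by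
    constructor
    · intro h
      have := hC.conj_mem _ h x
      have e : x * (x⁻¹ * g * x) * x⁻¹ = g := by group
      rwa [e] at this
    · intro h
      have := hC.conj_mem _ h x⁻¹
      rwa [inv_inv] at this
  have e2 : (x⁻¹ * g * x) ^ a = x⁻¹ * g ^ a * x := by
    have := conj_pow (a := x⁻¹) (b := g) (i := a)
    rwa [inv_inv] at this
  rw [e1, e2]
  constructor
  · rintro ⟨h1, h2⟩
    refine ⟨h1, fun h => h2 ?_⟩
    rw [h]
    group
  · rintro ⟨h1, h2⟩
    refine ⟨h1, fun h => h2 ?_⟩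
    have : g ^ a = x * (x⁻¹ * g ^ a * x) * x⁻¹ := by group
    rw [this, h]
    group

/-- twisting does not change the induced character off `setA` -/
theorem indFun_twist_apply (hD : LocalData C P a) (β : P →* ℂˣ) (φ : C → ℂ) {g : N}
    (hg : g ∉ setA C a) : indFun C (lin hD β * φ) g = indFun C φ g := by
  rw [indFun_apply, indFun_apply]
  congr 1
  apply Finset.sum_congr rfl
  intro x _
  have hx : x⁻¹ * g * x ∉ setA C a := fun h => hg ((conj_mem_setA_iff x g).mp h)
  by_cases hmem : x⁻¹ * g * x ∈ C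
  · rw [extendByZero_mem C _ hmem, extendByZero_mem C _ hmem, Pi.mul_apply]
    have hpow : (x⁻¹ * g * x) ^ a = 1 := by
      by_contra hne
      exact hx ⟨hmem, hne⟩
    rw [lin_of_pow_eq_one hD β ⟨_, hmem⟩ hpow, one_mul]
  · rw [extendByZero_not_mem C _ hmem, extendByZero_not_mem C _ hmem]

theorem pnontriv_of_constituent {θ : N → ℂ} {μ : P → ℂ} (hμ : IsIrrCharacter P μ)
    (hμ1 : ∃ u : P, μ u ≠ 1) (hne : classInner (resFun P θ) μ ≠ 0) : PNontriv P θ := by
  by_contra hcon
  apply hne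
  have h1 : resFun P θ = θ 1 • (fun _ : P => ((((1 : P →* ℂˣ) 1 : ℂˣ) : ℂ))) := by
    funext u
    rw [resFun_apply, Pi.smul_apply]
    simp only [MonoidHom.one_apply, Units.val_one, smul_eq_mul, mul_one]
    by_contra hcon2
    exact hcon ⟨u, u.2, hcon2⟩
  have hirr : IsIrrCharacter P (fun _ : P => ((((1 : P →* ℂˣ) 1 : ℂˣ) : ℂ))) :=
    isIrrCharacter_of_hom (1 : P →* ℂˣ)
  rw [h1, classInner_smul_left, classInner_irr hirr hμ, if_neg, mul_zero]
  intro h
  obtain ⟨u, hu⟩ := hμ1
  apply hu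
  rw [← h]
  simp

/-- fullness of the family of an irreducible character non-trivial on `P` -/
theorem exists_twisted (hD : LocalData C P a) {θ : N → ℂ} (hθ : IsIrrCharacter N θ)
    (hnt : PNontriv P θ) {μ : P → ℂ} (hμ : IsIrrCharacter P μ) (hμ1 : ∃ u : P, μ u ≠ 1) :
    ∃ θ' : N → ℂ, IsIrrCharacter N θ' ∧ PNontriv P θ' ∧ (∀ x : N, x ∉ setA C a → θ' x = θ x) ∧
      classInner (resFun P θ') μ ≠ 0 := by
  classical
  obtain ⟨φ, ω, hφ, hω, hω1, rfl⟩ := exists_indFun_eq hD hθ hnt
  have hμc := IsIrrCharacter.isCharacter hμ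
  have hμone := irr_apply_one hD hμ
  set μh : P →* ℂˣ := linCharUnitsHom hμc hμone with hμh
  have hμh_apply : ∀ u : P, ((μh u : ℂˣ) : ℂ) = μ u := fun u => linCharUnitsHom_apply hμc hμone u
  set β : P →* ℂˣ := μh * ω⁻¹ with hβ
  have hβω : β * ω = μh := by
    apply MonoidHom.ext
    intro u
    rw [hβ, MonoidHom.mul_apply, MonoidHom.mul_apply, MonoidHom.inv_apply, inv_mul_cancel_right]
  have hφ' : IsIrrCharacter C (lin hD β * φ) := twist_irr hD β hφ
  have hω' : CentralHom hD (lin hD β * φ) μh := by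
    rw [← hβω]
    exact twist_centralHom hD β hω
  have hμh1 : μh ≠ 1 := by
    intro h1
    obtain ⟨u, hu⟩ := hμ1
    apply hu
    rw [← hμh_apply, h1]
    simp
  have hirr := indFun_irr hD hφ' hω' hμh1
  have hcon : classInner (resFun P (indFun C (lin hD β * φ))) μ ≠ 0 := by
    have hθ'c := IsIrrCharacter.isCharacter hirr
    have h1 : classInner (lin hD β * φ) (resFun C (indFun C (lin hD β * φ))) = 1 := by
      have := frobenius_reciprocity C (lin hD β * φ) (IsCharacter.isClassFunction hθ'c)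
      rw [classInner_irr hirr hirr, if_pos rfl] at this
      exact this.symm
    have h2 : classInner (resFun C (indFun C (lin hD β * φ))) (lin hD β * φ) ≠ 0 := by
      rw [classInner_char_symm (isCharacter_resFun C hθ'c) (IsIrrCharacter.isCharacter hφ'), h1]
      exact one_ne_zero
    have hsub := IsCharacter.sub_constituent (isCharacter_resFun C hθ'c) hφ' h2
    have e1 : resFun P (indFun C (lin hD β * φ)) =
        ((lin hD β * φ) 1) • μ +
          (resFun C (indFun C (lin hD β * φ)) - lin hD β * φ) ∘ (Subgroup.inclusion hD.hPC) := by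
      funext u
      rw [Pi.add_apply, Pi.smul_apply, Function.comp_apply, Pi.sub_apply, resFun_apply, resFun_apply,
        hω'.apply_inclusion hD u, hμh_apply, smul_eq_mul]
      simp only [Subgroup.coe_inclusion]
      ring
    rw [e1, classInner_add_left, classInner_smul_left, classInner_irr hμ hμ, if_pos rfl, mul_one]
    obtain ⟨d, hd, hd1⟩ := IsIrrCharacter.apply_one_pos hφ'
    obtain ⟨k, hk⟩ := IsCharacter.classInner_nat
      (IsCharacter.comp_hom hsub (Subgroup.inclusion hD.hPC)) hμc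
    rw [hd1, hk]
    have : d + k ≠ 0 := by omega
    exact_mod_cast this
  refine ⟨indFun C (lin hD β * φ), hirr, pnontriv_of_constituent hμ hμ1 hcon, ?_, hcon⟩
  intro x hx
  exact indFun_twist_apply hD β φ hx


/-- a character non-trivial on `P` has an irreducible constituent non-trivial on `P` -/
theorem exists_pnontriv_constituent {Ψ : N → ℂ} (hΨ : IsCharacter N Ψ) (h : PNontriv P Ψ) :
    ∃ θ' : N → ℂ, IsIrrCharacter N θ' ∧ classInner Ψ θ' ≠ 0 ∧ PNontriv P θ' := by
  classical
  let _ := fintypeIrr N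
  obtain ⟨m, hm, hcoef⟩ := IsCharacter.exists_decomp_sum hΨ
  by_contra hcon
  push Not at hcon
  obtain ⟨u, hu, hne⟩ := h
  apply hne
  rw [hm, Finset.sum_apply, Finset.sum_apply]
  apply Finset.sum_congr rfl
  intro η _
  rw [Pi.smul_apply, Pi.smul_apply]
  by_cases h0 : m η = 0
  · rw [h0, zero_smul, zero_smul]
  · have h1 : classInner Ψ (η : N → ℂ) ≠ 0 := by
      rw [hcoef η]
      exact_mod_cast h0
    have h2 := hcon η.1 η.2 h1
    unfold PNontriv at h2
    push Not at h2
    rw [h2 u hu]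

end Cfsg.Agent.Lib.Helper2.BLLocal
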