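/-
helper2: the local configuration of the Brauer-Leonard theorem inside `N_G(P)`.
-/
import Mathlib
import Cfsg.Agent.Lib.Helper2.BLGroup
import Cfsg.Agent.Lib.Helper2.BLLocal

set_option autoImplicit false
set_option linter.unusedSectionVars false
open scoped Pointwise

namespace Cfsg.Agent.Lib.Helper2.BLBridge

open Cfsg.Agent.Lib.Helper2.BLGroup Cfsg.Agent.Lib.Helper2.BLLocal

variable {G : Type*} [Group G] [Fintype G] {p : ℕ} [Fact p.Prime] (P : Sylow p G)
  (hstar : ∀ x ∈ (P : Subgroup G), x ≠ 1 →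
    Subgroup.centralizer ({x} : Set G) = Subgroup.centralizer ((P : Subgroup G) : Set G))

include hstar

/-- the power map on the centralizer, in terms of elements of `G` -/
theorem exists_pow :
    ∃ a : ℕ, (∀ c ∈ Subgroup.centralizer ((P : Subgroup G) : Set G), c ^ a ∈ (P : Subgroup G)) ∧
      (∀ u ∈ (P : Subgroup G), u ^ a = u) ∧
      ∀ c ∈ Subgroup.centralizer ((P : Subgroup G) : Set G),
        ∀ d ∈ Subgroup.centralizer ((P : Subgroup G) : Set G), (c * d) ^ a = c ^ a * d ^ a := by
  have hle := le_centralizer P hstar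
  have hQ : ((P.subtype hle : Sylow p (Subgroup.centralizer ((P : Subgroup G) : Set G))) :
      Subgroup (Subgroup.centralizer ((P : Subgroup G) : Set G))) ≤ Subgroup.center _ := by
    intro x hx
    rw [Sylow.coe_subtype, Subgroup.mem_subgroupOf] at hx
    rw [Subgroup.mem_center_iff]
    intro c
    apply Subtype.ext
    exact (Subgroup.mem_centralizer_iff.mp c.2 x hx).symm
  obtain ⟨a, h1, h2, h3⟩ := exists_pow_hom (P.subtype hle) hQ
  refine ⟨a, ?_, ?_, ?_⟩
  · intro c hc
    have := h1 ⟨c, hc⟩
    rw [Sylow.coe_subtype, Subgroup.mem_subgroupOf] at this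
    exact this
  · intro u hu
    have := h2 ⟨u, hle hu⟩ (by rw [Sylow.coe_subtype, Subgroup.mem_subgroupOf]; exact hu)
    exact congrArg Subtype.val this
  · intro c hc d hd
    have := h3 ⟨c, hc⟩ ⟨d, hd⟩
    exact congrArg Subtype.val this

theorem normal_P (hne : ∃ u ∈ (P : Subgroup G), u ≠ 1) :
    ((P : Subgroup G).subgroupOf (Subgroup.normalizer (setA P))).Normal := by
  constructor
  intro x hx n
  rw [Subgroup.mem_subgroupOf] at hx ⊢
  have hn : (n : G) ∈ Subgroup.normalizer ((P : Subgroup G) : Set G) := by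
    rw [← normalizer_setA P hstar hne]
    exact n.2
  simp only [Subgroup.coe_mul, Subgroup.coe_inv]
  exact (Subgroup.mem_set_normalizer_iff.mp hn _).mp hx

theorem normal_C (hne : ∃ u ∈ (P : Subgroup G), u ≠ 1) :
    ((Subgroup.centralizer ((P : Subgroup G) : Set G)).subgroupOf
      (Subgroup.normalizer (setA P))).Normal := by
  constructor
  intro x hx n
  rw [Subgroup.mem_subgroupOf] at hx ⊢
  have hn : (n : G) ∈ Subgroup.normalizer ((P : Subgroup G) : Set G) := by
    rw [← normalizer_setA P hstar hne]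
    exact n.2
  simp only [Subgroup.coe_mul, Subgroup.coe_inv]
  rw [Subgroup.mem_centralizer_iff]
  intro u hu
  have hu' : (n : G)⁻¹ * u * (n : G) ∈ (P : Subgroup G) := by
    have := (Subgroup.mem_set_normalizer_iff.mp (Subgroup.inv_mem _ hn) u).mp hu
    rwa [inv_inv] at this
  have h1 := Subgroup.mem_centralizer_iff.mp hx _ hu'
  calc u * ((n : G) * (x : G) * (n : G)⁻¹)
      = (n : G) * (((n : G)⁻¹ * u * (n : G)) * (x : G)) * (n : G)⁻¹ := by group
    _ = (n : G) * ((x : G) * ((n : G)⁻¹ * u * (n : G))) * (n : G)⁻¹ := by rw [h1]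
    _ = (n : G) * (x : G) * (n : G)⁻¹ * u := by group

/-- the local configuration in the normalizer -/
theorem localData :
    ∃ a : ℕ, LocalData ((Subgroup.centralizer ((P : Subgroup G) : Set G)).subgroupOf
        (Subgroup.normalizer (setA P)))
      ((P : Subgroup G).subgroupOf (Subgroup.normalizer (setA P))) a ∧
      ∀ x : Subgroup.normalizer (setA P), (x : G) ∈ BLGroup.setA P ↔
        x ∈ BLLocal.setA ((Subgroup.centralizer ((P : Subgroup G) : Set G)).subgroupOf
          (Subgroup.normalizer (setA P))) a := by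
  obtain ⟨a, h1, h2, h3⟩ := exists_pow P hstar
  refine ⟨a, ⟨?_, ?_, ?_, ?_, ?_, ?_⟩, ?_⟩
  · intro x hx
    rw [Subgroup.mem_subgroupOf] at hx ⊢
    exact le_centralizer P hstar hx
  · intro u hu c hc
    rw [Subgroup.mem_subgroupOf] at hu hc
    apply Subtype.ext
    simp only [Subgroup.coe_mul]
    exact Subgroup.mem_centralizer_iff.mp hc _ hu
  · intro n u hu hu1 hnu
    rw [Subgroup.mem_subgroupOf] at hu ⊢
    have hu1' : (u : G) ≠ 1 := by
      intro h
      exact hu1 (Subtype.ext h)
    rw [mem_centralizer_iff_comm P hstar hu hu1']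
    have := congrArg Subtype.val hnu
    simp only [Subgroup.coe_mul, Subgroup.coe_inv] at this
    calc (u : G) * (n : G) = ((n : G) * (u : G) * (n : G)⁻¹) * (n : G) := by rw [this]
      _ = (n : G) * (u : G) := by group
  · intro c hc
    rw [Subgroup.mem_subgroupOf] at hc ⊢
    rw [Subgroup.coe_pow]
    exact h1 _ hc
  · intro u hu
    rw [Subgroup.mem_subgroupOf] at hu
    apply Subtype.ext
    rw [Subgroup.coe_pow]
    exact h2 _ hu
  · intro c hc d hd
    rw [Subgroup.mem_subgroupOf] at hc hd
    apply Subtype.ext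
    simp only [Subgroup.coe_pow, Subgroup.coe_mul]
    exact h3 _ hc _ hd
  · intro x
    unfold BLLocal.setA
    show (x : G) ∈ BLGroup.setA P ↔ (x ∈ _ ∧ x ^ a ≠ 1)
    rw [Subgroup.mem_subgroupOf]
    constructor
    · intro hx
      have hxC := setA_subset P hstar hx
      refine ⟨hxC, ?_⟩
      obtain ⟨u, huP, hu1, hu⟩ := hx
      obtain ⟨k, hk⟩ := Subgroup.mem_zpowers_iff.mp hu
      intro hpow
      apply hu1
      have e1 : ((x : G) ^ a) ^ k = 1 := by
        have := congrArg Subtype.val hpow
        rw [Subgroup.coe_pow, Subgroup.coe_one] at this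
        rw [this, one_zpow]
      have e2 : ((x : G) ^ a) ^ k = ((x : G) ^ k) ^ a := by
        rw [← zpow_natCast, ← zpow_natCast, ← zpow_mul, ← zpow_mul, mul_comm]
      rw [e2, hk, h2 u huP] at e1
      exact e1
    · rintro ⟨hxC, hpow⟩
      refine ⟨(x : G) ^ a, h1 _ hxC, ?_, ?_⟩
      · intro h
        apply hpow
        apply Subtype.ext
        rw [Subgroup.coe_pow, Subgroup.coe_one]
        exact h
      · exact Subgroup.pow_mem _ (Subgroup.mem_zpowers _) a

end Cfsg.Agent.Lib.Helper2.BLBridge
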