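/-
helper2: induction of class functions from the normalizer of a TI-subset.
-/
import Mathlib
import Cfsg.Prelude.Def_Characters
import Cfsg.Agent.Lib.Lead.CharInd

set_option autoImplicit false
open scoped ComplexConjugate

namespace Cfsg.Agent.Lib.Helper2

open Cfsg Cfsg.Agent.CharLib

/-- induced function from the normalizer of a TI-set agrees with the original function on
`T \ {1}` -/
theorem indFun_ti_apply {G : Type*} [Group G] [Fintype G] (T : Set G)
    (hTI : ∀ g : G, g ∉ Subgroup.normalizer T → ∀ t ∈ T, g * t * g⁻¹ ∈ T → t = 1)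
    (ψ : Subgroup.normalizer T → ℂ) (hψ : Cfsg.IsClassFunction (Subgroup.normalizer T) ψ)
    (hψT : ∀ x : Subgroup.normalizer T, (x : G) ∉ T → ψ x = 0)
    (t : Subgroup.normalizer T) (htT : (t : G) ∈ T) (ht1 : t ≠ 1) :
    Cfsg.indFun (Subgroup.normalizer T) ψ t = ψ t := by
  classical
  have hterm : ∀ x : G, extendByZero (Subgroup.normalizer T) ψ (x⁻¹ * (t : G) * x) =
      if x ∈ Subgroup.normalizer T then ψ t else 0 := by
    intro x
    split_ifs with hx
    · have hmem : x⁻¹ * (t : G) * x ∈ Subgroup.normalizer T :=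
        (Subgroup.normalizer T).mul_mem ((Subgroup.normalizer T).mul_mem
          ((Subgroup.normalizer T).inv_mem hx) t.2) hx
      have h1 := extendByZero_apply_coe (Subgroup.normalizer T) ψ ⟨_, hmem⟩
      rw [h1]
      have h2 := hψ t (⟨x, hx⟩⁻¹ : Subgroup.normalizer T)
      rw [← h2]
      congr 1
      apply Subtype.ext
      simp
    · by_cases hmem : x⁻¹ * (t : G) * x ∈ Subgroup.normalizer T
      · have h1 := extendByZero_apply_coe (Subgroup.normalizer T) ψ ⟨_, hmem⟩
        rw [h1]
        apply hψT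
        intro hT
        apply ht1
        have hx' : x⁻¹ ∉ Subgroup.normalizer T := fun h => hx (by simpa using (Subgroup.normalizer T).inv_mem h)
        have := hTI x⁻¹ hx' (t : G) htT (by simpa using hT)
        exact Subtype.ext this
      · exact extendByZero_apply_of_not_mem _ _ hmem
  unfold Cfsg.indFun
  simp_rw [hterm]
  rw [Finset.sum_ite, Finset.sum_const_zero, add_zero, Finset.sum_const, nsmul_eq_mul]
  have hcard : (Finset.univ.filter (fun x : G => x ∈ Subgroup.normalizer T)).card =
      Nat.card (Subgroup.normalizer T) := by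
    rw [Nat.card_eq_fintype_card, Fintype.card_subtype]
  rw [hcard]
  have hne : (Nat.card (Subgroup.normalizer T) : ℂ) ≠ 0 := by
    have : 0 < Nat.card (Subgroup.normalizer T) := Nat.card_pos
    exact_mod_cast this.ne'
  field_simp

/-- the isometry property of induction from the normalizer of a TI-set -/
theorem classInner_indFun_ti {G : Type*} [Group G] [Fintype G] (T : Set G)
    (hTI : ∀ g : G, g ∉ Subgroup.normalizer T → ∀ t ∈ T, g * t * g⁻¹ ∈ T → t = 1)
    [Fintype (Subgroup.normalizer T)]
    (ψ θ : Subgroup.normalizer T → ℂ)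
    (hθ : Cfsg.IsClassFunction (Subgroup.normalizer T) θ)
    (hψT : ∀ x : Subgroup.normalizer T, (x : G) ∉ T → ψ x = 0)
    (hθT : ∀ x : Subgroup.normalizer T, (x : G) ∉ T → θ x = 0) (hψ1 : ψ 1 = 0) :
    Cfsg.classInner (Cfsg.indFun (Subgroup.normalizer T) ψ)
      (Cfsg.indFun (Subgroup.normalizer T) θ) = Cfsg.classInner ψ θ := by
  classical
  rw [frobenius_reciprocity _ ψ (indFun_isClassFunction _ θ)]
  unfold Cfsg.classInner
  congr 1
  apply Finset.sum_congr rfl
  intro x _
  by_cases hxT : (x : G) ∈ T
  · by_cases hx1 : x = 1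
    · rw [hx1, hψ1, zero_mul, zero_mul]
    · show ψ x * conj (indFun (Subgroup.normalizer T) θ (x : G)) = _
      rw [indFun_ti_apply T hTI θ hθ hθT x hxT hx1]
  · rw [hψT x hxT, zero_mul, zero_mul]

end Cfsg.Agent.Lib.Helper2
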