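/-
helper2: coherence for families of irreducible characters of the normalizer of a TI-set
(exceptional characters), used for the Brauer-Leonard theorem.
-/
import Mathlib
import Cfsg.Prelude.Def_Characters
import Cfsg.Agent.Lib.Lead.CharInd
import Cfsg.Agent.Lib.Lead.CharOrtho
import Cfsg.Agent.Lib.Lead.CharMain
import Cfsg.Agent.Lib.Helper2.TIInd
import Cfsg.Agent.Lib.Helper10.TIInd
import Cfsg.Agent.S0198

set_option autoImplicit false
set_option linter.unusedSectionVars false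
open scoped ComplexConjugate

namespace Cfsg.Agent.Lib.Helper2.BLCoh

open Cfsg Cfsg.Agent.CharLib

variable {G : Type*} [Group G] [Fintype G]

/-- A family: irreducible characters of `N_G(T)` agreeing off `T`. -/
structure Family (T : Set G) (F : Finset (Subgroup.normalizer T → ℂ)) : Prop where
  irr : ∀ θ ∈ F, IsIrrCharacter (Subgroup.normalizer T) θ
  off : ∀ θ ∈ F, ∀ θ' ∈ F, ∀ x : Subgroup.normalizer T, (x : G) ∉ T → θ x = θ' x

theorem Family.sub_apply_eq_zero {T : Set G} {F : Finset (Subgroup.normalizer T → ℂ)}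
    (hF : Family T F) {θ θ' : Subgroup.normalizer T → ℂ} (hθ : θ ∈ F) (hθ' : θ' ∈ F)
    (x : Subgroup.normalizer T) (hx : (x : G) ∉ T) : (θ - θ') x = 0 := by
  rw [Pi.sub_apply, hF.off θ hθ θ' hθ' x hx, sub_self]

theorem Family.isClassFunction_sub {T : Set G} {F : Finset (Subgroup.normalizer T → ℂ)}
    (hF : Family T F) {θ θ' : Subgroup.normalizer T → ℂ} (hθ : θ ∈ F) (hθ' : θ' ∈ F) :
    IsClassFunction (Subgroup.normalizer T) (θ - θ') :=
  IsClassFunction.sub (IsCharacter.isClassFunction (IsIrrCharacter.isCharacter (hF.irr θ hθ)))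
    (IsCharacter.isClassFunction (IsIrrCharacter.isCharacter (hF.irr θ' hθ')))

/-- inner products of differences inside a family, transported to `G` -/
theorem classInner_indFun_sub (T : Set G) [Fintype (Subgroup.normalizer T)]
    (hTI : ∀ g : G, g ∉ Subgroup.normalizer T → ∀ t ∈ T, g * t * g⁻¹ ∈ T → t = 1)
    (h1 : (1 : G) ∉ T) {F F' : Finset (Subgroup.normalizer T → ℂ)} (hF : Family T F)
    (hF' : Family T F')
    {θ₁ θ₂ θ₃ θ₄ : Subgroup.normalizer T → ℂ} (h₁ : θ₁ ∈ F) (h₂ : θ₂ ∈ F) (h₃ : θ₃ ∈ F')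
    (h₄ : θ₄ ∈ F') :
    classInner (indFun (Subgroup.normalizer T) (θ₁ - θ₂))
      (indFun (Subgroup.normalizer T) (θ₃ - θ₄)) = classInner (θ₁ - θ₂) (θ₃ - θ₄) := by
  apply classInner_indFun_ti T hTI _ _ (hF'.isClassFunction_sub h₃ h₄)
    (fun x hx => hF.sub_apply_eq_zero h₁ h₂ x hx) (fun x hx => hF'.sub_apply_eq_zero h₃ h₄ x hx)
  exact hF.sub_apply_eq_zero h₁ h₂ 1 (by simpa using h1)


theorem classInner_sub_right' {H : Type*} [Group H] [Fintype H] (φ ψ₁ ψ₂ : H → ℂ) :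
    classInner φ (ψ₁ - ψ₂) = classInner φ ψ₁ - classInner φ ψ₂ := by
  have : ψ₁ - ψ₂ = ψ₁ + (-1 : ℂ) • ψ₂ := by
    ext x
    simp [sub_eq_add_neg]
  rw [this, classInner_add_right, classInner_smul_right]
  simp
  ring

/-- Gram entries inside one family. -/
theorem classInner_sub_sub_same (T : Set G) [Fintype (Subgroup.normalizer T)]
    {F : Finset (Subgroup.normalizer T → ℂ)} (hF : Family T F)
    {θ θ' θ₀ : Subgroup.normalizer T → ℂ} (hθ : θ ∈ F) (hθ' : θ' ∈ F) (hθ₀ : θ₀ ∈ F)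
    (hne : θ ≠ θ₀) (hne' : θ' ≠ θ₀) :
    classInner (θ - θ₀) (θ' - θ₀) = if θ = θ' then 2 else 1 := by
  rw [classInner_sub_left, classInner_sub_right', classInner_sub_right',
    classInner_irr (hF.irr θ hθ) (hF.irr θ' hθ'), classInner_irr (hF.irr θ hθ) (hF.irr θ₀ hθ₀),
    classInner_irr (hF.irr θ₀ hθ₀) (hF.irr θ' hθ'), classInner_irr (hF.irr θ₀ hθ₀) (hF.irr θ₀ hθ₀),
    if_neg hne, if_neg (Ne.symm hne'), if_pos rfl]
  split_ifs <;> norm_num

/-- Existence of exceptional characters for a family. -/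
theorem exists_exceptional (T : Set G) [Fintype (Subgroup.normalizer T)]
    (hTI : ∀ g : G, g ∉ Subgroup.normalizer T → ∀ t ∈ T, g * t * g⁻¹ ∈ T → t = 1)
    (h1 : (1 : G) ∉ T) {F : Finset (Subgroup.normalizer T → ℂ)} (hF : Family T F) :
    ∃ ε : ℂ, (ε = 1 ∨ ε = -1) ∧ ∃ Λ : (Subgroup.normalizer T → ℂ) → (G → ℂ),
      (∀ θ ∈ F, IsIrrCharacter G (Λ θ)) ∧
      Set.InjOn Λ (F : Set (Subgroup.normalizer T → ℂ)) ∧
      ∀ θ ∈ F, ∀ θ' ∈ F, indFun (Subgroup.normalizer T) (θ - θ') = ε • (Λ θ - Λ θ') := by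
  classical
  rcases F.eq_empty_or_nonempty with hemp | ⟨θ₀, hθ₀⟩
  · subst hemp
    refine ⟨1, Or.inl rfl, fun _ => 0, ?_, ?_, ?_⟩ <;> simp
  let e := F.equivFin
  let i₀ : Fin F.card := e ⟨θ₀, hθ₀⟩
  let fam : Fin F.card → (Subgroup.normalizer T → ℂ) :=
    fun i => ((e.symm i : F) : Subgroup.normalizer T → ℂ)
  have hfam_mem : ∀ i, fam i ∈ F := fun i => (e.symm i).2
  have hfam_i₀ : fam i₀ = θ₀ := by simp [fam, i₀]
  have hfam_inj : Function.Injective fam := by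
    intro i j hij
    have : e.symm i = e.symm j := Subtype.ext hij
    exact e.symm.injective this
  have hfam_e : ∀ θ (h : θ ∈ F), fam (e ⟨θ, h⟩) = θ := by
    intro θ h
    simp [fam]
  let τ : Fin F.card → (G → ℂ) := fun i => indFun (Subgroup.normalizer T) (fam i - θ₀)
  have h0 : τ i₀ = 0 := by
    show indFun _ (fam i₀ - θ₀) = 0
    rw [hfam_i₀, Cfsg.Agent.Lib.Helper10.indFun_sub, sub_self]
  have hgen : ∀ i, IsGeneralizedCharacter G (τ i) := by
    intro i
    exact ⟨indFun _ (fam i), indFun _ θ₀,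
      IsCharacter.indFun _ (IsIrrCharacter.isCharacter (hF.irr _ (hfam_mem i))),
      IsCharacter.indFun _ (IsIrrCharacter.isCharacter (hF.irr _ hθ₀)),
      Cfsg.Agent.Lib.Helper10.indFun_sub _ _ _⟩
  have hone : ∀ i, τ i 1 = 0 := by
    intro i
    show indFun _ (fam i - θ₀) 1 = 0
    rw [Cfsg.Agent.Lib.Helper10.indFun_apply_one,
      hF.sub_apply_eq_zero (hfam_mem i) hθ₀ 1 (by simpa using h1)]
    ring
  have hgram : ∀ i j, i ≠ i₀ → j ≠ i₀ → classInner (τ i) (τ j) = if i = j then 2 else 1 := by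
    intro i j hi hj
    show classInner (indFun _ (fam i - θ₀)) (indFun _ (fam j - θ₀)) = _
    rw [classInner_indFun_sub T hTI h1 hF hF (hfam_mem i) hθ₀ (hfam_mem j) hθ₀,
      classInner_sub_sub_same T hF (hfam_mem i) (hfam_mem j) hθ₀
        (fun h => hi (hfam_inj (h.trans hfam_i₀.symm)))
        (fun h => hj (hfam_inj (h.trans hfam_i₀.symm)))]
    by_cases hij : i = j
    · rw [if_pos hij, if_pos (by rw [hij])]
    · rw [if_neg hij, if_neg (fun h => hij (hfam_inj h))]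
  obtain ⟨ε, hε, μ, hμirr, hμinj, hμ⟩ := Cfsg.Agent.S0198.result F.card i₀ τ h0 hgen hone hgram
  refine ⟨ε, hε, fun θ => if h : θ ∈ F then μ (e ⟨θ, h⟩) else 0, ?_, ?_, ?_⟩
  · intro θ hθ
    simp only [dif_pos hθ]
    exact hμirr _
  · intro θ hθ θ' hθ' heq
    have hθ2 : θ ∈ F := hθ
    have hθ'2 : θ' ∈ F := hθ'
    simp only [dif_pos hθ2, dif_pos hθ'2] at heq
    have := e.injective (hμinj heq)
    exact congrArg Subtype.val this
  · intro θ hθ θ' hθ'
    simp only [dif_pos hθ, dif_pos hθ']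
    have e1 : indFun (Subgroup.normalizer T) (θ - θ') =
        indFun (Subgroup.normalizer T) (θ - θ₀) - indFun (Subgroup.normalizer T) (θ' - θ₀) := by
      rw [Cfsg.Agent.Lib.Helper10.indFun_sub, Cfsg.Agent.Lib.Helper10.indFun_sub,
        Cfsg.Agent.Lib.Helper10.indFun_sub]
      ring
    have e2 := hμ (e ⟨θ, hθ⟩)
    have e3 := hμ (e ⟨θ', hθ'⟩)
    simp only [τ, hfam_e] at e2 e3
    rw [e1, e2, e3, ← smul_sub]
    congr 1
    ring


/-- multiplicity relation: differences of multiplicities in the restriction. -/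
theorem mult_relation (T : Set G) [Fintype (Subgroup.normalizer T)]
    {F : Finset (Subgroup.normalizer T → ℂ)} {ε : ℂ}
    {Λ : (Subgroup.normalizer T → ℂ) → (G → ℂ)}
    (hΛ : ∀ θ ∈ F, ∀ θ' ∈ F, indFun (Subgroup.normalizer T) (θ - θ') = ε • (Λ θ - Λ θ'))
    {ψ : G → ℂ} (hψ : IsClassFunction G ψ) {θ θ' : Subgroup.normalizer T → ℂ} (hθ : θ ∈ F)
    (hθ' : θ' ∈ F) :
    classInner θ (fun x : Subgroup.normalizer T => ψ x) -
      classInner θ' (fun x : Subgroup.normalizer T => ψ x) =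
      ε * (classInner (Λ θ) ψ - classInner (Λ θ') ψ) := by
  rw [← classInner_sub_left, ← frobenius_reciprocity _ _ hψ, hΛ θ hθ θ' hθ', classInner_smul_left,
    classInner_sub_left]

theorem eps_ne_zero {ε : ℂ} (hε : ε = 1 ∨ ε = -1) : ε ≠ 0 := by
  rcases hε with h | h <;> rw [h] <;> norm_num

/-- normalisation: a family containing the restriction of an irreducible character of `G`. -/
theorem exists_exceptional_of_restrict (T : Set G) [Fintype (Subgroup.normalizer T)]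
    (hTI : ∀ g : G, g ∉ Subgroup.normalizer T → ∀ t ∈ T, g * t * g⁻¹ ∈ T → t = 1)
    (h1 : (1 : G) ∉ T) {F : Finset (Subgroup.normalizer T → ℂ)} (hF : Family T F)
    (hcard : 3 ≤ F.card) {χ : G → ℂ} (hχ : IsIrrCharacter G χ)
    {θ₀ : Subgroup.normalizer T → ℂ} (hθ₀ : θ₀ ∈ F)
    (hres : (fun x : Subgroup.normalizer T => χ x) = θ₀) :
    ∃ Λ : (Subgroup.normalizer T → ℂ) → (G → ℂ),
      (∀ θ ∈ F, IsIrrCharacter G (Λ θ)) ∧
      Set.InjOn Λ (F : Set (Subgroup.normalizer T → ℂ)) ∧ Λ θ₀ = χ ∧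
      ∀ θ ∈ F, ∀ θ' ∈ F, indFun (Subgroup.normalizer T) (θ - θ') = Λ θ - Λ θ' := by
  classical
  obtain ⟨ε, hε, Λ, hirr, hinj, hΛ⟩ := exists_exceptional T hTI h1 hF
  have hχc : IsClassFunction G χ := IsCharacter.isClassFunction (IsIrrCharacter.isCharacter hχ)
  have key : ∀ θ ∈ F, θ ≠ θ₀ → ε * (classInner (Λ θ) χ - classInner (Λ θ₀) χ) = -1 := by
    intro θ hθ hne
    rw [← mult_relation T hΛ hχc hθ hθ₀, hres, classInner_irr (hF.irr θ hθ) (hF.irr θ₀ hθ₀),
      classInner_irr (hF.irr θ₀ hθ₀) (hF.irr θ₀ hθ₀), if_neg hne, if_pos rfl]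
    ring
  have h2 : 2 ≤ (F.erase θ₀).card := by
    rw [Finset.card_erase_of_mem hθ₀]
    omega
  obtain ⟨a, ha, b, hb, hab⟩ := Finset.one_lt_card.mp h2
  rw [Finset.mem_erase] at ha hb
  by_cases hc : Λ θ₀ = χ
  · have h3 := key a ha.2 ha.1
    have hne : Λ a ≠ χ := by
      intro h
      exact ha.1 (hinj ha.2 hθ₀ (h.trans hc.symm))
    rw [classInner_irr (hirr a ha.2) hχ, classInner_irr (hirr θ₀ hθ₀) hχ, if_neg hne,
      if_pos hc] at h3
    have hε1 : ε = 1 := by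
      have : ε * (0 - 1) = -1 := h3
      linear_combination -this
    refine ⟨Λ, hirr, hinj, hc, ?_⟩
    intro θ hθ θ' hθ'
    rw [hΛ θ hθ θ' hθ', hε1, one_smul]
  · exfalso
    have h3 : ∀ θ ∈ F, θ ≠ θ₀ → Λ θ = χ := by
      intro θ hθ hne
      have h4 := key θ hθ hne
      rw [classInner_irr (hirr θ hθ) hχ, classInner_irr (hirr θ₀ hθ₀) hχ, if_neg hc] at h4
      by_contra hcon
      rw [if_neg hcon] at h4
      norm_num at h4
    exact hab (hinj ha.2 hb.2 ((h3 a ha.2 ha.1).trans (h3 b hb.2 hb.1).symm))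

/-- an irreducible character cannot be exceptional for two disjoint families. -/
theorem not_exceptional_two (T : Set G) [Fintype (Subgroup.normalizer T)]
    (hTI : ∀ g : G, g ∉ Subgroup.normalizer T → ∀ t ∈ T, g * t * g⁻¹ ∈ T → t = 1)
    (h1 : (1 : G) ∉ T) {F F' : Finset (Subgroup.normalizer T → ℂ)} (hF : Family T F)
    (hF' : Family T F') (hdisj : Disjoint F F') {ε ε' : ℂ} (hε : ε = 1 ∨ ε = -1)
    (hε' : ε' = 1 ∨ ε' = -1) {Λ Λ' : (Subgroup.normalizer T → ℂ) → (G → ℂ)}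
    (hirr : ∀ θ ∈ F, IsIrrCharacter G (Λ θ)) (hirr' : ∀ θ ∈ F', IsIrrCharacter G (Λ' θ))
    (hinj : Set.InjOn Λ (F : Set (Subgroup.normalizer T → ℂ)))
    (hinj' : Set.InjOn Λ' (F' : Set (Subgroup.normalizer T → ℂ)))
    (hΛ : ∀ θ ∈ F, ∀ θ' ∈ F, indFun (Subgroup.normalizer T) (θ - θ') = ε • (Λ θ - Λ θ'))
    (hΛ' : ∀ θ ∈ F', ∀ θ' ∈ F', indFun (Subgroup.normalizer T) (θ - θ') = ε' • (Λ' θ - Λ' θ'))
    {k j k' j' : Subgroup.normalizer T → ℂ} (hk : k ∈ F) (hj : j ∈ F) (hkj : k ≠ j)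
    (hk' : k' ∈ F') (hj' : j' ∈ F') (hkj' : k' ≠ j') (heq : Λ k = Λ' k') : False := by
  classical
  have hne : ∀ a ∈ F, ∀ b ∈ F', a ≠ b := by
    intro a ha b hb hab
    rw [hab] at ha
    exact (Finset.disjoint_left.mp hdisj ha) hb
  have e1 := classInner_indFun_sub T hTI h1 hF hF' hk hj hk' hj'
  rw [classInner_sub_left, classInner_sub_right', classInner_sub_right',
    classInner_irr (hF.irr k hk) (hF'.irr k' hk'), classInner_irr (hF.irr k hk) (hF'.irr j' hj'),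
    classInner_irr (hF.irr j hj) (hF'.irr k' hk'), classInner_irr (hF.irr j hj) (hF'.irr j' hj'),
    if_neg (hne k hk k' hk'), if_neg (hne k hk j' hj'), if_neg (hne j hj k' hk'),
    if_neg (hne j hj j' hj'), hΛ k hk j hj, hΛ' k' hk' j' hj', classInner_smul_left,
    classInner_smul_right, classInner_sub_left, classInner_sub_right', classInner_sub_right',
    classInner_irr (hirr k hk) (hirr' k' hk'), classInner_irr (hirr k hk) (hirr' j' hj'),
    classInner_irr (hirr j hj) (hirr' k' hk'), classInner_irr (hirr j hj) (hirr' j' hj'),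
    if_pos heq] at e1
  have hn1 : ¬ Λ k = Λ' j' := by
    rw [heq]
    intro h
    exact hkj' (hinj' hk' hj' h)
  have hn2 : ¬ Λ j = Λ' k' := by
    rw [← heq]
    intro h
    exact hkj (hinj hj hk h).symm
  rw [if_neg hn1, if_neg hn2] at e1
  have hε0 := eps_ne_zero hε
  have hε0' : conj ε' ≠ 0 := by
    rw [Ne, map_eq_zero]
    exact eps_ne_zero hε'
  have h5 : (1 - 0 - (0 - (if Λ j = Λ' j' then (1 : ℂ) else 0))) ≠ 0 := by
    split_ifs <;> norm_num
  have := mul_ne_zero hε0 (mul_ne_zero hε0' h5)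
  apply this
  rw [e1]
  simp

end Cfsg.Agent.Lib.Helper2.BLCoh
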