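/-
helper2: the main argument of the Brauer-Leonard theorem in an abstract TI-configuration.
-/
import Mathlib
import Cfsg.Agent.Lib.Helper2.BLAux
import Cfsg.Agent.Lib.Helper2.BLLocal
import Cfsg.Agent.Lib.Helper2.BLCoh
import Cfsg.Agent.Lib.Lead.CharBurnside

set_option autoImplicit false
set_option linter.unusedSectionVars false
open scoped ComplexConjugate

namespace Cfsg.Agent.Lib.Helper2.BLMain

open Cfsg Cfsg.Agent.CharLib Cfsg.Agent.Lib.Helper6
open Cfsg.Agent.Lib.Helper2.BLAux Cfsg.Agent.Lib.Helper2.BLLocal Cfsg.Agent.Lib.Helper2.BLCoh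

universe u
variable {G : Type u} [Group G] [Fintype G] {T : Set G} [Fintype (Subgroup.normalizer T)]
  {C P : Subgroup (Subgroup.normalizer T)} [hC : C.Normal] [hP : P.Normal] [Fintype C] [Fintype P]
  {a : ℕ}

/-- the global configuration -/
structure Setup (T : Set G) (C P : Subgroup (Subgroup.normalizer T)) (a : ℕ) : Prop where
  hTI : ∀ g : G, g ∉ Subgroup.normalizer T → ∀ t ∈ T, g * t * g⁻¹ ∈ T → t = 1
  h1 : (1 : G) ∉ T
  hD : LocalData C P a
  hA : ∀ x : Subgroup.normalizer T, (x : G) ∈ T ↔ x ∈ BLLocal.setA C a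

theorem fam_finite (T : Set G) (P : Subgroup (Subgroup.normalizer T))
    (θ : Subgroup.normalizer T → ℂ) :
    {θ' : Subgroup.normalizer T → ℂ | IsIrrCharacter (Subgroup.normalizer T) θ' ∧ PNontriv P θ' ∧
      ∀ x : Subgroup.normalizer T, (x : G) ∉ T → θ' x = θ x}.Finite := by
  apply Set.Finite.subset (Set.finite_range
    (fun η : IrrCharacter (Subgroup.normalizer T) => (η : Subgroup.normalizer T → ℂ)))
  rintro θ' ⟨h, -⟩
  exact ⟨⟨θ', h⟩, rfl⟩

/-- the family of an irreducible character of the normalizer -/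
noncomputable def fam (T : Set G) (P : Subgroup (Subgroup.normalizer T))
    (θ : Subgroup.normalizer T → ℂ) : Finset (Subgroup.normalizer T → ℂ) :=
  (fam_finite T P θ).toFinset

theorem mem_fam {θ θ' : Subgroup.normalizer T → ℂ} :
    θ' ∈ fam T P θ ↔ IsIrrCharacter (Subgroup.normalizer T) θ' ∧ PNontriv P θ' ∧
      ∀ x : Subgroup.normalizer T, (x : G) ∉ T → θ' x = θ x := by
  unfold fam
  rw [Set.Finite.mem_toFinset]
  rfl

theorem fam_family (θ : Subgroup.normalizer T → ℂ) : Family T (fam T P θ) := by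
  constructor
  · intro θ' hθ'
    exact (mem_fam.mp hθ').1
  · intro θ' hθ' θ'' hθ'' x hx
    rw [(mem_fam.mp hθ').2.2 x hx, (mem_fam.mp hθ'').2.2 x hx]

theorem self_mem_fam {θ : Subgroup.normalizer T → ℂ}
    (hθ : IsIrrCharacter (Subgroup.normalizer T) θ) (hnt : PNontriv P θ) : θ ∈ fam T P θ :=
  mem_fam.mpr ⟨hθ, hnt, fun _ _ => rfl⟩

theorem fam_eq_of_mem {θ θ' : Subgroup.normalizer T → ℂ} (h : θ' ∈ fam T P θ) :
    fam T P θ' = fam T P θ := by
  ext η
  rw [mem_fam, mem_fam]
  have h3 := (mem_fam.mp h).2.2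
  constructor
  · rintro ⟨h1, h2, h4⟩
    exact ⟨h1, h2, fun x hx => (h4 x hx).trans (h3 x hx)⟩
  · rintro ⟨h1, h2, h4⟩
    exact ⟨h1, h2, fun x hx => (h4 x hx).trans (h3 x hx).symm⟩

theorem fam_disjoint {θ θ' : Subgroup.normalizer T → ℂ} (h : θ' ∉ fam T P θ)
    (hθ' : IsIrrCharacter (Subgroup.normalizer T) θ') (hnt' : PNontriv P θ') :
    Disjoint (fam T P θ') (fam T P θ) := by
  rw [Finset.disjoint_left]
  intro η h1 h2
  apply h
  rw [← fam_eq_of_mem h2, fam_eq_of_mem h1]
  exact self_mem_fam hθ' hnt'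

theorem fam_full (S : Setup T C P a) {θ : Subgroup.normalizer T → ℂ}
    (hθ : IsIrrCharacter (Subgroup.normalizer T) θ) (hnt : PNontriv P θ)
    {μ : P → ℂ} (hμ : IsIrrCharacter P μ) (hμ1 : ∃ u : P, μ u ≠ 1) :
    ∃ θ' ∈ fam T P θ, classInner (resFun P θ') μ ≠ 0 := by
  obtain ⟨θ', h1, h2, h3, h4⟩ := exists_twisted S.hD hθ hnt hμ hμ1
  refine ⟨θ', mem_fam.mpr ⟨h1, h2, ?_⟩, h4⟩
  intro x hx
  apply h3
  intro hx'
  exact hx ((S.hA x).mpr hx')

theorem card_fam (S : Setup T C P a) {θ : Subgroup.normalizer T → ℂ}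
    (hθ : IsIrrCharacter (Subgroup.normalizer T) θ) (hnt : PNontriv P θ) :
    Nat.card P ≤ C.index * (fam T P θ).card + 1 := by
  apply card_le_mul_of_full S.hD
  · intro θ' hθ'
    exact ⟨(mem_fam.mp hθ').1, (mem_fam.mp hθ').2.1⟩
  · intro μ hμ hμ1
    exact fam_full S hθ hnt hμ hμ1


/-- if all members of a family occur in a character of `N` then it has large degree -/
theorem card_le_of_all_constituents (S : Setup T C P a) {θ' : Subgroup.normalizer T → ℂ}
    (hθ' : IsIrrCharacter (Subgroup.normalizer T) θ') (hnt : PNontriv P θ')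
    {Ψ : Subgroup.normalizer T → ℂ} (hΨ : IsCharacter (Subgroup.normalizer T) Ψ)
    (hall : ∀ θ'' ∈ fam T P θ', classInner θ'' Ψ ≠ 0) {d : ℕ} (hd : Ψ 1 = d) :
    Nat.card P ≤ d + 1 := by
  apply card_le_degree_of_full S.hD hΨ _ hd
  intro μ hμ hμ1
  obtain ⟨θ'', hmem, hne⟩ := fam_full S hθ' hnt hμ hμ1
  have hirr := (mem_fam.mp hmem).1
  apply classInner_res_ne_zero_of_constituent hΨ hirr _ P (IsIrrCharacter.isCharacter hμ) hne
  rw [BLAux.classInner_char_symm hΨ (IsIrrCharacter.isCharacter hirr)]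
  exact hall θ'' hmem

theorem isCharacter_res {ψ : G → ℂ} (hψ : IsCharacter G ψ) :
    IsCharacter (Subgroup.normalizer T) (fun x : Subgroup.normalizer T => ψ x) :=
  isCharacter_resFun (Subgroup.normalizer T) hψ

/-- analysis of an irreducible character of small degree against a family -/
theorem exceptional_analysis (S : Setup T C P a) {ψ : G → ℂ} (hψ : IsIrrCharacter G ψ) {d : ℕ}
    (hd : ψ 1 = d) (hdq : d + 1 < Nat.card P) {θ' : Subgroup.normalizer T → ℂ}
    (hθ' : IsIrrCharacter (Subgroup.normalizer T) θ') (hnt : PNontriv P θ')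
    (hcon : classInner θ' (fun x : Subgroup.normalizer T => ψ x) ≠ 0)
    {ε' : ℂ} (hε' : ε' = 1 ∨ ε' = -1) {Λ' : (Subgroup.normalizer T → ℂ) → (G → ℂ)}
    (hirr' : ∀ θ ∈ fam T P θ', IsIrrCharacter G (Λ' θ))
    (hinj' : Set.InjOn Λ' (fam T P θ' : Set (Subgroup.normalizer T → ℂ)))
    (hΛ' : ∀ θ ∈ fam T P θ', ∀ θ'' ∈ fam T P θ',
      indFun (Subgroup.normalizer T) (θ - θ'') = ε' • (Λ' θ - Λ' θ''))
    (h2 : 2 ≤ (fam T P θ').card) :
    (ε' = 1 ∧ ψ = Λ' θ' ∧ classInner θ' (fun x : Subgroup.normalizer T => ψ x) = 1 ∧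
      ∀ θ'' ∈ fam T P θ', θ'' ≠ θ' →
        classInner θ'' (fun x : Subgroup.normalizer T => ψ x) = 0) ∨
    (ε' = -1 ∧ ∃ k ∈ fam T P θ', ∀ θ'' ∈ fam T P θ', θ'' ≠ k →
        classInner θ'' (fun x : Subgroup.normalizer T => ψ x) ≠ 0) := by
  classical
  have hψc := IsIrrCharacter.isCharacter hψ
  have hψcf := IsCharacter.isClassFunction hψc
  have hΨ : IsCharacter (Subgroup.normalizer T) (fun x : Subgroup.normalizer T => ψ x) :=
    isCharacter_res hψc
  have hd' : (fun x : Subgroup.normalizer T => ψ x) 1 = d := by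
    simp only [Subgroup.coe_one]
    exact hd
  have hself := self_mem_fam hθ' hnt
  -- natural multiplicities
  have hnat : ∀ θ'' ∈ fam T P θ', ∃ n : ℕ,
      classInner θ'' (fun x : Subgroup.normalizer T => ψ x) = n := by
    intro θ'' hθ''
    exact IsCharacter.classInner_nat (IsIrrCharacter.isCharacter (mem_fam.mp hθ'').1) hΨ
  have hfull_contra : ¬ ∀ θ'' ∈ fam T P θ',
      classInner θ'' (fun x : Subgroup.normalizer T => ψ x) ≠ 0 := by
    intro hall
    have := card_le_of_all_constituents S hθ' hnt hΨ hall hd'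
    omega
  by_cases hex : ∃ k ∈ fam T P θ', Λ' k = ψ
  · obtain ⟨k, hk, hkψ⟩ := hex
    have hrel : ∀ θ'' ∈ fam T P θ', θ'' ≠ k →
        classInner θ'' (fun x : Subgroup.normalizer T => ψ x) -
          classInner k (fun x : Subgroup.normalizer T => ψ x) = -ε' := by
      intro θ'' hθ'' hne
      rw [mult_relation T hΛ' hψcf hθ'' hk, classInner_irr (hirr' θ'' hθ'') hψ,
        classInner_irr (hirr' k hk) hψ, if_pos hkψ, if_neg]
      · ring
      · intro h
        exact hne (hinj' hθ'' hk (h.trans hkψ.symm))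
    obtain ⟨nk, hnk⟩ := hnat k hk
    rcases hε' with h1 | h1
    · left
      refine ⟨h1, ?_⟩
      -- there is a member different from k
      obtain ⟨b, hb, hbk⟩ : ∃ b ∈ fam T P θ', b ≠ k := by
        by_contra hcon2
        push Not at hcon2
        have : fam T P θ' ⊆ {k} := by
          intro b hb
          rw [Finset.mem_singleton]
          exact hcon2 b hb
        have := Finset.card_le_card this
        rw [Finset.card_singleton] at this
        omega
      obtain ⟨nb, hnb⟩ := hnat b hb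
      have hb1 := hrel b hb hbk
      rw [hnb, hnk, h1] at hb1
      have hnk1 : nk = nb + 1 := by
        have : (nk : ℂ) = nb + 1 := by linear_combination -hb1
        exact_mod_cast this
      -- nk = 1
      have hnk_one : nk = 1 := by
        by_contra hne1
        apply hfull_contra
        intro θ'' hθ''
        by_cases hθk : θ'' = k
        · rw [hθk, hnk]
          have : nk ≠ 0 := by omega
          exact_mod_cast this
        · obtain ⟨n'', hn''⟩ := hnat θ'' hθ''
          have h3 := hrel θ'' hθ'' hθk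
          rw [hn'', hnk, h1] at h3
          have : (nk : ℂ) = n'' + 1 := by linear_combination -h3
          have h4 : nk = n'' + 1 := by exact_mod_cast this
          rw [hn'']
          have : n'' ≠ 0 := by omega
          exact_mod_cast this
      have hzero : ∀ θ'' ∈ fam T P θ', θ'' ≠ k →
          classInner θ'' (fun x : Subgroup.normalizer T => ψ x) = 0 := by
        intro θ'' hθ'' hθk
        obtain ⟨n'', hn''⟩ := hnat θ'' hθ''
        have h3 := hrel θ'' hθ'' hθk
        rw [hn'', hnk, h1] at h3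
        have : (nk : ℂ) = n'' + 1 := by linear_combination -h3
        have h4 : nk = n'' + 1 := by exact_mod_cast this
        rw [hn'']
        have : n'' = 0 := by omega
        rw [this, Nat.cast_zero]
      have hθk : θ' = k := by
        by_contra hne
        exact hcon (hzero θ' hself hne)
      refine ⟨?_, ?_, ?_⟩
      · rw [hθk]
        exact hkψ.symm
      · rw [hθk, hnk, hnk_one, Nat.cast_one]
      · intro θ'' hθ'' hne
        exact hzero θ'' hθ'' (hθk ▸ hne)
    · right
      refine ⟨h1, k, hk, ?_⟩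
      intro θ'' hθ'' hθk
      obtain ⟨n'', hn''⟩ := hnat θ'' hθ''
      have h3 := hrel θ'' hθ'' hθk
      rw [hn'', hnk, h1] at h3
      have : (n'' : ℂ) = nk + 1 := by linear_combination h3
      have h4 : n'' = nk + 1 := by exact_mod_cast this
      rw [hn'']
      have : n'' ≠ 0 := by omega
      exact_mod_cast this
  · exfalso
    push Not at hex
    apply hfull_contra
    intro θ'' hθ''
    have h3 := mult_relation T hΛ' hψcf hθ'' hself
    rw [classInner_irr (hirr' θ'' hθ'') hψ, classInner_irr (hirr' θ' hself) hψ,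
      if_neg (hex θ'' hθ''), if_neg (hex θ' hself), sub_self, mul_zero] at h3
    rw [sub_eq_zero.mp h3]
    exact hcon


theorem isClassFunction_mul {H : Type u} [Group H] {f g : H → ℂ} (hf : IsClassFunction H f)
    (hg : IsClassFunction H g) : IsClassFunction H (f * g) := by
  intro x y
  rw [Pi.mul_apply, Pi.mul_apply, hf x y, hg x y]

/-- the key inner product computation -/
theorem key_inner (S : Setup T C P a) {χ ψ : G → ℂ} (hχ : IsClassFunction G χ)
    (hψ : IsClassFunction G ψ) {θi k j : Subgroup.normalizer T → ℂ} {Λi Λj : G → ℂ}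
    (hvan : ∀ x : Subgroup.normalizer T, (x : G) ∉ T → θi x = χ x)
    (hΛi : indFun (Subgroup.normalizer T) (θi - fun x : Subgroup.normalizer T => χ x) = Λi - χ)
    (hjk : IsClassFunction (Subgroup.normalizer T) (j - k))
    (hjkvan : ∀ x : Subgroup.normalizer T, (x : G) ∉ T → j x = k x)
    (hΛj : indFun (Subgroup.normalizer T) (j - k) = Λj - ψ) :
    classInner (Λi * cj χ) Λj = classInner (χ * cj χ) ψ
      + classInner θi ((fun x : Subgroup.normalizer T => χ x) *
          (fun x : Subgroup.normalizer T => ψ x))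
      - classInner (fun x : Subgroup.normalizer T => χ x)
          ((fun x : Subgroup.normalizer T => χ x) * (fun x : Subgroup.normalizer T => ψ x))
      + classInner θi ((fun x : Subgroup.normalizer T => χ x) * j)
      - classInner θi ((fun x : Subgroup.normalizer T => χ x) * k) := by
  classical
  set θ₀ : Subgroup.normalizer T → ℂ := fun x : Subgroup.normalizer T => χ x with hθ₀
  set I := indFun (Subgroup.normalizer T) (θi - θ₀) with hI
  set I' := indFun (Subgroup.normalizer T) (j - k) with hI'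
  have hI'cf : IsClassFunction G I' := indFun_isClassFunction _ _
  have eΛi : Λi = χ + I := by rw [hΛi]; abel
  have eΛj : Λj = ψ + I' := by rw [hΛj]; abel
  rw [eΛi, eΛj, classInner_mul_cj, mul_add, classInner_add_left, classInner_add_right,
    classInner_add_right]
  -- (1)
  have e1 : classInner χ (χ * ψ) = classInner (χ * cj χ) ψ := (classInner_mul_cj χ χ ψ).symm
  -- (3)
  have e3 : classInner I (χ * ψ) = classInner θi (θ₀ * fun x : Subgroup.normalizer T => ψ x)
      - classInner θ₀ (θ₀ * fun x : Subgroup.normalizer T => ψ x) := by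
    rw [hI, frobenius_reciprocity _ _ (isClassFunction_mul hχ hψ), classInner_sub_left]
    rfl
  -- (4)
  have e4 : classInner I (χ * I') = classInner θi (θ₀ * j) - classInner θi (θ₀ * k)
      - (classInner θ₀ (θ₀ * j) - classInner θ₀ (θ₀ * k)) := by
    rw [hI, frobenius_reciprocity _ _ (isClassFunction_mul hχ hI'cf)]
    have e5 : classInner (θi - θ₀) (fun h : Subgroup.normalizer T => (χ * I') h) =
        classInner (θi - θ₀) (θ₀ * (j - k)) := by
      unfold classInner
      congr 1
      apply Finset.sum_congr rfl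
      intro x _
      by_cases hx : (x : G) ∈ T
      · have hx1 : x ≠ 1 := by
          intro h
          rw [h] at hx
          exact S.h1 hx
        have h7 : I' (x : G) = (j - k) x := indFun_ti_apply T S.hTI (j - k) hjk
          (fun y hy => by rw [Pi.sub_apply, hjkvan y hy, sub_self]) x hx hx1
        show (θi - θ₀) x * conj (χ x * I' x) = (θi - θ₀) x * conj (χ x * (j - k) x)
        rw [h7]
      · have h8 : (θi - θ₀) x = 0 := by
          rw [Pi.sub_apply, hvan x hx]
          exact sub_self _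
        rw [h8, zero_mul, zero_mul]
    rw [e5, mul_sub, classInner_sub_left, BLAux.classInner_sub_right, BLAux.classInner_sub_right]
  -- (2)
  have e2 : classInner χ (χ * I') = classInner θ₀ (θ₀ * j) - classInner θ₀ (θ₀ * k) := by
    rw [← classInner_mul_cj, ← classInner_conj_symm, hI',
      frobenius_reciprocity _ _ (isClassFunction_mul hχ
        (fun x y => by rw [cj_apply, cj_apply, hχ x y])), classInner_conj_symm]
    have : (fun h : Subgroup.normalizer T => (χ * cj χ) h) = θ₀ * cj θ₀ := rfl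
    rw [this, classInner_mul_cj, mul_sub, BLAux.classInner_sub_right]
  rw [e1, e2, e3, e4]
  ring


theorem fam_degree (S : Setup T C P a) {θ' θ'' : Subgroup.normalizer T → ℂ}
    (h : θ'' ∈ fam T P θ') : ∃ m : ℕ, C.index ≤ m ∧ θ'' 1 = m := by
  obtain ⟨f, hf, hf1⟩ := degree_eq S.hD (mem_fam.mp h).1 (mem_fam.mp h).2.1
  refine ⟨f * C.index, Nat.le_mul_of_pos_left _ hf, hf1⟩

/-- an irreducible character of small degree is exceptional of positive type for the family of
each of its `P`-nontrivial local constituents -/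
theorem exc_plus (S : Setup T C P a) {x f₀ : ℕ} (hf₀ : 0 < f₀) (hxf : x = f₀ * C.index)
    (hx2 : 2 ≤ x) (hdeg : x ^ 2 + 1 < Nat.card P)
    {ψ : G → ℂ} (hψ : IsIrrCharacter G ψ) {d : ℕ} (hd : ψ 1 = d) (hdx : d + 1 ≤ x ^ 2)
    {θ' : Subgroup.normalizer T → ℂ} (hθ' : IsIrrCharacter (Subgroup.normalizer T) θ')
    (hnt : PNontriv P θ')
    (hcon : classInner θ' (fun x : Subgroup.normalizer T => ψ x) ≠ 0) :
    ∃ Λ' : (Subgroup.normalizer T → ℂ) → (G → ℂ),
      (∀ θ ∈ fam T P θ', IsIrrCharacter G (Λ' θ)) ∧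
      Set.InjOn Λ' (fam T P θ' : Set (Subgroup.normalizer T → ℂ)) ∧
      (∀ θ ∈ fam T P θ', ∀ θ'' ∈ fam T P θ',
        indFun (Subgroup.normalizer T) (θ - θ'') = (1 : ℂ) • (Λ' θ - Λ' θ'')) ∧
      ψ = Λ' θ' ∧ classInner θ' (fun x : Subgroup.normalizer T => ψ x) = 1 ∧
      (∀ θ'' ∈ fam T P θ', θ'' ≠ θ' →
        classInner θ'' (fun x : Subgroup.normalizer T => ψ x) = 0) ∧
      x < (fam T P θ').card ∧ x ^ 2 < C.index * (fam T P θ').card := by
  classical
  have hcard := card_fam S hθ' hnt
  have hlt : x ^ 2 < C.index * (fam T P θ').card := by omega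
  have hepos : 0 < C.index := by
    rcases Nat.eq_zero_or_pos C.index with h | h
    · rw [h, zero_mul] at hlt
      omega
    · exact h
  have hx2e : x ^ 2 = C.index * (f₀ ^ 2 * C.index) := by
    rw [hxf]
    ring
  have ht1 : f₀ ^ 2 * C.index < (fam T P θ').card := by
    rw [hx2e] at hlt
    exact Nat.lt_of_mul_lt_mul_left hlt
  have hxle : x ≤ f₀ ^ 2 * C.index := by
    rw [hxf]
    have : f₀ ≤ f₀ ^ 2 := by
      rw [pow_two]
      exact Nat.le_mul_of_pos_left _ hf₀
    exact Nat.mul_le_mul_right _ this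
  have ht2 : 2 ≤ (fam T P θ').card := by omega
  obtain ⟨ε', hε', Λ', hirr', hinj', hΛ'⟩ := exists_exceptional T S.hTI S.h1 (fam_family (P := P) θ')
  have hψc := IsIrrCharacter.isCharacter hψ
  rcases exceptional_analysis S hψ hd (by omega) hθ' hnt hcon hε' hirr' hinj' hΛ' ht2 with
    ⟨h1, h2, h3, h4⟩ | ⟨h1, k, hk, h2⟩
  · refine ⟨Λ', hirr', hinj', ?_, h2, h3, h4, by omega, hlt⟩
    rw [← h1]
    exact hΛ'
  · exfalso
    have hΨ : IsCharacter (Subgroup.normalizer T) (fun x : Subgroup.normalizer T => ψ x) :=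
      isCharacter_res hψc
    have hd' : (fun x : Subgroup.normalizer T => ψ x) 1 = d := by
      simp only [Subgroup.coe_one]
      exact hd
    have h3 := card_mul_le_degree hΨ ((fam T P θ').erase k)
      (fun θ'' hθ'' => by
        have hm := Finset.mem_of_mem_erase hθ''
        refine ⟨(mem_fam.mp hm).1, ?_⟩
        rw [BLAux.classInner_char_symm hΨ (IsIrrCharacter.isCharacter (mem_fam.mp hm).1)]
        exact h2 θ'' hm (Finset.ne_of_mem_erase hθ''))
      C.index
      (fun θ'' hθ'' => fam_degree S (Finset.mem_of_mem_erase hθ'')) hd'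
    rw [Finset.card_erase_of_mem hk] at h3
    have h4 : f₀ ^ 2 * C.index * C.index ≤ ((fam T P θ').card - 1) * C.index :=
      Nat.mul_le_mul_right _ (by omega)
    have h5 : x ^ 2 = f₀ ^ 2 * C.index * C.index := by
      rw [hx2e]
      ring
    omega


/-- uniqueness of the `P`-nontrivial local constituent -/
theorem unique_constituent (S : Setup T C P a) {x f₀ : ℕ} (hf₀ : 0 < f₀)
    (hxf : x = f₀ * C.index) (hx2 : 2 ≤ x) (hdeg : x ^ 2 + 1 < Nat.card P)
    {ψ : G → ℂ} (hψ : IsIrrCharacter G ψ) {d : ℕ} (hd : ψ 1 = d) (hdx : d + 1 ≤ x ^ 2)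
    {θ' θ'' : Subgroup.normalizer T → ℂ} (hθ' : IsIrrCharacter (Subgroup.normalizer T) θ')
    (hnt : PNontriv P θ')
    (hcon : classInner θ' (fun x : Subgroup.normalizer T => ψ x) ≠ 0)
    (hθ'' : IsIrrCharacter (Subgroup.normalizer T) θ'') (hnt'' : PNontriv P θ'')
    (hcon'' : classInner θ'' (fun x : Subgroup.normalizer T => ψ x) ≠ 0) : θ'' = θ' := by
  classical
  by_contra hne
  obtain ⟨Λ', hirr', hinj', hΛ', hψ', -, habs', hc', -⟩ :=
    exc_plus S hf₀ hxf hx2 hdeg hψ hd hdx hθ' hnt hcon
  obtain ⟨Λ'', hirr'', hinj'', hΛ'', hψ'', -, -, hc'', -⟩ :=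
    exc_plus S hf₀ hxf hx2 hdeg hψ hd hdx hθ'' hnt'' hcon''
  have hnotmem : θ'' ∉ fam T P θ' := fun h => hcon'' (habs' θ'' h hne)
  have hdisj := fam_disjoint hnotmem hθ'' hnt''
  obtain ⟨j', hj', hj'ne⟩ : ∃ j ∈ fam T P θ', j ≠ θ' := by
    have : 1 < (fam T P θ').card := by omega
    obtain ⟨u, hu, v, hv, huv⟩ := Finset.one_lt_card.mp this
    by_cases h : u = θ'
    · exact ⟨v, hv, fun h2 => huv (h.trans h2.symm)⟩
    · exact ⟨u, hu, h⟩
  obtain ⟨j'', hj'', hj''ne⟩ : ∃ j ∈ fam T P θ'', j ≠ θ'' := by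
    have : 1 < (fam T P θ'').card := by omega
    obtain ⟨u, hu, v, hv, huv⟩ := Finset.one_lt_card.mp this
    by_cases h : u = θ''
    · exact ⟨v, hv, fun h2 => huv (h.trans h2.symm)⟩
    · exact ⟨u, hu, h⟩
  exact not_exceptional_two T S.hTI S.h1 (fam_family (P := P) θ'') (fam_family (P := P) θ') hdisj
    (Or.inl rfl) (Or.inl rfl) hirr'' hirr' hinj'' hinj' hΛ'' hΛ'
    (self_mem_fam hθ'' hnt'') hj'' (Ne.symm hj''ne) (self_mem_fam hθ' hnt) hj' (Ne.symm hj'ne)
    (hψ''.symm.trans hψ')


/-- non-principal constituents of `χ χ̄` restrict irreducibly to the normalizer -/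
theorem res_irr (S : Setup T C P a) {χ : G → ℂ} (hχ : IsIrrCharacter G χ)
    {x f₀ : ℕ} (hx : χ 1 = x) (hf₀ : 0 < f₀) (hxf : x = f₀ * C.index) (hx2 : 2 ≤ x)
    (hdeg : x ^ 2 + 1 < Nat.card P)
    {Λi : G → ℂ} {θi : Subgroup.normalizer T → ℂ}
    (hθi : IsIrrCharacter (Subgroup.normalizer T) θi)
    (hθi_van : ∀ y : Subgroup.normalizer T, (y : G) ∉ T → θi y = χ y)
    (hΛi_irr : IsIrrCharacter G Λi)
    (hΛi : indFun (Subgroup.normalizer T) (θi - fun y : Subgroup.normalizer T => χ y) = Λi - χ)
    (hgp : ∀ η : Subgroup.normalizer T → ℂ, IsIrrCharacter (Subgroup.normalizer T) η →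
      ¬ PNontriv P η → classInner θi ((fun y : Subgroup.normalizer T => χ y) * η) = 0)
    {ψ : G → ℂ} (hψ : IsIrrCharacter G ψ)
    (hψnt : PNontriv P (fun y : Subgroup.normalizer T => ψ y))
    (hb : classInner (χ * cj χ) ψ ≠ 0) {d : ℕ} (hd : ψ 1 = d) (hdx : d + 1 ≤ x ^ 2) :
    IsIrrCharacter (Subgroup.normalizer T) (fun y : Subgroup.normalizer T => ψ y) := by
  classical
  have hχc := IsIrrCharacter.isCharacter hχ
  have hψc := IsIrrCharacter.isCharacter hψ
  have hχcf := IsCharacter.isClassFunction hχc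
  have hψcf := IsCharacter.isClassFunction hψc
  set θ₀ : Subgroup.normalizer T → ℂ := fun y : Subgroup.normalizer T => χ y with hθ₀
  set ψN : Subgroup.normalizer T → ℂ := fun y : Subgroup.normalizer T => ψ y with hψN
  have hΨ : IsCharacter (Subgroup.normalizer T) ψN := isCharacter_res hψc
  have hθ₀c : IsCharacter (Subgroup.normalizer T) θ₀ := isCharacter_res hχc
  obtain ⟨θ', hθ', hne', hnt'⟩ := exists_pnontriv_constituent hΨ hψnt
  have hcon : classInner θ' ψN ≠ 0 := by
    rw [BLAux.classInner_char_symm (IsIrrCharacter.isCharacter hθ') hΨ]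
    exact hne'
  obtain ⟨Λ', hirr', hinj', hΛ', hψ', hone', habs', hc', hlt'⟩ :=
    exc_plus S hf₀ hxf hx2 hdeg hψ hd hdx hθ' hnt' hcon
  have hθ'mem := self_mem_fam hθ' hnt'
  -- choice of j
  have hθi1 : θi 1 = x := by
    rw [hθi_van 1 (by simpa using S.h1)]
    simpa using hx
  obtain ⟨j, hj, hj0⟩ : ∃ j ∈ fam T P θ', classInner θi (θ₀ * j) = 0 := by
    by_contra hcon2
    push Not at hcon2
    have hΘ : IsCharacter (Subgroup.normalizer T) (θi * cj θ₀) :=
      IsCharacter.mul (IsIrrCharacter.isCharacter hθi) (isCharacter_cj hθ₀c)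
    have hΘ1 : (θi * cj θ₀) 1 = (x ^ 2 : ℕ) := by
      rw [Pi.mul_apply, cj_apply, hθi1]
      show (x : ℂ) * conj (χ ((1 : Subgroup.normalizer T) : G)) = _
      rw [Subgroup.coe_one, hx, Complex.conj_natCast]
      push_cast
      ring
    have h3 := card_mul_le_degree hΘ (fam T P θ')
      (fun θ'' hθ'' => ⟨(mem_fam.mp hθ'').1, by
        rw [classInner_mul_cj]
        exact hcon2 θ'' hθ''⟩)
      C.index (fun θ'' hθ'' => fam_degree S hθ'') hΘ1
    rw [mul_comm] at h3
    omega
  have hjirr := (mem_fam.mp hj).1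
  have hjk : IsClassFunction (Subgroup.normalizer T) (j - θ') :=
    IsClassFunction.sub (IsCharacter.isClassFunction (IsIrrCharacter.isCharacter hjirr))
      (IsCharacter.isClassFunction (IsIrrCharacter.isCharacter hθ'))
  have hjkvan : ∀ y : Subgroup.normalizer T, (y : G) ∉ T → j y = θ' y :=
    fun y hy => (mem_fam.mp hj).2.2 y hy
  have hΛj : indFun (Subgroup.normalizer T) (j - θ') = Λ' j - ψ := by
    rw [hΛ' j hj θ' hθ'mem, one_smul, ← hψ']
  have key := key_inner S hχcf hψcf hθi_van hΛi hjk hjkvan hΛj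
  -- A1 = A4
  have hA : classInner θi (θ₀ * ψN) = classInner θi (θ₀ * θ') := by
    let _ := fintypeIrr (Subgroup.normalizer T)
    obtain ⟨m, hm, hcoef⟩ := IsCharacter.exists_decomp_sum hΨ
    have e1 : θ₀ * ψN = ∑ η : IrrCharacter (Subgroup.normalizer T),
        (m η : ℂ) • (θ₀ * (η : Subgroup.normalizer T → ℂ)) := by
      conv_lhs => rw [hm]
      rw [Finset.mul_sum]
      apply Finset.sum_congr rfl
      intro η _
      rw [← Nat.cast_smul_eq_nsmul ℂ, mul_smul_comm]
    rw [e1, classInner_sum_right, Finset.sum_eq_single ⟨θ', hθ'⟩]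
    · rw [classInner_smul_right]
      have : m ⟨θ', hθ'⟩ = 1 := by
        have h5 := hcoef ⟨θ', hθ'⟩
        rw [BLAux.classInner_char_symm hΨ (IsIrrCharacter.isCharacter hθ')] at h5
        have h6 : classInner θ' ψN = 1 := hone'
        rw [h6] at h5
        exact_mod_cast h5.symm
      rw [this]
      simp
    · intro η _ hη
      rw [classInner_smul_right]
      by_cases hm0 : m η = 0
      · rw [hm0]
        simp
      · by_cases hηnt : PNontriv P (η : Subgroup.normalizer T → ℂ)
        · exfalso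
          apply hη
          apply Subtype.ext
          have hcη : classInner (η : Subgroup.normalizer T → ℂ) ψN ≠ 0 := by
            rw [BLAux.classInner_char_symm (IsIrrCharacter.isCharacter η.2) hΨ, hcoef η]
            exact_mod_cast hm0
          exact unique_constituent S hf₀ hxf hx2 hdeg hψ hd hdx hθ' hnt' hcon η.2 hηnt hcη
        · rw [hgp η.1 η.2 hηnt, mul_zero]
    · intro h
      exact absurd (Finset.mem_univ _) h
  rw [hA, hj0] at key
  -- the remaining term
  have hprod : IsCharacter G (χ * cj χ) := IsCharacter.mul hχc (isCharacter_cj hχc)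
  have hX := IsCharacter.sub_constituent hprod hψ hb
  obtain ⟨mm, nn, hmm, hnn, hle⟩ := classInner_res_ge hX hψ (Subgroup.normalizer T)
  have hbm : classInner (χ * cj χ) ψ = (mm : ℂ) + 1 := by
    rw [classInner_sub_left, classInner_irr hψ hψ, if_pos rfl] at hmm
    linear_combination hmm
  have hψN0 : ψN ≠ 0 := by
    intro h0
    have := congrFun h0 1
    simp only [hψN, Subgroup.coe_one, Pi.zero_apply] at this
    obtain ⟨dd, hdd, hdd1⟩ := IsIrrCharacter.apply_one_pos hψ
    rw [hdd1] at this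
    have : dd = 0 := by exact_mod_cast this
    omega
  obtain ⟨c, hc1, hc⟩ := classInner_self_nat_pos hΨ hψN0
  have hA2 : classInner θ₀ (θ₀ * ψN) = (c : ℂ) + nn := by
    rw [← classInner_mul_cj]
    have e2 : θ₀ * cj θ₀ = ψN + resFun (Subgroup.normalizer T) (χ * cj χ - ψ) := by
      funext y
      simp only [Pi.mul_apply, Pi.add_apply, resFun_apply, Pi.sub_apply, hθ₀, hψN, cj_apply]
      ring
    rw [e2, classInner_add_left, hc]
    have : classInner (resFun (Subgroup.normalizer T) (χ * cj χ - ψ)) ψN = nn := hnn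
    rw [this]
  obtain ⟨n0, hn0⟩ := IsCharacter.classInner_nat
    (IsCharacter.mul (IsIrrCharacter.isCharacter hΛi_irr) (isCharacter_cj hχc))
    (IsIrrCharacter.isCharacter (hirr' j hj))
  rw [hn0, hbm, hA2] at key
  have hint : (n0 : ℂ) + c + nn = mm + 1 := by linear_combination key
  have hint' : n0 + c + nn = mm + 1 := by exact_mod_cast hint
  have hc_one : c = 1 := by omega
  apply isIrrCharacter_of_classInner_self_eq_one hΨ
  rw [hc, hc_one, Nat.cast_one]


/-- degree of a non-principal constituent of `χ χ̄` -/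
theorem degree_constituent {χ ψ : G → ℂ} (hχ : IsCharacter G χ) (hχχ : classInner χ χ = 1)
    (hψ : IsIrrCharacter G ψ) (hψ1 : ψ ≠ 1) (hb : classInner (χ * cj χ) ψ ≠ 0) {x d : ℕ}
    (hx : χ 1 = x) (hd : ψ 1 = d) : d + 1 ≤ x ^ 2 := by
  classical
  have hprod : IsCharacter G (χ * cj χ) := IsCharacter.mul hχ (isCharacter_cj hχ)
  have h1 : classInner (χ * cj χ) (1 : G → ℂ) ≠ 0 := by
    rw [classInner_mul_cj, mul_one, hχχ]
    exact one_ne_zero
  have hsub := isCharacter_sub_sum hprod {(1 : G → ℂ), ψ} (by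
    intro θ hθ
    rw [Finset.mem_insert, Finset.mem_singleton] at hθ
    rcases hθ with rfl | rfl
    · exact ⟨isIrrCharacter_one, h1⟩
    · exact ⟨hψ, hb⟩)
  obtain ⟨k, hk⟩ := IsCharacter.apply_one hsub
  rw [Finset.sum_pair (Ne.symm hψ1)] at hk
  simp only [Pi.sub_apply, Pi.mul_apply, Pi.add_apply, Pi.one_apply, cj_apply, hx, hd,
    Complex.conj_natCast] at hk
  have : (x : ℂ) * x = ((1 + d + k : ℕ) : ℂ) := by
    push_cast
    linear_combination hk
  have h2 : x * x = 1 + d + k := by exact_mod_cast this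
  rw [pow_two]
  omega

/-- the abstract form of the Brauer-Leonard theorem -/
theorem main_abstract (S : Setup T C P a) {χ : G → ℂ} (hχ : IsIrrCharacter G χ)
    (hres : IsIrrCharacter (Subgroup.normalizer T) (fun y : Subgroup.normalizer T => χ y))
    (hnt : PNontriv P (fun y : Subgroup.normalizer T => χ y))
    {x : ℕ} (hx : χ 1 = x) (hdeg : x ^ 2 + 1 < Nat.card P)
    (hH : ∀ ψ : G → ℂ, IsIrrCharacter G ψ → ψ ≠ 1 →
      PNontriv P (fun y : Subgroup.normalizer T => ψ y)) :
    x = 1 ∧ C.index = 1 := by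
  classical
  have hχc := IsIrrCharacter.isCharacter hχ
  set θ₀ : Subgroup.normalizer T → ℂ := fun y : Subgroup.normalizer T => χ y with hθ₀
  have hθ₀c : IsCharacter (Subgroup.normalizer T) θ₀ := isCharacter_res hχc
  obtain ⟨f₀, hf₀, hf1⟩ := degree_eq S.hD hres hnt
  have hxf : x = f₀ * C.index := by
    have : θ₀ 1 = x := by
      simp only [hθ₀, Subgroup.coe_one]
      exact hx
    rw [this] at hf1
    exact_mod_cast hf1
  have hxpos : 0 < x := by
    obtain ⟨d, hd, hd1⟩ := IsIrrCharacter.apply_one_pos hχ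
    rw [hx] at hd1
    have : x = d := by exact_mod_cast hd1
    omega
  by_cases hx2 : 2 ≤ x
  · exfalso
    have hepos : 0 < C.index := by
      rcases Nat.eq_zero_or_pos C.index with h | h
      · rw [h, mul_zero] at hxf
        omega
      · exact h
    have hele : C.index ≤ x := by
      rw [hxf]
      exact Nat.le_mul_of_pos_left _ hf₀
    have hxx : x ≤ x ^ 2 := by
      rw [pow_two]
      exact Nat.le_mul_of_pos_left _ hxpos
    -- the family of θ₀
    have hcardF := card_fam S hres hnt
    have hF3 : 3 ≤ (fam T P θ₀).card := by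
      have h1 : x ^ 2 < C.index * (fam T P θ₀).card := by omega
      have h2 : x ^ 2 = C.index * (f₀ ^ 2 * C.index) := by
        rw [hxf]
        ring
      rw [h2] at h1
      have h3 := Nat.lt_of_mul_lt_mul_left h1
      have h4 : x ≤ f₀ ^ 2 * C.index := by
        rw [hxf]
        have : f₀ ≤ f₀ ^ 2 := by
          rw [pow_two]
          exact Nat.le_mul_of_pos_left _ hf₀
        exact Nat.mul_le_mul_right _ this
      omega
    have hθ₀mem := self_mem_fam hres hnt
    obtain ⟨Λ, hΛirr, -, hΛ0, hΛ⟩ := exists_exceptional_of_restrict T S.hTI S.h1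
      (fam_family (P := P) θ₀) hF3 hχ hθ₀mem rfl
    -- general position
    obtain ⟨μ₀, hμ₀, hμ₀1, hμ₀0⟩ := exists_nonconstituent S.hD hres hnt (by omega)
    obtain ⟨θi, hθi, hθiμ⟩ := fam_full S hres hnt hμ₀ hμ₀1
    have hθi_irr := (mem_fam.mp hθi).1
    have hgp : ∀ η : Subgroup.normalizer T → ℂ, IsIrrCharacter (Subgroup.normalizer T) η →
        ¬ PNontriv P η → classInner θi (θ₀ * η) = 0 := by
      intro η hη hηP
      exact general_position hθ₀c hθi_irr (IsIrrCharacter.isCharacter hη) hηP hμ₀ hμ₀0 hθiμ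
    have hΛi : indFun (Subgroup.normalizer T) (θi - θ₀) = Λ θi - χ := by
      rw [hΛ θi hθi θ₀ hθ₀mem, hΛ0]
    have hχχ : classInner χ χ = 1 := by rw [classInner_irr hχ hχ, if_pos rfl]
    -- every non-principal constituent restricts irreducibly
    have hall : ∀ ψ : G → ℂ, IsIrrCharacter G ψ → ψ ≠ 1 → classInner (χ * cj χ) ψ ≠ 0 →
        classInner (resFun P (fun y : Subgroup.normalizer T => ψ y)) (1 : P → ℂ) = 0 := by
      intro ψ hψ hψ1 hb
      obtain ⟨d, -, hd⟩ := IsIrrCharacter.apply_one_pos hψ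
      have hdx := degree_constituent hχc hχχ hψ hψ1 hb hx hd
      have hirr := res_irr S hχ hx hf₀ hxf hx2 hdeg hθi_irr (mem_fam.mp hθi).2.2
        (hΛirr θi hθi) hΛi hgp hψ (hH ψ hψ hψ1) hb hd hdx
      by_contra hne
      obtain ⟨u, hu⟩ := constituent_nontriv S.hD hirr (hH ψ hψ hψ1) isIrrCharacter_one hne
      exact hu rfl
    -- the norm of the restriction of χ to P
    have hnorm : classInner (resFun P θ₀) (resFun P θ₀) = 1 := by
      have e1 : classInner (resFun P θ₀) (resFun P θ₀) =
          classInner (resFun P θ₀ * cj (resFun P θ₀)) (1 : P → ℂ) := by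
        rw [classInner_mul_cj, mul_one]
      rw [e1]
      let _ := fintypeIrr G
      have hprod : IsCharacter G (χ * cj χ) := IsCharacter.mul hχc (isCharacter_cj hχc)
      obtain ⟨b, hb, hcoef⟩ := IsCharacter.exists_decomp_sum hprod
      have e2 : resFun P θ₀ * cj (resFun P θ₀) =
          ∑ ψ : IrrCharacter G, (b ψ : ℂ) •
            resFun P (fun y : Subgroup.normalizer T => (ψ : G → ℂ) y) := by
        funext u
        have := congrFun hb (u : Subgroup.normalizer T)
        rw [Finset.sum_apply] at this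
        rw [Finset.sum_apply, Pi.mul_apply, cj_apply, resFun_apply]
        show χ _ * conj (χ _) = _
        have h3 : (χ * cj χ) ((u : Subgroup.normalizer T) : G) =
            χ ((u : Subgroup.normalizer T) : G) * conj (χ ((u : Subgroup.normalizer T) : G)) := rfl
        rw [← h3, this]
        apply Finset.sum_congr rfl
        intro ψ _
        rw [Pi.smul_apply, Pi.smul_apply, resFun_apply, ← Nat.cast_smul_eq_nsmul ℂ]
      rw [e2, classInner_sum_left, Finset.sum_eq_single (⟨1, isIrrCharacter_one⟩ : IrrCharacter G)]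
      · rw [classInner_smul_left]
        have hb1 : b ⟨1, isIrrCharacter_one⟩ = 1 := by
          have := hcoef ⟨1, isIrrCharacter_one⟩
          rw [classInner_mul_cj] at this
          simp only [mul_one] at this
          rw [hχχ] at this
          exact_mod_cast this.symm
        rw [hb1]
        have : resFun P (fun y : Subgroup.normalizer T => (1 : G → ℂ) y) = (1 : P → ℂ) := rfl
        rw [this, classInner_irr isIrrCharacter_one isIrrCharacter_one, if_pos rfl]
        simp
      · intro ψ _ hψne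
        rw [classInner_smul_left]
        by_cases hb0 : b ψ = 0
        · rw [hb0]
          simp
        · have hψ1 : (ψ : G → ℂ) ≠ 1 := by
            intro h
            apply hψne
            exact Subtype.ext h
          have hbne : classInner (χ * cj χ) (ψ : G → ℂ) ≠ 0 := by
            rw [hcoef ψ]
            exact_mod_cast hb0
          rw [hall ψ.1 ψ.2 hψ1 hbne, mul_zero]
      · intro h
        exact absurd (Finset.mem_univ _) h
    have hirrP := isIrrCharacter_of_classInner_self_eq_one (isCharacter_resFun P hθ₀c) hnorm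
    have hone := irr_apply_one S.hD hirrP
    rw [resFun_apply] at hone
    simp only [hθ₀, Subgroup.coe_one] at hone
    rw [hx] at hone
    have : x = 1 := by exact_mod_cast hone
    omega
  · have hx1 : x = 1 := by omega
    refine ⟨hx1, ?_⟩
    rw [hx1] at hxf
    exact (Nat.eq_one_of_mul_eq_one_left hxf.symm)

end Cfsg.Agent.Lib.Helper2.BLMain
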