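/-
helper2: reduction modulo `p` without lattices.  A valuation subring `B` of `ℂ` in which `p` is a
non-unit; finite `p`-groups acting on additive groups of exponent `p` have non-zero fixed points;
the convolution lemma in `F[P]` (every non-zero left ideal contains the trace element); and the
resulting statement in characteristic zero: a translation-invariant linear relation among the
vectors `a x` (`x ∈ P`) forces `∑ a x` into `𝔪 · span_B (a x)`.
-/
import Mathlib

set_option autoImplicit false

namespace Cfsg.Agent.Lib.Helper2.ModPVal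

/-- A valuation subring of `ℂ` in which the prime `p` is not a unit. -/
theorem exists_valuationSubring (p : ℕ) (hp : p.Prime) :
    ∃ B : ValuationSubring ℂ, B.valuation (p : ℂ) < 1 := by
  have hmem : (p : ℂ) ∈ (⊥ : Subring ℂ) := Subring.mem_bot.mpr ⟨(p : ℤ), by simp⟩
  have hI : Ideal.span {(⟨(p : ℂ), hmem⟩ : (⊥ : Subring ℂ))} ≠ ⊤ := by
    intro h
    rw [Ideal.span_singleton_eq_top] at h
    obtain ⟨⟨b, hb⟩, hmul⟩ := isUnit_iff_exists_inv.mp h
    obtain ⟨n, rfl⟩ := Subring.mem_bot.mp hb
    have h1 : ((p : ℂ)) * ((n : ℤ) : ℂ) = 1 := congrArg Subtype.val hmul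
    have h2 : (p : ℤ) * n = 1 := by exact_mod_cast h1
    have h3 : (p : ℤ) ∣ 1 := ⟨n, h2.symm⟩
    have h4 : (p : ℤ) = 1 ∨ (p : ℤ) = -1 := Int.isUnit_iff.mp (isUnit_of_dvd_one h3)
    have hp2 := hp.two_le
    omega
  obtain ⟨B, -, hB⟩ := Ideal.image_subset_nonunits_valuationSubring _ hI
  refine ⟨B, ?_⟩
  rw [← ValuationSubring.mem_nonunits_iff]
  apply hB
  exact ⟨⟨(p : ℂ), hmem⟩, Ideal.subset_span rfl, rfl⟩

section fixed

variable {P : Type*} [Group P] [Finite P] {p : ℕ} [hp : Fact p.Prime]

/-- A finite `p`-group acting by additive automorphisms on an additive group of exponent `p` fixes a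
non-zero element of the additive closure of the orbit of any non-zero element. -/
theorem exists_fixed_in_closure (hP : IsPGroup p P) {V : Type*} [AddCommGroup V]
    (hV : ∀ v : V, p • v = 0) (ρ : P →* AddMonoid.End V) (v₀ : V) (hv₀ : v₀ ≠ 0) :
    ∃ v : V, v ≠ 0 ∧ (∀ y : P, ρ y v = v) ∧
      v ∈ AddSubgroup.closure (Set.range fun y : P => ρ y v₀) := by
  classical
  set S : AddSubgroup V := AddSubgroup.closure (Set.range fun y : P => ρ y v₀) with hS
  have hstable : ∀ (y : P) (s : V), s ∈ S → ρ y s ∈ S := by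
    intro y s hs
    induction hs using AddSubgroup.closure_induction with
    | mem x hx =>
      obtain ⟨y', rfl⟩ := hx
      apply AddSubgroup.subset_closure
      refine ⟨y * y', ?_⟩
      show ρ (y * y') v₀ = ρ y (ρ y' v₀)
      rw [map_mul]
      rfl
    | zero => rw [map_zero]; exact S.zero_mem
    | add a b _ _ ha hb => rw [map_add]; exact S.add_mem ha hb
    | neg a _ ha => rw [map_neg]; exact S.neg_mem ha
  have hv₀S : v₀ ∈ S := by
    apply AddSubgroup.subset_closure
    refine ⟨1, ?_⟩
    show ρ 1 v₀ = v₀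
    rw [map_one]
    rfl
  let act : MulAction P S :=
    { smul := fun y s => ⟨ρ y s, hstable y s s.2⟩
      one_smul := by
        intro s
        apply Subtype.ext
        show ρ 1 (s : V) = s
        rw [map_one]
        rfl
      mul_smul := by
        intro y y' s
        apply Subtype.ext
        show ρ (y * y') (s : V) = ρ y (ρ y' s)
        rw [map_mul]
        rfl }
  have hsmul : ∀ (y : P) (s : S), ((y • s : S) : V) = ρ y s := fun y s => rfl
  have hfg : AddGroup.FG S := by
    rw [AddGroup.fg_iff_addSubgroup_fg, AddSubgroup.fg_iff]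
    exact ⟨_, rfl, Set.finite_range _⟩
  have htors : IsAddTorsion S := by
    intro s
    rw [isOfFinAddOrder_iff_nsmul_eq_zero]
    refine ⟨p, hp.out.pos, ?_⟩
    apply Subtype.ext
    rw [AddSubgroup.coe_nsmul]
    exact hV _
  have hfin : Finite S := AddCommGroup.finite_of_fg_isAddTorsion S htors
  have hdvd : p ∣ Nat.card S := by
    have h1 : p • (⟨v₀, hv₀S⟩ : S) = 0 := by
      apply Subtype.ext
      rw [AddSubgroup.coe_nsmul]
      exact hV _
    have h2 : (⟨v₀, hv₀S⟩ : S) ≠ 0 := by
      intro h
      exact hv₀ (congrArg Subtype.val h)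
    have h3 := addOrderOf_eq_prime h1 h2
    rw [← h3]
    exact addOrderOf_dvd_natCard _
  have h0 : (0 : S) ∈ MulAction.fixedPoints P S := by
    intro y
    apply Subtype.ext
    rw [hsmul]
    show ρ y (0 : V) = 0
    exact map_zero _
  obtain ⟨b, hb, hb0⟩ := hP.exists_fixed_point_of_prime_dvd_card_of_fixed_point S hdvd h0
  refine ⟨b, ?_, ?_, b.2⟩
  · intro h
    apply hb0
    apply Subtype.ext
    exact h.symm
  · intro y
    have := hb y
    rw [← hsmul, this]

end fixed

section conv

variable {P : Type*} [Group P] [Fintype P] {p : ℕ} [hp : Fact p.Prime]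

/-- In the group algebra of a finite `p`-group over a field of characteristic `p`, the left ideal
generated by a non-zero element contains the sum of all group elements. -/
theorem exists_conv_eq_one (hP : IsPGroup p P) {F : Type*} [Field F] [CharP F p]
    (c : P → F) (hc : c ≠ 0) :
    ∃ d : P → F, ∀ z : P, ∑ y : P, d y * c (y⁻¹ * z) = 1 := by
  classical
  -- left translation
  let ρ : P →* AddMonoid.End (P → F) :=
    { toFun := fun y =>
        { toFun := fun φ z => φ (y⁻¹ * z)
          map_zero' := rfl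
          map_add' := fun _ _ => rfl }
      map_one' := by
        apply AddMonoidHom.ext
        intro φ
        funext z
        show φ (1⁻¹ * z) = φ z
        rw [inv_one, one_mul]
      map_mul' := by
        intro y y'
        apply AddMonoidHom.ext
        intro φ
        funext z
        show φ ((y * y')⁻¹ * z) = φ (y'⁻¹ * (y⁻¹ * z))
        rw [mul_inv_rev, mul_assoc] }
  have hρ : ∀ (y : P) (φ : P → F) (z : P), ρ y φ z = φ (y⁻¹ * z) := fun _ _ _ => rfl
  have hV : ∀ φ : P → F, p • φ = 0 := by
    intro φ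
    funext z
    rw [Pi.smul_apply, nsmul_eq_mul, CharP.cast_eq_zero, zero_mul]
    rfl
  obtain ⟨φ, hφ0, hφfix, hφmem⟩ := exists_fixed_in_closure hP hV ρ c hc
  -- the additive group of all convolutions
  let conv : (P → F) →+ (P → F) :=
    { toFun := fun d z => ∑ y : P, d y * c (y⁻¹ * z)
      map_zero' := by
        funext z
        simp
      map_add' := by
        intro d d'
        funext z
        simp only [Pi.add_apply, add_mul, Finset.sum_add_distrib] }
  have hconv : ∀ (d : P → F) (z : P), conv d z = ∑ y : P, d y * c (y⁻¹ * z) := fun _ _ => rfl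
  have hle : AddSubgroup.closure (Set.range fun y : P => ρ y c) ≤ conv.range := by
    rw [AddSubgroup.closure_le]
    rintro _ ⟨y, rfl⟩
    refine ⟨Pi.single y 1, ?_⟩
    funext z
    show conv (Pi.single y 1) z = ρ y c z
    rw [hconv, hρ, Finset.sum_eq_single y]
    · rw [Pi.single_eq_same, one_mul]
    · intro y' _ hy'
      rw [Pi.single_eq_of_ne hy', zero_mul]
    · intro h
      exact absurd (Finset.mem_univ y) h
  obtain ⟨d₀, hd₀⟩ := hle hφmem
  -- `φ` is constant
  have hconst : ∀ z : P, φ z = φ 1 := by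
    intro z
    have h1 := congrFun (hφfix z) z
    rw [hρ, inv_mul_cancel] at h1
    exact h1.symm
  have ha : φ 1 ≠ 0 := by
    intro h
    apply hφ0
    funext z
    rw [hconst z, h]
    rfl
  refine ⟨fun y => (φ 1)⁻¹ * d₀ y, ?_⟩
  intro z
  have h2 : ∑ y : P, (φ 1)⁻¹ * d₀ y * c (y⁻¹ * z) = (φ 1)⁻¹ * conv d₀ z := by
    rw [hconv, Finset.mul_sum]
    apply Finset.sum_congr rfl
    intro y _
    rw [mul_assoc]
  rw [h2, hd₀, hconst z, inv_mul_cancel₀ ha]

end conv

section main

variable {P : Type*} [Group P] [Fintype P] {p : ℕ} [hp : Fact p.Prime]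

/-- **Characteristic-zero shadow of the freeness of `F P u` when `Tr_P u ≠ 0`.**  If the vectors
`a x` (`x ∈ P`, `P` a `p`-group) satisfy a non-trivial linear relation that is invariant under left
translation, then `∑ a x` is a combination of the `a x` with coefficients in the maximal ideal of
the valuation ring `B` (where `p` is a non-unit). -/
theorem exists_small_coeffs (B : ValuationSubring ℂ) (hpB : B.valuation (p : ℂ) < 1)
    (hP : IsPGroup p P) {M : Type*} [AddCommGroup M] [Module ℂ M]
    (a : P → M) (c : P → ℂ) (hc : c ≠ 0) (hrel : ∀ y : P, ∑ x : P, c x • a (y * x) = 0) :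
    ∃ e : P → ℂ, (∀ z, B.valuation (e z) < 1) ∧ ∑ z : P, a z = ∑ z : P, e z • a z := by
  classical
  set v := B.valuation with hv
  -- normalise the relation
  obtain ⟨x₀, -, hx₀⟩ := Finset.exists_max_image Finset.univ (fun x : P => v (c x))
    ⟨1, Finset.mem_univ _⟩
  have hcx₀ : c x₀ ≠ 0 := by
    intro h0
    apply hc
    funext x
    have h1 := hx₀ x (Finset.mem_univ x)
    simp only [h0, map_zero] at h1
    exact (map_eq_zero v).mp (le_antisymm h1 zero_le)
  have hvx₀ : v (c x₀) ≠ 0 := (Valuation.ne_zero_iff v).mpr hcx₀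
  have hc'B : ∀ x : P, c x / c x₀ ∈ B := by
    intro x
    rw [← ValuationSubring.valuation_le_one_iff, ← hv, map_div₀]
    exact div_le_one_of_le₀ (hx₀ x (Finset.mem_univ x)) zero_le
  let c' : P → B := fun x => ⟨c x / c x₀, hc'B x⟩
  have hc'x₀ : c' x₀ = 1 := by
    apply Subtype.ext
    show c x₀ / c x₀ = 1
    exact div_self hcx₀
  have hrel' : ∀ y : P, ∑ x : P, ((c' x : B) : ℂ) • a (y * x) = 0 := by
    intro y
    have h1 : ∑ x : P, ((c' x : B) : ℂ) • a (y * x) = (c x₀)⁻¹ • ∑ x : P, c x • a (y * x) := by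
      rw [Finset.smul_sum]
      apply Finset.sum_congr rfl
      intro x _
      rw [smul_smul]
      congr 1
      show c x / c x₀ = (c x₀)⁻¹ * c x
      rw [div_eq_mul_inv, mul_comm]
    rw [h1, hrel y, smul_zero]
  -- the residue field
  let F := IsLocalRing.ResidueField B
  let π : B →+* F := IsLocalRing.residue B
  have hpmem : (p : ℂ) ∈ B := by
    rw [← ValuationSubring.valuation_le_one_iff]
    exact hpB.le
  have hpF : ((p : ℕ) : F) = 0 := by
    have h1 : ((p : ℕ) : B) ∈ IsLocalRing.maximalIdeal B := by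
      rw [ValuationSubring.valuation_lt_one_iff]
      have : (((p : ℕ) : B) : ℂ) = (p : ℂ) := by simp
      rw [this]
      exact hpB
    have h2 := (IsLocalRing.residue_eq_zero_iff ((p : ℕ) : B)).mpr h1
    rw [map_natCast] at h2
    exact h2
  have : CharP F p := by
    have := CharP.ringChar_of_prime_eq_zero hp.out hpF
    rw [← this]
    exact ringChar.charP F
  have hcbar : (fun x : P => π (c' x)) ≠ 0 := by
    intro h
    have h1 := congrFun h x₀
    simp only [hc'x₀, map_one, Pi.zero_apply] at h1
    exact one_ne_zero h1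
  obtain ⟨dbar, hdbar⟩ := exists_conv_eq_one hP (fun x : P => π (c' x)) hcbar
  have hsurj : ∀ y : P, ∃ b : B, π b = dbar y := fun y => IsLocalRing.residue_surjective (dbar y)
  choose d hd using hsurj
  -- the convolution
  let s : P → B := fun z => ∑ y : P, d y * c' (y⁻¹ * z)
  have hs : ∀ z : P, π (s z) = 1 := by
    intro z
    show π (∑ y : P, d y * c' (y⁻¹ * z)) = 1
    rw [map_sum, ← hdbar z]
    apply Finset.sum_congr rfl
    intro y _
    rw [map_mul, hd]
  have hsv : ∀ z : P, v (1 - ((s z : B) : ℂ)) < 1 := by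
    intro z
    have h1 : (1 - s z : B) ∈ IsLocalRing.maximalIdeal B := by
      rw [← IsLocalRing.residue_eq_zero_iff]
      show π (1 - s z) = 0
      rw [map_sub, map_one, hs z, sub_self]
    rw [ValuationSubring.valuation_lt_one_iff] at h1
    have h2 : (((1 - s z : B)) : ℂ) = 1 - ((s z : B) : ℂ) := by push_cast; rfl
    rw [h2] at h1
    exact h1
  refine ⟨fun z => 1 - ((s z : B) : ℂ), hsv, ?_⟩
  -- the identity
  have hzero : ∑ z : P, ((s z : B) : ℂ) • a z = 0 := by
    have h1 : ∑ y : P, ((d y : B) : ℂ) • ∑ x : P, ((c' x : B) : ℂ) • a (y * x) = 0 := by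
      apply Finset.sum_eq_zero
      intro y _
      rw [hrel' y, smul_zero]
    rw [← h1]
    have h2 : ∀ y : P, ((d y : B) : ℂ) • ∑ x : P, ((c' x : B) : ℂ) • a (y * x) =
        ∑ z : P, (((d y : B) : ℂ) * ((c' (y⁻¹ * z) : B) : ℂ)) • a z := by
      intro y
      rw [Finset.smul_sum]
      apply Fintype.sum_equiv (Equiv.mulLeft y)
      intro x
      rw [Equiv.coe_mulLeft, inv_mul_cancel_left, smul_smul]
    rw [Finset.sum_congr rfl (fun y _ => h2 y), Finset.sum_comm]
    apply Finset.sum_congr rfl
    intro z _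
    rw [← Finset.sum_smul]
    congr 1
    show ((∑ y : P, d y * c' (y⁻¹ * z) : B) : ℂ) = _
    push_cast
    rfl
  have h3 : ∑ z : P, (1 - ((s z : B) : ℂ)) • a z = ∑ z : P, a z - ∑ z : P, ((s z : B) : ℂ) • a z := by
    rw [← Finset.sum_sub_distrib]
    apply Finset.sum_congr rfl
    intro z _
    rw [sub_smul, one_smul]
  rw [h3, hzero, sub_zero]

end main

end Cfsg.Agent.Lib.Helper2.ModPVal
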