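/-
helper2: a `p`-subgroup `P ≤ H` acting freely on the cosets of `H` other than `H` itself (for
instance `P` a TI Sylow subgroup and `H ≥ N_G(P)`): an `H`-fixed vector `T ≠ 0` with
`∑_g g T = 0` in a complex representation has a translate `g T` whose `P`-orbit is linearly
independent (the characteristic-zero shadow of "`F P u` is free when `Tr_P u ≠ 0`").  Consequence:
characters of degree `χ(1)^2 ≤ |P|` keep their norm on restriction to `H`.
-/
import Mathlib
import Cfsg.Agent.Lib.Helper2.ModPVal
import Cfsg.Agent.Lib.Lead.CharCenter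

set_option autoImplicit false

namespace Cfsg.Agent.Lib.Helper2.TINorm

open Cfsg.Agent.Lib.Helper2.ModPVal

/-- Decomposition of a sum along the orbits of a free action. -/
theorem sum_eq_sum_orbits_of_free {A Y M : Type*} [Group A] [Fintype A] [Fintype Y] [MulAction A Y]
    [AddCommMonoid M] [Fintype (MulAction.orbitRel.Quotient A Y)]
    (hfree : ∀ (a : A) (y : Y), a • y = y → a = 1) (f : Y → M) :
    ∑ y, f y = ∑ ω : MulAction.orbitRel.Quotient A Y, ∑ a : A, f (a • ω.out) := by
  classical
  rw [← Finset.sum_fiberwise Finset.univ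
    (fun y : Y => (Quotient.mk'' y : MulAction.orbitRel.Quotient A Y)) f]
  apply Finset.sum_congr rfl
  intro ω _
  symm
  apply Finset.sum_nbij (fun a : A => a • ω.out)
  · intro a _
    rw [Finset.mem_filter]
    refine ⟨Finset.mem_univ _, ?_⟩
    have h1 : (Quotient.mk'' (a • ω.out) : MulAction.orbitRel.Quotient A Y) = Quotient.mk'' ω.out := by
      apply Quotient.sound'
      rw [MulAction.orbitRel_apply]
      exact MulAction.mem_orbit _ _
    rw [h1]
    exact Quotient.out_eq' ω
  · intro a _ a' _ h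
    have h1 : (a'⁻¹ * a) • ω.out = ω.out := by
      rw [mul_smul]
      simp only at h
      rw [h, inv_smul_smul]
    have h2 := hfree _ _ h1
    exact (inv_mul_eq_one.mp h2).symm
  · intro y hy
    rw [Finset.coe_filter] at hy
    have hy2 : (Quotient.mk'' y : MulAction.orbitRel.Quotient A Y) = ω := hy.2
    have h1 : (Quotient.mk'' y : MulAction.orbitRel.Quotient A Y) = Quotient.mk'' ω.out := by
      rw [hy2]
      exact (Quotient.out_eq' ω).symm
    have h2 := Quotient.exact' h1
    rw [MulAction.orbitRel_apply] at h2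
    obtain ⟨a, ha⟩ := h2
    exact ⟨a, Finset.mem_coe.mpr (Finset.mem_univ _), ha⟩
  · intro a _
    rfl

section lemmaB

universe u

variable {G : Type u} [Group G] [Fintype G] {M : Type*} [AddCommGroup M] [Module ℂ M]
  {p : ℕ} [hp : Fact p.Prime]

/-- First step: if no translate of `T` has a linearly independent `P`-orbit, then `T` is a
combination of translates of `T` with coefficients in the maximal ideal. -/
theorem exists_small_relation (B : ValuationSubring ℂ) (hpB : B.valuation (p : ℂ) < 1)
    (Θ : Representation ℂ G M) (H P : Subgroup G) (hPH : P ≤ H) (hP : IsPGroup p P)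
    (hfree : ∀ x ∈ P, ∀ g : G, g ∉ H → g⁻¹ * x * g ∈ H → x = 1)
    (T : M) (hH : ∀ h ∈ H, Θ h T = T) (hsum : ∑ g : G, Θ g T = 0)
    (hdep : ∀ g : G, ¬ LinearIndependent ℂ (fun x : P => Θ (x : G) (Θ g T))) :
    ∃ (ι : Type u) (_ : Fintype ι) (α : ι → ℂ) (b : ι → G),
      (∀ j, B.valuation (α j) < 1) ∧ T = ∑ j : ι, α j • Θ (b j) T := by
  classical
  let _ : Fintype H := Fintype.ofFinite H
  let _ : Fintype P := Fintype.ofFinite P
  obtain ⟨q₀, hq₀⟩ : ∃ q₀ : G ⧸ H, q₀ = QuotientGroup.mk 1 := ⟨_, rfl⟩
  -- the function on cosets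
  let f : G ⧸ H → M := fun q => Θ q.out T
  have hmulH : ∀ (g : G) (h : H), Θ (g * h) T = Θ g T := by
    intro g h
    rw [map_mul, Module.End.mul_apply, hH h h.2]
  have hfmk : ∀ g : G, f (QuotientGroup.mk g) = Θ g T := by
    intro g
    obtain ⟨h, hh⟩ := QuotientGroup.mk_out_eq_mul H g
    show Θ (Quotient.out (QuotientGroup.mk g : G ⧸ H)) T = Θ g T
    rw [hh, hmulH]
  have hfsmul : ∀ (g : G) (q : G ⧸ H), f (g • q) = Θ g (f q) := by
    intro g q
    have h1 : g • q = QuotientGroup.mk (g * q.out) := by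
      conv_lhs => rw [← QuotientGroup.out_eq' q]
      rfl
    rw [h1, hfmk, map_mul, Module.End.mul_apply]
  have hfq₀ : f q₀ = T := by
    rw [hq₀, hfmk, map_one, Module.End.one_apply]
  -- the sum over cosets vanishes
  have hsumq : ∑ q : G ⧸ H, f q = 0 := by
    have h1 := Cfsg.Agent.CharLib.sum_eq_sum_quotient_mul H (fun g : G => Θ g T)
    rw [hsum] at h1
    have h2 : ∀ q : G ⧸ H, ∑ z : H, Θ (q.out * z) T = (Fintype.card H : ℂ) • f q := by
      intro q
      rw [Finset.sum_congr rfl (fun z _ => hmulH q.out z), Finset.sum_const, Finset.card_univ,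
        Nat.cast_smul_eq_nsmul]
    rw [Finset.sum_congr rfl (fun q _ => h2 q), ← Finset.smul_sum] at h1
    have h3 : (Fintype.card H : ℂ) ≠ 0 := by
      exact_mod_cast Fintype.card_ne_zero
    exact (smul_eq_zero.mp h1.symm).resolve_left h3
  -- the action of `P` on the other cosets
  have hPfix : ∀ (x : P) (q : G ⧸ H), q ≠ q₀ → (x : G) • q ≠ q₀ := by
    intro x q hq h
    apply hq
    have h1 : q = (x : G)⁻¹ • q₀ := by rw [← h, inv_smul_smul]
    rw [h1, hq₀]
    show (QuotientGroup.mk ((x : G)⁻¹ * 1) : G ⧸ H) = QuotientGroup.mk 1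
    rw [QuotientGroup.eq]
    simp only [mul_one, inv_inv]
    exact hPH x.2
  let act : MulAction P {q : G ⧸ H // q ≠ q₀} :=
    { smul := fun x q => ⟨(x : G) • q.1, hPfix x q.1 q.2⟩
      one_smul := by
        intro q
        apply Subtype.ext
        show ((1 : P) : G) • q.1 = q.1
        rw [Subgroup.coe_one, one_smul]
      mul_smul := by
        intro x y q
        apply Subtype.ext
        show ((x * y : P) : G) • q.1 = (x : G) • ((y : G) • q.1)
        rw [Subgroup.coe_mul, mul_smul] }
  have hact : ∀ (x : P) (q : {q : G ⧸ H // q ≠ q₀}), ((x • q : {q : G ⧸ H // q ≠ q₀}) : G ⧸ H) =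
      (x : G) • q.1 := fun _ _ => rfl
  have hnotH : ∀ q : {q : G ⧸ H // q ≠ q₀}, (q.1.out : G) ∉ H := by
    intro q hmem
    apply q.2
    refine Eq.trans ?_ hq₀.symm
    rw [← QuotientGroup.out_eq' q.1, QuotientGroup.eq]
    simp only [mul_one]
    exact H.inv_mem hmem
  have hfreeY : ∀ (x : P) (q : {q : G ⧸ H // q ≠ q₀}), x • q = q → x = 1 := by
    intro x q hxq
    have h1 : (x : G) • q.1 = q.1 := by
      rw [← hact, hxq]
    have h2 : (x : G) • (QuotientGroup.mk q.1.out : G ⧸ H) = QuotientGroup.mk q.1.out := by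
      rw [QuotientGroup.out_eq']
      exact h1
    have h3 : (QuotientGroup.mk ((x : G) * q.1.out) : G ⧸ H) = QuotientGroup.mk q.1.out := h2
    rw [QuotientGroup.eq] at h3
    have h4 : (q.1.out)⁻¹ * (x : G) * q.1.out ∈ H := by
      have := H.inv_mem h3
      rw [mul_inv_rev, inv_inv, ← mul_assoc] at this
      exact this
    have h5 := hfree x x.2 q.1.out (hnotH q) h4
    exact Subtype.ext h5
  let _ : Fintype (MulAction.orbitRel.Quotient P {q : G ⧸ H // q ≠ q₀}) := Fintype.ofFinite _
  -- the relations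
  have hrel : ∀ g : G, ∃ e : P → ℂ, (∀ z, B.valuation (e z) < 1) ∧
      ∑ z : P, Θ (z : G) (Θ g T) = ∑ z : P, e z • Θ (z : G) (Θ g T) := by
    intro g
    obtain ⟨c, hc0, i, hci⟩ := Fintype.not_linearIndependent_iff.mp (hdep g)
    have hc : c ≠ 0 := by
      intro h
      apply hci
      rw [h]
      rfl
    apply exists_small_coeffs B hpB hP (fun x : P => Θ (x : G) (Θ g T)) c hc
    intro y
    have h1 : ∑ x : P, c x • Θ ((y * x : P) : G) (Θ g T) =
        Θ (y : G) (∑ x : P, c x • Θ (x : G) (Θ g T)) := by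
      rw [map_sum]
      apply Finset.sum_congr rfl
      intro x _
      rw [map_smul, Subgroup.coe_mul, map_mul, Module.End.mul_apply]
    rw [h1, hc0, map_zero]
  choose e he1 he2 using hrel
  -- put everything together
  have hsplit := Fintype.sum_eq_add_sum_subtype_ne f q₀
  rw [hsumq, hfq₀] at hsplit
  have hdecomp := sum_eq_sum_orbits_of_free hfreeY (fun q : {q : G ⧸ H // q ≠ q₀} => f q.1)
  have hinner : ∀ ω : MulAction.orbitRel.Quotient P {q : G ⧸ H // q ≠ q₀},
      ∑ x : P, f ((x • ω.out : {q : G ⧸ H // q ≠ q₀}) : G ⧸ H) =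
        ∑ x : P, e (ω.out.1.out) x • Θ ((x : G) * ω.out.1.out) T := by
    intro ω
    have h1 : ∀ x : P, f ((x • ω.out : {q : G ⧸ H // q ≠ q₀}) : G ⧸ H) =
        Θ (x : G) (Θ (ω.out.1.out) T) := by
      intro x
      rw [hact, hfsmul]
    rw [Finset.sum_congr rfl (fun x _ => h1 x), he2]
    apply Finset.sum_congr rfl
    intro x _
    rw [map_mul, Module.End.mul_apply]
  rw [Finset.sum_congr rfl (fun ω _ => hinner ω)] at hdecomp
  refine ⟨(MulAction.orbitRel.Quotient P {q : G ⧸ H // q ≠ q₀}) × P, inferInstance,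
    fun j => - e (j.1.out.1.out) j.2, fun j => (j.2 : G) * j.1.out.1.out, ?_, ?_⟩
  · intro j
    rw [Valuation.map_neg]
    exact he1 _ _
  · rw [Fintype.sum_prod_type]
    have h2 : T = - ∑ q : {q : G ⧸ H // q ≠ q₀}, f q.1 := by
      rw [eq_neg_iff_add_eq_zero]
      exact hsplit.symm
    refine h2.trans ?_
    rw [hdecomp, ← Finset.sum_neg_distrib]
    apply Finset.sum_congr rfl
    intro ω _
    rw [← Finset.sum_neg_distrib]
    apply Finset.sum_congr rfl
    intro x _
    rw [neg_smul]

/-- **Lemma B.**  Some translate of `T` has a linearly independent `P`-orbit. -/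
theorem exists_linearIndependent_of_free (B : ValuationSubring ℂ) (hpB : B.valuation (p : ℂ) < 1)
    (Θ : Representation ℂ G M) (H P : Subgroup G) (hPH : P ≤ H) (hP : IsPGroup p P)
    (hfree : ∀ x ∈ P, ∀ g : G, g ∉ H → g⁻¹ * x * g ∈ H → x = 1)
    (T : M) (hT : T ≠ 0) (hH : ∀ h ∈ H, Θ h T = T) (hsum : ∑ g : G, Θ g T = 0) :
    ∃ g : G, LinearIndependent ℂ (fun x : P => Θ (x : G) (Θ g T)) := by
  classical
  by_contra hcon
  push Not at hcon
  obtain ⟨ι, _, α, b, hα, hrel⟩ :=
    exists_small_relation B hpB Θ H P hPH hP hfree T hH hsum hcon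
  obtain ⟨φ, hφ⟩ : ∃ φ : Module.Dual ℂ M, φ T ≠ 0 := by
    by_contra h
    push Not at h
    exact hT ((Module.forall_dual_apply_eq_zero_iff ℂ T).mp h)
  set v := B.valuation with hv
  let τ : G → ℂ := fun g => φ (Θ g T)
  obtain ⟨g₁, -, hg₁⟩ := Finset.exists_max_image Finset.univ (fun g : G => v (τ g))
    ⟨1, Finset.mem_univ _⟩
  have hτ1 : τ 1 = φ T := by
    show φ (Θ 1 T) = φ T
    rw [map_one, Module.End.one_apply]
  have hpos : 0 < v (τ g₁) := by
    have h1 : 0 < v (τ 1) := by
      rw [hτ1]
      exact zero_lt_iff.mpr ((Valuation.ne_zero_iff v).mpr hφ)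
    exact lt_of_lt_of_le h1 (hg₁ 1 (Finset.mem_univ _))
  have hexp : τ g₁ = ∑ j : ι, α j * τ (g₁ * b j) := by
    show φ (Θ g₁ T) = _
    conv_lhs => rw [hrel]
    rw [map_sum, map_sum]
    apply Finset.sum_congr rfl
    intro j _
    rw [map_smul, map_smul, smul_eq_mul]
    show α j * φ (Θ g₁ (Θ (b j) T)) = α j * φ (Θ (g₁ * b j) T)
    rw [map_mul, Module.End.mul_apply]
  have hlt : v (τ g₁) < v (τ g₁) := by
    conv_lhs => rw [hexp]
    apply Valuation.map_sum_lt v hpos.ne'
    intro j _
    rw [map_mul]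
    calc v (α j) * v (τ (g₁ * b j)) ≤ v (α j) * v (τ g₁) := by
          gcongr
          exact hg₁ _ (Finset.mem_univ _)
      _ < v (τ g₁) := mul_lt_of_lt_one_left hpos (hα j)
  exact lt_irrefl _ hlt

end lemmaB

section invariants

universe u

variable {G : Type u} [Group G] [Fintype G] {M : Type*} [AddCommGroup M] [Module ℂ M]
  [FiniteDimensional ℂ M] {p : ℕ} [hp : Fact p.Prime]

open Module

/-- If the non-invariant part of `M` has dimension smaller than `|P|`, every `H`-fixed vector is
`G`-fixed. -/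
theorem fixed_of_fixed_subgroup (Θ : Representation ℂ G M) (H P : Subgroup G) (hPH : P ≤ H)
    (hP : IsPGroup p P)
    (hfree : ∀ x ∈ P, ∀ g : G, g ∉ H → g⁻¹ * x * g ∈ H → x = 1)
    (hdim : finrank ℂ M < Nat.card P + finrank ℂ Θ.invariants)
    (T : M) (hH : ∀ h ∈ H, Θ h T = T) : ∀ g : G, Θ g T = T := by
  classical
  let _ : Fintype P := Fintype.ofFinite P
  obtain ⟨B, hpB⟩ := exists_valuationSubring p hp.out
  have hG0 : (Fintype.card G : ℂ) ≠ 0 := by exact_mod_cast Fintype.card_ne_zero
  -- the sum of all group elements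
  let S : M →ₗ[ℂ] M := ∑ g : G, Θ g
  have hS : ∀ m : M, S m = ∑ g : G, Θ g m := by
    intro m
    show (∑ g : G, Θ g) m = _
    rw [LinearMap.sum_apply]
  have hΘS : ∀ (h : G) (m : M), Θ h (S m) = S m := by
    intro h m
    rw [hS, map_sum]
    apply Fintype.sum_equiv (Equiv.mulLeft h)
    intro g
    rw [Equiv.coe_mulLeft, map_mul, Module.End.mul_apply]
  have hSΘ : ∀ (h : G) (m : M), S (Θ h m) = S m := by
    intro h m
    rw [hS, hS]
    apply Fintype.sum_equiv (Equiv.mulRight h)
    intro g
    rw [Equiv.coe_mulRight, map_mul, Module.End.mul_apply]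
  have hSinv : ∀ m : M, m ∈ Θ.invariants → S m = (Fintype.card G : ℂ) • m := by
    intro m hm
    rw [hS, Finset.sum_congr rfl (fun g _ => hm g), Finset.sum_const, Finset.card_univ,
      Nat.cast_smul_eq_nsmul]
  -- range of `S`
  have hrange : LinearMap.range S = Θ.invariants := by
    apply le_antisymm
    · rintro _ ⟨m, rfl⟩
      intro h
      exact hΘS h m
    · intro m hm
      refine ⟨(Fintype.card G : ℂ)⁻¹ • m, ?_⟩
      rw [map_smul, hSinv m hm, smul_smul, inv_mul_cancel₀ hG0, one_smul]
  have hker : finrank ℂ (LinearMap.ker S) < Nat.card P := by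
    have h1 := LinearMap.finrank_range_add_finrank_ker S
    rw [hrange] at h1
    omega
  -- the vector
  by_contra hcon
  set T' : M := T - (Fintype.card G : ℂ)⁻¹ • S T with hT'
  have hT'H : ∀ h ∈ H, Θ h T' = T' := by
    intro h hh
    rw [hT', map_sub, map_smul, hΘS, hH h hh]
  have hST' : S T' = 0 := by
    have h1 : S T ∈ Θ.invariants := fun h => hΘS h T
    rw [hT', map_sub, map_smul, hSinv _ h1, smul_smul, inv_mul_cancel₀ hG0, one_smul, sub_self]
  have hT'0 : T' ≠ 0 := by
    intro h0
    apply hcon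
    intro g
    have h1 : T = (Fintype.card G : ℂ)⁻¹ • S T := sub_eq_zero.mp (hT'.symm.trans h0)
    rw [h1, map_smul, hΘS]
  have hsum : ∑ g : G, Θ g T' = 0 := by
    rw [← hS]
    exact hST'
  obtain ⟨g, hg⟩ := exists_linearIndependent_of_free B hpB Θ H P hPH hP hfree T' hT'0 hT'H hsum
  -- the family lies in the kernel of `S`
  let w : P → LinearMap.ker S := fun x => ⟨Θ (x : G) (Θ g T'), by
    rw [LinearMap.mem_ker, hSΘ, hSΘ]
    exact hST'⟩
  have hw : LinearIndependent ℂ w := by
    apply LinearIndependent.of_comp (LinearMap.ker S).subtype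
    exact hg
  have h2 := hw.fintype_card_le_finrank
  rw [← Nat.card_eq_fintype_card] at h2
  omega

end invariants

section TI

variable {G : Type*} [Group G] [Finite G] {p : ℕ} [hp : Fact p.Prime]

open scoped Pointwise

/-- A TI Sylow subgroup acts freely on the cosets, other than the trivial one, of any subgroup
containing its normalizer. -/
theorem free_of_TI (P : Sylow p G)
    (hTI : ∀ g : G, g ∉ Subgroup.normalizer ((P : Subgroup G) : Set G) →
      (P : Subgroup G) ⊓ (MulAut.conj g • (P : Subgroup G)) = ⊥)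
    (H : Subgroup G) (hH : Subgroup.normalizer ((P : Subgroup G) : Set G) ≤ H) :
    ∀ x ∈ (P : Subgroup G), ∀ g : G, g ∉ H → g⁻¹ * x * g ∈ H → x = 1 := by
  intro x hx g hg hy
  have hPH : (P : Subgroup G) ≤ H := Subgroup.le_normalizer.trans hH
  -- the cyclic subgroup of `H` generated by `g⁻¹ x g` is a `p`-group
  let y : H := ⟨g⁻¹ * x * g, hy⟩
  have hyp : IsPGroup p (Subgroup.zpowers y) := by
    obtain ⟨k, hk⟩ := (IsPGroup.iff_orderOf.mp P.2) ⟨x, hx⟩
    rw [Subgroup.orderOf_mk] at hk
    apply IsPGroup.of_card (n := k)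
    rw [Nat.card_zpowers, ← hk, ← Subgroup.orderOf_coe]
    show orderOf (g⁻¹ * x * g) = orderOf x
    have : g⁻¹ * x * g = MulAut.conj g⁻¹ x := by
      rw [MulAut.conj_apply, inv_inv]
    rw [this, MulEquiv.orderOf_eq]
  obtain ⟨Q, hQ⟩ := hyp.exists_le_sylow
  obtain ⟨h, hh⟩ := MulAction.exists_smul_eq H (P.subtype hPH) Q
  have hyQ : y ∈ (Q : Subgroup H) := hQ (Subgroup.mem_zpowers y)
  rw [← hh, Sylow.smul_def, Sylow.pointwise_smul_def,
    Subgroup.mem_pointwise_smul_iff_inv_smul_mem, MulAut.smul_def, Sylow.coe_subtype,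
    Subgroup.mem_subgroupOf] at hyQ
  have h1 : (g * h)⁻¹ * x * (g * h) ∈ (P : Subgroup G) := by
    have : (((MulAut.conj h)⁻¹ y : H) : G) = (g * h)⁻¹ * x * (g * h) := by
      rw [← map_inv, MulAut.conj_apply, inv_inv]
      show (h : G)⁻¹ * (g⁻¹ * x * g) * h = _
      group
    rw [← this]
    exact hyQ
  by_cases hgh : g * h ∈ Subgroup.normalizer ((P : Subgroup G) : Set G)
  · exfalso
    apply hg
    have h2 : g * h ∈ H := hH hgh
    have h3 := H.mul_mem h2 (H.inv_mem h.2)
    rwa [mul_inv_cancel_right] at h3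
  · have h2 := hTI (g * h) hgh
    have h3 : x ∈ (P : Subgroup G) ⊓ (MulAut.conj (g * h) • (P : Subgroup G)) := by
      refine Subgroup.mem_inf.mpr ⟨hx, ?_⟩
      rw [Subgroup.mem_pointwise_smul_iff_inv_smul_mem, MulAut.smul_def, ← map_inv,
        MulAut.conj_apply, inv_inv]
      exact h1
    rw [h2] at h3
    exact Subgroup.mem_bot.mp h3

end TI

section norm

open Module Cfsg Cfsg.Agent.CharLib

open scoped Pointwise

universe u

/-- The norm of a character is the dimension of the commutant of its representation. -/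
theorem classInner_self_eq_finrank {G : Type*} [Group G] [Fintype G] {V : Type*} [AddCommGroup V]
    [Module ℂ V] [FiniteDimensional ℂ V] (ρ : Representation ℂ G V) :
    classInner ρ.character ρ.character
      = (finrank ℂ (Representation.linHom ρ ρ).invariants : ℂ) := by
  have : Invertible (Nat.card G : ℂ) := invertibleOfNonzero card_ne_zero_complex
  rw [← Representation.card_inv_mul_sum_char_eq_finrank]
  unfold classInner
  congr 1
  apply Finset.sum_congr rfl
  intro g _
  rw [Representation.char_linHom, char_inv, mul_comm]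

/-- For a TI Sylow `p`-subgroup `P`, a representation of degree `n` with `n ^ 2 ≤ |P|` and a
subgroup `H ≥ N_G(P)`: the norm of the character is unchanged by restriction to `H`. -/
theorem classInner_restrict_eq_of_TI {G : Type u} [Group G] [Fintype G] (p : ℕ) [Fact p.Prime]
    (P : Sylow p G)
    (hTI : ∀ g : G, g ∉ Subgroup.normalizer ((P : Subgroup G) : Set G) →
      (P : Subgroup G) ⊓ (MulAut.conj g • (P : Subgroup G)) = ⊥)
    {V : Type*} [AddCommGroup V] [Module ℂ V] [FiniteDimensional ℂ V]
    (ρ : Representation ℂ G V) (hdeg : finrank ℂ V ^ 2 ≤ Nat.card (P : Subgroup G))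
    (H : Subgroup G) [Fintype H] (hH : Subgroup.normalizer ((P : Subgroup G) : Set G) ≤ H) :
    classInner ρ.character ρ.character
      = classInner (fun h : H => ρ.character h) (fun h : H => ρ.character h) := by
  let ρH : Representation ℂ H V := ρ.comp H.subtype
  have hchar : (fun h : H => ρ.character h) = ρH.character := rfl
  rw [hchar, classInner_self_eq_finrank, classInner_self_eq_finrank]
  have hΘ : ∀ (h : H) (T : V →ₗ[ℂ] V),
      Representation.linHom ρH ρH h T = Representation.linHom ρ ρ (h : G) T := by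
    intro h T
    rw [Representation.linHom_apply, Representation.linHom_apply]
    rfl
  have hPH : (P : Subgroup G) ≤ H := Subgroup.le_normalizer.trans hH
  have heq : (Representation.linHom ρ ρ).invariants = (Representation.linHom ρH ρH).invariants := by
    apply le_antisymm
    · intro T hT h
      rw [hΘ]
      exact hT h
    · intro T hT
      have hT' : ∀ h ∈ H, Representation.linHom ρ ρ h T = T := by
        intro h hh
        have := hT ⟨h, hh⟩
        rwa [hΘ] at this
      have hdim : finrank ℂ (V →ₗ[ℂ] V)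
          < Nat.card (P : Subgroup G) + finrank ℂ (Representation.linHom ρ ρ).invariants := by
        rw [Module.finrank_linearMap]
        rcases Nat.eq_zero_or_pos (finrank ℂ V) with h0 | h0
        · rw [h0]
          have : 0 < Nat.card (P : Subgroup G) := Nat.card_pos
          omega
        · have hV : Nontrivial V := Module.finrank_pos_iff.mp h0
          have h1 : 0 < finrank ℂ (Representation.linHom ρ ρ).invariants := by
            rw [Module.finrank_pos_iff_exists_ne_zero]
            refine ⟨⟨LinearMap.id, ?_⟩, ?_⟩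
            · intro g
              rw [Representation.linHom_apply]
              ext v
              simp
            · intro h
              have h2 : (LinearMap.id : V →ₗ[ℂ] V) = 0 := congrArg Subtype.val h
              obtain ⟨v, hv⟩ := exists_ne (0 : V)
              apply hv
              have h3 := LinearMap.congr_fun h2 v
              simpa using h3
          have h2 : finrank ℂ V * finrank ℂ V = finrank ℂ V ^ 2 := by ring
          omega
      exact fixed_of_fixed_subgroup (p := p) (Representation.linHom ρ ρ) H (P : Subgroup G) hPH P.2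
        (free_of_TI P hTI H hH) hdim T hT'
  rw [heq]

end norm

end Cfsg.Agent.Lib.Helper2.TINorm
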