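/-
helper2: the Brauer-Leonard theorem (Sylow subgroups whose non-identity elements all have the
centralizer of the whole Sylow subgroup; irreducible characters of small degree).
-/
import Mathlib
import Cfsg.Agent.Lib.Helper2.BLMain
import Cfsg.Agent.Lib.Helper2.BLBridge
import Cfsg.Agent.Lib.Helper25.Gagola
import Cfsg.Agent.Lib.Lead.BlockBasic
import Cfsg.Agent.S4750
import Cfsg.Agent.Lib.Lead.Taketa

set_option autoImplicit false
set_option linter.unusedSectionVars false
open scoped ComplexConjugate Pointwise commutatorElement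

namespace Cfsg.Agent.Lib.Helper2.BLFinal

open Cfsg Cfsg.Agent.CharLib Cfsg.Agent.Lib.Helper6
open Cfsg.Agent.Lib.Helper2.BLAux Cfsg.Agent.Lib.Helper2.BLLocal Cfsg.Agent.Lib.Helper2.BLCoh
open Cfsg.Agent.Lib.Helper2.BLMain Cfsg.Agent.Lib.Helper2.BLBridge

universe u

/-- an irreducible character whose kernel is everything is the principal character -/
theorem eq_one_of_forall_eq {G : Type u} [Group G] [Fintype G] {ψ : G → ℂ}
    (hψ : IsIrrCharacter G ψ) (h : ∀ g : G, ψ g = ψ 1) : ψ = 1 := by
  obtain ⟨d, hd, hd1⟩ := IsIrrCharacter.apply_one_pos hψ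
  have h2 : classInner ψ ψ = (d : ℂ) * d := by
    unfold classInner
    simp only [h, hd1, Complex.conj_natCast, Finset.sum_const, Finset.card_univ, nsmul_eq_mul]
    rw [← Nat.card_eq_fintype_card]
    have hG0 : (Nat.card G : ℂ) ≠ 0 := Nat.cast_ne_zero.mpr Nat.card_pos.ne'
    field_simp
  rw [classInner_irr hψ hψ, if_pos rfl] at h2
  have h3 : d * d = 1 := by exact_mod_cast h2.symm
  have h4 : d = 1 := Nat.eq_one_of_mul_eq_one_left h3
  funext g
  rw [h g, hd1, h4]
  simp

theorem brauer_leonard {G : Type u} [Group G] [Fintype G] {p : ℕ} [Fact p.Prime]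
    (hpG : p ∣ Nat.card G) (P : Sylow p G)
    (hstar : ∀ x ∈ (P : Subgroup G), x ≠ 1 →
      Subgroup.centralizer ({x} : Set G) = Subgroup.centralizer ((P : Subgroup G) : Set G))
    (hK : ¬ ∃ K : Subgroup G, K.Normal ∧ K ≠ ⊤ ∧ (P : Subgroup G) ≤ K)
    {χ : G → ℂ} (hχ : IsIrrCharacter G χ) (h1 : χ ≠ 1) {x : ℕ} (hx : χ 1 = x)
    (hdeg : x ^ 2 + 1 < Nat.card (P : Subgroup G)) :
    x = 1 ∧ Subgroup.normalizer ((P : Subgroup G) : Set G) ≤
      Subgroup.centralizer ((P : Subgroup G) : Set G) := by
  classical
  have hne : ∃ u ∈ (P : Subgroup G), u ≠ 1 :=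
    (Subgroup.ne_bot_iff_exists_ne_one).mp (P.ne_bot_of_dvd_card hpG) |>.elim
      (fun u hu => ⟨u, u.2, fun h => hu (Subtype.ext h)⟩)
  have hNeq := BLGroup.normalizer_setA P hstar hne
  have := normal_C P hstar hne
  have := normal_P P hstar hne
  obtain ⟨a, hD, hA⟩ := localData P hstar
  have S : Setup (BLGroup.setA P)
      ((Subgroup.centralizer ((P : Subgroup G) : Set G)).subgroupOf
        (Subgroup.normalizer (BLGroup.setA P)))
      ((P : Subgroup G).subgroupOf (Subgroup.normalizer (BLGroup.setA P))) a :=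
    ⟨BLGroup.setA_TI P hstar hne, BLGroup.one_not_mem_setA P, hD, hA⟩
  have hPN : (P : Subgroup G) ≤ Subgroup.normalizer (BLGroup.setA P) := by
    rw [hNeq]
    exact Subgroup.le_normalizer
  have hcardP : Nat.card ((P : Subgroup G).subgroupOf (Subgroup.normalizer (BLGroup.setA P))) =
      Nat.card (P : Subgroup G) :=
    Nat.card_congr (Subgroup.subgroupOfEquivOfLe hPN).toEquiv
  have hχc := IsIrrCharacter.isCharacter hχ
  -- the restriction to the normalizer is irreducible
  have hres : IsIrrCharacter (Subgroup.normalizer (BLGroup.setA P))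
      (fun y : Subgroup.normalizer (BLGroup.setA P) => χ y) := by
    apply isIrrCharacter_of_classInner_self_eq_one (isCharacter_res hχc)
    have h2 := Cfsg.Agent.S4750.result p P (BLGroup.ti P hstar) χ hχc
      (by
        rw [charDegree_eq_of_apply_one hx]
        omega)
      (Subgroup.normalizer (BLGroup.setA P)) (le_of_eq hNeq.symm)
    rw [← h2, classInner_irr hχ hχ, if_pos rfl]
  -- non-principal characters are non-trivial on P
  have hH : ∀ ψ : G → ℂ, IsIrrCharacter G ψ → ψ ≠ 1 →
      PNontriv ((P : Subgroup G).subgroupOf (Subgroup.normalizer (BLGroup.setA P)))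
        (fun y : Subgroup.normalizer (BLGroup.setA P) => ψ y) := by
    intro ψ hψ hψ1
    by_contra hcon
    apply hK
    refine ⟨Cfsg.Agent.Lib.Helper25.irrKer ⟨ψ, hψ⟩, inferInstance, ?_, ?_⟩
    · intro htop
      apply hψ1
      apply eq_one_of_forall_eq hψ
      intro g
      have : g ∈ Cfsg.Agent.Lib.Helper25.irrKer ⟨ψ, hψ⟩ := by
        rw [htop]
        exact Subgroup.mem_top g
      exact (Cfsg.Agent.Lib.Helper25.mem_irrKer ⟨ψ, hψ⟩ g).mp this
    · intro u hu
      rw [Cfsg.Agent.Lib.Helper25.mem_irrKer]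
      by_contra hne2
      apply hcon
      refine ⟨⟨u, hPN hu⟩, ?_, ?_⟩
      · rw [Subgroup.mem_subgroupOf]
        exact hu
      · simpa using hne2
  have hnt := hH χ hχ h1
  obtain ⟨hx1, hidx⟩ := main_abstract S hχ hres hnt hx (by rw [hcardP]; exact hdeg) hH
  refine ⟨hx1, ?_⟩
  rw [Subgroup.index_eq_one] at hidx
  intro g hg
  have hg' : g ∈ Subgroup.normalizer (BLGroup.setA P) := by
    rw [hNeq]
    exact hg
  have : (⟨g, hg'⟩ : Subgroup.normalizer (BLGroup.setA P)) ∈
      (Subgroup.centralizer ((P : Subgroup G) : Set G)).subgroupOf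
        (Subgroup.normalizer (BLGroup.setA P)) := by
    rw [hidx]
    exact Subgroup.mem_top _
  rw [Subgroup.mem_subgroupOf] at this
  exact this


/-- the hypothesis (*) passes to subgroups containing `P` -/
theorem star_subtype {G : Type u} [Group G] {p : ℕ} (P : Sylow p G)
    (hstar : ∀ x ∈ (P : Subgroup G), x ≠ 1 →
      Subgroup.centralizer ({x} : Set G) = Subgroup.centralizer ((P : Subgroup G) : Set G))
    (K : Subgroup G) (hPK : (P : Subgroup G) ≤ K) :
    ∀ x ∈ ((P.subtype hPK : Sylow p K) : Subgroup K), x ≠ 1 →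
      Subgroup.centralizer ({x} : Set K) =
        Subgroup.centralizer (((P.subtype hPK : Sylow p K) : Subgroup K) : Set K) := by
  intro x hx hx1
  rw [Sylow.coe_subtype, Subgroup.mem_subgroupOf] at hx
  have hx1' : (x : G) ≠ 1 := fun h => hx1 (Subtype.ext h)
  have h := hstar x hx hx1'
  ext k
  rw [Subgroup.mem_centralizer_iff, Subgroup.mem_centralizer_iff]
  have hk : (k : G) ∈ Subgroup.centralizer ({(x : G)} : Set G) ↔
      (k : G) ∈ Subgroup.centralizer ((P : Subgroup G) : Set G) := by rw [h]
  rw [Subgroup.mem_centralizer_iff, Subgroup.mem_centralizer_iff] at hk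
  constructor
  · intro h1 u hu
    rw [SetLike.mem_coe, Sylow.coe_subtype, Subgroup.mem_subgroupOf] at hu
    have h2 : ∀ h ∈ ({(x : G)} : Set G), h * (k : G) = (k : G) * h := by
      intro h hh
      rw [Set.mem_singleton_iff] at hh
      rw [hh]
      have := h1 x (Set.mem_singleton x)
      exact congrArg Subtype.val this
    exact Subtype.ext (hk.mp h2 u hu)
  · intro h1 y hy
    rw [Set.mem_singleton_iff] at hy
    rw [hy]
    have h2 : ∀ h ∈ ((P : Subgroup G) : Set G), h * (k : G) = (k : G) * h := by
      intro h hh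
      have := h1 ⟨h, hPK hh⟩ (by
        rw [SetLike.mem_coe, Sylow.coe_subtype, Subgroup.mem_subgroupOf]
        exact hh)
      exact congrArg Subtype.val this
    exact Subtype.ext (hk.mpr h2 x (Set.mem_singleton _))

/-- Brauer-Leonard: a faithful character of small degree forces a normal Sylow subgroup -/
theorem normal_of_faithful : ∀ (m : ℕ) (G : Type u) [Group G] [Fintype G] (p : ℕ) [Fact p.Prime]
    (P : Sylow p G)
    (_ : ∀ x ∈ (P : Subgroup G), x ≠ 1 →
      Subgroup.centralizer ({x} : Set G) = Subgroup.centralizer ((P : Subgroup G) : Set G))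
    (χ : G → ℂ) (_ : IsCharacter G χ) (_ : ∀ g : G, χ g = χ 1 → g = 1) (x : ℕ) (_ : χ 1 = x)
    (_ : x ^ 2 + 1 < Nat.card (P : Subgroup G)), Nat.card G = m → (P : Subgroup G).Normal := by
  intro m
  induction m using Nat.strong_induction_on with
  | _ m ih =>
  intro G _ _ p _ P hstar χ hχ hfaith x hx hdeg hm
  classical
  by_cases hK : ∃ K : Subgroup G, K.Normal ∧ K ≠ ⊤ ∧ (P : Subgroup G) ≤ K
  · obtain ⟨K, hKn, hKtop, hPK⟩ := hK
    have hlt : Nat.card K < m := by
      rw [← hm]
      have h1 : Nat.card K ∣ Nat.card G := Subgroup.card_subgroup_dvd_card K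
      have h2 : Nat.card K ≠ Nat.card G := by
        intro h
        exact hKtop ((Subgroup.card_eq_iff_eq_top K).mp h)
      exact lt_of_le_of_ne (Nat.le_of_dvd Nat.card_pos h1) h2
    have hcard : Nat.card ((P.subtype hPK : Sylow p K) : Subgroup K) = Nat.card (P : Subgroup G) := by
      rw [Sylow.coe_subtype]
      exact Nat.card_congr (Subgroup.subgroupOfEquivOfLe hPK).toEquiv
    have hnorm := ih (Nat.card K) hlt K p (P.subtype hPK) (star_subtype P hstar K hPK)
      (χ ∘ K.subtype) (IsCharacter.comp_hom hχ K.subtype)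
      (by
        intro g hg
        apply Subtype.ext
        exact hfaith g (by simpa using hg))
      x (by simpa using hx) (by rw [hcard]; exact hdeg) rfl
    have hchar := Sylow.characteristic_of_normal (P.subtype hPK) hnorm
    have h3 := ConjAct.normal_of_characteristic_of_normal (H := K)
      (K := ((P.subtype hPK : Sylow p K) : Subgroup K))
    rw [Sylow.coe_subtype, Subgroup.subgroupOf_map_subtype, inf_eq_left.mpr hPK] at h3
    exact h3
  · -- G is abelian
    have hcomm : ∀ g ∈ commutator G, g = 1 := by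
      intro g hg
      apply hfaith
      let _ := fintypeIrr G
      obtain ⟨b, hb, hcoef⟩ := IsCharacter.exists_decomp_sum hχ
      have hlin : ∀ ψ : IrrCharacter G, b ψ ≠ 0 → (ψ : G → ℂ) 1 = 1 := by
        intro ψ hbψ
        obtain ⟨d, hd, hd1⟩ := IsIrrCharacter.apply_one_pos ψ.2
        by_cases hψ1 : (ψ : G → ℂ) = 1
        · rw [hψ1]
          rfl
        · have hne : classInner χ (ψ : G → ℂ) ≠ 0 := by
            rw [hcoef ψ]
            exact_mod_cast hbψ
          have hsub := IsCharacter.sub_constituent hχ ψ.2 hne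
          obtain ⟨k, hk⟩ := IsCharacter.apply_one hsub
          rw [Pi.sub_apply, hx, hd1] at hk
          have hxd : x = d + k := by
            have : (x : ℂ) = ((d + k : ℕ) : ℂ) := by
              push_cast
              linear_combination hk
            exact_mod_cast this
          have hdx : d ^ 2 + 1 < Nat.card (P : Subgroup G) := by
            have : d ^ 2 ≤ x ^ 2 := Nat.pow_le_pow_left (by omega) 2
            omega
          have hpG : p ∣ Nat.card G := by
            have h1 : 1 < Nat.card (P : Subgroup G) := by omega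
            obtain ⟨n, hn⟩ := IsPGroup.iff_card.mp P.2
            have hn0 : n ≠ 0 := by
              intro h0
              rw [hn, h0, pow_zero] at h1
              omega
            have : p ∣ Nat.card (P : Subgroup G) := by
              rw [hn]
              exact dvd_pow_self p hn0
            exact this.trans (Subgroup.card_subgroup_dvd_card _)
          obtain ⟨hd_one, -⟩ := brauer_leonard hpG P hstar hK ψ.2 hψ1 hd1 hdx
          rw [hd1, hd_one, Nat.cast_one]
      rw [hb, Finset.sum_apply, Finset.sum_apply]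
      apply Finset.sum_congr rfl
      intro ψ _
      rw [Pi.smul_apply, Pi.smul_apply]
      by_cases hbψ : b ψ = 0
      · rw [hbψ, zero_smul, zero_smul]
      · rw [apply_eq_one_of_mem_commutator (IsIrrCharacter.isCharacter ψ.2) (hlin ψ hbψ) g hg,
          hlin ψ hbψ]
    constructor
    intro n hn g
    have : g * n * g⁻¹ = n := by
      have h1 : ⁅g, n⁆ ∈ commutator G := Subgroup.commutator_mem_commutator
        (Subgroup.mem_top g) (Subgroup.mem_top n)
      have h2 := hcomm _ h1
      rw [commutatorElement_def] at h2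
      calc g * n * g⁻¹ = (g * n * g⁻¹ * n⁻¹) * n := by group
        _ = n := by rw [h2, one_mul]
    rw [this]
    exact hn

end Cfsg.Agent.Lib.Helper2.BLFinal
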