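import Mathlib
import Cfsg.Prelude.Def_Balance
import Cfsg.Agent.Lib.Helper9.PComponent4
import Cfsg.Agent.Lib.Helper9.PComponentEquiv
import Cfsg.Agent.Lib.Helper9.Components
import Cfsg.Agent.Lib.Helper12.PComponentMap
import Cfsg.Agent.Lib.Helper12.Cores
import Cfsg.Agent.Lib.Helper20.LBal2C
import Cfsg.Agent.Lib.Helper4.QuotPPrime

/-!
Helper2 `BProp`, file A (towards S1775): general lemmas.
* `isComponent_of_hasBProperty`: in a group with the B-property and trivial odd core, the
  2-components of involution centralizers are components;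
* `centralizer_ne_top_of_fstar_simple`: if `F*(G)` is nonabelian simple then `Z(G) = 1`;
* `orderOf_map_eq_two`: involutions survive modulo odd-order kernels;
* `exists_mem_centralizer_of_mk'`: coprime action, `C_{Y/N}(t) = C_Y(t)N/N`;
* `commutator_eq_bot_of_component_normalizes`: a component centralizes every subgroup it
  normalizes and does not lie in.
-/

set_option autoImplicit false

open scoped commutatorElement

namespace Cfsg.Agent.Lib.Helper2.BProp

open Subgroup Cfsg.Agent.Lib.Helper9 Cfsg.Agent.Lib.Helper12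

universe u

/-- In a group `Q` with the B-property and `O(Q) = 1`, every 2-component of the centralizer of an
involution is a component of that centralizer. -/
theorem isComponent_of_hasBProperty {Q : Type u} [Group Q] [Finite Q]
    (hB : Cfsg.HasBProperty Q) (hO : Cfsg.oddCore Q = ⊥) (t : Q) (ht : orderOf t = 2)
    {K : Subgroup ↥(Subgroup.centralizer ({t} : Set Q))} (hK : Cfsg.IsPComponent 2 K) :
    Cfsg.IsComponent K := by
  have : Fact (Nat.Prime 2) := ⟨Nat.prime_two⟩
  have h1 : ⁅Cfsg.pLayer 2 ↥(Subgroup.centralizer ({t} : Set Q)),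
      Cfsg.oddCore ↥(Subgroup.centralizer ({t} : Set Q))⁆ = ⊥ := by
    have h := hB t ht
    rw [hO, le_bot_iff] at h
    exact (Subgroup.map_eq_bot_iff_of_injective _ (Subgroup.subtype_injective _)).mp h
  refine ⟨hK.1, (IsPComponent_isQuasisimple_iff hK).mpr ?_⟩
  rw [eq_bot_iff, ← h1]
  apply Subgroup.commutator_mono
  · exact le_sSup hK
  · rw [pPrimeCoreIn_eq_inf_of_subnormal 2 hK.1]
    exact inf_le_right

/-- If `F*(G)` is a nonabelian simple group, no nontrivial element is central. -/
theorem centralizer_ne_top_of_fstar_simple {G : Type*} [Group G] [Finite G]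
    (hF : IsSimpleGroup ↥(Cfsg.generalizedFittingSubgroup G))
    (hF' : ¬ IsMulCommutative ↥(Cfsg.generalizedFittingSubgroup G))
    (y : G) (hy : y ≠ 1) : Subgroup.centralizer ({y} : Set G) ≠ ⊤ := by
  intro htop
  have hyZ : y ∈ Subgroup.center G := by
    rw [Subgroup.mem_center_iff]
    intro g
    have hg : g ∈ Subgroup.centralizer ({y} : Set G) := by rw [htop]; exact Subgroup.mem_top g
    exact (Subgroup.mem_centralizer_singleton_iff.mp hg)
  have hZF : Subgroup.center G ≤ Cfsg.generalizedFittingSubgroup G := by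
    refine le_trans ?_ (le_sup_right : Cfsg.fittingSubgroup G ≤ _)
    apply le_sSup
    have hnil : Group.IsNilpotent ↥(Subgroup.center G) := by
      have hc : IsMulCommutative ↥(Subgroup.center G) := inferInstance
      let _i : CommGroup ↥(Subgroup.center G) :=
        { (inferInstance : Group ↥(Subgroup.center G)) with
          mul_comm := fun a b => hc.1.1 a b }
      exact CommGroup.isNilpotent
    exact ⟨inferInstance, hnil⟩
  have hN : ((Subgroup.center G).subgroupOf (Cfsg.generalizedFittingSubgroup G)).Normal :=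
    inferInstance
  rcases hN.eq_bot_or_eq_top with h | h
  · have : (⟨y, hZF hyZ⟩ : ↥(Cfsg.generalizedFittingSubgroup G)) ∈
        (Subgroup.center G).subgroupOf (Cfsg.generalizedFittingSubgroup G) :=
      Subgroup.mem_subgroupOf.mpr hyZ
    rw [h, Subgroup.mem_bot] at this
    exact hy (congrArg Subtype.val this)
  · apply hF'
    refine ⟨⟨fun a b => ?_⟩⟩
    have ha : a ∈ (Subgroup.center G).subgroupOf (Cfsg.generalizedFittingSubgroup G) := by
      rw [h]; exact Subgroup.mem_top a
    have ha' : (a : G) ∈ Subgroup.center G := Subgroup.mem_subgroupOf.mp ha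
    apply Subtype.ext
    exact ((Subgroup.mem_center_iff.mp ha') (b : G)).symm

/-- An involution stays an involution modulo a kernel of odd order. -/
theorem orderOf_map_eq_two {Y Q : Type*} [Group Y] [Finite Y] [Group Q] (f : Y →* Q)
    (hk : (Nat.card ↥f.ker).Coprime 2) {x : Y} (hx : orderOf x = 2) : orderOf (f x) = 2 := by
  have : Fact (Nat.Prime 2) := ⟨Nat.prime_two⟩
  apply orderOf_eq_prime
  · rw [← map_pow, ← hx, pow_orderOf_eq_one, map_one]
  · intro h
    have hxk : x ∈ f.ker := MonoidHom.mem_ker.mpr h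
    have h1 : orderOf (⟨x, hxk⟩ : ↥f.ker) ∣ Nat.card ↥f.ker := orderOf_dvd_natCard _
    rw [Subgroup.orderOf_mk, hx] at h1
    have h2 : (2 : ℕ) ∣ Nat.gcd (Nat.card ↥f.ker) 2 := Nat.dvd_gcd h1 dvd_rfl
    rw [hk] at h2
    omega

/-- Coprime action: modulo a normal subgroup `N` of odd order, every element centralizing the
image of the involution `t` is the image of an element centralizing `t`. -/
theorem exists_mem_centralizer_of_mk' {Y : Type u} [Group Y] [Finite Y] (N : Subgroup Y)
    [N.Normal] (hN : (Nat.card N).Coprime 2) {t : Y} (ht : orderOf t = 2) (c : Y ⧸ N)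
    (hc : c ∈ Subgroup.centralizer ({QuotientGroup.mk' N t} : Set (Y ⧸ N))) :
    ∃ g ∈ Subgroup.centralizer ({t} : Set Y), QuotientGroup.mk' N g = c := by
  have : Fact (Nat.Prime 2) := ⟨Nat.prime_two⟩
  have hS : IsPGroup 2 ↥(Subgroup.zpowers t) := by
    apply IsPGroup.of_card (n := 1)
    rw [Nat.card_zpowers, ht, pow_one]
  have h := Cfsg.Agent.Lib.Helper4.centralizer_map_mk'_eq_of_coprime N hN (Subgroup.zpowers t) hS
  have hc' : c ∈ Subgroup.centralizer
      (((Subgroup.zpowers t).map (QuotientGroup.mk' N) : Subgroup (Y ⧸ N)) : Set (Y ⧸ N)) := by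
    rw [Subgroup.mem_centralizer_iff]
    rintro _ ⟨s, hs, rfl⟩
    obtain ⟨k, rfl⟩ := Subgroup.mem_zpowers_iff.mp hs
    have h0 : QuotientGroup.mk' N t * c = c * QuotientGroup.mk' N t :=
      (Subgroup.mem_centralizer_iff.mp hc) _ (Set.mem_singleton _)
    rw [map_zpow]
    exact ((Commute.zpow_left (show Commute (QuotientGroup.mk' N t) c from h0) k)).eq
  rw [h] at hc'
  obtain ⟨g, hg, rfl⟩ := hc'
  refine ⟨g, ?_, rfl⟩
  exact Subgroup.centralizer_le (Set.singleton_subset_iff.mpr (Subgroup.mem_zpowers t)) hg

/-- A component `K` centralizes every subgroup `U` which it normalizes and which does not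
contain it. -/
theorem commutator_eq_bot_of_component_normalizes {X : Type u} [Group X]
    {K U : Subgroup X} (hK : Cfsg.IsComponent K)
    (hKU : K ≤ Subgroup.normalizer (U : Set X)) (hnot : ¬ K ≤ U) : ⁅K, U⁆ = ⊥ := by
  set M : Subgroup X := K ⊔ U with hM
  have hKM : K ≤ M := le_sup_left
  have hUM : U ≤ M := le_sup_right
  have hK' : Cfsg.IsComponent (K.subgroupOf M) := by
    refine ⟨hK.1.subgroupOf, ?_⟩
    exact isQuasisimple_of_equiv (Subgroup.subgroupOfEquivOfLe hKM).symm hK.2
  have hMn : M ≤ Subgroup.normalizer (U : Set X) :=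
    sup_le hKU Subgroup.le_normalizer
  have hU' : (U.subgroupOf M).Normal := by
    constructor
    intro n hn g
    rw [Subgroup.mem_subgroupOf] at hn ⊢
    have := (Subgroup.mem_normalizer_iff.mp (hMn g.2)) (n : X)
    exact this.mp hn
  rcases component_le_or_commutator_eq_bot (K.subgroupOf M) (U.subgroupOf M) hK'
    hU'.isSubnormal with h | h
  · exfalso
    apply hnot
    intro k hk
    have : (⟨k, hKM hk⟩ : ↥M) ∈ U.subgroupOf M := h (Subgroup.mem_subgroupOf.mpr hk)
    exact Subgroup.mem_subgroupOf.mp this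
  · have h2 := congrArg (Subgroup.map M.subtype) h
    rw [Subgroup.map_commutator, Subgroup.subgroupOf_map_subtype, Subgroup.subgroupOf_map_subtype,
      inf_of_le_left hKM, inf_of_le_left hUM, Subgroup.map_bot] at h2
    exact h2

end Cfsg.Agent.Lib.Helper2.BProp
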