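import Cfsg.Agent.Lib.Helper2.BPropA

/-!
Helper2 `BProp`, file B (towards S1775): the map `C_G(x) ∩ C_G(y) → C_Q(x̄)`,
`Q = C_G(y)/O(C_G(y))`, for commuting involutions `x, y`.
-/

set_option autoImplicit false

open scoped commutatorElement

namespace Cfsg.Agent.Lib.Helper2.BProp

open Subgroup Cfsg.Agent.Lib.Helper9 Cfsg.Agent.Lib.Helper12

universe u

variable {G : Type u} [Group G]

/-- `L ∩ B` is normal in `A ∩ B` for `L` normal in `A`. -/
theorem map_inf_subgroupOf_normal (A B : Subgroup G) (L : Subgroup ↥A) [hL : L.Normal] :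
    ((L.map A.subtype ⊓ B).subgroupOf (A ⊓ B)).Normal := by
  constructor
  intro n hn g
  rw [Subgroup.mem_subgroupOf] at hn ⊢
  obtain ⟨hn1, hn2⟩ := Subgroup.mem_inf.mp hn
  obtain ⟨hgA, hgB⟩ := Subgroup.mem_inf.mp g.2
  refine Subgroup.mem_inf.mpr ⟨?_, ?_⟩
  · obtain ⟨l, hl, hln⟩ := hn1
    refine ⟨⟨(g : G), hgA⟩ * l * ⟨(g : G), hgA⟩⁻¹, hL.conj_mem l hl _, ?_⟩
    simp only [Subgroup.coe_subtype, Subgroup.coe_mul, Subgroup.coe_inv] at hln ⊢
    rw [hln]
  · simp only [Subgroup.coe_mul, Subgroup.coe_inv]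
    exact B.mul_mem (B.mul_mem hgB hn2) (B.inv_mem hgB)

/-- The natural map `C_G(x) ∩ C_G(y) → C_Q(x̄)`, where `Q = C_G(y)/O(C_G(y))`. -/
noncomputable def cbarHom (x y : G) (hxy : x * y = y * x) :
    ↥(Subgroup.centralizer ({x} : Set G) ⊓ Subgroup.centralizer ({y} : Set G)) →*
      ↥(Subgroup.centralizer ({QuotientGroup.mk' (Cfsg.oddCore ↥(Subgroup.centralizer ({y} : Set G)))
          ⟨x, Subgroup.mem_centralizer_singleton_iff.mpr hxy⟩} :
        Set (↥(Subgroup.centralizer ({y} : Set G)) ⧸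
          Cfsg.oddCore ↥(Subgroup.centralizer ({y} : Set G))))) :=
  MonoidHom.codRestrict
    ((QuotientGroup.mk' (Cfsg.oddCore ↥(Subgroup.centralizer ({y} : Set G)))).comp
      (Subgroup.inclusion inf_le_right)) _ (fun h => by
        rw [Subgroup.mem_centralizer_singleton_iff]
        have hx : (h : G) * x = x * (h : G) :=
          Subgroup.mem_centralizer_singleton_iff.mp (Subgroup.mem_inf.mp h.2).1
        simp only [MonoidHom.comp_apply]
        rw [← map_mul, ← map_mul]
        congr 1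
        apply Subtype.ext
        exact hx)

theorem cbarHom_coe (x y : G) (hxy : x * y = y * x)
    (h : ↥(Subgroup.centralizer ({x} : Set G) ⊓ Subgroup.centralizer ({y} : Set G))) :
    ((cbarHom x y hxy h : _) :
      ↥(Subgroup.centralizer ({y} : Set G)) ⧸ Cfsg.oddCore ↥(Subgroup.centralizer ({y} : Set G))) =
      QuotientGroup.mk' (Cfsg.oddCore ↥(Subgroup.centralizer ({y} : Set G)))
        ⟨(h : G), (Subgroup.mem_inf.mp h.2).2⟩ := rfl

theorem cbarHom_surjective [Finite G] (x y : G) (hx : orderOf x = 2) (hxy : x * y = y * x) :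
    Function.Surjective (cbarHom x y hxy) := by
  rintro ⟨c, hc⟩
  have ht : orderOf (⟨x, Subgroup.mem_centralizer_singleton_iff.mpr hxy⟩ :
      ↥(Subgroup.centralizer ({y} : Set G))) = 2 := by
    rw [Subgroup.orderOf_mk]; exact hx
  obtain ⟨g, hg, hgc⟩ := exists_mem_centralizer_of_mk'
    (Cfsg.oddCore ↥(Subgroup.centralizer ({y} : Set G))) (pPrimeCore_coprime 2) ht c hc
  have hgx : (g : G) ∈ Subgroup.centralizer ({x} : Set G) := by
    rw [Subgroup.mem_centralizer_singleton_iff]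
    have := Subgroup.mem_centralizer_singleton_iff.mp hg
    exact congrArg Subtype.val this
  refine ⟨⟨(g : G), Subgroup.mem_inf.mpr ⟨hgx, g.2⟩⟩, ?_⟩
  apply Subtype.ext
  rw [cbarHom_coe]
  exact hgc

theorem cbarHom_ker_coprime [Finite G] (x y : G) (hxy : x * y = y * x) :
    (Nat.card ↥(cbarHom x y hxy).ker).Coprime 2 := by
  have hc := pPrimeCore_coprime (X := ↥(Subgroup.centralizer ({y} : Set G))) 2
  -- the kernel embeds in `O(C_G(y))`
  have hmem : ∀ k : ↥(cbarHom x y hxy).ker,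
      (⟨((k : ↥(Subgroup.centralizer ({x} : Set G) ⊓ Subgroup.centralizer ({y} : Set G))) : G),
        (Subgroup.mem_inf.mp k.1.2).2⟩ : ↥(Subgroup.centralizer ({y} : Set G))) ∈
        Cfsg.oddCore ↥(Subgroup.centralizer ({y} : Set G)) := by
    intro k
    have h1 : cbarHom x y hxy k.1 = 1 := MonoidHom.mem_ker.mp k.2
    have h2 := congrArg Subtype.val h1
    rw [cbarHom_coe] at h2
    exact (QuotientGroup.eq_one_iff _).mp h2
  let φ : ↥(cbarHom x y hxy).ker →* ↥(Cfsg.oddCore ↥(Subgroup.centralizer ({y} : Set G))) :=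
    { toFun := fun k => ⟨_, hmem k⟩
      map_one' := rfl
      map_mul' := fun a b => rfl }
  have hφ : Function.Injective φ := by
    intro a b hab
    have h1 := congrArg (fun z : ↥(Cfsg.oddCore ↥(Subgroup.centralizer ({y} : Set G))) =>
      ((z : ↥(Subgroup.centralizer ({y} : Set G))) : G)) hab
    exact Subtype.ext (Subtype.ext h1)
  have hd : Nat.card ↥(cbarHom x y hxy).ker ∣
      Nat.card ↥(Cfsg.oddCore ↥(Subgroup.centralizer ({y} : Set G))) :=
    Subgroup.card_dvd_of_injective φ hφ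
  exact Nat.Coprime.coprime_dvd_left hd hc

end Cfsg.Agent.Lib.Helper2.BProp
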