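import Cfsg.Agent.Lib.Helper2.BPropB

/-!
Helper2 `BProp`, file C (S1775): the main theorem.  For commuting involutions `x, y`, a
2-component `J` of `L_{2'}(C_G(x)) ∩ C_G(y)` maps onto a component of `C_Q(x̄)`,
`Q = C_G(y)/O(C_G(y))`, provided `Q` has the B-property; and `J` centralizes modulo `O(C_G(y))`
every `J`-invariant subgroup of odd order of `C_G(x) ∩ C_G(y)`.
-/

set_option autoImplicit false

open scoped commutatorElement

namespace Cfsg.Agent.Lib.Helper2.BProp

open Subgroup Cfsg.Agent.Lib.Helper9 Cfsg.Agent.Lib.Helper12 Cfsg.Agent.Lib.Helper20.LBal2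

universe u

variable {G : Type u} [Group G]

/-- images under `cbarHom` computed inside `Q` -/
theorem map_cbarHom_eq (x y : G) (hxy : x * y = y * x) (A : Subgroup G)
    (hA : A ≤ Subgroup.centralizer ({x} : Set G) ⊓ Subgroup.centralizer ({y} : Set G)) :
    (A.subgroupOf (Subgroup.centralizer ({x} : Set G) ⊓ Subgroup.centralizer ({y} : Set G))).map
        (cbarHom x y hxy) =
      ((A.subgroupOf (Subgroup.centralizer ({y} : Set G))).map
        (QuotientGroup.mk' (Cfsg.oddCore ↥(Subgroup.centralizer ({y} : Set G))))).subgroupOf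
        (Subgroup.centralizer ({QuotientGroup.mk' (Cfsg.oddCore ↥(Subgroup.centralizer ({y} : Set G)))
          ⟨x, Subgroup.mem_centralizer_singleton_iff.mpr hxy⟩} :
        Set (↥(Subgroup.centralizer ({y} : Set G)) ⧸
          Cfsg.oddCore ↥(Subgroup.centralizer ({y} : Set G))))) := by
  ext c
  rw [Subgroup.mem_subgroupOf]
  constructor
  · rintro ⟨h, hh, rfl⟩
    rw [cbarHom_coe]
    exact ⟨⟨(h : G), _⟩, Subgroup.mem_subgroupOf.mpr (Subgroup.mem_subgroupOf.mp hh), rfl⟩
  · rintro ⟨a, ha, hac⟩
    have haA : (a : G) ∈ A := Subgroup.mem_subgroupOf.mp ha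
    refine ⟨⟨(a : G), hA haA⟩, Subgroup.mem_subgroupOf.mpr haA, ?_⟩
    apply Subtype.ext
    rw [cbarHom_coe]
    exact hac

theorem main [Finite G] (x y : G) (hx : orderOf x = 2) (hxy : x * y = y * x)
    (hB : Cfsg.HasBProperty (↥(Subgroup.centralizer ({y} : Set G)) ⧸
      Cfsg.oddCore ↥(Subgroup.centralizer ({y} : Set G))))
    (J : Subgroup ↥((Cfsg.pLayer 2 ↥(Subgroup.centralizer ({x} : Set G))).map
      (Subgroup.centralizer ({x} : Set G)).subtype ⊓ Subgroup.centralizer ({y} : Set G)))
    (hJ : Cfsg.IsPComponent 2 J) :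
    Cfsg.IsComponent
        ((((J.map (Subgroup.subtype _)).subgroupOf (Subgroup.centralizer ({y} : Set G))).map
          (QuotientGroup.mk' (Cfsg.oddCore ↥(Subgroup.centralizer ({y} : Set G))))).subgroupOf
          (Subgroup.centralizer ({(QuotientGroup.mk'
            (Cfsg.oddCore ↥(Subgroup.centralizer ({y} : Set G)))
            ⟨x, Subgroup.mem_centralizer_singleton_iff.mpr hxy⟩ :
            ↥(Subgroup.centralizer ({y} : Set G)) ⧸
              Cfsg.oddCore ↥(Subgroup.centralizer ({y} : Set G)))} : Set _))) ∧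
      ∀ E : Subgroup G,
        E ≤ Subgroup.centralizer ({x} : Set G) ⊓ Subgroup.centralizer ({y} : Set G) →
        Odd (Nat.card ↥E) →
        (∀ j ∈ J.map (Subgroup.subtype _), ∀ e ∈ E, j * e * j⁻¹ ∈ E) →
          ⁅J.map (Subgroup.subtype _), E⁆ ≤
            (Cfsg.oddCore ↥(Subgroup.centralizer ({y} : Set G))).map
              (Subgroup.centralizer ({y} : Set G)).subtype := by
  have : Fact (Nat.Prime 2) := ⟨Nat.prime_two⟩
  have hDH : (Cfsg.pLayer 2 ↥(Subgroup.centralizer ({x} : Set G))).map
      (Subgroup.centralizer ({x} : Set G)).subtype ⊓ Subgroup.centralizer ({y} : Set G) ≤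
      Subgroup.centralizer ({x} : Set G) ⊓ Subgroup.centralizer ({y} : Set G) :=
    inf_le_inf_right _ (Subgroup.map_subtype_le _)
  have hDn := map_inf_subgroupOf_normal (Subgroup.centralizer ({x} : Set G))
    (Subgroup.centralizer ({y} : Set G)) (Cfsg.pLayer 2 ↥(Subgroup.centralizer ({x} : Set G)))
  have hJH := isPComponent_subgroupOf_of_le hDH hDn.isSubnormal hJ
  have hJbar := isPComponent_map_of_surjective _ (cbarHom_surjective x y hx hxy)
    (cbarHom_ker_coprime x y hxy) hJH
  have hJle : J.map (Subgroup.subtype _) ≤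
      Subgroup.centralizer ({x} : Set G) ⊓ Subgroup.centralizer ({y} : Set G) :=
    (Subgroup.map_subtype_le _).trans hDH
  have hxbar : orderOf (QuotientGroup.mk' (Cfsg.oddCore ↥(Subgroup.centralizer ({y} : Set G)))
      ⟨x, Subgroup.mem_centralizer_singleton_iff.mpr hxy⟩) = 2 := by
    apply orderOf_map_eq_two
    · rw [QuotientGroup.ker_mk']
      exact pPrimeCore_coprime 2
    · rw [Subgroup.orderOf_mk]; exact hx
  have hcomp := isComponent_of_hasBProperty hB (pPrimeCore_quotient_eq_bot 2) _ hxbar hJbar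
  refine ⟨?_, ?_⟩
  · rw [← map_cbarHom_eq x y hxy _ hJle]
    exact hcomp
  · intro E hE hEodd hinv
    -- `J` normalizes `E`
    have hnorm : J.map (Subgroup.subtype _) ≤ Subgroup.normalizer (E : Set G) := by
      intro j hj
      rw [Subgroup.mem_normalizer_iff]
      intro e
      constructor
      · exact fun he => hinv j hj e he
      · intro he
        have := hinv j⁻¹ (Subgroup.inv_mem _ hj) _ he
        simpa [mul_assoc] using this
    -- the image of `J` normalizes the image of `E`
    have hnorm' : ((J.map (Subgroup.subtype _)).subgroupOf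
        (Subgroup.centralizer ({x} : Set G) ⊓ Subgroup.centralizer ({y} : Set G))).map
          (cbarHom x y hxy) ≤
        Subgroup.normalizer (((E.subgroupOf
          (Subgroup.centralizer ({x} : Set G) ⊓ Subgroup.centralizer ({y} : Set G))).map
            (cbarHom x y hxy) : Subgroup _) : Set _) := by
      refine le_trans (Subgroup.map_mono ?_) (Subgroup.le_normalizer_map _)
      intro j hj
      have hj' := hnorm (Subgroup.mem_subgroupOf.mp hj)
      rw [Subgroup.mem_normalizer_iff] at hj' ⊢
      intro e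
      rw [Subgroup.mem_subgroupOf, Subgroup.mem_subgroupOf]
      simpa using hj' (e : G)
    have hnot : ¬ ((J.map (Subgroup.subtype _)).subgroupOf
        (Subgroup.centralizer ({x} : Set G) ⊓ Subgroup.centralizer ({y} : Set G))).map
          (cbarHom x y hxy) ≤
        (E.subgroupOf
          (Subgroup.centralizer ({x} : Set G) ⊓ Subgroup.centralizer ({y} : Set G))).map
            (cbarHom x y hxy) := by
      intro hle
      have h1 := Subgroup.card_dvd_of_le hle
      have h2 : (2 : ℕ) ∣ _ := IsPComponent_dvd_card hJbar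
      have h3 : Nat.card ↥((E.subgroupOf
          (Subgroup.centralizer ({x} : Set G) ⊓ Subgroup.centralizer ({y} : Set G))).map
            (cbarHom x y hxy)) ∣ Nat.card ↥(E.subgroupOf
          (Subgroup.centralizer ({x} : Set G) ⊓ Subgroup.centralizer ({y} : Set G))) :=
        Subgroup.card_map_dvd _ _
      have h4 : Nat.card ↥(E.subgroupOf
          (Subgroup.centralizer ({x} : Set G) ⊓ Subgroup.centralizer ({y} : Set G))) =
          Nat.card ↥E := Nat.card_congr (Subgroup.subgroupOfEquivOfLe hE).toEquiv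
      rw [h4] at h3
      have h5 : (2 : ℕ) ∣ Nat.card ↥E := (h2.trans h1).trans h3
      exact (Nat.not_even_iff_odd.mpr hEodd) (even_iff_two_dvd.mpr h5)
    have hcomm := commutator_eq_bot_of_component_normalizes hcomp hnorm' hnot
    rw [Subgroup.commutator_le]
    intro j hj e he
    have h1 : ⁅cbarHom x y hxy ⟨j, hJle hj⟩, cbarHom x y hxy ⟨e, hE he⟩⁆ ∈
        ⁅((J.map (Subgroup.subtype _)).subgroupOf
        (Subgroup.centralizer ({x} : Set G) ⊓ Subgroup.centralizer ({y} : Set G))).map
          (cbarHom x y hxy), (E.subgroupOf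
          (Subgroup.centralizer ({x} : Set G) ⊓ Subgroup.centralizer ({y} : Set G))).map
            (cbarHom x y hxy)⁆ :=
      Subgroup.commutator_mem_commutator
        (Subgroup.mem_map_of_mem _ (Subgroup.mem_subgroupOf.mpr hj))
        (Subgroup.mem_map_of_mem _ (Subgroup.mem_subgroupOf.mpr he))
    rw [hcomm, Subgroup.mem_bot, ← map_commutatorElement] at h1
    have h2 := congrArg Subtype.val h1
    rw [cbarHom_coe] at h2
    have h3 := (QuotientGroup.eq_one_iff _).mp h2
    exact ⟨_, h3, rfl⟩

end Cfsg.Agent.Lib.Helper2.BProp
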