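import Mathlib
import Cfsg.Agent.S0144

set_option autoImplicit false

namespace Cfsg.Agent.Lib.Helper2.BQBURN

universe u

variable {G : Type u} [Group G] [Finite G]

/-- a solvable simple group is commutative -/
theorem comm_of_solvable_simple [IsSimpleGroup G] (hs : Group.IsSolvable G) (x y : G) : x * y = y * x := by
  have h := IsSimpleGroup.comm_iff_isSolvable (G := G)
  exact h.mpr hs x y

/-- BQ-BURN. -/
theorem not_two_primes [IsSimpleGroup G] (hna : ∃ x y : G, x * y ≠ y * x) (r s a b : ℕ) (hr : r.Prime) (hs : s.Prime)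
    (h : Nat.card G = r ^ a * s ^ b) : False := by
  obtain ⟨x, y, hxy⟩ := hna
  exact hxy (comm_of_solvable_simple (Cfsg.Agent.S0144.result r s a b hr hs h) x y)

end Cfsg.Agent.Lib.Helper2.BQBURN
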