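import Mathlib
import Cfsg.Agent.Lib.Helper8.BQVANISH

/-!
helper2: BQ-PRIMEDEG (S4501 market, planner helper4): a non-abelian simple group with an irreducible character of
prime degree `r` has Sylow `r`-subgroups of order `r`.
-/

set_option autoImplicit false

namespace Cfsg.Agent.Lib.Helper2.BQPRIMEDEG

open Cfsg Module

universe u v

section linalg

variable {V : Type v} [AddCommGroup V] [Module ℂ V]

/-- an endomorphism of finite order is diagonalizable -/
theorem iSup_eigenspace_eq_top_of_pow_eq_one [FiniteDimensional ℂ V]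
    (T : Module.End ℂ V) (m : ℕ) (hm : m ≠ 0) (hT : T ^ m = 1) :
    ⨆ μ : ℂ, Module.End.eigenspace T μ = ⊤ := by
  have hm' : (m : ℂ) ≠ 0 := by exact_mod_cast hm
  have hsep : (Polynomial.X ^ m - Polynomial.C (1 : ℂ)).Separable :=
    Polynomial.separable_X_pow_sub_C (1 : ℂ) hm' one_ne_zero
  have hss : T.IsSemisimple := by
    refine Module.End.isSemisimple_of_squarefree_aeval_eq_zero hsep.squarefree ?_
    simp [hT]
  exact hss.iSup_eigenspace_eq_top

/-- the averaging operator of an endomorphism `C` with `C ^ r = 1` -/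
theorem avg_facts (C : Module.End ℂ V) (r : ℕ) (hr : r ≠ 0) (hC : C ^ r = 1) :
    let E : Module.End ℂ V := (r : ℂ)⁻¹ • ∑ j ∈ Finset.range r, C ^ j
    E * E = E ∧ ∀ w : V, C w = w → E w = w := by
  intro E
  have hr' : (r : ℂ) ≠ 0 := by exact_mod_cast hr
  set S : Module.End ℂ V := ∑ j ∈ Finset.range r, C ^ j with hS
  have h1 : S * (C - 1) = 0 := by
    rw [hS, geom_sum_mul, hC, sub_self]
  have h2 : S * C = S := by
    have := h1
    rw [mul_sub, mul_one, sub_eq_zero] at this
    exact this
  have h3 : ∀ j : ℕ, S * C ^ j = S := by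
    intro j
    induction j with
    | zero => simp
    | succ j ih => rw [pow_succ, ← mul_assoc, ih, h2]
  have h4 : S * S = (r : ℂ) • S := by
    conv_lhs => rw [hS, Finset.mul_sum]
    rw [← hS]
    rw [Finset.sum_congr rfl (fun j _ => h3 j)]
    rw [Finset.sum_const, Finset.card_range]
    simp [Nat.cast_smul_eq_nsmul]
  constructor
  · show ((r : ℂ)⁻¹ • S) * ((r : ℂ)⁻¹ • S) = (r : ℂ)⁻¹ • S
    rw [smul_mul_smul_comm, h4, smul_smul]
    congr 1
    field_simp
  · intro w hw
    have h5 : ∀ j : ℕ, (C ^ j) w = w := by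
      intro j
      induction j with
      | zero => simp
      | succ j ih => rw [pow_succ, Module.End.mul_apply, hw, ih]
    show ((r : ℂ)⁻¹ • S) w = w
    rw [LinearMap.smul_apply, hS, LinearMap.sum_apply]
    rw [Finset.sum_congr rfl (fun j _ => h5 j), Finset.sum_const, Finset.card_range]
    rw [← Nat.cast_smul_eq_nsmul ℂ, smul_smul, inv_mul_cancel₀ hr', one_smul]

/-- an idempotent of trace one has a range of dimension one -/
theorem finrank_range_of_trace_one [FiniteDimensional ℂ V] (E : Module.End ℂ V) (hE : E * E = E)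
    (htr : LinearMap.trace ℂ V E = 1) : finrank ℂ (LinearMap.range E) = 1 := by
  have hid : IsIdempotentElem E := hE
  have hproj := LinearMap.IsIdempotentElem.isProj_range E hid
  have := hproj.trace
  rw [htr] at this
  exact_mod_cast this.symm

/-- the eigenspaces of `A` are at most one-dimensional when the powers `A ^ j`, `0 < j < r`, are traceless, `A ^ r = 1`, and
the dimension is `r` -/
theorem finrank_eigenspace_le_one [FiniteDimensional ℂ V] (A : Module.End ℂ V) (r : ℕ) (hr : r ≠ 0)
    (hA : A ^ r = 1) (hdim : finrank ℂ V = r)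
    (htr : ∀ j : ℕ, 0 < j → j < r → LinearMap.trace ℂ V (A ^ j) = 0) (μ : ℂ) :
    finrank ℂ (Module.End.eigenspace A μ) ≤ 1 := by
  have hr' : (r : ℂ) ≠ 0 := by exact_mod_cast hr
  by_cases hμ : μ ^ r = 1
  · have hμ0 : μ ≠ 0 := by
      intro h
      rw [h, zero_pow hr] at hμ
      exact zero_ne_one hμ
    set C : Module.End ℂ V := μ⁻¹ • A with hCdef
    have hC : C ^ r = 1 := by
      rw [hCdef, smul_pow, hA, inv_pow, hμ, inv_one, one_smul]
    obtain ⟨hEE, hEw⟩ := avg_facts C r hr hC
    set E : Module.End ℂ V := (r : ℂ)⁻¹ • ∑ j ∈ Finset.range r, C ^ j with hEdef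
    have htrE : LinearMap.trace ℂ V E = 1 := by
      rw [hEdef, map_smul, map_sum]
      have hterm : ∀ j ∈ Finset.range r, LinearMap.trace ℂ V (C ^ j) = if j = 0 then (r : ℂ) else 0 := by
        intro j hj
        rw [Finset.mem_range] at hj
        by_cases hj0 : j = 0
        · subst hj0
          simp [hdim]
        · rw [if_neg hj0, hCdef, smul_pow, map_smul, htr j (Nat.pos_of_ne_zero hj0) hj, smul_zero]
      rw [Finset.sum_congr rfl hterm, Finset.sum_ite_eq' (Finset.range r) 0 (fun _ => (r : ℂ))]
      rw [if_pos (Finset.mem_range.mpr (Nat.pos_of_ne_zero hr)), smul_eq_mul, inv_mul_cancel₀ hr']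
    have h1 := finrank_range_of_trace_one E hEE htrE
    have hle : Module.End.eigenspace A μ ≤ LinearMap.range E := by
      intro w hw
      rw [Module.End.mem_eigenspace_iff] at hw
      refine ⟨w, hEw w ?_⟩
      rw [hCdef, LinearMap.smul_apply, hw, smul_smul, inv_mul_cancel₀ hμ0, one_smul]
    calc finrank ℂ (Module.End.eigenspace A μ) ≤ finrank ℂ (LinearMap.range E) := Submodule.finrank_mono hle
      _ = 1 := h1
  · have hbot : Module.End.eigenspace A μ = ⊥ := by
      rw [eq_bot_iff]
      intro w hw
      rw [Module.End.mem_eigenspace_iff] at hw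
      have h5 : ∀ j : ℕ, (A ^ j) w = μ ^ j • w := by
        intro j
        induction j with
        | zero => simp
        | succ j ih => rw [pow_succ, Module.End.mul_apply, hw, map_smul, ih, smul_smul, pow_succ, mul_comm]
      have h6 := h5 r
      rw [hA, Module.End.one_apply] at h6
      have h7 : (μ ^ r - 1) • w = 0 := by
        rw [sub_smul, one_smul, ← h6, sub_self]
      rcases smul_eq_zero.mp h7 with h | h
      · exact absurd (sub_eq_zero.mp h) hμ
      · rw [Submodule.mem_bot]; exact h
    rw [hbot, finrank_bot]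
    exact Nat.zero_le 1

/-- two endomorphisms commuting with such an `A` commute -/
theorem commute_of_traceless [FiniteDimensional ℂ V] (A : Module.End ℂ V) (r : ℕ) (hr : r ≠ 0)
    (hA : A ^ r = 1) (hdim : finrank ℂ V = r)
    (htr : ∀ j : ℕ, 0 < j → j < r → LinearMap.trace ℂ V (A ^ j) = 0)
    (B B' : Module.End ℂ V) (hB : A * B = B * A) (hB' : A * B' = B' * A) : B * B' = B' * B := by
  have hsup := iSup_eigenspace_eq_top_of_pow_eq_one A r hr hA
  have hker : ∀ μ : ℂ, Module.End.eigenspace A μ ≤ LinearMap.ker (B * B' - B' * B) := by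
    intro μ w hw
    have hfr := finrank_eigenspace_le_one A r hr hA hdim htr μ
    rw [LinearMap.mem_ker, LinearMap.sub_apply, Module.End.mul_apply, Module.End.mul_apply, sub_eq_zero]
    by_cases hw0 : w = 0
    · subst hw0; simp
    · -- every element of the eigenspace is a multiple of `w`
      have hmul : ∀ x ∈ Module.End.eigenspace A μ, ∃ c : ℂ, x = c • w := by
        intro x hx
        obtain ⟨v0, hv0⟩ := finrank_le_one_iff.mp hfr
        obtain ⟨a, ha⟩ := hv0 ⟨w, hw⟩
        obtain ⟨b, hb⟩ := hv0 ⟨x, hx⟩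
        have ha' : a • (v0 : V) = w := by
          have := congrArg Subtype.val ha
          simpa using this
        have hb' : b • (v0 : V) = x := by
          have := congrArg Subtype.val hb
          simpa using this
        have ha0 : a ≠ 0 := by
          intro h
          rw [h, zero_smul] at ha'
          exact hw0 ha'.symm
        refine ⟨b * a⁻¹, ?_⟩
        rw [← ha', smul_smul, mul_assoc, inv_mul_cancel₀ ha0, mul_one, hb']
      have hinv : ∀ D : Module.End ℂ V, A * D = D * A → D w ∈ Module.End.eigenspace A μ := by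
        intro D hD
        rw [Module.End.mem_eigenspace_iff] at hw ⊢
        have : A (D w) = D (A w) := by
          rw [← Module.End.mul_apply, hD, Module.End.mul_apply]
        rw [this, hw, map_smul]
      obtain ⟨b, hb⟩ := hmul (B w) (hinv B hB)
      obtain ⟨b', hb'⟩ := hmul (B' w) (hinv B' hB')
      rw [hb', map_smul, hb, map_smul, hb', smul_smul, smul_smul, mul_comm]
  have htop : LinearMap.ker (B * B' - B' * B) = ⊤ := by
    rw [eq_top_iff, ← hsup]
    exact iSup_le hker
  have h0 : B * B' - B' * B = 0 := LinearMap.ker_eq_top.mp htop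
  exact sub_eq_zero.mp h0

end linalg

section group

variable {G : Type u} [Group G] [Finite G]

/-- a Sylow `r`-subgroup has a central element of order `r` as soon as `r` divides the group order -/
theorem exists_central_of_order (r : ℕ) [Fact r.Prime] (R : Sylow r G) (hdvd : r ∣ Nat.card G) :
    ∃ v : G, v ∈ (R : Subgroup G) ∧ orderOf v = r ∧ ∀ y ∈ (R : Subgroup G), v * y = y * v := by
  classical
  have hr : r.Prime := Fact.out
  have hcard : Nat.card (R : Subgroup G) = r ^ (Nat.card G).factorization r := R.card_eq_multiplicity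
  have hfac : 1 ≤ (Nat.card G).factorization r :=
    (hr.dvd_iff_one_le_factorization Nat.card_pos.ne').mp hdvd
  have hnt : Nontrivial (R : Subgroup G) := by
    rw [← Finite.one_lt_card_iff_nontrivial, hcard]
    exact Nat.one_lt_pow (by omega) hr.one_lt
  have hpg : IsPGroup r (R : Subgroup G) := R.isPGroup'
  have hcnt : Nontrivial (Subgroup.center (R : Subgroup G)) := hpg.center_nontrivial
  have hpc : IsPGroup r (Subgroup.center (R : Subgroup G)) := hpg.to_subgroup _
  obtain ⟨k, hk⟩ := hpc.exists_card_eq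
  have hk0 : k ≠ 0 := by
    intro h
    rw [h, pow_zero] at hk
    have := Finite.one_lt_card_iff_nontrivial.mpr hcnt
    omega
  have hdc : r ∣ Nat.card (Subgroup.center (R : Subgroup G)) := by
    rw [hk]; exact dvd_pow_self r hk0
  obtain ⟨x, hx⟩ := exists_prime_orderOf_dvd_card' r hdc
  refine ⟨((x : (R : Subgroup G)) : G), (x : (R : Subgroup G)).2, ?_, ?_⟩
  · rw [Subgroup.orderOf_coe, Subgroup.orderOf_coe, hx]
  · intro y hy
    have hxc := x.2
    rw [Subgroup.mem_center_iff] at hxc
    have := hxc ⟨y, hy⟩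
    have h2 := congrArg Subtype.val this
    simpa using h2.symm

/-- BQ-PRIMEDEG. -/
theorem card_sylow_of_prime_degree [IsSimpleGroup G] (hna : ∃ x y : G, x * y ≠ y * x) (r : ℕ) [Fact r.Prime] (R : Sylow r G)
    (χ : IrrCharacter G) (hdeg : charDegree (χ : G → ℂ) = r) : Nat.card (R : Subgroup G) = r := by
  classical
  have hr : r.Prime := Fact.out
  obtain ⟨n, ρ, hirr, hρ⟩ := χ.2
  have hχ1 : (χ : G → ℂ) 1 = n := by rw [← hρ]; simp
  have hnr : n = r := by
    have := Cfsg.Agent.Lib.Helper24.irr_apply_one χ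
    rw [hχ1, hdeg] at this
    exact_mod_cast this
  have hχne : (χ : G → ℂ) ≠ fun _ => 1 := by
    intro h
    have h1 := congrFun h 1
    rw [hχ1, hnr] at h1
    have : r = 1 := by exact_mod_cast h1
    exact hr.one_lt.ne' this
  have hdvd : r ∣ Nat.card G := by
    have := Cfsg.Agent.Lib.Helper24.irr_charDegree_dvd_card χ
    rwa [hdeg] at this
  obtain ⟨v, hvR, hvord, hvc⟩ := exists_central_of_order r R hdvd
  -- vanishing on the powers of `v`
  have hvan : ∀ j : ℕ, 0 < j → j < r → (χ : G → ℂ) (v ^ j) = 0 := by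
    intro j hj0 hjr
    have hu1 : v ^ j ≠ 1 := pow_ne_one_of_lt_orderOf hj0.ne' (by rw [hvord]; exact hjr)
    apply Cfsg.Agent.Lib.Helper8.BQVANISH.irr_eq_zero_of_coprime_class hna χ hχne (v ^ j) hu1
    rw [hdeg, hr.coprime_iff_not_dvd]
    intro hd
    have hle : (R : Subgroup G) ≤ Subgroup.centralizer ({v ^ j} : Set G) := by
      intro y hy
      rw [Subgroup.mem_centralizer_iff]
      intro w hw
      rw [Set.mem_singleton_iff] at hw
      subst hw
      have hc : Commute v y := hvc y hy
      exact (hc.pow_left j).eq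
    have h1 : (Subgroup.centralizer ({v ^ j} : Set G)).index ∣ (R : Subgroup G).index :=
      Subgroup.index_dvd_of_le hle
    exact R.not_dvd_index (dvd_trans hd h1)
  -- the representation is faithful
  have hker : (ρ : G →* (Module.End ℂ (Fin n → ℂ))).ker = ⊥ := by
    rcases (MonoidHom.normal_ker (ρ : G →* (Module.End ℂ (Fin n → ℂ)))).eq_bot_or_eq_top with h | h
    · exact h
    · exfalso
      have hv1 : ρ v = 1 := by
        have : v ∈ (ρ : G →* (Module.End ℂ (Fin n → ℂ))).ker := by rw [h]; trivial
        exact MonoidHom.mem_ker.mp this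
      have h0 := hvan 1 Nat.one_pos hr.one_lt
      rw [pow_one, ← hρ] at h0
      have h2 : ρ.character v = ρ.character 1 := by
        unfold Representation.character
        rw [hv1, ← map_one ρ]
      rw [h2, hρ, hχ1, hnr] at h0
      have : r = 0 := by exact_mod_cast h0
      exact hr.ne_zero this
  -- the linear algebra
  have hdim : Module.finrank ℂ (Fin n → ℂ) = r := by simp [hnr]
  have hA : (ρ v) ^ r = 1 := by
    rw [← map_pow, ← hvord, pow_orderOf_eq_one, map_one]
  have htr : ∀ j : ℕ, 0 < j → j < r → LinearMap.trace ℂ (Fin n → ℂ) ((ρ v) ^ j) = 0 := by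
    intro j hj0 hjr
    have := hvan j hj0 hjr
    rw [← hρ] at this
    unfold Representation.character at this
    rwa [map_pow] at this
  have hab : ∀ x ∈ (R : Subgroup G), ∀ y ∈ (R : Subgroup G), x * y = y * x := by
    intro x hx y hy
    have hBx : ρ v * ρ x = ρ x * ρ v := by rw [← map_mul, ← map_mul, hvc x hx]
    have hBy : ρ v * ρ y = ρ y * ρ v := by rw [← map_mul, ← map_mul, hvc y hy]
    have hcomm := commute_of_traceless (ρ v) r hr.ne_zero hA hdim htr (ρ x) (ρ y) hBx hBy
    rw [← map_mul, ← map_mul] at hcomm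
    have hmem : x * y * (y * x)⁻¹ ∈ (ρ : G →* (Module.End ℂ (Fin n → ℂ))).ker := by
      rw [MonoidHom.mem_ker, map_mul]
      show ρ (x * y) * ρ (y * x)⁻¹ = 1
      rw [hcomm, ← map_mul, mul_inv_cancel, map_one]
    rw [hker, Subgroup.mem_bot] at hmem
    exact mul_inv_eq_one.mp hmem
  have hfin := Cfsg.Agent.Lib.Helper8.BQVANISH.degree_eq_card_sylow_of_abelian hna r R hab χ hχne 1
    (by rw [hdeg, pow_one])
  rw [pow_one] at hfin
  exact hfin.symm

end group

end Cfsg.Agent.Lib.Helper2.BQPRIMEDEG
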