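/-
helper2: S0999 + S4701 (BR core, planner helper24), leaf BRC-EVENF in the v3 form of notes/S0999_leaves.lean
(`even_f` with the explicit hypothesis `hft : fI P < p - 1`); a wrapper of `Helper2.BRCEVENF.even_f`, which does not need `hft`.
-/
import Mathlib
import Cfsg.Prelude.Def_BlockRank
import Cfsg.Prelude.Def_Perm
import Cfsg.Agent.Lib.Helper24.BRCDefs
import Cfsg.Agent.Lib.Helper2.BRCEVENF

set_option autoImplicit false

namespace Cfsg.Agent.Lib.Helper2.BRCEVENF3

open Cfsg Cfsg.Agent.Lib.Helper8.DOM Cfsg.Agent.Lib.Helper27.DO Cfsg.Agent.CharLib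
open Cfsg.Agent.Lib.Helper6.BRH Cfsg.Agent.Lib.Helper24.BRC
open scoped ComplexConjugate

universe u

variable {G : Type u} [Group G] [Finite G] {p : ℕ} [Fact p.Prime]

variable {P : Subgroup G} {n w : ℕ} {X Y : Set (IrrCharacter G)} {v : IrrCharacter G → ℤ} {ε : ℤ}

/-- **BRC-EVENF** (v3 binder list). -/
theorem even_f (hS : Special p P n w X Y v ε) (hL : LinData P) (hA : StepA p P n w X Y v ε)
    (hC2 : StepC p P n w X Y v ε) (hft : fI P < p - 1) (hε : ε = -1) (hw : w = 1) : Even (fI P) :=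
  Cfsg.Agent.Lib.Helper2.BRCEVENF.even_f hS hL hA hC2 hε hw

end Cfsg.Agent.Lib.Helper2.BRCEVENF3
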