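import Mathlib
import Cfsg.Prelude.Def_Characters
import Cfsg.Agent.Lib.Helper24.BSWDefs
import Cfsg.Agent.Lib.Helper1.BSWCDefs
import Cfsg.Agent.Lib.Helper10.PowTwistChar
import Cfsg.Agent.Lib.Helper2.BSWCV1
import Cfsg.Agent.Lib.Helper14.BSWCD2

/-!
# S3282-V1 (helper2): `table`, exact form (`BSWCV1.table_of'` over helper14's D2).
-/

set_option autoImplicit false
open Cfsg Cfsg.Agent.Lib.Helper24.BSW Cfsg.Agent.CharLib Cfsg.Agent.Lib.Helper1.BSWC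
open scoped ComplexConjugate

namespace Cfsg.Agent.Lib.Helper2.BSWCV1X

universe u

variable {G : Type u} [Group G] [Fintype G]

/-- **V1** the table at `t` and on `K`: from `Coh` and D2. -/
theorem table {t s : G} {K : Subgroup G} (h : Hyp t s K) (hk : 4 ≤ Nat.card K)
    {ν : ↥K →* ℂˣ} (hν : ν ≠ 1 ∧ ν * ν = 1 ∧ ∀ μ : ↥K →* ℂˣ, μ * μ = 1 → μ = 1 ∨ μ = ν)
    {ε : ℤ} {X : IrrCharacter G} {L : (↥K →* ℂˣ) → IrrCharacter G} {Y₁ Y₂ : IrrCharacter G}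
    (hc : Coh K ν ε X L Y₁ Y₂) :
    (∀ g ∈ KK K, (X : G → ℂ) g = (ε : ℂ)) ∧
    (∃ b : ℤ, (X : G → ℂ) 1 = (b : ℂ) * (Nat.card K : ℂ) + (ε : ℂ)) ∧
    (∀ μ : ↥K →* ℂˣ, μ ≠ 1 → μ ≠ ν → ((L μ : G → ℂ) t) ^ 2 = 4) ∧
    ((Y₁ : G → ℂ) t) ^ 2 = 1 ∧ ((Y₂ : G → ℂ) t) ^ 2 = 1 ∧
    (∀ χ : IrrCharacter G, χ ≠ trivIrr G → χ ≠ X → χ ≠ Y₁ → χ ≠ Y₂ →
      (∀ μ : ↥K →* ℂˣ, μ ≠ 1 → μ ≠ ν → χ ≠ L μ) → (χ : G → ℂ) t = 0) :=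
  Cfsg.Agent.Lib.Helper2.BSWCV1.table_of' h hk
    (fun _ => Cfsg.Agent.Lib.Helper14.BSWCD2.apply_of_mem h)
    (fun _ => Cfsg.Agent.Lib.Helper14.BSWCD2.apply_one_eq h) hν hc

end Cfsg.Agent.Lib.Helper2.BSWCV1X
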