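import Mathlib
import Cfsg.Prelude.Def_Characters
import Cfsg.Agent.Lib.Helper24.BSWDefs
import Cfsg.Agent.Lib.Helper1.BSWCDefs
import Cfsg.Agent.Lib.Helper10.PowTwistChar
import Cfsg.Agent.Lib.Helper10.IrrOrtho
import Cfsg.Agent.Lib.Lead.CharBurnside
import Cfsg.Agent.Lib.Helper14.BSWB0a
import Cfsg.Agent.Lib.Helper5.BSWCE5

/-!
# S3282-V4 (helper2): `values_on_RR`
-/

set_option autoImplicit false
open Cfsg Cfsg.Agent.Lib.Helper24.BSW Cfsg.Agent.CharLib Cfsg.Agent.Lib.Helper1.BSWC
open scoped ComplexConjugate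

namespace Cfsg.Agent.Lib.Helper2.BSWCV4

universe u

variable {G : Type u} [Group G] [Fintype G]

open Classical in
/-- the partition `G = {1} ⊔ KK ⊔ RR` for sums -/
theorem sum_split3 (K : Subgroup G) (F : G → ℤ) :
    ∑ g, F g = F 1 + ∑ g ∈ Finset.univ.filter (fun g => g ∈ KK K), F g
      + ∑ g ∈ Finset.univ.filter (fun g => g ∈ RR K), F g := by
  rw [← Finset.sum_filter_add_sum_filter_not Finset.univ (fun g => g ∈ RR K) F]
  rw [← Finset.sum_filter_add_sum_filter_not (Finset.univ.filter (fun g => ¬ g ∈ RR K))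
    (fun g => g ∈ KK K) F]
  rw [Finset.filter_filter, Finset.filter_filter]
  have e1 : Finset.univ.filter (fun g => ¬ g ∈ RR K ∧ g ∈ KK K)
      = Finset.univ.filter (fun g => g ∈ KK K) := by
    ext g
    simp only [Finset.mem_filter, Finset.mem_univ, true_and]
    exact ⟨fun h => h.2,
      fun h => ⟨Cfsg.Agent.Lib.Helper14.BSWB0a.not_mem_RR_of_mem_KK K g h, h⟩⟩
  have e2 : Finset.univ.filter (fun g => ¬ g ∈ RR K ∧ ¬ g ∈ KK K) = {1} := by
    ext g
    simp only [Finset.mem_filter, Finset.mem_univ, true_and, Finset.mem_singleton]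
    constructor
    · rintro ⟨h1, h2⟩
      by_contra hg
      rcases Cfsg.Agent.Lib.Helper14.BSWB0a.mem_KK_or_mem_RR K g hg with h3 | h3
      · exact h2 h3
      · exact h1 h3
    · rintro rfl
      exact ⟨fun h => h.1 rfl, fun h => h.1 rfl⟩
  rw [e1, e2, Finset.sum_singleton]
  ring

/-- **V4** the values of `X` on `RR` and the number of zeros. -/
theorem values_on_RR {t s : G} {K : Subgroup G} (h : Hyp t s K) (ε : ℤ) (hε : ε = 1 ∨ ε = -1)
    (q : ℕ) (hq : (q : ℤ) = 2 * (Nat.card K : ℤ) + ε)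
    (hcard : (Nat.card G : ℤ) = (Nat.card K : ℤ) * q * (q + ε))
    (X : G → ℂ) (hX : IsIrrCharacter G X) (hX1 : X ≠ 1) (hint : ∀ g : G, ∃ n : ℤ, X g = (n : ℂ))
    (hdeg : X 1 = (q : ℂ)) (hKK : ∀ g ∈ KK K, X g = (ε : ℂ)) :
    (∀ y ∈ RR K, X y = 0 ∨ X y = -(ε : ℂ)) ∧
      Nat.card {y : G // y ∈ RR K ∧ X y = 0} = q ^ 2 - 1 := by
  classical
  choose n hn using hint
  have hk0 : 0 < Nat.card K := Nat.card_pos
  have hG0 : (Nat.card G : ℂ) ≠ 0 := by
    have : 0 < Nat.card G := Nat.card_pos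
    exact_mod_cast this.ne'
  have hε2 : ε * ε = 1 := by
    rcases hε with rfl | rfl <;> norm_num
  -- the two character sums
  have hS1 : ∑ g : G, n g = 0 := by
    have h1 := Cfsg.Agent.Lib.Helper10.classInner_irr hX isIrrCharacter_one
    rw [if_neg hX1] at h1
    unfold classInner at h1
    have h2 : ∑ g : G, X g * conj ((1 : G → ℂ) g) = 0 := by
      rcases mul_eq_zero.1 h1 with h3 | h3
      · exact absurd (inv_eq_zero.1 h3) hG0
      · exact h3
    have h3 : ((∑ g : G, n g : ℤ) : ℂ) = 0 := by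
      rw [Int.cast_sum, ← h2]
      apply Finset.sum_congr rfl
      intro g _
      rw [hn g]
      simp
    exact_mod_cast h3
  have hS2 : ∑ g : G, n g ^ 2 = (Nat.card G : ℤ) := by
    have h1 := Cfsg.Agent.Lib.Helper10.classInner_irr_self hX
    unfold classInner at h1
    have h2 : (Nat.card G : ℂ) = ∑ g : G, X g * conj (X g) := (inv_mul_eq_one₀ hG0).1 h1
    have h3 : ((∑ g : G, n g ^ 2 : ℤ) : ℂ) = (Nat.card G : ℂ) := by
      rw [Int.cast_sum, h2]
      apply Finset.sum_congr rfl
      intro g _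
      rw [hn g]
      simp [pow_two]
    exact_mod_cast h3
  -- values
  have hn1 : n 1 = q := by
    have h1 := hn 1
    rw [hdeg] at h1
    exact_mod_cast h1.symm
  have hnKK : ∀ g ∈ Finset.univ.filter (fun g => g ∈ KK K), n g = ε := by
    intro g hg
    rw [Finset.mem_filter] at hg
    have h1 := hKK g hg.2
    rw [hn g] at h1
    exact_mod_cast h1
  obtain ⟨a, ha⟩ : ∃ a : ℤ, a = ((Finset.univ.filter (fun g => g ∈ KK K)).card : ℤ) := ⟨_, rfl⟩
  have hacard : (Finset.univ.filter (fun g => g ∈ KK K)).card = Nat.card (KK K) := by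
    rw [Nat.card_eq_fintype_card, Fintype.card_subtype]
  -- E5
  have hE5 : a * (2 * (Nat.card K : ℤ)) = (Nat.card G : ℤ) * ((Nat.card K : ℤ) - 1) := by
    have h1 := Cfsg.Agent.Lib.Helper5.BSWCE5.card_KK h
    rw [← hacard] at h1
    rw [ha]
    have h2 : ((Nat.card K - 1 : ℕ) : ℤ) = (Nat.card K : ℤ) - 1 := by
      rw [Nat.cast_sub hk0]
      simp
    rw [← h2]
    exact_mod_cast h1
  have h2a : 2 * a = (q : ℤ) * (q + ε) * ((Nat.card K : ℤ) - 1) := by
    have hk' : (Nat.card K : ℤ) ≠ 0 := by exact_mod_cast hk0.ne'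
    apply mul_left_cancel₀ hk'
    rw [hcard] at hE5
    linear_combination hE5
  -- split sums
  have hs1 := sum_split3 K n
  have hs2 := sum_split3 K (fun g => n g ^ 2)
  rw [hS1, hn1, Finset.sum_congr rfl hnKK, Finset.sum_const, nsmul_eq_mul, ← ha] at hs1
  have hsq : ∀ g ∈ Finset.univ.filter (fun g => g ∈ KK K), n g ^ 2 = 1 := by
    intro g hg
    rw [hnKK g hg, pow_two, hε2]
  rw [hS2, hn1, Finset.sum_congr rfl hsq, Finset.sum_const, nsmul_eq_mul, mul_one, ← ha] at hs2
  -- the key sum vanishes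
  have hkey : ∑ g ∈ Finset.univ.filter (fun g => g ∈ RR K), n g * (n g + ε) = 0 := by
    have h1 : ∑ g ∈ Finset.univ.filter (fun g => g ∈ RR K), n g * (n g + ε)
        = ∑ g ∈ Finset.univ.filter (fun g => g ∈ RR K), n g ^ 2
          + ε * ∑ g ∈ Finset.univ.filter (fun g => g ∈ RR K), n g := by
      rw [Finset.mul_sum, ← Finset.sum_add_distrib]
      apply Finset.sum_congr rfl
      intro g _
      ring
    rw [h1]
    have h3 : ∑ g ∈ Finset.univ.filter (fun g => g ∈ RR K), n g = -(q : ℤ) - a * ε := by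
      linarith
    have h4 : ∑ g ∈ Finset.univ.filter (fun g => g ∈ RR K), n g ^ 2
        = (Nat.card G : ℤ) - (q : ℤ) ^ 2 - a := by
      linarith
    rw [h3, h4, hcard]
    have h5 : ε * (-(q : ℤ) - a * ε) = -(ε * q) - a * (ε * ε) := by ring
    rw [h5, hε2]
    linear_combination (-1 : ℤ) * h2a
  have hnonneg : ∀ g ∈ Finset.univ.filter (fun g => g ∈ RR K), 0 ≤ n g * (n g + ε) := by
    intro g _
    have h3 : n g ≤ -1 ∨ n g = 0 ∨ 1 ≤ n g := by omega
    rcases h3 with h1 | h1 | h1
    · apply mul_nonneg_of_nonpos_of_nonpos (by omega)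
      rcases hε with h4 | h4 <;> omega
    · rw [h1, zero_mul]
    · apply mul_nonneg (by omega)
      rcases hε with h4 | h4 <;> omega
  have hzero := (Finset.sum_eq_zero_iff_of_nonneg hnonneg).1 hkey
  have hvals : ∀ y ∈ RR K, n y = 0 ∨ n y = -ε := by
    intro y hy
    have h1 := hzero y (by rw [Finset.mem_filter]; exact ⟨Finset.mem_univ _, hy⟩)
    rcases mul_eq_zero.1 h1 with h2 | h2
    · exact Or.inl h2
    · right
      linarith
  refine ⟨?_, ?_⟩
  · intro y hy
    rcases hvals y hy with h1 | h1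
    · left
      rw [hn y, h1]
      simp
    · right
      rw [hn y, h1]
      simp
  · -- the count of zeros
    have hεne : -ε ≠ 0 := by
      rcases hε with rfl | rfl <;> norm_num
    obtain ⟨Z, hZ⟩ : ∃ Z : Finset G,
        Z = (Finset.univ.filter (fun g => g ∈ RR K)).filter (fun g => n g = 0) := ⟨_, rfl⟩
    obtain ⟨W, hW⟩ : ∃ W : Finset G,
        W = (Finset.univ.filter (fun g => g ∈ RR K)).filter (fun g => ¬ n g = 0) := ⟨_, rfl⟩
    have hZW : Z.card + W.card = (Finset.univ.filter (fun g => g ∈ RR K)).card := by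
      rw [hZ, hW]
      exact Finset.card_filter_add_card_filter_not _
    have hsumW : ∑ g ∈ Finset.univ.filter (fun g => g ∈ RR K), n g = (W.card : ℤ) * (-ε) := by
      rw [← Finset.sum_filter_add_sum_filter_not _ (fun g => n g = 0), ← hZ, ← hW]
      have h1 : ∑ g ∈ Z, n g = 0 := by
        apply Finset.sum_eq_zero
        intro g hg
        rw [hZ, Finset.mem_filter] at hg
        exact hg.2
      have h2 : ∑ g ∈ W, n g = (W.card : ℤ) * (-ε) := by
        rw [Finset.sum_congr rfl (g := fun _ => -ε), Finset.sum_const, nsmul_eq_mul]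
        intro g hg
        rw [hW, Finset.mem_filter, Finset.mem_filter] at hg
        rcases hvals g hg.1.2 with h3 | h3
        · exact absurd h3 hg.2
        · exact h3
      rw [h1, h2, zero_add]
    have hcardR : (1 : ℤ) + a + ((Finset.univ.filter (fun g => g ∈ RR K)).card : ℤ)
        = (Nat.card G : ℤ) := by
      have h1 := sum_split3 K (fun _ => (1 : ℤ))
      simp only [Finset.sum_const, nsmul_eq_mul, mul_one, Finset.card_univ] at h1
      rw [← ha] at h1
      rw [← h1, Nat.card_eq_fintype_card]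
    have hW' : (W.card : ℤ) = ε * q + a := by
      have h1 : (W.card : ℤ) * (-ε) = -(q : ℤ) - a * ε := by
        rw [← hsumW]
        linarith
      have h2 : (W.card : ℤ) * (ε * ε) = (q : ℤ) * ε + a * (ε * ε) := by
        linear_combination (-ε) * h1
      rw [hε2] at h2
      linarith
    have hZ' : (Z.card : ℤ) = (q : ℤ) ^ 2 - 1 := by
      have h1 : (Z.card : ℤ) + (W.card : ℤ)
          = ((Finset.univ.filter (fun g => g ∈ RR K)).card : ℤ) := by
        exact_mod_cast hZW
      have h3 : (Z.card : ℤ) = (Nat.card G : ℤ) - 1 - 2 * a - ε * q := by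
        linarith
      rw [h3, h2a, hcard]
      ring
    have hcardZ : Nat.card {y : G // y ∈ RR K ∧ X y = 0} = Z.card := by
      rw [Nat.card_eq_fintype_card, Fintype.card_subtype, hZ, Finset.filter_filter]
      congr 1
      ext g
      simp only [Finset.mem_filter, Finset.mem_univ, true_and]
      constructor
      · rintro ⟨h1, h2⟩
        refine ⟨h1, ?_⟩
        rw [hn g] at h2
        exact_mod_cast h2
      · rintro ⟨h1, h2⟩
        refine ⟨h1, ?_⟩
        rw [hn g, h2]
        simp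
    rw [hcardZ]
    have hq1 : 1 ≤ q ^ 2 := Nat.one_le_pow _ _ (by
      have : (0 : ℤ) < q := by
        rw [hq]
        have : (1 : ℤ) ≤ Nat.card K := by exact_mod_cast hk0
        rcases hε with rfl | rfl <;> linarith
      exact_mod_cast this)
    zify [hq1]
    exact hZ'

end Cfsg.Agent.Lib.Helper2.BSWCV4
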