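/-
helper2: Brauer's characterization, version with algebraic integer coefficients.
-/
import Mathlib
import Cfsg.Prelude.Def_Characters
import Cfsg.Agent.Lib.Helper2.BrauerInd

set_option autoImplicit false
open scoped ComplexConjugate
namespace Cfsg.Agent.Lib.Helper2
open Cfsg Module Cfsg.Agent.CharLib Cfsg.Agent.Lib.Helper6
universe u

section algint
variable {G : Type u} [Group G] [Fintype G]

theorem isIntegral_natCast' (k : ℕ) : IsIntegral ℤ (k : ℂ) := by
  have := isIntegral_algebraMap (R := ℤ) (A := ℂ) (x := (k : ℤ))
  simpa using this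

/-- if all coefficients of `β` are algebraic integers, so are those of `β ∘ f` -/
theorem isIntegral_classInner_comp {E B : Type u} [Group E] [Fintype E] [Group B] [Fintype B]
    (f : E →* B) {β : B → ℂ} (hβ : IsClassFunction B β)
    (hint : ∀ μ : IrrCharacter B, IsIntegral ℤ (classInner β (μ : B → ℂ)))
    (ψ : IrrCharacter E) : IsIntegral ℤ (classInner (fun x : E => β (f x)) (ψ : E → ℂ)) := by
  classical
  let _ := fintypeIrr B
  have hexp := classFunction_eq_sum hβ
  have h1 : (fun x : E => β (f x)) =
      ∑ μ : IrrCharacter B, classInner β (μ : B → ℂ) • (fun x : E => (μ : B → ℂ) (f x)) := by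
    funext x
    have := congrFun hexp (f x)
    rw [Finset.sum_apply] at this ⊢
    exact this
  rw [h1, classInner_sum_left]
  apply IsIntegral.sum
  intro μ _
  rw [classInner_smul_left]
  apply IsIntegral.mul (hint μ)
  obtain ⟨k, hk⟩ := IsCharacter.classInner_nat
    (IsCharacter.comp_hom (IsIrrCharacter.isCharacter μ.2) f) (IsIrrCharacter.isCharacter ψ.2)
  have h2 : (fun x : E => (μ : B → ℂ) (f x)) = (μ : B → ℂ) ∘ f := rfl
  rw [h2, hk]
  exact isIntegral_natCast' k

/-- Brauer's characterization with algebraic integer coefficients -/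
theorem brauer_characterization_algInt {θ : G → ℂ} (hθ : IsClassFunction G θ)
    (hE : ∀ (E : Subgroup G) [Fintype E] (p : ℕ), p.Prime → IsElementary p E →
      ∀ ψ : IrrCharacter E, IsIntegral ℤ (classInner (fun e : E => θ e) (ψ : E → ℂ)))
    (χ : IrrCharacter G) : IsIntegral ℤ (classInner θ (χ : G → ℂ)) := by
  classical
  have h1 : (1 : G → ℂ) ∈ brauerSpanAll G := char_mem_brauerSpanAll isCharacter_one
  have hχcf : IsClassFunction G (χ : G → ℂ) :=
    IsCharacter.isClassFunction (IsIrrCharacter.isCharacter χ.2)
  have key : ∀ f ∈ brauerSpanAll G, IsIntegral ℤ (classInner (f * θ) (χ : G → ℂ)) := by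
    intro f hf
    induction hf using AddSubgroup.closure_induction with
    | mem x hx =>
      obtain ⟨E, lam, ⟨p, hp, hEl⟩, rfl⟩ := hx
      have hFE : Fintype E := Fintype.ofFinite E
      let _ := fintypeIrr E
      rw [indFun_mul_classFunction E _ hθ, frobenius_reciprocity E _ hχcf]
      have hθE : IsClassFunction E (fun e : E => θ e) := isClassFunction_restrict hθ E
      have hexp := classFunction_eq_sum hθE
      have h2 : ((fun e : E => ((lam e : ℂˣ) : ℂ)) * fun e : E => θ e) =
          ∑ ψ : IrrCharacter E, classInner (fun e : E => θ e) (ψ : E → ℂ) •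
            ((fun e : E => ((lam e : ℂˣ) : ℂ)) * (ψ : E → ℂ)) := by
        nth_rewrite 1 [hexp]
        rw [Finset.mul_sum]
        apply Finset.sum_congr rfl
        intro ψ _
        rw [mul_smul_comm]
      rw [h2, classInner_sum_left]
      apply IsIntegral.sum
      intro ψ _
      rw [classInner_smul_left]
      apply IsIntegral.mul (hE E p hp hEl ψ)
      obtain ⟨k, hk⟩ := IsCharacter.classInner_nat
        (IsCharacter.mul (isCharacter_of_hom lam) (IsIrrCharacter.isCharacter ψ.2))
        (IsCharacter.restrict (IsIrrCharacter.isCharacter χ.2) E)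
      rw [hk]
      exact isIntegral_natCast' k
    | zero =>
      rw [zero_mul, classInner_zero_left]
      exact isIntegral_zero
    | add x y _ _ hx hy =>
      rw [add_mul, classInner_add_left]
      exact IsIntegral.add hx hy
    | neg x _ hx =>
      rw [neg_mul]
      have : classInner (-(x * θ)) (χ : G → ℂ) = -classInner (x * θ) (χ : G → ℂ) := by
        have := classInner_smul_left (-1 : ℂ) (x * θ) (χ : G → ℂ)
        simpa using this
      rw [this]
      exact IsIntegral.neg hx
  have := key 1 h1
  rwa [one_mul] at this

end algint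
end Cfsg.Agent.Lib.Helper2
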