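/-
helper2: the power map `x ↦ x ^ e` with `e ≡ 0 (mod m)`, `e ≡ 1 (mod n)` in a group of order
`m n` (`m, n` coprime): it computes the `n`-part, and it is an endomorphism on elementary groups.
-/
import Mathlib
import Cfsg.Prelude.Def_Characters

set_option autoImplicit false
namespace Cfsg.Agent.Lib.Helper2
open Cfsg
universe u

section basic
variable {G : Type u} [Group G]

theorem pow_eq_self_of_orderOf_dvd {n e : ℕ} (he : e ≡ 1 [MOD n]) {x : G}
    (hx : orderOf x ∣ n) : x ^ e = x := by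
  have h1 : e ≡ 1 [MOD orderOf x] := Nat.ModEq.of_dvd hx he
  have := pow_eq_pow_iff_modEq.mpr h1
  rwa [pow_one] at this

theorem pow_eq_one_of_orderOf_dvd' {m e : ℕ} (he : m ∣ e) {x : G}
    (hx : orderOf x ∣ m) : x ^ e = 1 :=
  orderOf_dvd_iff_pow_eq_one.mp (hx.trans he)

theorem orderOf_pow_dvd_of_card [Finite G] {m n e : ℕ} (hcard : Nat.card G ∣ m * n) (he : m ∣ e)
    (x : G) : orderOf (x ^ e) ∣ n := by
  apply orderOf_dvd_of_pow_eq_one
  rw [← pow_mul]
  obtain ⟨k, rfl⟩ := he
  have h1 : x ^ (m * n) = 1 := by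
    obtain ⟨j, hj⟩ := hcard
    rw [hj, pow_mul, pow_card_eq_one', one_pow]
  rw [mul_right_comm, pow_mul, h1, one_pow]

theorem pow_pow_self_of_card [Finite G] {m n e : ℕ} (hcard : Nat.card G ∣ m * n) (hm : m ∣ e)
    (hn : e ≡ 1 [MOD n]) (x : G) : (x ^ e) ^ e = x ^ e :=
  pow_eq_self_of_orderOf_dvd hn (orderOf_pow_dvd_of_card hcard hm x)

/-- the complementary part -/
theorem exists_commuting_decomp [Finite G] {m n e : ℕ} (hcard : Nat.card G ∣ m * n) (hm : m ∣ e)
    (hn : e ≡ 1 [MOD n]) (hcop : Nat.Coprime m n) (x : G) :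
    ∃ u : G, x = u * x ^ e ∧ Commute u (x ^ e) ∧ orderOf u ∣ m := by
  -- an exponent e' with e' ≡ 1 mod m, e' ≡ 0 mod n
  obtain ⟨e', he'1, he'2⟩ := Nat.chineseRemainder hcop 1 0
  have he'n : n ∣ e' := (Nat.modEq_zero_iff_dvd).mp he'2
  refine ⟨x ^ e', ?_, (Commute.refl x).pow_pow _ _, ?_⟩
  · -- e' + e ≡ 1 mod m n
    have h1 : e' + e ≡ 1 [MOD m] := by
      have : e ≡ 0 [MOD m] := (Nat.modEq_zero_iff_dvd).mpr hm
      simpa using he'1.add this
    have h2 : e' + e ≡ 1 [MOD n] := by
      simpa using he'2.add hn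
    have h3 : e' + e ≡ 1 [MOD m * n] := (Nat.modEq_and_modEq_iff_modEq_mul hcop).mp ⟨h1, h2⟩
    have h4 : e' + e ≡ 1 [MOD orderOf x] := by
      apply Nat.ModEq.of_dvd _ h3
      exact (orderOf_dvd_natCard x).trans hcard
    have := pow_eq_pow_iff_modEq.mpr h4
    rw [pow_one, pow_add] at this
    exact this.symm
  · apply orderOf_dvd_of_pow_eq_one
    rw [← pow_mul]
    obtain ⟨k, rfl⟩ := he'n
    have h1 : x ^ (m * n) = 1 := by
      obtain ⟨j, hj⟩ := hcard
      rw [hj, pow_mul, pow_card_eq_one', one_pow]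
    rw [show n * k * m = m * n * k by ring, pow_mul, h1, one_pow]

end basic

section elem

/-- an elementary group is the product of a Sylow subgroup and a central subgroup -/
theorem exists_central_factorization {q : ℕ} {E : Type u} [Group E] [Finite E]
    (hq : q.Prime) (hE : IsElementary q E) :
    ∃ P Q : Subgroup E, IsPGroup q P ∧ Q ≤ Subgroup.center E ∧ Subgroup.IsComplement' P Q := by
  have : Fact q.Prime := ⟨hq⟩
  obtain ⟨x, hxc, hcop, k, hk⟩ := hE
  have hZc : Subgroup.zpowers x ≤ Subgroup.center E := by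
    rw [Subgroup.zpowers_le]; exact hxc
  obtain ⟨P⟩ : Nonempty (Sylow q E) := inferInstance
  refine ⟨P, Subgroup.zpowers x, P.isPGroup', hZc, ?_⟩
  have hcardE : Nat.card E = Nat.card (Subgroup.zpowers x) * q ^ k := by
    rw [← hk, Subgroup.card_mul_index]
  have hnd : ¬ q ∣ Nat.card (Subgroup.zpowers x) := by
    rw [Nat.card_zpowers]
    exact (Nat.Prime.coprime_iff_not_dvd hq).mp hcop.symm
  have hfac : (Nat.card E).factorization q = k := by
    rw [hcardE, Nat.factorization_mul Nat.card_pos.ne' (pow_ne_zero _ hq.ne_zero),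
      Finsupp.add_apply, Nat.factorization_eq_zero_of_not_dvd hnd,
      Nat.Prime.factorization_pow hq]
    simp
  have hPcard : Nat.card (P : Subgroup E) = q ^ k := by
    rw [Sylow.card_eq_multiplicity, hfac]
  apply Subgroup.isComplement'_of_coprime
  · rw [hPcard, hcardE, mul_comm]
  · rw [hPcard, Nat.card_zpowers]
    exact Nat.Coprime.pow_left k hcop.symm

/-- the power map is multiplicative on elementary groups -/
theorem mul_pow_of_isElementary {q : ℕ} {E : Type u} [Group E] [Finite E]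
    (hq : q.Prime) (hE : IsElementary q E) {m n e : ℕ} (hcard : Nat.card E ∣ m * n)
    (hcop : Nat.Coprime m n) (hm : m ∣ e) (hn : e ≡ 1 [MOD n]) (x y : E) :
    (x * y) ^ e = x ^ e * y ^ e := by
  have : Fact q.Prime := ⟨hq⟩
  obtain ⟨P, Q, hP, hQc, hPQ⟩ := exists_central_factorization hq hE
  obtain ⟨j, hj⟩ := IsPGroup.iff_card.mp hP
  have hPdvd : q ^ j ∣ m * n := by
    rw [← hj]; exact (Subgroup.card_subgroup_dvd_card P).trans hcard
  -- the power map on P
  have hPpow : (∀ u ∈ P, u ^ e = 1) ∨ (∀ u ∈ P, u ^ e = u) := by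
    by_cases hqm : q ∣ m
    · left
      have hqn : Nat.Coprime (q ^ j) n := by
        apply Nat.Coprime.pow_left
        rw [Nat.Prime.coprime_iff_not_dvd hq]
        intro hqn
        have := Nat.dvd_gcd hqm hqn
        rw [hcop] at this
        exact hq.one_lt.ne' (Nat.dvd_one.mp this)
      have h1 : q ^ j ∣ m := hqn.dvd_of_dvd_mul_right hPdvd
      intro u hu
      apply pow_eq_one_of_orderOf_dvd' hm
      have h2 : orderOf u ∣ Nat.card P := by
        have := orderOf_dvd_natCard (⟨u, hu⟩ : P)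
        rwa [Subgroup.orderOf_mk] at this
      rw [hj] at h2
      exact h2.trans h1
    · right
      have hqm' : Nat.Coprime (q ^ j) m := by
        apply Nat.Coprime.pow_left
        exact (Nat.Prime.coprime_iff_not_dvd hq).mpr hqm
      have h1 : q ^ j ∣ n := hqm'.dvd_of_dvd_mul_left hPdvd
      intro u hu
      apply pow_eq_self_of_orderOf_dvd hn
      have h2 : orderOf u ∣ Nat.card P := by
        have := orderOf_dvd_natCard (⟨u, hu⟩ : P)
        rwa [Subgroup.orderOf_mk] at this
      rw [hj] at h2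
      exact h2.trans h1
  have hPmul : ∀ u ∈ P, ∀ u' ∈ P, (u * u') ^ e = u ^ e * u' ^ e := by
    intro u hu u' hu'
    rcases hPpow with h | h
    · rw [h u hu, h u' hu', h _ (P.mul_mem hu hu'), one_mul]
    · rw [h u hu, h u' hu', h _ (P.mul_mem hu hu')]
  obtain ⟨⟨u, z⟩, hx⟩ := hPQ.2 x
  obtain ⟨⟨u', z'⟩, hy⟩ := hPQ.2 y
  have hx' : (u : E) * (z : E) = x := hx
  have hy' : (u' : E) * (z' : E) = y := hy
  have hzc : ∀ g : E, g * (z : E) = (z : E) * g := Subgroup.mem_center_iff.mp (hQc z.2)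
  have hz'c : ∀ g : E, g * (z' : E) = (z' : E) * g := Subgroup.mem_center_iff.mp (hQc z'.2)
  have hxy : x * y = ((u : E) * u') * ((z : E) * z') := by
    rw [← hx', ← hy']
    calc (u : E) * z * (u' * z') = u * (z * u') * z' := by group
      _ = u * (u' * z) * z' := by rw [hzc u']
      _ = u * u' * (z * z') := by group
  have hc1 : Commute ((u : E) * u') ((z : E) * z') := by
    show (u : E) * u' * (z * z') = z * z' * (u * u')
    rw [← mul_assoc, hzc, mul_assoc, hz'c, ← mul_assoc]
  have hc2 : Commute (z : E) (z' : E) := (hzc z').symm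
  have hc3 : Commute (u : E) (z : E) := hzc u
  have hc4 : Commute (u' : E) (z' : E) := hz'c u'
  rw [hxy, hc1.mul_pow, hPmul u u.2 u' u'.2, hc2.mul_pow, ← hx', ← hy', hc3.mul_pow, hc4.mul_pow]
  have hze : ∀ g : E, g * (z : E) ^ e = (z : E) ^ e * g := by
    intro g
    exact ((show Commute g (z : E) from hzc g).pow_right e)
  calc (u : E) ^ e * u' ^ e * (z ^ e * z' ^ e) = u ^ e * (u' ^ e * z ^ e) * z' ^ e := by group
    _ = u ^ e * (z ^ e * u' ^ e) * z' ^ e := by rw [hze]
    _ = u ^ e * z ^ e * (u' ^ e * z' ^ e) := by group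

/-- the power map as an endomorphism of an elementary group -/
def powHom {q : ℕ} {E : Type u} [Group E] [Finite E]
    (hq : q.Prime) (hE : IsElementary q E) {m n e : ℕ} (hcard : Nat.card E ∣ m * n)
    (hcop : Nat.Coprime m n) (hm : m ∣ e) (hn : e ≡ 1 [MOD n]) : E →* E where
  toFun x := x ^ e
  map_one' := one_pow e
  map_mul' := mul_pow_of_isElementary hq hE hcard hcop hm hn

theorem powHom_apply {q : ℕ} {E : Type u} [Group E] [Finite E]
    (hq : q.Prime) (hE : IsElementary q E) {m n e : ℕ} (hcard : Nat.card E ∣ m * n)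
    (hcop : Nat.Coprime m n) (hm : m ∣ e) (hn : e ≡ 1 [MOD n]) (x : E) :
    powHom hq hE hcard hcop hm hn x = x ^ e := rfl

/-- a quotient of an elementary group is elementary -/
theorem isElementary_of_surjective {q : ℕ} (hq : q.Prime) {E E' : Type u} [Group E] [Group E']
    [Finite E] (f : E →* E') (hf : Function.Surjective f) (hE : IsElementary q E) :
    IsElementary q E' := by
  obtain ⟨x, hxc, hcop, k, hk⟩ := hE
  refine ⟨f x, ?_, ?_, ?_⟩
  · rw [Subgroup.mem_center_iff] at hxc ⊢
    intro g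
    obtain ⟨g', rfl⟩ := hf g
    rw [← map_mul, ← map_mul, hxc g']
  · exact Nat.Coprime.coprime_dvd_left (orderOf_map_dvd f x) hcop
  · have h1 : Subgroup.zpowers (f x) = (Subgroup.zpowers x).map f := by
      rw [MonoidHom.map_zpowers]
    have h2 : ((Subgroup.zpowers x).map f).index ∣ (Subgroup.zpowers x).index :=
      Subgroup.index_map_dvd _ hf
    rw [← h1, hk] at h2
    obtain ⟨j, _, hj⟩ := (Nat.dvd_prime_pow hq).mp h2
    exact ⟨j, hj⟩

/-- a subgroup all of whose elements have order dividing `n` has order prime to `m` -/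
theorem card_dvd_of_forall_orderOf_dvd {G : Type u} [Group G] [Finite G] {m n : ℕ}
    (hcard : Nat.card G ∣ m * n) (hcop : Nat.Coprime m n) (A : Subgroup G)
    (hA : ∀ y ∈ A, orderOf y ∣ n) : Nat.card A ∣ n := by
  have h1 : Nat.Coprime (Nat.card A) m := by
    by_contra hnc
    obtain ⟨r, hr, hrA, hrm⟩ := Nat.Prime.not_coprime_iff_dvd.mp hnc
    have : Fact r.Prime := ⟨hr⟩
    obtain ⟨y, hy⟩ := exists_prime_orderOf_dvd_card' r hrA
    have h2 : orderOf (y : G) ∣ n := hA y y.2
    rw [Subgroup.orderOf_coe, hy] at h2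
    have := Nat.dvd_gcd hrm h2
    rw [hcop] at this
    exact hr.one_lt.ne' (Nat.dvd_one.mp this)
  exact h1.dvd_of_dvd_mul_left ((Subgroup.card_subgroup_dvd_card A).trans hcard)

end elem
end Cfsg.Agent.Lib.Helper2
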