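/-
helper2: the Brauer–Suzuki theorem on normal complements of Hall subgroups (Isaacs 8.22),
via Brauer's characterization of characters.
-/
import Mathlib
import Cfsg.Prelude.Def_Characters
import Cfsg.Agent.Lib.Helper2.BrauerInd
import Cfsg.Agent.Lib.Helper2.PowerProj
import Cfsg.Agent.Lib.Helper10.GenChar
import Cfsg.Agent.Lib.Helper24.IntLemmas
import Cfsg.Agent.Lib.Helper24.Deflation

set_option autoImplicit false
open scoped ComplexConjugate
namespace Cfsg.Agent.Lib.Helper2
open Cfsg Module Cfsg.Agent.CharLib Cfsg.Agent.Lib.Helper6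
universe u

section cyc

/-- finite cyclic groups are elementary for every prime -/
theorem isElementary_of_isCyclic {p : ℕ} (hp : p.Prime) {E : Type u} [Group E] [Finite E]
    (hE : IsCyclic E) : IsElementary p E := by
  obtain ⟨c, hc⟩ := hE.exists_generator
  have hcard : orderOf c = Nat.card E := orderOf_eq_card_of_forall_mem_zpowers hc
  set N := Nat.card E with hN
  have hNpos : 0 < N := Nat.card_pos
  set a := N.factorization p with ha
  obtain ⟨N', hN'⟩ : ∃ N', N = p ^ a * N' := ⟨_, (Nat.ordProj_mul_ordCompl_eq_self N p).symm⟩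
  have hN'pos : 0 < N' := by
    rcases Nat.eq_zero_or_pos N' with h | h
    · rw [h, mul_zero] at hN'; omega
    · exact h
  have hpN' : ¬ p ∣ N' := by
    have h1 := Nat.not_dvd_ordCompl hp hNpos.ne'
    have h2 : N' = N / p ^ a := by
      rw [hN']; exact (Nat.mul_div_cancel_left N' (pow_pos hp.pos a)).symm
    rw [h2]; exact h1
  have hord : orderOf (c ^ p ^ a) = N' := by
    rw [orderOf_pow, hcard, hN']
    have : Nat.gcd (p ^ a * N') (p ^ a) = p ^ a := Nat.gcd_eq_right (dvd_mul_right _ _)
    rw [this, Nat.mul_div_cancel_left _ (pow_pos hp.pos a)]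
  refine ⟨c ^ p ^ a, ?_, ?_, a, ?_⟩
  · rw [Subgroup.mem_center_iff]
    intro g
    obtain ⟨k, rfl⟩ := Subgroup.mem_zpowers_iff.mp (hc g)
    rw [← zpow_natCast c, ← zpow_add, ← zpow_add, add_comm]
  · rw [hord]
    exact ((Nat.Prime.coprime_iff_not_dvd hp).mpr hpN').symm
  · have h1 := Subgroup.card_mul_index (Subgroup.zpowers (c ^ p ^ a))
    rw [Nat.card_zpowers, hord, ← hN, hN'] at h1
    have h2 : N' * (Subgroup.zpowers (c ^ p ^ a)).index = N' * p ^ a := by
      rw [h1]; ring
    exact Nat.eq_of_mul_eq_mul_left hN'pos h2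

end cyc

section hall
variable {G : Type u} [Group G]

/-- the data of the Brauer-Suzuki complement theorem -/
structure HallData (H : Subgroup G) (m n e : ℕ) : Prop where
  card : Nat.card G ∣ m * n
  cardH : Nat.card H = n
  cop : Nat.Coprime m n
  hm : m ∣ e
  hn : e ≡ 1 [MOD n]
  fus : ∀ x ∈ H, ∀ y ∈ H, IsConj x y → ∃ h ∈ H, h * x * h⁻¹ = y
  elem : ∀ (E : Subgroup G) (p : ℕ), p.Prime → IsElementary p E → Nat.card E ∣ Nat.card H →
    ∃ g : G, E.map (MulAut.conj g).toMonoidHom ≤ H

variable {H : Subgroup G} {m n e : ℕ}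

theorem HallData.exists_conj_mem [Finite G] (D : HallData H m n e) (x : G) :
    ∃ h : H, IsConj (x ^ e) (h : G) := by
  have hcyc : IsCyclic (Subgroup.zpowers (x ^ e)) := inferInstance
  have hel : IsElementary 2 (Subgroup.zpowers (x ^ e)) :=
    isElementary_of_isCyclic Nat.prime_two hcyc
  have hcard : Nat.card (Subgroup.zpowers (x ^ e)) ∣ Nat.card H := by
    rw [Nat.card_zpowers, D.cardH]
    exact orderOf_pow_dvd_of_card D.card D.hm x
  obtain ⟨g, hg⟩ := D.elem _ 2 Nat.prime_two hel hcard
  have hmem : g * x ^ e * g⁻¹ ∈ H := by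
    apply hg
    exact ⟨x ^ e, Subgroup.mem_zpowers _, by simp [MulAut.conj_apply]⟩
  exact ⟨⟨_, hmem⟩, isConj_iff.mpr ⟨g, rfl⟩⟩

theorem HallData.isConj_of_isConj (D : HallData H m n e) {a b : H}
    (hab : IsConj (a : G) (b : G)) : IsConj a b := by
  obtain ⟨h, hh, hconj⟩ := D.fus a a.2 b b.2 hab
  exact isConj_iff.mpr ⟨⟨h, hh⟩, Subtype.ext (by simpa using hconj)⟩

/-- the lift of a function on `H` to `G` along a choice of conjugates of `n`-parts -/
def tilde (c : G → H) (φ : H → ℂ) : G → ℂ := fun x => φ (c x)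

variable {c : G → H}

theorem HallData.tilde_congr (D : HallData H m n e) (hc : ∀ x, IsConj (x ^ e) (c x : G))
    {φ : H → ℂ} (hφ : IsClassFunction H φ) {x y : G} (hxy : IsConj (x ^ e) (y ^ e)) :
    tilde c φ x = tilde c φ y := by
  have h1 : IsConj ((c x : H) : G) ((c y : H) : G) :=
    ((hc x).symm.trans hxy).trans (hc y)
  exact IsClassFunction.of_isConj hφ (D.isConj_of_isConj h1)

theorem HallData.tilde_eq_of_isConj (D : HallData H m n e) (hc : ∀ x, IsConj (x ^ e) (c x : G))
    {φ : H → ℂ} (hφ : IsClassFunction H φ) {x : G} {h : H} (hxh : IsConj (x ^ e) (h : G)) :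
    tilde c φ x = φ h := by
  have h1 : IsConj ((c x : H) : G) (h : G) := (hc x).symm.trans hxh
  exact IsClassFunction.of_isConj hφ (D.isConj_of_isConj h1)

theorem HallData.tilde_isClassFunction (D : HallData H m n e)
    (hc : ∀ x, IsConj (x ^ e) (c x : G)) {φ : H → ℂ} (hφ : IsClassFunction H φ) :
    IsClassFunction G (tilde c φ) := by
  intro x y
  apply D.tilde_congr hc hφ
  have h1 : (y * x * y⁻¹) ^ e = y * x ^ e * y⁻¹ := conj_pow
  rw [h1]
  exact (isConj_iff.mpr ⟨y, rfl⟩ : IsConj (x ^ e) (y * x ^ e * y⁻¹)).symm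

theorem HallData.tilde_coe [Finite G] (D : HallData H m n e) (hc : ∀ x, IsConj (x ^ e) (c x : G))
    {φ : H → ℂ} (hφ : IsClassFunction H φ) (h : H) : tilde c φ (h : G) = φ h := by
  apply D.tilde_eq_of_isConj hc hφ
  have h1 : orderOf (h : G) ∣ n := by
    rw [Subgroup.orderOf_coe, ← D.cardH]
    exact orderOf_dvd_natCard h
  rw [pow_eq_self_of_orderOf_dvd D.hn h1]

theorem HallData.tilde_one (D : HallData H m n e) (hc : ∀ x, IsConj (x ^ e) (c x : G))
    {φ : H → ℂ} (hφ : IsClassFunction H φ) : tilde c φ 1 = φ 1 := by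
  apply D.tilde_eq_of_isConj hc hφ
  rw [one_pow]
  exact IsConj.refl _

/-- the lift of a character restricts to a character on every elementary subgroup -/
theorem HallData.tilde_restrict_isCharacter [Finite G] (D : HallData H m n e)
    (hc : ∀ x, IsConj (x ^ e) (c x : G)) {ψ : H → ℂ} (hψ : IsCharacter H ψ)
    (E : Subgroup G) {q : ℕ} (hq : q.Prime) (hE : IsElementary q E) :
    IsCharacter E (fun x : E => tilde c ψ x) := by
  have hcardE : Nat.card E ∣ m * n := (Subgroup.card_subgroup_dvd_card E).trans D.card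
  let f : E →* E := powHom hq hE hcardE D.cop D.hm D.hn
  -- the image of f in G
  let A : Subgroup G := f.range.map E.subtype
  have hAel : IsElementary q A := by
    have h1 : IsElementary q f.range :=
      isElementary_of_surjective hq f.rangeRestrict f.rangeRestrict_surjective hE
    exact isElementary_of_mulEquiv
      (f.range.equivMapOfInjective E.subtype E.subtype_injective) h1
  have hAcard : Nat.card A ∣ Nat.card H := by
    rw [D.cardH, Subgroup.card_map_of_injective E.subtype_injective]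
    apply card_dvd_of_forall_orderOf_dvd hcardE D.cop
    rintro _ ⟨x, rfl⟩
    exact orderOf_pow_dvd_of_card hcardE D.hm x
  obtain ⟨g, hg⟩ := D.elem A q hq hAel hAcard
  have hmem : ∀ x : E, (MulAut.conj g).toMonoidHom.comp (E.subtype.comp f) x ∈ H := by
    intro x
    apply hg
    exact ⟨(f x : G), ⟨f x, ⟨x, rfl⟩, rfl⟩, rfl⟩
  let κ : E →* H := ((MulAut.conj g).toMonoidHom.comp (E.subtype.comp f)).codRestrict H hmem
  have hκ : ∀ x : E, ((κ x : H) : G) = g * (x : G) ^ e * g⁻¹ := by
    intro x
    show (MulAut.conj g) ((f x : E) : G) = _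
    rw [MulAut.conj_apply, powHom_apply]
    push_cast
    rfl
  have hcf : IsClassFunction H ψ := IsCharacter.isClassFunction hψ
  have heq : (fun x : E => tilde c ψ x) = ψ ∘ κ := by
    funext x
    apply D.tilde_eq_of_isConj hc hcf
    rw [hκ]
    exact isConj_iff.mpr ⟨g, rfl⟩
  rw [heq]
  exact IsCharacter.comp_hom hψ κ

/-- the lift of a character is a generalized character -/
theorem HallData.tilde_isGenChar [Fintype G] (D : HallData H m n e)
    (hc : ∀ x, IsConj (x ^ e) (c x : G)) {ψ : H → ℂ} (hψ : IsCharacter H ψ) :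
    IsGeneralizedCharacter G (tilde c ψ) := by
  apply brauer_characterization
    (D.tilde_isClassFunction hc (IsCharacter.isClassFunction hψ))
  intro E q hq hE
  exact isGenChar_of_isCharacter (D.tilde_restrict_isCharacter hc hψ E hq hE)

/-- the key identity: the average of a lifted class function over `G` is its average over `H` -/
theorem HallData.classInner_tilde_one [Fintype G] [Fintype H] (D : HallData H m n e)
    (hc : ∀ x, IsConj (x ^ e) (c x : G)) {φ : H → ℂ} (hφ : IsClassFunction H φ) :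
    classInner (tilde c φ) (1 : G → ℂ) = (Nat.card H : ℂ)⁻¹ * ∑ h : H, φ h := by
  classical
  let _ := fintypeIrr H
  have hGne : (Nat.card G : ℂ) ≠ 0 := card_ne_zero_complex
  have hHne : (Nat.card H : ℂ) ≠ 0 := card_ne_zero_complex
  have hL : ∀ ψ : IrrCharacter H, ∃ a : ℤ, classInner (tilde c (ψ : H → ℂ)) (1 : G → ℂ) = a :=
    fun ψ => Cfsg.Agent.Lib.Helper10.genChar_classInner_int
      (D.tilde_isGenChar hc (IsIrrCharacter.isCharacter ψ.2)) isCharacter_one
  choose L hL using hL
  have hL' : ∀ ψ : IrrCharacter H, (Nat.card G : ℂ) * (L ψ : ℂ) = ∑ x : G, (ψ : H → ℂ) (c x) := by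
    intro ψ
    rw [← hL ψ]
    unfold classInner tilde
    rw [← mul_assoc, mul_inv_cancel₀ hGne, one_mul]
    apply Finset.sum_congr rfl
    intro x _
    simp
  set ω : H → ℂ := fun h => ∑ ψ : IrrCharacter H, (L ψ : ℂ) * conj ((ψ : H → ℂ) h) with hω
  -- formula for ω
  have hω1 : ∀ h : H, (Nat.card G : ℂ) * ω h =
      (Nat.card {x : G // IsConj (c x) h} : ℂ) *
        (Nat.card (Subgroup.centralizer ({h} : Set H)) : ℂ) := by
    intro h
    rw [hω]
    simp only
    rw [Finset.mul_sum]
    simp_rw [← mul_assoc, hL', Finset.sum_mul]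
    rw [Finset.sum_comm]
    simp_rw [sum_irr_mul_conj]
    rw [← Finset.sum_mul]
    congr 1
    unfold classIndicator
    rw [Nat.card_eq_fintype_card, Fintype.card_subtype]
    simp
  have hωint : ∀ h : H, IsIntegral ℤ (ω h) := by
    intro h
    apply IsIntegral.sum
    intro ψ _
    apply IsIntegral.mul
    · have := isIntegral_algebraMap (R := ℤ) (A := ℂ) (x := L ψ)
      simpa using this
    · obtain ⟨d, σ, hσ, hσψ⟩ := ψ.2
      have : conj ((ψ : H → ℂ) h) = (ψ : H → ℂ) h⁻¹ := by
        rw [IsCharacter.apply_inv (IsIrrCharacter.isCharacter ψ.2)]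
      rw [this, ← hσψ]
      exact isIntegral_char σ _
  have hk : ∀ h : H, ∃ k : ℕ, 1 ≤ k ∧ ω h = k := by
    intro h
    have hGpos : 0 < Nat.card G := Nat.card_pos
    have h1 := hω1 h
    have hdvd : Nat.card G ∣ Nat.card {x : G // IsConj (c x) h} *
        Nat.card (Subgroup.centralizer ({h} : Set H)) := by
      apply Cfsg.Agent.Lib.Helper24.nat_dvd_of_eq_mul_isIntegral hGpos (hωint h)
      push_cast
      exact h1.symm
    obtain ⟨k, hk⟩ := hdvd
    refine ⟨k, ?_, ?_⟩
    · rcases Nat.eq_zero_or_pos k with h0 | hpos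
      · exfalso
        rw [h0, mul_zero] at hk
        have hN : 0 < Nat.card {x : G // IsConj (c x) h} := by
          rw [Nat.card_pos_iff]
          refine ⟨⟨⟨(h : G), ?_⟩⟩, inferInstance⟩
          apply D.isConj_of_isConj
          have h2 : orderOf (h : G) ∣ n := by
            rw [Subgroup.orderOf_coe, ← D.cardH]
            exact orderOf_dvd_natCard h
          have h3 := hc (h : G)
          rw [pow_eq_self_of_orderOf_dvd D.hn h2] at h3
          exact h3.symm
        have hC : 0 < Nat.card (Subgroup.centralizer ({h} : Set H)) := Nat.card_pos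
        have := Nat.mul_pos hN hC
        omega
      · exact hpos
    · have h2 : (Nat.card G : ℂ) * ω h = (Nat.card G : ℂ) * k := by
        rw [h1]
        exact_mod_cast hk
      exact mul_left_cancel₀ hGne h2
  -- the sum of ω
  let ψ₀ : IrrCharacter H := ⟨fun _ => 1, IsCharacter.isIrrCharacter_of_apply_one isCharacter_one rfl⟩
  have hL0 : (L ψ₀ : ℂ) = 1 := by
    rw [← hL ψ₀]
    have h1 : tilde c ((ψ₀ : IrrCharacter H) : H → ℂ) = (1 : G → ℂ) := rfl
    rw [h1]
    have hone : IsIrrCharacter G (1 : G → ℂ) :=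
      IsCharacter.isIrrCharacter_of_apply_one isCharacter_one rfl
    rw [classInner_irr hone hone, if_pos rfl]
  have hsumψ : ∀ ψ : IrrCharacter H, ∑ h : H, conj ((ψ : H → ℂ) h) =
      if ψ = ψ₀ then (Nat.card H : ℂ) else 0 := by
    intro ψ
    have h1 := classInner_irr ψ₀.2 ψ.2
    unfold classInner at h1
    have h2 : ∑ g : H, (ψ₀ : H → ℂ) g * conj ((ψ : H → ℂ) g) = ∑ h : H, conj ((ψ : H → ℂ) h) := by
      apply Finset.sum_congr rfl
      intro g _
      show (1 : ℂ) * _ = _
      rw [one_mul]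
    rw [h2] at h1
    by_cases hψ : ψ = ψ₀
    · rw [if_pos hψ]
      have h3 : (ψ₀ : H → ℂ) = (ψ : H → ℂ) := by rw [hψ]
      rw [if_pos h3] at h1
      field_simp at h1
      exact h1
    · rw [if_neg hψ]
      have h3 : ¬ (ψ₀ : H → ℂ) = (ψ : H → ℂ) := fun h => hψ (Subtype.ext h.symm)
      rw [if_neg h3] at h1
      rcases mul_eq_zero.mp h1 with h4 | h4
      · exact absurd (inv_eq_zero.mp h4) hHne
      · exact h4
  have hsum : ∑ h : H, ω h = (Nat.card H : ℂ) := by
    rw [hω]
    simp only
    rw [Finset.sum_comm]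
    simp_rw [← Finset.mul_sum, hsumψ]
    rw [Finset.sum_eq_single ψ₀]
    · rw [if_pos rfl, hL0, one_mul]
    · intro ψ _ hψ
      rw [if_neg hψ, mul_zero]
    · intro h; exact absurd (Finset.mem_univ _) h
  -- all values are one
  choose k hk1 hkω using hk
  have hksum : ∑ h : H, k h = Nat.card H := by
    have : ((∑ h : H, k h : ℕ) : ℂ) = (Nat.card H : ℂ) := by
      rw [← hsum]
      push_cast
      apply Finset.sum_congr rfl
      intro h _
      rw [hkω]
    exact_mod_cast this
  have hk_eq : ∀ h : H, k h = 1 := by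
    by_contra hne
    push Not at hne
    obtain ⟨h₀, hh₀⟩ := hne
    have hlt : ∑ h : H, 1 < ∑ h : H, k h := by
      apply Finset.sum_lt_sum
      · intro h _; exact hk1 h
      · exact ⟨h₀, Finset.mem_univ _, lt_of_le_of_ne (hk1 h₀) (Ne.symm hh₀)⟩
    rw [hksum, Finset.sum_const, Finset.card_univ, smul_eq_mul, mul_one,
      Nat.card_eq_fintype_card] at hlt
    exact lt_irrefl _ hlt
  have hω_one : ∀ h : H, ω h = 1 := by
    intro h
    rw [hkω, hk_eq]
    simp
  -- expansion of φ
  have hexp := classFunction_eq_sum hφ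
  have h1 : tilde c φ = ∑ ψ : IrrCharacter H, classInner φ (ψ : H → ℂ) • tilde c (ψ : H → ℂ) := by
    funext x
    have := congrFun hexp (c x)
    rw [Finset.sum_apply] at this ⊢
    exact this
  rw [h1, classInner_sum_left]
  simp_rw [classInner_smul_left, hL]
  -- the other side
  have h2 : ∑ h : H, φ h = ∑ h : H, φ h * ω h := by
    apply Finset.sum_congr rfl
    intro h _
    rw [hω_one, mul_one]
  rw [h2, hω]
  simp only
  simp_rw [Finset.mul_sum]
  rw [Finset.sum_comm]
  apply Finset.sum_congr rfl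
  intro ψ _
  unfold classInner
  rw [Finset.mul_sum, Finset.sum_mul]
  apply Finset.sum_congr rfl
  intro h _
  ring

/-- the lift of an irreducible character is irreducible -/
theorem HallData.tilde_isIrrCharacter [Fintype G] [Fintype H] (D : HallData H m n e)
    (hc : ∀ x, IsConj (x ^ e) (c x : G)) {ψ : H → ℂ} (hψ : IsIrrCharacter H ψ) :
    IsIrrCharacter G (tilde c ψ) := by
  have hψc : IsCharacter H ψ := IsIrrCharacter.isCharacter hψ
  have hcf : IsClassFunction H ψ := IsCharacter.isClassFunction hψc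
  have hgen := D.tilde_isGenChar hc hψc
  have hcf2 : IsClassFunction H (fun h => ψ h * conj (ψ h)) := by
    intro g h
    show ψ (h * g * h⁻¹) * conj (ψ (h * g * h⁻¹)) = ψ g * conj (ψ g)
    rw [hcf g h]
  have hnorm : classInner (tilde c ψ) (tilde c ψ) = 1 := by
    have h1 : classInner (tilde c ψ) (tilde c ψ) =
        classInner (tilde c (fun h => ψ h * conj (ψ h))) (1 : G → ℂ) := by
      unfold classInner tilde
      congr 1
      apply Finset.sum_congr rfl
      intro x _
      simp
    rw [h1, D.classInner_tilde_one hc hcf2]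
    have h2 := classInner_irr hψ hψ
    rw [if_pos rfl] at h2
    exact h2
  obtain ⟨ε, hε, hirr⟩ := Cfsg.Agent.Lib.Helper10.genChar_norm_one hgen hnorm
  rcases hε with rfl | rfl
  · rwa [one_smul] at hirr
  · exfalso
    obtain ⟨k, hk, hk1⟩ := IsIrrCharacter.apply_one_pos hirr
    obtain ⟨k', hk', hk1'⟩ := IsIrrCharacter.apply_one_pos hψ
    rw [Pi.smul_apply, D.tilde_one hc hcf, hk1', smul_eq_mul] at hk1
    have h3 : ((-(k' : ℤ) : ℤ) : ℂ) = ((k : ℤ) : ℂ) := by
      push_cast
      rw [← hk1]; ring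
    have h4 : -(k' : ℤ) = (k : ℤ) := by exact_mod_cast h3
    omega

/-- irreducible characters separate the identity -/
theorem eq_one_of_forall_irr_apply_eq {A : Type u} [Group A] [Fintype A]
    (h : A) (hh : ∀ ψ : IrrCharacter A, (ψ : A → ℂ) h = (ψ : A → ℂ) 1) : h = 1 := by
  classical
  let _ := fintypeIrr A
  have h1 := sum_irr_mul_conj h (1 : A)
  have h2 := sum_irr_mul_conj (1 : A) (1 : A)
  simp_rw [hh] at h1
  rw [h1] at h2
  unfold classIndicator at h2
  rw [if_pos (IsConj.refl 1)] at h2
  by_contra hne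
  have hnc : ¬ IsConj h 1 := by
    intro hc
    exact hne (isConj_one_right.mp hc.symm)
  rw [if_neg hnc, zero_mul, one_mul] at h2
  have : (0 : ℂ) ≠ (Nat.card (Subgroup.centralizer ({(1 : A)} : Set A)) : ℂ) := by
    have hpos : 0 < Nat.card (Subgroup.centralizer ({(1 : A)} : Set A)) := Nat.card_pos
    exact_mod_cast hpos.ne
  exact this h2

end hall

/-- **Brauer–Suzuki**: a Hall subgroup controlling its own fusion into which every elementary
subgroup of suitable order can be conjugated has a normal complement -/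
theorem exists_normal_complement_of_hall {G : Type u} [Group G] [Finite G] (H : Subgroup G)
    (hHall : Nat.Coprime (Nat.card H) H.index)
    (hfus : ∀ x ∈ H, ∀ y ∈ H, IsConj x y → ∃ h ∈ H, h * x * h⁻¹ = y)
    (helem : ∀ (E : Subgroup G) (p : ℕ), p.Prime → IsElementary p E → Nat.card E ∣ Nat.card H →
      ∃ g : G, E.map (MulAut.conj g).toMonoidHom ≤ H) :
    ∃ K : Subgroup G, K.Normal ∧ K ⊔ H = ⊤ ∧ K ⊓ H = ⊥ := by
  classical
  have hFG : Fintype G := Fintype.ofFinite G
  have hFH : Fintype H := Fintype.ofFinite H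
  set m := H.index with hm
  set n := Nat.card H with hn
  have hcop : Nat.Coprime m n := hHall.symm
  obtain ⟨e, he1, he2⟩ := Nat.chineseRemainder hcop 0 1
  have hme : m ∣ e := (Nat.modEq_zero_iff_dvd).mp he1
  have hcard : Nat.card G ∣ m * n := by rw [hm, hn, Subgroup.index_mul_card]
  have D : HallData H m n e := ⟨hcard, rfl, hcop, hme, he2, hfus, helem⟩
  choose c hc using D.exists_conj_mem
  -- the irreducible lifts
  have hirr : ∀ ψ : IrrCharacter H, IsIrrCharacter G (tilde c (ψ : H → ℂ)) :=
    fun ψ => D.tilde_isIrrCharacter hc ψ.2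
  choose d ρ hρirr hρ using hirr
  let K : Subgroup G := ⨅ ψ : IrrCharacter H, MonoidHom.ker (ρ ψ)
  have hKn : K.Normal := Subgroup.normal_iInf_normal (fun ψ => MonoidHom.normal_ker _)
  have hKmem : ∀ x : G, x ∈ K ↔ x ^ e = 1 := by
    intro x
    rw [Subgroup.mem_iInf]
    constructor
    · intro hx
      have h1 : ∀ ψ : IrrCharacter H, (ψ : H → ℂ) (c x) = (ψ : H → ℂ) 1 := by
        intro ψ
        have hcf : IsClassFunction H (ψ : H → ℂ) :=
          IsCharacter.isClassFunction (IsIrrCharacter.isCharacter ψ.2)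
        have h2 : ρ ψ x = 1 := MonoidHom.mem_ker.mp (hx ψ)
        have h3 : (ρ ψ).character x = (ρ ψ).character 1 := by
          unfold Representation.character
          rw [h2, (ρ ψ).map_one]
        rw [hρ ψ] at h3
        rw [D.tilde_one hc hcf] at h3
        exact h3
      have h4 := eq_one_of_forall_irr_apply_eq (c x) h1
      have h5 := hc x
      rw [h4] at h5
      exact isConj_one_right.mp h5.symm
    · intro hx ψ
      rw [MonoidHom.mem_ker]
      have hcf : IsClassFunction H (ψ : H → ℂ) :=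
        IsCharacter.isClassFunction (IsIrrCharacter.isCharacter ψ.2)
      apply Cfsg.Agent.Lib.Helper24.rep_eq_one_of_char_eq_finrank
      have h1 : tilde c (ψ : H → ℂ) x = (ψ : H → ℂ) 1 := by
        apply D.tilde_eq_of_isConj hc hcf
        rw [hx]
        exact IsConj.refl _
      have h2 := (ρ ψ).char_one
      rw [hρ ψ, D.tilde_one hc hcf] at h2
      rw [hρ ψ, h1, h2]
  refine ⟨K, hKn, ?_, ?_⟩
  · -- K ⊔ H = ⊤
    rw [← Subgroup.index_eq_one]
    have h1 : (K ⊔ H).index ∣ m := Subgroup.index_dvd_of_le le_sup_right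
    have h2 : (K ⊔ H).index ∣ K.index := Subgroup.index_dvd_of_le le_sup_left
    have h3 : K.index ∣ n := by
      have hq : Nat.card (G ⧸ K) ∣ m * n :=
        (Subgroup.card_quotient_dvd_card K).trans hcard
      have h4 := card_dvd_of_forall_orderOf_dvd hq hcop (⊤ : Subgroup (G ⧸ K)) (by
        intro y _
        obtain ⟨x, rfl⟩ := QuotientGroup.mk_surjective y
        obtain ⟨u, hxu, _, hu⟩ := exists_commuting_decomp hcard hme he2 hcop x
        have huK : u ∈ K := by
          rw [hKmem]
          exact pow_eq_one_of_orderOf_dvd' hme hu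
        have h5 : (QuotientGroup.mk x : G ⧸ K) = QuotientGroup.mk (x ^ e) := by
          nth_rewrite 1 [hxu]
          rw [QuotientGroup.mk_mul, (QuotientGroup.eq_one_iff u).mpr huK, one_mul]
        rw [h5]
        exact (orderOf_map_dvd (QuotientGroup.mk' K) (x ^ e)).trans
          (orderOf_pow_dvd_of_card hcard hme x))
      rw [Subgroup.card_top] at h4
      exact h4
    have h6 := Nat.dvd_gcd h1 (h2.trans h3)
    rw [hcop] at h6
    exact Nat.dvd_one.mp h6
  · -- K ⊓ H = ⊥
    rw [eq_bot_iff]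
    rintro x ⟨hxK, hxH⟩
    rw [Subgroup.mem_bot]
    have h1 : x ^ e = 1 := (hKmem x).mp hxK
    have h2 : orderOf x ∣ n := by
      have := orderOf_dvd_natCard (⟨x, hxH⟩ : H)
      rwa [Subgroup.orderOf_mk] at this
    rw [pow_eq_self_of_orderOf_dvd he2 h2] at h1
    exact h1

end Cfsg.Agent.Lib.Helper2
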