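import Mathlib
import Cfsg.Agent.Lib.Helper21.Frobenius

/-!
S4257 market (helper26), package CAM: Camina's lemma.  If every `u'`-element of a finite group `K` centralises some Sylow
`u`-subgroup of `K`, then every `u`-element commutes with every `u'`-element.
-/

set_option autoImplicit false

namespace Cfsg.Agent.Lib.Helper2.CSD

open Finset

/-- an element is determined by its `A`-th power if it is killed by `m` coprime to `A` -/
lemma eq_of_pow_eq_of_coprime {K : Type*} [Group K] {A m : ℕ} (hAm : Nat.Coprime A m) {w w' : K}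
    (hw : w ^ m = 1) (hw' : w' ^ m = 1) (h : w ^ A = w' ^ A) : w = w' := by
  have hb : ((Nat.gcd A m : ℕ) : ℤ) = A * Nat.gcdA A m + m * Nat.gcdB A m := Nat.gcd_eq_gcd_ab A m
  rw [hAm] at hb
  have key : ∀ v : K, v ^ m = 1 → v = (v ^ A) ^ (Nat.gcdA A m) := by
    intro v hv
    have h1 : v = v ^ ((A : ℤ) * Nat.gcdA A m + m * Nat.gcdB A m) := by
      rw [← hb]; simp
    rw [zpow_add, zpow_mul, zpow_mul, zpow_natCast, zpow_natCast, hv, one_zpow, mul_one] at h1
    exact h1
  rw [key w hw, key w' hw', h]

theorem camina_commute {K : Type*} [Group K] [Finite K] (u : ℕ) [Fact u.Prime]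
    (hyp : ∀ h : K, (orderOf h).Coprime u → ∃ R : Sylow u K, ∀ r ∈ R, Commute r h)
    (r h : K) (hr : ∃ j : ℕ, orderOf r = u ^ j) (hh : (orderOf h).Coprime u) : Commute r h := by
  classical
  have : Fintype K := Fintype.ofFinite K
  have hu : u.Prime := Fact.out
  -- the order of `K`
  obtain ⟨a, ha⟩ : ∃ a : ℕ, a = (Nat.card K).factorization u := ⟨_, rfl⟩
  obtain ⟨m, hm⟩ : ∃ m : ℕ, m = Nat.card K / u ^ a := ⟨_, rfl⟩
  have hK0 : Nat.card K ≠ 0 := Nat.card_pos.ne'
  have hcard : u ^ a * m = Nat.card K := by
    rw [hm, ha]; exact Nat.ordProj_mul_ordCompl_eq_self _ _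
  have hcop : Nat.Coprime (u ^ a) m := by
    rw [hm, ha]
    exact Nat.Coprime.pow_left _ (Nat.coprime_ordCompl hu hK0)
  have hm0 : 0 < m := by
    rcases Nat.eq_zero_or_pos m with h0 | h0
    · rw [h0, mul_zero] at hcard; exact absurd hcard.symm hK0
    · exact h0
  have hRcard : ∀ R : Sylow u K, Nat.card R = u ^ a := by
    intro R; rw [ha]; exact R.card_eq_multiplicity
  -- the number of Sylow subgroups
  have : Fintype (Sylow u K) := Fintype.ofFinite _
  obtain ⟨n, hn⟩ : ∃ n : ℕ, n = Fintype.card (Sylow u K) := ⟨_, rfl⟩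
  have hn' : n = Nat.card (Sylow u K) := by rw [hn, Nat.card_eq_fintype_card]
  have hn0 : 0 < n := by
    rw [hn]; exact Fintype.card_pos
  -- the sets `E`, `W R`
  set E : Finset K := univ.filter (fun h => h ^ m = 1) with hE
  set W : Sylow u K → Finset K := fun R => univ.filter (fun h => h ^ m = 1 ∧ ∀ r ∈ R, Commute r h)
    with hW
  have h1E : (1 : K) ∈ E := by simp [hE]
  have h1W : ∀ R, (1 : K) ∈ W R := by intro R; simp [hW]
  -- Frobenius
  have hFrob : m ≤ E.card := by
    have hdvd := Cfsg.Agent.Lib.Helper21.frobenius_dvd_card_pow_eq_one (G := K) m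
      (Dvd.intro_left _ hcard)
    have hEc : Nat.card {g : K // g ^ m = 1} = E.card := by
      rw [Nat.card_eq_fintype_card, Fintype.card_subtype, hE]
    rw [hEc] at hdvd
    exact Nat.le_of_dvd (Finset.card_pos.mpr ⟨1, h1E⟩) hdvd
  -- `u'`-elements
  have hcopE : ∀ g : K, g ^ m = 1 → (orderOf g).Coprime u := by
    intro g hg
    have hd : orderOf g ∣ m := orderOf_dvd_of_pow_eq_one hg
    rcases Nat.eq_zero_or_pos a with ha0 | ha0
    · -- `u ∤ |K|`
      have : Nat.Coprime m u := by
        have hmK : m = Nat.card K := by rw [← hcard, ha0, pow_zero, one_mul]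
        rw [hmK]
        have := (Nat.factorization_eq_zero_iff (Nat.card K) u).mp (by rw [← ha]; exact ha0)
        rcases this with h | h | h
        · exact absurd hu h
        · exact ((Nat.Prime.coprime_iff_not_dvd hu).mpr h).symm
        · exact absurd h hK0
      exact Nat.Coprime.coprime_dvd_left hd this
    · have : Nat.Coprime m u := by
        have := hcop.symm
        exact (Nat.coprime_pow_right_iff ha0 _ _).mp this
      exact Nat.Coprime.coprime_dvd_left hd this
  -- Claim 1
  have hclaim1 : ∀ R : Sylow u K, (W R).card * n ≤ m := by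
    intro R
    set Rf : Finset K := univ.filter (fun x => x ∈ (R : Subgroup K)) with hRf
    set Nf : Finset K := univ.filter (fun x => x ∈ Subgroup.normalizer ((R : Subgroup K) : Set K)) with hNf
    have hRfc : Rf.card = u ^ a := by
      rw [← hRcard R, Nat.card_eq_fintype_card, Fintype.card_subtype, hRf]
    have hNfc : Nf.card = Nat.card (Subgroup.normalizer ((R : Subgroup K) : Set K)) := by
      rw [Nat.card_eq_fintype_card, Fintype.card_subtype, hNf]
    have hinj : ((W R) ×ˢ Rf).card ≤ Nf.card := by
      apply Finset.card_le_card_of_injOn (fun p => p.1 * p.2)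
      · rintro ⟨w, x⟩ hp
        simp only [Finset.coe_product, Set.mem_prod, Finset.mem_coe] at hp
        obtain ⟨hw, hx⟩ := hp
        simp only [hW, hRf, Finset.mem_filter, Finset.mem_univ, true_and] at hw hx
        simp only [hNf, Finset.coe_filter, Finset.mem_univ, true_and, Set.mem_ofPred_eq]
        apply Subgroup.mul_mem
        · apply Subgroup.centralizer_le_normalizer
          rw [Subgroup.mem_centralizer_iff]
          intro y hy
          exact (hw.2 y hy).eq
        · exact Subgroup.le_normalizer hx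
      · rintro ⟨w, x⟩ hp ⟨w', x'⟩ hp' heq
        simp only [Finset.coe_product, Set.mem_prod, Finset.mem_coe] at hp hp'
        obtain ⟨hw, hx⟩ := hp
        obtain ⟨hw', hx'⟩ := hp'
        simp only [hW, hRf, Finset.mem_filter, Finset.mem_univ, true_and] at hw hx hw' hx'
        simp only at heq
        have hxp : ∀ y ∈ (R : Subgroup K), y ^ (u ^ a) = 1 := by
          intro y hy
          have := pow_card_eq_one' (G := (R : Subgroup K)) (x := ⟨y, hy⟩)
          rw [hRcard R] at this
          have h2 := congrArg Subtype.val this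
          simpa using h2
        have e1 : (w * x) ^ (u ^ a) = w ^ (u ^ a) := by
          rw [(hw.2 x hx).symm.mul_pow, hxp x hx, mul_one]
        have e2 : (w' * x') ^ (u ^ a) = w' ^ (u ^ a) := by
          rw [(hw'.2 x' hx').symm.mul_pow, hxp x' hx', mul_one]
        have hww : w = w' := by
          apply eq_of_pow_eq_of_coprime hcop hw.1 hw'.1
          rw [← e1, ← e2, heq]
        subst hww
        have hxx : x = x' := mul_left_cancel heq
        rw [hxx]
    rw [Finset.card_product, hRfc, hNfc] at hinj
    have hidx : Nat.card (Subgroup.normalizer ((R : Subgroup K) : Set K)) * n = u ^ a * m := by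
      rw [hn', R.card_eq_index_normalizer, hcard]
      exact Subgroup.card_mul_index _
    have hpos : 0 < u ^ a := pos_of_ne_zero (pow_ne_zero _ hu.ne_zero)
    have : (W R).card * n * u ^ a ≤ m * u ^ a := by
      calc (W R).card * n * u ^ a = (W R).card * u ^ a * n := by ring
        _ ≤ Nat.card (Subgroup.normalizer ((R : Subgroup K) : Set K)) * n :=
            Nat.mul_le_mul_right _ hinj
        _ = m * u ^ a := by rw [hidx]; ring
    exact Nat.le_of_mul_le_mul_right this hpos
  -- Claim 2
  have hcover : E.erase 1 ⊆ (univ : Finset (Sylow u K)).biUnion (fun R => (W R).erase 1) := by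
    intro g hg
    rw [Finset.mem_erase] at hg
    obtain ⟨hg1, hgE⟩ := hg
    simp only [hE, Finset.mem_filter, Finset.mem_univ, true_and] at hgE
    obtain ⟨R, hR⟩ := hyp g (hcopE g hgE)
    rw [Finset.mem_biUnion]
    refine ⟨R, Finset.mem_univ _, ?_⟩
    rw [Finset.mem_erase]
    refine ⟨hg1, ?_⟩
    simp only [hW, Finset.mem_filter, Finset.mem_univ, true_and]
    exact ⟨hgE, hR⟩
  have hsum : E.card - 1 ≤ ∑ R : Sylow u K, ((W R).card - 1) := by
    have h1 := Finset.card_le_card hcover
    have h2 := Finset.card_biUnion_le (s := (univ : Finset (Sylow u K)))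
      (t := fun R => (W R).erase 1)
    rw [Finset.card_erase_of_mem h1E] at h1
    refine h1.trans (h2.trans ?_)
    apply Finset.sum_le_sum
    intro R _
    rw [Finset.card_erase_of_mem (h1W R)]
  have hsum2 : n * (∑ R : Sylow u K, ((W R).card - 1)) + n * n ≤ n * m := by
    have h3 : ∀ R : Sylow u K, n * ((W R).card - 1) + n ≤ m := by
      intro R
      have h4 := hclaim1 R
      have h5 : 1 ≤ (W R).card := Finset.card_pos.mpr ⟨1, h1W R⟩
      have : n * ((W R).card - 1) + n = (W R).card * n := by
        obtain ⟨k, hk⟩ := Nat.exists_eq_add_of_le h5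
        rw [hk]; simp; ring
      rw [this]; exact h4
    have h6 : ∑ R : Sylow u K, (n * ((W R).card - 1) + n) ≤ ∑ _R : Sylow u K, m :=
      Finset.sum_le_sum (fun R _ => h3 R)
    rw [Finset.sum_add_distrib, Finset.sum_const, Finset.sum_const, Finset.card_univ, ← hn,
      smul_eq_mul, smul_eq_mul, ← Finset.mul_sum] at h6
    exact h6
  have hn1 : n = 1 := by
    have h7 : (∑ R : Sylow u K, ((W R).card - 1)) + n ≤ m := by
      have : n * ((∑ R : Sylow u K, ((W R).card - 1)) + n) ≤ n * m := by
        rw [mul_add]; exact hsum2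
      exact Nat.le_of_mul_le_mul_left this hn0
    omega
  -- unique Sylow subgroup
  have : Subsingleton (Sylow u K) := by
    rw [← Fintype.card_le_one_iff_subsingleton, ← hn, hn1]
  obtain ⟨R, hR⟩ := hyp h hh
  obtain ⟨j, hj⟩ := hr
  have hP : IsPGroup u (Subgroup.zpowers r) := by
    apply IsPGroup.of_card (n := j)
    rw [Nat.card_zpowers, hj]
  obtain ⟨Q, hQ⟩ := hP.exists_le_sylow
  have hQR : Q = R := Subsingleton.elim _ _
  apply hR
  rw [← hQR]
  exact hQ (Subgroup.mem_zpowers r)

end Cfsg.Agent.Lib.Helper2.CSD
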