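import Mathlib
import Cfsg.Agent.Lib.Helper2.SLGen

/-!
# helper2: a pair of `SL₂`-subgroups with commuting central involutions generating `(P)SL₃(F)` is
the standard pair of fundamental `SL₂`'s (`F` finite of odd order)

Prepared for S3353 (Curtis-Tits recognition of `E₆, E₇, E₈`, GLS form) on top of S3712.

Main statement `exists_standard_pair`: `κ : SL₃(F) →* K` surjective with central kernel,
`L₁ L₂ ≤ K` each isomorphic to `SL₂(F)`, `z_i` a non-trivial involution centralizing `L_i`,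
`z₁ z₂ = z₂ z₁`, `L₁ ⊔ L₂ = ⊤`.  Then there is `Ψ : SL₃(F) →* K`, surjective with central kernel,
mapping the upper left block `SL₂` onto `L₁`, the lower right block `SL₂` onto `L₂`,
`diag(-1,-1,1)` to `z₁` and `diag(1,-1,-1)` to `z₂`.
-/

set_option autoImplicit false

namespace Cfsg.Agent.Lib.Helper2.CTSL3Pair

open Matrix

variable {F : Type*} [Field F]

/-- a `3 × 3` matrix identity: `2 adj(w) = 2 w² - 2 tr(w) w + (tr(w)² - tr(w²))`. -/
theorem two_adjugate (w : Matrix (Fin 3) (Fin 3) F) :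
    (2 : F) • adjugate w =
      (2 : F) • (w * w) - (2 * trace w) • w + (trace w ^ 2 - trace (w * w)) • (1 : Matrix (Fin 3) (Fin 3) F) := by
  rw [adjugate_fin_three]
  ext i j
  fin_cases i <;> fin_cases j <;>
    simp [Matrix.mul_apply, Fin.sum_univ_three, trace_fin_three] <;> ring

/-- an involution `≠ 1` of determinant one in dimension three has trace `-1`. -/
theorem trace_of_involution (h2 : (2 : F) ≠ 0) (w : Matrix (Fin 3) (Fin 3) F) (hdet : w.det = 1)
    (hw : w * w = 1) (hne : w ≠ 1) : trace w = -1 := by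
  have hadj : adjugate w = w := by
    have h1 : w * adjugate w = 1 := by rw [mul_adjugate, hdet, one_smul]
    calc adjugate w = (w * w) * adjugate w := by rw [hw, one_mul]
      _ = w * (w * adjugate w) := by rw [mul_assoc]
      _ = w := by rw [h1, mul_one]
  have key := two_adjugate w
  rw [hadj, hw, trace_one, Fintype.card_fin] at key
  by_contra ht
  have ht1 : trace w + 1 ≠ 0 := fun h => ht (by linear_combination h)
  -- (2 + 2t) w = (t² - 1) 1
  have h3 : (2 * (trace w + 1)) • w = ((trace w + 1) * (trace w - 1)) • (1 : Matrix (Fin 3) (Fin 3) F) := by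
    have : (2 * (trace w + 1)) • w = (2 : F) • w + (2 * trace w) • w := by
      rw [← add_smul]; congr 1; ring
    rw [this, key]
    have e : (trace w ^ 2 - ((3 : ℕ) : F)) = -2 + (trace w + 1) * (trace w - 1) := by
      push_cast; ring
    rw [e, add_smul]
    simp only [neg_smul]
    abel
  have h4 : w = ((trace w - 1) / 2) • (1 : Matrix (Fin 3) (Fin 3) F) := by
    have hu : (2 * (trace w + 1)) ≠ 0 := mul_ne_zero h2 ht1
    have := congrArg (fun M => (2 * (trace w + 1))⁻¹ • M) h3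
    simp only [smul_smul] at this
    rw [inv_mul_cancel₀ hu, one_smul] at this
    calc w = ((2 * (trace w + 1))⁻¹ * ((trace w + 1) * (trace w - 1))) •
          (1 : Matrix (Fin 3) (Fin 3) F) := this
      _ = ((trace w - 1) / 2) • 1 := by
        congr 1
        field_simp
  -- w is the scalar λ, trace = 3 λ
  set lam := (trace w - 1) / 2 with hlam
  have htr : trace w = 3 * lam := by
    conv_lhs => rw [h4]
    rw [trace_smul, trace_one, Fintype.card_fin]
    simp; ring
  have hl1 : lam = 1 := by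
    have : 2 * lam = trace w - 1 := by rw [hlam]; field_simp
    rw [htr] at this
    linear_combination -this
  apply hne
  rw [h4, hl1, one_smul]


section klein

variable {R : Type*} [Ring R] {w1 w2 w3 : R}

theorem k13 (h11 : w1 * w1 = 1) (h12 : w1 * w2 = w3) : w1 * w3 = w2 := by
  rw [← h12, ← mul_assoc, h11, one_mul]
theorem k31 (h11 : w1 * w1 = 1) (h21 : w2 * w1 = w3) : w3 * w1 = w2 := by
  rw [← h21, mul_assoc, h11, mul_one]
theorem k23 (h22 : w2 * w2 = 1) (h21 : w2 * w1 = w3) : w2 * w3 = w1 := by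
  rw [← h21, ← mul_assoc, h22, one_mul]
theorem k32 (h22 : w2 * w2 = 1) (h12 : w1 * w2 = w3) : w3 * w2 = w1 := by
  rw [← h12, mul_assoc, h22, mul_one]
theorem k33 (h11 : w1 * w1 = 1) (h22 : w2 * w2 = 1) (h12 : w1 * w2 = w3) (h21 : w2 * w1 = w3) :
    w3 * w3 = 1 := by
  calc w3 * w3 = w3 * (w1 * w2) := by rw [h12]
    _ = (w3 * w1) * w2 := by rw [mul_assoc]
    _ = 1 := by rw [k31 h11 h21, h22]

/-- four times the projection on the joint eigenspace with signs `(-, +)` -/
def N1 (w1 w2 w3 : R) : R := 1 - w1 + w2 - w3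
/-- signs `(-, -)` -/
def N2 (w1 w2 w3 : R) : R := 1 - w1 - w2 + w3
/-- signs `(+, -)` -/
def N3 (w1 w2 w3 : R) : R := 1 + w1 - w2 - w3

variable (h11 : w1 * w1 = 1) (h22 : w2 * w2 = 1) (h12 : w1 * w2 = w3) (h21 : w2 * w1 = w3)
include h11 h22 h12 h21

theorem klein_facts :
    w1 * N1 w1 w2 w3 = - N1 w1 w2 w3 ∧ w1 * N2 w1 w2 w3 = - N2 w1 w2 w3 ∧
    w1 * N3 w1 w2 w3 = N3 w1 w2 w3 ∧
    w2 * N1 w1 w2 w3 = N1 w1 w2 w3 ∧ w2 * N2 w1 w2 w3 = - N2 w1 w2 w3 ∧
    w2 * N3 w1 w2 w3 = - N3 w1 w2 w3 ∧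
    N1 w1 w2 w3 * N1 w1 w2 w3 = 4 • N1 w1 w2 w3 ∧ N2 w1 w2 w3 * N2 w1 w2 w3 = 4 • N2 w1 w2 w3 ∧
    N3 w1 w2 w3 * N3 w1 w2 w3 = 4 • N3 w1 w2 w3 ∧
    N1 w1 w2 w3 * N2 w1 w2 w3 = 0 ∧ N1 w1 w2 w3 * N3 w1 w2 w3 = 0 ∧
    N2 w1 w2 w3 * N1 w1 w2 w3 = 0 ∧ N2 w1 w2 w3 * N3 w1 w2 w3 = 0 ∧
    N3 w1 w2 w3 * N1 w1 w2 w3 = 0 ∧ N3 w1 w2 w3 * N2 w1 w2 w3 = 0 := by
  have a13 := k13 h11 h12
  have a31 := k31 h11 h21
  have a23 := k23 h22 h21
  have a32 := k32 h22 h12
  have a33 := k33 h11 h22 h12 h21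
  unfold N1 N2 N3
  refine ⟨?_, ?_, ?_, ?_, ?_, ?_, ?_, ?_, ?_, ?_, ?_, ?_, ?_, ?_, ?_⟩ <;>
  · simp only [mul_add, add_mul, mul_sub, sub_mul, mul_one, one_mul, h11, h22, h12, h21, a13, a31,
      a23, a32, a33]
    abel


end klein


/-- the standard diagonal involutions -/
def D1 : Matrix (Fin 3) (Fin 3) F := diagonal ![-1, -1, 1]
def D2 : Matrix (Fin 3) (Fin 3) F := diagonal ![1, -1, -1]

theorem D1_det : (D1 : Matrix (Fin 3) (Fin 3) F).det = 1 := by
  rw [D1, det_diagonal, Fin.prod_univ_three]; simp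

theorem D2_det : (D2 : Matrix (Fin 3) (Fin 3) F).det = 1 := by
  rw [D2, det_diagonal, Fin.prod_univ_three]; simp

/-- `diag(-1,-1,1)` in `SL₃` -/
def dUL : SpecialLinearGroup (Fin 3) F := ⟨D1, D1_det⟩
/-- `diag(1,-1,-1)` in `SL₃` -/
def dLR : SpecialLinearGroup (Fin 3) F := ⟨D2, D2_det⟩

theorem dUL_mul_self : (dUL : SpecialLinearGroup (Fin 3) F) * dUL = 1 := by
  apply Subtype.ext
  show (D1 : Matrix (Fin 3) (Fin 3) F) * D1 = 1
  rw [D1, diagonal_mul_diagonal, ← diagonal_one]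
  congr 1
  ext i; fin_cases i <;> simp

theorem dLR_mul_self : (dLR : SpecialLinearGroup (Fin 3) F) * dLR = 1 := by
  apply Subtype.ext
  show (D2 : Matrix (Fin 3) (Fin 3) F) * D2 = 1
  rw [D2, diagonal_mul_diagonal, ← diagonal_one]
  congr 1
  ext i; fin_cases i <;> simp

/-- upper left block -/
def bUL (A : Matrix (Fin 2) (Fin 2) F) : Matrix (Fin 3) (Fin 3) F :=
  !![A 0 0, A 0 1, 0; A 1 0, A 1 1, 0; 0, 0, 1]

/-- lower right block -/
def bLR (A : Matrix (Fin 2) (Fin 2) F) : Matrix (Fin 3) (Fin 3) F :=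
  !![1, 0, 0; 0, A 0 0, A 0 1; 0, A 1 0, A 1 1]

theorem bUL_one : bUL (1 : Matrix (Fin 2) (Fin 2) F) = 1 := by
  ext i j; fin_cases i <;> fin_cases j <;> simp [bUL]

theorem bLR_one : bLR (1 : Matrix (Fin 2) (Fin 2) F) = 1 := by
  ext i j; fin_cases i <;> fin_cases j <;> simp [bLR]

theorem bUL_mul (A B : Matrix (Fin 2) (Fin 2) F) : bUL (A * B) = bUL A * bUL B := by
  ext i j
  fin_cases i <;> fin_cases j <;>
    simp [bUL, Matrix.mul_apply, Fin.sum_univ_three, Fin.sum_univ_two]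

theorem bLR_mul (A B : Matrix (Fin 2) (Fin 2) F) : bLR (A * B) = bLR A * bLR B := by
  ext i j
  fin_cases i <;> fin_cases j <;>
    simp [bLR, Matrix.mul_apply, Fin.sum_univ_three, Fin.sum_univ_two]

theorem bUL_det (A : Matrix (Fin 2) (Fin 2) F) : (bUL A).det = A.det := by
  rw [det_fin_two, det_fin_three]; simp [bUL]

theorem bLR_det (A : Matrix (Fin 2) (Fin 2) F) : (bLR A).det = A.det := by
  rw [det_fin_two, det_fin_three]; simp [bLR]

/-- the upper left block embedding `SL₂ → SL₃` -/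
def ιUL : SpecialLinearGroup (Fin 2) F →* SpecialLinearGroup (Fin 3) F where
  toFun A := ⟨bUL A.1, by rw [bUL_det, A.2]⟩
  map_one' := Subtype.ext bUL_one
  map_mul' A B := Subtype.ext (bUL_mul A.1 B.1)

/-- the lower right block embedding `SL₂ → SL₃` -/
def ιLR : SpecialLinearGroup (Fin 2) F →* SpecialLinearGroup (Fin 3) F where
  toFun A := ⟨bLR A.1, by rw [bLR_det, A.2]⟩
  map_one' := Subtype.ext bLR_one
  map_mul' A B := Subtype.ext (bLR_mul A.1 B.1)

theorem ιUL_coe (A : SpecialLinearGroup (Fin 2) F) : (ιUL A).1 = bUL A.1 := rfl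
theorem ιLR_coe (A : SpecialLinearGroup (Fin 2) F) : (ιLR A).1 = bLR A.1 := rfl

theorem bUL_injective : Function.Injective (bUL : Matrix (Fin 2) (Fin 2) F → _) := by
  intro A B h
  ext i j
  have e00 := congrFun (congrFun h 0) 0
  have e01 := congrFun (congrFun h 0) 1
  have e10 := congrFun (congrFun h 1) 0
  have e11 := congrFun (congrFun h 1) 1
  simp [bUL] at e00 e01 e10 e11
  fin_cases i <;> fin_cases j <;> assumption

theorem bLR_injective : Function.Injective (bLR : Matrix (Fin 2) (Fin 2) F → _) := by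
  intro A B h
  ext i j
  have e00 := congrFun (congrFun h 1) 1
  have e01 := congrFun (congrFun h 1) 2
  have e10 := congrFun (congrFun h 2) 1
  have e11 := congrFun (congrFun h 2) 2
  simp [bLR] at e00 e01 e10 e11
  fin_cases i <;> fin_cases j <;> assumption

theorem ιUL_injective : Function.Injective (ιUL : SpecialLinearGroup (Fin 2) F →* _) := by
  intro A B h
  exact Subtype.ext (bUL_injective (congrArg Subtype.val h))

theorem ιLR_injective : Function.Injective (ιLR : SpecialLinearGroup (Fin 2) F →* _) := by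
  intro A B h
  exact Subtype.ext (bLR_injective (congrArg Subtype.val h))


theorem exists_col_ne_zero {N : Matrix (Fin 3) (Fin 3) F} (h : N ≠ 0) :
    ∃ i j, N i j ≠ 0 := by
  by_contra hcon
  push Not at hcon
  exact h (by ext i j; exact hcon i j)

theorem exists_conj (h2 : (2 : F) ≠ 0) (w1 w2 : Matrix (Fin 3) (Fin 3) F)
    (hd1 : w1.det = 1) (hd2 : w2.det = 1) (hw1 : w1 * w1 = 1) (hw2 : w2 * w2 = 1)
    (hc : w1 * w2 = w2 * w1) (hn1 : w1 ≠ 1) (hn2 : w2 ≠ 1) (hne : w1 ≠ w2) :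
    ∃ g : Matrix (Fin 3) (Fin 3) F, IsUnit g.det ∧ w1 * g = g * D1 ∧ w2 * g = g * D2 := by
  obtain ⟨w3, h12⟩ : ∃ w3, w1 * w2 = w3 := ⟨_, rfl⟩
  have h21 : w2 * w1 = w3 := by rw [← hc, h12]
  have hw33 : w3 * w3 = 1 := k33 hw1 hw2 h12 h21
  have hn3 : w3 ≠ 1 := by
    intro h
    apply hne
    calc w1 = w1 * (w2 * w2) := by rw [hw2, mul_one]
      _ = w3 * w2 := by rw [← mul_assoc, h12]
      _ = w2 := by rw [h, one_mul]
  have hd3 : w3.det = 1 := by rw [← h12, det_mul, hd1, hd2, one_mul]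
  have t1 := trace_of_involution h2 w1 hd1 hw1 hn1
  have t2 := trace_of_involution h2 w2 hd2 hw2 hn2
  have t3 := trace_of_involution h2 w3 hd3 hw33 hn3
  have h4 : (4 : F) ≠ 0 := by
    have : (4 : F) = 2 * 2 := by norm_num
    rw [this]; exact mul_ne_zero h2 h2
  obtain ⟨f1, f2, f3, f4, f5, f6, f11, f22, f33, f12, f13, f21, f23, f31, f32⟩ :=
    klein_facts hw1 hw2 h12 h21
  have tr1 : trace (N1 w1 w2 w3) = 4 := by
    unfold N1
    rw [trace_sub, trace_add, trace_sub, trace_one, t1, t2, t3, Fintype.card_fin]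
    push_cast; ring
  have tr2 : trace (N2 w1 w2 w3) = 4 := by
    unfold N2
    rw [trace_add, trace_sub, trace_sub, trace_one, t1, t2, t3, Fintype.card_fin]
    push_cast; ring
  have tr3 : trace (N3 w1 w2 w3) = 4 := by
    unfold N3
    rw [trace_sub, trace_sub, trace_add, trace_one, t1, t2, t3, Fintype.card_fin]
    push_cast; ring
  have ne1 : N1 w1 w2 w3 ≠ 0 := fun h => h4 (by rw [← tr1, h, trace_zero])
  have ne2 : N2 w1 w2 w3 ≠ 0 := fun h => h4 (by rw [← tr2, h, trace_zero])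
  have ne3 : N3 w1 w2 w3 ≠ 0 := fun h => h4 (by rw [← tr3, h, trace_zero])
  obtain ⟨i1, j1, hv1⟩ := exists_col_ne_zero ne1
  obtain ⟨i2, j2, hv2⟩ := exists_col_ne_zero ne2
  obtain ⟨i3, j3, hv3⟩ := exists_col_ne_zero ne3
  -- the matrix with columns `N_k e_{j_k}`
  set g : Matrix (Fin 3) (Fin 3) F :=
    Matrix.of (fun i k => ![N1 w1 w2 w3 i j1, N2 w1 w2 w3 i j2, N3 w1 w2 w3 i j3] k) with hg
  -- general principle: `(A * g) i k = (A * N_k) i j_k`
  have hA1 : ∀ (A : Matrix (Fin 3) (Fin 3) F) i, (A * g) i 0 = (A * N1 w1 w2 w3) i j1 := by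
    intro A i
    simp [Matrix.mul_apply, hg]
  have hA2 : ∀ (A : Matrix (Fin 3) (Fin 3) F) i, (A * g) i 1 = (A * N2 w1 w2 w3) i j2 := by
    intro A i
    simp [Matrix.mul_apply, hg]
  have hA3 : ∀ (A : Matrix (Fin 3) (Fin 3) F) i, (A * g) i 2 = (A * N3 w1 w2 w3) i j3 := by
    intro A i
    simp [Matrix.mul_apply, hg]
  have hD1 : ∀ i k, (g * (D1 : Matrix (Fin 3) (Fin 3) F)) i k = g i k * ![-1, -1, 1] k := by
    intro i k
    rw [D1, Matrix.mul_diagonal]
  have hD2 : ∀ i k, (g * (D2 : Matrix (Fin 3) (Fin 3) F)) i k = g i k * ![1, -1, -1] k := by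
    intro i k
    rw [D2, Matrix.mul_diagonal]
  refine ⟨g, ?_, ?_, ?_⟩
  · -- invertibility
    rw [← Matrix.isUnit_iff_isUnit_det, ← Matrix.mulVec_injective_iff_isUnit]
    rw [← Matrix.coe_mulVecLin, injective_iff_map_eq_zero]
    intro x hx
    rw [Matrix.mulVecLin_apply] at hx
    have key : ∀ (A : Matrix (Fin 3) (Fin 3) F), (A * g) *ᵥ x = 0 := by
      intro A
      rw [← Matrix.mulVec_mulVec, hx, Matrix.mulVec_zero]
    ext k
    fin_cases k
    · have := congrFun (key (N1 w1 w2 w3)) i1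
      simp only [Matrix.mulVec, dotProduct, Fin.sum_univ_three, hA1, hA2, hA3, f11, f12, f13,
        Pi.zero_apply, Matrix.zero_apply, zero_mul, add_zero] at this
      rw [Matrix.smul_apply] at this
      simpa [hv1, h4] using this
    · have := congrFun (key (N2 w1 w2 w3)) i2
      simp only [Matrix.mulVec, dotProduct, Fin.sum_univ_three, hA1, hA2, hA3, f21, f22, f23,
        Pi.zero_apply, Matrix.zero_apply, zero_mul, add_zero, zero_add] at this
      rw [Matrix.smul_apply] at this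
      simpa [hv2, h4] using this
    · have := congrFun (key (N3 w1 w2 w3)) i3
      simp only [Matrix.mulVec, dotProduct, Fin.sum_univ_three, hA1, hA2, hA3, f31, f32, f33,
        Pi.zero_apply, Matrix.zero_apply, zero_mul, add_zero, zero_add] at this
      rw [Matrix.smul_apply] at this
      simpa [hv3, h4] using this
  · ext i k
    rw [hD1]
    fin_cases k
    · show (w1 * g) i 0 = g i 0 * _
      rw [hA1, f1]; simp [hg]
    · show (w1 * g) i 1 = g i 1 * _
      rw [hA2, f2]; simp [hg]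
    · show (w1 * g) i 2 = g i 2 * _
      rw [hA3, f3]; simp [hg]
  · ext i k
    rw [hD2]
    fin_cases k
    · show (w2 * g) i 0 = g i 0 * _
      rw [hA1, f4]; simp [hg]
    · show (w2 * g) i 1 = g i 1 * _
      rw [hA2, f5]; simp [hg]
    · show (w2 * g) i 2 = g i 2 * _
      rw [hA3, f6]; simp [hg]


theorem block_of_commute_D1 (h2 : (2 : F) ≠ 0) (M : Matrix (Fin 3) (Fin 3) F)
    (h : M * D1 = D1 * M) : M 0 2 = 0 ∧ M 1 2 = 0 ∧ M 2 0 = 0 ∧ M 2 1 = 0 := by
  have key : ∀ i j, M i j * ![-1, -1, (1 : F)] j = ![-1, -1, (1 : F)] i * M i j := by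
    intro i j
    have := congrFun (congrFun h i) j
    rwa [D1, Matrix.mul_diagonal, Matrix.diagonal_mul] at this
  have aux : ∀ x : F, x * 1 = -1 * x → x = 0 := by
    intro x hx
    have : 2 * x = 0 := by linear_combination hx
    rcases mul_eq_zero.mp this with h | h
    · exact absurd h h2
    · exact h
  have aux' : ∀ x : F, x * -1 = 1 * x → x = 0 := by
    intro x hx
    have : 2 * x = 0 := by linear_combination -hx
    rcases mul_eq_zero.mp this with h | h
    · exact absurd h h2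
    · exact h
  refine ⟨aux _ ?_, aux _ ?_, aux' _ ?_, aux' _ ?_⟩
  · simpa using key 0 2
  · simpa using key 1 2
  · simpa using key 2 0
  · simpa using key 2 1

theorem block_of_commute_D2 (h2 : (2 : F) ≠ 0) (M : Matrix (Fin 3) (Fin 3) F)
    (h : M * D2 = D2 * M) : M 0 1 = 0 ∧ M 0 2 = 0 ∧ M 1 0 = 0 ∧ M 2 0 = 0 := by
  have key : ∀ i j, M i j * ![(1 : F), -1, -1] j = ![(1 : F), -1, -1] i * M i j := by
    intro i j
    have := congrFun (congrFun h i) j
    rwa [D2, Matrix.mul_diagonal, Matrix.diagonal_mul] at this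
  have aux : ∀ x : F, x * 1 = -1 * x → x = 0 := by
    intro x hx
    have : 2 * x = 0 := by linear_combination hx
    rcases mul_eq_zero.mp this with h | h
    · exact absurd h h2
    · exact h
  have aux' : ∀ x : F, x * -1 = 1 * x → x = 0 := by
    intro x hx
    have : 2 * x = 0 := by linear_combination -hx
    rcases mul_eq_zero.mp this with h | h
    · exact absurd h h2
    · exact h
  refine ⟨aux' _ ?_, aux' _ ?_, aux _ ?_, aux _ ?_⟩
  · simpa using key 0 1
  · simpa using key 0 2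
  · simpa using key 1 0
  · simpa using key 2 0

theorem pow_apply_22 (h2 : (2 : F) ≠ 0) (M : Matrix (Fin 3) (Fin 3) F)
    (h : M * D1 = D1 * M) (n : ℕ) : (M ^ n) 2 2 = (M 2 2) ^ n := by
  obtain ⟨h02, h12, -, -⟩ := block_of_commute_D1 h2 M h
  induction n with
  | zero => simp
  | succ n ih =>
    rw [pow_succ, Matrix.mul_apply, Fin.sum_univ_three, h02, h12, ih, pow_succ]
    ring

theorem pow_apply_00 (h2 : (2 : F) ≠ 0) (M : Matrix (Fin 3) (Fin 3) F)
    (h : M * D2 = D2 * M) (n : ℕ) : (M ^ n) 0 0 = (M 0 0) ^ n := by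
  obtain ⟨-, -, h10, h20⟩ := block_of_commute_D2 h2 M h
  induction n with
  | zero => simp
  | succ n ih =>
    rw [pow_succ, Matrix.mul_apply, Fin.sum_univ_three, h10, h20, ih, pow_succ]
    ring

theorem eq_one_of_pow_char (p : ℕ) [Fact p.Prime] [CharP F p] (x : F) (hx : x ^ p = 1) : x = 1 := by
  apply frobenius_inj F p
  rw [frobenius_def, hx, map_one]

theorem eq_bUL (h2 : (2 : F) ≠ 0) (M : Matrix (Fin 3) (Fin 3) F)
    (h : M * D1 = D1 * M) (h22 : M 2 2 = 1) :
    M = bUL !![M 0 0, M 0 1; M 1 0, M 1 1] := by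
  obtain ⟨h02, h12, h20, h21⟩ := block_of_commute_D1 h2 M h
  ext i j
  fin_cases i <;> fin_cases j <;> simp [bUL, h02, h12, h20, h21, h22]

theorem eq_bLR (h2 : (2 : F) ≠ 0) (M : Matrix (Fin 3) (Fin 3) F)
    (h : M * D2 = D2 * M) (h00 : M 0 0 = 1) :
    M = bLR !![M 1 1, M 1 2; M 2 1, M 2 2] := by
  obtain ⟨h01, h02, h10, h20⟩ := block_of_commute_D2 h2 M h
  ext i j
  fin_cases i <;> fin_cases j <;> simp [bLR, h01, h02, h10, h20, h00]


theorem center_pow (c : SpecialLinearGroup (Fin 3) F)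
    (hc : c ∈ Subgroup.center (SpecialLinearGroup (Fin 3) F)) (n : ℕ)
    (hn : ∀ r : F, r ^ 3 = 1 → r ^ n = 1) : c ^ n = 1 := by
  obtain ⟨r, hr, hrc⟩ := Matrix.SpecialLinearGroup.mem_center_iff.mp hc
  rw [Fintype.card_fin] at hr
  apply Subtype.ext
  show ((c ^ n : SpecialLinearGroup (Fin 3) F) : Matrix (Fin 3) (Fin 3) F) =
    ((1 : SpecialLinearGroup (Fin 3) F) : Matrix (Fin 3) (Fin 3) F)
  rw [Matrix.SpecialLinearGroup.coe_pow, Matrix.SpecialLinearGroup.coe_one, ← hrc, ← map_pow,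
    hn r hr, map_one]

theorem center_pow_three (c : SpecialLinearGroup (Fin 3) F)
    (hc : c ∈ Subgroup.center (SpecialLinearGroup (Fin 3) F)) : c ^ 3 = 1 :=
  center_pow c hc 3 (fun _ h => h)

theorem center_pow_card [Fintype F] (c : SpecialLinearGroup (Fin 3) F)
    (hc : c ∈ Subgroup.center (SpecialLinearGroup (Fin 3) F)) : c ^ (Fintype.card F - 1) = 1 := by
  refine center_pow c hc _ (fun r hr => ?_)
  have hr0 : r ≠ 0 := by
    rintro rfl
    simp at hr
  exact FiniteField.pow_card_sub_one_eq_one r hr0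

section lift

variable {K : Type*} [Group K] (κ : SpecialLinearGroup (Fin 3) F →* K)
  (hker : κ.ker ≤ Subgroup.center (SpecialLinearGroup (Fin 3) F))

include hker

/-- an element commuting with an involution modulo the (central) kernel commutes with it -/
theorem commute_of_map_commute (s w : SpecialLinearGroup (Fin 3) F) (hw : w * w = 1)
    (h : κ s * κ w = κ w * κ s) : s * w = w * s := by
  set c := s * w * s⁻¹ * w⁻¹ with hc
  have hcker : c ∈ κ.ker := by
    rw [MonoidHom.mem_ker, hc, map_mul, map_mul, map_mul, map_inv, map_inv, h]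
    group
  have hcc := hker hcker
  have hcomm : ∀ x, x * c = c * x := fun x => (Subgroup.mem_center_iff.mp hcc x)
  have hwinv : w⁻¹ = w := inv_eq_of_mul_eq_one_left hw
  -- s w s⁻¹ = c w
  have h1 : s * w * s⁻¹ = c * w := by
    rw [hc]; group
  have h2 : (c * w) * (c * w) = 1 := by
    rw [← h1]
    calc s * w * s⁻¹ * (s * w * s⁻¹) = s * (w * w) * s⁻¹ := by group
      _ = 1 := by rw [hw]; group
  have h3 : c * c = 1 := by
    calc c * c = c * c * (w * w) := by rw [hw, mul_one]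
      _ = c * (c * w) * w := by group
      _ = c * (w * c) * w := by rw [hcomm w]
      _ = (c * w) * (c * w) := by group
      _ = 1 := h2
  have h4 : c = 1 := by
    have h5 := center_pow_three c hcc
    calc c = c ^ 3 * (c * c)⁻¹ := by group
      _ = 1 := by rw [h5, h3]; group
  calc s * w = c * (w * s) := by rw [hc]; group
    _ = w * s := by rw [h4, one_mul]

/-- involutions lift to involutions -/
theorem exists_involution_lift (hκ : Function.Surjective κ) (z : K) (hz : z * z = 1) :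
    ∃ w : SpecialLinearGroup (Fin 3) F, κ w = z ∧ w * w = 1 := by
  obtain ⟨s, rfl⟩ := hκ z
  set c := s * s with hc
  have hcker : c ∈ κ.ker := by
    rw [MonoidHom.mem_ker, hc, map_mul, hz]
  have hcc := hker hcker
  have hcomm : ∀ x, x * c = c * x := fun x => (Subgroup.mem_center_iff.mp hcc x)
  refine ⟨s * c, ?_, ?_⟩
  · rw [map_mul, MonoidHom.mem_ker.mp hcker, mul_one]
  · calc s * c * (s * c) = s * (c * s) * c := by group
      _ = s * (s * c) * c := by rw [hcomm s]
      _ = c ^ 3 := by rw [← mul_assoc s s c, ← hc, pow_succ, pow_two]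
      _ = 1 := center_pow_three c hcc

end lift


theorem transvection_pow {i j : Fin 2} (hij : i ≠ j) (c : F) (n : ℕ) :
    (SpecialLinearGroup.transvection hij c) ^ n = SpecialLinearGroup.transvection hij (n • c) := by
  induction n with
  | zero =>
    rw [pow_zero, zero_smul, SpecialLinearGroup.transvection_coeff_zero]
  | succ n ih =>
    rw [pow_succ, ih]
    apply Subtype.ext
    show Matrix.transvection i j (n • c) * Matrix.transvection i j c = Matrix.transvection i j ((n + 1) • c)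
    rw [Matrix.transvection_mul_transvection_same i j hij, add_smul, one_smul]

section block
variable [Fintype F] {K : Type*} [Group K]

theorem map_range_eq (p : ℕ) [Fact p.Prime] [CharP F p]
    (Ψ : SpecialLinearGroup (Fin 3) F →* K) (hΨ : Function.Surjective Ψ)
    (hker : Ψ.ker ≤ Subgroup.center (SpecialLinearGroup (Fin 3) F))
    (d : SpecialLinearGroup (Fin 3) F) (hd : d * d = 1)
    (ι : SpecialLinearGroup (Fin 2) F →* SpecialLinearGroup (Fin 3) F)
    (hι : ∀ s : SpecialLinearGroup (Fin 3) F, s * d = d * s → s ^ p = 1 → s ∈ ι.range)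
    (L : Subgroup K) (e : SpecialLinearGroup (Fin 2) F ≃* L)
    (hL : ∀ x ∈ L, x * Ψ d = Ψ d * x) :
    ι.range.map Ψ = L := by
  classical
  have : Finite K := Finite.of_surjective Ψ hΨ
  set q := Fintype.card F with hq
  have hq2 : 2 ≤ q := Fintype.one_lt_card
  have hpq : p ∣ q := by
    obtain ⟨n, -, hn⟩ := FiniteField.card F p
    rw [hq, hn]
    exact dvd_pow_self p n.ne_zero
  have hle : L ≤ ι.range.map Ψ := by
    intro y hy
    have hyA : y = ((e (e.symm ⟨y, hy⟩) : L) : K) := by simp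
    rw [hyA]
    generalize e.symm ⟨y, hy⟩ = A
    refine sl_transvection_induction (fun A => ((e A : L) : K) ∈ ι.range.map Ψ) ?_ ?_ A
    · intro i j hij c
      set t := SpecialLinearGroup.transvection hij c with ht
      have htp : t ^ p = 1 := by
        rw [ht, transvection_pow, nsmul_eq_mul, CharP.cast_eq_zero, zero_mul,
          SpecialLinearGroup.transvection_coeff_zero]
      have hyp : ((e t : L) : K) ^ p = 1 := by
        rw [← Subgroup.coe_pow, ← map_pow, htp, map_one, Subgroup.coe_one]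
      have hyq : ((e t : L) : K) ^ q = 1 := by
        obtain ⟨m, hm⟩ := hpq
        rw [hm, pow_mul, hyp, one_pow]
      obtain ⟨s0, hs0⟩ := hΨ ((e t : L) : K)
      have hc : s0 ^ p ∈ Ψ.ker := by
        rw [MonoidHom.mem_ker, map_pow, hs0, hyp]
      have h1 : (s0 ^ p) ^ (q - 1) = 1 := center_pow_card _ (hker hc)
      have hsp : (s0 ^ ((q - 1) * (q - 1))) ^ p = 1 := by
        calc (s0 ^ ((q - 1) * (q - 1))) ^ p = ((s0 ^ p) ^ (q - 1)) ^ (q - 1) := by
              rw [← pow_mul, ← pow_mul, ← pow_mul]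
              congr 1
              ring
          _ = 1 := by rw [h1, one_pow]
      have harith : (q - 1) * (q - 1) = q * (q - 2) + 1 := by
        obtain ⟨r, hr⟩ : ∃ r, q = r + 2 := ⟨q - 2, by omega⟩
        rw [hr]
        simp only [Nat.add_sub_cancel]
        have : r + 2 - 1 = r + 1 := by omega
        rw [this]
        ring
      have hΨs : Ψ (s0 ^ ((q - 1) * (q - 1))) = ((e t : L) : K) := by
        rw [map_pow, hs0, harith, pow_succ, pow_mul, hyq, one_pow, one_mul]
      have hcomm : s0 ^ ((q - 1) * (q - 1)) * d = d * s0 ^ ((q - 1) * (q - 1)) :=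
        commute_of_map_commute Ψ hker _ d hd (by rw [hΨs]; exact hL _ (e t).2)
      exact Subgroup.mem_map.mpr ⟨_, hι _ hcomm hsp, hΨs⟩
    · intro A B hA hB
      show ((e (A * B) : L) : K) ∈ _
      rw [map_mul, Subgroup.coe_mul]
      exact mul_mem hA hB
  have hcard : Nat.card (ι.range.map Ψ) ≤ Nat.card L := by
    calc Nat.card (ι.range.map Ψ) ≤ Nat.card ι.range :=
          Nat.card_le_card_of_surjective _ (MonoidHom.subgroupMap_surjective Ψ ι.range)
      _ ≤ Nat.card (SpecialLinearGroup (Fin 2) F) :=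
          Nat.card_le_card_of_surjective _ (MonoidHom.rangeRestrict_surjective ι)
      _ = Nat.card L := Nat.card_congr e.toEquiv
  exact (Subgroup.eq_of_le_of_card_ge hle hcard).symm

end block


/-- conjugation by an invertible matrix as an automorphism of `SL₃` -/
noncomputable def conjEquiv (g : Matrix (Fin 3) (Fin 3) F) (hg : IsUnit g.det) :
    SpecialLinearGroup (Fin 3) F ≃* SpecialLinearGroup (Fin 3) F where
  toFun x := ⟨g * x.1 * g⁻¹, by
    rw [det_mul, det_mul, x.2, mul_one, ← det_mul, mul_nonsing_inv g hg, det_one]⟩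
  invFun x := ⟨g⁻¹ * x.1 * g, by
    rw [det_mul, det_mul, x.2, mul_one, mul_comm, ← det_mul, mul_nonsing_inv g hg, det_one]⟩
  left_inv x := by
    apply Subtype.ext
    show g⁻¹ * (g * x.1 * g⁻¹) * g = x.1
    rw [mul_assoc, mul_assoc, nonsing_inv_mul g hg, mul_one, ← mul_assoc, nonsing_inv_mul g hg,
      one_mul]
  right_inv x := by
    apply Subtype.ext
    show g * (g⁻¹ * x.1 * g) * g⁻¹ = x.1
    rw [mul_assoc, mul_assoc, mul_nonsing_inv g hg, mul_one, ← mul_assoc, mul_nonsing_inv g hg,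
      one_mul]
  map_mul' x y := by
    apply Subtype.ext
    show g * (x.1 * y.1) * g⁻¹ = (g * x.1 * g⁻¹) * (g * y.1 * g⁻¹)
    have h := nonsing_inv_mul g hg
    calc g * (x.1 * y.1) * g⁻¹ = g * x.1 * 1 * y.1 * g⁻¹ := by
          simp only [mul_one, mul_assoc]
      _ = (g * x.1 * g⁻¹) * (g * y.1 * g⁻¹) := by
          rw [← h]; simp only [mul_assoc]

theorem conjEquiv_coe (g : Matrix (Fin 3) (Fin 3) F) (hg : IsUnit g.det)
    (x : SpecialLinearGroup (Fin 3) F) : (conjEquiv g hg x).1 = g * x.1 * g⁻¹ := rfl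


theorem mem_range_ιUL (p : ℕ) [Fact p.Prime] [CharP F p] (h2 : (2 : F) ≠ 0)
    (s : SpecialLinearGroup (Fin 3) F) (hs : s * dUL = dUL * s) (hp : s ^ p = 1) :
    s ∈ (ιUL : SpecialLinearGroup (Fin 2) F →* SpecialLinearGroup (Fin 3) F).range := by
  have h : s.1 * D1 = D1 * s.1 := congrArg Subtype.val hs
  have hpow : s.1 ^ p = 1 := by
    have := congrArg Subtype.val hp
    rwa [Matrix.SpecialLinearGroup.coe_pow, Matrix.SpecialLinearGroup.coe_one] at this
  have h22 : s.1 2 2 = 1 := by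
    apply eq_one_of_pow_char p
    rw [← pow_apply_22 h2 s.1 h, hpow, Matrix.one_apply_eq]
  have hM := eq_bUL h2 s.1 h h22
  have hdet : (!![s.1 0 0, s.1 0 1; s.1 1 0, s.1 1 1] : Matrix (Fin 2) (Fin 2) F).det = 1 := by
    rw [← bUL_det, ← hM, s.2]
  exact ⟨⟨_, hdet⟩, Subtype.ext hM.symm⟩

theorem mem_range_ιLR (p : ℕ) [Fact p.Prime] [CharP F p] (h2 : (2 : F) ≠ 0)
    (s : SpecialLinearGroup (Fin 3) F) (hs : s * dLR = dLR * s) (hp : s ^ p = 1) :
    s ∈ (ιLR : SpecialLinearGroup (Fin 2) F →* SpecialLinearGroup (Fin 3) F).range := by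
  have h : s.1 * D2 = D2 * s.1 := congrArg Subtype.val hs
  have hpow : s.1 ^ p = 1 := by
    have := congrArg Subtype.val hp
    rwa [Matrix.SpecialLinearGroup.coe_pow, Matrix.SpecialLinearGroup.coe_one] at this
  have h00 : s.1 0 0 = 1 := by
    apply eq_one_of_pow_char p
    rw [← pow_apply_00 h2 s.1 h, hpow, Matrix.one_apply_eq]
  have hM := eq_bLR h2 s.1 h h00
  have hdet : (!![s.1 1 1, s.1 1 2; s.1 2 1, s.1 2 2] : Matrix (Fin 2) (Fin 2) F).det = 1 := by
    rw [← bLR_det, ← hM, s.2]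
  exact ⟨⟨_, hdet⟩, Subtype.ext hM.symm⟩

/-- **The standard pair.** -/
theorem exists_standard_pair [Fintype F] (hF : Odd (Fintype.card F)) {K : Type*} [Group K]
    (κ : SpecialLinearGroup (Fin 3) F →* K) (hκ : Function.Surjective κ)
    (hker : κ.ker ≤ Subgroup.center (SpecialLinearGroup (Fin 3) F))
    (L1 L2 : Subgroup K) (e1 : SpecialLinearGroup (Fin 2) F ≃* L1)
    (e2 : SpecialLinearGroup (Fin 2) F ≃* L2)
    (z1 z2 : K) (hz1 : z1 ≠ 1) (hz1' : z1 * z1 = 1) (hc1 : ∀ x ∈ L1, x * z1 = z1 * x)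
    (hz2 : z2 ≠ 1) (hz2' : z2 * z2 = 1) (hc2 : ∀ x ∈ L2, x * z2 = z2 * x)
    (hcomm : z1 * z2 = z2 * z1) (hgen : L1 ⊔ L2 = ⊤) :
    ∃ Ψ : SpecialLinearGroup (Fin 3) F →* K, Function.Surjective Ψ ∧
      Ψ.ker ≤ Subgroup.center (SpecialLinearGroup (Fin 3) F) ∧
      (ιUL : SpecialLinearGroup (Fin 2) F →* SpecialLinearGroup (Fin 3) F).range.map Ψ = L1 ∧
      (ιLR : SpecialLinearGroup (Fin 2) F →* SpecialLinearGroup (Fin 3) F).range.map Ψ = L2 ∧
      Ψ dUL = z1 ∧ Ψ dLR = z2 := by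
  classical
  -- the characteristic
  obtain ⟨p, hchar⟩ := CharP.exists F
  have hp : Fact p.Prime := ⟨CharP.char_is_prime F p⟩
  have h2 : (2 : F) ≠ 0 := by
    apply Ring.two_ne_zero
    intro h
    have := FiniteField.even_card_iff_char_two.mp h
    rcases hF with ⟨m, hm⟩
    omega
  -- lifts of the involutions
  obtain ⟨w1, hw1, hw1'⟩ := exists_involution_lift κ hker hκ z1 hz1'
  obtain ⟨w2, hw2, hw2'⟩ := exists_involution_lift κ hker hκ z2 hz2'
  have hw1ne : w1 ≠ 1 := by
    rintro rfl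
    exact hz1 (by rw [← hw1, map_one])
  have hw2ne : w2 ≠ 1 := by
    rintro rfl
    exact hz2 (by rw [← hw2, map_one])
  have hw12 : w1 * w2 = w2 * w1 :=
    commute_of_map_commute κ hker w1 w2 hw2' (by rw [hw1, hw2, hcomm])
  have hne : w1 ≠ w2 := by
    intro h
    have hz : z2 = z1 := by rw [← hw1, ← hw2, h]
    -- everything commutes with `z1`
    have hall : ∀ k : K, k * z1 = z1 * k := by
      have hle : L1 ⊔ L2 ≤ Subgroup.centralizer ({z1} : Set K) := by
        apply sup_le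
        · intro x hx
          rw [Subgroup.mem_centralizer_iff]
          intro y hy
          rw [Set.mem_singleton_iff.mp hy]
          exact (hc1 x hx).symm
        · intro x hx
          rw [Subgroup.mem_centralizer_iff]
          intro y hy
          rw [Set.mem_singleton_iff.mp hy, ← hz]
          exact (hc2 x hx).symm
      intro k
      have hk : k ∈ Subgroup.centralizer ({z1} : Set K) := hle (by rw [hgen]; trivial)
      exact ((Subgroup.mem_centralizer_iff.mp hk) z1 rfl).symm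
    have hcen : w1 ∈ Subgroup.center (SpecialLinearGroup (Fin 3) F) := by
      rw [Subgroup.mem_center_iff]
      intro x
      exact commute_of_map_commute κ hker x w1 hw1' (by rw [hw1]; exact hall _)
    have h3 := center_pow_three w1 hcen
    apply hw1ne
    calc w1 = w1 ^ 3 * (w1 * w1)⁻¹ := by group
      _ = 1 := by rw [h3, hw1']; group
  -- the common eigenbasis
  have hm1 : w1.1 * w1.1 = 1 := by
    have := congrArg Subtype.val hw1'
    rwa [Matrix.SpecialLinearGroup.coe_mul, Matrix.SpecialLinearGroup.coe_one] at this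
  have hm2 : w2.1 * w2.1 = 1 := by
    have := congrArg Subtype.val hw2'
    rwa [Matrix.SpecialLinearGroup.coe_mul, Matrix.SpecialLinearGroup.coe_one] at this
  have hm12 : w1.1 * w2.1 = w2.1 * w1.1 := by
    have := congrArg Subtype.val hw12
    rwa [Matrix.SpecialLinearGroup.coe_mul, Matrix.SpecialLinearGroup.coe_mul] at this
  obtain ⟨g, hg, hg1, hg2⟩ := exists_conj h2 w1.1 w2.1 w1.2 w2.2 hm1 hm2 hm12
    (fun h => hw1ne (Subtype.ext h)) (fun h => hw2ne (Subtype.ext h))
    (fun h => hne (Subtype.ext h))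
  set α := conjEquiv g hg with hα
  have hα1 : α dUL = w1 := by
    apply Subtype.ext
    show g * D1 * g⁻¹ = w1.1
    rw [← hg1, mul_assoc, mul_nonsing_inv g hg, mul_one]
  have hα2 : α dLR = w2 := by
    apply Subtype.ext
    show g * D2 * g⁻¹ = w2.1
    rw [← hg2, mul_assoc, mul_nonsing_inv g hg, mul_one]
  set Ψ : SpecialLinearGroup (Fin 3) F →* K := κ.comp α.toMonoidHom with hΨ
  have hΨsurj : Function.Surjective Ψ := hκ.comp α.surjective
  have hΨker : Ψ.ker ≤ Subgroup.center (SpecialLinearGroup (Fin 3) F) := by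
    intro x hx
    have hx' : α x ∈ κ.ker := by
      rw [MonoidHom.mem_ker] at hx ⊢
      exact hx
    have hc := Subgroup.mem_center_iff.mp (hker hx')
    rw [Subgroup.mem_center_iff]
    intro y
    apply α.injective
    rw [map_mul, map_mul]
    exact hc (α y)
  have hΨ1 : Ψ dUL = z1 := by
    show κ (α dUL) = z1
    rw [hα1, hw1]
  have hΨ2 : Ψ dLR = z2 := by
    show κ (α dLR) = z2
    rw [hα2, hw2]
  refine ⟨Ψ, hΨsurj, hΨker, ?_, ?_, hΨ1, hΨ2⟩
  · exact map_range_eq p Ψ hΨsurj hΨker dUL dUL_mul_self ιUL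
      (fun s hs hsp => mem_range_ιUL p h2 s hs hsp) L1 e1 (by rw [hΨ1]; exact hc1)
  · exact map_range_eq p Ψ hΨsurj hΨker dLR dLR_mul_self ιLR
      (fun s hs hsp => mem_range_ιLR p h2 s hs hsp) L2 e2 (by rw [hΨ2]; exact hc2)

/-- the version for a group isomorphic to `SL₃(F)` or `PSL₃(F)` -/
theorem exists_standard_pair_of_equiv [Fintype F] (hF : Odd (Fintype.card F)) {K : Type*} [Group K]
    (hK : Nonempty (K ≃* SpecialLinearGroup (Fin 3) F) ∨
      Nonempty (K ≃* Matrix.ProjectiveSpecialLinearGroup (Fin 3) F))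
    (L1 L2 : Subgroup K) (e1 : SpecialLinearGroup (Fin 2) F ≃* L1)
    (e2 : SpecialLinearGroup (Fin 2) F ≃* L2)
    (z1 z2 : K) (hz1 : z1 ≠ 1) (hz1' : z1 * z1 = 1) (hc1 : ∀ x ∈ L1, x * z1 = z1 * x)
    (hz2 : z2 ≠ 1) (hz2' : z2 * z2 = 1) (hc2 : ∀ x ∈ L2, x * z2 = z2 * x)
    (hcomm : z1 * z2 = z2 * z1) (hgen : L1 ⊔ L2 = ⊤) :
    ∃ Ψ : SpecialLinearGroup (Fin 3) F →* K, Function.Surjective Ψ ∧
      Ψ.ker ≤ Subgroup.center (SpecialLinearGroup (Fin 3) F) ∧
      (ιUL : SpecialLinearGroup (Fin 2) F →* SpecialLinearGroup (Fin 3) F).range.map Ψ = L1 ∧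
      (ιLR : SpecialLinearGroup (Fin 2) F →* SpecialLinearGroup (Fin 3) F).range.map Ψ = L2 ∧
      Ψ dUL = z1 ∧ Ψ dLR = z2 := by
  rcases hK with ⟨⟨f⟩⟩ | ⟨⟨f⟩⟩
  · refine exists_standard_pair hF f.symm.toMonoidHom f.symm.surjective ?_ L1 L2 e1 e2 z1 z2
      hz1 hz1' hc1 hz2 hz2' hc2 hcomm hgen
    intro x hx
    rw [MonoidHom.mem_ker] at hx
    have : x = 1 := f.symm.injective (by rw [map_one]; exact hx)
    rw [this]
    exact Subgroup.one_mem _
  · refine exists_standard_pair hF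
      (f.symm.toMonoidHom.comp (QuotientGroup.mk' (Subgroup.center (SpecialLinearGroup (Fin 3) F))))
      (f.symm.surjective.comp (QuotientGroup.mk'_surjective _)) ?_ L1 L2 e1 e2 z1 z2
      hz1 hz1' hc1 hz2 hz2' hc2 hcomm hgen
    intro x hx
    rw [MonoidHom.mem_ker] at hx
    have h1 : (QuotientGroup.mk' (Subgroup.center (SpecialLinearGroup (Fin 3) F))) x = 1 :=
      f.symm.injective (by rw [map_one]; exact hx)
    exact (QuotientGroup.eq_one_iff x).mp h1


end Cfsg.Agent.Lib.Helper2.CTSL3Pair
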