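import Mathlib
import Cfsg.Agent.Lib.Helper4.Basic

/-!
# Chief factors of prime-exact order are simple (helper2)

* `isSimpleGroup_section`: translation of simplicity of `H ⧸ N.subgroupOf H` into a statement
  about intermediate subgroups normalized by `H`.
* `exists_chief`: a chief factor `H/N` of `G` whose order is divisible by a given prime.
* `simple_of_chief`: a chief factor whose order is divisible by `q` is simple when `q ^ 2 ∤ |G|`.
* `exists_orderOf_mul_of_frattini`: Frattini argument producing elements of order `s * r`.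
-/

set_option autoImplicit false

namespace Cfsg.Agent.Lib.Helper2.ChiefSimple

open Pointwise

variable {G : Type*} [Group G]

theorem isSimpleGroup_section (N H : Subgroup G) [hN : (N.subgroupOf H).Normal] (hNH : N < H)
    (h : ∀ T : Subgroup G, N ≤ T → T ≤ H → H ≤ Subgroup.normalizer (T : Set G) → T = N ∨ T = H) :
    IsSimpleGroup (↥H ⧸ N.subgroupOf H) := by
  have hne : N.subgroupOf H ≠ ⊤ := by
    intro htop
    rw [Subgroup.subgroupOf_eq_top] at htop
    exact absurd (le_antisymm hNH.le htop) hNH.ne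
  have : Nontrivial (↥H ⧸ N.subgroupOf H) := by
    rw [QuotientGroup.nontrivial_iff]
    exact hne
  refine ⟨fun Tb hTb => ?_⟩
  set T' : Subgroup ↥H := Tb.comap (QuotientGroup.mk' (N.subgroupOf H)) with hT'
  have hT'n : T'.Normal := hTb.comap _
  have hker : N.subgroupOf H ≤ T' := by
    intro x hx
    rw [hT', Subgroup.mem_comap]
    have : QuotientGroup.mk' (N.subgroupOf H) x = 1 := by
      rw [QuotientGroup.mk'_apply, QuotientGroup.eq_one_iff]
      exact hx
    rw [this]
    exact Tb.one_mem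
  have hback : T'.map (QuotientGroup.mk' (N.subgroupOf H)) = Tb :=
    Subgroup.map_comap_eq_self_of_surjective (QuotientGroup.mk'_surjective _) Tb
  have h1 : N ≤ T'.map H.subtype := by
    have := Subgroup.map_mono (f := H.subtype) hker
    rwa [Subgroup.map_subgroupOf_eq_of_le hNH.le] at this
  have h2 : T'.map H.subtype ≤ H := Subgroup.map_subtype_le T'
  have h3 : H ≤ Subgroup.normalizer ((T'.map H.subtype : Subgroup G) : Set G) := by
    intro x hx
    rw [Subgroup.mem_normalizer_iff]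
    intro y
    constructor
    · rintro ⟨t, ht, rfl⟩
      refine ⟨⟨x, hx⟩ * t * ⟨x, hx⟩⁻¹, hT'n.conj_mem t ht ⟨x, hx⟩, ?_⟩
      simp
    · rintro ⟨t, ht, hty⟩
      refine ⟨⟨x, hx⟩⁻¹ * t * ⟨x, hx⟩, ?_, ?_⟩
      · have := hT'n.conj_mem t ht (⟨x, hx⟩⁻¹)
        simpa using this
      · have : y = x⁻¹ * (t : G) * x := by
          have h5 : (t : G) = x * y * x⁻¹ := hty
          rw [h5]
          group
        rw [this]
        simp
  rcases h _ h1 h2 h3 with h4 | h4
  · left
    have h5 : T' = N.subgroupOf H := by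
      apply Subgroup.map_injective H.subtype_injective
      rw [h4, Subgroup.map_subgroupOf_eq_of_le hNH.le]
    rw [← hback, h5]
    exact QuotientGroup.map_mk'_self _
  · right
    have h5 : T' = ⊤ := by
      apply Subgroup.map_injective H.subtype_injective
      rw [h4, ← MonoidHom.range_eq_map, Subgroup.range_subtype]
    rw [← hback, h5]
    exact Subgroup.map_top_of_surjective _ (QuotientGroup.mk'_surjective _)

/-- `H/N` is a chief factor of `G`. -/
structure IsChief (N H : Subgroup G) : Prop where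
  nN : N.Normal
  nH : H.Normal
  lt : N < H
  chief : ∀ K : Subgroup G, K.Normal → N ≤ K → K ≤ H → K = N ∨ K = H

theorem exists_chief [Finite G] {q : ℕ} (hq : q.Prime) (hqG : q ∣ Nat.card G) :
    ∃ N H : Subgroup G, IsChief N H ∧ q ∣ N.relIndex H := by
  classical
  have hfin : Set.Finite {N : Subgroup G | N.Normal ∧ q ∣ N.index} := Set.toFinite _
  obtain ⟨N, ⟨hNn, hNq⟩, hNmax⟩ := hfin.exists_maximal
    ⟨⊥, Subgroup.normal_bot, by rw [Subgroup.index_bot]; exact hqG⟩
  have hNtop : N ≠ ⊤ := by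
    rintro rfl
    rw [Subgroup.index_top] at hNq
    exact hq.one_lt.ne' (Nat.dvd_one.mp hNq)
  have hfin2 : Set.Finite {H : Subgroup G | H.Normal ∧ N < H} := Set.toFinite _
  obtain ⟨H, ⟨hHn, hNH⟩, hHmin⟩ := hfin2.exists_minimal
    ⟨⊤, Subgroup.normal_top, lt_top_iff_ne_top.mpr hNtop⟩
  have hqH : ¬ q ∣ H.index := by
    intro hcon
    have := hNmax ⟨hHn, hcon⟩ hNH.le
    exact absurd (le_antisymm hNH.le this) hNH.ne
  refine ⟨N, H, ⟨hNn, hHn, hNH, ?_⟩, ?_⟩
  · intro K hKn hNK hKH
    by_cases hKN : K = N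
    · exact Or.inl hKN
    · right
      have hlt : N < K := lt_of_le_of_ne hNK (Ne.symm hKN)
      exact le_antisymm hKH (hHmin ⟨hKn, hlt⟩ hKH)
  · have h1 : N.relIndex H * H.index = N.index := Subgroup.relIndex_mul_index hNH.le
    rw [← h1] at hNq
    rcases (Nat.Prime.dvd_mul hq).mp hNq with h | h
    · exact h
    · exact absurd h hqH

theorem mem_normalizer_iff_smul {T : Subgroup G} {g : G} :
    g ∈ Subgroup.normalizer (T : Set G) ↔ MulAut.conj g • T = T := by
  rw [Subgroup.mem_normalizer_iff_map_conj_eq]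
  rfl

/-- Subgroups between `N` and `H` that are normalized by `H`. -/
def Mid (N H T : Subgroup G) : Prop :=
  N ≤ T ∧ T ≤ H ∧ ∀ h ∈ H, MulAut.conj h • T = T

theorem Mid.le_normalizer {N H T : Subgroup G} (hT : Mid N H T) :
    H ≤ Subgroup.normalizer (T : Set G) :=
  fun h hh => mem_normalizer_iff_smul.mpr (hT.2.2 h hh)

theorem mid_of_le_normalizer {N H T : Subgroup G} (h1 : N ≤ T) (h2 : T ≤ H)
    (h3 : H ≤ Subgroup.normalizer (T : Set G)) : Mid N H T :=
  ⟨h1, h2, fun _ hh => mem_normalizer_iff_smul.mp (h3 hh)⟩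

theorem Mid.sup {N H A B : Subgroup G} (hA : Mid N H A) (hB : Mid N H B) : Mid N H (A ⊔ B) :=
  ⟨hA.1.trans le_sup_left, sup_le hA.2.1 hB.2.1, fun h hh => by
    rw [Subgroup.smul_sup, hA.2.2 _ hh, hB.2.2 _ hh]⟩

theorem Mid.inf {N H A B : Subgroup G} (hA : Mid N H A) (hB : Mid N H B) : Mid N H (A ⊓ B) :=
  ⟨le_inf hA.1 hB.1, inf_le_left.trans hA.2.1, fun h hh => by
    rw [Subgroup.smul_inf, hA.2.2 h hh, hB.2.2 h hh]⟩

theorem Mid.conj {N H T : Subgroup G} (hN : N.Normal) (hH : H.Normal) (hT : Mid N H T) (g : G) :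
    Mid N H (MulAut.conj g • T) := by
  have := hN
  have := hH
  refine ⟨?_, ?_, ?_⟩
  · have h1 : MulAut.conj g • N ≤ MulAut.conj g • T :=
      Subgroup.pointwise_smul_le_pointwise_smul_iff.mpr hT.1
    rwa [Subgroup.Normal.conj_smul_eq_self g N] at h1
  · have h1 : MulAut.conj g • T ≤ MulAut.conj g • H :=
      Subgroup.pointwise_smul_le_pointwise_smul_iff.mpr hT.2.1
    rwa [Subgroup.Normal.conj_smul_eq_self g H] at h1
  · intro h hh
    have h1 : g⁻¹ * h * g ∈ H := by
      have := hH.conj_mem h hh g⁻¹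
      simpa using this
    have h2 := hT.2.2 _ h1
    have h3 : MulAut.conj h * MulAut.conj g = MulAut.conj g * MulAut.conj (g⁻¹ * h * g) := by
      rw [← map_mul, ← map_mul]
      congr 1
      group
    rw [← mul_smul, h3, mul_smul, h2]

theorem Mid.self {N H : Subgroup G} (hN : N.Normal) (hNH : N ≤ H) : Mid N H N :=
  ⟨le_rfl, hNH, fun _ _ => by
    have := hN
    exact Subgroup.Normal.conj_smul_eq_self _ _⟩

theorem card_conj_smul (g : G) (T : Subgroup G) :
    Nat.card (MulAut.conj g • T : Subgroup G) = Nat.card T :=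
  (Nat.card_congr (Subgroup.equivSMul (MulAut.conj g) T).toEquiv).symm

theorem relIndex_conj_smul [Finite G] {N T : Subgroup G} (hN : N.Normal) (hNT : N ≤ T) (g : G) :
    N.relIndex (MulAut.conj g • T) = N.relIndex T := by
  have := hN
  have h1 : N ≤ MulAut.conj g • T := by
    have h1 : MulAut.conj g • N ≤ MulAut.conj g • T :=
      Subgroup.pointwise_smul_le_pointwise_smul_iff.mpr hNT
    rwa [Subgroup.Normal.conj_smul_eq_self g N] at h1
  have h2 := Cfsg.Agent.Lib.Helper4.card_mul_relIndex h1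
  have h3 := Cfsg.Agent.Lib.Helper4.card_mul_relIndex hNT
  rw [card_conj_smul, ← h3] at h2
  exact Nat.eq_of_mul_eq_mul_left Nat.card_pos h2

theorem Mid.relIndex_mul [Finite G] {N H A B : Subgroup G} (hA : Mid N H A) (hB : Mid N H B) :
    N.relIndex (A ⊔ B) * N.relIndex (A ⊓ B) = N.relIndex A * N.relIndex B := by
  have h0 := Cfsg.Agent.Lib.Helper4.card_sup_mul_card_inf A B (hA.2.1.trans hB.le_normalizer)
  have h1 := Cfsg.Agent.Lib.Helper4.card_mul_relIndex (hA.sup hB).1
  have h2 := Cfsg.Agent.Lib.Helper4.card_mul_relIndex (hA.inf hB).1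
  have h3 := Cfsg.Agent.Lib.Helper4.card_mul_relIndex hA.1
  have h4 := Cfsg.Agent.Lib.Helper4.card_mul_relIndex hB.1
  rw [← h1, ← h2, ← h3, ← h4] at h0
  have hpos : 0 < Nat.card N * Nat.card N := Nat.mul_pos Nat.card_pos Nat.card_pos
  apply Nat.eq_of_mul_eq_mul_left hpos
  calc Nat.card N * Nat.card N * (N.relIndex (A ⊔ B) * N.relIndex (A ⊓ B))
      = Nat.card N * N.relIndex (A ⊔ B) * (Nat.card N * N.relIndex (A ⊓ B)) := by ring
    _ = Nat.card N * N.relIndex A * (Nat.card N * N.relIndex B) := h0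
    _ = _ := by ring

/-- In a chief factor whose order is divisible by `q`, there is no nontrivial normal
`q'`-subgroup. -/
theorem eq_of_not_dvd_relIndex [Finite G] {N H : Subgroup G} (hc : IsChief N H) {q : ℕ}
    (hq : q.Prime) (hqr : q ∣ N.relIndex H) {T : Subgroup G} (hT : Mid N H T)
    (hqT : ¬ q ∣ N.relIndex T) : T = N := by
  classical
  have hfin : Set.Finite {R : Subgroup G | Mid N H R ∧ ¬ q ∣ N.relIndex R} := Set.toFinite _
  obtain ⟨R, ⟨hR, hqR⟩, hRmax⟩ := hfin.exists_maximal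
    ⟨N, Mid.self hc.nN hc.lt.le, by
      rw [Subgroup.relIndex_self]
      exact fun h => hq.one_lt.ne' (Nat.dvd_one.mp h)⟩
  have hsup : ∀ A : Subgroup G, Mid N H A → ¬ q ∣ N.relIndex A → A ≤ R := by
    intro A hA hqA
    have h1 : ¬ q ∣ N.relIndex (R ⊔ A) := by
      intro hcon
      have h2 : q ∣ N.relIndex R * N.relIndex A := by
        rw [← hR.relIndex_mul hA]
        exact Dvd.dvd.mul_right hcon _
      rcases (Nat.Prime.dvd_mul hq).mp h2 with h | h
      · exact hqR h
      · exact hqA h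
    have := hRmax ⟨hR.sup hA, h1⟩ le_sup_left
    exact le_sup_right.trans this
  have hRn : R.Normal := by
    refine ⟨fun n hn g => ?_⟩
    have h1 : MulAut.conj g • R ≤ R :=
      hsup _ (hR.conj hc.nN hc.nH g) (by rw [relIndex_conj_smul hc.nN hR.1]; exact hqR)
    exact h1 (Subgroup.smul_mem_pointwise_smul n (MulAut.conj g) R hn)
  rcases hc.chief R hRn hR.1 hR.2.1 with h | h
  · exact le_antisymm (h ▸ hsup T hT hqT) hT.1
  · rw [h] at hqR
    exact absurd hqr hqR

theorem eq_or_eq_of_mid [Finite G] {N H : Subgroup G} (hc : IsChief N H) {q : ℕ}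
    (hq : q.Prime) (hqr : q ∣ N.relIndex H) (hq2 : ¬ q ^ 2 ∣ Nat.card G) {T : Subgroup G}
    (hT : Mid N H T) : T = N ∨ T = H := by
  classical
  by_contra hcon
  rw [not_or] at hcon
  have hfin : Set.Finite {R : Subgroup G | Mid N H R ∧ R ≠ N ∧ R ≠ H} := Set.toFinite _
  obtain ⟨R, ⟨hR, hRN, hRH⟩, hRmin⟩ := hfin.exists_minimal ⟨T, hT, hcon.1, hcon.2⟩
  have hqR : q ∣ N.relIndex R := by
    by_contra h
    exact hRN (eq_of_not_dvd_relIndex hc hq hqr hR h)
  have hstep : ∀ g : G, R ⊓ MulAut.conj g • R = N ∨ R ≤ MulAut.conj g • R := by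
    intro g
    have hI : Mid N H (R ⊓ MulAut.conj g • R) := hR.inf (hR.conj hc.nN hc.nH g)
    by_cases h1 : R ⊓ MulAut.conj g • R = N
    · exact Or.inl h1
    · right
      have h2 : R ⊓ MulAut.conj g • R ≠ H := by
        intro h
        apply hRH
        exact le_antisymm hR.2.1 (h ▸ inf_le_left)
      have := hRmin ⟨hI, h1, h2⟩ inf_le_left
      exact (le_inf_iff.mp this).2
  by_cases hall : ∀ g : G, R ≤ MulAut.conj g • R
  · have hRn : R.Normal := by
      refine ⟨fun n hn g => ?_⟩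
      have h1 := hall g⁻¹
      have h2 : MulAut.conj g • R ≤ MulAut.conj g • (MulAut.conj g⁻¹ • R) :=
        Subgroup.pointwise_smul_le_pointwise_smul_iff.mpr h1
      rw [← mul_smul, ← map_mul, mul_inv_cancel, map_one, one_smul] at h2
      exact h2 (Subgroup.smul_mem_pointwise_smul n (MulAut.conj g) R hn)
    rcases hc.chief R hRn hR.1 hR.2.1 with h | h
    · exact hRN h
    · exact hRH h
  · push Not at hall
    obtain ⟨g, hg⟩ := hall
    have hIN : R ⊓ MulAut.conj g • R = N := (hstep g).resolve_right hg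
    have h1 := hR.relIndex_mul (hR.conj hc.nN hc.nH g)
    rw [hIN, Subgroup.relIndex_self, mul_one, relIndex_conj_smul hc.nN hR.1] at h1
    have h2 : q ^ 2 ∣ N.relIndex (R ⊔ MulAut.conj g • R) := by
      rw [h1, pow_two]
      exact Nat.mul_dvd_mul hqR hqR
    have h3 := Cfsg.Agent.Lib.Helper4.card_mul_relIndex (hR.sup (hR.conj hc.nN hc.nH g)).1
    have h4 : N.relIndex (R ⊔ MulAut.conj g • R) ∣ Nat.card G :=
      (Dvd.intro_left _ h3).trans (Subgroup.card_subgroup_dvd_card _)
    exact hq2 (h2.trans h4)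

/-- A chief factor whose order is divisible by a prime `q` with `q ^ 2 ∤ |G|` is simple. -/
theorem simple_of_chief [Finite G] {N H : Subgroup G} (hc : IsChief N H) {q : ℕ}
    (hq : q.Prime) (hqr : q ∣ N.relIndex H) (hq2 : ¬ q ^ 2 ∣ Nat.card G) :
    haveI := hc.nN
    IsSimpleGroup (↥H ⧸ N.subgroupOf H) := by
  have := hc.nN
  exact isSimpleGroup_section N H hc.lt fun T h1 h2 h3 =>
    eq_or_eq_of_mid hc hq hqr hq2 (mid_of_le_normalizer h1 h2 h3)

/-- An element of prime order `p` normalizing a subgroup of prime order `q` with `p ∤ q - 1`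
centralizes it, giving an element of order `p * q`. -/
theorem exists_orderOf_mul_of_normalizes {p q : ℕ} (hp : p.Prime) (hq : q.Prime) (hpq : p ≠ q)
    (hnd : ¬ p ∣ q - 1) (Q : Subgroup G) (hQ : Nat.card Q = q) (y : G) (hy : orderOf y = p)
    (hyQ : y ∈ Subgroup.normalizer (Q : Set G)) : ∃ z : G, orderOf z = p * q := by
  have hqF : Fact q.Prime := ⟨hq⟩
  have hfin : Finite Q := Nat.finite_of_card_ne_zero (by rw [hQ]; exact hq.ne_zero)
  have hQne : Q ≠ ⊥ := by
    intro h
    rw [h, Subgroup.card_bot] at hQ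
    exact hq.one_lt.ne hQ
  obtain ⟨⟨x, hxQ⟩, hx1⟩ := (Subgroup.ne_bot_iff_exists_ne_one).mp hQne
  have hx1' : x ≠ 1 := fun h => hx1 (Subtype.ext h)
  have hxo : orderOf x = q := by
    have h1 : orderOf (⟨x, hxQ⟩ : Q) ∣ q := hQ ▸ orderOf_dvd_natCard _
    rw [Subgroup.orderOf_mk] at h1
    rcases (Nat.dvd_prime hq).mp h1 with h | h
    · exact absurd (orderOf_eq_one_iff.mp h) hx1'
    · exact h
  have hzp : Subgroup.zpowers x = Q := by
    apply Subgroup.eq_of_le_of_card_ge (Subgroup.zpowers_le.mpr hxQ)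
    rw [Nat.card_zpowers, hxo, hQ]
  have hfo : IsOfFinOrder x := orderOf_pos_iff.mp (by rw [hxo]; exact hq.pos)
  have hconj : y * x * y⁻¹ ∈ Q := ((Subgroup.mem_normalizer_iff).mp hyQ x).mp hxQ
  rw [← hzp, ← hfo.mem_powers_iff_mem_zpowers, Submonoid.mem_powers_iff] at hconj
  obtain ⟨k, hk⟩ := hconj
  have hiter : ∀ j : ℕ, (MulAut.conj y ^ j) x = x ^ (k ^ j) := by
    intro j
    induction j with
    | zero => simp
    | succ j ih =>
      rw [pow_succ', MulAut.mul_apply, ih, map_pow, MulAut.conj_apply, ← hk, ← pow_mul,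
        pow_succ']
  have h1 := hiter p
  rw [← map_pow, ← hy, pow_orderOf_eq_one, map_one, MulAut.one_apply] at h1
  have h2 : x ^ 1 = x ^ (k ^ orderOf y) := by rw [pow_one]; exact h1
  rw [pow_eq_pow_iff_modEq, hxo, hy] at h2
  have h3 : ((k : ZMod q)) ^ p = 1 := by
    have := (ZMod.natCast_eq_natCast_iff _ _ _).mpr h2
    push_cast at this
    exact this.symm
  have hk0 : (k : ZMod q) ≠ 0 := by
    intro h
    rw [h, zero_pow hp.ne_zero] at h3
    exact zero_ne_one h3
  have h4 : ((k : ZMod q)) ^ (q - 1) = 1 := ZMod.pow_card_sub_one_eq_one hk0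
  have h5 : (k : ZMod q) ^ Nat.gcd p (q - 1) = 1 := pow_gcd_eq_one.mpr ⟨h3, h4⟩
  have hcop : Nat.gcd p (q - 1) = 1 := (Nat.Prime.coprime_iff_not_dvd hp).mpr hnd
  rw [hcop, pow_one] at h5
  have h6 : k ≡ 1 [MOD q] := by
    rw [← ZMod.natCast_eq_natCast_iff]
    push_cast
    exact h5
  have h7 : x ^ k = x ^ 1 := by
    rw [pow_eq_pow_iff_modEq, hxo]
    exact h6
  rw [pow_one] at h7
  have hcomm : Commute y x := by
    have : y * x * y⁻¹ = x := by rw [← hk, h7]
    have h8 : y * x = x * y := by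
      calc y * x = y * x * y⁻¹ * y := by group
        _ = x * y := by rw [this]
    exact h8
  refine ⟨y * x, ?_⟩
  rw [hcomm.orderOf_mul_eq_mul_orderOf_of_coprime
    (by rw [hy, hxo]; exact (Nat.coprime_primes hp hq).mpr hpq), hy, hxo]

theorem card_sylow_eq_prime {X : Type*} [Group X] [Finite X] {p : ℕ} [hp : Fact p.Prime]
    (h1 : p ∣ Nat.card X) (h2 : ¬ p ^ 2 ∣ Nat.card X) (P : Sylow p X) : Nat.card P = p := by
  have hne : Nat.card X ≠ 0 := Nat.card_pos.ne'
  rw [P.card_eq_multiplicity]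
  have h3 : 1 ≤ (Nat.card X).factorization p :=
    (hp.out.dvd_iff_one_le_factorization hne).mp h1
  have h4 : ¬ 2 ≤ (Nat.card X).factorization p := by
    rw [← hp.out.pow_dvd_iff_le_factorization hne]
    exact h2
  have : (Nat.card X).factorization p = 1 := by omega
  rw [this, pow_one]

theorem index_dvd_card_of_sup_eq_top [Finite G] (A B : Subgroup G) [B.Normal]
    (h : A ⊔ B = ⊤) : B.index ∣ Nat.card A := by
  have hAB : A ≤ Subgroup.normalizer (B : Set G) := by
    rw [Subgroup.normalizer_eq_top]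
    exact le_top
  have h1 := Cfsg.Agent.Lib.Helper4.card_sup_mul_card_inf A B hAB
  rw [h, Subgroup.card_top, ← B.card_mul_index] at h1
  refine ⟨Nat.card (A ⊓ B : Subgroup G), ?_⟩
  have hpos : 0 < Nat.card B := Nat.card_pos
  apply Nat.eq_of_mul_eq_mul_left hpos
  calc Nat.card B * Nat.card A = Nat.card A * Nat.card B := by ring
    _ = Nat.card B * B.index * Nat.card (A ⊓ B : Subgroup G) := h1.symm
    _ = _ := by ring

/-- Frattini argument: if `r` exactly divides the order of the normal subgroup `M`, `s` divides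
the index of `M`, and `s ∤ r - 1`, then `G` has an element of order `s * r`. -/
theorem exists_orderOf_mul_of_frattini [Finite G] (M : Subgroup G) [M.Normal] {r s : ℕ}
    (hr : r.Prime) (hs : s.Prime) (hsr : s ≠ r) (h1 : r ∣ Nat.card M)
    (h2 : ¬ r ^ 2 ∣ Nat.card M) (h3 : s ∣ M.index) (h4 : ¬ s ∣ r - 1) :
    ∃ z : G, orderOf z = s * r := by
  have hrF : Fact r.Prime := ⟨hr⟩
  have hsF : Fact s.Prime := ⟨hs⟩
  obtain ⟨P'⟩ : Nonempty (Sylow r ↥M) := inferInstance
  have hP' : Nat.card P' = r := card_sylow_eq_prime h1 h2 P'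
  set P : Subgroup G := (P' : Subgroup ↥M).map M.subtype with hPdef
  have hP : Nat.card P = r := by
    rw [hPdef, Subgroup.card_map_of_injective M.subtype_injective]
    exact hP'
  have hfr : Subgroup.normalizer (P : Set G) ⊔ M = ⊤ := Sylow.normalizer_sup_eq_top P'
  have hdvd : s ∣ Nat.card (Subgroup.normalizer (P : Set G)) :=
    h3.trans (index_dvd_card_of_sup_eq_top _ M hfr)
  obtain ⟨y, hy⟩ := exists_prime_orderOf_dvd_card' s hdvd
  have hy' : orderOf (y : G) = s := by
    rw [Subgroup.orderOf_coe]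
    exact hy
  exact exists_orderOf_mul_of_normalizes hs hr hsr h4 P hP (y : G) hy' y.2

end Cfsg.Agent.Lib.Helper2.ChiefSimple
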