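/-
helper2: irreducible characters of degree coprime to the index of a normal Hall subgroup `K`:
they restrict irreducibly to `K`, and are counted by
(invariant irreducible characters of `K`) × (linear characters of `G/K`).
-/
import Mathlib
import Cfsg.Agent.S0867
import Cfsg.Agent.Lib.Helper6.Gallagher2
import Cfsg.Agent.Lib.Helper6.LinChar
import Cfsg.Agent.Lib.Helper6.CliffordCorr
import Cfsg.Agent.Lib.Helper24.NormalDegrees
import Cfsg.Agent.Lib.Helper24.Deflation
import Cfsg.Agent.Lib.Helper2.GlaubTwist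

set_option autoImplicit false

namespace Cfsg.Agent.Lib.Helper2.CoprimeDeg

open Cfsg Cfsg.Agent.CharLib Cfsg.Agent.Lib.Helper6 Cfsg.Agent.Lib.Helper24
open scoped ComplexConjugate

universe u

variable {G : Type u} [Group G] [Finite G] (K : Subgroup G) [hK : K.Normal]

theorem charDegree_congr {A B : Type*} [Group A] [Group B] {f : A → ℂ} {g : B → ℂ}
    (h : f 1 = g 1) : charDegree f = charDegree g := by
  unfold charDegree
  rw [h]

/-- Invariant irreducible characters of a normal Hall subgroup extend. -/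
theorem exists_extension (hcop : (Nat.card K).Coprime K.index) (θ : IrrCharacter K)
    (hinv : ∀ g : G, conjFun K g (θ : K → ℂ) = θ) :
    ∃ χ : G → ℂ, IsIrrCharacter G χ ∧ resFun K χ = (θ : K → ℂ) := by
  have hd := irr_apply_one θ
  have h1 : detOrder (θ : K → ℂ) ∣ Nat.card K :=
    Cfsg.Agent.Lib.Helper2.Glaub.detOrder_dvd_card (IsIrrCharacter.isCharacter θ.2)
  have h2 : charDegree (θ : K → ℂ) ∣ Nat.card K := irr_charDegree_dvd_card θ
  have hcop' : Nat.Coprime K.index (detOrder (θ : K → ℂ) * charDegree (θ : K → ℂ)) :=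
    Nat.Coprime.mul_right (hcop.symm.coprime_dvd_right h1) (hcop.symm.coprime_dvd_right h2)
  obtain ⟨χ, ⟨hχ, hres, _⟩, _⟩ := Cfsg.Agent.S0867.result K (θ : K → ℂ) θ.2
    (fun g n => congrFun (hinv g) n) (charDegree (θ : K → ℂ)) hd hcop'
  exact ⟨χ, hχ, funext hres⟩

/-- **Counting characters of degree coprime to the index of a normal Hall subgroup.** -/
theorem card_coprime_degree (hcop : (Nat.card K).Coprime K.index) :
    Nat.card {χ : IrrCharacter G // (charDegree (χ : G → ℂ)).Coprime K.index} =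
      Nat.card {θ : IrrCharacter K // ∀ g : G, conjFun K g (θ : K → ℂ) = θ} *
        Nat.card {φ : G →* ℂˣ // ∀ k ∈ K, φ k = 1} := by
  classical
  let _ := Fintype.ofFinite G
  let _ := Fintype.ofFinite K
  rw [← Nat.card_prod]
  symm
  have hext : ∀ θ : {θ : IrrCharacter K // ∀ g : G, conjFun K g (θ : K → ℂ) = θ},
      ∃ χ : G → ℂ, IsIrrCharacter G χ ∧ resFun K χ = (θ.1 : K → ℂ) :=
    fun θ => exists_extension K hcop θ.1 θ.2
  choose ext hextI hextR using hext
  have hone : classInner (1 : K → ℂ) (1 : K → ℂ) = 1 := by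
    have := classInner_irr (Cfsg.Agent.Lib.Helper6.isIrrCharacter_one K)
      (Cfsg.Agent.Lib.Helper6.isIrrCharacter_one K)
    rw [if_pos rfl] at this
    exact this
  have hφover : ∀ φ : {φ : G →* ℂˣ // ∀ k ∈ K, φ k = 1},
      IsIrrCharacter G (unitsHomToFun G φ.1) ∧
        classInner (indFun K (1 : K → ℂ)) (unitsHomToFun G φ.1) ≠ 0 := by
    intro φ
    have h1 : IsIrrCharacter G (unitsHomToFun G φ.1) := isIrrCharacter_of_hom φ.1
    refine ⟨h1, ?_⟩
    rw [frobenius_reciprocity K _ (IsCharacter.isClassFunction (IsIrrCharacter.isCharacter h1))]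
    have h2 : (fun k : K => unitsHomToFun G φ.1 k) = (1 : K → ℂ) := by
      funext k
      rw [unitsHomToFun_apply, φ.2 k k.2]
      simp
    rw [h2, hone]
    exact one_ne_zero
  have hθK : ∀ θ : {θ : IrrCharacter K // ∀ g : G, conjFun K g (θ : K → ℂ) = θ},
      IsIrrCharacter K (resFun K (ext θ)) := fun θ => by rw [hextR]; exact θ.1.2
  have hgal := fun θ => gallagher_bijOn K (hextI θ) (hθK θ)
  have hFirr : ∀ (θ : {θ : IrrCharacter K // ∀ g : G, conjFun K g (θ : K → ℂ) = θ})
      (φ : {φ : G →* ℂˣ // ∀ k ∈ K, φ k = 1}), IsIrrCharacter G (unitsHomToFun G φ.1 * ext θ) :=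
    fun θ φ => ((hgal θ).mapsTo (hφover φ)).1
  have hFres : ∀ (θ : {θ : IrrCharacter K // ∀ g : G, conjFun K g (θ : K → ℂ) = θ})
      (φ : {φ : G →* ℂˣ // ∀ k ∈ K, φ k = 1}),
      resFun K (unitsHomToFun G φ.1 * ext θ) = (θ.1 : K → ℂ) := by
    intro θ φ
    funext k
    have h1 : resFun K (ext θ) k = (θ.1 : K → ℂ) k := by rw [hextR]
    show unitsHomToFun G φ.1 k * ext θ k = _
    rw [unitsHomToFun_apply, φ.2 k k.2, Units.val_one, one_mul]
    exact h1
  have hFdeg : ∀ (θ : {θ : IrrCharacter K // ∀ g : G, conjFun K g (θ : K → ℂ) = θ})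
      (φ : {φ : G →* ℂˣ // ∀ k ∈ K, φ k = 1}),
      (charDegree (unitsHomToFun G φ.1 * ext θ)).Coprime K.index := by
    intro θ φ
    have h1 : charDegree (unitsHomToFun G φ.1 * ext θ) = charDegree (θ.1 : K → ℂ) := by
      apply charDegree_congr
      exact congrFun (hFres θ φ) 1
    rw [h1]
    exact Nat.Coprime.coprime_dvd_left (irr_charDegree_dvd_card θ.1) hcop
  let F : {θ : IrrCharacter K // ∀ g : G, conjFun K g (θ : K → ℂ) = θ} ×
      {φ : G →* ℂˣ // ∀ k ∈ K, φ k = 1} →
      {χ : IrrCharacter G // (charDegree (χ : G → ℂ)).Coprime K.index} :=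
    fun x => ⟨⟨unitsHomToFun G x.2.1 * ext x.1, hFirr x.1 x.2⟩, hFdeg x.1 x.2⟩
  apply Nat.card_congr
  refine Equiv.ofBijective F ⟨?_, ?_⟩
  · rintro ⟨θ, φ⟩ ⟨θ', φ'⟩ h
    have h1 : unitsHomToFun G φ.1 * ext θ = unitsHomToFun G φ'.1 * ext θ' :=
      congrArg (fun x : {χ : IrrCharacter G // (charDegree (χ : G → ℂ)).Coprime K.index} =>
        (x.1 : G → ℂ)) h
    have h2 : θ = θ' := by
      apply Subtype.ext
      apply Subtype.ext
      rw [← hFres θ φ, ← hFres θ' φ', h1]
    subst h2
    have h3 : unitsHomToFun G φ.1 = unitsHomToFun G φ'.1 :=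
      (hgal θ).injOn (hφover φ) (hφover φ') h1
    have h4 : φ = φ' := Subtype.ext (unitsHomToFun_injective h3)
    rw [h4]
  · rintro ⟨⟨χ, hχ⟩, hdeg⟩
    have hχc := IsIrrCharacter.isCharacter hχ
    have hresc : IsCharacter K (resFun K χ) := isCharacter_resFun K hχc
    have hres0 : resFun K χ ≠ 0 := by
      intro h0
      have h1 := congrFun h0 1
      have h2 : resFun K χ 1 = χ 1 := rfl
      rw [h2] at h1
      exact irr_apply_one_ne_zero ⟨χ, hχ⟩ h1
    obtain ⟨θ, hθ, hθne⟩ := IsCharacter.exists_constituent hresc hres0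
    obtain ⟨e, he⟩ := IsCharacter.classInner_nat hresc (IsIrrCharacter.isCharacter hθ)
    have hcd := clifford_degree K hχ hθ hθne
    have hχ1 := irr_apply_one ⟨χ, hχ⟩
    have hθ1 := irr_apply_one ⟨θ, hθ⟩
    simp only at hχ1 hθ1
    rw [hχ1, hθ1, he] at hcd
    have hcd' : charDegree χ = e * (conjOrbit K θ).card * charDegree θ := by exact_mod_cast hcd
    have ht1 : (conjOrbit K θ).card ∣ K.index :=
      card_conjOrbit_dvd_index K (IsCharacter.isClassFunction (IsIrrCharacter.isCharacter hθ))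
    have ht2 : (conjOrbit K θ).card ∣ charDegree χ := by
      rw [hcd']
      exact dvd_mul_of_dvd_left (dvd_mul_left _ _) _
    have ht : (conjOrbit K θ).card = 1 := by
      have := Nat.dvd_gcd ht2 ht1
      rw [Nat.Coprime.gcd_eq_one hdeg] at this
      exact Nat.dvd_one.mp this
    have hinv : ∀ g : G, conjFun K g θ = θ := by
      intro g
      obtain ⟨a, ha⟩ := Finset.card_eq_one.mp ht
      have h1 : conjFun K g θ ∈ conjOrbit K θ := (mem_conjOrbit K).mpr ⟨g, rfl⟩
      have h2 : θ ∈ conjOrbit K θ := (mem_conjOrbit K).mpr ⟨1, conjFun_one K θ⟩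
      rw [ha, Finset.mem_singleton] at h1 h2
      rw [h1, h2]
    let θI : {θ : IrrCharacter K // ∀ g : G, conjFun K g (θ : K → ℂ) = θ} := ⟨⟨θ, hθ⟩, hinv⟩
    have hover : classInner (indFun K (resFun K (ext θI))) χ ≠ 0 := by
      rw [hextR θI, frobenius_reciprocity K _ (IsCharacter.isClassFunction hχc)]
      have h1 : classInner θ (fun k : K => χ k) = conj (classInner (resFun K χ) θ) :=
        (classInner_conj_symm (resFun K χ) θ).symm
      rw [h1]
      intro h0
      exact hθne ((map_eq_zero (starRingEnd ℂ)).mp h0)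
    obtain ⟨β, ⟨hβirr, hβover⟩, hβχ⟩ := (hgal θI).surjOn ⟨hχ, hover⟩
    simp only at hβχ
    have hβK := (apply_mul_of_indFun_one_ne_zero K hβirr hβover).2
    have hβ1' := irr_apply_one ⟨β, hβirr⟩
    simp only at hβ1'
    -- the degree of β divides the index
    have hb1 : charDegree β ∣ K.index := by
      obtain ⟨n, ρ, hirr, rfl⟩ := hβirr
      haveI : ρ.IsIrreducible := hirr
      have h1 := finrank_dvd_index_of_le_ker K ρ (by
        intro k hk
        have := hβK ⟨k, hk⟩ 1
        rw [mul_one] at this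
        rw [this, Representation.char_one])
      have h2 : charDegree ρ.character = Module.finrank ℂ (Fin n → ℂ) := by
        have : ρ.character 1 = ((Module.finrank ℂ (Fin n → ℂ) : ℕ) : ℂ) := Representation.char_one ρ
        rw [hβ1'] at this
        exact_mod_cast this
      rw [h2]
      exact h1
    have hb2 : charDegree β ∣ charDegree χ := by
      have h1 := congrFun hβχ 1
      have h2 : ext θI 1 = (charDegree θ : ℂ) := by
        have : resFun K (ext θI) 1 = θ 1 := by rw [hextR θI]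
        rw [← hθ1, ← this]
        rfl
      rw [Pi.mul_apply, hβ1', h2, hχ1] at h1
      have h3 : charDegree β * charDegree θ = charDegree χ := by exact_mod_cast h1
      exact ⟨_, h3.symm⟩
    have hb : charDegree β = 1 := by
      have := Nat.dvd_gcd hb2 hb1
      rw [Nat.Coprime.gcd_eq_one hdeg] at this
      exact Nat.dvd_one.mp this
    have hβ1 : β 1 = 1 := by rw [hβ1', hb]; simp
    let φ : G →* ℂˣ := linCharUnitsHom (IsIrrCharacter.isCharacter hβirr) hβ1
    have hφK : ∀ k ∈ K, φ k = 1 := by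
      intro k hk
      apply Units.ext
      have h1 : ((φ k : ℂˣ) : ℂ) = β k := rfl
      rw [h1]
      have := hβK ⟨k, hk⟩ 1
      rw [mul_one] at this
      rw [this, hβ1]
      rfl
    refine ⟨(θI, ⟨φ, hφK⟩), ?_⟩
    apply Subtype.ext
    apply Subtype.ext
    exact hβχ

end Cfsg.Agent.Lib.Helper2.CoprimeDeg
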