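/-
helper2: Isaacs 13.25 -- for `G = K H` with `K` normal, `(|K|,|H|) = 1` and `H` solvable, `G` and
`N_G(H)` have equally many irreducible characters of degree coprime to `|H|`.
-/
import Mathlib
import Cfsg.Agent.Lib.Helper2.CoprimeDeg
import Cfsg.Agent.Lib.Helper2.GlaubSolv

set_option autoImplicit false

namespace Cfsg.Agent.Lib.Helper2.CoprimeDeg

open Cfsg Cfsg.Agent.CharLib Cfsg.Agent.Lib.Helper6 Cfsg.Agent.Lib.Helper24
open Cfsg.Agent.Lib.Helper2.Glaub
open scoped ComplexConjugate

universe u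

variable {G : Type u} [Group G]

/-- Homomorphisms trivial on a normal subgroup are homomorphisms of the quotient. -/
def homTrivEquiv (K : Subgroup G) [K.Normal] :
    {φ : G →* ℂˣ // ∀ k ∈ K, φ k = 1} ≃ (G ⧸ K →* ℂˣ) where
  toFun φ := QuotientGroup.lift K φ.1 (fun k hk => MonoidHom.mem_ker.mpr (φ.2 k hk))
  invFun ψ := ⟨ψ.comp (QuotientGroup.mk' K), fun k hk => by
    rw [MonoidHom.comp_apply, QuotientGroup.mk'_apply, (QuotientGroup.eq_one_iff k).mpr hk,
      map_one]⟩
  left_inv φ := by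
    apply Subtype.ext
    ext g
    simp
  right_inv ψ := by
    apply QuotientGroup.monoidHom_ext
    ext g
    simp

theorem card_hom_trivial_on {H K : Subgroup G} [K.Normal] (hc : H.IsComplement' K) :
    Nat.card {φ : G →* ℂˣ // ∀ k ∈ K, φ k = 1} = Nat.card (H →* ℂˣ) := by
  rw [Nat.card_congr (homTrivEquiv K)]
  exact Nat.card_congr
    { toFun := fun ψ => ψ.comp hc.QuotientMulEquiv.symm.toMonoidHom
      invFun := fun ψ => ψ.comp hc.QuotientMulEquiv.toMonoidHom
      left_inv := fun ψ => by ext x; simp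
      right_inv := fun ψ => by ext x; simp }

theorem card_hom_congr {A B : Type*} [Group A] [Group B] (e : A ≃* B) :
    Nat.card (A →* ℂˣ) = Nat.card (B →* ℂˣ) :=
  Nat.card_congr
    { toFun := fun ψ => ψ.comp e.symm.toMonoidHom
      invFun := fun ψ => ψ.comp e.toMonoidHom
      left_inv := fun ψ => by ext x; simp
      right_inv := fun ψ => by ext x; simp }

variable [Finite G] (K H : Subgroup G) [hK : K.Normal]

theorem isComplement'_of_sup (hKH : K ⊔ H = ⊤) (hcop : (Nat.card K).Coprime (Nat.card H)) :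
    H.IsComplement' K := by
  apply Subgroup.isComplement'_of_disjoint_and_mul_eq_univ
  · exact (Subgroup.disjoint_of_coprime_natCard hcop).symm
  · rw [← Subgroup.mul_normal H K, sup_comm, hKH]
    rfl

/-- Elements of `K` normalising `H` centralise `H`. -/
theorem commute_of_mem_normalizer (hd : Disjoint K H) {c h : G} (hcK : c ∈ K)
    (hcN : c ∈ Subgroup.normalizer (H : Set G)) (hh : h ∈ H) : h * c = c * h := by
  have h1 : h * c * h⁻¹ * c⁻¹ ∈ K := K.mul_mem (hK.conj_mem c hcK h) (K.inv_mem hcK)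
  have h2 : h * c * h⁻¹ * c⁻¹ ∈ H := by
    have h3 : c * h⁻¹ * c⁻¹ ∈ H := (Subgroup.mem_normalizer_iff.mp hcN h⁻¹).mp (H.inv_mem hh)
    have : h * c * h⁻¹ * c⁻¹ = h * (c * h⁻¹ * c⁻¹) := by group
    rw [this]
    exact H.mul_mem hh h3
  have h4 : h * c * h⁻¹ * c⁻¹ = 1 := by
    have := (Subgroup.disjoint_def.mp hd) h1 h2
    exact this
  calc h * c = (h * c * h⁻¹ * c⁻¹) * (c * h) := by group
    _ = c * h := by rw [h4, one_mul]

theorem inf_normalizer_eq (hd : Disjoint K H) :
    K ⊓ Subgroup.normalizer (H : Set G) = K ⊓ Subgroup.centralizer (H : Set G) := by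
  apply le_antisymm
  · intro c hc
    refine ⟨hc.1, ?_⟩
    show c ∈ Subgroup.centralizer (H : Set G)
    rw [Subgroup.mem_centralizer_iff]
    intro h hh
    exact commute_of_mem_normalizer K H hd hc.1 hc.2 hh
  · exact inf_le_inf_left K (Subgroup.centralizer_le_normalizer _)

/-- Invariance under all of `G = K H` is invariance under `H`. -/
theorem invariant_iff_invUnder (hKH : K ⊔ H = ⊤) (θ : IrrCharacter K) :
    (∀ g : G, Helper6.conjFun K g (θ : K → ℂ) = θ) ↔ InvUnder K H (θ : K → ℂ) := by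
  constructor
  · intro h t _ k k' hk'
    have h1 := congrFun (h t) k
    rw [conjFun_apply] at h1
    have : k' = ⟨t * k * t⁻¹, hK.conj_mem k k.2 t⟩ := Subtype.ext hk'
    rw [this, h1]
  · intro h g
    have hg : g ∈ K ⊔ H := by rw [hKH]; exact Subgroup.mem_top g
    rw [← SetLike.mem_coe, Subgroup.normal_mul K H, Set.mem_mul] at hg
    obtain ⟨k₀, hk₀, t, ht, rfl⟩ := hg
    funext k
    rw [conjFun_apply]
    have h1 : (⟨k₀ * t * k * (k₀ * t)⁻¹, hK.conj_mem k k.2 (k₀ * t)⟩ : K) =
        ⟨k₀, hk₀⟩ * ⟨t * k * t⁻¹, hK.conj_mem k k.2 t⟩ * ⟨k₀, hk₀⟩⁻¹ := by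
      apply Subtype.ext
      simp only [Subgroup.coe_mul, Subgroup.coe_inv]
      group
    rw [h1, irr_conj θ]
    exact h t ht k _ rfl

/-- The left-hand count. -/
theorem card_left [Fintype G] (hKH : K ⊔ H = ⊤) (hcop : (Nat.card K).Coprime (Nat.card H))
    (hsolv : Group.IsSolvable H) :
    Nat.card {χ : IrrCharacter G // (charDegree (χ : G → ℂ)).Coprime (Nat.card H)} =
      Nat.card (IrrCharacter (K ⊓ Subgroup.centralizer (H : Set G) : Subgroup G)) *
        Nat.card (H →* ℂˣ) := by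
  have hc := isComplement'_of_sup K H hKH hcop
  have hidx : K.index = Nat.card H := hc.index_eq_card
  have h1 := card_coprime_degree K (by rw [hidx]; exact hcop)
  rw [hidx] at h1
  rw [h1, card_hom_trivial_on hc]
  congr 1
  rw [Nat.card_congr (Equiv.subtypeEquivRight (invariant_iff_invUnder K H hKH))]
  apply card_inv_irr_solv K H _ _ hcop hsolv rfl
  rw [Subgroup.normalizer_eq_top]
  exact le_top

/-- The right-hand count. -/
theorem card_right (hKH : K ⊔ H = ⊤) (hcop : (Nat.card K).Coprime (Nat.card H)) :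
    Nat.card {η : IrrCharacter (Subgroup.normalizer (H : Set G)) //
        (charDegree (η : Subgroup.normalizer (H : Set G) → ℂ)).Coprime (Nat.card H)} =
      Nat.card (IrrCharacter (K ⊓ Subgroup.centralizer (H : Set G) : Subgroup G)) *
        Nat.card (H →* ℂˣ) := by
  classical
  set N : Subgroup G := Subgroup.normalizer (H : Set G) with hN
  have hd : Disjoint K H := Subgroup.disjoint_of_coprime_natCard hcop
  have hHN : H ≤ N := Subgroup.le_normalizer
  let K' : Subgroup N := K.subgroupOf N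
  let H' : Subgroup N := H.subgroupOf N
  haveI : K'.Normal := Subgroup.normal_subgroupOf
  have hprod : ∀ n : N, ∃ h' ∈ H', ∃ k' ∈ K', h' * k' = n := by
    intro n
    have hn : (n : G) ∈ H ⊔ K := by
      rw [sup_comm, hKH]
      trivial
    rw [← SetLike.mem_coe, Subgroup.mul_normal H K, Set.mem_mul] at hn
    obtain ⟨h, hh, k, hk, hhk⟩ := hn
    have hkN : k ∈ N := by
      have : k = h⁻¹ * n := by
        rw [← hhk]
        group
      rw [this]
      exact N.mul_mem (N.inv_mem (hHN hh)) n.2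
    exact ⟨⟨h, hHN hh⟩, Subgroup.mem_subgroupOf.mpr hh, ⟨k, hkN⟩, Subgroup.mem_subgroupOf.mpr hk,
      Subtype.ext hhk⟩
  have hc : H'.IsComplement' K' := by
    apply Subgroup.isComplement'_of_disjoint_and_mul_eq_univ
    · rw [Subgroup.disjoint_def]
      intro x hx1 hx2
      have : (x : G) = 1 := (Subgroup.disjoint_def.mp hd) (Subgroup.mem_subgroupOf.mp hx2)
        (Subgroup.mem_subgroupOf.mp hx1)
      exact Subtype.ext this
    · rw [Set.eq_univ_iff_forall]
      intro n
      obtain ⟨h', hh', k', hk', hn⟩ := hprod n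
      exact Set.mem_mul.mpr ⟨h', hh', k', hk', hn⟩
  have eH : H' ≃* H := Subgroup.subgroupOfEquivOfLe hHN
  have hcardH' : Nat.card H' = Nat.card H := Nat.card_congr eH.toEquiv
  have hidx : K'.index = Nat.card H := by rw [hc.index_eq_card, hcardH']
  have hcardK' : Nat.card K' ∣ Nat.card K := by
    have h1 : Nat.card K' = Nat.card (K ⊓ N : Subgroup G) := by
      show Nat.card (K.subgroupOf N) = _
      rw [← Subgroup.inf_subgroupOf_right]
      exact Nat.card_congr (Subgroup.subgroupOfEquivOfLe inf_le_right).toEquiv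
    rw [h1]
    exact Subgroup.card_dvd_of_le inf_le_left
  have h1 := card_coprime_degree K' (by rw [hidx]; exact Nat.Coprime.coprime_dvd_left hcardK' hcop)
  rw [hidx] at h1
  rw [h1, card_hom_trivial_on hc, card_hom_congr eH]
  congr 1
  have hall : ∀ θ : IrrCharacter K', ∀ n : N, Helper6.conjFun K' n (θ : K' → ℂ) = θ := by
    intro θ n
    obtain ⟨h', hh', k', hk', rfl⟩ := hprod n
    funext x
    rw [conjFun_apply]
    have key : ∀ y : K', ((y : N) : G) = (k' : G) * ((x : N) : G) * (k' : G)⁻¹ →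
        (θ : K' → ℂ) y = (θ : K' → ℂ) x := by
      intro y hy
      have : y = ⟨k', hk'⟩ * x * ⟨k', hk'⟩⁻¹ := by
        apply Subtype.ext
        apply Subtype.ext
        simpa using hy
      rw [this, irr_conj θ]
    apply key
    have hyK : (k' : G) * ((x : N) : G) * (k' : G)⁻¹ ∈ K :=
      K.mul_mem (K.mul_mem (Subgroup.mem_subgroupOf.mp hk') (Subgroup.mem_subgroupOf.mp x.2))
        (K.inv_mem (Subgroup.mem_subgroupOf.mp hk'))
    have hyN : (k' : G) * ((x : N) : G) * (k' : G)⁻¹ ∈ N :=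
      N.mul_mem (N.mul_mem k'.2 (x : N).2) (N.inv_mem k'.2)
    have hcomm := commute_of_mem_normalizer K H hd hyK hyN (Subgroup.mem_subgroupOf.mp hh')
    simp only [Subgroup.coe_mul, Subgroup.coe_inv, mul_inv_rev]
    calc (h' : G) * k' * ((x : N) : G) * ((k' : G)⁻¹ * (h' : G)⁻¹)
        = ((h' : G) * ((k' : G) * (x : N) * (k' : G)⁻¹)) * (h' : G)⁻¹ := by group
      _ = (((k' : G) * (x : N) * (k' : G)⁻¹) * (h' : G)) * (h' : G)⁻¹ := by rw [hcomm]
      _ = (k' : G) * (x : N) * (k' : G)⁻¹ := by group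
  rw [Nat.card_congr (Equiv.subtypeUnivEquiv hall)]
  have e1 : ↥K' ≃* ↥((K ⊓ N).subgroupOf N) :=
    MulEquiv.subgroupCongr (Subgroup.inf_subgroupOf_right K N).symm
  have e2 : ↥((K ⊓ N).subgroupOf N) ≃* ↥(K ⊓ N : Subgroup G) :=
    Subgroup.subgroupOfEquivOfLe inf_le_right
  have e3 : ↥(K ⊓ N : Subgroup G) ≃* ↥(K ⊓ Subgroup.centralizer (H : Set G) : Subgroup G) :=
    MulEquiv.subgroupCongr (inf_normalizer_eq K H hd)
  exact Nat.card_congr (irrEquiv ((e1.trans e2).trans e3)).symm

/-- **Isaacs 13.25.** -/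
theorem card_coprime_degree_normalizer (hKH : K ⊔ H = ⊤)
    (hcop : (Nat.card K).Coprime (Nat.card H)) (hsolv : Group.IsSolvable H) :
    Nat.card {χ : IrrCharacter G // (charDegree (χ : G → ℂ)).Coprime (Nat.card H)} =
      Nat.card {η : IrrCharacter (Subgroup.normalizer (H : Set G)) //
        (charDegree (η : Subgroup.normalizer (H : Set G) → ℂ)).Coprime (Nat.card H)} := by
  haveI := Fintype.ofFinite G
  rw [card_left K H hKH hcop hsolv, card_right K H hKH hcop]

end Cfsg.Agent.Lib.Helper2.CoprimeDeg
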