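/-
helper2: groups with a cyclic Sylow p-subgroup all of whose p'-subgroups are abelian (S4016),
part A: generic lemmas.
-/
import Mathlib
import Cfsg.Agent.Lib.Lead.CyclicAut
import Cfsg.Agent.Lib.Helper1.Coprime
import Cfsg.Agent.Lib.Helper8.SylIn
import Cfsg.Agent.Lib.Helper9.Cyclic

set_option autoImplicit false

namespace Cfsg.Agent.Lib.Helper2.CycSyl

open Subgroup

variable {G : Type*} [Group G]

/-- `(k h)^m ∈ K h^m` when `h` normalizes `K`. -/
theorem mul_pow_mem_mul {K : Subgroup G} {k h : G} (hk : k ∈ K)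
    (hh : h ∈ normalizer (K : Set G)) (m : ℕ) : ∃ k' ∈ K, (k * h) ^ m = k' * h ^ m := by
  induction m with
  | zero => exact ⟨1, K.one_mem, by simp⟩
  | succ m ih =>
    obtain ⟨k', hk', he⟩ := ih
    have hm : h ^ m ∈ normalizer (K : Set G) := Subgroup.pow_mem _ hh m
    refine ⟨k' * (h ^ m * k * (h ^ m)⁻¹), K.mul_mem hk' ((Subgroup.mem_normalizer_iff.mp hm k).mp hk), ?_⟩
    rw [pow_succ, he, pow_succ]
    group

theorem isPGroup_zpowers_of_orderOf {p : ℕ} [Fact p.Prime] {g : G} {k : ℕ}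
    (h : orderOf g = p ^ k) : IsPGroup p (zpowers g) :=
  IsPGroup.of_card (n := k) (by rw [Nat.card_zpowers]; exact h)

/-- A `p`-element normalizing a Sylow `p`-subgroup lies in it. -/
theorem mem_sylow_of_mem_normalizer [Finite G] {p : ℕ} [Fact p.Prime] (P : Sylow p G) {g : G}
    (hg : g ∈ normalizer ((P : Subgroup G) : Set G)) (hgp : IsPGroup p (zpowers g)) :
    g ∈ (P : Subgroup G) := by
  have h1 : IsPGroup p (zpowers g ⊔ (P : Subgroup G) : Subgroup G) :=
    IsPGroup.to_sup_of_normal_right' hgp P.2 (by rw [zpowers_le]; exact hg)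
  have h2 := P.is_maximal' h1 le_sup_right
  have : g ∈ (zpowers g ⊔ (P : Subgroup G) : Subgroup G) :=
    (le_sup_left : zpowers g ≤ _) (mem_zpowers g)
  rw [h2] at this
  exact this

/-- A subgroup generated by two `p'`-subgroups one normalizing the other is a `p'`-group. -/
theorem not_dvd_card_sup [Finite G] {p : ℕ} [Fact p.Prime] {K H : Subgroup G}
    (hHK : H ≤ normalizer (K : Set G)) (hK : ¬ p ∣ Nat.card K) (hH : ¬ p ∣ Nat.card H) :
    ¬ p ∣ Nat.card ↥(K ⊔ H) := by
  intro hd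
  obtain ⟨g, hg⟩ := exists_prime_orderOf_dvd_card' (G := ↥(K ⊔ H)) p hd
  have hgm : (g : G) ∈ K ⊔ H := g.2
  rw [← SetLike.mem_coe, Subgroup.coe_mul_of_right_le_normalizer_left K H hHK, Set.mem_mul] at hgm
  obtain ⟨k, hk, h, hh, hkh⟩ := hgm
  obtain ⟨k', hk', he⟩ := mul_pow_mem_mul hk (hHK hh) (Nat.card H)
  have h1 : h ^ Nat.card H = 1 := by
    have := pow_card_eq_one' (G := H) (x := ⟨h, hh⟩)
    exact congrArg Subtype.val this
  have h2 : k' ^ Nat.card K = 1 := by
    have := pow_card_eq_one' (G := K) (x := ⟨k', hk'⟩)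
    exact congrArg Subtype.val this
  have h3 : (g : G) ^ (Nat.card H * Nat.card K) = 1 := by
    rw [pow_mul, ← hkh, he, h1, mul_one, h2]
  have h4 : orderOf (g : G) = p := by rw [Subgroup.orderOf_coe]; exact hg
  have h5 : p ∣ Nat.card H * Nat.card K := by
    rw [← h4]; exact orderOf_dvd_of_pow_eq_one h3
  rcases (Nat.Prime.dvd_mul Fact.out).mp h5 with h | h
  · exact hH h
  · exact hK h

end Cfsg.Agent.Lib.Helper2.CycSyl
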