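/-
helper2: cyclic Sylow p-subgroup with abelian p'-subgroups (S4016), part B: the minimal
counterexample context, fixed-point-free action, internal induction hypothesis.
-/
import Cfsg.Agent.Lib.Helper2.CycSylA
import Cfsg.Prelude.Def_Transfer

set_option autoImplicit false

namespace Cfsg.Agent.Lib.Helper2.CycSyl

open Subgroup

variable {G : Type*} [Group G] [Finite G] {p : ℕ} [hp : Fact p.Prime]

theorem nmh_apply {G : Type*} [Group G] (H : Subgroup G) (a : normalizer (H : Set G)) (x : H) :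
    ((H.normalizerMonoidHom a) x : G) = a * x * (a : G)⁻¹ := rfl

/-- A `p'`-element of `N(P) ∖ C(P)` acts fixed-point-freely on the cyclic Sylow subgroup `P`. -/
theorem fpf_of (P : Sylow p G) (hcyc : IsCyclic (P : Subgroup G)) {a : G}
    (haN : a ∈ normalizer ((P : Subgroup G) : Set G)) (hao : (orderOf a).Coprime p)
    (haC : a ∉ centralizer ((P : Subgroup G) : Set G)) :
    ∀ x ∈ (P : Subgroup G), a * x * a⁻¹ = x → x = 1 := by
  intro x hx hfix
  by_contra hx1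
  obtain ⟨n, hn⟩ := IsPGroup.iff_card.mp P.2
  set α : MulAut ↥(P : Subgroup G) := (P : Subgroup G).normalizerMonoidHom ⟨a, haN⟩ with hα
  have hord : (orderOf α).Coprime p := by
    have h1 : orderOf α ∣ orderOf (⟨a, haN⟩ : normalizer ((P : Subgroup G) : Set G)) :=
      orderOf_map_dvd _ _
    rw [Subgroup.orderOf_mk] at h1
    exact Nat.Coprime.coprime_dvd_left h1 hao
  have hfix' : α ⟨x, hx⟩ = ⟨x, hx⟩ := by
    apply Subtype.ext
    rw [hα, nmh_apply]
    exact hfix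
  have h1 : α = 1 := Cfsg.Agent.CharLib.cyclic_aut_free hp.out hn α hord ⟨x, hx⟩
    (fun h => hx1 (congrArg Subtype.val h)) hfix'
  have h2 : (⟨a, haN⟩ : normalizer ((P : Subgroup G) : Set G)) ∈
      (P : Subgroup G).normalizerMonoidHom.ker := by
    rw [MonoidHom.mem_ker]; exact h1
  rw [Subgroup.normalizerMonoidHom_ker, Subgroup.mem_subgroupOf] at h2
  exact haC h2

/-- surjectivity of `x ↦ x⁻¹ (a x a⁻¹)` on `P` for a fixed-point-free `a`. -/
theorem surj_of (P : Sylow p G) {a : G}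
    (haN : a ∈ normalizer ((P : Subgroup G) : Set G))
    (hfpf : ∀ x ∈ (P : Subgroup G), a * x * a⁻¹ = x → x = 1) :
    ∀ x ∈ (P : Subgroup G), ∃ x' ∈ (P : Subgroup G), x = x'⁻¹ * (a * x' * a⁻¹) := by
  let α : MulAut ↥(P : Subgroup G) := (P : Subgroup G).normalizerMonoidHom ⟨a, haN⟩
  let f : ↥(P : Subgroup G) → ↥(P : Subgroup G) := fun u => u⁻¹ * α u
  have hinj : Function.Injective f := by
    intro u v huv
    have h0 : u⁻¹ * α u = v⁻¹ * α v := huv
    have h1 : α (u * v⁻¹) = u * v⁻¹ := by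
      have h2 : α u = u * (v⁻¹ * α v) := by rw [← h0]; group
      rw [map_mul, map_inv, h2, mul_assoc, mul_assoc, mul_inv_cancel, mul_one]
    have h3 : ((u * v⁻¹ : ↥(P : Subgroup G)) : G) = 1 :=
      hfpf _ (u * v⁻¹).2 (by have := congrArg Subtype.val h1; rwa [nmh_apply] at this)
    have : u * v⁻¹ = 1 := Subtype.ext h3
    exact mul_inv_eq_one.mp this
  have hsurj := Finite.surjective_of_injective hinj
  intro x hx
  obtain ⟨u, hu⟩ := hsurj ⟨x, hx⟩
  refine ⟨u, u.2, ?_⟩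
  have h4 := congrArg Subtype.val hu
  rw [← show ((f u : ↥(P : Subgroup G)) : G) = (u : G)⁻¹ * ((a : G) * u * a⁻¹) from rfl]
  exact h4.symm

/-- **Lemma Z**: `P` centralizes every `p'`-subgroup normalized by `P` and by the
fixed-point-free `p'`-element `y`. -/
theorem centralizes_of_fpf (P : Sylow p G)
    (hab : ∀ H : Subgroup G, ¬ p ∣ Nat.card H → IsMulCommutative H) {y : G}
    (hyo : (orderOf y).Coprime p)
    (hsurj : ∀ x ∈ (P : Subgroup G), ∃ x' ∈ (P : Subgroup G), x = x'⁻¹ * (y * x' * y⁻¹))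
    (T₀ : Subgroup G) (hT₀ : ¬ p ∣ Nat.card T₀)
    (hPT : (P : Subgroup G) ≤ normalizer (T₀ : Set G)) (hyT : y ∈ normalizer (T₀ : Set G)) :
    ∀ x ∈ (P : Subgroup G), ∀ t ∈ T₀, x * t = t * x := by
  have hzy : ¬ p ∣ Nat.card (zpowers y) := by
    rw [Nat.card_zpowers]
    exact fun h => (Nat.Prime.coprime_iff_not_dvd hp.out).mp hyo.symm h
  have hL : ¬ p ∣ Nat.card ↥(T₀ ⊔ zpowers y) :=
    not_dvd_card_sup (by rw [zpowers_le]; exact hyT) hT₀ hzy
  have hLc := hab _ hL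
  have hyt : ∀ t ∈ T₀, y * t = t * y := by
    intro t ht
    have hyL : y ∈ T₀ ⊔ zpowers y := (le_sup_right : zpowers y ≤ _) (mem_zpowers y)
    have htL : t ∈ T₀ ⊔ zpowers y := (le_sup_left : T₀ ≤ _) ht
    have := hLc.is_comm.comm (⟨y, hyL⟩ : ↥(T₀ ⊔ zpowers y)) ⟨t, htL⟩
    exact congrArg Subtype.val this
  intro x hx t ht
  obtain ⟨x', hx', rfl⟩ := hsurj x hx
  have ht' : x' * t * x'⁻¹ ∈ T₀ := (Subgroup.mem_normalizer_iff.mp (hPT hx') t).mp ht
  have h1 := hyt t ht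
  have h2 := hyt _ ht'
  have h3 : y⁻¹ * t = t * y⁻¹ := by
    rw [eq_mul_inv_iff_mul_eq, mul_assoc, ← h1, ← mul_assoc, inv_mul_cancel, one_mul]
  have h4 : y * (x' * t * x'⁻¹) * y⁻¹ = x' * t * x'⁻¹ := by
    rw [h2, mul_assoc, mul_inv_cancel, mul_one]
  -- x t = t x  with x = x'⁻¹ y x' y⁻¹
  have h5 : x'⁻¹ * (y * x' * y⁻¹) * t * (x'⁻¹ * (y * x' * y⁻¹))⁻¹ = t := by
    calc x'⁻¹ * (y * x' * y⁻¹) * t * (x'⁻¹ * (y * x' * y⁻¹))⁻¹
        = x'⁻¹ * (y * (x' * (y⁻¹ * t) * y * x'⁻¹) * y⁻¹) * x' := by group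
      _ = x'⁻¹ * (y * (x' * t * x'⁻¹) * y⁻¹) * x' := by rw [h3]; group
      _ = t := by rw [h4]; group
  calc x'⁻¹ * (y * x' * y⁻¹) * t
      = (x'⁻¹ * (y * x' * y⁻¹) * t * (x'⁻¹ * (y * x' * y⁻¹))⁻¹) * (x'⁻¹ * (y * x' * y⁻¹)) := by
        group
    _ = t * (x'⁻¹ * (y * x' * y⁻¹)) := by rw [h5]

/-- The minimal-counterexample context. -/
structure Ctx (p : ℕ) [Fact p.Prime] (G : Type*) [Group G] [Finite G] (P : Sylow p G) : Prop where
  hcyc : IsCyclic (P : Subgroup G)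
  hab : ∀ H : Subgroup G, ¬ p ∣ Nat.card H → IsMulCommutative H
  ih : ∀ T : Subgroup G, T ≠ ⊤ →
    (Cfsg.HasNormalPComplement p T ∨ ∀ R : Sylow p T, (R : Subgroup T).Normal)
  hnc : ¬ Cfsg.HasNormalPComplement p G
  hnn : ¬ (P : Subgroup G).Normal

open Cfsg.Agent.Lib.Helper8 (IsSylIn)

theorem eq_one_of_mem_of_mem {R K : Subgroup G} (hR : IsPGroup p R) (hK : ¬ p ∣ Nat.card K)
    {x : G} (hxR : x ∈ R) (hxK : x ∈ K) : x = 1 := by
  obtain ⟨k, hk⟩ := hR ⟨x, hxR⟩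
  have h1 : orderOf x ∣ p ^ k := by
    apply orderOf_dvd_of_pow_eq_one
    exact congrArg Subtype.val hk
  have h2 : orderOf x ∣ Nat.card K := by
    have := orderOf_dvd_natCard (⟨x, hxK⟩ : K)
    rwa [Subgroup.orderOf_mk] at this
  have h3 : Nat.Coprime (p ^ k) (Nat.card K) :=
    Nat.Coprime.pow_left k ((Nat.Prime.coprime_iff_not_dvd hp.out).mpr hK)
  have h4 : orderOf x = 1 := Nat.eq_one_of_dvd_coprimes h3 h1 h2
  exact orderOf_eq_one_iff.mp h4

/-- In `T = K₀ R` with `K₀` a normal `p'`-subgroup and `R` a `p`-group, the `p'`-elements lie in `K₀`. -/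
theorem mem_of_coprime_of_decomp {T K₀ R : Subgroup G} (hTn : T ≤ normalizer (K₀ : Set G))
    (hK₀ : ¬ p ∣ Nat.card K₀) (hR : IsPGroup p R) (hRT : R ≤ T)
    (hdec : ∀ t ∈ T, ∃ k ∈ K₀, ∃ x ∈ R, t = k * x) {t : G} (ht : t ∈ T)
    (hto : (orderOf t).Coprime p) : t ∈ K₀ := by
  obtain ⟨k, hk, x, hx, rfl⟩ := hdec t ht
  obtain ⟨k', hk', he⟩ := mul_pow_mem_mul hk (hTn (hRT hx)) (orderOf (k * x))
  rw [pow_orderOf_eq_one] at he
  have h1 : x ^ orderOf (k * x) = k'⁻¹ := by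
    rw [eq_inv_iff_mul_eq_one]
    have h0 : k' * x ^ orderOf (k * x) = 1 := he.symm
    calc x ^ orderOf (k * x) * k' = k'⁻¹ * (k' * x ^ orderOf (k * x)) * k' := by group
      _ = 1 := by rw [h0]; group
  have h2 : x ^ orderOf (k * x) = 1 :=
    eq_one_of_mem_of_mem hR hK₀ (R.pow_mem hx _) (by rw [h1]; exact K₀.inv_mem hk')
  have h3 : orderOf x ∣ orderOf (k * x) := orderOf_dvd_of_pow_eq_one h2
  obtain ⟨j, hj⟩ := hR ⟨x, hx⟩
  have h4 : orderOf x ∣ p ^ j := by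
    apply orderOf_dvd_of_pow_eq_one
    exact congrArg Subtype.val hj
  have h5 : orderOf x = 1 :=
    Nat.eq_one_of_dvd_coprimes (Nat.Coprime.pow_right j hto) h3 h4
  rw [orderOf_eq_one_iff.mp h5, mul_one]
  exact hk

/-- Internal form of the induction hypothesis. -/
theorem Ctx.ih_int {P : Sylow p G} (c : Ctx p G P) {T R : Subgroup G} (hT : T ≠ ⊤)
    (hR : IsSylIn p R T) :
    (∃ K₀ : Subgroup G, K₀ ≤ T ∧ T ≤ normalizer (K₀ : Set G) ∧ ¬ p ∣ Nat.card K₀ ∧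
        ∀ t ∈ T, ∃ k ∈ K₀, ∃ x ∈ R, t = k * x) ∨ T ≤ normalizer (R : Set G) := by
  rcases c.ih T hT with ⟨P', N', hN', hc⟩ | hn
  · left
    let R₀ : Sylow p ↥T := hR.toSylow
    have hR₀ : ((R₀ : Sylow p ↥T) : Subgroup ↥T) = R.subgroupOf T := rfl
    have hcard := hc.card_mul_card
    have hP' := P'.card_eq_multiplicity
    have hR₀c := R₀.card_eq_multiplicity
    have hpN : ¬ p ∣ Nat.card N' := by
      intro hd
      have h1 : p ^ ((Nat.card ↥T).factorization p + 1) ∣ Nat.card ↥T := by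
        have h0 : Nat.card ↥T = Nat.card N' * p ^ (Nat.card ↥T).factorization p := by
          rw [← hP']; exact hcard.symm
        rw [pow_succ, mul_comm]
        nth_rewrite 2 [h0]
        exact Nat.mul_dvd_mul_right hd _
      exact Nat.pow_succ_factorization_not_dvd Nat.card_pos.ne' hp.out h1
    have hc2 : IsComplement' N' (R₀ : Subgroup ↥T) := by
      apply isComplement'_of_coprime
      · rw [hR₀c, ← hP']; exact hcard
      · rw [hR₀c]
        exact Nat.Coprime.pow_right _ ((Nat.Prime.coprime_iff_not_dvd hp.out).mpr hpN).symm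
    refine ⟨N'.map T.subtype, map_subtype_le _, ?_, ?_, ?_⟩
    · intro t ht
      apply Cfsg.Agent.Lib.Helper1.mem_normalizer_of_forall_conj_mem
      rintro x ⟨n, hn, rfl⟩
      exact ⟨⟨t, ht⟩ * n * ⟨t, ht⟩⁻¹, hN'.conj_mem n hn _, rfl⟩
    · rw [Subgroup.card_subtype]; exact hpN
    · intro t ht
      obtain ⟨⟨k, x⟩, hkx⟩ := hc2.2 ⟨t, ht⟩
      refine ⟨k.1.1, ⟨k.1, k.2, rfl⟩, x.1.1, ?_, ?_⟩
      · have h9 : (x.1 : ↥T) ∈ R.subgroupOf T := x.2
        rw [Subgroup.mem_subgroupOf] at h9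
        exact h9
      · have := congrArg Subtype.val hkx
        exact this.symm
  · right
    have h1 := hn hR.toSylow
    have h2 : (R.subgroupOf T).Normal := h1
    exact (normal_subgroupOf_iff_le_normalizer hR.1).mp h2

end Cfsg.Agent.Lib.Helper2.CycSyl
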