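/-
helper2: cyclic Sylow p-subgroup with abelian p'-subgroups (S4016), part C: the minimal
counterexample is simple.
-/
import Cfsg.Agent.Lib.Helper2.CycSylB
import Cfsg.Agent.Lib.Helper10.CNGroup
import Cfsg.Agent.Lib.Helper16.Minimal
import Cfsg.Agent.Lib.Helper17.SylowGen

set_option autoImplicit false

namespace Cfsg.Agent.Lib.Helper2.CycSyl

open Subgroup
open Cfsg.Agent.Lib.Helper8 (IsSylIn)

variable {G : Type*} [Group G] [Finite G] {p : ℕ} [hp : Fact p.Prime] {P : Sylow p G}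

theorem Ctx.comm (c : Ctx p G P) : ∀ u ∈ (P : Subgroup G), ∀ v ∈ (P : Subgroup G), u * v = v * u := by
  intro u hu v hv
  haveI := c.hcyc
  have := (IsMulCommutative.is_comm (M := ↥(P : Subgroup G))).comm ⟨u, hu⟩ ⟨v, hv⟩
  exact congrArg Subtype.val this

theorem Ctx.le_centralizer (c : Ctx p G P) :
    (P : Subgroup G) ≤ centralizer ((P : Subgroup G) : Set G) := by
  intro x hx
  rw [Subgroup.mem_centralizer_iff]
  intro h hh
  exact c.comm h hh x hx

theorem isPGroup_zpowers_conj (P : Sylow p G) {x : G} (hx : x ∈ (P : Subgroup G)) (g : G) :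
    IsPGroup p (zpowers (g * x * g⁻¹)) := by
  obtain ⟨k, hk⟩ := P.2 ⟨x, hx⟩
  have hk' : x ^ p ^ k = 1 := congrArg Subtype.val hk
  apply Cfsg.Agent.Lib.Helper10.isPGroup_zpowers_of_pow_eq_one _ k
  rw [conj_pow, hk', mul_one, mul_inv_cancel]

/-- a `p`-element of `N(P)` lies in `P`. -/
theorem mem_of_pow_eq_one (P : Sylow p G) {g : G} (hg : g ∈ normalizer ((P : Subgroup G) : Set G))
    {k : ℕ} (hk : g ^ p ^ k = 1) : g ∈ (P : Subgroup G) :=
  mem_sylow_of_mem_normalizer P hg (Cfsg.Agent.Lib.Helper10.isPGroup_zpowers_of_pow_eq_one _ k hk)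

/-- Step 0: a `p'`-element of `N(P)` outside `C(P)`. -/
theorem Ctx.exists_y (c : Ctx p G P) : ∃ y ∈ normalizer ((P : Subgroup G) : Set G),
    (orderOf y).Coprime p ∧ y ∉ centralizer ((P : Subgroup G) : Set G) := by
  by_contra hcon
  push Not at hcon
  have hle : normalizer ((P : Subgroup G) : Set G) ≤ centralizer ((P : Subgroup G) : Set G) := by
    intro g hg
    apply Cfsg.Agent.Lib.Helper10.mem_of_parts_mem p _ g
    · intro k y hy hyk
      have hyN : y ∈ normalizer ((P : Subgroup G) : Set G) :=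
        (zpowers_le.mpr hg) hy
      exact c.le_centralizer (mem_of_pow_eq_one P hyN hyk)
    · intro y hy hyo
      exact hcon y ((zpowers_le.mpr hg) hy) hyo
  exact c.hnc ⟨P, _, inferInstance, MonoidHom.ker_transferSylow_isComplement' P hle⟩

/-- the data of a fixed-point-free `p'`-element. -/
structure YData (P : Sylow p G) (y : G) : Prop where
  hyN : y ∈ normalizer ((P : Subgroup G) : Set G)
  hyo : (orderOf y).Coprime p
  hyC : y ∉ centralizer ((P : Subgroup G) : Set G)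

theorem YData.fpf {y : G} (d : YData P y) (c : Ctx p G P) :
    ∀ x ∈ (P : Subgroup G), y * x * y⁻¹ = x → x = 1 :=
  fpf_of P c.hcyc d.hyN d.hyo d.hyC

theorem YData.surj {y : G} (d : YData P y) (c : Ctx p G P) :
    ∀ x ∈ (P : Subgroup G), ∃ x' ∈ (P : Subgroup G), x = x'⁻¹ * (y * x' * y⁻¹) :=
  surj_of P d.hyN (d.fpf c)

theorem YData.centralizes {y : G} (d : YData P y) (c : Ctx p G P) (T₀ : Subgroup G)
    (hT₀ : ¬ p ∣ Nat.card T₀) (hPT : (P : Subgroup G) ≤ normalizer (T₀ : Set G))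
    (hyT : y ∈ normalizer (T₀ : Set G)) : ∀ x ∈ (P : Subgroup G), ∀ t ∈ T₀, x * t = t * x :=
  centralizes_of_fpf P c.hab d.hyo (d.surj c) T₀ hT₀ hPT hyT

theorem Ctx.isSylIn_of_le (c : Ctx p G P) {T : Subgroup G} (hPT : (P : Subgroup G) ≤ T) :
    IsSylIn p (P : Subgroup G) T := by
  apply Cfsg.Agent.Lib.Helper8.isSylIn_of_card_le P.2 hPT
  rw [P.card_eq_multiplicity]
  apply Nat.pow_le_pow_right hp.out.pos
  exact (Nat.factorization_le_iff_dvd Nat.card_pos.ne' Nat.card_pos.ne').mpr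
    (Subgroup.card_subgroup_dvd_card T) p

/-- If `T = K₀ P` with `K₀` centralized by `P`, then `T ≤ N(P)`. -/
theorem le_normalizer_of_decomp {T K₀ : Subgroup G}
    (hcent : ∀ x ∈ (P : Subgroup G), ∀ t ∈ K₀, x * t = t * x)
    (hdec : ∀ t ∈ T, ∃ k ∈ K₀, ∃ x ∈ (P : Subgroup G), t = k * x) :
    T ≤ normalizer ((P : Subgroup G) : Set G) := by
  intro t ht
  obtain ⟨k, hk, x, hx, rfl⟩ := hdec t ht
  apply Cfsg.Agent.Lib.Helper1.mem_normalizer_of_forall_conj_mem
  intro u hu
  have h1 : x * u * x⁻¹ ∈ (P : Subgroup G) :=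
    (P : Subgroup G).mul_mem ((P : Subgroup G).mul_mem hx hu) ((P : Subgroup G).inv_mem hx)
  have h2 := hcent _ h1 k hk
  have : k * x * u * (k * x)⁻¹ = x * u * x⁻¹ := by
    calc k * x * u * (k * x)⁻¹ = k * (x * u * x⁻¹) * k⁻¹ := by group
      _ = x * u * x⁻¹ := by rw [← h2]; group
  rw [this]; exact h1

/-- Step 1: no proper normal subgroup contains `P`. -/
theorem Ctx.no_proper_normal_ge (c : Ctx p G P) {y : G} (d : YData P y) (T : Subgroup G)
    [hTn : T.Normal] (hT : T ≠ ⊤) (hPT : (P : Subgroup G) ≤ T) : False := by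
  have hB : T ≤ normalizer ((P : Subgroup G) : Set G) := by
    rcases c.ih_int hT (c.isSylIn_of_le hPT) with ⟨K₀, hK₀T, hTn', hK₀, hdec⟩ | hB
    · have hK₀G : ∀ g : G, g ∈ normalizer (K₀ : Set G) := by
        intro g
        apply Cfsg.Agent.Lib.Helper1.mem_normalizer_of_forall_conj_mem
        intro k hk
        apply mem_of_coprime_of_decomp hTn' hK₀ P.2 hPT hdec (hTn.conj_mem k (hK₀T hk) g)
        have h1 : orderOf (g * k * g⁻¹) = orderOf k := by
          have := orderOf_injective (MulAut.conj g).toMonoidHom (MulAut.conj g).injective k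
          simpa [MulAut.conj_apply] using this
        rw [h1]
        have h2 : orderOf k ∣ Nat.card K₀ := by
          have := orderOf_dvd_natCard (⟨k, hk⟩ : K₀)
          rwa [Subgroup.orderOf_mk] at this
        exact Nat.Coprime.coprime_dvd_left h2
          ((Nat.Prime.coprime_iff_not_dvd hp.out).mpr hK₀).symm
      have hcent := d.centralizes c K₀ hK₀ (fun x _ => hK₀G x) (hK₀G y)
      exact le_normalizer_of_decomp hcent hdec
    · exact hB
  apply c.hnn
  refine ⟨fun x hx g => ?_⟩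
  exact mem_sylow_of_mem_normalizer P (hB (hTn.conj_mem x (hPT hx) g)) (isPGroup_zpowers_conj P hx g)

theorem orderOf_conj (g k : G) : orderOf (g * k * g⁻¹) = orderOf k := by
  have := orderOf_injective (MulAut.conj g).toMonoidHom (MulAut.conj g).injective k
  simpa [MulAut.conj_apply] using this

theorem coprime_orderOf_of_mem {K : Subgroup G} (hK : ¬ p ∣ Nat.card K) {k : G} (hk : k ∈ K) :
    (orderOf k).Coprime p := by
  have h2 : orderOf k ∣ Nat.card K := by
    have := orderOf_dvd_natCard (⟨k, hk⟩ : K)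
    rwa [Subgroup.orderOf_mk] at this
  exact Nat.Coprime.coprime_dvd_left h2 ((Nat.Prime.coprime_iff_not_dvd hp.out).mpr hK).symm

/-- the normal `p`-complement of a normal subgroup is normal in `G`. -/
theorem normal_of_decomp {T K₀ R : Subgroup G} [hTn : T.Normal] (hK₀T : K₀ ≤ T)
    (hTn' : T ≤ normalizer (K₀ : Set G)) (hK₀ : ¬ p ∣ Nat.card K₀) (hR : IsPGroup p R)
    (hRT : R ≤ T) (hdec : ∀ t ∈ T, ∃ k ∈ K₀, ∃ x ∈ R, t = k * x) : K₀.Normal := by
  refine ⟨fun k hk g => ?_⟩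
  apply mem_of_coprime_of_decomp hTn' hK₀ hR hRT hdec (hTn.conj_mem k (hK₀T hk) g)
  rw [orderOf_conj]
  exact coprime_orderOf_of_mem hK₀ hk

open scoped IsMulCommutative in
/-- Step 2: no nontrivial normal `p'`-subgroup. -/
theorem Ctx.no_normal_pprime (c : Ctx p G P) {y : G} (d : YData P y) (M : Subgroup G)
    [hMn : M.Normal] (hM : M ≠ ⊥) (hpM : ¬ p ∣ Nat.card M) : False := by
  have hcent := d.centralizes c M hpM (fun x _ => by rw [normalizer_eq_top]; trivial)
    (by rw [normalizer_eq_top]; trivial)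
  have hPD : (P : Subgroup G) ≤ centralizer (M : Set G) := by
    intro x hx
    rw [Subgroup.mem_centralizer_iff]
    intro h hh
    exact (hcent x hx h hh).symm
  have hD : centralizer (M : Set G) = ⊤ := by
    by_contra hD
    exact c.no_proper_normal_ge d _ hD hPD
  have hcentral : ∀ m ∈ M, ∀ g : G, g * m = m * g := by
    intro m hm g
    have hg : g ∈ centralizer (M : Set G) := by rw [hD]; trivial
    rw [Subgroup.mem_centralizer_iff] at hg
    exact (hg m hm).symm
  have hcard : Nat.card M ≠ 1 := fun h => hM (Subgroup.card_eq_one.mp h)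
  obtain ⟨q, hq, hqd⟩ := Nat.exists_prime_and_dvd hcard
  haveI := Fact.mk hq
  obtain ⟨z, hz⟩ := exists_prime_orderOf_dvd_card' (G := ↥M) q hqd
  have hqp : q ≠ p := fun h => hpM (h ▸ hqd)
  have hzo : orderOf (z : G) = q := by rw [Subgroup.orderOf_coe]; exact hz
  have hzp : IsPGroup q (zpowers (z : G)) :=
    IsPGroup.of_card (n := 1) (by rw [Nat.card_zpowers, hzo, pow_one])
  obtain ⟨Q, hQ⟩ := hzp.exists_le_sylow
  have hzQ : (z : G) ∈ (Q : Subgroup G) := hQ (mem_zpowers _)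
  obtain ⟨j, hj⟩ := IsPGroup.iff_card.mp Q.2
  have hQp : ¬ p ∣ Nat.card (Q : Subgroup G) := by
    rw [hj]
    intro h
    exact hqp ((Nat.prime_dvd_prime_iff_eq hp.out hq).mp (hp.out.dvd_of_dvd_pow h)).symm
  haveI hQc : IsMulCommutative (Q : Subgroup G) := c.hab _ hQp
  let V : G →* ↥(Q : Subgroup G) := MonoidHom.transfer (MonoidHom.id ↥(Q : Subgroup G))
  have hzc : ∀ (k : ℕ) (g₀ : G), g₀⁻¹ * (z : G) ^ k * g₀ = (z : G) ^ k := by
    intro k g₀
    have h1 := hcentral _ (M.pow_mem z.2 k) g₀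
    calc g₀⁻¹ * (z : G) ^ k * g₀ = g₀⁻¹ * (g₀ * (z : G) ^ k) := by rw [h1]; group
      _ = (z : G) ^ k := by group
  have hVz : V z = ⟨(z : G) ^ (Q : Subgroup G).index, _⟩ :=
    MonoidHom.transfer_eq_pow (MonoidHom.id ↥(Q : Subgroup G)) (z : G) (fun k g₀ _ => hzc k g₀)
  have hVz1 : V z ≠ 1 := by
    intro h
    rw [hVz] at h
    have h1 : (z : G) ^ (Q : Subgroup G).index = 1 := congrArg Subtype.val h
    have h2 : q ∣ (Q : Subgroup G).index := by
      have h3 := orderOf_dvd_of_pow_eq_one h1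
      rwa [hzo] at h3
    exact Q.not_dvd_index h2
  have hker : V.ker ≠ ⊤ := by
    intro h
    apply hVz1
    have : (z : G) ∈ V.ker := by rw [h]; trivial
    exact this
  have hPker : (P : Subgroup G) ≤ V.ker := by
    intro x hx
    rw [MonoidHom.mem_ker]
    obtain ⟨k, hk⟩ := P.2 ⟨x, hx⟩
    have hk' : x ^ p ^ k = 1 := congrArg Subtype.val hk
    have h1 : orderOf (V x) ∣ p ^ k :=
      (orderOf_map_dvd V x).trans (orderOf_dvd_of_pow_eq_one hk')
    have h2 : orderOf (V x) ∣ q ^ j := by rw [← hj]; exact orderOf_dvd_natCard _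
    have h3 : Nat.Coprime (p ^ k) (q ^ j) :=
      Nat.Coprime.pow _ _ ((Nat.coprime_primes hp.out hq).mpr hqp.symm)
    exact orderOf_eq_one_iff.mp (Nat.eq_one_of_dvd_coprimes h3 h1 h2)
  exact c.no_proper_normal_ge d V.ker hker hPker

/-- in the cyclic group `P`, an element of order `p` lies in the subgroup generated by any other. -/
theorem Ctx.mem_zpowers_of_orderOf (c : Ctx p G P) {u x₁ : G} (hu : u ∈ (P : Subgroup G))
    (hx₁ : x₁ ∈ (P : Subgroup G)) (ho : orderOf u = orderOf x₁) : u ∈ zpowers x₁ := by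
  haveI := c.hcyc
  have h := Cfsg.Agent.Lib.Helper9.eq_of_card_eq_of_le_isCyclic (P : Subgroup G) (zpowers u)
    (zpowers x₁) (zpowers_le.mpr hu) (zpowers_le.mpr hx₁)
    (by rw [Nat.card_zpowers, Nat.card_zpowers, ho])
  rw [← h]; exact mem_zpowers u

/-- if some nontrivial element of `P` generates a normal subgroup, contradiction. -/
theorem Ctx.no_normal_zpowers (c : Ctx p G P) {y : G} (d : YData P y) {x₁ : G}
    (hx₁ : x₁ ∈ (P : Subgroup G)) (hx₁1 : x₁ ≠ 1) (hn : ∀ g : G, g * x₁ * g⁻¹ ∈ zpowers x₁) :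
    False := by
  have hnorm : (zpowers x₁).Normal := by
    refine ⟨fun u hu g => ?_⟩
    obtain ⟨k, rfl⟩ := mem_zpowers_iff.mp hu
    have : g * x₁ ^ k * g⁻¹ = (g * x₁ * g⁻¹) ^ k := by rw [conj_zpow]
    rw [this]
    exact (zpowers x₁).zpow_mem (hn g) k
  have hPD : (P : Subgroup G) ≤ centralizer ((zpowers x₁ : Subgroup G) : Set G) := by
    intro x hx
    rw [Subgroup.mem_centralizer_iff]
    intro h hh
    exact c.comm h ((zpowers_le.mpr hx₁) hh) x hx
  have hD : centralizer ((zpowers x₁ : Subgroup G) : Set G) = ⊤ := by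
    by_contra hD
    exact c.no_proper_normal_ge d _ hD hPD
  have hy : y ∈ centralizer ((zpowers x₁ : Subgroup G) : Set G) := by rw [hD]; trivial
  rw [Subgroup.mem_centralizer_iff] at hy
  have h1 := hy x₁ (mem_zpowers x₁)
  apply hx₁1
  apply d.fpf c x₁ hx₁
  rw [← h1, mul_assoc, mul_inv_cancel, mul_one]

/-- Step 3: no proper normal subgroup of order divisible by `p`. -/
theorem Ctx.no_normal_p (c : Ctx p G P) {y : G} (d : YData P y) (M : Subgroup G)
    [hMn : M.Normal] (hM : M ≠ ⊤) (hpM : p ∣ Nat.card M) : False := by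
  obtain ⟨x₁, hx₁, hx₁o⟩ := Cfsg.Agent.Lib.Helper17.exists_mem_sylow_inf_of_dvd P M hpM
  obtain ⟨R', hR'⟩ := Cfsg.Agent.Lib.Helper16.exists_sylow_of_normal_inf P M
  have hR : IsSylIn p ((P : Subgroup G) ⊓ M) M := by
    rw [← hR']; exact Cfsg.Agent.Lib.Helper8.sylow_map_subtype_isSylIn R'
  have hx₁1 : x₁ ≠ 1 := by
    intro h
    rw [h, orderOf_one] at hx₁o
    exact hp.out.one_lt.ne hx₁o
  apply c.no_normal_zpowers d hx₁.1 hx₁1
  intro g
  have huM : g * x₁ * g⁻¹ ∈ M := hMn.conj_mem x₁ hx₁.2 g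
  have huo : orderOf (g * x₁ * g⁻¹) = orderOf x₁ := orderOf_conj g x₁
  suffices hsuff : g * x₁ * g⁻¹ ∈ (P : Subgroup G) from c.mem_zpowers_of_orderOf hsuff hx₁.1 huo
  have hRp : IsPGroup p ↥((P : Subgroup G) ⊓ M) := P.2.to_le inf_le_left
  rcases c.ih_int hM hR with ⟨K₀, hK₀M, hMn', hK₀, hdec⟩ | hB
  · haveI hK₀n : K₀.Normal := normal_of_decomp hK₀M hMn' hK₀ hRp inf_le_right hdec
    by_cases hK₀b : K₀ = ⊥
    · obtain ⟨k, hk, x, hx, he⟩ := hdec _ huM
      rw [hK₀b, Subgroup.mem_bot] at hk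
      rw [he, hk, one_mul]
      exact hx.1
    · exact (c.no_normal_pprime d K₀ hK₀b hK₀).elim
  · have hup : IsPGroup p (zpowers (g * x₁ * g⁻¹)) := isPGroup_zpowers_conj P hx₁.1 g
    have h1 : IsPGroup p (zpowers (g * x₁ * g⁻¹) ⊔ ((P : Subgroup G) ⊓ M) : Subgroup G) :=
      IsPGroup.to_sup_of_normal_right' hup hRp (by rw [zpowers_le]; exact hB huM)
    have h2 := hR.eq_of_le h1 le_sup_right (sup_le (zpowers_le.mpr huM) inf_le_right)
    have h3 : g * x₁ * g⁻¹ ∈ (zpowers (g * x₁ * g⁻¹) ⊔ ((P : Subgroup G) ⊓ M) : Subgroup G) :=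
      (le_sup_left : zpowers (g * x₁ * g⁻¹) ≤ _) (mem_zpowers _)
    rw [h2] at h3
    exact h3.1

/-- Step 4: the minimal counterexample is simple. -/
theorem Ctx.isSimpleGroup (c : Ctx p G P) {y : G} (d : YData P y) : IsSimpleGroup G := by
  haveI : Nontrivial G := by
    by_contra h
    rw [not_nontrivial_iff_subsingleton] at h
    apply c.hnn
    have : (P : Subgroup G) = ⊤ := Subsingleton.elim _ _
    rw [this]; infer_instance
  refine ⟨fun M hMn => ?_⟩
  by_cases hpM : p ∣ Nat.card M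
  · right
    by_contra hM
    exact c.no_normal_p d M hM hpM
  · left
    by_contra hM
    exact c.no_normal_pprime d M hM hpM

end Cfsg.Agent.Lib.Helper2.CycSyl
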