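/-
helper2: cyclic Sylow p-subgroup with abelian p'-subgroups (S4016), part D: structure of
`N(P) = P ⋊ H`, `K = C_H(P)`, centralizers of elements of `P` and of `K`, the TI property.
-/
import Cfsg.Agent.Lib.Helper2.CycSylC

set_option autoImplicit false

namespace Cfsg.Agent.Lib.Helper2.CycSyl

open Subgroup
open Cfsg.Agent.Lib.Helper8 (IsSylIn)

variable {G : Type*} [Group G] [Finite G] {p : ℕ} [hp : Fact p.Prime] {P : Sylow p G}

/-- existence of a complement `H` to `P` in `N(P)`. -/
theorem exists_H (P : Sylow p G) :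
    ∃ H : Subgroup G, Helper1.IsComplIn (P : Subgroup G) H (normalizer ((P : Subgroup G) : Set G)) := by
  apply Cfsg.Agent.Lib.Helper1.internal_sz_exists (M := (P : Subgroup G))
    (U := normalizer ((P : Subgroup G) : Set G)) Subgroup.le_normalizer le_rfl
  obtain ⟨k, hk⟩ := IsPGroup.iff_card.mp P.2
  rw [hk]
  apply Nat.Coprime.pow_left
  rw [Nat.Prime.coprime_iff_not_dvd hp.out]
  intro h
  exact P.not_dvd_index (h.trans (Subgroup.relIndex_dvd_index_of_le Subgroup.le_normalizer))

/-- the complement data. -/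
structure HData (P : Sylow p G) (H : Subgroup G) : Prop where
  compl : Helper1.IsComplIn (P : Subgroup G) H (normalizer ((P : Subgroup G) : Set G))

namespace HData

variable {H : Subgroup G} (hd : HData P H)
include hd

theorem le_N : H ≤ normalizer ((P : Subgroup G) : Set G) := hd.compl.2.1

theorem disj {x : G} (hxP : x ∈ (P : Subgroup G)) (hxH : x ∈ H) : x = 1 := by
  have := hd.compl.2.2.1
  rw [Subgroup.disjoint_def] at this
  exact this hxP hxH

theorem dec {n : G} (hn : n ∈ normalizer ((P : Subgroup G) : Set G)) :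
    ∃ x ∈ (P : Subgroup G), ∃ h ∈ H, x * h = n := hd.compl.2.2.2 n hn

theorem not_dvd : ¬ p ∣ Nat.card H := by
  intro hdv
  obtain ⟨h, hh⟩ := exists_prime_orderOf_dvd_card' (G := ↥H) p hdv
  have h1 : orderOf (h : G) = p := by rw [Subgroup.orderOf_coe]; exact hh
  have h2 : (h : G) ^ p ^ 1 = 1 := by rw [pow_one, ← h1]; exact pow_orderOf_eq_one _
  have h3 : (h : G) ∈ (P : Subgroup G) := mem_of_pow_eq_one P (hd.le_N h.2) h2
  have h4 := hd.disj h3 h.2
  rw [h4, orderOf_one] at h1
  exact hp.out.one_lt.ne h1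

theorem comm (c : Ctx p G P) : ∀ a ∈ H, ∀ b ∈ H, a * b = b * a := by
  intro a ha b hb
  have := (c.hab H hd.not_dvd).is_comm.comm ⟨a, ha⟩ ⟨b, hb⟩
  exact congrArg Subtype.val this

end HData

/-- `K = C_H(P)`. -/
def KK (P : Sylow p G) (H : Subgroup G) : Subgroup G := H ⊓ centralizer ((P : Subgroup G) : Set G)

namespace HData

variable {H : Subgroup G} (hd : HData P H)
include hd

theorem K_not_dvd : ¬ p ∣ Nat.card (KK P H) := fun h =>
  hd.not_dvd (h.trans (Subgroup.card_dvd_of_le inf_le_left))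

/-- `N(P)` centralizes `K`. -/
theorem N_cent_K (c : Ctx p G P) {n z : G} (hn : n ∈ normalizer ((P : Subgroup G) : Set G))
    (hz : z ∈ KK P H) : n * z = z * n := by
  obtain ⟨x, hx, h, hh, rfl⟩ := hd.dec hn
  have h1 : x * z = z * x := by
    have h0 : z ∈ centralizer ((P : Subgroup G) : Set G) := hz.2
    rw [Subgroup.mem_centralizer_iff] at h0
    exact h0 x hx
  have h2 : h * z = z * h := hd.comm c h hh z hz.1
  calc x * h * z = x * (h * z) := by group
    _ = x * (z * h) := by rw [h2]
    _ = (x * z) * h := by group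
    _ = z * (x * h) := by rw [h1]; group

/-- `C(P) = K P`. -/
theorem C_dec (c : Ctx p G P) {t : G} (ht : t ∈ centralizer ((P : Subgroup G) : Set G)) :
    ∃ k ∈ KK P H, ∃ x ∈ (P : Subgroup G), t = k * x := by
  obtain ⟨x, hx, h, hh, rfl⟩ := hd.dec (Subgroup.centralizer_le_normalizer _ ht)
  have hhC : h ∈ centralizer ((P : Subgroup G) : Set G) := by
    have : h = x⁻¹ * (x * h) := by group
    rw [this]
    exact Subgroup.mul_mem _ (Subgroup.inv_mem _ (c.le_centralizer hx)) ht
  refine ⟨h, ⟨hh, hhC⟩, x, hx, ?_⟩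
  rw [Subgroup.mem_centralizer_iff] at hhC
  exact hhC x hx

/-- `p'`-elements of `C(P)` lie in `K`. -/
theorem mem_K_of_coprime (c : Ctx p G P) {t : G}
    (ht : t ∈ centralizer ((P : Subgroup G) : Set G)) (hto : (orderOf t).Coprime p) :
    t ∈ KK P H := by
  apply mem_of_coprime_of_decomp (T := centralizer ((P : Subgroup G) : Set G)) ?_ hd.K_not_dvd P.2
    c.le_centralizer (fun t ht => hd.C_dec c ht) ht hto
  intro n hn
  apply Cfsg.Agent.Lib.Helper1.mem_normalizer_of_forall_conj_mem
  intro z hz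
  have := hd.N_cent_K c (Subgroup.centralizer_le_normalizer _ hn) hz
  rw [this, mul_assoc, mul_inv_cancel, mul_one]
  exact hz

/-- elements of `N(P)` commuting with a nontrivial element of `P` centralize `P`. -/
theorem mem_C_of_commute (c : Ctx p G P) {n u : G}
    (hn : n ∈ normalizer ((P : Subgroup G) : Set G)) (hu : u ∈ (P : Subgroup G)) (hu1 : u ≠ 1)
    (hnu : n * u = u * n) : n ∈ centralizer ((P : Subgroup G) : Set G) := by
  obtain ⟨x, hx, h, hh, rfl⟩ := hd.dec hn
  suffices hhC : h ∈ centralizer ((P : Subgroup G) : Set G) from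
    Subgroup.mul_mem _ (c.le_centralizer hx) hhC
  by_contra hhC
  have hho : (orderOf h).Coprime p := coprime_orderOf_of_mem hd.not_dvd hh
  have hfpf := fpf_of P c.hcyc (hd.le_N hh) hho hhC
  apply hu1
  apply hfpf u hu
  have h1 : x * u = u * x := c.comm x hx u hu
  have h2 : h * u = u * h := by
    calc h * u = x⁻¹ * (x * h * u) := by group
      _ = x⁻¹ * (u * (x * h)) := by rw [hnu]
      _ = x⁻¹ * (u * x) * h := by group
      _ = x⁻¹ * (x * u) * h := by rw [h1]
      _ = u * h := by group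
  rw [h2, mul_assoc, mul_inv_cancel, mul_one]

end HData

theorem Ctx.P_le_cent_singleton (c : Ctx p G P) {u : G} (hu : u ∈ (P : Subgroup G)) :
    (P : Subgroup G) ≤ centralizer ({u} : Set G) := by
  intro x hx
  rw [Subgroup.mem_centralizer_singleton_iff]
  exact c.comm x hx u hu

/-- Step 5a: the centralizer of a nontrivial element of `P` lies in `N(P)`. -/
theorem Ctx.cent_le_N (c : Ctx p G P) {y : G} (d : YData P y) {u : G}
    (hu : u ∈ (P : Subgroup G)) (hu1 : u ≠ 1) :
    centralizer ({u} : Set G) ≤ normalizer ((P : Subgroup G) : Set G) := by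
  have hPT := c.P_le_cent_singleton hu
  have hT : centralizer ({u} : Set G) ≠ ⊤ := by
    intro h
    have hy : y ∈ centralizer ({u} : Set G) := by rw [h]; trivial
    rw [Subgroup.mem_centralizer_singleton_iff] at hy
    apply hu1
    apply d.fpf c u hu
    rw [hy, mul_assoc, mul_inv_cancel, mul_one]
  rcases c.ih_int hT (c.isSylIn_of_le hPT) with ⟨K₁, hK₁T, hTn, hK₁, hdec⟩ | hB
  · -- y normalizes the centralizer of u
    have hyu : ∀ (a : G), a ∈ normalizer ((P : Subgroup G) : Set G) →
        a * u * a⁻¹ ∈ zpowers u := by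
      intro a ha
      apply c.mem_zpowers_of_orderOf _ hu (orderOf_conj a u)
      exact (Subgroup.mem_normalizer_iff.mp ha u).mp hu
    have hyT : ∀ t ∈ centralizer ({u} : Set G), y * t * y⁻¹ ∈ centralizer ({u} : Set G) := by
      intro t ht
      rw [Subgroup.mem_centralizer_singleton_iff] at ht ⊢
      -- u = y u' y⁻¹ with u' = y⁻¹ u y a power of u
      have h1 := hyu y⁻¹ (Subgroup.inv_mem _ d.hyN)
      rw [inv_inv] at h1
      obtain ⟨j, hj⟩ := mem_zpowers_iff.mp h1
      have h2 : t * (y⁻¹ * u * y) = (y⁻¹ * u * y) * t := by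
        rw [← hj]
        exact ((Commute.zpow_right (show Commute t u from ht) j)).eq
      calc y * t * y⁻¹ * u = y * (t * (y⁻¹ * u * y)) * y⁻¹ := by group
        _ = y * ((y⁻¹ * u * y) * t) * y⁻¹ := by rw [h2]
        _ = u * (y * t * y⁻¹) := by group
    have hyK : y ∈ normalizer (K₁ : Set G) := by
      apply Cfsg.Agent.Lib.Helper1.mem_normalizer_of_forall_conj_mem
      intro k hk
      apply mem_of_coprime_of_decomp hTn hK₁ P.2 hPT hdec (hyT k (hK₁T hk))
      rw [orderOf_conj]
      exact coprime_orderOf_of_mem hK₁ hk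
    have hcent := d.centralizes c K₁ hK₁ (hPT.trans hTn) hyK
    exact le_normalizer_of_decomp hcent hdec
  · exact hB

/-- Step 6: the centralizer of a nontrivial element of `K` is `N(P)`. -/
theorem Ctx.cent_eq_N (c : Ctx p G P) {y : G} (d : YData P y) {H : Subgroup G} (hd : HData P H)
    {z : G} (hz : z ∈ KK P H) (hz1 : z ≠ 1) :
    centralizer ({z} : Set G) = normalizer ((P : Subgroup G) : Set G) := by
  have hNT : normalizer ((P : Subgroup G) : Set G) ≤ centralizer ({z} : Set G) := by
    intro n hn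
    rw [Subgroup.mem_centralizer_singleton_iff]
    exact hd.N_cent_K c hn hz
  apply le_antisymm _ hNT
  have hPT : (P : Subgroup G) ≤ centralizer ({z} : Set G) := Subgroup.le_normalizer.trans hNT
  have hzo : (orderOf z).Coprime p := coprime_orderOf_of_mem hd.K_not_dvd hz
  have hT : centralizer ({z} : Set G) ≠ ⊤ := by
    intro h
    have hzc : ∀ g : G, g * z = z * g := by
      intro g
      have hg : g ∈ centralizer ({z} : Set G) := by rw [h]; trivial
      rwa [Subgroup.mem_centralizer_singleton_iff] at hg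
    haveI hn : (zpowers z).Normal := by
      refine ⟨fun a ha g => ?_⟩
      obtain ⟨k, rfl⟩ := mem_zpowers_iff.mp ha
      have h1 : g * z ^ k * g⁻¹ = z ^ k := by
        have := (Commute.zpow_right (show Commute g z from hzc g) k).eq
        rw [this, mul_assoc, mul_inv_cancel, mul_one]
      rw [h1]; exact (zpowers z).zpow_mem (mem_zpowers z) k
    apply c.no_normal_pprime d (zpowers z)
    · intro hb
      apply hz1
      have : z ∈ zpowers z := mem_zpowers z
      rwa [hb, Subgroup.mem_bot] at this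
    · rw [Nat.card_zpowers]
      exact fun h' => (Nat.Prime.coprime_iff_not_dvd hp.out).mp hzo.symm h'
  rcases c.ih_int hT (c.isSylIn_of_le hPT) with ⟨K₂, hK₂T, hTn, hK₂, hdec⟩ | hB
  · exfalso
    have hyT : y ∈ centralizer ({z} : Set G) := hNT d.hyN
    have hyK : y ∈ K₂ := mem_of_coprime_of_decomp hTn hK₂ P.2 hPT hdec hyT d.hyo
    apply d.hyC
    rw [Subgroup.mem_centralizer_iff]
    intro x hx
    have h1 : x⁻¹ * (y * x * y⁻¹) ∈ (P : Subgroup G) :=
      Subgroup.mul_mem _ (Subgroup.inv_mem _ hx) ((Subgroup.mem_normalizer_iff.mp d.hyN x).mp hx)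
    have h2 : x⁻¹ * (y * x * y⁻¹) ∈ K₂ := by
      have h3 : x⁻¹ * y * x⁻¹⁻¹ ∈ K₂ :=
        (Subgroup.mem_normalizer_iff.mp (hTn (hPT (Subgroup.inv_mem _ hx))) y).mp hyK
      have : x⁻¹ * (y * x * y⁻¹) = (x⁻¹ * y * x⁻¹⁻¹) * y⁻¹ := by group
      rw [this]
      exact K₂.mul_mem h3 (K₂.inv_mem hyK)
    have h4 := eq_one_of_mem_of_mem P.2 hK₂ h1 h2
    calc x * y = x * (x⁻¹ * (y * x * y⁻¹)) * y := by rw [h4, mul_one]
      _ = y * x := by group
  · exact hB

theorem mem_N_of_conj_mem (P : Sylow p G) {g : G}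
    (h : ∀ x ∈ (P : Subgroup G), g * x * g⁻¹ ∈ normalizer ((P : Subgroup G) : Set G)) :
    g ∈ normalizer ((P : Subgroup G) : Set G) := by
  apply Cfsg.Agent.Lib.Helper1.mem_normalizer_of_forall_conj_mem
  intro x hx
  exact mem_sylow_of_mem_normalizer P (h x hx) (isPGroup_zpowers_conj P hx g)

theorem pow_card_P_eq_one (P : Sylow p G) {x : G} (hx : x ∈ (P : Subgroup G)) :
    x ^ Nat.card (P : Subgroup G) = 1 := by
  have := pow_card_eq_one' (G := ↥(P : Subgroup G)) (x := ⟨x, hx⟩)
  exact congrArg Subtype.val this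

/-- the `card P`-th power of an element of `C(P)` lies in `K`. -/
theorem HData.pow_card_mem_K {H : Subgroup G} (hd : HData P H) (c : Ctx p G P) {t : G}
    (ht : t ∈ centralizer ((P : Subgroup G) : Set G)) : t ^ Nat.card (P : Subgroup G) ∈ KK P H := by
  obtain ⟨k, hk, x, hx, rfl⟩ := hd.C_dec c ht
  have hkx : Commute k x := by
    have h0 : k ∈ centralizer ((P : Subgroup G) : Set G) := hk.2
    rw [Subgroup.mem_centralizer_iff] at h0
    exact (h0 x hx).symm
  rw [hkx.mul_pow, pow_card_P_eq_one P hx, mul_one]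
  exact Subgroup.pow_mem _ hk _

/-- Step 7: `C(P)` is a TI-subgroup with normalizer `N(P)`. -/
theorem Ctx.ti (c : Ctx p G P) {y : G} (d : YData P y) {H : Subgroup G} (hd : HData P H)
    {g w : G} (hw : w ∈ centralizer ((P : Subgroup G) : Set G)) (hw1 : w ≠ 1)
    (hgw : g * w * g⁻¹ ∈ centralizer ((P : Subgroup G) : Set G)) :
    g ∈ normalizer ((P : Subgroup G) : Set G) := by
  obtain ⟨n, hn⟩ := IsPGroup.iff_card.mp P.2
  have hzK := hd.pow_card_mem_K c hw
  have hz'K := hd.pow_card_mem_K c hgw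
  rw [conj_pow] at hz'K
  by_cases hz1 : w ^ Nat.card (P : Subgroup G) = 1
  · have hwP : w ∈ (P : Subgroup G) :=
      mem_of_pow_eq_one P (Subgroup.centralizer_le_normalizer _ hw) (k := n) (by rw [← hn]; exact hz1)
    have hgwP : g * w * g⁻¹ ∈ (P : Subgroup G) :=
      mem_of_pow_eq_one P (Subgroup.centralizer_le_normalizer _ hgw) (k := n)
        (by rw [← hn, conj_pow, hz1, mul_one, mul_inv_cancel])
    have h1 : g⁻¹ ∈ normalizer ((P : Subgroup G) : Set G) := by
      apply mem_N_of_conj_mem P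
      intro x hx
      apply c.cent_le_N d hwP hw1
      rw [Subgroup.mem_centralizer_singleton_iff, inv_inv]
      have h2 := c.comm x hx _ hgwP
      calc g⁻¹ * x * g * w = g⁻¹ * (x * (g * w * g⁻¹)) * g := by group
        _ = g⁻¹ * ((g * w * g⁻¹) * x) * g := by rw [h2]
        _ = w * (g⁻¹ * x * g) := by group
    have := Subgroup.inv_mem _ h1
    rwa [inv_inv] at this
  · have hz'1 : g * w ^ Nat.card (P : Subgroup G) * g⁻¹ ≠ 1 := by
      intro h
      apply hz1
      calc w ^ Nat.card (P : Subgroup G)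
          = g⁻¹ * (g * w ^ Nat.card (P : Subgroup G) * g⁻¹) * g := by group
        _ = 1 := by rw [h]; group
    have h1 := c.cent_eq_N d hd hz'K hz'1
    apply mem_N_of_conj_mem P
    intro x hx
    rw [← h1, Subgroup.mem_centralizer_singleton_iff]
    have h0 : w ^ Nat.card (P : Subgroup G) ∈ centralizer ((P : Subgroup G) : Set G) := hzK.2
    rw [Subgroup.mem_centralizer_iff] at h0
    have h2 := h0 x hx
    calc g * x * g⁻¹ * (g * w ^ Nat.card (P : Subgroup G) * g⁻¹)
        = g * (x * w ^ Nat.card (P : Subgroup G)) * g⁻¹ := by group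
      _ = g * (w ^ Nat.card (P : Subgroup G) * x) * g⁻¹ := by rw [h2]
      _ = g * w ^ Nat.card (P : Subgroup G) * g⁻¹ * (g * x * g⁻¹) := by group

end Cfsg.Agent.Lib.Helper2.CycSyl
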