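/-
helper2: cyclic Sylow p-subgroup with abelian p'-subgroups (S4016), part E: Burnside for the
other primes, the automizer of `P`, and the case `C(P) = P`.
-/
import Cfsg.Agent.Lib.Helper2.CycSylD
import Cfsg.Agent.S4303

set_option autoImplicit false

namespace Cfsg.Agent.Lib.Helper2.CycSyl

open Subgroup
open Cfsg.Agent.Lib.Helper8 (IsSylIn)

variable {G : Type*} [Group G] [Finite G] {p : ℕ} [hp : Fact p.Prime] {P : Sylow p G}

theorem YData.P_ne_bot {y : G} (d : YData P y) : (P : Subgroup G) ≠ ⊥ := by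
  intro h
  apply d.hyC
  rw [Subgroup.mem_centralizer_iff]
  intro x hx
  rw [SetLike.mem_coe, h, Subgroup.mem_bot] at hx
  rw [hx, one_mul, mul_one]

theorem YData.p_dvd {y : G} (d : YData P y) : p ∣ Nat.card G := by
  obtain ⟨n, hn⟩ := IsPGroup.iff_card.mp P.2
  have hn0 : n ≠ 0 := by
    intro h
    rw [h, pow_zero] at hn
    exact d.P_ne_bot (Subgroup.card_eq_one.mp hn)
  have h1 : p ∣ Nat.card (P : Subgroup G) := by rw [hn]; exact dvd_pow_self p hn0
  exact h1.trans (Subgroup.card_subgroup_dvd_card _)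

theorem card_sylow_not_dvd {q : ℕ} [hq : Fact q.Prime] (hqp : q ≠ p) (Q : Sylow q G) :
    ¬ p ∣ Nat.card (Q : Subgroup G) := by
  obtain ⟨j, hj⟩ := IsPGroup.iff_card.mp Q.2
  rw [hj]
  intro h
  exact hqp ((Nat.prime_dvd_prime_iff_eq hp.out hq.out).mp (hp.out.dvd_of_dvd_pow h)).symm

/-- Burnside for a prime `q ≠ p`: a `p`-element of `N(Q) ∖ C(Q)`. -/
theorem Ctx.exists_pelt (c : Ctx p G P) {y : G} (d : YData P y) {q : ℕ} [hq : Fact q.Prime]
    (hqp : q ≠ p) (Q : Sylow q G) (hQ : (Q : Subgroup G) ≠ ⊥) :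
    ∃ u ∈ normalizer ((Q : Subgroup G) : Set G), ∃ k : ℕ, u ^ p ^ k = 1 ∧
      u ∉ centralizer ((Q : Subgroup G) : Set G) := by
  by_contra hcon
  push Not at hcon
  haveI hs := c.isSimpleGroup d
  have hQp := card_sylow_not_dvd hqp Q
  have hle : normalizer ((Q : Subgroup G) : Set G) ≤ centralizer ((Q : Subgroup G) : Set G) := by
    intro g hg
    apply Cfsg.Agent.Lib.Helper10.mem_of_parts_mem p _ g
    · intro k u hu huk
      exact hcon u ((zpowers_le.mpr hg) hu) k huk
    · intro a ha hao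
      have haN : a ∈ normalizer ((Q : Subgroup G) : Set G) := (zpowers_le.mpr hg) ha
      have hza : ¬ p ∣ Nat.card (zpowers a) := by
        rw [Nat.card_zpowers]
        exact fun h => (Nat.Prime.coprime_iff_not_dvd hp.out).mp hao.symm h
      have hL := not_dvd_card_sup (K := (Q : Subgroup G)) (H := zpowers a)
        (by rw [zpowers_le]; exact haN) hQp hza
      have hLc := c.hab _ hL
      rw [Subgroup.mem_centralizer_iff]
      intro h hh
      have haL : a ∈ (Q : Subgroup G) ⊔ zpowers a := (le_sup_right : zpowers a ≤ _) (mem_zpowers a)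
      have hhL : h ∈ (Q : Subgroup G) ⊔ zpowers a := (le_sup_left : (Q : Subgroup G) ≤ _) hh
      have := hLc.is_comm.comm (⟨h, hhL⟩ : ↥((Q : Subgroup G) ⊔ zpowers a)) ⟨a, haL⟩
      exact congrArg Subtype.val this
  have hcompl := MonoidHom.ker_transferSylow_isComplement' Q hle
  have hcard := hcompl.card_mul_card
  rcases hs.eq_bot_or_eq_top_of_normal _ (MonoidHom.normal_ker (MonoidHom.transferSylow Q hle))
    with h | h
  · rw [h, Subgroup.card_bot, one_mul] at hcard
    obtain ⟨j, hj⟩ := IsPGroup.iff_card.mp Q.2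
    have h1 : p ∣ q ^ j := by rw [← hj, hcard]; exact d.p_dvd
    exact hqp ((Nat.prime_dvd_prime_iff_eq hp.out hq.out).mp (hp.out.dvd_of_dvd_pow h1)).symm
  · rw [h, Subgroup.card_top] at hcard
    have h1 : Nat.card (Q : Subgroup G) = 1 := by
      have hpos : 0 < Nat.card G := Nat.card_pos
      exact Nat.eq_of_mul_eq_mul_left hpos (by rw [hcard, mul_one])
    exact hQ (Subgroup.card_eq_one.mp h1)

/-- The automizer of `P`. -/
noncomputable def autP (P : Sylow p G) : Subgroup (MulAut ↥(P : Subgroup G)) :=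
  ((P : Subgroup G).normalizerMonoidHom).range

theorem card_N_eq (P : Sylow p G) :
    Nat.card (normalizer ((P : Subgroup G) : Set G)) =
      Nat.card (centralizer ((P : Subgroup G) : Set G)) * Nat.card (autP P) := by
  have h1 := Subgroup.card_mul_index ((P : Subgroup G).normalizerMonoidHom).ker
  rw [Subgroup.index_ker, Subgroup.normalizerMonoidHom_ker,
    Cfsg.Agent.Lib.Helper1.card_subgroupOf_of_le (Subgroup.centralizer_le_normalizer _)] at h1
  exact h1.symm

theorem Ctx.autP_coprime (c : Ctx p G P) : (Nat.card (autP P)).Coprime p := by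
  rw [Nat.coprime_comm, Nat.Prime.coprime_iff_not_dvd hp.out]
  intro h
  have h1 : Nat.card (P : Subgroup G) ∣ Nat.card (centralizer ((P : Subgroup G) : Set G)) :=
    Subgroup.card_dvd_of_le c.le_centralizer
  have h2 : Nat.card (P : Subgroup G) * p ∣ Nat.card G := by
    have h3 : Nat.card (P : Subgroup G) * p ∣
        Nat.card (centralizer ((P : Subgroup G) : Set G)) * Nat.card (autP P) :=
      Nat.mul_dvd_mul h1 h
    rw [← card_N_eq] at h3
    exact h3.trans (Subgroup.card_subgroup_dvd_card _)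
  rw [P.card_eq_multiplicity, ← pow_succ] at h2
  exact Nat.pow_succ_factorization_not_dvd Nat.card_pos.ne' hp.out h2

theorem Ctx.autP_facts (c : Ctx p G P) :
    IsCyclic (autP P) ∧ Nat.card (autP P) ∣ p - 1 := by
  obtain ⟨n, hn⟩ := IsPGroup.iff_card.mp P.2
  haveI := c.hcyc
  have := Cfsg.Agent.CharLib.cyclic_aut_facts hp.out hn (autP P) c.autP_coprime
  exact ⟨this.1, this.2.1⟩

theorem YData.autP_ne_one {y : G} (d : YData P y) : Nat.card (autP P) ≠ 1 := by
  intro h
  have h1 : autP P = ⊥ := Subgroup.card_eq_one.mp h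
  have h2 : (P : Subgroup G).normalizerMonoidHom ⟨y, d.hyN⟩ ∈ autP P := ⟨_, rfl⟩
  rw [h1, Subgroup.mem_bot] at h2
  have h3 : (⟨y, d.hyN⟩ : normalizer ((P : Subgroup G) : Set G)) ∈
      (P : Subgroup G).normalizerMonoidHom.ker := h2
  rw [Subgroup.normalizerMonoidHom_ker, Subgroup.mem_subgroupOf] at h3
  exact d.hyC h3

/-- `p'`-elements commuting with an element of order `p` lie in a conjugate of `K`. -/
theorem Ctx.cent_order_p (c : Ctx p G P) {y : G} (d : YData P y) {H : Subgroup G} (hd : HData P H)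
    {u₁ : G} (hu₁ : orderOf u₁ = p) :
    ∃ g₀ : G, g₀⁻¹ * u₁ * g₀ ∈ (P : Subgroup G) ∧
      ∀ w : G, w * u₁ = u₁ * w → (orderOf w).Coprime p → g₀⁻¹ * w * g₀ ∈ KK P H := by
  have hzp : IsPGroup p (zpowers u₁) :=
    IsPGroup.of_card (n := 1) (by rw [Nat.card_zpowers, hu₁, pow_one])
  obtain ⟨Q', hQ'⟩ := hzp.exists_le_sylow
  obtain ⟨g₀, hg₀⟩ := MulAction.exists_smul_eq G P Q'
  have h1 : u₁ ∈ ((g₀ • P : Sylow p G) : Subgroup G) := by
    rw [hg₀]; exact hQ' (mem_zpowers _)
  rw [Cfsg.Agent.Lib.Helper1.mem_sylow_smul_iff] at h1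
  refine ⟨g₀, h1, ?_⟩
  intro w hw hwo
  have hx1 : g₀⁻¹ * u₁ * g₀ ≠ 1 := by
    intro h
    have : u₁ = 1 := by
      calc u₁ = g₀ * (g₀⁻¹ * u₁ * g₀) * g₀⁻¹ := by group
        _ = 1 := by rw [h]; group
    rw [this, orderOf_one] at hu₁
    exact hp.out.one_lt.ne hu₁
  have hcomm : g₀⁻¹ * w * g₀ * (g₀⁻¹ * u₁ * g₀) = g₀⁻¹ * u₁ * g₀ * (g₀⁻¹ * w * g₀) := by
    calc g₀⁻¹ * w * g₀ * (g₀⁻¹ * u₁ * g₀) = g₀⁻¹ * (w * u₁) * g₀ := by group
      _ = g₀⁻¹ * (u₁ * w) * g₀ := by rw [hw]
      _ = g₀⁻¹ * u₁ * g₀ * (g₀⁻¹ * w * g₀) := by group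
  have hN : g₀⁻¹ * w * g₀ ∈ normalizer ((P : Subgroup G) : Set G) := by
    apply c.cent_le_N d h1 hx1
    rw [Subgroup.mem_centralizer_singleton_iff]
    exact hcomm
  have hC := hd.mem_C_of_commute c hN h1 hx1 hcomm
  apply hd.mem_K_of_coprime c hC
  have := orderOf_conj g₀⁻¹ w
  rw [inv_inv] at this
  rw [this]; exact hwo

/-- When `K = 1`, every Sylow `q`-subgroup (`q ≠ p`) has order `≡ 1 mod p`. -/
theorem Ctx.card_sylow_modEq_one_of_K_bot (c : Ctx p G P) {y : G} (d : YData P y) {H : Subgroup G}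
    (hd : HData P H) (hK : KK P H = ⊥) {q : ℕ} [hq : Fact q.Prime] (hqp : q ≠ p) (Q : Sylow q G) :
    Nat.card (Q : Subgroup G) ≡ 1 [MOD p] := by
  by_cases hQ : (Q : Subgroup G) = ⊥
  · rw [hQ, Subgroup.card_bot]
  obtain ⟨u, huN, k, huk, huC⟩ := c.exists_pelt d hqp Q hQ
  have hu1 : u ≠ 1 := by
    intro h
    apply huC
    rw [h]; exact Subgroup.one_mem _
  have hpo : p ∣ Nat.card (zpowers u) := by
    rw [Nat.card_zpowers]
    have h1 : orderOf u ∣ p ^ k := orderOf_dvd_of_pow_eq_one huk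
    obtain ⟨j, -, hj⟩ := (Nat.dvd_prime_pow hp.out).mp h1
    have hj0 : j ≠ 0 := by
      intro h
      rw [h, pow_zero] at hj
      exact hu1 (orderOf_eq_one_iff.mp hj)
    rw [hj]; exact dvd_pow_self p hj0
  obtain ⟨u₁', hu₁'⟩ := exists_prime_orderOf_dvd_card' (G := ↥(zpowers u)) p hpo
  have hu₁o : orderOf (u₁' : G) = p := by rw [Subgroup.orderOf_coe]; exact hu₁'
  have hu₁N : (u₁' : G) ∈ normalizer ((Q : Subgroup G) : Set G) := (zpowers_le.mpr huN) u₁'.2
  obtain ⟨g₀, -, hg₀⟩ := c.cent_order_p d hd hu₁o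
  have hQp := card_sylow_not_dvd hqp Q
  have hfix : (Q : Subgroup G) ⊓ centralizer ((zpowers (u₁' : G) : Subgroup G) : Set G) = ⊥ := by
    rw [eq_bot_iff]
    intro w hw
    rw [Subgroup.mem_bot]
    have hwc : w ∈ centralizer ((zpowers (u₁' : G) : Subgroup G) : Set G) := hw.2
    rw [Subgroup.mem_centralizer_iff] at hwc
    have h1 := hg₀ w (hwc _ (mem_zpowers _)).symm (coprime_orderOf_of_mem hQp hw.1)
    rw [hK, Subgroup.mem_bot] at h1
    calc w = g₀ * (g₀⁻¹ * w * g₀) * g₀⁻¹ := by group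
      _ = 1 := by rw [h1]; group
  have hzp : IsPGroup p (zpowers (u₁' : G)) :=
    IsPGroup.of_card (n := 1) (by rw [Nat.card_zpowers, hu₁o, pow_one])
  have := Cfsg.Agent.S4303.card_modEq_card_inf_centralizer p (zpowers (u₁' : G)) (Q : Subgroup G) hzp
    (by rw [zpowers_le]; exact hu₁N)
  rw [hfix, Subgroup.card_bot] at this
  exact this

/-- Step 8: the case `K = 1` is impossible. -/
theorem Ctx.false_of_K_bot (c : Ctx p G P) {y : G} (d : YData P y) {H : Subgroup G}
    (hd : HData P H) (hK : KK P H = ⊥) : False := by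
  classical
  have hC : centralizer ((P : Subgroup G) : Set G) = (P : Subgroup G) := by
    apply le_antisymm _ c.le_centralizer
    intro t ht
    obtain ⟨k, hk, x, hx, rfl⟩ := hd.C_dec c ht
    rw [hK, Subgroup.mem_bot] at hk
    rw [hk, one_mul]; exact hx
  set e := Nat.card (autP P) with he
  have hN : Nat.card (normalizer ((P : Subgroup G) : Set G)) = Nat.card (P : Subgroup G) * e := by
    rw [card_N_eq, hC]
  set n := Nat.card G with hn
  have hn0 : n ≠ 0 := Nat.card_pos.ne'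
  set m := ∏ q ∈ n.primeFactors.erase p, q ^ n.factorization q with hm
  have hpn : p ∈ n.primeFactors := Nat.mem_primeFactors.mpr ⟨hp.out, d.p_dvd, hn0⟩
  have hnm : n = p ^ n.factorization p * m := by
    rw [hm, Finset.mul_prod_erase n.primeFactors (fun q => q ^ n.factorization q) hpn]
    exact (Nat.prod_factorization_pow_eq_self hn0).symm
  have hm1 : m ≡ 1 [MOD p] := by
    rw [hm]
    apply Finset.prod_induction _ (fun x => x ≡ 1 [MOD p])
    · intro a b ha hb
      have := Nat.ModEq.mul ha hb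
      rwa [mul_one] at this
    · rfl
    · intro q hq
      rw [Finset.mem_erase, Nat.mem_primeFactors] at hq
      haveI : Fact q.Prime := ⟨hq.2.1⟩
      obtain ⟨Q⟩ : Nonempty (Sylow q G) := inferInstance
      have := c.card_sylow_modEq_one_of_K_bot d hd hK hq.1 Q
      rwa [Q.card_eq_multiplicity] at this
  have hidx : (normalizer ((P : Subgroup G) : Set G)).index ≡ 1 [MOD p] := by
    have h0 := Sylow.card_eq_index_normalizer P
    have h00 := card_sylow_modEq_one p G
    rw [h0] at h00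
    exact h00
  have h1 := Subgroup.card_mul_index (normalizer ((P : Subgroup G) : Set G))
  rw [hN, P.card_eq_multiplicity, ← hn] at h1
  have h2 : m = e * (normalizer ((P : Subgroup G) : Set G)).index := by
    have hpos : 0 < p ^ n.factorization p := pow_pos hp.out.pos _
    apply Nat.eq_of_mul_eq_mul_left hpos
    rw [← hnm, ← mul_assoc]
    exact h1.symm
  have h3 : e ≡ 1 [MOD p] := by
    have h4 : m ≡ e * 1 [MOD p] := by
      rw [h2]; exact Nat.ModEq.mul_left e hidx
    rw [mul_one] at h4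
    exact h4.symm.trans hm1
  have he1 : e ≠ 1 := d.autP_ne_one
  have he2 : e ∣ p - 1 := c.autP_facts.2
  have hp1 : 0 < p - 1 := Nat.sub_pos_of_lt hp.out.one_lt
  have he3 : e ≤ p - 1 := Nat.le_of_dvd hp1 he2
  have he4 : e < p := by omega
  have h5 : e % p = 1 % p := h3
  rw [Nat.mod_eq_of_lt he4, Nat.mod_eq_of_lt hp.out.one_lt] at h5
  exact he1 h5

end Cfsg.Agent.Lib.Helper2.CycSyl
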