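/-
helper2: cyclic Sylow p-subgroup with abelian p'-subgroups (S4016), part F: the case `K ≠ 1`:
a prime `q` dividing `|K|` satisfies `p = q + 1`.
-/
import Cfsg.Agent.Lib.Helper2.CycSylE

set_option autoImplicit false

namespace Cfsg.Agent.Lib.Helper2.CycSyl

open Subgroup
open Cfsg.Agent.Lib.Helper8 (IsSylIn)

/-- a subgroup of a cyclic subgroup, all of whose elements have `q`-th power one, has at most
`q` elements. -/
theorem card_le_of_forall_pow {X : Type*} [Group X] (E R : Subgroup X) [Finite E]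
    (hE : IsCyclic E) (hRE : R ≤ E) {q : ℕ} (hq : 0 < q) (h : ∀ α ∈ R, α ^ q = 1) :
    Nat.card R ≤ q := by
  have h1 : Nat.card (R.subgroupOf E) = Nat.card R :=
    Cfsg.Agent.Lib.Helper1.card_subgroupOf_of_le hRE
  haveI : IsCyclic ↥(R.subgroupOf E) := Subgroup.isCyclic _
  have h2 : Monoid.exponent ↥(R.subgroupOf E) = Nat.card ↥(R.subgroupOf E) :=
    IsCyclic.exponent_eq_card
  have h3 : Monoid.exponent ↥(R.subgroupOf E) ∣ q := by
    apply Monoid.exponent_dvd_of_forall_pow_eq_one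
    intro g
    have hg : ((g : ↥E) : X) ∈ R := Subgroup.mem_subgroupOf.mp g.2
    apply Subtype.ext
    apply Subtype.ext
    simp only [SubmonoidClass.coe_pow, OneMemClass.coe_one]
    exact h _ hg
  rw [h2, h1] at h3
  exact Nat.le_of_dvd hq h3

/-- two subgroups of `L` with trivial intersection: `|H| |K| ≤ |L|`. -/
theorem card_mul_le_of_disjoint {X : Type*} [Group X] [Finite X] (H K L : Subgroup X) (hH : H ≤ L)
    (hK : K ≤ L) (hd : H ⊓ K = ⊥) : Nat.card H * Nat.card K ≤ Nat.card L := by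
  rw [← Nat.card_prod]
  let f : ↥H × ↥K → ↥L := fun g => ⟨(g.1 : X) * (g.2 : X), L.mul_mem (hH g.1.2) (hK g.2.2)⟩
  apply Nat.card_le_card_of_injective f
  intro a b hab
  have h1 : (a.1 : X) * (a.2 : X) = (b.1 : X) * (b.2 : X) := congrArg Subtype.val hab
  exact Subgroup.mul_injective_of_disjoint (disjoint_iff.mpr hd) h1

variable {G : Type*} [Group G] [Finite G] {p : ℕ} [hp : Fact p.Prime] {P : Sylow p G}

/-- data for a prime `q` dividing `|K|`. -/
structure QData (P : Sylow p G) (H : Subgroup G) (q : ℕ) (Q : Sylow q G) (z u : G) : Prop where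
  hzK : z ∈ KK P H
  hzo : orderOf z = q
  hzQ : z ∈ (Q : Subgroup G)
  huQ : u ∈ normalizer ((Q : Subgroup G) : Set G)
  hup : ∃ k : ℕ, u ^ p ^ k = 1
  huN : u ∉ normalizer ((P : Subgroup G) : Set G)
  hQN : (Q : Subgroup G) ≤ normalizer ((P : Subgroup G) : Set G)
  hqp : q ≠ p
  hQc : ∀ a ∈ (Q : Subgroup G), ∀ b ∈ (Q : Subgroup G), a * b = b * a

theorem Ctx.exists_QData (c : Ctx p G P) {y : G} (d : YData P y) {H : Subgroup G} (hd : HData P H)
    {q : ℕ} [hq : Fact q.Prime] (hqK : q ∣ Nat.card (KK P H)) :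
    ∃ (Q : Sylow q G) (z u : G), QData P H q Q z u := by
  obtain ⟨z, hz⟩ := exists_prime_orderOf_dvd_card' (G := ↥(KK P H)) q hqK
  have hzo : orderOf (z : G) = q := by rw [Subgroup.orderOf_coe]; exact hz
  have hqp : q ≠ p := fun h => hd.K_not_dvd (h ▸ hqK)
  have hz1 : (z : G) ≠ 1 := by
    intro h
    rw [h, orderOf_one] at hzo
    exact hq.out.one_lt.ne hzo
  have hzp : IsPGroup q (zpowers (z : G)) :=
    IsPGroup.of_card (n := 1) (by rw [Nat.card_zpowers, hzo, pow_one])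
  obtain ⟨Q, hQ⟩ := hzp.exists_le_sylow
  have hzQ : (z : G) ∈ (Q : Subgroup G) := hQ (mem_zpowers _)
  have hQp := card_sylow_not_dvd hqp Q
  have hQc : ∀ a ∈ (Q : Subgroup G), ∀ b ∈ (Q : Subgroup G), a * b = b * a := by
    intro a ha b hb
    have := (c.hab _ hQp).is_comm.comm (⟨a, ha⟩ : ↥(Q : Subgroup G)) ⟨b, hb⟩
    exact congrArg Subtype.val this
  have hQN : (Q : Subgroup G) ≤ normalizer ((P : Subgroup G) : Set G) := by
    rw [← c.cent_eq_N d hd z.2 hz1]
    intro w hw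
    rw [Subgroup.mem_centralizer_singleton_iff]
    exact hQc w hw _ hzQ
  have hQb : (Q : Subgroup G) ≠ ⊥ := by
    intro h
    rw [h, Subgroup.mem_bot] at hzQ
    exact hz1 hzQ
  obtain ⟨u, huQ, k, huk, huC⟩ := c.exists_pelt d hqp Q hQb
  refine ⟨Q, z, u, z.2, hzo, hzQ, huQ, ⟨k, huk⟩, ?_, hQN, hqp, hQc⟩
  intro huN
  have huP : u ∈ (P : Subgroup G) := mem_of_pow_eq_one P huN huk
  apply huC
  rw [Subgroup.mem_centralizer_iff]
  intro w hw
  have h1 : u * w * u⁻¹ * w⁻¹ ∈ (Q : Subgroup G) :=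
    Subgroup.mul_mem _ ((Subgroup.mem_normalizer_iff.mp huQ w).mp hw) (Subgroup.inv_mem _ hw)
  have h2 : u * w * u⁻¹ * w⁻¹ ∈ (P : Subgroup G) := by
    have h3 : w * u⁻¹ * w⁻¹ ∈ (P : Subgroup G) :=
      (Subgroup.mem_normalizer_iff.mp (hQN hw) u⁻¹).mp (Subgroup.inv_mem _ huP)
    have : u * w * u⁻¹ * w⁻¹ = u * (w * u⁻¹ * w⁻¹) := by group
    rw [this]
    exact Subgroup.mul_mem _ huP h3
  have h4 := eq_one_of_mem_of_mem P.2 hQp h2 h1
  calc w * u = (u * w * u⁻¹ * w⁻¹)⁻¹ * (u * w) := by group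
    _ = u * w := by rw [h4, inv_one, one_mul]

namespace QData

variable {H : Subgroup G} {q : ℕ} [hq : Fact q.Prime] {Q : Sylow q G} {z u : G}
  (qd : QData P H q Q z u)
include qd

theorem z_ne_one : z ≠ 1 := by
  intro h
  have := qd.hzo
  rw [h, orderOf_one] at this
  exact hq.out.one_lt.ne this

/-- `u ^ i ∉ N(P)` for `0 < i < p`. -/
theorem pow_not_mem {i : ℕ} (hi0 : 0 < i) (hip : i < p) :
    u ^ i ∉ normalizer ((P : Subgroup G) : Set G) := by
  intro h
  obtain ⟨k, hk⟩ := qd.hup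
  apply qd.huN
  have hcop : Nat.Coprime i (p ^ k) := by
    apply Nat.Coprime.pow_right
    rw [Nat.coprime_comm, Nat.Prime.coprime_iff_not_dvd hp.out]
    intro hd
    exact absurd (Nat.le_of_dvd hi0 hd) (not_le.mpr hip)
  apply Cfsg.Agent.Lib.Helper10.mem_of_pow_mem_of_coprime _ u hcop h
  rw [hk]; exact Subgroup.one_mem _

end QData

end Cfsg.Agent.Lib.Helper2.CycSyl
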