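/-
helper2: cyclic Sylow p-subgroup with abelian p'-subgroups (S4016), part G: the counting
argument: a prime `q` dividing `|K|` satisfies `p = q + 1`.
-/
import Cfsg.Agent.Lib.Helper2.CycSylF

set_option autoImplicit false

namespace Cfsg.Agent.Lib.Helper2.CycSyl

open Subgroup
open Cfsg.Agent.Lib.Helper8 (IsSylIn)

variable {G : Type*} [Group G]

/-- the `q`-torsion of a commutative subgroup. -/
def omegaQ (Q : Subgroup G) (hQc : ∀ a ∈ Q, ∀ b ∈ Q, a * b = b * a) (q : ℕ) : Subgroup G where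
  carrier := {w | w ∈ Q ∧ w ^ q = 1}
  one_mem' := ⟨Q.one_mem, one_pow q⟩
  mul_mem' := by
    rintro a b ⟨ha, ha'⟩ ⟨hb, hb'⟩
    refine ⟨Q.mul_mem ha hb, ?_⟩
    rw [(show Commute a b from hQc a ha b hb).mul_pow, ha', hb', one_mul]
  inv_mem' := by
    rintro a ⟨ha, ha'⟩
    exact ⟨Q.inv_mem ha, by rw [inv_pow, ha', inv_one]⟩

theorem mem_omegaQ {Q : Subgroup G} {hQc : ∀ a ∈ Q, ∀ b ∈ Q, a * b = b * a} {q : ℕ} {w : G} :
    w ∈ omegaQ Q hQc q ↔ w ∈ Q ∧ w ^ q = 1 := Iff.rfl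

theorem conj_pow_cancel {u w w' : G} {i j : ℕ} (hji : j ≤ i)
    (h : u ^ i * w * (u ^ i)⁻¹ = u ^ j * w' * (u ^ j)⁻¹) :
    u ^ (i - j) * w * (u ^ (i - j))⁻¹ = w' := by
  have h1 : u ^ i = u ^ j * u ^ (i - j) := by rw [← pow_add, Nat.add_sub_cancel' hji]
  rw [h1] at h
  generalize u ^ j = a at h
  generalize u ^ (i - j) = b at h ⊢
  calc b * w * b⁻¹ = a⁻¹ * (a * b * w * (a * b)⁻¹) * a := by group
    _ = a⁻¹ * (a * w' * a⁻¹) * a := by rw [h]
    _ = w' := by group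

variable [Finite G] {p : ℕ} [hp : Fact p.Prime] {P : Sylow p G}

namespace QData

variable {H : Subgroup G} {q : ℕ} [hq : Fact q.Prime] {Q : Sylow q G} {z u : G}
  (qd : QData P H q Q z u)
include qd

theorem z_mem_C : z ∈ centralizer ((P : Subgroup G) : Set G) := qd.hzK.2

theorem pow_mem_normalizer_Q (i : ℕ) : u ^ i ∈ normalizer ((Q : Subgroup G) : Set G) :=
  Subgroup.pow_mem _ qd.huQ i

/-- conjugates by elements outside `N(P)` of nontrivial elements of `C(P)` are not in `C(P)`. -/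
theorem conj_not_mem_C (c : Ctx p G P) {y : G} (d : YData P y) (hd : HData P H) {g w : G}
    (hg : g ∉ normalizer ((P : Subgroup G) : Set G))
    (hw : w ∈ centralizer ((P : Subgroup G) : Set G)) (hw1 : w ≠ 1) :
    g * w * g⁻¹ ∉ centralizer ((P : Subgroup G) : Set G) :=
  fun h => hg (c.ti d hd hw hw1 h)

/-- `q` divides the order of the automizer of `P`. -/
theorem q_dvd_autP (c : Ctx p G P) {y : G} (d : YData P y) (hd : HData P H) :
    q ∣ Nat.card (autP P) := by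
  have h1 : u * z * u⁻¹ ∈ (Q : Subgroup G) :=
    (Subgroup.mem_normalizer_iff.mp qd.huQ z).mp qd.hzQ
  have h2 : u * z * u⁻¹ ∈ normalizer ((P : Subgroup G) : Set G) := qd.hQN h1
  set α : MulAut ↥(P : Subgroup G) := (P : Subgroup G).normalizerMonoidHom ⟨u * z * u⁻¹, h2⟩
    with hα
  have hα1 : α ≠ 1 := by
    intro h
    have h3 : (⟨u * z * u⁻¹, h2⟩ : normalizer ((P : Subgroup G) : Set G)) ∈
        (P : Subgroup G).normalizerMonoidHom.ker := h
    rw [Subgroup.normalizerMonoidHom_ker, Subgroup.mem_subgroupOf] at h3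
    exact qd.conj_not_mem_C c d hd qd.huN qd.z_mem_C qd.z_ne_one h3
  have hαq : α ^ q = 1 := by
    rw [hα, ← map_pow]
    have : (⟨u * z * u⁻¹, h2⟩ : normalizer ((P : Subgroup G) : Set G)) ^ q = 1 := by
      apply Subtype.ext
      simp only [SubmonoidClass.mk_pow, OneMemClass.coe_one]
      rw [conj_pow, ← qd.hzo, pow_orderOf_eq_one, mul_one, mul_inv_cancel]
    rw [this, map_one]
  have hαo : orderOf α = q := by
    have h3 : orderOf α ∣ q := orderOf_dvd_of_pow_eq_one hαq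
    rcases (Nat.dvd_prime hq.out).mp h3 with h | h
    · exact absurd (orderOf_eq_one_iff.mp h) hα1
    · exact h
  have hαm : α ∈ autP P := ⟨_, rfl⟩
  have := orderOf_dvd_natCard (⟨α, hαm⟩ : autP P)
  rwa [Subgroup.orderOf_mk, hαo] at this

/-- `Ω`, the `q`-torsion of `Q`. -/
def Om : Subgroup G := omegaQ (Q : Subgroup G) qd.hQc q

theorem Om_le_N : qd.Om ≤ normalizer ((P : Subgroup G) : Set G) := fun _ hw => qd.hQN hw.1

/-- the `q`-torsion of `Q ∩ C(P)`. -/
def AA : Subgroup G := qd.Om ⊓ centralizer ((P : Subgroup G) : Set G)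

theorem AA_le_Om : qd.AA ≤ qd.Om := inf_le_left

theorem AA_le_C : qd.AA ≤ centralizer ((P : Subgroup G) : Set G) := inf_le_right

theorem finite_mulAut : Finite (MulAut ↥(P : Subgroup G)) := by
  haveI : Finite (↥(P : Subgroup G) → ↥(P : Subgroup G)) := inferInstance
  exact Finite.of_injective
    (fun α : MulAut ↥(P : Subgroup G) => (α : ↥(P : Subgroup G) → ↥(P : Subgroup G)))
    (fun a b h => MulEquiv.ext (fun x => congrFun h x))

theorem card_Om_le (c : Ctx p G P) : Nat.card qd.Om ≤ q * Nat.card qd.AA := by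
  let ψ : ↥qd.Om →* MulAut ↥(P : Subgroup G) :=
    ((P : Subgroup G).normalizerMonoidHom).comp (Subgroup.inclusion qd.Om_le_N)
  have hker : ψ.ker = qd.AA.subgroupOf qd.Om := by
    ext x
    rw [MonoidHom.mem_ker, Subgroup.mem_subgroupOf]
    have h1 : ψ x = 1 ↔ (Subgroup.inclusion qd.Om_le_N x) ∈
        (P : Subgroup G).normalizerMonoidHom.ker := Iff.rfl
    rw [h1, Subgroup.normalizerMonoidHom_ker, Subgroup.mem_subgroupOf]
    constructor
    · intro h; exact ⟨x.2, h⟩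
    · intro h; exact h.2
  have h2 := Subgroup.card_mul_index ψ.ker
  rw [Subgroup.index_ker, hker,
    Cfsg.Agent.Lib.Helper1.card_subgroupOf_of_le qd.AA_le_Om] at h2
  have h3 : Nat.card ψ.range ≤ q := by
    haveI := qd.finite_mulAut
    apply card_le_of_forall_pow (autP P) ψ.range c.autP_facts.1 _ hq.out.pos
    · rintro α ⟨x, rfl⟩
      rw [← map_pow]
      have : x ^ q = 1 := by
        apply Subtype.ext
        simp only [SubmonoidClass.coe_pow, OneMemClass.coe_one]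
        exact x.2.2
      rw [this, map_one]
    · rintro α ⟨x, rfl⟩
      exact ⟨_, rfl⟩
  rw [← h2, mul_comm]
  exact Nat.mul_le_mul_right _ h3

/-- `u A u⁻¹`. -/
def AA' : Subgroup G := qd.AA.map (MulAut.conj u).toMonoidHom

theorem card_AA' : Nat.card qd.AA' = Nat.card qd.AA :=
  Subgroup.card_map_of_injective (MulAut.conj u).injective

theorem AA'_le_Om : qd.AA' ≤ qd.Om := by
  rintro w ⟨a, ha, rfl⟩
  have ha' : a ∈ qd.Om := qd.AA_le_Om ha
  rw [MulEquiv.coe_toMonoidHom, MulAut.conj_apply]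
  refine ⟨(Subgroup.mem_normalizer_iff.mp qd.huQ a).mp ha'.1, ?_⟩
  rw [conj_pow, ha'.2, mul_one, mul_inv_cancel]

theorem AA_inf_AA' (c : Ctx p G P) {y : G} (d : YData P y) (hd : HData P H) :
    qd.AA ⊓ qd.AA' = ⊥ := by
  rw [eq_bot_iff]
  rintro w ⟨hw, a, ha, rfl⟩
  rw [MulEquiv.coe_toMonoidHom, MulAut.conj_apply] at hw ⊢
  rw [Subgroup.mem_bot]
  by_contra hne
  have ha1 : a ≠ 1 := by
    intro h
    apply hne
    rw [h, mul_one, mul_inv_cancel]
  exact qd.conj_not_mem_C c d hd qd.huN (qd.AA_le_C ha) ha1 (qd.AA_le_C hw)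

theorem zpowers_le_AA : zpowers z ≤ qd.AA := by
  rw [zpowers_le]
  refine ⟨⟨qd.hzQ, ?_⟩, qd.z_mem_C⟩
  rw [← qd.hzo]; exact pow_orderOf_eq_one z

theorem card_AA (c : Ctx p G P) {y : G} (d : YData P y) (hd : HData P H) :
    Nat.card qd.AA = q := by
  have h1 := card_mul_le_of_disjoint qd.AA qd.AA' qd.Om qd.AA_le_Om qd.AA'_le_Om
    (qd.AA_inf_AA' c d hd)
  rw [qd.card_AA'] at h1
  have h2 := qd.card_Om_le c
  have h3 : Nat.card qd.AA * Nat.card qd.AA ≤ q * Nat.card qd.AA := h1.trans h2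
  have hpos : 0 < Nat.card qd.AA := Nat.card_pos
  have h4 : Nat.card qd.AA ≤ q := Nat.le_of_mul_le_mul_right h3 hpos
  have h5 : q ≤ Nat.card qd.AA := by
    have := Subgroup.card_le_of_le qd.zpowers_le_AA
    rwa [Nat.card_zpowers, qd.hzo] at this
  exact le_antisymm h4 h5

theorem zpow_ne_one {k : ℕ} (hk0 : 0 < k) (hkq : k < q) : z ^ k ≠ 1 := by
  intro h
  have h1 : orderOf z ∣ k := orderOf_dvd_of_pow_eq_one h
  rw [qd.hzo] at h1
  exact absurd (Nat.le_of_dvd hk0 h1) (not_le.mpr hkq)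

theorem key_inj (c : Ctx p G P) {y : G} (d : YData P y) (hd : HData P H) {i j k l : ℕ}
    (hip : i < p) (hjp : j < p) (hk0 : 0 < k) (hkq : k < q) (_hl0 : 0 < l) (hlq : l < q)
    (h : u ^ i * z ^ k * (u ^ i)⁻¹ = u ^ j * z ^ l * (u ^ j)⁻¹) : i = j ∧ k = l := by
  have hzkC : ∀ m : ℕ, z ^ m ∈ centralizer ((P : Subgroup G) : Set G) :=
    fun m => Subgroup.pow_mem _ qd.z_mem_C m
  have hij : i = j := by
    by_contra hne
    rcases Nat.lt_or_gt_of_ne hne with hlt | hlt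
    · have h1 := conj_pow_cancel hlt.le h.symm
      have h2 : u ^ (j - i) ∉ normalizer ((P : Subgroup G) : Set G) :=
        qd.pow_not_mem (Nat.sub_pos_of_lt hlt) (lt_of_le_of_lt (Nat.sub_le _ _) hjp)
      have := qd.conj_not_mem_C c d hd h2 (hzkC l) (qd.zpow_ne_one _hl0 hlq)
      rw [h1] at this
      exact this (hzkC k)
    · have h1 := conj_pow_cancel hlt.le h
      have h2 : u ^ (i - j) ∉ normalizer ((P : Subgroup G) : Set G) :=
        qd.pow_not_mem (Nat.sub_pos_of_lt hlt) (lt_of_le_of_lt (Nat.sub_le _ _) hip)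
      have := qd.conj_not_mem_C c d hd h2 (hzkC k) (qd.zpow_ne_one hk0 hkq)
      rw [h1] at this
      exact this (hzkC l)
  refine ⟨hij, ?_⟩
  subst hij
  have h1 : z ^ k = z ^ l := by
    have := conj_pow_cancel (le_refl i) h
    rw [Nat.sub_self, pow_zero, one_mul, inv_one, mul_one] at this
    exact this
  apply pow_injOn_Iio_orderOf (x := z)
  · rw [Set.mem_Iio, qd.hzo]; exact hkq
  · rw [Set.mem_Iio, qd.hzo]; exact hlq
  · exact h1

theorem conj_mem_Om (i k : ℕ) : u ^ i * z ^ k * (u ^ i)⁻¹ ∈ qd.Om := by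
  refine ⟨(Subgroup.mem_normalizer_iff.mp (qd.pow_mem_normalizer_Q i) _).mp
    (Subgroup.pow_mem _ qd.hzQ k), ?_⟩
  rw [conj_pow, ← pow_mul, mul_comm, pow_mul, ← qd.hzo, pow_orderOf_eq_one, one_pow, mul_one,
    mul_inv_cancel]

/-- enumeration of `1` and the elements `u^i z^(k+1) u^-i` of `Ω`. -/
def enumOm : Option (Fin p × Fin (q - 1)) → ↥qd.Om := fun o =>
  match o with
  | none => 1
  | some (i, k) => ⟨u ^ (i : ℕ) * z ^ ((k : ℕ) + 1) * (u ^ (i : ℕ))⁻¹, qd.conj_mem_Om _ _⟩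

theorem enumOm_injective (c : Ctx p G P) {y : G} (d : YData P y) (hd : HData P H) :
    Function.Injective qd.enumOm := by
  have hk : ∀ k : Fin (q - 1), (k : ℕ) + 1 < q := fun k => by have := k.2; omega
  have hne : ∀ (i : Fin p) (k : Fin (q - 1)),
      u ^ (i : ℕ) * z ^ ((k : ℕ) + 1) * (u ^ (i : ℕ))⁻¹ ≠ 1 := by
    intro i k h
    apply qd.zpow_ne_one (Nat.succ_pos k) (hk k)
    calc z ^ ((k : ℕ) + 1)
        = (u ^ (i : ℕ))⁻¹ * (u ^ (i : ℕ) * z ^ ((k : ℕ) + 1) * (u ^ (i : ℕ))⁻¹) * u ^ (i : ℕ) := by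
          group
      _ = 1 := by rw [h]; group
  intro a b hab
  match a, b with
  | none, none => rfl
  | none, some (i, k) =>
    exfalso
    have : (1 : G) = u ^ (i : ℕ) * z ^ ((k : ℕ) + 1) * (u ^ (i : ℕ))⁻¹ :=
      congrArg Subtype.val hab
    exact hne i k this.symm
  | some (i, k), none =>
    exfalso
    have : u ^ (i : ℕ) * z ^ ((k : ℕ) + 1) * (u ^ (i : ℕ))⁻¹ = (1 : G) :=
      congrArg Subtype.val hab
    exact hne i k this
  | some (i, k), some (j, l) =>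
    have h1 : u ^ (i : ℕ) * z ^ ((k : ℕ) + 1) * (u ^ (i : ℕ))⁻¹ =
        u ^ (j : ℕ) * z ^ ((l : ℕ) + 1) * (u ^ (j : ℕ))⁻¹ := congrArg Subtype.val hab
    obtain ⟨h2, h3⟩ := qd.key_inj c d hd i.2 j.2 (Nat.succ_pos k) (hk k) (Nat.succ_pos l) (hk l) h1
    have h4 : i = j := Fin.ext h2
    have h5 : k = l := Fin.ext (by omega)
    rw [h4, h5]

theorem card_enum : Nat.card (Option (Fin p × Fin (q - 1))) = p * (q - 1) + 1 := by
  rw [Finite.card_option, Nat.card_prod, Nat.card_eq_fintype_card, Nat.card_eq_fintype_card,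
    Fintype.card_fin, Fintype.card_fin]

theorem card_Om_ge (c : Ctx p G P) {y : G} (d : YData P y) (hd : HData P H) :
    p * (q - 1) + 1 ≤ Nat.card qd.Om := by
  have h6 := Nat.card_le_card_of_injective _ (qd.enumOm_injective c d hd)
  rwa [qd.card_enum] at h6

/-- when `|Ω| = p (q-1) + 1`, every nontrivial element of `Ω` is conjugate to a power of `z`. -/
theorem Om_elems (c : Ctx p G P) {y : G} (d : YData P y) (hd : HData P H)
    (hcard : Nat.card qd.Om ≤ p * (q - 1) + 1) {w : G} (hw : w ∈ qd.Om) (hw1 : w ≠ 1) :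
    ∃ (i k : ℕ), w = u ^ i * z ^ k * (u ^ i)⁻¹ := by
  have hbij := (qd.enumOm_injective c d hd).bijective_of_nat_card_le
    (by rw [qd.card_enum]; exact hcard)
  obtain ⟨o, ho⟩ := hbij.2 ⟨w, hw⟩
  match o, ho with
  | none, ho =>
    exfalso
    have : (1 : G) = w := congrArg Subtype.val ho
    exact hw1 this.symm
  | some (i, k), ho =>
    exact ⟨i, k + 1, (congrArg Subtype.val ho).symm⟩

/-- **the key arithmetic consequence**: `p = q + 1`. -/
theorem p_eq (c : Ctx p G P) {y : G} (d : YData P y) (hd : HData P H) : p = q + 1 := by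
  have h1 := qd.card_Om_ge c d hd
  have h2 := qd.card_Om_le c
  rw [qd.card_AA c d hd] at h2
  have h3 : q ∣ p - 1 := (qd.q_dvd_autP c d hd).trans c.autP_facts.2
  have hp1 : 0 < p - 1 := Nat.sub_pos_of_lt hp.out.one_lt
  have h4 : q ≤ p - 1 := Nat.le_of_dvd hp1 h3
  have hq2 : 2 ≤ q := hq.out.two_le
  have h5 : p * (q - 1) + 1 ≤ q * q := h1.trans h2
  by_contra hne
  have h6 : q + 2 ≤ p := by omega
  have h7 : (q + 2) * (q - 1) ≤ p * (q - 1) := Nat.mul_le_mul_right _ h6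
  obtain ⟨r, rfl⟩ : ∃ r, q = r + 2 := ⟨q - 2, by omega⟩
  have h8 : (r + 2 + 2) * (r + 2 - 1) = (r + 4) * (r + 1) := by
    congr 1
  rw [h8] at h7
  nlinarith

end QData

end Cfsg.Agent.Lib.Helper2.CycSyl
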