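/-
helper2: cyclic Sylow p-subgroup with abelian p'-subgroups (S4016), part H: the endgame
`p = 3`, `q = 2` (via S4018) and the final contradiction.
-/
import Cfsg.Agent.Lib.Helper2.CycSylG
import Cfsg.Agent.S4018
import Cfsg.Agent.Lib.Helper9.FittingHall

set_option autoImplicit false

namespace Cfsg.Agent.Lib.Helper2.CycSyl

open Subgroup
open Cfsg.Agent.Lib.Helper8 (IsSylIn)

theorem eq_two_of_prime_succ {q : ℕ} (hq : q.Prime) (hq1 : (q + 1).Prime) : q = 2 := by
  rcases hq.eq_two_or_odd' with h | h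
  · exact h
  · exfalso
    rcases hq1.eq_two_or_odd' with h2 | h2
    · have : q = 1 := by omega
      exact hq.ne_one this
    · rcases h with ⟨a, ha⟩
      rcases h2 with ⟨b, hb⟩
      omega

section Endgame

variable {G : Type*} [Group G] [Finite G] {P : Sylow 3 G} {H : Subgroup G} {Q : Sylow 2 G}
  {y z u : G}

/-- all the data of the endgame. -/
structure EData (P : Sylow 3 G) (H : Subgroup G) (Q : Sylow 2 G) (y z u : G) : Prop where
  c : Ctx 3 G P
  d : YData P y
  hd : HData P H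
  qd : QData P H 2 Q z u
  hK2 : ∀ r : ℕ, r.Prime → r ∣ Nat.card (KK P H) → r = 2

namespace EData

variable (e : EData P H Q y z u)
include e

theorem card_autP : Nat.card (autP P) = 2 := by
  have h1 : Nat.card (autP P) ∣ 2 := e.c.autP_facts.2
  have h2 := e.d.autP_ne_one
  rcases (Nat.dvd_prime Nat.prime_two).mp h1 with h | h
  · exact absurd h h2
  · exact h

theorem K_isPGroup : IsPGroup 2 (KK P H) := by
  have h := Nat.eq_prime_pow_of_unique_prime_dvd (n := Nat.card (KK P H)) (p := 2)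
    Nat.card_pos.ne' (fun {r} hr hrd => e.hK2 r hr hrd)
  exact IsPGroup.of_card h

theorem K_le_Q : KK P H ≤ (Q : Subgroup G) := by
  have h1 : (Q : Subgroup G) ≤ normalizer ((KK P H : Subgroup G) : Set G) := by
    intro g hg
    apply Helper1.mem_normalizer_of_forall_conj_mem
    intro k hk
    have := e.hd.N_cent_K e.c (e.qd.hQN hg) hk
    rw [this, mul_assoc, mul_inv_cancel, mul_one]
    exact hk
  have h2 : IsPGroup 2 ((Q : Subgroup G) ⊔ KK P H : Subgroup G) :=
    IsPGroup.to_sup_of_normal_right' Q.2 e.K_isPGroup h1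
  have h3 := Q.is_maximal' h2 le_sup_left
  rw [← h3]
  exact le_sup_right

theorem conj_mem_N {k : G} (hk : k ∈ KK P H) :
    u * k * u⁻¹ ∈ normalizer ((P : Subgroup G) : Set G) :=
  e.qd.hQN ((Subgroup.mem_normalizer_iff.mp e.qd.huQ k).mp (e.K_le_Q hk))

theorem card_K : Nat.card (KK P H) = 2 := by
  have : Finite (autP P) := Nat.finite_of_card_ne_zero (by rw [e.card_autP]; norm_num)
  let f : ↥(KK P H) → ↥(autP P) := fun k =>
    ⟨(P : Subgroup G).normalizerMonoidHom ⟨u * k * u⁻¹, e.conj_mem_N k.2⟩, ⟨_, rfl⟩⟩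
  have hf : Function.Injective f := by
    intro k₁ k₂ h
    have h1 : (P : Subgroup G).normalizerMonoidHom ⟨u * k₁ * u⁻¹, e.conj_mem_N k₁.2⟩ =
        (P : Subgroup G).normalizerMonoidHom ⟨u * k₂ * u⁻¹, e.conj_mem_N k₂.2⟩ :=
      congrArg Subtype.val h
    rw [MonoidHom.eq_iff, Subgroup.normalizerMonoidHom_ker, Subgroup.mem_subgroupOf] at h1
    have h2 : u * ((k₂ : G)⁻¹ * k₁) * u⁻¹ ∈ centralizer ((P : Subgroup G) : Set G) := by
      have h3 : u * ((k₂ : G)⁻¹ * k₁) * u⁻¹ = (u * k₂ * u⁻¹)⁻¹ * (u * k₁ * u⁻¹) := by group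
      rw [h3]
      exact h1
    by_contra hne
    have h3 : (k₂ : G)⁻¹ * k₁ ≠ 1 := by
      intro h4
      apply hne
      apply Subtype.ext
      have : (k₁ : G) = k₂ * ((k₂ : G)⁻¹ * k₁) := by group
      rw [this, h4, mul_one]
    have h4 : (k₂ : G)⁻¹ * k₁ ∈ centralizer ((P : Subgroup G) : Set G) :=
      Subgroup.mul_mem _ (Subgroup.inv_mem _ k₂.2.2) k₁.2.2
    exact e.qd.conj_not_mem_C e.c e.d e.hd e.qd.huN h4 h3 h2
  have h1 := Nat.card_le_card_of_injective f hf
  rw [e.card_autP] at h1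
  have h2 : 2 ∣ Nat.card (KK P H) := by
    have := orderOf_dvd_natCard (⟨z, e.qd.hzK⟩ : KK P H)
    rwa [Subgroup.orderOf_mk, e.qd.hzo] at this
  have := Nat.le_of_dvd Nat.card_pos h2
  omega

theorem card_C :
    Nat.card (centralizer ((P : Subgroup G) : Set G)) = 2 * Nat.card (P : Subgroup G) := by
  have h := Helper8.card_mul_card_inf_of_forall_mul (centralizer ((P : Subgroup G) : Set G))
    (KK P H) (P : Subgroup G) inf_le_right e.c.le_centralizer (fun t ht => e.hd.C_dec e.c ht)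
  have h2 : KK P H ⊓ (P : Subgroup G) = ⊥ := by
    rw [eq_bot_iff]
    intro x hx
    rw [mem_bot]
    exact eq_one_of_mem_of_mem P.2 e.hd.K_not_dvd hx.2 hx.1
  rw [h2, Subgroup.card_bot, mul_one, e.card_K] at h
  exact h

theorem card_N :
    Nat.card (normalizer ((P : Subgroup G) : Set G)) = 4 * Nat.card (P : Subgroup G) := by
  rw [card_N_eq, e.card_C, e.card_autP]
  ring

theorem ti : Cfsg.IsTISubset ((centralizer ((P : Subgroup G) : Set G) : Subgroup G) : Set G) := by
  intro g hg x hx hgx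
  by_contra hx1
  apply hg
  have hgN := e.c.ti e.d e.hd hx hx1 hgx
  apply Helper1.mem_normalizer_of_forall_conj_mem
  intro w hw
  rw [mem_centralizer_iff] at hw ⊢
  intro v hv
  have h1 : g⁻¹ * v * g ∈ (P : Subgroup G) := by
    have := (Subgroup.mem_normalizer_iff.mp (inv_mem hgN) v).mp hv
    simpa using this
  have h2 := hw _ h1
  calc v * (g * w * g⁻¹) = g * ((g⁻¹ * v * g) * w) * g⁻¹ := by group
    _ = g * (w * (g⁻¹ * v * g)) * g⁻¹ := by rw [h2]
    _ = g * w * g⁻¹ * v := by group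

theorem invol_conj {t : G} (ht : orderOf t = 2) : ∃ g : G, t = g * z * g⁻¹ := by
  have h1 : IsPGroup 2 (zpowers t) := isPGroup_zpowers_of_orderOf (p := 2) (k := 1) (by rw [ht]; rfl)
  obtain ⟨Q', hQ'⟩ := h1.exists_le_sylow
  obtain ⟨g₀, hg₀⟩ := MulAction.exists_smul_eq G Q Q'
  have h2 : t ∈ ((g₀ • Q : Sylow 2 G) : Subgroup G) := by
    rw [hg₀]
    exact hQ' (mem_zpowers t)
  rw [Helper1.mem_sylow_smul_iff] at h2
  have h3 : (g₀⁻¹ * t * g₀) ^ 2 = 1 := by
    have h0 : t ^ 2 = 1 := by rw [← ht, pow_orderOf_eq_one]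
    calc (g₀⁻¹ * t * g₀) ^ 2 = g₀⁻¹ * t ^ 2 * g₀ := by rw [pow_two, pow_two]; group
      _ = 1 := by rw [h0]; group
  have h4 : g₀⁻¹ * t * g₀ ≠ 1 := by
    intro h
    have h0 : t = 1 := by
      calc t = g₀ * (g₀⁻¹ * t * g₀) * g₀⁻¹ := by group
        _ = 1 := by rw [h]; group
    rw [h0, orderOf_one] at ht
    omega
  have h5 : g₀⁻¹ * t * g₀ ∈ e.qd.Om := ⟨h2, h3⟩
  have hcard : Nat.card e.qd.Om ≤ 3 * (2 - 1) + 1 := by
    have := e.qd.card_Om_le e.c
    rw [e.qd.card_AA e.c e.d e.hd] at this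
    omega
  obtain ⟨i, k, hik⟩ := e.qd.Om_elems e.c e.d e.hd hcard h5 h4
  have hz2 : z ^ 2 = 1 := by
    have := pow_orderOf_eq_one z
    rwa [e.qd.hzo] at this
  have hzk : z ^ k = z := by
    rcases Nat.even_or_odd' k with ⟨m, rfl | rfl⟩
    · exfalso
      apply h4
      rw [hik, pow_mul, hz2, one_pow, mul_one, mul_inv_cancel]
    · rw [pow_succ, pow_mul, hz2, one_pow, one_mul]
  refine ⟨g₀ * u ^ i, ?_⟩
  rw [hzk] at hik
  calc t = g₀ * (g₀⁻¹ * t * g₀) * g₀⁻¹ := by group
    _ = g₀ * (u ^ i * z * (u ^ i)⁻¹) * g₀⁻¹ := by rw [hik]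
    _ = g₀ * u ^ i * z * (g₀ * u ^ i)⁻¹ := by group

theorem pprime_dvd_four (K₀ : Subgroup G) (h3 : ¬ 3 ∣ Nat.card K₀) (h2 : 2 ∣ Nat.card K₀) :
    Nat.card K₀ ∣ 4 := by
  have hcomm := e.c.hab K₀ h3
  obtain ⟨t, ht⟩ := exists_prime_orderOf_dvd_card' (G := ↥K₀) 2 h2
  have ht' : orderOf (t : G) = 2 := by
    rw [Subgroup.orderOf_coe]
    exact ht
  obtain ⟨g, hg⟩ := e.invol_conj ht'
  have hz1 := e.qd.z_ne_one
  have hle : K₀.map (MulAut.conj g⁻¹).toMonoidHom ≤ normalizer ((P : Subgroup G) : Set G) := by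
    rintro _ ⟨k, hk, rfl⟩
    rw [← e.c.cent_eq_N e.d e.hd e.qd.hzK hz1, mem_centralizer_iff]
    intro w hw
    rw [Set.mem_singleton_iff] at hw
    rw [hw]
    have hkt : (k : G) * t = t * k := by
      have := hcomm.is_comm.comm (⟨k, hk⟩ : K₀) t
      exact congrArg Subtype.val this
    simp only [MulEquiv.coe_toMonoidHom, MulAut.conj_apply, inv_inv]
    have hz : z = g⁻¹ * t * g := by
      rw [hg]
      group
    rw [hz]
    calc g⁻¹ * t * g * (g⁻¹ * k * g) = g⁻¹ * (t * k) * g := by group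
      _ = g⁻¹ * (k * t) * g := by rw [hkt]
      _ = g⁻¹ * k * g * (g⁻¹ * t * g) := by group
  have h4 := Subgroup.card_dvd_of_le hle
  rw [Subgroup.card_map_of_injective (MulAut.conj g⁻¹).injective, e.card_N] at h4
  obtain ⟨n, hn⟩ := IsPGroup.iff_card.mp P.2
  rw [hn] at h4
  have hcop : Nat.Coprime (Nat.card K₀) (3 ^ n) :=
    Nat.Coprime.pow_right n
      ((Nat.coprime_comm).mp ((Nat.Prime.coprime_iff_not_dvd Nat.prime_three).mpr h3))
  exact hcop.dvd_of_dvd_mul_right h4

omit e in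
theorem card_pgroup_dvd (P : Sylow 3 G) (R : Subgroup G) (hR : IsPGroup 3 R) :
    Nat.card R ∣ Nat.card (P : Subgroup G) := by
  obtain ⟨P', hP'⟩ := hR.exists_le_sylow
  have := Subgroup.card_dvd_of_le hP'
  rwa [P'.card_eq_multiplicity, ← P.card_eq_multiplicity] at this

theorem heven (L : Subgroup G) (hL : L ≠ ⊤) (h2 : 2 ∣ Nat.card L) :
    Nat.card L ∣ 4 * Nat.card (P : Subgroup G) := by
  obtain ⟨R₀⟩ : Nonempty (Sylow 3 ↥L) := inferInstance
  have hR := Helper8.sylow_map_subtype_isSylIn R₀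
  have hRp : IsPGroup 3 ((R₀ : Subgroup ↥L).map L.subtype) := hR.isPGroup
  have hRP := card_pgroup_dvd P _ hRp
  have haux : ∀ m : ℕ, Nat.card L = Nat.card ((R₀ : Subgroup ↥L).map L.subtype) * m →
      ¬ 3 ∣ m := by
    intro m hm h3
    have h1 : 3 ^ ((Nat.card L).factorization 3 + 1) ∣ Nat.card L := by
      calc 3 ^ ((Nat.card L).factorization 3 + 1)
          = Nat.card ((R₀ : Subgroup ↥L).map L.subtype) * 3 := by rw [pow_succ, hR.2]
        _ ∣ Nat.card ((R₀ : Subgroup ↥L).map L.subtype) * m := Nat.mul_dvd_mul_left _ h3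
        _ = Nat.card L := hm.symm
    exact Nat.pow_succ_factorization_not_dvd Nat.card_pos.ne' Nat.prime_three h1
  have key : ∃ K₀ : Subgroup G, ¬ 3 ∣ Nat.card K₀ ∧
      Nat.card L = Nat.card K₀ * Nat.card ((R₀ : Subgroup ↥L).map L.subtype) := by
    rcases e.c.ih_int hL hR with ⟨K₀, hK₀L, hLn, hK₀, hdec⟩ | hn
    · refine ⟨K₀, hK₀, ?_⟩
      have h := Helper8.card_mul_card_inf_of_forall_mul L K₀ _ hK₀L hR.1 hdec
      have hbot : K₀ ⊓ (R₀ : Subgroup ↥L).map L.subtype = ⊥ := by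
        rw [eq_bot_iff]
        intro x hx
        rw [mem_bot]
        exact eq_one_of_mem_of_mem hRp hK₀ hx.2 hx.1
      rw [hbot, Subgroup.card_bot, mul_one] at h
      exact h
    · have hidx := Helper9.card_eq_card_mul_relIndex hR.1
      have hcop : Nat.Coprime (Nat.card ((R₀ : Subgroup ↥L).map L.subtype))
          (((R₀ : Subgroup ↥L).map L.subtype).relIndex L) := by
        rw [hR.2]
        exact Nat.Coprime.pow_left _
          ((Nat.Prime.coprime_iff_not_dvd Nat.prime_three).mpr (haux _ hidx))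
      obtain ⟨K₀, hK₀⟩ := Helper1.internal_sz_exists hR.1 hn hcop
      have hc := hK₀.card_mul_card
      exact ⟨K₀, haux _ hc.symm, by rw [← hc, mul_comm]⟩
  obtain ⟨K₀, hK₀, hcard⟩ := key
  have h2' : 2 ∣ Nat.card K₀ := by
    rw [hcard] at h2
    obtain ⟨n, hn⟩ := IsPGroup.iff_card.mp hRp
    rw [hn] at h2
    have : Nat.Coprime 2 (3 ^ n) := Nat.Coprime.pow_right n (by norm_num)
    exact this.dvd_of_dvd_mul_right h2
  rw [hcard]
  exact Nat.mul_dvd_mul (e.pprime_dvd_four K₀ hK₀ h2') hRP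

theorem false : False := by
  have := e.c.hcyc
  have hab : IsMulCommutative ↥(P : Subgroup G) := inferInstance
  exact Cfsg.Agent.S4018.result P hab e.card_N e.card_C e.ti e.heven (e.c.isSimpleGroup e.d)

end EData

end Endgame

section Final

variable {G : Type*} [Group G] [Finite G] {p : ℕ} [hp : Fact p.Prime] {P : Sylow p G}

theorem Ctx.false_of_K_ne_bot (c : Ctx p G P) {y : G} (d : YData P y) {H : Subgroup G}
    (hd : HData P H) (hK : KK P H ≠ ⊥) : False := by
  have hcard : Nat.card (KK P H) ≠ 1 := fun h => hK (Subgroup.card_eq_one.mp h)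
  obtain ⟨q, hq, hqK⟩ := Nat.exists_prime_and_dvd hcard
  have : Fact q.Prime := ⟨hq⟩
  obtain ⟨Q, z, u, qd⟩ := c.exists_QData d hd hqK
  have hpq := qd.p_eq c d hd
  have hq2 : q = 2 := eq_two_of_prime_succ hq (hpq ▸ hp.out)
  have hK2 : ∀ r : ℕ, r.Prime → r ∣ Nat.card (KK P H) → r = 2 := by
    intro r hr hrK
    have : Fact r.Prime := ⟨hr⟩
    obtain ⟨Q', z', u', qd'⟩ := c.exists_QData d hd hrK
    have := qd'.p_eq c d hd
    omega
  subst hq2
  have hp3 : p = 3 := hpq
  subst hp3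
  exact EData.false ⟨c, d, hd, qd, hK2⟩

theorem Ctx.false (c : Ctx p G P) : False := by
  obtain ⟨y, hyN, hyo, hyC⟩ := c.exists_y
  have d : YData P y := ⟨hyN, hyo, hyC⟩
  obtain ⟨H, hH⟩ := exists_H P
  have hd : HData P H := ⟨hH⟩
  by_cases hK : KK P H = ⊥
  · exact c.false_of_K_bot d hd hK
  · exact c.false_of_K_ne_bot d hd hK

end Final

universe u

/-- The theorem: cyclic Sylow `p`-subgroups and abelian `p'`-subgroups give a normal
`p`-complement or a normal Sylow `p`-subgroup. -/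
theorem main_aux (p : ℕ) [hp : Fact p.Prime] : ∀ n : ℕ, ∀ (G : Type u) [Group G] [Finite G],
    Nat.card G = n → (∀ P : Sylow p G, IsCyclic (P : Subgroup G)) →
    (∀ H : Subgroup G, ¬ p ∣ Nat.card H → IsMulCommutative H) →
    (Cfsg.HasNormalPComplement p G ∨ ∀ P : Sylow p G, (P : Subgroup G).Normal) := by
  intro n
  induction n using Nat.strong_induction_on with
  | _ n IH =>
    intro G _ _ hn hcyc hab
    by_contra hcon
    rw [not_or] at hcon
    obtain ⟨hnc, hnn'⟩ := hcon
    rw [not_forall] at hnn'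
    obtain ⟨P, hnn⟩ := hnn'
    have c : Ctx p G P :=
      { hcyc := hcyc P
        hab := hab
        ih := by
          intro T hT
          apply IH (Nat.card T) (by rw [← hn]; exact Helper1.card_lt_of_ne_top hT) ↥T rfl
          · intro R
            have hRp : IsPGroup p ((R : Subgroup ↥T).map T.subtype) := R.2.map _
            obtain ⟨P', hP'⟩ := hRp.exists_le_sylow
            have := hcyc P'
            let f : ↥(R : Subgroup ↥T) →* ↥(P' : Subgroup G) :=
              { toFun := fun x => ⟨x.1.1, hP' ⟨x.1, x.2, rfl⟩⟩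
                map_one' := rfl
                map_mul' := fun _ _ => rfl }
            apply isCyclic_of_injective f
            intro a b hab'
            apply Subtype.ext
            apply Subtype.ext
            have h9 : ((f a : ↥(P' : Subgroup G)) : G) = (f b : ↥(P' : Subgroup G)) :=
              congrArg Subtype.val hab'
            exact h9
          · intro H' hH'
            have h1 : ¬ p ∣ Nat.card (H'.map T.subtype) := by
              rw [Subgroup.card_subtype]
              exact hH'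
            have h2 := hab _ h1
            refine ⟨⟨fun a b => ?_⟩⟩
            have h3 := h2.is_comm.comm ⟨a.1.1, ⟨a.1, a.2, rfl⟩⟩ ⟨b.1.1, ⟨b.1, b.2, rfl⟩⟩
            apply Subtype.ext
            apply Subtype.ext
            have h9 := congrArg Subtype.val h3
            exact h9
        hnc := hnc
        hnn := hnn }
    exact c.false

theorem main {G : Type u} [Group G] [Finite G] {p : ℕ} [Fact p.Prime] (P : Sylow p G)
    (hcyc : IsCyclic (P : Subgroup G))
    (hab : ∀ H : Subgroup G, ¬ p ∣ Nat.card H → IsMulCommutative H) :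
    Cfsg.HasNormalPComplement p G ∨ (P : Subgroup G).Normal := by
  have h := main_aux p (Nat.card G) G rfl (fun P' => ?_) hab
  · rcases h with h | h
    · exact Or.inl h
    · exact Or.inr (h P)
  · obtain ⟨g, hg⟩ := MulAction.exists_smul_eq G P P'
    rw [← hg]
    exact isCyclic_of_surjective (Sylow.equivSMul P g) (Sylow.equivSMul P g).surjective

end Cfsg.Agent.Lib.Helper2.CycSyl
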