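import Mathlib
import Cfsg.Agent.Lib.Helper1.PRDefs
import Cfsg.Agent.Lib.Helper10.DWDefs
import Cfsg.Agent.Lib.Helper2.DWRANK3Of2
import Cfsg.Agent.Lib.Helper7.DHBMain

/-! S3616 market "DW" (planner helper10): the closed spine leaf **DW-RANK3**, hypotheses-free: my
`DWRANK3_of_core` (over CL0 / CLK / CNT mine, PAIR / BLKF helper5's) fed with helper7's `DHcoreT`
(market DHB). -/

set_option autoImplicit false
set_option linter.unusedVariables false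

namespace Cfsg.Agent.Lib.Helper2.DWRANK3

open MulAction Cfsg.Agent.Lib.Helper10.DWDefs
open scoped Pointwise

/-- **DW-RANK3** (spine of part W: from DHcoreT, CL0, CLK, PAIR, CNT, BLKF). -/
theorem DWRANK3 {G Γ : Type*} [Group G] [MulAction G Γ] [Finite Γ]
    (hprim : IsPreprimitive G Γ) {n : ℕ} (hn : Odd n)
    (D : Subgroup G) (φ : ↥D ≃* DihedralGroup n)
    (c : Γ) (hreg : ∀ γ : Γ, ∃! d : ↥D, (d : G) • c = γ)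
    (O₁ O₂ : Set Γ) (h₁ : O₁.Nonempty) (h₂ : O₂.Nonempty) (hc₁ : c ∉ O₁) (hc₂ : c ∉ O₂)
    (hdisj : ∀ γ ∈ O₁, γ ∉ O₂) (hcov : ∀ γ : Γ, γ ≠ c → γ ∈ O₁ ∨ γ ∈ O₂)
    (horb₁ : ∀ γ ∈ O₁, ∀ γ' ∈ O₁, ∃ g : G, g • c = c ∧ g • γ = γ')
    (horb₂ : ∀ γ ∈ O₂, ∀ γ' ∈ O₂, ∃ g : G, g • c = c ∧ g • γ = γ')
    (hinv₁ : ∀ g : G, g • c = c → ∀ γ ∈ O₁, g • γ ∈ O₁) : False :=
  Cfsg.Agent.Lib.Helper2.DWRANK3Of2.DWRANK3_of_core hprim hn D φ c hreg O₁ O₂ h₁ h₂ hc₁ hc₂ hdisj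
    hcov horb₁ horb₂ hinv₁
    (fun T h1 hinv k l m hE hT' =>
      Cfsg.Agent.Lib.Helper7.DHBMain.DHcoreT hn T h1 hinv k l m hE hT')

end Cfsg.Agent.Lib.Helper2.DWRANK3
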