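import Mathlib
import Cfsg.Prelude.Def_Characters
import Cfsg.Agent.Lib.Helper2.BrauerInd
import Cfsg.Agent.Lib.Helper2.PowerProj

/-!
Isaacs, Lemma (8.24): for `N` normal of `p`-power index in `G` and `ϑ` a `G`-invariant irreducible
character of `N`, there is a `p`-elementary `E` with `EN = G` and an `E`-invariant irreducible
constituent of `ϑ` restricted to `E ⊓ N` of multiplicity prime to `p`.
-/

set_option autoImplicit false
open scoped ComplexConjugate
namespace Cfsg.Agent.Lib.Helper2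
open Cfsg Module Cfsg.Agent.CharLib Cfsg.Agent.Lib.Helper6
universe u


section fixedpt

/-- weighted fixed point congruence: if the total weight is prime to `p`, some fixed point has
weight prime to `p` -/
theorem exists_fixed_of_not_dvd_sum {p : ℕ} [Fact p.Prime] {P : Type*} [Group P] (hP : IsPGroup p P)
    {X : Type*} [Fintype X] [MulAction P X] (w : X → ℕ) (hw : ∀ (u : P) (x : X), w (u • x) = w x)
    (hsum : ¬ p ∣ ∑ x : X, w x) : ∃ x : X, (∀ u : P, u • x = x) ∧ ¬ p ∣ w x := by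
  classical
  by_contra hcon
  push Not at hcon
  apply hsum
  have h1 := Finset.sum_comp (s := (Finset.univ : Finset X)) (fun v : ℕ => v) w
  rw [h1]
  apply Finset.dvd_sum
  intro v _
  by_cases hv : p ∣ v
  · exact Dvd.dvd.mul_left hv _
  · -- the level set is a P-set without fixed points
    let S : SubMulAction P X :=
      { carrier := {x | w x = v}
        smul_mem' := fun u x hx => by
          show w (u • x) = v
          rw [hw]; exact hx }
    have hmod := hP.card_modEq_card_fixedPoints S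
    have hfix : IsEmpty (MulAction.fixedPoints P S) := by
      constructor
      rintro ⟨⟨x, hx⟩, hfx⟩
      have hx' : w x = v := hx
      have h2 : ∀ u : P, u • x = x := by
        intro u
        have := hfx u
        exact congrArg Subtype.val this
      exact hv (hx' ▸ hcon x h2)
    have h0 : Nat.card (MulAction.fixedPoints P S) = 0 := Nat.card_eq_zero.mpr (Or.inl hfix)
    rw [h0] at hmod
    have h3 : p ∣ Nat.card S := (Nat.modEq_zero_iff_dvd).mp hmod
    have h4 : Nat.card S = (Finset.univ.filter (fun x => w x = v)).card := by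
      rw [← Fintype.card_subtype, ← Nat.card_eq_fintype_card]
      rfl
    rw [h4] at h3
    rw [smul_eq_mul]
    exact Dvd.dvd.mul_right h3 _

end fixedpt



section part1
variable {G : Type u} [Group G] [Fintype G]

/-- summing an induced function against an invariant weight on a normal subgroup -/
theorem sum_indFun_mul_invariant (N : Subgroup G) [hN : N.Normal] [Fintype N] (E : Subgroup G)
    [Fintype ↥(E ⊓ N)] (lam : E → ℂ) (W : N → ℂ)
    (hW : ∀ (g : G) (n : N), W ⟨g * n * g⁻¹, hN.conj_mem (n : G) n.2 g⟩ = W n) :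
    ∑ n : N, indFun E lam (n : G) * W n =
      (Nat.card E : ℂ)⁻¹ * ((Nat.card G : ℂ) *
        ∑ d : ↥(E ⊓ N), lam ⟨d, (Subgroup.mem_inf.mp d.2).1⟩ * W ⟨d, (Subgroup.mem_inf.mp d.2).2⟩) := by
  classical
  have hFE : Fintype E := Fintype.ofFinite E
  have h0 : ∀ n : N, indFun E lam (n : G) * W n =
      (Nat.card E : ℂ)⁻¹ * ∑ x : G, extendByZero E lam (x⁻¹ * (n : G) * x) * W n := by
    intro n
    unfold indFun
    rw [mul_assoc, Finset.sum_mul]
  rw [Finset.sum_congr rfl (fun n _ => h0 n), ← Finset.mul_sum, Finset.sum_comm]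
  congr 1
  -- for each x the inner sum is the same
  have hx : ∀ x : G, ∑ n : N, extendByZero E lam (x⁻¹ * (n : G) * x) * W n =
      ∑ d : ↥(E ⊓ N), lam ⟨d, (Subgroup.mem_inf.mp d.2).1⟩ * W ⟨d, (Subgroup.mem_inf.mp d.2).2⟩ := by
    intro x
    -- reindex by conjugation
    have h1 : ∑ n : N, extendByZero E lam (x⁻¹ * (n : G) * x) * W n =
        ∑ n : N, extendByZero E lam (n : G) * W n := by
      apply Fintype.sum_equiv (MulAut.conjNormal x⁻¹ : N ≃* N).toEquiv
      intro n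
      have h2 : (((MulAut.conjNormal x⁻¹ : N ≃* N) n : N) : G) = x⁻¹ * (n : G) * x := by
        rw [MulAut.conjNormal_apply, inv_inv]
      show extendByZero E lam (x⁻¹ * (n : G) * x) * W n =
        extendByZero E lam (((MulAut.conjNormal x⁻¹ : N ≃* N) n : N) : G) *
          W ((MulAut.conjNormal x⁻¹ : N ≃* N) n)
      rw [h2]
      congr 1
      have h3 := hW x⁻¹ n
      rw [← h3]
      congr 1
    rw [h1]
    have h4 : ∑ n : N, extendByZero E lam (n : G) * W n =
        ∑ y : G, extendByZero N W y * extendByZero E lam y := by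
      rw [sum_extendByZero_mul N W (extendByZero E lam)]
      apply Finset.sum_congr rfl
      intro n _
      ring
    rw [h4]
    have h5 : ∀ y : G, extendByZero N W y * extendByZero E lam y =
        extendByZero (E ⊓ N) (fun d : ↥(E ⊓ N) => lam ⟨d, (Subgroup.mem_inf.mp d.2).1⟩ * W ⟨d, (Subgroup.mem_inf.mp d.2).2⟩) y * 1 := by
      intro y
      by_cases hyE : y ∈ E
      · by_cases hyN : y ∈ N
        · have h6 : y ∈ E ⊓ N := ⟨hyE, hyN⟩
          rw [extendByZero_mem N W hyN, extendByZero_mem E lam hyE,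
            extendByZero_mem (E ⊓ N) _ h6, mul_one, mul_comm]
        · have h6 : y ∉ E ⊓ N := fun h => hyN h.2
          rw [extendByZero_not_mem N W hyN, extendByZero_not_mem (E ⊓ N) _ h6]
          simp
      · have h6 : y ∉ E ⊓ N := fun h => hyE h.1
        rw [extendByZero_not_mem E lam hyE, extendByZero_not_mem (E ⊓ N) _ h6]
        simp
    rw [Finset.sum_congr rfl (fun y _ => h5 y),
      sum_extendByZero_mul (E ⊓ N) _ (fun _ => 1)]
    apply Finset.sum_congr rfl
    intro d _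
    rw [mul_one]
  rw [Finset.sum_congr rfl (fun x _ => hx x)]
  rw [Finset.sum_const, Finset.card_univ, nsmul_eq_mul, Nat.card_eq_fintype_card]

end part1



section orbit
variable {D : Type u} [Group D] [Fintype D]

/-- the action of a group of automorphisms on the irreducible characters -/
@[instance_reducible]
def irrAction {Γ : Type*} [Group Γ] (α : Γ →* MulAut D) : MulAction Γ (IrrCharacter D) where
  smul u φ := ⟨(φ : D → ℂ) ∘ (α u⁻¹), isIrrCharacter_comp_mulEquiv' (α u⁻¹) φ.2⟩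
  one_smul φ := by
    apply Subtype.ext
    funext d
    show (φ : D → ℂ) ((α (1 : Γ)⁻¹) d) = (φ : D → ℂ) d
    rw [inv_one, map_one]
    rfl
  mul_smul u v φ := by
    apply Subtype.ext
    funext d
    show (φ : D → ℂ) ((α (u * v)⁻¹) d) = (φ : D → ℂ) ((α v⁻¹) ((α u⁻¹) d))
    rw [mul_inv_rev, map_mul]
    rfl

/-- an invariant constituent of multiplicity prime to `p` -/
theorem exists_invariant_constituent {p : ℕ} [Fact p.Prime] {Γ : Type*} [Group Γ]
    (hΓ : IsPGroup p Γ) (α : Γ →* MulAut D) {θ lam : D → ℂ} (hθ : IsCharacter D θ)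
    (hlam : IsCharacter D lam) (hlam1 : lam 1 = 1)
    (hθinv : ∀ (u : Γ) (d : D), θ (α u d) = θ d) (hlaminv : ∀ (u : Γ) (d : D), lam (α u d) = lam d)
    (t : ℕ) (ht : classInner (lam * θ) θ = t) (hpt : ¬ p ∣ t) :
    ∃ (φ : D → ℂ) (c : ℕ), IsIrrCharacter D φ ∧ (∀ (u : Γ) (d : D), φ (α u d) = φ d) ∧
      classInner θ φ = c ∧ ¬ p ∣ c := by
  classical
  let _ := fintypeIrr D
  let _ : MulAction Γ (IrrCharacter D) := irrAction α
  have hsmul : ∀ (u : Γ) (φ : IrrCharacter D), ((u • φ : IrrCharacter D) : D → ℂ) =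
      (φ : D → ℂ) ∘ (α u⁻¹) := fun u φ => rfl
  obtain ⟨c, hdecomp, hc⟩ := IsCharacter.exists_decomp_sum hθ
  have hθe : ∀ u : Γ, θ ∘ (α u⁻¹) = θ := by
    intro u; funext d; exact hθinv u⁻¹ d
  have hlame : ∀ u : Γ, lam ∘ (α u⁻¹) = lam := by
    intro u; funext d; exact hlaminv u⁻¹ d
  have hcinv : ∀ (u : Γ) (φ : IrrCharacter D), c (u • φ) = c φ := by
    intro u φ
    have h1 : (c (u • φ) : ℂ) = (c φ : ℂ) := by
      rw [← hc, ← hc, hsmul]
      nth_rewrite 1 [← hθe u]
      exact classInner_comp_mulEquiv (α u⁻¹) θ (φ : D → ℂ)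
    exact_mod_cast h1
  let τ : IrrCharacter D → IrrCharacter D := fun φ => ⟨lam * (φ : D → ℂ),
    isIrrCharacter_linear_mul hlam hlam1 φ.2⟩
  have hτ : ∀ (u : Γ) (φ : IrrCharacter D), τ (u • φ) = u • τ φ := by
    intro u φ
    apply Subtype.ext
    show lam * ((u • φ : IrrCharacter D) : D → ℂ) = ((τ φ : IrrCharacter D) : D → ℂ) ∘ (α u⁻¹)
    rw [hsmul]
    funext d
    show lam d * (φ : D → ℂ) ((α u⁻¹) d) = lam ((α u⁻¹) d) * (φ : D → ℂ) ((α u⁻¹) d)
    rw [hlaminv]
  let w : IrrCharacter D → ℕ := fun φ => c φ * c (τ φ)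
  have hw : ∀ (u : Γ) (φ : IrrCharacter D), w (u • φ) = w φ := by
    intro u φ
    show c (u • φ) * c (τ (u • φ)) = c φ * c (τ φ)
    rw [hτ, hcinv, hcinv]
  -- the total weight
  have hsum : ∑ φ : IrrCharacter D, w φ = t := by
    have h1 : ((∑ φ : IrrCharacter D, w φ : ℕ) : ℂ) = (t : ℂ) := by
      rw [← ht]
      nth_rewrite 1 [hdecomp]
      rw [Finset.mul_sum, classInner_sum_left]
      push_cast
      apply Finset.sum_congr rfl
      intro φ _
      have hwφ : ((w φ : ℕ) : ℂ) = (c φ : ℂ) * (c (τ φ) : ℂ) := by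
        show ((c φ * c (τ φ) : ℕ) : ℂ) = _
        push_cast
        rfl
      rw [hwφ, mul_smul_comm, ← Nat.cast_smul_eq_nsmul ℂ, classInner_smul_left]
      congr 1
      -- [lam φ, θ] = c (τ φ)
      have h2 := hc (τ φ)
      have h3 := classInner_conj_symm θ ((τ φ : IrrCharacter D) : D → ℂ)
      rw [h2] at h3
      have h4 : classInner (lam * (φ : D → ℂ)) θ = classInner ((τ φ : IrrCharacter D) : D → ℂ) θ :=
        rfl
      rw [h4, ← h3]
      simp
    exact_mod_cast h1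
  have hnd : ¬ p ∣ ∑ φ : IrrCharacter D, w φ := by rw [hsum]; exact hpt
  obtain ⟨φ, hfix, hφ⟩ := exists_fixed_of_not_dvd_sum hΓ w hw hnd
  refine ⟨(φ : D → ℂ), c φ, φ.2, ?_, hc φ, ?_⟩
  · intro u d
    have h1 := hfix u⁻¹
    have h2 := congrArg Subtype.val h1
    rw [hsmul, inv_inv] at h2
    exact congrFun h2 d
  · intro hdvd
    exact hφ (Dvd.dvd.mul_right hdvd _)

end orbit



section conjinf
variable {G : Type u} [Group G]

/-- conjugation by elements of `E` on `E ⊓ N` -/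
def conjInf (E N : Subgroup G) [hN : N.Normal] : E →* MulAut ↥(E ⊓ N) where
  toFun g :=
    { toFun := fun x => ⟨(g : G) * x * (g : G)⁻¹,
        ⟨E.mul_mem (E.mul_mem g.2 (Subgroup.mem_inf.mp x.2).1) (E.inv_mem g.2),
          hN.conj_mem x (Subgroup.mem_inf.mp x.2).2 g⟩⟩
      invFun := fun x => ⟨(g : G)⁻¹ * x * (g : G),
        ⟨E.mul_mem (E.mul_mem (E.inv_mem g.2) (Subgroup.mem_inf.mp x.2).1) g.2, by
          have := hN.conj_mem x (Subgroup.mem_inf.mp x.2).2 (g : G)⁻¹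
          rwa [inv_inv] at this⟩⟩
      left_inv := fun x => by
        apply Subtype.ext
        show (g : G)⁻¹ * ((g : G) * x * (g : G)⁻¹) * (g : G) = x
        group
      right_inv := fun x => by
        apply Subtype.ext
        show (g : G) * ((g : G)⁻¹ * x * (g : G)) * (g : G)⁻¹ = x
        group
      map_mul' := fun x y => by
        apply Subtype.ext
        show (g : G) * ((x : G) * (y : G)) * (g : G)⁻¹ =
          ((g : G) * x * (g : G)⁻¹) * ((g : G) * y * (g : G)⁻¹)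
        group }
  map_one' := by
    apply MulEquiv.ext
    intro x
    apply Subtype.ext
    show ((1 : E) : G) * x * ((1 : E) : G)⁻¹ = x
    simp
  map_mul' g h := by
    apply MulEquiv.ext
    intro x
    apply Subtype.ext
    show ((g * h : E) : G) * x * ((g * h : E) : G)⁻¹ =
      (g : G) * ((h : G) * x * (h : G)⁻¹) * (g : G)⁻¹
    push_cast
    group

theorem conjInf_apply (E N : Subgroup G) [hN : N.Normal] (g : E) (x : ↥(E ⊓ N)) :
    ((conjInf E N g x : ↥(E ⊓ N)) : G) = (g : G) * x * (g : G)⁻¹ := rfl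

end conjinf



section main
variable {G : Type u} [Group G] [Fintype G]

/-- `|G| |E ∩ N| = |G : EN| |N| |E|` -/
theorem card_mul_card_inf_eq (N : Subgroup G) [hN : N.Normal] (E : Subgroup G) :
    Nat.card G * Nat.card ↥(E ⊓ N) = (E ⊔ N).index * (Nat.card N * Nat.card E) := by
  have h1 : N.index = N.relIndex E * (E ⊔ N).index := by
    rw [← Subgroup.relIndex_sup_right E N, Subgroup.relIndex_mul_index le_sup_right]
  have h2 : N.relIndex E = (E ⊓ N).relIndex E := by
    rw [inf_comm, Subgroup.inf_relIndex_right]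
  have h3 : (E ⊓ N).relIndex E * E.index = (E ⊓ N).index :=
    Subgroup.relIndex_mul_index inf_le_left
  have h4 := Subgroup.card_mul_index N
  have h5 := Subgroup.card_mul_index E
  have h6 := Subgroup.card_mul_index (E ⊓ N)
  have hNi : 0 < N.index := Nat.pos_of_ne_zero Subgroup.index_ne_zero_of_finite
  have hEi : 0 < E.index := Nat.pos_of_ne_zero Subgroup.index_ne_zero_of_finite
  have key : Nat.card G * Nat.card ↥(E ⊓ N) * (N.index * E.index) =
      (E ⊔ N).index * (Nat.card N * Nat.card E) * (N.index * E.index) := by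
    calc Nat.card G * Nat.card ↥(E ⊓ N) * (N.index * E.index)
        = Nat.card G * Nat.card ↥(E ⊓ N) * ((E ⊓ N).relIndex E * (E ⊔ N).index * E.index) := by
          rw [h1, h2]
      _ = Nat.card G * (Nat.card ↥(E ⊓ N) * ((E ⊓ N).relIndex E * E.index)) * (E ⊔ N).index := by
          ring
      _ = Nat.card G * Nat.card G * (E ⊔ N).index := by rw [h3, h6]
      _ = (E ⊔ N).index * ((Nat.card N * N.index) * (Nat.card E * E.index)) := by
          rw [h4, h5]; ring
      _ = (E ⊔ N).index * (Nat.card N * Nat.card E) * (N.index * E.index) := by ring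
  exact Nat.eq_of_mul_eq_mul_right (Nat.mul_pos hNi hEi) key

/-- the local statement extracted from the Brauer span -/
theorem exists_elementary_sup_eq_top (p : ℕ) [Fact p.Prime] (N : Subgroup G) [hN : N.Normal]
    (hind : ∃ k : ℕ, N.index = p ^ k) (ϑ : N → ℂ) (hϑ : IsIrrCharacter N ϑ)
    (hinv : ∀ (g : G) (n : N), ϑ ⟨g * n * g⁻¹, hN.conj_mem (n : G) n.2 g⟩ = ϑ n) :
    ∃ (E : Subgroup G) (lam : E →* ℂˣ), IsElementary p E ∧ E ⊔ N = ⊤ ∧ ∃ t : ℕ, ¬ p ∣ t ∧
      (Nat.card ↥(E ⊓ N) : ℂ)⁻¹ * ∑ᶠ d : ↥(E ⊓ N),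
        ((lam ⟨d, (Subgroup.mem_inf.mp d.2).1⟩ : ℂˣ) : ℂ) *
          (ϑ ⟨d, (Subgroup.mem_inf.mp d.2).2⟩ * conj (ϑ ⟨d, (Subgroup.mem_inf.mp d.2).2⟩)) =
        (t : ℂ) := by
  classical
  have hp : p.Prime := Fact.out
  have hFN : Fintype N := Fintype.ofFinite N
  obtain ⟨k, hk⟩ := hind
  let W : N → ℂ := fun n => ϑ n * conj (ϑ n)
  have hW : ∀ (g : G) (n : N), W ⟨g * n * g⁻¹, hN.conj_mem (n : G) n.2 g⟩ = W n := by
    intro g n
    show ϑ _ * conj (ϑ _) = ϑ n * conj (ϑ n)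
    rw [hinv]
  let Φ : (G → ℂ) → ℂ := fun f => (Nat.card N : ℂ)⁻¹ * ∑ n : N, f (n : G) * W n
  have hΦadd : ∀ f g, Φ (f + g) = Φ f + Φ g := by
    intro f g
    show (Nat.card N : ℂ)⁻¹ * ∑ n : N, (f + g) (n : G) * W n = _
    simp only [Pi.add_apply, add_mul, Finset.sum_add_distrib, mul_add]
    rfl
  have hΦneg : ∀ f, Φ (-f) = -Φ f := by
    intro f
    show (Nat.card N : ℂ)⁻¹ * ∑ n : N, (-f) (n : G) * W n = _
    simp only [Pi.neg_apply, neg_mul, Finset.sum_neg_distrib, mul_neg]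
    rfl
  have hNne : (Nat.card N : ℂ) ≠ 0 := card_ne_zero_complex
  have key : ∀ f ∈ brauerSpan p G, ∃ z : ℤ, Φ f = z ∧ (¬ (p : ℤ) ∣ z →
      ∃ (E : Subgroup G) (lam : E →* ℂˣ), IsElementary p E ∧ E ⊔ N = ⊤ ∧ ∃ t : ℕ, ¬ p ∣ t ∧
      (Nat.card ↥(E ⊓ N) : ℂ)⁻¹ * ∑ᶠ d : ↥(E ⊓ N),
        ((lam ⟨d, (Subgroup.mem_inf.mp d.2).1⟩ : ℂˣ) : ℂ) *
          (ϑ ⟨d, (Subgroup.mem_inf.mp d.2).2⟩ * conj (ϑ ⟨d, (Subgroup.mem_inf.mp d.2).2⟩)) =
        (t : ℂ)) := by
    intro f hf
    induction hf using AddSubgroup.closure_induction with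
    | mem x hx =>
      obtain ⟨E, lam, hEl, rfl⟩ := hx
      have hFD : Fintype ↥(E ⊓ N) := Fintype.ofFinite _
      have hFE : Fintype E := Fintype.ofFinite E
      -- the inner product on D
      let lamD : ↥(E ⊓ N) → ℂ := fun d => ((lam ⟨d, (Subgroup.mem_inf.mp d.2).1⟩ : ℂˣ) : ℂ)
      let ϑD : ↥(E ⊓ N) → ℂ := fun d => ϑ ⟨d, (Subgroup.mem_inf.mp d.2).2⟩
      have hlamD : IsCharacter ↥(E ⊓ N) lamD :=
        IsCharacter.comp_hom (isCharacter_of_hom lam) (Subgroup.inclusion inf_le_left)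
      have hϑD : IsCharacter ↥(E ⊓ N) ϑD :=
        IsCharacter.comp_hom (IsIrrCharacter.isCharacter hϑ) (Subgroup.inclusion inf_le_right)
      obtain ⟨t, ht⟩ := IsCharacter.classInner_nat (IsCharacter.mul hlamD hϑD) hϑD
      have hT : (Nat.card ↥(E ⊓ N) : ℂ)⁻¹ * ∑ᶠ d : ↥(E ⊓ N),
          ((lam ⟨d, (Subgroup.mem_inf.mp d.2).1⟩ : ℂˣ) : ℂ) *
          (ϑ ⟨d, (Subgroup.mem_inf.mp d.2).2⟩ * conj (ϑ ⟨d, (Subgroup.mem_inf.mp d.2).2⟩)) =
          (t : ℂ) := by
        rw [← ht, finsum_eq_sum_of_fintype]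
        unfold classInner
        congr 1
        apply Finset.sum_congr rfl
        intro d _
        show lamD d * (ϑD d * conj (ϑD d)) = (lamD * ϑD) d * conj (ϑD d)
        rw [Pi.mul_apply, mul_assoc]
      refine ⟨((E ⊔ N).index : ℤ) * t, ?_, ?_⟩
      · show (Nat.card N : ℂ)⁻¹ * ∑ n : N, indFun E (fun e => ((lam e : ℂˣ) : ℂ)) (n : G) * W n = _
        rw [sum_indFun_mul_invariant N E _ W hW]
        have h1 := card_mul_card_inf_eq N E
        have h2 : ∑ d : ↥(E ⊓ N), ((lam ⟨d, (Subgroup.mem_inf.mp d.2).1⟩ : ℂˣ) : ℂ) *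
            W ⟨d, (Subgroup.mem_inf.mp d.2).2⟩ = (Nat.card ↥(E ⊓ N) : ℂ) * t := by
          rw [← hT, finsum_eq_sum_of_fintype, ← mul_assoc,
            mul_inv_cancel₀ (card_ne_zero_complex), one_mul]
        rw [h2]
        have hEne : (Nat.card E : ℂ) ≠ 0 := card_ne_zero_complex
        have h3 : (Nat.card G : ℂ) * (Nat.card ↥(E ⊓ N) : ℂ) =
            ((E ⊔ N).index : ℂ) * ((Nat.card N : ℂ) * (Nat.card E : ℂ)) := by
          exact_mod_cast h1
        push_cast
        field_simp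
        linear_combination (t : ℂ) * h3
      · intro hnd
        have hidx : ¬ p ∣ (E ⊔ N).index := by
          intro h
          apply hnd
          exact Dvd.dvd.mul_right (by exact_mod_cast h) _
        have htp : ¬ p ∣ t := by
          intro h
          apply hnd
          exact Dvd.dvd.mul_left (by exact_mod_cast h) _
        have h1 : (E ⊔ N).index ∣ p ^ k := by
          rw [← hk]; exact Subgroup.index_dvd_of_le le_sup_right
        obtain ⟨j, _, hj⟩ := (Nat.dvd_prime_pow hp).mp h1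
        have hj0 : j = 0 := by
          by_contra hne
          apply hidx
          rw [hj]
          exact dvd_pow_self p hne
        rw [hj0, pow_zero] at hj
        exact ⟨E, lam, hEl, Subgroup.index_eq_one.mp hj, t, htp, hT⟩
    | zero =>
      refine ⟨0, ?_, fun h => absurd (dvd_zero _) h⟩
      show (Nat.card N : ℂ)⁻¹ * ∑ n : N, (0 : G → ℂ) (n : G) * W n = _
      simp
    | add x y _ _ hx hy =>
      obtain ⟨z₁, h₁, g₁⟩ := hx
      obtain ⟨z₂, h₂, g₂⟩ := hy
      refine ⟨z₁ + z₂, ?_, ?_⟩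
      · rw [hΦadd, h₁, h₂]; push_cast; rfl
      · intro hnd
        by_cases h : (p : ℤ) ∣ z₁
        · apply g₂
          intro h'
          exact hnd (dvd_add h h')
        · exact g₁ h
    | neg x _ hx =>
      obtain ⟨z₁, h₁, g₁⟩ := hx
      refine ⟨-z₁, ?_, ?_⟩
      · rw [hΦneg, h₁]; push_cast; rfl
      · intro hnd
        apply g₁
        intro h
        exact hnd (Dvd.dvd.neg_right h)
  obtain ⟨m, hm, hmem⟩ := exists_smul_mem_brauerSpan (G := G) p isCharacter_one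
  obtain ⟨z, hz, hgoal⟩ := key _ hmem
  apply hgoal
  have hzm : (z : ℂ) = (m : ℂ) := by
    rw [← hz]
    show (Nat.card N : ℂ)⁻¹ * ∑ n : N, (m • (1 : G → ℂ)) (n : G) * W n = _
    have h1 := classInner_irr hϑ hϑ
    rw [if_pos rfl] at h1
    unfold classInner at h1
    have h2 : ∑ n : N, (m • (1 : G → ℂ)) (n : G) * W n = (m : ℂ) * ∑ n : N, ϑ n * conj (ϑ n) := by
      rw [Finset.mul_sum]
      apply Finset.sum_congr rfl
      intro n _
      simp [W]
    rw [h2, mul_left_comm, h1, mul_one]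
  have : z = m := by exact_mod_cast hzm
  rw [this]
  exact hm

end main




section main2
variable {G : Type u} [Group G] [Fintype G]

/-- Isaacs (8.24) -/
theorem exists_elementary_invariant_constituent (p : ℕ) [Fact p.Prime] (N : Subgroup G)
    [hN : N.Normal] (hind : ∃ k : ℕ, N.index = p ^ k) (ϑ : N → ℂ) (hϑ : IsIrrCharacter N ϑ)
    (hinv : ∀ (g : G) (n : N), ϑ ⟨g * n * g⁻¹, hN.conj_mem (n : G) n.2 g⟩ = ϑ n) :
    ∃ (E : Subgroup G) (φ : ↥(E ⊓ N) → ℂ), IsElementary p E ∧ E ⊔ N = ⊤ ∧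
      IsIrrCharacter ↥(E ⊓ N) φ ∧
      (∀ (g : G) (hg : g ∈ E) (x : ↥(E ⊓ N)),
        φ ⟨g * x * g⁻¹, ⟨(E.mul_mem (E.mul_mem hg x.2.1) (E.inv_mem hg)),
          hN.conj_mem (x : G) x.2.2 g⟩⟩ = φ x) ∧
      ∃ m : ℕ, ¬ p ∣ m ∧ (Nat.card ↥(E ⊓ N) : ℂ)⁻¹ *
        ∑ᶠ x : ↥(E ⊓ N), ϑ ⟨(x : G), x.2.2⟩ * conj (φ x) = (m : ℂ) := by
  classical
  have hp : p.Prime := Fact.out
  obtain ⟨E, lam, hEl, hEN, t, htp, hT⟩ := exists_elementary_sup_eq_top p N hind ϑ hϑ hinv
  have hFD : Fintype ↥(E ⊓ N) := Fintype.ofFinite _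
  obtain ⟨P', Q, hP', hQc, hPQ⟩ := exists_central_factorization hp hEl
  let α : P' →* MulAut ↥(E ⊓ N) := (conjInf E N).comp P'.subtype
  let lamD : ↥(E ⊓ N) → ℂ := fun d => ((lam ⟨d, (Subgroup.mem_inf.mp d.2).1⟩ : ℂˣ) : ℂ)
  let ϑD : ↥(E ⊓ N) → ℂ := fun d => ϑ ⟨d, (Subgroup.mem_inf.mp d.2).2⟩
  have hlamD : IsCharacter ↥(E ⊓ N) lamD :=
    IsCharacter.comp_hom (isCharacter_of_hom lam) (Subgroup.inclusion inf_le_left)
  have hϑD : IsCharacter ↥(E ⊓ N) ϑD :=
    IsCharacter.comp_hom (IsIrrCharacter.isCharacter hϑ) (Subgroup.inclusion inf_le_right)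
  have hlam1 : lamD 1 = 1 := by
    show ((lam ⟨((1 : ↥(E ⊓ N)) : G), _⟩ : ℂˣ) : ℂ) = 1
    have : (⟨((1 : ↥(E ⊓ N)) : G), (Subgroup.mem_inf.mp (1 : ↥(E ⊓ N)).2).1⟩ : E) = 1 := rfl
    rw [this, map_one]
    rfl
  have ht : classInner (lamD * ϑD) ϑD = t := by
    rw [← hT, finsum_eq_sum_of_fintype]
    unfold classInner
    congr 1
    apply Finset.sum_congr rfl
    intro d _
    show (lamD * ϑD) d * conj (ϑD d) = lamD d * (ϑD d * conj (ϑD d))
    rw [Pi.mul_apply, mul_assoc]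
  have hθinv : ∀ (u : P') (d : ↥(E ⊓ N)), ϑD (α u d) = ϑD d := by
    intro u d
    show ϑ ⟨((conjInf E N (u : E) d : ↥(E ⊓ N)) : G), _⟩ = ϑ ⟨d, _⟩
    have h1 := hinv ((u : E) : G) ⟨d, (Subgroup.mem_inf.mp d.2).2⟩
    rw [← h1]
    congr 1
  have hlaminv : ∀ (u : P') (d : ↥(E ⊓ N)), lamD (α u d) = lamD d := by
    intro u d
    show ((lam ⟨((conjInf E N (u : E) d : ↥(E ⊓ N)) : G), _⟩ : ℂˣ) : ℂ) = ((lam ⟨d, _⟩ : ℂˣ) : ℂ)
    have h1 : (⟨((conjInf E N (u : E) d : ↥(E ⊓ N)) : G),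
        (Subgroup.mem_inf.mp (conjInf E N (u : E) d).2).1⟩ : E) =
        (u : E) * ⟨d, (Subgroup.mem_inf.mp d.2).1⟩ * (u : E)⁻¹ := by
      apply Subtype.ext
      rw [conjInf_apply]
      rfl
    rw [h1, map_mul, map_mul, map_inv, mul_comm, inv_mul_cancel_left]
  obtain ⟨φ, c, hφ, hφinv, hφc, hpc⟩ := exists_invariant_constituent hP' α hϑD hlamD hlam1
    hθinv hlaminv t ht htp
  refine ⟨E, φ, hEl, hEN, hφ, ?_, c, hpc, ?_⟩
  · intro g hg x
    obtain ⟨⟨u, z⟩, huz⟩ := hPQ.2 (⟨g, hg⟩ : E)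
    have huz' : (u : E) * (z : E) = ⟨g, hg⟩ := huz
    have hzc := Subgroup.mem_center_iff.mp (hQc z.2)
    have h1 := hφinv u x
    rw [← h1]
    congr 1
    apply Subtype.ext
    show g * (x : G) * g⁻¹ = ((conjInf E N (u : E) x : ↥(E ⊓ N)) : G)
    rw [conjInf_apply]
    have hg' : g = ((u : E) : G) * ((z : E) : G) := by
      have := congrArg Subtype.val huz'
      exact this.symm
    have hzx : ((z : E) : G) * (x : G) = (x : G) * ((z : E) : G) := by
      have := hzc (⟨x, (Subgroup.mem_inf.mp x.2).1⟩ : E)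
      have h2 := congrArg Subtype.val this
      exact h2.symm
    rw [hg']
    calc ((u : E) : G) * ((z : E) : G) * (x : G) * (((u : E) : G) * ((z : E) : G))⁻¹
        = ((u : E) : G) * (((z : E) : G) * (x : G)) * ((z : E) : G)⁻¹ * ((u : E) : G)⁻¹ := by group
      _ = ((u : E) : G) * ((x : G) * ((z : E) : G)) * ((z : E) : G)⁻¹ * ((u : E) : G)⁻¹ := by
          rw [hzx]
      _ = ((u : E) : G) * (x : G) * ((u : E) : G)⁻¹ := by group
  · rw [← hφc, finsum_eq_sum_of_fintype]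
    rfl

end main2

end Cfsg.Agent.Lib.Helper2
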