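import Mathlib
import Cfsg.Prelude.Def_Characters
import Cfsg.Agent.Lib.Helper2.ElemInvConst
import Cfsg.Agent.Lib.Helper6.LinChar
import Cfsg.Agent.Lib.Helper6.CharNorm
import Cfsg.Agent.Lib.Helper6.Ramification2
import Cfsg.Agent.Lib.Helper10.AbelianRestrict

/-!
Dade's extension theorem, Isaacs (8.26): `N` normal of `p`-power index, `P` Sylow with
`P ⊓ N ≤ Z(P)` and linear characters of `P ⊓ N` extendible to `P`; then invariant irreducible
characters of `N` extend to `G`.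
-/

set_option autoImplicit false
open scoped ComplexConjugate
namespace Cfsg.Agent.Lib.Helper2
open Cfsg Module Cfsg.Agent.CharLib Cfsg.Agent.Lib.Helper6
universe u

section basics
variable {G : Type u} [Group G]

/-- elements of order prime to `p` lie in every normal subgroup of `p`-power index -/
theorem mem_of_coprime_of_index_pow [Finite G] {p : ℕ} (N : Subgroup G) [hN : N.Normal] {k : ℕ}
    (hk : N.index = p ^ k) {x : G} (hx : Nat.Coprime (orderOf x) p) : x ∈ N := by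
  rw [← QuotientGroup.eq_one_iff, ← orderOf_eq_one_iff]
  have h1 : orderOf (x : G ⧸ N) ∣ orderOf x := orderOf_map_dvd (QuotientGroup.mk' N) x
  have h2 : orderOf (x : G ⧸ N) ∣ p ^ k := by
    rw [← hk, Subgroup.index_eq_card]
    exact orderOf_dvd_natCard _
  exact Nat.eq_one_of_dvd_coprimes (Nat.Coprime.pow_right k hx) h1 h2

/-- a `p`-subgroup can be conjugated into a given Sylow `p`-subgroup -/
theorem exists_conj_mem_sylow [Finite G] {p : ℕ} [Fact p.Prime] (P : Sylow p G) (Q : Subgroup G)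
    (hQ : IsPGroup p Q) : ∃ g : G, ∀ y ∈ Q, g⁻¹ * y * g ∈ (P : Subgroup G) := by
  obtain ⟨P', hP'⟩ := hQ.exists_le_sylow
  obtain ⟨g, hg⟩ := MulAction.exists_smul_eq G P P'
  refine ⟨g, fun y hy => ?_⟩
  have h1 : y ∈ ((g • P : Sylow p G) : Subgroup G) := by rw [hg]; exact hP' hy
  rw [Sylow.coe_subgroup_smul, Subgroup.mem_pointwise_smul_iff_inv_smul_mem] at h1
  have h2 : ((MulAut.conj g)⁻¹ • y : G) = g⁻¹ * y * g := by
    rw [← map_inv, MulAut.smul_def, MulAut.conj_apply, inv_inv]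
  rwa [h2] at h1

/-- characters of a subgroup of a finite abelian group extend (injective hom form) -/
theorem exists_hom_extension_of_injective {A B : Type*} [CommGroup A] [Finite A] [Group B]
    (ι : B →* A) (hι : Function.Injective ι) (φ0 : B →* ℂˣ) :
    ∃ lam : A →* ℂˣ, ∀ b : B, lam (ι b) = φ0 b := by
  have hne : NeZero ((Monoid.exponent A : ℕ) : ℂ) :=
    ⟨Nat.cast_ne_zero.mpr (Monoid.exponent_ne_zero_of_finite)⟩
  let φ1 : ↥ι.range →* ℂˣ := φ0.comp (MonoidHom.ofInjective hι).symm.toMonoidHom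
  obtain ⟨lam, hlam⟩ := MonoidHom.domRestrict_surjective (M := ℂ) ι.range φ1
  refine ⟨lam, fun b => ?_⟩
  have h1 := DFunLike.congr_fun hlam ⟨ι b, ⟨b, rfl⟩⟩
  rw [MonoidHom.domRestrictHom_apply] at h1
  have h2 : φ1 ⟨ι b, ⟨b, rfl⟩⟩ = φ0 b := by
    show φ0 ((MonoidHom.ofInjective hι).symm ⟨ι b, ⟨b, rfl⟩⟩) = φ0 b
    congr 1
    rw [MulEquiv.symm_apply_eq]
    rfl
  rw [← h2, ← h1]
  rfl

/-- the hypotheses of Dade's theorem pass from the Sylow subgroup to every `p`-subgroup -/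
theorem dade_hyp_of_pGroup [Finite G] {p : ℕ} [Fact p.Prime] (N : Subgroup G) [hN : N.Normal]
    (P : Sylow p G)
    (hcent : ∀ x ∈ (P : Subgroup G) ⊓ N, ∀ y ∈ (P : Subgroup G), x * y = y * x)
    (hlin : ∀ lam : ↥((P : Subgroup G) ⊓ N) → ℂ, IsCharacter ↥((P : Subgroup G) ⊓ N) lam →
      lam 1 = 1 → ∃ μ : ↥(P : Subgroup G) → ℂ, IsCharacter ↥(P : Subgroup G) μ ∧ μ 1 = 1 ∧
        ∀ x : ↥((P : Subgroup G) ⊓ N), μ ⟨(x : G), x.2.1⟩ = lam x)
    (Q : Subgroup G) (hQ : IsPGroup p Q) :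
    (∀ x ∈ Q ⊓ N, ∀ y ∈ Q, x * y = y * x) ∧
    ∀ φ0 : ↥(Q ⊓ N) →* ℂˣ, ∃ ψ : ↥Q →* ℂˣ,
      ∀ x : ↥(Q ⊓ N), ψ ⟨x, (Subgroup.mem_inf.mp x.2).1⟩ = φ0 x := by
  classical
  obtain ⟨g, hg⟩ := exists_conj_mem_sylow P Q hQ
  have hgN : ∀ n ∈ N, g⁻¹ * n * g ∈ N := by
    intro n hn
    have := hN.conj_mem n hn g⁻¹
    rwa [inv_inv] at this
  constructor
  · intro x hx y hy
    have h1 := hcent (g⁻¹ * x * g) ⟨hg x hx.1, hgN x hx.2⟩ (g⁻¹ * y * g) (hg y hy)
    have h2 : g⁻¹ * (x * y) * g = g⁻¹ * (y * x) * g := by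
      calc g⁻¹ * (x * y) * g = (g⁻¹ * x * g) * (g⁻¹ * y * g) := by group
        _ = (g⁻¹ * y * g) * (g⁻¹ * x * g) := h1
        _ = g⁻¹ * (y * x) * g := by group
    exact mul_left_cancel (mul_right_cancel h2)
  · intro φ0
    let A := ↥((P : Subgroup G) ⊓ N)
    let instA : CommGroup A :=
      { (inferInstance : Group A) with
        mul_comm := fun a b => Subtype.ext (hcent a a.2 b (Subgroup.mem_inf.mp b.2).1) }
    let cQ : ↥Q →* ↥(P : Subgroup G) :=
      { toFun := fun y => ⟨g⁻¹ * y * g, hg y y.2⟩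
        map_one' := by apply Subtype.ext; simp
        map_mul' := by
          intro a b
          apply Subtype.ext
          show g⁻¹ * ((a : G) * (b : G)) * g = (g⁻¹ * a * g) * (g⁻¹ * b * g)
          group }
    let cD : ↥(Q ⊓ N) →* A :=
      { toFun := fun y => ⟨g⁻¹ * y * g, ⟨hg y (Subgroup.mem_inf.mp y.2).1,
          hgN y (Subgroup.mem_inf.mp y.2).2⟩⟩
        map_one' := by apply Subtype.ext; simp
        map_mul' := by
          intro a b
          apply Subtype.ext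
          show g⁻¹ * ((a : G) * (b : G)) * g = (g⁻¹ * a * g) * (g⁻¹ * b * g)
          group }
    have hcD : Function.Injective cD := by
      intro a b hab
      have h1 : g⁻¹ * (a : G) * g = g⁻¹ * (b : G) * g := congrArg Subtype.val hab
      exact Subtype.ext (mul_left_cancel (mul_right_cancel h1))
    obtain ⟨lam, hlam⟩ := @exists_hom_extension_of_injective A _ instA _ _ cD hcD φ0
    obtain ⟨μ, hμ, hμ1, hμlam⟩ := hlin (fun a => ((lam a : ℂˣ) : ℂ)) (isCharacter_of_hom lam)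
      (by show ((lam 1 : ℂˣ) : ℂ) = 1; rw [map_one]; rfl)
    refine ⟨(linCharUnitsHom hμ hμ1).comp cQ, fun x => ?_⟩
    apply Units.ext
    show μ (cQ ⟨x, _⟩) = ((φ0 x : ℂˣ) : ℂ)
    rw [← hlam x]
    exact hμlam (cD x)

/-- an irreducible character of `E ⊓ N` extends to a linear character of the elementary group `E` -/
theorem exists_linear_extension_of_elementary [Finite G] {p : ℕ} [Fact p.Prime] (N : Subgroup G)
    [hN : N.Normal] {k0 : ℕ} (hk0 : N.index = p ^ k0)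
    (hpg : ∀ Q : Subgroup G, IsPGroup p Q → (∀ x ∈ Q ⊓ N, ∀ y ∈ Q, x * y = y * x) ∧
      ∀ φ0 : ↥(Q ⊓ N) →* ℂˣ, ∃ ψ : ↥Q →* ℂˣ,
        ∀ x : ↥(Q ⊓ N), ψ ⟨x, (Subgroup.mem_inf.mp x.2).1⟩ = φ0 x)
    (E : Subgroup G) (hEl : IsElementary p E) (φ : ↥(E ⊓ N) → ℂ)
    (hφ : IsIrrCharacter ↥(E ⊓ N) φ) :
    ∃ ψ : E → ℂ, IsCharacter E ψ ∧ ψ 1 = 1 ∧
      ∀ d : ↥(E ⊓ N), ψ ⟨d, (Subgroup.mem_inf.mp d.2).1⟩ = φ d := by
  classical
  have hp : p.Prime := Fact.out
  have hEl' := hEl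
  obtain ⟨x, hxc, hcop, k, hk⟩ := hEl
  have hcardE : Nat.card E = orderOf x * p ^ k := by
    rw [← hk, ← Nat.card_zpowers, Subgroup.card_mul_index]
  have hcop' : Nat.Coprime (orderOf x) (p ^ k) := Nat.Coprime.pow_right k hcop
  obtain ⟨a, ha1, ha2⟩ := Nat.chineseRemainder hcop' 0 1
  obtain ⟨b, hb1, hb2⟩ := Nat.chineseRemainder hcop' 1 0
  have hma : orderOf x ∣ a := (Nat.modEq_zero_iff_dvd).mp ha1
  have hnb : p ^ k ∣ b := (Nat.modEq_zero_iff_dvd).mp hb2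
  let fa := powHom hp hEl' (dvd_of_eq hcardE) hcop' hma ha2
  let fb := powHom hp hEl' (dvd_of_eq (hcardE.trans (mul_comm _ _))) hcop'.symm hnb hb1
  have hab : ∀ e : E, e ^ a * e ^ b = e := by
    intro e
    rw [← pow_add]
    apply pow_eq_self_of_orderOf_dvd (n := orderOf x * p ^ k)
    · apply (Nat.modEq_and_modEq_iff_modEq_mul hcop').mp
      constructor
      · have := Nat.ModEq.add ha1 hb1
        simpa using this
      · have := Nat.ModEq.add ha2 hb2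
        simpa using this
    · rw [← hcardE]
      exact orderOf_dvd_natCard e
  have hxN : (x : G) ∈ N :=
    mem_of_coprime_of_index_pow N hk0 (by rwa [Subgroup.orderOf_coe])
  have hZle : Subgroup.zpowers x ≤ Subgroup.center E := Subgroup.zpowers_le.mpr hxc
  have hZc : ∀ z ∈ Subgroup.zpowers x, ∀ e : E, e * z = z * e :=
    fun z hz e => Subgroup.mem_center_iff.mp (hZle hz) e
  have hZn : (Subgroup.zpowers x).Normal := by
    constructor
    intro y hy g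
    rw [hZc y hy g, mul_inv_cancel_right]
    exact hy
  have hbZ : ∀ e : E, e ^ b ∈ Subgroup.zpowers x := by
    intro e
    obtain ⟨c, rfl⟩ := hnb
    rw [pow_mul]
    have := Subgroup.pow_index_mem (Subgroup.zpowers x) e
    rw [hk] at this
    exact Subgroup.pow_mem _ this c
  have hZN : ∀ z ∈ Subgroup.zpowers x, ((z : E) : G) ∈ N := by
    intro z hz
    obtain ⟨j, rfl⟩ := hz
    rw [Subgroup.coe_zpow]
    exact N.zpow_mem hxN j
  let Q : Subgroup G := fa.range.map E.subtype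
  have hQmem : ∀ e : E, ((e ^ a : E) : G) ∈ Q :=
    fun e => Subgroup.mem_map.mpr ⟨e ^ a, ⟨e, rfl⟩, rfl⟩
  have hQ : IsPGroup p Q := by
    rintro ⟨y, hy⟩
    obtain ⟨e', ⟨e, rfl⟩, rfl⟩ := Subgroup.mem_map.mp hy
    refine ⟨k, ?_⟩
    apply Subtype.ext
    show ((E.subtype (fa e)) : G) ^ p ^ k = 1
    have h1 : (fa e) ^ p ^ k = 1 := by
      show (e ^ a) ^ p ^ k = 1
      rw [← pow_mul]
      apply pow_eq_one_of_orderOf_dvd' (m := orderOf x * p ^ k) (Nat.mul_dvd_mul_right hma _)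
      rw [← hcardE]
      exact orderOf_dvd_natCard e
    rw [← map_pow, h1, map_one]
  obtain ⟨hQcomm, hQext⟩ := hpg Q hQ
  have haN : ∀ e : E, (e : G) ∈ N → ((e ^ a : E) : G) ∈ N := by
    intro e he
    rw [Subgroup.coe_pow]
    exact N.pow_mem he a
  have hDcomm : ∀ d d' : ↥(E ⊓ N), d * d' = d' * d := by
    intro d d'
    apply Subtype.ext
    show (d : G) * (d' : G) = (d' : G) * (d : G)
    let e : E := ⟨d, (Subgroup.mem_inf.mp d.2).1⟩
    let e' : E := ⟨d', (Subgroup.mem_inf.mp d'.2).1⟩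
    have hee' : e * e' = e' * e := by
      have c1 : Commute (e ^ a) (e' ^ a) := by
        have := hQcomm ((e ^ a : E) : G) ⟨hQmem e, haN e (Subgroup.mem_inf.mp d.2).2⟩
          ((e' ^ a : E) : G) (hQmem e')
        exact Subtype.ext this
      have c2 : Commute (e ^ a) (e' ^ b) := hZc _ (hbZ e') (e ^ a)
      have c3 : Commute (e ^ b) (e' ^ a) := (hZc _ (hbZ e) (e' ^ a)).symm
      have c4 : Commute (e ^ b) (e' ^ b) := hZc _ (hbZ e') (e ^ b)
      have := (c1.mul_right c2).mul_left (c3.mul_right c4)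
      rw [hab e, hab e'] at this
      exact this
    exact congrArg Subtype.val hee'
  have hφ1 : φ 1 = 1 := Cfsg.Agent.Lib.Helper10.irr_one_of_comm hDcomm hφ
  have hφc : IsCharacter ↥(E ⊓ N) φ := IsIrrCharacter.isCharacter hφ
  let φh : ↥(E ⊓ N) →* ℂˣ := linCharUnitsHom hφc hφ1
  have hQE : Q ⊓ N ≤ E ⊓ N := inf_le_inf_right N (Subgroup.map_subtype_le _)
  obtain ⟨ψQ, hψQ⟩ := hQext (φh.comp (Subgroup.inclusion hQE))
  let fbD : ↥E →* ↥(E ⊓ N) :=
    { toFun := fun e => ⟨((e ^ b : E) : G), ⟨(e ^ b).2, hZN _ (hbZ e)⟩⟩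
      map_one' := by apply Subtype.ext; simp
      map_mul' := fun e e' => by
        apply Subtype.ext
        show (((e * e') ^ b : E) : G) = ((e ^ b : E) : G) * ((e' ^ b : E) : G)
        have := map_mul fb e e'
        rw [← Subgroup.coe_mul]
        exact congrArg Subtype.val this }
  let faQ : ↥E →* ↥Q :=
    { toFun := fun e => ⟨((e ^ a : E) : G), hQmem e⟩
      map_one' := by apply Subtype.ext; simp
      map_mul' := fun e e' => by
        apply Subtype.ext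
        show (((e * e') ^ a : E) : G) = ((e ^ a : E) : G) * ((e' ^ a : E) : G)
        have := map_mul fa e e'
        rw [← Subgroup.coe_mul]
        exact congrArg Subtype.val this }
  refine ⟨(φ ∘ fbD) * ((fun y => ((ψQ y : ℂˣ) : ℂ)) ∘ faQ), ?_, ?_, ?_⟩
  · exact IsCharacter.mul (IsCharacter.comp_hom hφc fbD)
      (IsCharacter.comp_hom (isCharacter_of_hom ψQ) faQ)
  · show φ (fbD 1) * ((ψQ (faQ 1) : ℂˣ) : ℂ) = 1
    rw [map_one, map_one, map_one, hφ1]
    simp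
  · intro d
    let e : E := ⟨d, (Subgroup.mem_inf.mp d.2).1⟩
    show φ (fbD e) * ((ψQ (faQ e) : ℂˣ) : ℂ) = φ d
    have hN' : ((e ^ a : E) : G) ∈ N := haN e (Subgroup.mem_inf.mp d.2).2
    have h1 := hψQ ⟨((e ^ a : E) : G), ⟨hQmem e, hN'⟩⟩
    have h2 : ((ψQ (faQ e) : ℂˣ) : ℂ) = φ ⟨((e ^ a : E) : G), ⟨(e ^ a).2, hN'⟩⟩ := by
      have h3 : faQ e = ⟨(⟨((e ^ a : E) : G), ⟨hQmem e, hN'⟩⟩ : ↥(Q ⊓ N)),
          (Subgroup.mem_inf.mp (⟨((e ^ a : E) : G), ⟨hQmem e, hN'⟩⟩ : ↥(Q ⊓ N)).2).1⟩ := rfl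
      rw [h3, h1]
      rfl
    rw [h2, ← Cfsg.Agent.Lib.Helper10.irr_mul_of_comm hDcomm hφ]
    congr 1
    apply Subtype.ext
    show ((e ^ b : E) : G) * ((e ^ a : E) : G) = d
    rw [← Subgroup.coe_mul, ← pow_add, add_comm, pow_add, hab e]

end basics

section main
variable {G : Type u} [Group G] [Fintype G]

/-- Mackey for `EN = G`: inner product of the restriction of an induced function with an
invariant function -/
theorem classInner_resFun_indFun_of_sup_eq_top (N : Subgroup G) [hN : N.Normal] [Fintype N]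
    (E : Subgroup G) [Fintype ↥(E ⊓ N)] (hEN : E ⊔ N = ⊤) (ψ : E → ℂ) (ϑ : N → ℂ)
    (hinv : ∀ (g : G) (n : N), ϑ ⟨g * n * g⁻¹, hN.conj_mem (n : G) n.2 g⟩ = ϑ n) :
    classInner (resFun N (indFun E ψ)) ϑ =
      (Nat.card ↥(E ⊓ N) : ℂ)⁻¹ * ∑ d : ↥(E ⊓ N), ψ ⟨d, (Subgroup.mem_inf.mp d.2).1⟩ *
        conj (ϑ ⟨d, (Subgroup.mem_inf.mp d.2).2⟩) := by
  classical
  unfold classInner
  have h1 := sum_indFun_mul_invariant N E ψ (fun n => conj (ϑ n))
    (fun g n => by show conj (ϑ _) = conj (ϑ n); rw [hinv])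
  have h2 : ∑ n : N, resFun N (indFun E ψ) n * conj (ϑ n) =
      ∑ n : N, indFun E ψ (n : G) * (fun n => conj (ϑ n)) n := rfl
  rw [h2, h1]
  have h3 := card_mul_card_inf_eq N E
  rw [hEN, Subgroup.index_top, one_mul] at h3
  have h4 : (Nat.card G : ℂ) * (Nat.card ↥(E ⊓ N) : ℂ) = (Nat.card N : ℂ) * (Nat.card E : ℂ) := by
    exact_mod_cast h3
  have hN0 : (Nat.card N : ℂ) ≠ 0 := Nat.cast_ne_zero.mpr Nat.card_pos.ne'
  have hE0 : (Nat.card E : ℂ) ≠ 0 := Nat.cast_ne_zero.mpr Nat.card_pos.ne'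
  have hD0 : (Nat.card ↥(E ⊓ N) : ℂ) ≠ 0 := Nat.cast_ne_zero.mpr Nat.card_pos.ne'
  have h5 : (Nat.card N : ℂ)⁻¹ * ((Nat.card E : ℂ)⁻¹ * (Nat.card G : ℂ)) =
      (Nat.card ↥(E ⊓ N) : ℂ)⁻¹ := by
    apply eq_inv_of_mul_eq_one_left
    calc (Nat.card N : ℂ)⁻¹ * ((Nat.card E : ℂ)⁻¹ * (Nat.card G : ℂ)) * (Nat.card ↥(E ⊓ N) : ℂ)
        = (Nat.card N : ℂ)⁻¹ * (Nat.card E : ℂ)⁻¹ *
          ((Nat.card G : ℂ) * (Nat.card ↥(E ⊓ N) : ℂ)) := by ring
      _ = 1 := by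
        rw [h4]
        field_simp
  rw [← h5]
  ring

/-- Dade's extension theorem, Isaacs (8.26) -/
theorem dade_extension (p : ℕ) [Fact p.Prime] (N : Subgroup G) [hN : N.Normal]
    (hind : ∃ k : ℕ, N.index = p ^ k) (P : Sylow p G)
    (hcent : ∀ x ∈ (P : Subgroup G) ⊓ N, ∀ y ∈ (P : Subgroup G), x * y = y * x)
    (hlin : ∀ lam : ↥((P : Subgroup G) ⊓ N) → ℂ, IsCharacter ↥((P : Subgroup G) ⊓ N) lam →
      lam 1 = 1 → ∃ μ : ↥(P : Subgroup G) → ℂ, IsCharacter ↥(P : Subgroup G) μ ∧ μ 1 = 1 ∧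
        ∀ x : ↥((P : Subgroup G) ⊓ N), μ ⟨(x : G), x.2.1⟩ = lam x)
    (ϑ : N → ℂ) (hϑ : IsIrrCharacter N ϑ)
    (hinv : ∀ (g : G) (n : N), ϑ ⟨g * n * g⁻¹, hN.conj_mem (n : G) n.2 g⟩ = ϑ n) :
    ∃ χ : G → ℂ, IsIrrCharacter G χ ∧ ∀ n : N, χ n = ϑ n := by
  classical
  have hp : p.Prime := Fact.out
  obtain ⟨k0, hk0⟩ := hind
  obtain ⟨E, φ, hEl, hEN, hφ, -, m, hpm, hm⟩ :=
    exists_elementary_invariant_constituent p N ⟨k0, hk0⟩ ϑ hϑ hinv
  obtain ⟨ψ, hψ, hψ1, hψφ⟩ := exists_linear_extension_of_elementary N hk0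
    (dade_hyp_of_pGroup N P hcent hlin) E hEl φ hφ
  let _ : Fintype N := Fintype.ofFinite _
  let _ : Fintype ↥(E ⊓ N) := Fintype.ofFinite _
  let _ := fintypeIrr G
  have h1 := classInner_resFun_indFun_of_sup_eq_top N E hEN ψ ϑ hinv
  have h2 : (Nat.card ↥(E ⊓ N) : ℂ)⁻¹ * ∑ d : ↥(E ⊓ N),
      ψ ⟨d, (Subgroup.mem_inf.mp d.2).1⟩ * conj (ϑ ⟨d, (Subgroup.mem_inf.mp d.2).2⟩) = (m : ℂ) := by
    rw [finsum_eq_sum_of_fintype] at hm
    have := congrArg conj hm
    rw [map_mul, map_inv₀, map_natCast, map_sum, map_natCast] at this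
    rw [← this]
    congr 1
    apply Finset.sum_congr rfl
    intro d _
    rw [map_mul, Complex.conj_conj, hψφ d, mul_comm]
  rw [h2] at h1
  have hψG : IsCharacter G (indFun E ψ) := IsCharacter.indFun E hψ
  have hdec := classFunction_eq_sum (IsCharacter.isClassFunction hψG)
  have h3 : classInner (resFun N (indFun E ψ)) ϑ = ∑ χ : IrrCharacter G,
      classInner (indFun E ψ) (χ : G → ℂ) * classInner (resFun N (χ : G → ℂ)) ϑ := by
    conv_lhs => rw [hdec]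
    rw [map_sum, classInner_sum_left]
    apply Finset.sum_congr rfl
    intro χ _
    rw [map_smul, classInner_smul_left]
  have ha : ∀ χ : IrrCharacter G, ∃ a : ℕ, classInner (indFun E ψ) (χ : G → ℂ) = a :=
    fun χ => IsCharacter.classInner_nat hψG (IsIrrCharacter.isCharacter χ.2)
  have he : ∀ χ : IrrCharacter G, ∃ e : ℕ, classInner (resFun N (χ : G → ℂ)) ϑ = e :=
    fun χ => IsCharacter.classInner_nat (isCharacter_resFun N (IsIrrCharacter.isCharacter χ.2))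
      (IsIrrCharacter.isCharacter hϑ)
  choose a ha using ha
  choose e he using he
  have h4 : m = ∑ χ : IrrCharacter G, a χ * e χ := by
    have : (m : ℂ) = ((∑ χ : IrrCharacter G, a χ * e χ : ℕ) : ℂ) := by
      rw [← h1, h3]
      push_cast
      apply Finset.sum_congr rfl
      intro χ _
      rw [ha, he]
    exact_mod_cast this
  have h5 : ∃ χ : IrrCharacter G, ¬ p ∣ a χ * e χ := by
    by_contra hcon
    push Not at hcon
    apply hpm
    rw [h4]
    exact Finset.dvd_sum (fun χ _ => hcon χ)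
  obtain ⟨χ, hχ⟩ := h5
  have hpe : ¬ p ∣ e χ := fun h => hχ (Dvd.dvd.mul_left h _)
  have he0 : e χ ≠ 0 := by
    intro h0
    apply hpe
    rw [h0]
    exact dvd_zero p
  have hinv' : ∀ g : G, conjFun N g ϑ = ϑ := by
    intro g
    funext n
    rw [conjFun_apply]
    exact hinv g n
  have hres := clifford_of_invariant N χ.2 hϑ
    (by rw [he]; exact Nat.cast_ne_zero.mpr he0) hinv'
  rw [he] at hres
  have hdvd := dvd_index_of_invariant N (Nat.pos_of_ne_zero he0) χ.2 hϑ hinv' hres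
  rw [hk0] at hdvd
  obtain ⟨j, -, hej⟩ := (Nat.dvd_prime_pow hp).mp hdvd
  have hj0 : j = 0 := by
    by_contra hj
    apply hpe
    rw [hej]
    exact dvd_pow_self p hj
  rw [hj0, pow_zero] at hej
  refine ⟨χ, χ.2, fun n => ?_⟩
  have := congrFun hres n
  rw [resFun_apply, hej, Nat.cast_one, one_smul] at this
  exact this

end main
end Cfsg.Agent.Lib.Helper2
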