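/-
helper2: the "sign trick": a central involution `z` of a finite group `H` avoiding a subgroup `D`
of index `2 * odd` has a complement (kernel of the sign of the action on the cosets of `D`).
-/
import Mathlib

set_option autoImplicit false

namespace Cfsg.Agent.Lib.Helper2.DblCov

open Subgroup

theorem exists_complement_of_index {H : Type*} [Group H] [Finite H] (z : H)
    (hzc : z ∈ center H) (hz2 : orderOf z = 2) (D : Subgroup H) (hzD : z ∉ D) (u : ℕ)
    (hu : Odd u) (hidx : D.index = 2 * u) :
    ∃ K : Subgroup H, (zpowers z).IsComplement' K := by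
  classical
  have hzz : z * z = 1 := by
    have := pow_orderOf_eq_one z
    rw [hz2, pow_two] at this
    exact this
  have hz1 : z ≠ 1 := by
    intro h
    rw [h, orderOf_one] at hz2
    omega
  let X := H ⧸ D
  have : Fintype X := Fintype.ofFinite X
  let σ : H →* Equiv.Perm X := MulAction.toPermHom H X
  let s : H →* ℤˣ := Equiv.Perm.sign.comp σ
  have hcardX : Fintype.card X = 2 * u := by
    rw [← Nat.card_eq_fintype_card, ← hidx]
    rfl
  have hfix : Fintype.card (Function.fixedPoints (σ z)) = 0 := by
    rw [Fintype.card_eq_zero_iff]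
    constructor
    rintro ⟨x, hx⟩
    induction x using QuotientGroup.induction_on with
    | H g =>
      have h1 : (σ z) (g : H ⧸ D) = ((z * g : H) : H ⧸ D) := rfl
      have h2 : ((z * g : H) : H ⧸ D) = (g : H ⧸ D) := h1.symm.trans hx
      rw [QuotientGroup.eq] at h2
      apply hzD
      have h3 : (z * g)⁻¹ * g = z⁻¹ := by
        rw [mem_center_iff] at hzc
        rw [← hzc g]
        group
      rw [h3] at h2
      exact (inv_mem_iff (x := z)).mp h2
  have hsq : (σ z) ^ 2 = 1 := by
    rw [← map_pow, pow_two, hzz, map_one]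
  have hsz : s z = -1 := by
    show Equiv.Perm.sign (σ z) = -1
    rw [Equiv.Perm.sign_of_pow_two_eq_one hsq, hfix, hcardX, Nat.sub_zero,
      Nat.mul_div_cancel_left u (by norm_num), hu.neg_one_pow]
  refine ⟨s.ker, isComplement'_of_disjoint_and_mul_eq_univ ?_ ?_⟩
  · rw [disjoint_def]
    intro x hx hxK
    rw [mem_zpowers_iff] at hx
    obtain ⟨k, rfl⟩ := hx
    rw [MonoidHom.mem_ker, map_zpow, hsz] at hxK
    rcases Int.even_or_odd k with hk | hk
    · obtain ⟨j, rfl⟩ := hk
      rw [zpow_add, ← (Commute.refl z).mul_zpow, hzz, one_zpow]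
    · rw [hk.neg_one_zpow] at hxK
      exact absurd hxK (by decide)
  · rw [Set.eq_univ_iff_forall]
    intro h
    rcases Int.units_eq_one_or (s h) with h1 | h1
    · exact ⟨1, one_mem _, h, h1, one_mul h⟩
    · refine ⟨z, mem_zpowers z, z⁻¹ * h, ?_, by group⟩
      show s (z⁻¹ * h) = 1
      rw [map_mul, map_inv, hsz, h1]
      decide

end Cfsg.Agent.Lib.Helper2.DblCov
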