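/-
helper2: involutions of the alternating group of degree at most 7 are conjugate.
-/
import Mathlib

set_option autoImplicit false

namespace Cfsg.Agent.Lib.Helper2.DblCov

open Equiv.Perm

theorem cycleType_of_involution {n : ℕ} (hn : n ≤ 7) (σ : Equiv.Perm (Fin n))
    (hσ : orderOf σ = 2) (hs : sign σ = 1) : σ.cycleType = Multiset.replicate 2 2 := by
  have hp : (orderOf σ).Prime := by rw [hσ]; exact Nat.prime_two
  obtain ⟨k, hk⟩ := cycleType_prime_order hp
  rw [hσ] at hk
  have hsum : σ.cycleType.sum ≤ n := by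
    have := sum_cycleType_le σ
    rwa [Fintype.card_fin] at this
  rw [hk, Multiset.sum_replicate, smul_eq_mul] at hsum
  have hsign := sign_of_cycleType σ
  rw [hs, hk, Multiset.sum_replicate, Multiset.card_replicate, smul_eq_mul] at hsign
  have hk1 : k = 1 := by
    have hk3 : k ≤ 2 := by omega
    interval_cases k
    · exfalso; revert hsign; decide
    · rfl
    · exfalso; revert hsign; decide
  rw [hk, hk1]

theorem isConj_involutions {n : ℕ} (hn : n ≤ 7) (σ τ : alternatingGroup (Fin n))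
    (hσ : orderOf σ = 2) (hτ : orderOf τ = 2) :
    ∃ g : alternatingGroup (Fin n), g * σ * g⁻¹ = τ := by
  have hσ' : orderOf (σ : Equiv.Perm (Fin n)) = 2 := by
    rw [← hσ]; exact Subgroup.orderOf_coe σ
  have hτ' : orderOf (τ : Equiv.Perm (Fin n)) = 2 := by
    rw [← hτ]; exact Subgroup.orderOf_coe τ
  have h1 := cycleType_of_involution hn σ hσ' (mem_alternatingGroup.mp σ.2)
  have h2 := cycleType_of_involution hn τ hτ' (mem_alternatingGroup.mp τ.2)
  have hc : IsConj (σ : Equiv.Perm (Fin n)) τ := by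
    rw [isConj_iff_cycleType_eq, h1, h2]
  rw [isConj_iff] at hc
  obtain ⟨c, hc⟩ := hc
  rcases Int.units_eq_one_or (sign c) with hsc | hsc
  · exact ⟨⟨c, mem_alternatingGroup.mpr hsc⟩, Subtype.ext hc⟩
  · -- correct the parity with a transposition commuting with `σ`
    have hne : (σ : Equiv.Perm (Fin n)) ≠ 1 := by
      intro h
      rw [h, orderOf_one] at hσ'
      omega
    obtain ⟨x, hx⟩ : ∃ x, (σ : Equiv.Perm (Fin n)) x ≠ x := by
      by_contra hcon
      push Not at hcon
      exact hne (Equiv.ext hcon)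
    have hσσ : (σ : Equiv.Perm (Fin n)) * (σ : Equiv.Perm (Fin n)) = 1 := by
      have := pow_orderOf_eq_one (σ : Equiv.Perm (Fin n))
      rwa [hσ', pow_two] at this
    have hσi : (σ : Equiv.Perm (Fin n))⁻¹ = σ := inv_eq_of_mul_eq_one_left hσσ
    have hσx : (σ : Equiv.Perm (Fin n)) ((σ : Equiv.Perm (Fin n)) x) = x := by
      rw [← Equiv.Perm.mul_apply, hσσ, Equiv.Perm.one_apply]
    set d : Equiv.Perm (Fin n) := Equiv.swap x ((σ : Equiv.Perm (Fin n)) x) with hd
    have hdσ : d * (σ : Equiv.Perm (Fin n)) * d⁻¹ = σ := by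
      have h3 : (σ : Equiv.Perm (Fin n)) * d * (σ : Equiv.Perm (Fin n))⁻¹ = d := by
        rw [hd, ← Equiv.swap_apply_apply, hσx, Equiv.swap_comm]
      have h4 : (σ : Equiv.Perm (Fin n)) * d = d * σ := by
        calc (σ : Equiv.Perm (Fin n)) * d
            = (σ : Equiv.Perm (Fin n)) * d * (σ : Equiv.Perm (Fin n))⁻¹ * σ := by
              rw [inv_mul_cancel_right]
          _ = d * σ := by rw [h3]
      rw [← h4, mul_inv_cancel_right]
    have hsd : sign d = -1 := Equiv.Perm.sign_swap (Ne.symm hx)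
    refine ⟨⟨c * d, mem_alternatingGroup.mpr (by rw [map_mul, hsc, hsd]; decide)⟩, Subtype.ext ?_⟩
    show c * d * (σ : Equiv.Perm (Fin n)) * (c * d)⁻¹ = τ
    rw [← hc, mul_inv_rev]
    calc c * d * (σ : Equiv.Perm (Fin n)) * (d⁻¹ * c⁻¹)
        = c * (d * (σ : Equiv.Perm (Fin n)) * d⁻¹) * c⁻¹ := by simp only [mul_assoc]
      _ = c * σ * c⁻¹ := by rw [hdσ]

end Cfsg.Agent.Lib.Helper2.DblCov
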