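/-
helper2: a central extension `H` of the alternating group `A_n` (`n ≤ 7`) by a group `⟨z⟩` of order
two which contains a non-central involution splits.
-/
import Mathlib
import Cfsg.Agent.Lib.Helper2.DblCovA
import Cfsg.Agent.Lib.Helper2.DblCovB
import Cfsg.Agent.Lib.Helper3.Dihedral

set_option autoImplicit false

namespace Cfsg.Agent.Lib.Helper2.DblCov

open Subgroup Cfsg.Agent.Lib.Helper3

theorem not_mem_zpowers_of_conj {G : Type*} [Group G] (α ρ : G) (hα : α * α = 1)
    (hconj : α * ρ * α = ρ⁻¹) (j : ℕ) (hr2 : ρ ^ 2 ^ j ≠ 1) (h0 : j = 0 → α ≠ 1 ∧ α ≠ ρ) :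
    α ∉ zpowers ρ := by
  intro hmem
  rw [mem_zpowers_iff] at hmem
  obtain ⟨k, hk⟩ := hmem
  have hcomm : α * ρ = ρ * α := by
    rw [← hk]
    exact ((Commute.refl ρ).zpow_left k).eq
  have h3 : ρ⁻¹ = ρ := by
    rw [← hconj, hcomm, mul_assoc, hα, mul_one]
  have h4 : ρ * ρ = 1 := by
    nth_rewrite 1 [← h3]
    exact inv_mul_cancel _
  rcases Nat.eq_zero_or_pos j with hj | hj
  · obtain ⟨h01, h02⟩ := h0 hj
    rcases Int.even_or_odd k with hk2 | hk2
    · obtain ⟨i, rfl⟩ := hk2
      rw [zpow_add, ← (Commute.refl _).mul_zpow, h4, one_zpow] at hk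
      exact h01 hk.symm
    · obtain ⟨i, rfl⟩ := hk2
      rw [zpow_add, zpow_one, two_mul, zpow_add, ← (Commute.refl _).mul_zpow, h4, one_zpow,
        one_mul] at hk
      exact h02 hk.symm
  · obtain ⟨i, rfl⟩ := Nat.exists_eq_succ_of_ne_zero hj.ne'
    apply hr2
    rw [pow_succ, pow_mul', pow_two, h4, one_pow]

section
variable {n : ℕ} {H : Type*} [Group H] [Finite H]
  (π : H →* alternatingGroup (Fin n)) (hπ : Function.Surjective π) (z : H)
  (hz2 : orderOf z = 2) (hker : π.ker = zpowers z) (hzc : z ∈ center H)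

omit [Finite H] in
include hz2 in
theorem z_mul_self : z * z = 1 := by
  have := pow_orderOf_eq_one z
  rwa [hz2, pow_two] at this

omit [Finite H] in
include hz2 in
theorem z_ne_one : z ≠ 1 := by
  intro h
  rw [h, orderOf_one] at hz2
  omega

omit [Finite H] in
include hz2 in
theorem sq_of_mem_zpowers {x : H} (hx : x ∈ zpowers z) : x * x = 1 := by
  rw [mem_zpowers_iff] at hx
  obtain ⟨k, rfl⟩ := hx
  rw [← (Commute.refl z).mul_zpow, z_mul_self z hz2, one_zpow]

omit [Finite H] in
include hπ hz2 hker hzc in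
/-- if some non-central involution exists, all lifts of involutions are involutions -/
theorem lift_sq (hn : n ≤ 7) (t : H) (ht : orderOf t = 2) (htz : π t ≠ 1) (x : H)
    (hx : π x * π x = 1) : x * x = 1 := by
  by_cases hx1 : π x = 1
  · have : x ∈ zpowers z := by rw [← hker]; exact hx1
    exact sq_of_mem_zpowers z hz2 this
  · have hox : orderOf (π x) = 2 := orderOf_eq_prime (by rw [pow_two]; exact hx) hx1
    have htt : t * t = 1 := by
      have := pow_orderOf_eq_one t
      rwa [ht, pow_two] at this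
    have hot : orderOf (π t) = 2 :=
      orderOf_eq_prime (by rw [pow_two, ← map_mul, htt, map_one]) htz
    obtain ⟨g, hg⟩ := isConj_involutions hn (π t) (π x) hot hox
    obtain ⟨h, rfl⟩ := hπ g
    set y := h * t * h⁻¹ with hy
    have hyy : y * y = 1 := by
      rw [hy]
      calc h * t * h⁻¹ * (h * t * h⁻¹) = h * (t * t) * h⁻¹ := by group
        _ = 1 := by rw [htt]; group
    have hmem : x * y⁻¹ ∈ zpowers z := by
      rw [← hker, MonoidHom.mem_ker, map_mul, map_inv, hy, map_mul, map_mul, map_inv, hg,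
        mul_inv_cancel]
    have hcen : x * y⁻¹ ∈ center H := by
      rw [mem_zpowers_iff] at hmem
      obtain ⟨k, hk⟩ := hmem
      rw [← hk]
      exact zpow_mem hzc k
    have hζ := sq_of_mem_zpowers z hz2 hmem
    have hx' : x = (x * y⁻¹) * y := by group
    rw [mem_center_iff] at hcen
    calc x * x = (x * y⁻¹) * y * ((x * y⁻¹) * y) := by rw [← hx']
      _ = (x * y⁻¹) * (y * (x * y⁻¹)) * y := by simp only [mul_assoc]
      _ = (x * y⁻¹) * ((x * y⁻¹) * y) * y := by rw [hcen y]
      _ = ((x * y⁻¹) * (x * y⁻¹)) * (y * y) := by simp only [mul_assoc]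
      _ = 1 := by rw [hζ, hyy, mul_one]

include hπ hz2 hker hzc in
/-- the dihedral subgroup argument -/
theorem exists_complement_of_dihedral (hn : n ≤ 7) (t : H) (ht : orderOf t = 2) (htz : π t ≠ 1)
    (j u : ℕ) (hu : Odd u) (hcard : Nat.card (alternatingGroup (Fin n)) = 2 ^ (j + 2) * u)
    (a' b' : alternatingGroup (Fin n)) (ha' : a' * a' = 1) (hb' : b' * b' = 1)
    (ha1 : a' ≠ 1) (hb1 : b' ≠ 1)
    (hr1 : (a' * b') ^ 2 ^ (j + 1) = 1) (hr2 : (a' * b') ^ 2 ^ j ≠ 1) :
    ∃ K : Subgroup H, (zpowers z).IsComplement' K := by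
  have hsq := lift_sq π hπ z hz2 hker hzc hn t ht htz
  obtain ⟨a, rfl⟩ := hπ a'
  obtain ⟨b, rfl⟩ := hπ b'
  have haa : a * a = 1 := hsq a ha'
  have hbb : b * b = 1 := hsq b hb'
  have hai : a⁻¹ = a := inv_eq_of_mul_eq_one_left haa
  have hbi : b⁻¹ = b := inv_eq_of_mul_eq_one_left hbb
  set r := a * b with hr
  have hrm : r ^ 2 ^ (j + 1) = 1 := by
    have h1 : π (r ^ 2 ^ j) * π (r ^ 2 ^ j) = 1 := by
      rw [map_pow, hr, map_mul, ← pow_two, ← pow_mul, ← pow_succ]
      exact hr1
    have h2 := hsq _ h1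
    rw [← pow_two, ← pow_mul, ← pow_succ] at h2
    exact h2
  have hara : a * r * a = r⁻¹ := by
    rw [hr, mul_inv_rev, hai, hbi]
    calc a * (a * b) * a = (a * a) * b * a := by simp only [mul_assoc]
      _ = b * a := by rw [haa, one_mul]
  have hara' : π a * (π a * π b) * π a = (π a * π b)⁻¹ := by
    rw [← map_mul, ← map_mul, ← map_mul, ← map_inv]
    exact congrArg π hara
  -- the two dihedral homomorphisms
  let dl := dihLift r a hrm haa hara
  let dl' := dihLift (π a * π b) (π a) hr1 ha' hara'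
  have hcomp : ∀ w, π (dl w) = dl' w := by
    rintro (i | i)
    · obtain ⟨k, rfl⟩ := ZMod.intCast_surjective i
      show π (dihLift r a hrm haa hara (.r (k : ZMod (2 ^ (j + 1))))) =
        dihLift (π a * π b) (π a) hr1 ha' hara' (.r (k : ZMod (2 ^ (j + 1))))
      rw [dihLift_r, dihLift_r, dihPow_intCast, dihPow_intCast, map_zpow, hr, map_mul]
    · obtain ⟨k, rfl⟩ := ZMod.intCast_surjective i
      show π (dihLift r a hrm haa hara (.sr (k : ZMod (2 ^ (j + 1))))) =
        dihLift (π a * π b) (π a) hr1 ha' hara' (.sr (k : ZMod (2 ^ (j + 1))))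
      rw [dihLift_sr, dihLift_sr, dihPow_intCast, dihPow_intCast, map_mul, map_zpow, hr, map_mul]
  have hord : orderOf (π a * π b) = 2 ^ (j + 1) := orderOf_eq_prime_pow hr2 hr1
  have hnot : π a ∉ zpowers (π a * π b) := by
    refine not_mem_zpowers_of_conj (π a) (π a * π b) ha' hara' j hr2 (fun _ => ⟨ha1, ?_⟩)
    intro h
    apply hb1
    have : π a * π b = π a * 1 := by rw [mul_one]; exact h.symm
    exact mul_left_cancel this
  have hinj' : Function.Injective dl' :=
    dihLift_injective (π a * π b) (π a) hr1 ha' hara' hord hnot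
  have hinj : Function.Injective dl := by
    intro w1 w2 h
    apply hinj'
    rw [← hcomp, ← hcomp, h]
  have hzD : z ∉ dl.range := by
    rintro ⟨w, hw⟩
    have h1 : dl' w = 1 := by
      rw [← hcomp, hw]
      have : z ∈ π.ker := by rw [hker]; exact mem_zpowers z
      exact this
    have h2 : w = 1 := hinj' (h1.trans (map_one dl').symm)
    rw [h2, map_one] at hw
    exact z_ne_one z hz2 hw.symm
  have hcardD : Nat.card dl.range = 2 ^ (j + 2) := by
    rw [← Nat.card_congr (MonoidHom.ofInjective hinj).toEquiv, DihedralGroup.nat_card]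
    ring
  have hcardH : Nat.card H = 2 * (2 ^ (j + 2) * u) := by
    rw [← hcard, ← Subgroup.card_mul_index π.ker, hker, Nat.card_zpowers, hz2,
      ← hker, Subgroup.index_ker, MonoidHom.range_eq_top.mpr hπ, Subgroup.card_top]
  have hidx : dl.range.index = 2 * u := by
    have h1 := Subgroup.card_mul_index dl.range
    rw [hcardD, hcardH] at h1
    have h2 : 0 < 2 ^ (j + 2) := by positivity
    apply Nat.eq_of_mul_eq_mul_left h2
    rw [h1]; ring
  exact exists_complement_of_index z hzc hz2 dl.range hzD u hu hidx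

end

end Cfsg.Agent.Lib.Helper2.DblCov
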