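/-
helper2: concrete dihedral data in `A_n` for `4 ≤ n ≤ 7`, and the conclusion: a non-split central
extension of `A_n` (`n ≤ 7`) by a group of order two has a unique involution.
-/
import Mathlib
import Cfsg.Agent.Lib.Helper2.DblCovC

set_option autoImplicit false

namespace Cfsg.Agent.Lib.Helper2.DblCov

open Subgroup Equiv.Perm

theorem swap_mul_swap_mem {n : ℕ} {x y u v : Fin n} (hxy : x ≠ y) (huv : u ≠ v) :
    Equiv.swap x y * Equiv.swap u v ∈ alternatingGroup (Fin n) := by
  rw [mem_alternatingGroup, map_mul, sign_swap hxy, sign_swap huv]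
  decide

theorem card_alt (n : ℕ) (hn : 2 ≤ n) :
    2 * Nat.card (alternatingGroup (Fin n)) = n.factorial := by
  have : Nontrivial (Fin n) := Fin.nontrivial_iff_two_le.mpr hn
  rw [Nat.card_eq_fintype_card, two_mul_card_alternatingGroup, Fintype.card_perm,
    Fintype.card_fin]

/-- the data needed for the dihedral argument -/
def Data (n : ℕ) : Prop :=
  ∃ (j u : ℕ) (a' b' : alternatingGroup (Fin n)), Odd u ∧
    Nat.card (alternatingGroup (Fin n)) = 2 ^ (j + 2) * u ∧ a' * a' = 1 ∧ b' * b' = 1 ∧
    a' ≠ 1 ∧ b' ≠ 1 ∧ (a' * b') ^ 2 ^ (j + 1) = 1 ∧ (a' * b') ^ 2 ^ j ≠ 1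

theorem data4 : Data 4 := by
  refine ⟨0, 3, ⟨Equiv.swap 0 1 * Equiv.swap 2 3, swap_mul_swap_mem (by decide) (by decide)⟩,
    ⟨Equiv.swap 0 2 * Equiv.swap 1 3, swap_mul_swap_mem (by decide) (by decide)⟩,
    by decide, ?_, ?_, ?_, ?_, ?_, ?_, ?_⟩
  · have := card_alt 4 (by norm_num)
    have h : Nat.factorial 4 = 24 := by decide
    omega
  · apply Subtype.ext; simp only [Subgroup.coe_mul, Subgroup.coe_one]; decide
  · apply Subtype.ext; simp only [Subgroup.coe_mul, Subgroup.coe_one]; decide
  · intro h; have := congrArg Subtype.val h; revert this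
    simp only [Subgroup.coe_one]; decide
  · intro h; have := congrArg Subtype.val h; revert this
    simp only [Subgroup.coe_one]; decide
  · apply Subtype.ext; simp only [Subgroup.coe_pow, Subgroup.coe_mul, Subgroup.coe_one]; decide
  · intro h; have := congrArg Subtype.val h; revert this
    simp only [Subgroup.coe_pow, Subgroup.coe_mul, Subgroup.coe_one]; decide

theorem data5 : Data 5 := by
  refine ⟨0, 15, ⟨Equiv.swap 0 1 * Equiv.swap 2 3, swap_mul_swap_mem (by decide) (by decide)⟩,
    ⟨Equiv.swap 0 2 * Equiv.swap 1 3, swap_mul_swap_mem (by decide) (by decide)⟩,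
    by decide, ?_, ?_, ?_, ?_, ?_, ?_, ?_⟩
  · have := card_alt 5 (by norm_num)
    have h : Nat.factorial 5 = 120 := by decide
    omega
  · apply Subtype.ext; simp only [Subgroup.coe_mul, Subgroup.coe_one]; decide
  · apply Subtype.ext; simp only [Subgroup.coe_mul, Subgroup.coe_one]; decide
  · intro h; have := congrArg Subtype.val h; revert this
    simp only [Subgroup.coe_one]; decide
  · intro h; have := congrArg Subtype.val h; revert this
    simp only [Subgroup.coe_one]; decide
  · apply Subtype.ext; simp only [Subgroup.coe_pow, Subgroup.coe_mul, Subgroup.coe_one]; decide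
  · intro h; have := congrArg Subtype.val h; revert this
    simp only [Subgroup.coe_pow, Subgroup.coe_mul, Subgroup.coe_one]; decide

theorem data6 : Data 6 := by
  refine ⟨1, 45, ⟨Equiv.swap 0 2 * Equiv.swap 4 5, swap_mul_swap_mem (by decide) (by decide)⟩,
    ⟨Equiv.swap 0 1 * Equiv.swap 2 3, swap_mul_swap_mem (by decide) (by decide)⟩,
    by decide, ?_, ?_, ?_, ?_, ?_, ?_, ?_⟩
  · have := card_alt 6 (by norm_num)
    have h : Nat.factorial 6 = 720 := by decide
    omega
  · apply Subtype.ext; simp only [Subgroup.coe_mul, Subgroup.coe_one]; decide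
  · apply Subtype.ext; simp only [Subgroup.coe_mul, Subgroup.coe_one]; decide
  · intro h; have := congrArg Subtype.val h; revert this
    simp only [Subgroup.coe_one]; decide
  · intro h; have := congrArg Subtype.val h; revert this
    simp only [Subgroup.coe_one]; decide
  · apply Subtype.ext; simp only [Subgroup.coe_pow, Subgroup.coe_mul, Subgroup.coe_one]; decide
  · intro h; have := congrArg Subtype.val h; revert this
    simp only [Subgroup.coe_pow, Subgroup.coe_mul, Subgroup.coe_one]; decide

theorem data7 : Data 7 := by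
  refine ⟨1, 315, ⟨Equiv.swap 0 2 * Equiv.swap 4 5, swap_mul_swap_mem (by decide) (by decide)⟩,
    ⟨Equiv.swap 0 1 * Equiv.swap 2 3, swap_mul_swap_mem (by decide) (by decide)⟩,
    by decide, ?_, ?_, ?_, ?_, ?_, ?_, ?_⟩
  · have := card_alt 7 (by norm_num)
    have h : Nat.factorial 7 = 5040 := by decide
    omega
  · apply Subtype.ext; simp only [Subgroup.coe_mul, Subgroup.coe_one]; decide
  · apply Subtype.ext; simp only [Subgroup.coe_mul, Subgroup.coe_one]; decide
  · intro h; have := congrArg Subtype.val h; revert this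
    simp only [Subgroup.coe_one]; decide
  · intro h; have := congrArg Subtype.val h; revert this
    simp only [Subgroup.coe_one]; decide
  · apply Subtype.ext; simp only [Subgroup.coe_pow, Subgroup.coe_mul, Subgroup.coe_one]; decide
  · intro h; have := congrArg Subtype.val h; revert this
    simp only [Subgroup.coe_pow, Subgroup.coe_mul, Subgroup.coe_one]; decide

theorem data_exists (n : ℕ) (h4 : 4 ≤ n) (h7 : n ≤ 7) : Data n := by
  interval_cases n
  · exact data4
  · exact data5
  · exact data6
  · exact data7

section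
variable {n : ℕ} {H : Type*} [Group H] [Finite H]
  (π : H →* alternatingGroup (Fin n)) (hπ : Function.Surjective π) (z : H)
  (hz2 : orderOf z = 2) (hker : π.ker = zpowers z) (hzc : z ∈ center H)

include hπ hz2 hker hzc in
/-- a non-split double cover of `A_n`, `n ≤ 7`, has a unique involution -/
theorem eq_z_of_involution (hn : n ≤ 7)
    (hns : ∀ L : Subgroup H, ¬ (zpowers z).IsComplement' L) (t : H) (ht : orderOf t = 2) :
    t = z := by
  by_contra htz
  have htt : t * t = 1 := by
    have := pow_orderOf_eq_one t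
    rwa [ht, pow_two] at this
  have ht1 : t ≠ 1 := by
    intro h
    rw [h, orderOf_one] at ht
    omega
  have hπt : π t ≠ 1 := by
    intro h
    have hmem : t ∈ zpowers z := by rw [← hker]; exact h
    rw [mem_zpowers_iff] at hmem
    obtain ⟨k, hk⟩ := hmem
    have hzz := z_mul_self z hz2
    rcases Int.even_or_odd k with hk2 | hk2
    · obtain ⟨i, rfl⟩ := hk2
      rw [zpow_add, ← (Commute.refl _).mul_zpow, hzz, one_zpow] at hk
      exact ht1 hk.symm
    · obtain ⟨i, rfl⟩ := hk2
      rw [zpow_add, zpow_one, two_mul, zpow_add, ← (Commute.refl _).mul_zpow, hzz, one_zpow,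
        one_mul] at hk
      exact htz hk.symm
  have hot : orderOf (π t) = 2 :=
    orderOf_eq_prime (by rw [pow_two, ← map_mul, htt, map_one]) hπt
  have hot' : orderOf ((π t : alternatingGroup (Fin n)) : Equiv.Perm (Fin n)) = 2 := by
    rw [← hot]; exact Subgroup.orderOf_coe (π t)
  have hct := cycleType_of_involution hn _ hot' (mem_alternatingGroup.mp (π t).2)
  have h4 : 4 ≤ n := by
    have := sum_cycleType_le ((π t : alternatingGroup (Fin n)) : Equiv.Perm (Fin n))
    rw [hct, Fintype.card_fin] at this
    simpa using this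
  obtain ⟨j, u, a', b', hu, hcard, ha', hb', ha1, hb1, hr1, hr2⟩ := data_exists n h4 hn
  obtain ⟨K, hK⟩ := exists_complement_of_dihedral π hπ z hz2 hker hzc hn t ht hπt j u hu hcard
    a' b' ha' hb' ha1 hb1 hr1 hr2
  exact hns K hK

end

end Cfsg.Agent.Lib.Helper2.DblCov
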