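/-
helper2: the double cover `Gam 8` of `A_8` is a non-split double cover (in the sense
`Cfsg.IsNonsplitDoubleCover`) with a non-central involution.
-/
import Mathlib
import Cfsg.Prelude.Def_SporadicB
import Cfsg.Agent.Lib.Helper2.SpinAlt3

set_option autoImplicit false

namespace Cfsg.Agent.Lib.Helper2.DblCov

open Subgroup Cfsg.Agent.Lib.Helper2.SpinAlt

variable {n : ℕ}

theorem center_Gam (hn : 4 ≤ n) : center (Gam n) = zpowers (zc hn) := by
  apply le_antisymm
  · intro g hg
    rw [← ker_toAlt hn, MonoidHom.mem_ker]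
    have h1 : toAlt n g ∈ center (alternatingGroup (Fin n)) := by
      rw [mem_center_iff]
      intro y
      obtain ⟨y', rfl⟩ := toAlt_surjective y
      rw [mem_center_iff] at hg
      rw [← map_mul, ← map_mul, hg y']
    rw [alternatingGroup.center_eq_bot (by rw [Nat.card_eq_fintype_card, Fintype.card_fin]; exact hn)] at h1
    exact h1
  · rw [zpowers_le]
    exact zc_mem_center hn

theorem gam_nonsplit (hn : 4 ≤ n) :
    Cfsg.IsNonsplitDoubleCover (Gam n) (alternatingGroup (Fin n)) := by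
  refine ⟨?_, ⟨?_⟩, ?_⟩
  · rw [center_Gam hn, Nat.card_zpowers, orderOf_zc hn]
  · exact (QuotientGroup.quotientMulEquivOfEq ((center_Gam hn).trans (ker_toAlt hn).symm)).trans
      (QuotientGroup.quotientKerEquivOfSurjective _ toAlt_surjective)
  · intro L hL
    -- `L` has index 2, hence is normal with abelian quotient, so contains the commutator
    have hfin : Finite (Gam n) := finite_Gam hn
    have hcard := hL.card_mul_card
    have hc2 : Nat.card (center (Gam n)) = 2 := by
      rw [center_Gam hn, Nat.card_zpowers, orderOf_zc hn]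
    have hidx : L.index = 2 := by
      have h1 := Subgroup.card_mul_index L
      rw [← hcard, hc2] at h1
      have hpos : 0 < Nat.card L := Nat.card_pos
      have : Nat.card L * L.index = Nat.card L * 2 := by rw [h1]; ring
      exact Nat.eq_of_mul_eq_mul_left hpos this
    have hLn : L.Normal := Subgroup.normal_of_index_eq_two hidx
    have hcomm : commutator (Gam n) ≤ L := by
      have hcq : Nat.card (Gam n ⧸ L) = 2 := hidx
      have : Fact (Nat.Prime 2) := ⟨Nat.prime_two⟩
      have hcyc : IsCyclic (Gam n ⧸ L) := isCyclic_of_prime_card hcq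
      let _ : CommGroup (Gam n ⧸ L) := IsCyclic.commGroup
      have h := Abelianization.commutator_subset_ker (QuotientGroup.mk' L)
      rwa [QuotientGroup.ker_mk'] at h
    have hz : zc hn ∈ L := hcomm (zc_mem_commutator hn)
    have hdisj := hL.disjoint
    rw [disjoint_def] at hdisj
    exact zc_ne_one hn (hdisj (zc_mem_center hn) hz)

end Cfsg.Agent.Lib.Helper2.DblCov

namespace Cfsg.Agent.Lib.Helper2.DblCov

open Subgroup Cfsg.Agent.Lib.Helper2.SpinAlt

variable {n : ℕ}

theorem a_sq {i j k l : Fin n} (hij : i ≠ j) (hkl : k ≠ l) (hik : i ≠ k) (hil : i ≠ l)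
    (hjk : j ≠ k) (hjl : j ≠ l) : a i j k l * a i j k l = -1 := by
  have h1 : a k l i j = -a i j k l := by
    unfold a
    rw [x_mul_x hkl i j, Equiv.swap_apply_of_ne_of_ne hik hil, Equiv.swap_apply_of_ne_of_ne hjk hjl]
  have h2 := a_mul_a_rev (n := n) hij hkl
  rw [h1, mul_neg] at h2
  exact neg_eq_iff_eq_neg.mp h2

theorem a_comm_a {i j k l i' j' k' l' : Fin n} (hij : i ≠ j) (hkl : k ≠ l)
    (h1 : i' ≠ i) (h2 : i' ≠ j) (h3 : i' ≠ k) (h4 : i' ≠ l)
    (h5 : j' ≠ i) (h6 : j' ≠ j) (h7 : j' ≠ k) (h8 : j' ≠ l)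
    (g1 : k' ≠ i) (g2 : k' ≠ j) (g3 : k' ≠ k) (g4 : k' ≠ l)
    (g5 : l' ≠ i) (g6 : l' ≠ j) (g7 : l' ≠ k) (g8 : l' ≠ l) :
    a i j k l * a i' j' k' l' = a i' j' k' l' * a i j k l := by
  have hfix : ∀ m : Fin n, m ≠ i → m ≠ j → m ≠ k → m ≠ l →
      (Equiv.swap i j * Equiv.swap k l) m = m := by
    intro m m1 m2 m3 m4
    rw [Equiv.Perm.mul_apply, Equiv.swap_apply_of_ne_of_ne m3 m4,
      Equiv.swap_apply_of_ne_of_ne m1 m2]
  have e1 := a_mul_x hij hkl i' j'
  have e2 := a_mul_x hij hkl k' l'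
  rw [hfix i' h1 h2 h3 h4, hfix j' h5 h6 h7 h8] at e1
  rw [hfix k' g1 g2 g3 g4, hfix l' g5 g6 g7 g8] at e2
  conv_lhs => rw [show a i' j' k' l' = x i' j' * x k' l' from rfl]
  rw [← mul_assoc, e1, mul_assoc, e2, ← mul_assoc]
  rfl

end Cfsg.Agent.Lib.Helper2.DblCov

namespace Cfsg.Agent.Lib.Helper2.DblCov

open Subgroup Cfsg.Agent.Lib.Helper2.SpinAlt

/-- first factor of the non-central involution of `Gam 8` -/
noncomputable def t1 : Gam 8 :=
  ⟨gen (0 : Fin 8) 1 2 3 (by decide) (by decide), gen_mem _ _ _ _ _ _⟩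

/-- second factor of the non-central involution of `Gam 8` -/
noncomputable def t2 : Gam 8 :=
  ⟨gen (4 : Fin 8) 5 6 7 (by decide) (by decide), gen_mem _ _ _ _ _ _⟩

/-- the non-central involution of `Gam 8` -/
noncomputable def tt : Gam 8 := t1 * t2

theorem tt_snd : (tt : Gam 8).1.2 =
    Equiv.swap (0 : Fin 8) 1 * Equiv.swap 2 3 * (Equiv.swap 4 5 * Equiv.swap 6 7) := rfl

theorem tt_fst_val : (((tt : Gam 8).1.1 : (CliffordAlgebra (Qf 8))ˣ) : CliffordAlgebra (Qf 8)) =
    a (0 : Fin 8) 1 2 3 * a 4 5 6 7 := rfl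

theorem tt_mul_self : tt * tt = 1 := by
  apply Subtype.ext
  rw [Subgroup.coe_mul, Subgroup.coe_one]
  apply Prod.ext
  · apply Units.ext
    rw [Prod.fst_mul, Units.val_mul, tt_fst_val, Prod.fst_one, Units.val_one]
    have hA : a (0 : Fin 8) 1 2 3 * a 0 1 2 3 = -1 :=
      a_sq (by decide) (by decide) (by decide) (by decide) (by decide) (by decide)
    have hB : a (4 : Fin 8) 5 6 7 * a 4 5 6 7 = -1 :=
      a_sq (by decide) (by decide) (by decide) (by decide) (by decide) (by decide)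
    have hAB : a (0 : Fin 8) 1 2 3 * a 4 5 6 7 = a 4 5 6 7 * a 0 1 2 3 :=
      a_comm_a (by decide) (by decide) (by decide) (by decide) (by decide) (by decide)
        (by decide) (by decide) (by decide) (by decide) (by decide) (by decide)
        (by decide) (by decide) (by decide) (by decide) (by decide) (by decide)
    calc a (0 : Fin 8) 1 2 3 * a 4 5 6 7 * (a 0 1 2 3 * a 4 5 6 7)
        = a (0 : Fin 8) 1 2 3 * (a 4 5 6 7 * a 0 1 2 3) * a 4 5 6 7 := by simp only [mul_assoc]
      _ = (a (0 : Fin 8) 1 2 3 * a 0 1 2 3) * (a 4 5 6 7 * a 4 5 6 7) := by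
          rw [← hAB]; simp only [mul_assoc]
      _ = 1 := by rw [hA, hB, neg_mul_neg, one_mul]
  · rw [Prod.snd_mul, tt_snd, Prod.snd_one]
    decide

theorem tt_snd_ne_one : (tt : Gam 8).1.2 ≠ 1 := by
  rw [tt_snd]
  decide

theorem tt_ne_one : tt ≠ 1 := by
  intro h
  apply tt_snd_ne_one
  rw [h]
  rfl

theorem tt_ne_zc : tt ≠ zc (n := 8) (by norm_num) := by
  intro h
  apply tt_snd_ne_one
  rw [h, zc_snd]

theorem orderOf_tt : orderOf tt = 2 :=
  orderOf_eq_prime (by rw [pow_two]; exact tt_mul_self) tt_ne_one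

end Cfsg.Agent.Lib.Helper2.DblCov
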