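import Mathlib
import Cfsg.Agent.Lib.Helper2.Dihedral

/-!
# The subgroup generated by two involutions is dihedral (helper2 library)
-/

set_option autoImplicit false

namespace Cfsg.Agent.Lib.Helper2

section DihIso

variable {G : Type*} [Group G]

/-- `g ^ i` for `i : ZMod (orderOf g)` -/
noncomputable def rotPow (g : G) (i : ZMod (orderOf g)) : G := g ^ (i.cast : ℤ)

theorem rotPow_eq (g : G) (a : ℤ) (i : ZMod (orderOf g)) (h : (a : ZMod (orderOf g)) = i) :
    g ^ a = rotPow g i := by
  unfold rotPow
  rw [zpow_eq_zpow_iff_modEq]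
  rw [← ZMod.intCast_eq_intCast_iff, h, ZMod.intCast_zmod_cast]

theorem rotPow_inj (g : G) (i j : ZMod (orderOf g)) (h : rotPow g i = rotPow g j) : i = j := by
  unfold rotPow at h
  rw [zpow_eq_zpow_iff_modEq, ← ZMod.intCast_eq_intCast_iff] at h
  simpa [ZMod.intCast_zmod_cast] using h

theorem rotPow_mem_zpowers (g : G) (i : ZMod (orderOf g)) : rotPow g i ∈ Subgroup.zpowers g :=
  Subgroup.zpow_mem_zpowers _ _

variable {x y : G}

/-- The map from the abstract dihedral group. -/
noncomputable def dihFun (x y : G) : DihedralGroup (orderOf (x * y)) → G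
  | DihedralGroup.r i => rotPow (x * y) i
  | DihedralGroup.sr i => x * rotPow (x * y) i

theorem dihFun_mul (hx : x * x = 1) (hy : y * y = 1) (a b : DihedralGroup (orderOf (x * y))) :
    dihFun x y (a * b) = dihFun x y a * dihFun x y b := by
  cases a with
  | r i =>
    cases b with
    | r j =>
      show rotPow (x * y) (i + j) = rotPow (x * y) i * rotPow (x * y) j
      rw [← rotPow_eq (x * y) ((i.cast : ℤ) + (j.cast : ℤ)) (i + j) (by push_cast; simp), zpow_add]
      rfl
    | sr j =>
      show x * rotPow (x * y) (j - i) = rotPow (x * y) i * (x * rotPow (x * y) j)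
      rw [← rotPow_eq (x * y) (-(i.cast : ℤ) + (j.cast : ℤ)) (j - i) (by push_cast; ring),
        zpow_add, ← mul_assoc, ← mul_assoc]
      congr 1
      exact (dih_zpow_mul_x hx hy _).symm
  | sr i =>
    cases b with
    | r j =>
      show x * rotPow (x * y) (i + j) = x * rotPow (x * y) i * rotPow (x * y) j
      rw [← rotPow_eq (x * y) ((i.cast : ℤ) + (j.cast : ℤ)) (i + j) (by push_cast; simp), zpow_add,
        mul_assoc]
      rfl
    | sr j =>
      show rotPow (x * y) (j - i) = x * rotPow (x * y) i * (x * rotPow (x * y) j)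
      rw [← rotPow_eq (x * y) (-(i.cast : ℤ) + (j.cast : ℤ)) (j - i) (by push_cast; ring),
        zpow_add]
      have : x * rotPow (x * y) i * (x * rotPow (x * y) j)
          = x * (rotPow (x * y) i * x) * rotPow (x * y) j := by group
      rw [this]
      unfold rotPow
      rw [dih_zpow_mul_x hx hy, ← mul_assoc, hx, one_mul]

/-- The homomorphism from the abstract dihedral group. -/
noncomputable def dihHom (hx : x * x = 1) (hy : y * y = 1) :
    DihedralGroup (orderOf (x * y)) →* G where
  toFun := dihFun x y
  map_one' := by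
    show rotPow (x * y) 0 = 1
    rw [← rotPow_eq (x * y) 0 0 (by simp), zpow_zero]
  map_mul' := dihFun_mul hx hy

theorem dihHom_injective (hx : orderOf x = 2) (hy : orderOf y = 2) :
    Function.Injective (dihHom (invol_mul_self hx) (invol_mul_self hy)) := by
  have hx2 := invol_mul_self hx
  have hnot := dih_x_not_mem_zpowers hx hy
  intro a b hab
  change dihFun x y a = dihFun x y b at hab
  cases a with
  | r i =>
    cases b with
    | r j =>
      change rotPow (x * y) i = rotPow (x * y) j at hab
      rw [rotPow_inj _ _ _ hab]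
    | sr j =>
      exfalso
      change rotPow (x * y) i = x * rotPow (x * y) j at hab
      apply hnot
      have : x = rotPow (x * y) i * (rotPow (x * y) j)⁻¹ := by rw [hab]; group
      have hm : rotPow (x * y) i * (rotPow (x * y) j)⁻¹ ∈ Subgroup.zpowers (x * y) :=
        Subgroup.mul_mem _ (rotPow_mem_zpowers _ _) (Subgroup.inv_mem _ (rotPow_mem_zpowers _ _))
      rwa [← this] at hm
  | sr i =>
    cases b with
    | r j =>
      exfalso
      change x * rotPow (x * y) i = rotPow (x * y) j at hab
      apply hnot
      have : x = rotPow (x * y) j * (rotPow (x * y) i)⁻¹ := by rw [← hab]; group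
      have hm : rotPow (x * y) j * (rotPow (x * y) i)⁻¹ ∈ Subgroup.zpowers (x * y) :=
        Subgroup.mul_mem _ (rotPow_mem_zpowers _ _) (Subgroup.inv_mem _ (rotPow_mem_zpowers _ _))
      rwa [← this] at hm
    | sr j =>
      change x * rotPow (x * y) i = x * rotPow (x * y) j at hab
      rw [rotPow_inj _ _ _ (mul_left_cancel hab)]

theorem dihHom_range (hx : x * x = 1) (hy : y * y = 1) :
    (dihHom hx hy).range = Subgroup.closure ({x, y} : Set G) := by
  have hxm : x ∈ Subgroup.closure ({x, y} : Set G) := Subgroup.subset_closure (by simp)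
  have hym : y ∈ Subgroup.closure ({x, y} : Set G) := Subgroup.subset_closure (by simp)
  apply le_antisymm
  · rintro _ ⟨a, rfl⟩
    change dihFun x y a ∈ _
    cases a with
    | r i => exact Subgroup.zpow_mem _ (Subgroup.mul_mem _ hxm hym) _
    | sr i => exact Subgroup.mul_mem _ hxm (Subgroup.zpow_mem _ (Subgroup.mul_mem _ hxm hym) _)
  · intro d hd
    obtain ⟨i, h | h⟩ := (dih_mem_closure hx hy d).mp hd
    · refine ⟨DihedralGroup.r (i : ZMod (orderOf (x * y))), ?_⟩
      rw [h]
      exact (rotPow_eq (x * y) i _ rfl).symm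
    · refine ⟨DihedralGroup.sr ((-i : ℤ) : ZMod (orderOf (x * y))), ?_⟩
      rw [h, dih_zpow_mul_x hx hy]
      change x * rotPow (x * y) _ = _
      rw [← rotPow_eq (x * y) (-i) _ rfl]

/-- Two involutions generate a dihedral group. -/
noncomputable def dihEquiv (hx : orderOf x = 2) (hy : orderOf y = 2) :
    ↥(Subgroup.closure ({x, y} : Set G)) ≃* DihedralGroup (orderOf (x * y)) :=
  ((MonoidHom.ofInjective (dihHom_injective hx hy)).trans
    (MulEquiv.subgroupCongr (dihHom_range (invol_mul_self hx) (invol_mul_self hy)))).symm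

theorem card_closure_pair (hx : orderOf x = 2) (hy : orderOf y = 2) :
    Nat.card ↥(Subgroup.closure ({x, y} : Set G)) = 2 * orderOf (x * y) := by
  rw [Nat.card_congr (dihEquiv hx hy).toEquiv, DihedralGroup.nat_card]

end DihIso

end Cfsg.Agent.Lib.Helper2
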