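import Mathlib
import Cfsg.Agent.Lib.Helper10.PGroupBasic
/-!
# The dissection argument for a `p`-group with two orbits of size `p²` (helper2)

`Q` a finite `p`-group acting on `Ω`, `z` central with fixed point set `Δ` and all point stabilisers
of index `p²`, `Q` transitive on `Δ` and on its complement `Γ`.  Then there is `w ∈ Q` acting
without fixed points on `Δ`, with `w ^ p` trivial on `Δ`, such that for `α ∈ Δ`, `β ∈ Γ` some
element of `Q` maps `α` to `w α` and `β` to `z β`.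
-/

set_option autoImplicit false

namespace Cfsg.Agent.Lib.Helper2.Dissect

open MulAction

variable {Q : Type*} [Group Q] {Ω : Type*} [MulAction Q Ω]

/-- the pointwise stabiliser of the fixed points of `z` -/
def fixK (Ω : Type*) [MulAction Q Ω] (z : Q) : Subgroup Q where
  carrier := {g | ∀ δ : Ω, z • δ = δ → g • δ = δ}
  one_mem' := fun δ _ => one_smul Q δ
  mul_mem' := by
    intro a b ha hb δ hδ
    rw [mul_smul, hb δ hδ, ha δ hδ]
  inv_mem' := by
    intro a ha δ hδ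
    rw [inv_smul_eq_iff, ha δ hδ]

theorem mem_fixK {z g : Q} :
    g ∈ fixK Ω z ↔ ∀ δ : Ω, z • δ = δ → g • δ = δ := Iff.rfl

theorem fixed_smul {z : Q} (hz : z ∈ Subgroup.center Q) (g : Q) {δ : Ω} (hδ : z • δ = δ) :
    z • (g • δ) = g • δ := by
  rw [← mul_smul, ← (Subgroup.mem_center_iff.mp hz g), mul_smul, hδ]

theorem moved_smul {z : Q} (hz : z ∈ Subgroup.center Q) (g : Q) {β : Ω} (hβ : z • β ≠ β) :
    z • (g • β) ≠ g • β := by
  intro h
  apply hβ
  have := fixed_smul hz g⁻¹ h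
  rwa [inv_smul_smul] at this

theorem fixK_normal {z : Q} (hz : z ∈ Subgroup.center Q) : (fixK Ω z).Normal := by
  constructor
  intro k hk g δ hδ
  rw [mul_smul, mul_smul, hk _ (fixed_smul hz g⁻¹ hδ), smul_inv_smul]

theorem z_mem_fixK (z : Q) : z ∈ fixK Ω z :=
  fun _ hδ => hδ

/-- the stabiliser of the `K`-orbit of `β₀` -/
def blockS {z : Q} (hz : z ∈ Subgroup.center Q) (β₀ : Ω) : Subgroup Q where
  carrier := {g | ∃ k ∈ fixK Ω z, g • β₀ = k • β₀}
  one_mem' := ⟨1, Subgroup.one_mem _, rfl⟩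
  mul_mem' := by
    rintro a b ⟨ka, hka, ha⟩ ⟨kb, hkb, hb⟩
    refine ⟨(a * kb * a⁻¹) * ka, Subgroup.mul_mem _ ((fixK_normal hz).conj_mem kb hkb a) hka, ?_⟩
    rw [mul_smul, hb, mul_smul, ← ha, ← mul_smul, ← mul_smul]
    congr 1
    group
  inv_mem' := by
    rintro a ⟨ka, hka, ha⟩
    refine ⟨(a⁻¹ * ka * a⁻¹⁻¹)⁻¹, Subgroup.inv_mem _ ((fixK_normal hz).conj_mem ka hka a⁻¹), ?_⟩
    rw [eq_comm, inv_smul_eq_iff, ← mul_smul]
    have : a⁻¹ * ka * a⁻¹⁻¹ * a⁻¹ = a⁻¹ * ka := by group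
    rw [this, mul_smul, ← ha, inv_smul_smul]

theorem mem_blockS {z : Q} {hz : z ∈ Subgroup.center Q} {β₀ : Ω} {g : Q} :
    g ∈ blockS hz β₀ ↔ ∃ k ∈ fixK Ω z, g • β₀ = k • β₀ := Iff.rfl

theorem fixK_le_blockS {z : Q} (hz : z ∈ Subgroup.center Q) (β₀ : Ω) :
    fixK Ω z ≤ blockS hz β₀ := fun k hk => ⟨k, hk, rfl⟩

theorem stabilizer_le_blockS {z : Q} (hz : z ∈ Subgroup.center Q) (β₀ : Ω) :
    stabilizer Q β₀ ≤ blockS hz β₀ := by
  intro g hg
  refine ⟨1, Subgroup.one_mem _, ?_⟩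
  rw [one_smul]
  exact hg

/-- the index of `blockS` is `1` or `p` -/
theorem index_blockS {p : ℕ} (hp : p.Prime) [Finite Q] {z : Q} (hz : z ∈ Subgroup.center Q)
    {β₀ : Ω} (hβ₀ : z • β₀ ≠ β₀) (hidx : (stabilizer Q β₀).index = p ^ 2) :
    (blockS hz β₀).index = 1 ∨ (blockS hz β₀).index = p := by
  have hle := stabilizer_le_blockS hz β₀
  have hmul := Subgroup.relIndex_mul_index hle
  rw [hidx] at hmul
  have hdvd : (blockS hz β₀).index ∣ p ^ 2 := Dvd.intro_left _ hmul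
  obtain ⟨i, hi, hi2⟩ := (Nat.dvd_prime_pow hp).mp hdvd
  interval_cases i
  · left; simpa using hi2
  · right; simpa using hi2
  · exfalso
    rw [hi2] at hmul
    have h1 : (stabilizer Q β₀).relIndex (blockS hz β₀) = 1 := by
      have hpos : 0 < p ^ 2 := pow_pos hp.pos 2
      exact Nat.eq_of_mul_eq_mul_right hpos (by rw [hmul, one_mul])
    rw [Subgroup.relIndex_eq_one] at h1
    have := h1 (fixK_le_blockS hz β₀ (z_mem_fixK z))
    exact hβ₀ this

theorem blockS_normal {p : ℕ} [hp : Fact p.Prime] [Finite Q] (hQ : IsPGroup p Q) {z : Q}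
    (hz : z ∈ Subgroup.center Q)
    {β₀ : Ω} (hβ₀ : z • β₀ ≠ β₀) (hidx : (stabilizer Q β₀).index = p ^ 2) :
    (blockS hz β₀).Normal := by
  rcases index_blockS hp.out hz hβ₀ hidx with h | h
  · exact Subgroup.normal_of_index_eq_one h
  · apply Subgroup.normal_of_index_eq_minFac_card
    rw [h]
    obtain ⟨n, hn⟩ := IsPGroup.iff_card.mp hQ
    have hn0 : n ≠ 0 := by
      rintro rfl
      rw [pow_zero] at hn
      have hsub : Subsingleton Q := (Nat.card_eq_one_iff_unique.mp hn).1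
      exact hβ₀ (by rw [Subsingleton.elim z 1, one_smul])
    rw [hn, Nat.Prime.pow_minFac hp.out hn0]

/-- elements of the normal subgroup `blockS` preserve every `K`-orbit in the orbit of `β₀` -/
theorem blockS_smul {z : Q} (hz : z ∈ Subgroup.center Q) {β₀ : Ω} (hn : (blockS hz β₀).Normal)
    {w : Q} (hw : w ∈ blockS hz β₀) (h : Q) :
    ∃ k ∈ fixK Ω z, w • (h • β₀) = k • (h • β₀) := by
  obtain ⟨k, hk, hk2⟩ := hn.conj_mem w hw h⁻¹
  refine ⟨h * k * h⁻¹, (fixK_normal hz).conj_mem k hk h, ?_⟩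
  rw [mul_smul, mul_smul, inv_smul_smul, ← hk2, ← mul_smul, ← mul_smul]
  congr 1
  group

end Cfsg.Agent.Lib.Helper2.Dissect
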