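import Mathlib
import Cfsg.Agent.Lib.Helper2.DissectA
/-!
# The dissection argument, continued: the element `w` (helper2)
-/

set_option autoImplicit false

namespace Cfsg.Agent.Lib.Helper2.Dissect

open MulAction

variable {Q : Type*} [Group Q] {Ω : Type*} [MulAction Q Ω]

theorem exists_w (p : ℕ) [hp : Fact p.Prime] [Finite Q] (hQ : IsPGroup p Q) {z : Q}
    (hz : z ∈ Subgroup.center Q)
    (htΔ : ∀ a b : Ω, z • a = a → z • b = b → ∃ g : Q, g • a = b)
    (htΓ : ∀ a b : Ω, z • a ≠ a → z • b ≠ b → ∃ g : Q, g • a = b)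
    (hidx : ∀ ω : Ω, (stabilizer Q ω).index = p ^ 2)
    (hΔ : ∃ α : Ω, z • α = α) (hΓ : ∃ β : Ω, z • β ≠ β) :
    ∃ w : Q, (∀ δ : Ω, z • δ = δ → w • δ ≠ δ) ∧ (∀ δ : Ω, z • δ = δ → w ^ p • δ = δ) ∧
      ∀ α β : Ω, z • α = α → z • β ≠ β → ∃ g : Q, g • α = w • α ∧ g • β = z • β := by
  obtain ⟨α₀, hα₀⟩ := hΔ
  obtain ⟨β₀, hβ₀⟩ := hΓ
  have hKn : (fixK Ω z).Normal := fixK_normal hz
  have hSn : (blockS hz β₀).Normal := blockS_normal hQ hz hβ₀ (hidx β₀)
  have hp2 : 2 ≤ p := hp.out.two_le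
  -- index of K is at least p^2
  have hKidx : p ^ 2 ≤ (fixK Ω z).index := by
    have hle : fixK Ω z ≤ stabilizer Q α₀ := fun k hk => hk α₀ hα₀
    have hd := Subgroup.index_dvd_of_le hle
    rw [hidx α₀] at hd
    exact Nat.le_of_dvd (Nat.pos_of_ne_zero Subgroup.index_ne_zero_of_finite) hd
  have hSidx : (blockS hz β₀).index ≤ p := by
    rcases index_blockS hp.out hz hβ₀ (hidx β₀) with h | h
    · rw [h]; omega
    · rw [h]
  -- an element of S outside K
  have hex : ∃ s ∈ blockS hz β₀, s ∉ fixK Ω z := by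
    by_contra hcon
    push Not at hcon
    have heq : blockS hz β₀ = fixK Ω z := le_antisymm hcon (fixK_le_blockS hz β₀)
    rw [heq] at hSidx
    nlinarith
  obtain ⟨s, hsS, hsK⟩ := hex
  -- the quotient
  set π := QuotientGroup.mk' (fixK Ω z) with hπ
  have hNn : ((blockS hz β₀).map π).Normal :=
    Subgroup.Normal.map hSn π (QuotientGroup.mk'_surjective _)
  have hNne : (blockS hz β₀).map π ≠ ⊥ := by
    intro h
    have hmem : π s ∈ (blockS hz β₀).map π := Subgroup.mem_map_of_mem π hsS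
    rw [h, Subgroup.mem_bot] at hmem
    exact hsK ((QuotientGroup.eq_one_iff s).mp hmem)
  have hQq : IsPGroup p (Q ⧸ fixK Ω z) := hQ.to_quotient _
  obtain ⟨x, hxN, hxc, hx1⟩ :=
    Cfsg.Agent.Lib.Helper10.exists_mem_center_of_normal_ne_bot p hQq ((blockS hz β₀).map π) hNne
  -- an element of order p
  have hpx : p ∣ orderOf x := by
    obtain ⟨k, hk⟩ := (IsPGroup.iff_orderOf.mp hQq) x
    rcases Nat.eq_zero_or_pos k with rfl | hkpos
    · rw [pow_zero] at hk
      exact absurd (orderOf_eq_one_iff.mp hk) hx1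
    · rw [hk]; exact dvd_pow_self p hkpos.ne'
  set y := x ^ (orderOf x / p) with hy
  have hyord : orderOf y = p := orderOf_pow_orderOf_div (orderOf_pos x).ne' hpx
  have hyN : y ∈ (blockS hz β₀).map π := Subgroup.pow_mem _ hxN _
  have hyc : y ∈ Subgroup.center (Q ⧸ fixK Ω z) := Subgroup.pow_mem _ hxc _
  obtain ⟨w, hwS, hwy⟩ := Subgroup.mem_map.mp hyN
  refine ⟨w, ?_, ?_, ?_⟩
  · -- fixed point free on Δ
    intro δ hδ hwδ
    have hwK : w ∈ fixK Ω z := by
      intro δ' hδ'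
      obtain ⟨g, hg⟩ := htΔ δ δ' hδ hδ'
      have hcomm : π g * π w = π w * π g := by
        rw [hwy]; exact Subgroup.mem_center_iff.mp hyc (π g)
      rw [← map_mul, ← map_mul] at hcomm
      have hk : (g * w)⁻¹ * (w * g) ∈ fixK Ω z := QuotientGroup.eq.mp hcomm
      have hkδ := hk δ hδ
      have : w * g = (g * w) * ((g * w)⁻¹ * (w * g)) := by group
      rw [← hg, ← mul_smul, this, mul_smul, hkδ, mul_smul, hwδ]
    have : π w = 1 := (QuotientGroup.eq_one_iff w).mpr hwK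
    rw [hwy] at this
    rw [this, orderOf_one] at hyord
    exact hp.out.one_lt.ne hyord
  · intro δ hδ
    have hwp : w ^ p ∈ fixK Ω z := by
      rw [← QuotientGroup.eq_one_iff]
      change π (w ^ p) = 1
      rw [map_pow, hwy, ← hyord, pow_orderOf_eq_one]
    exact hwp δ hδ
  · intro α β hα hβ
    obtain ⟨h, hh⟩ := htΓ β₀ β hβ₀ hβ
    obtain ⟨k, hk, hk2⟩ := blockS_smul hz hSn hwS h
    rw [hh] at hk2
    refine ⟨z * k⁻¹ * w, ?_, ?_⟩
    · have hwα : z • (w • α) = w • α := fixed_smul hz w hα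
      rw [mul_smul, mul_smul, (fixK Ω z).inv_mem hk (w • α) hwα, hwα]
    · rw [mul_smul, mul_smul, hk2, inv_smul_smul]

end Cfsg.Agent.Lib.Helper2.Dissect
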