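import Mathlib
import Cfsg.Agent.Lib.Helper2.DissectB
/-!
# The dissection argument: Sylow orbits of a transitive group of degree `2p²` and the glued
permutation (helper2)
-/

set_option autoImplicit false
set_option linter.unusedSectionVars false
set_option linter.unusedVariables false

namespace Cfsg.Agent.Lib.Helper2.Dissect

open MulAction

section sylow

variable {G Ω : Type*} [Group G] [Finite G] [MulAction G Ω] [Finite Ω]

/-- every orbit of a Sylow `p`-subgroup of a transitive group of degree `2p²` has size divisible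
by `p²` -/
theorem sq_dvd_index_stabilizer (htrans : MulAction.IsPretransitive G Ω) (p : ℕ) [hp : Fact p.Prime]
    (hcard : Nat.card Ω = 2 * p ^ 2) (P : Sylow p G) (ω : Ω) :
    p ^ 2 ∣ (stabilizer ↥(P : Subgroup G) ω).index := by
  set A := stabilizer ↥(P : Subgroup G) ω with hA
  have hcardP : Nat.card ↥(P : Subgroup G) = p ^ (Nat.card G).factorization p :=
    Sylow.card_eq_multiplicity P
  have hAmul := Subgroup.card_mul_index A
  have hApg : IsPGroup p A := P.isPGroup'.to_subgroup A
  obtain ⟨k, hk⟩ := IsPGroup.iff_card.mp hApg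
  -- card A divides card of the stabilizer in G
  have hle : A.map (P : Subgroup G).subtype ≤ stabilizer G ω := by
    rintro _ ⟨a, ha, rfl⟩
    exact ha
  have hcardmap : Nat.card (A.map (P : Subgroup G).subtype) = Nat.card A :=
    Subgroup.card_map_of_injective (Subgroup.subtype_injective _)
  have hd1 : Nat.card A ∣ Nat.card (stabilizer G ω) := by
    rw [← hcardmap]; exact Subgroup.card_dvd_of_le hle
  have hGmul := Subgroup.card_mul_index (stabilizer G ω)
  rw [MulAction.index_stabilizer_of_transitive G ω, hcard] at hGmul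
  have hd2 : p ^ (k + 2) ∣ Nat.card G := by
    rw [← hGmul, pow_add, ← hk]
    exact mul_dvd_mul hd1 (Dvd.intro_left 2 rfl)
  have hGne : Nat.card G ≠ 0 := Nat.card_pos.ne'
  have hk2 : k + 2 ≤ (Nat.card G).factorization p :=
    (hp.out.pow_dvd_iff_le_factorization hGne).mp hd2
  rw [hcardP, hk] at hAmul
  obtain ⟨j, hj⟩ : ∃ j, (Nat.card G).factorization p = k + 2 + j := Nat.exists_eq_add_of_le hk2
  rw [hj] at hAmul
  have hidx : A.index = p ^ (2 + j) := by
    have hpos : 0 < p ^ k := pow_pos hp.out.pos k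
    apply Nat.eq_of_mul_eq_mul_left hpos
    rw [hAmul, ← pow_add]
    congr 1
    omega
  rw [hidx, pow_add]
  exact Dvd.intro _ rfl

theorem exists_central_order_p (htrans : MulAction.IsPretransitive G Ω) (p : ℕ) [hp : Fact p.Prime]
    (hcard : Nat.card Ω = 2 * p ^ 2) (P : Sylow p G) :
    ∃ z : ↥(P : Subgroup G), z ∈ Subgroup.center ↥(P : Subgroup G) ∧ orderOf z = p := by
  have hne : Nonempty Ω := by
    have : 0 < Nat.card Ω := by rw [hcard]; have := hp.out.pos; positivity
    exact (Nat.card_pos_iff.mp this).1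
  obtain ⟨ω⟩ := hne
  have hdvd := sq_dvd_index_stabilizer htrans p hcard P ω
  have hnt : Nontrivial ↥(P : Subgroup G) := by
    by_contra hcon
    rw [not_nontrivial_iff_subsingleton] at hcon
    have h1 : (stabilizer ↥(P : Subgroup G) ω).index = 1 := by
      rw [Subgroup.index_eq_one]
      exact Subsingleton.elim _ _
    rw [h1] at hdvd
    have : p ^ 2 = 1 := Nat.dvd_one.mp hdvd
    have h2 := hp.out.two_le
    nlinarith
  have hQ : IsPGroup p ↥(P : Subgroup G) := P.isPGroup'
  have hcnt := IsPGroup.center_nontrivial hQ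
  have hcp : IsPGroup p (Subgroup.center ↥(P : Subgroup G)) := hQ.to_subgroup _
  have hpd : p ∣ Nat.card (Subgroup.center ↥(P : Subgroup G)) := by
    rcases hcp.card_eq_or_dvd with h | h
    · exfalso
      have := (Nat.card_eq_one_iff_unique.mp h).1
      exact not_subsingleton _ this
    · exact h
  obtain ⟨x, hx⟩ := exists_prime_orderOf_dvd_card' p hpd
  exact ⟨x.1, x.2, (Subgroup.orderOf_coe x).trans hx⟩

end sylow

section orbits

variable {Q : Type*} [Group Q] [Finite Q] {Ω : Type*} [MulAction Q Ω] [Finite Ω]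

/-- the fixed points of `z` and their complement are the two orbits, of size `p²` -/
theorem two_orbits (p : ℕ) [hp : Fact p.Prime] (hcard : Nat.card Ω = 2 * p ^ 2) {z : Q}
    (hz : z ∈ Subgroup.center Q)
    (hidx2 : ∀ ω : Ω, p ^ 2 ∣ (stabilizer Q ω).index)
    (hΔ : ∃ α : Ω, z • α = α) (hΓ : ∃ β : Ω, z • β ≠ β) :
    (∀ a b : Ω, z • a = a → z • b = b → ∃ g : Q, g • a = b) ∧
    (∀ a b : Ω, z • a ≠ a → z • b ≠ b → ∃ g : Q, g • a = b) ∧
    (∀ ω : Ω, (stabilizer Q ω).index = p ^ 2) := by
  set Δ : Set Ω := {ω | z • ω = ω} with hΔdef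
  have hsum : Δ.ncard + Δᶜ.ncard = 2 * p ^ 2 := by
    rw [Set.ncard_add_ncard_compl, hcard]
  have horb : ∀ ω : Ω, p ^ 2 ≤ (orbit Q ω).ncard := by
    intro ω
    rw [← MulAction.index_stabilizer]
    exact Nat.le_of_dvd (Nat.pos_of_ne_zero Subgroup.index_ne_zero_of_finite) (hidx2 ω)
  have hsubΔ : ∀ a : Ω, z • a = a → orbit Q a ⊆ Δ := by
    rintro a ha _ ⟨g, rfl⟩
    exact fixed_smul hz g ha
  have hsubΓ : ∀ a : Ω, z • a ≠ a → orbit Q a ⊆ Δᶜ := by
    rintro a ha _ ⟨g, rfl⟩
    exact moved_smul hz g ha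
  obtain ⟨α, hα⟩ := hΔ
  obtain ⟨β, hβ⟩ := hΓ
  have h1 : p ^ 2 ≤ Δ.ncard := le_trans (horb α) (Set.ncard_le_ncard (hsubΔ α hα) (Set.toFinite _))
  have h2 : p ^ 2 ≤ Δᶜ.ncard :=
    le_trans (horb β) (Set.ncard_le_ncard (hsubΓ β hβ) (Set.toFinite _))
  have h3 : Δ.ncard = p ^ 2 := by omega
  have h4 : Δᶜ.ncard = p ^ 2 := by omega
  have heqΔ : ∀ a : Ω, z • a = a → orbit Q a = Δ := fun a ha =>
    Set.eq_of_subset_of_ncard_le (hsubΔ a ha) (by rw [h3]; exact horb a) (Set.toFinite _)
  have heqΓ : ∀ a : Ω, z • a ≠ a → orbit Q a = Δᶜ := fun a ha =>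
    Set.eq_of_subset_of_ncard_le (hsubΓ a ha) (by rw [h4]; exact horb a) (Set.toFinite _)
  refine ⟨?_, ?_, ?_⟩
  · intro a b ha hb
    have : b ∈ orbit Q a := by rw [heqΔ a ha]; exact hb
    exact MulAction.mem_orbit_iff.mp this
  · intro a b ha hb
    have : b ∈ orbit Q a := by rw [heqΓ a ha]; exact hb
    exact MulAction.mem_orbit_iff.mp this
  · intro ω
    rw [MulAction.index_stabilizer]
    by_cases hω : z • ω = ω
    · rw [heqΔ ω hω, h3]
    · rw [heqΓ ω hω, h4]

end orbits

section perm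

variable {Q : Type*} [Group Q] {Ω : Type*} [MulAction Q Ω]

open Classical in
/-- the permutation acting as `w` on the fixed points of `z` and as `z` elsewhere -/
noncomputable def sigmaPerm {z : Q} (hz : z ∈ Subgroup.center Q) (w : Q) : Equiv.Perm Ω where
  toFun ω := if z • ω = ω then w • ω else z • ω
  invFun ω := if z • ω = ω then w⁻¹ • ω else z⁻¹ • ω
  left_inv ω := by
    by_cases h : z • ω = ω
    · show (if z • (if z • ω = ω then w • ω else z • ω) = (if z • ω = ω then w • ω else z • ω)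
        then w⁻¹ • (if z • ω = ω then w • ω else z • ω)
        else z⁻¹ • (if z • ω = ω then w • ω else z • ω)) = ω
      rw [if_pos h, if_pos (fixed_smul hz w h), inv_smul_smul]
    · show (if z • (if z • ω = ω then w • ω else z • ω) = (if z • ω = ω then w • ω else z • ω)
        then w⁻¹ • (if z • ω = ω then w • ω else z • ω)
        else z⁻¹ • (if z • ω = ω then w • ω else z • ω)) = ω
      rw [if_neg h, if_neg (moved_smul hz z h), inv_smul_smul]
  right_inv ω := by
    by_cases h : z • ω = ω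
    · show (if z • (if z • ω = ω then w⁻¹ • ω else z⁻¹ • ω) =
          (if z • ω = ω then w⁻¹ • ω else z⁻¹ • ω)
        then w • (if z • ω = ω then w⁻¹ • ω else z⁻¹ • ω)
        else z • (if z • ω = ω then w⁻¹ • ω else z⁻¹ • ω)) = ω
      rw [if_pos h, if_pos (fixed_smul hz w⁻¹ h), smul_inv_smul]
    · show (if z • (if z • ω = ω then w⁻¹ • ω else z⁻¹ • ω) =
          (if z • ω = ω then w⁻¹ • ω else z⁻¹ • ω)
        then w • (if z • ω = ω then w⁻¹ • ω else z⁻¹ • ω)
        else z • (if z • ω = ω then w⁻¹ • ω else z⁻¹ • ω)) = ω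
      rw [if_neg h, if_neg (moved_smul hz z⁻¹ h), smul_inv_smul]

open Classical in
theorem sigmaPerm_fixed {z : Q} (hz : z ∈ Subgroup.center Q) (w : Q) {ω : Ω} (h : z • ω = ω) :
    sigmaPerm hz w ω = w • ω := by
  show (if z • ω = ω then w • ω else z • ω) = _
  rw [if_pos h]

open Classical in
theorem sigmaPerm_moved {z : Q} (hz : z ∈ Subgroup.center Q) (w : Q) {ω : Ω} (h : z • ω ≠ ω) :
    sigmaPerm hz w ω = z • ω := by
  show (if z • ω = ω then w • ω else z • ω) = _
  rw [if_neg h]

end perm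

end Cfsg.Agent.Lib.Helper2.Dissect
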