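import Mathlib
import Cfsg.Agent.Lib.Helper16.SLMinDefs
import Cfsg.Agent.Lib.Helper16.SLMinSpine

/-!
# EQ (equality case of the minimal degree of `SL_n(q)`): definitions

All objects live in `G = SL (Fin m) F`.  Positions are `a b : Fin m`; the simple roots of
`SL (Fin (N+1)) F` are the pairs `(i.castSucc, i.succ)`, `i : Fin N`.
-/

set_option autoImplicit false

namespace Cfsg.Agent.Lib.Helper2.EQ

open Matrix Module Cfsg.Agent.Lib.Helper16.SLMin Cfsg.Agent.Lib.Helper16.SLMinSpine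

section grp

variable {F : Type*} [Field F] {m : ℕ}

/-- the root element `1 + t E_ab` (`a ≠ b`; `1` if `a = b`) -/
def X (a b : Fin m) (t : F) : SpecialLinearGroup (Fin m) F :=
  if h : a ≠ b then ⟨transvection a b t, det_transvection_of_ne a b h t⟩ else 1

/-- the root map of the root group `X a b`, in the form used by `wt` -/
def Xr (a b : Fin m) (r : Unit → F) : SpecialLinearGroup (Fin m) F := X a b (r ())

/-- the Weyl element `X a b 1 * X b a (-1) * X a b 1` (in the `(a,b)` block: `[[0,1],[-1,0]]`) -/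
def sd (a b : Fin m) : SpecialLinearGroup (Fin m) F := X a b 1 * X b a (-1) * X a b 1

/-- the product of the coordinates -/
def prodHom (m : ℕ) (F : Type*) [Field F] : (Fin m → Fˣ) →* Fˣ where
  toFun t := ∏ i, t i
  map_one' := by simp
  map_mul' a b := by simp [Finset.prod_mul_distrib]

/-- the diagonal torus of `SL (Fin m) F`, as the subgroup `∏ t_i = 1` of `(Fˣ)^m` -/
abbrev Tor (m : ℕ) (F : Type*) [Field F] : Subgroup (Fin m → Fˣ) := (prodHom m F).ker

/-- the diagonal matrix `diag(t_0, .., t_{m-1})` of determinant one -/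
def dg : Tor m F →* SpecialLinearGroup (Fin m) F where
  toFun t := ⟨diagonal fun i => ((t : Fin m → Fˣ) i : F), by
    rw [det_diagonal]
    have h := t.2
    rw [MonoidHom.mem_ker] at h
    have h2 : ((∏ i, (t : Fin m → Fˣ) i : Fˣ) : F) = 1 := by
      have : (∏ i, (t : Fin m → Fˣ) i : Fˣ) = 1 := h
      rw [this]; rfl
    rw [← h2, Units.coe_prod]⟩
  map_one' := by
    apply Subtype.ext
    show diagonal (fun i => (((1 : Tor m F) : Fin m → Fˣ) i : F)) = 1
    simp
  map_mul' s t := by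
    apply Subtype.ext
    show diagonal (fun i => (((s * t : Tor m F) : Fin m → Fˣ) i : F)) =
      diagonal (fun i => ((s : Fin m → Fˣ) i : F)) * diagonal (fun i => ((t : Fin m → Fˣ) i : F))
    rw [diagonal_mul_diagonal]
    simp

/-- the coroot `h_ab(t) = diag(.., t at a, .., t⁻¹ at b, ..)` (`1` if `a = b`) -/
def hc (a b : Fin m) (t : Fˣ) : Tor m F :=
  ⟨Pi.mulSingle a t * Pi.mulSingle b t⁻¹, by
    rw [MonoidHom.mem_ker]
    show ∏ i, (Pi.mulSingle a t * Pi.mulSingle b t⁻¹ : Fin m → Fˣ) i = 1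
    simp [Finset.prod_mul_distrib]⟩

/-- a permutation of the coordinates acts on the torus: `(permTor σ t) i = t (σ⁻¹ i)` -/
def permTor (σ : Equiv.Perm (Fin m)) : Tor m F ≃* Tor m F where
  toFun t := ⟨fun i => (t : Fin m → Fˣ) (σ⁻¹ i), by
    have h := t.2
    rw [MonoidHom.mem_ker] at h ⊢
    show ∏ i, (t : Fin m → Fˣ) (σ⁻¹ i) = 1
    rw [Equiv.prod_comp (σ⁻¹) (fun i => (t : Fin m → Fˣ) i)]
    exact h⟩
  invFun t := ⟨fun i => (t : Fin m → Fˣ) (σ i), by
    have h := t.2
    rw [MonoidHom.mem_ker] at h ⊢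
    show ∏ i, (t : Fin m → Fˣ) (σ i) = 1
    rw [Equiv.prod_comp σ (fun i => (t : Fin m → Fˣ) i)]
    exact h⟩
  left_inv t := by
    apply Subtype.ext
    funext i
    simp
  right_inv t := by
    apply Subtype.ext
    funext i
    simp
  map_mul' s t := by
    apply Subtype.ext
    funext i
    rfl

/-- the index equivalence `Unit ⊕ Fin N ≃ Fin (N+1)`, `inl () ↦ 0`, `inr j ↦ j.succ` -/
def eU (N : ℕ) : Unit ⊕ Fin N ≃ Fin (N + 1) where
  toFun := Sum.elim (fun _ => 0) Fin.succ
  invFun := Fin.cases (Sum.inl ()) Sum.inr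
  left_inv := by
    rintro (⟨⟩ | j) <;> simp
  right_inv := by
    intro i
    refine Fin.cases ?_ (fun j => ?_) i <;> simp

/-- the row-`0` radical `1 + ∑_j r_j E_{0,j+1}` of `SL (Fin (N+1)) F` -/
def row0 {N : ℕ} (r : Fin N → F) : SpecialLinearGroup (Fin (N + 1)) F :=
  slRe (F := F) (eU N) (rad r)

/-- the Levi factor `g ↦ [[(det g)⁻¹, 0], [0, g]]` of the stabiliser of `⟨e_0⟩` -/
noncomputable def lev {N : ℕ} : GL (Fin N) F →* SpecialLinearGroup (Fin (N + 1)) F :=
  (slRe (F := F) (eU N)).toMonoidHom.comp levi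

/-- the block embedding `g ↦ [[1, 0], [0, g]]` -/
def em {N : ℕ} : SpecialLinearGroup (Fin N) F →* SpecialLinearGroup (Fin (N + 1)) F :=
  (slRe (F := F) (eU N)).toMonoidHom.comp emb

/-- the matrix `diag(c, 1, .., 1)` -/
def dgc {N : ℕ} (c : F) : Matrix (Fin (N + 1)) (Fin (N + 1)) F :=
  diagonal (fun i => if i = 0 then c else 1)

theorem dgc_mul_dgc {N : ℕ} (c d : F) : dgc (N := N) c * dgc d = dgc (c * d) := by
  unfold dgc
  rw [diagonal_mul_diagonal]
  congr 1
  funext i
  split_ifs <;> simp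

theorem dgc_one {N : ℕ} : dgc (N := N) (1 : F) = 1 := by
  unfold dgc
  rw [← diagonal_one]
  congr 1
  funext i
  split_ifs <;> rfl

theorem det_dgc {N : ℕ} (c : F) : (dgc (N := N) c).det = c := by
  unfold dgc
  rw [det_diagonal, Fin.prod_univ_succ]
  simp [Fin.succ_ne_zero]

/-- conjugation by `diag(c, 1, .., 1) ∈ GL_{N+1}` on `SL (Fin (N+1)) F` -/
def cj {N : ℕ} (c : Fˣ) :
    SpecialLinearGroup (Fin (N + 1)) F →* SpecialLinearGroup (Fin (N + 1)) F where
  toFun g := ⟨dgc (c : F) * (g : Matrix (Fin (N + 1)) (Fin (N + 1)) F) * dgc ((c⁻¹ : Fˣ) : F), by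
    rw [det_mul, det_mul, det_dgc, det_dgc, g.2, mul_one, ← Units.val_mul, mul_inv_cancel,
      Units.val_one]⟩
  map_one' := by
    apply Subtype.ext
    change dgc (c : F) * (1 : Matrix (Fin (N + 1)) (Fin (N + 1)) F) * dgc ((c⁻¹ : Fˣ) : F) = 1
    rw [mul_one, dgc_mul_dgc, ← Units.val_mul, mul_inv_cancel, Units.val_one, dgc_one]
  map_mul' g h := by
    apply Subtype.ext
    change dgc (c : F) * ((g : Matrix (Fin (N + 1)) (Fin (N + 1)) F) * (h : Matrix _ _ F)) *
        dgc ((c⁻¹ : Fˣ) : F) =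
      (dgc (c : F) * (g : Matrix _ _ F) * dgc ((c⁻¹ : Fˣ) : F)) *
        (dgc (c : F) * (h : Matrix _ _ F) * dgc ((c⁻¹ : Fˣ) : F))
    have hd : dgc (N := N) ((c⁻¹ : Fˣ) : F) * dgc (c : F) = 1 := by
      rw [dgc_mul_dgc, ← Units.val_mul, inv_mul_cancel, Units.val_one, dgc_one]
    calc dgc (c : F) * ((g : Matrix (Fin (N + 1)) (Fin (N + 1)) F) * (h : Matrix _ _ F)) *
          dgc ((c⁻¹ : Fˣ) : F)
        = dgc (c : F) * (g : Matrix _ _ F) * (1 : Matrix (Fin (N + 1)) (Fin (N + 1)) F) *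
            ((h : Matrix _ _ F) * dgc ((c⁻¹ : Fˣ) : F)) := by
          simp only [mul_one, Matrix.mul_assoc]
      _ = _ := by
          rw [← hd]
          simp only [Matrix.mul_assoc]

end grp

section rep

variable {F : Type*} [Field F] [Fintype F] {m : ℕ} {M : Type*} [AddCommGroup M] [Module ℂ M]

/-- the common fixed space of the root groups `X a b` with `P a b` -/
def Fx (ρ : Representation ℂ (SpecialLinearGroup (Fin m) F) M) (P : Fin m → Fin m → Prop) :
    Submodule ℂ M where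
  carrier := {x | ∀ a b, P a b → ∀ t : F, ρ (X a b t) x = x}
  add_mem' := by
    intro x y hx hy a b hab t
    rw [map_add, hx a b hab t, hy a b hab t]
  zero_mem' := by
    intro a b _ t
    rw [map_zero]
  smul_mem' := by
    intro c x hx a b hab t
    rw [map_smul, hx a b hab t]

theorem mem_Fx {ρ : Representation ℂ (SpecialLinearGroup (Fin m) F) M}
    {P : Fin m → Fin m → Prop} {x : M} :
    x ∈ Fx ρ P ↔ ∀ a b, P a b → ∀ t : F, ρ (X a b t) x = x := Iff.rfl

/-- `C_M(U)`, `U` the upper unitriangular group -/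
def Cfix (ρ : Representation ℂ (SpecialLinearGroup (Fin m) F) M) : Submodule ℂ M :=
  Fx ρ (fun a b => a < b)

/-- `C_M(U_{P_i})`: fixed by all positive root groups except the simple one at position `i` -/
def Efix {N : ℕ} (ρ : Representation ℂ (SpecialLinearGroup (Fin (N + 1)) F) M) (i : Fin N) :
    Submodule ℂ M :=
  Fx ρ (fun a b => a < b ∧ ¬ (a = i.castSucc ∧ b = i.succ))

/-- the weight space of the torus for the character `θ` -/
def wtT (ρ : Representation ℂ (SpecialLinearGroup (Fin m) F) M) (θ : Tor m F →* ℂˣ) :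
    Submodule ℂ M where
  carrier := {x | ∀ t : Tor m F, ρ (dg t) x = ((θ t : ℂˣ) : ℂ) • x}
  add_mem' := by
    intro x y hx hy t
    rw [map_add, hx t, hy t, smul_add]
  zero_mem' := by
    intro t
    rw [map_zero, smul_zero]
  smul_mem' := by
    intro c x hx t
    rw [map_smul, hx t, smul_comm]

theorem mem_wtT {ρ : Representation ℂ (SpecialLinearGroup (Fin m) F) M} {θ : Tor m F →* ℂˣ}
    {x : M} : x ∈ wtT ρ θ ↔ ∀ t : Tor m F, ρ (dg t) x = ((θ t : ℂˣ) : ℂ) • x := Iff.rfl

/-- the averaging operator over the root group `X a b` -/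
noncomputable def eX (ρ : Representation ℂ (SpecialLinearGroup (Fin m) F) M) (a b : Fin m) :
    M →ₗ[ℂ] M :=
  ((Fintype.card F : ℂ)⁻¹) • ∑ t : F, ρ (X a b t)

/-- the rank-one Hecke operator `T_i = e_{X_i} ∘ ρ(ṡ_i)` at the simple root `i` -/
noncomputable def Ti {N : ℕ} (ρ : Representation ℂ (SpecialLinearGroup (Fin (N + 1)) F) M)
    (i : Fin N) : M →ₗ[ℂ] M :=
  (eX ρ i.castSucc i.succ).comp (ρ (sd i.castSucc i.succ))

end rep

section fix

variable {F : Type*} [Field F] [Fintype F]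

/-- the fixed space of the row-`0` radical as a representation of `SL (Fin (N+1)) F`
(acting through `em`) -/
noncomputable def fixF {N : ℕ} {M : Type*} [AddCommGroup M] [Module ℂ M]
    (ρ : Representation ℂ (SpecialLinearGroup (Fin (N + 1 + 1)) F) M) :
    Representation ℂ (SpecialLinearGroup (Fin (N + 1)) F)
      ↥(wt (compEquiv ρ (slRe (F := F) (eU (N + 1)))) (rad (F := F) (ι' := Fin (N + 1))) 0) :=
  fixRep (compEquiv ρ (slRe (F := F) (eU (N + 1))))

theorem fixF_apply {N : ℕ} {M : Type*} [AddCommGroup M] [Module ℂ M]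
    (ρ : Representation ℂ (SpecialLinearGroup (Fin (N + 1 + 1)) F) M)
    (g : SpecialLinearGroup (Fin (N + 1)) F)
    (x : ↥(wt (compEquiv ρ (slRe (F := F) (eU (N + 1)))) (rad (F := F) (ι' := Fin (N + 1))) 0)) :
    ((fixF ρ g x : ↥(wt (compEquiv ρ (slRe (F := F) (eU (N + 1))))
      (rad (F := F) (ι' := Fin (N + 1))) 0)) : M) = ρ (em g) (x : M) := rfl

/-- the carrier of `fixF ρ` is the fixed space of `row0` -/
theorem fixF_carrier {N : ℕ} {M : Type*} [AddCommGroup M] [Module ℂ M]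
    (ρ : Representation ℂ (SpecialLinearGroup (Fin (N + 1 + 1)) F) M) :
    wt (compEquiv ρ (slRe (F := F) (eU (N + 1)))) (rad (F := F) (ι' := Fin (N + 1))) 0 =
      wt ρ (row0 (F := F) (N := N + 1)) 0 := rfl

end fix

end Cfsg.Agent.Lib.Helper2.EQ
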