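import Cfsg.Agent.Lib.Helper2.EQDefs

/-!
# EQ leaves M12: `row0`, `em`, `lev` in terms of root groups
-/

set_option autoImplicit false
set_option linter.unusedSimpArgs false
set_option linter.unusedSectionVars false

namespace Cfsg.Agent.Lib.Helper2.EQ

open Matrix Module Cfsg.Agent.Lib.Helper16.SLMin Cfsg.Agent.Lib.Helper16.SLMinSpine

section Xbasic

variable {F : Type*} [Field F] {m : ℕ}

theorem X_coe_of_ne {a b : Fin m} (h : a ≠ b) (t : F) :
    (X a b t : Matrix (Fin m) (Fin m) F) = transvection a b t := by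
  simp [X, h]

theorem X_eq_one_of_eq {a b : Fin m} (h : a = b) (t : F) : X a b t = 1 := by
  simp [X, h]

end Xbasic

section M'

variable {F : Type*} [Field F] {N : ℕ}

theorem eU_symm_zero : (eU N).symm 0 = Sum.inl () := rfl

theorem eU_symm_succ (j : Fin N) : (eU N).symm j.succ = Sum.inr j := by
  simp [eU]

theorem eU_inl (u : Unit) : eU N (Sum.inl u) = 0 := rfl

theorem eU_inr (j : Fin N) : eU N (Sum.inr j) = j.succ := rfl

theorem slRe_coe {ι κ : Type*} [Fintype ι] [DecidableEq ι] [Fintype κ] [DecidableEq κ]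
    (e : ι ≃ κ) (A : SpecialLinearGroup ι F) (i j : κ) :
    (slRe (F := F) e A : Matrix κ κ F) i j = (A : Matrix ι ι F) (e.symm i) (e.symm j) := rfl

/-- the entries of `row0 r` -/
theorem row0_coe (r : Fin N → F) :
    (row0 r : Matrix (Fin (N + 1)) (Fin (N + 1)) F) =
      1 + ∑ k : Fin N, Matrix.single (0 : Fin (N + 1)) k.succ (r k) := by
  ext i j
  rw [row0, slRe_coe, rad_coe]
  refine Fin.cases ?_ (fun i' => ?_) i <;> refine Fin.cases ?_ (fun j' => ?_) j
  · rw [eU_symm_zero, fromBlocks_apply₁₁]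
    simp [Matrix.add_apply, Matrix.sum_apply, Matrix.single_apply, Fin.succ_ne_zero,
      (Fin.succ_ne_zero _).symm]
  · rw [eU_symm_zero, eU_symm_succ, fromBlocks_apply₁₂]
    simp [Matrix.add_apply, Matrix.sum_apply, Matrix.single_apply, Fin.succ_ne_zero,
      (Fin.succ_ne_zero _).symm]
  · rw [eU_symm_zero, eU_symm_succ, fromBlocks_apply₂₁]
    simp [Matrix.add_apply, Matrix.sum_apply, Matrix.single_apply, Fin.succ_ne_zero,
      (Fin.succ_ne_zero _).symm]
  · rw [eU_symm_succ, eU_symm_succ, fromBlocks_apply₂₂]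
    simp [Matrix.add_apply, Matrix.sum_apply, Matrix.single_apply, Fin.succ_ne_zero,
      (Fin.succ_ne_zero _).symm, Matrix.one_apply]

/-- M12a -/
theorem row0_add (r s : Fin N → F) : row0 (r + s) = row0 r * row0 s := by
  unfold row0
  rw [rad_add, map_mul]

theorem row0_zero : row0 (0 : Fin N → F) = 1 := by
  unfold row0
  rw [rad_zero, map_one]

/-- M12b -/
theorem row0_single (k : Fin N) (t : F) : row0 (Pi.single k t) = X (0 : Fin (N + 1)) k.succ t := by
  apply Subtype.ext
  rw [row0_coe, X_coe_of_ne (Fin.succ_ne_zero k).symm, transvection]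
  congr 1
  rw [Finset.sum_eq_single k]
  · rw [Pi.single_eq_same]
  · intro b _ hb
    rw [Pi.single_eq_of_ne hb, Matrix.single_zero]
  · intro h
    exact absurd (Finset.mem_univ k) h

/-- M12c -/
theorem em_X (a b : Fin N) (t : F) : em (X a b t) = X a.succ b.succ t := by
  by_cases hab : a = b
  · rw [X_eq_one_of_eq hab, X_eq_one_of_eq (congrArg Fin.succ hab), map_one]
  · have hab' : a.succ ≠ b.succ := fun h => hab (Fin.succ_injective _ h)
    apply Subtype.ext
    ext i j
    rw [X_coe_of_ne hab']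
    show (slRe (F := F) (eU N) (emb (X a b t)) : Matrix _ _ F) i j =
      transvection a.succ b.succ t i j
    rw [slRe_coe, emb_coe, X_coe_of_ne hab]
    refine Fin.cases ?_ (fun i' => ?_) i <;> refine Fin.cases ?_ (fun j' => ?_) j
    · rw [eU_symm_zero, fromBlocks_apply₁₁]
      simp [transvection, Matrix.add_apply, Matrix.single_apply, (Fin.succ_ne_zero _).symm]
    · rw [eU_symm_zero, eU_symm_succ, fromBlocks_apply₁₂]
      simp [transvection, Matrix.add_apply, Matrix.single_apply, (Fin.succ_ne_zero _).symm]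
    · rw [eU_symm_zero, eU_symm_succ, fromBlocks_apply₂₁]
      simp [transvection, Matrix.add_apply, Matrix.single_apply, (Fin.succ_ne_zero _).symm,
        Fin.succ_ne_zero]
    · rw [eU_symm_succ, eU_symm_succ, fromBlocks_apply₂₂]
      simp [transvection, Matrix.add_apply, Matrix.single_apply, Matrix.one_apply]

/-- the entries of `lev g` -/
theorem lev_coe (g : GL (Fin N) F) (i j : Fin (N + 1)) :
    (lev g : Matrix (Fin (N + 1)) (Fin (N + 1)) F) i j =
      Fin.cases (Fin.cases (((g : Matrix (Fin N) (Fin N) F).det)⁻¹) (fun _ => 0) j)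
        (fun i' => Fin.cases 0 (fun j' => (g : Matrix (Fin N) (Fin N) F) i' j') j) i := by
  show (slRe (F := F) (eU N) (levi g) : Matrix _ _ F) i j = _
  rw [slRe_coe, levi_coe]
  refine Fin.cases ?_ (fun i' => ?_) i <;> refine Fin.cases ?_ (fun j' => ?_) j
  · rw [eU_symm_zero, fromBlocks_apply₁₁]
    simp
  · rw [eU_symm_zero, eU_symm_succ, fromBlocks_apply₁₂]
    simp
  · rw [eU_symm_zero, eU_symm_succ, fromBlocks_apply₂₁]
    simp
  · rw [eU_symm_succ, eU_symm_succ, fromBlocks_apply₂₂]
    simp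

/-- the entries of `row0 r` -/
theorem row0_coe_apply (r : Fin N → F) (i j : Fin (N + 1)) :
    (row0 r : Matrix (Fin (N + 1)) (Fin (N + 1)) F) i j =
      Fin.cases (Fin.cases 1 (fun j' => r j') j)
        (fun i' => Fin.cases 0 (fun j' => if i' = j' then 1 else 0) j) i := by
  rw [row0, slRe_coe, rad_coe]
  refine Fin.cases ?_ (fun i' => ?_) i <;> refine Fin.cases ?_ (fun j' => ?_) j
  · rw [eU_symm_zero, fromBlocks_apply₁₁]
    simp
  · rw [eU_symm_zero, eU_symm_succ, fromBlocks_apply₁₂]
    simp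
  · rw [eU_symm_zero, eU_symm_succ, fromBlocks_apply₂₁]
    simp
  · rw [eU_symm_succ, eU_symm_succ, fromBlocks_apply₂₂]
    simp [Matrix.one_apply]

/-- M12d: the elements of the stabiliser of `⟨e_0⟩` are `row0 r * lev g` -/
theorem exists_row0_mul_lev (g : SpecialLinearGroup (Fin (N + 1)) F)
    (hg : ∀ i : Fin N, (g : Matrix (Fin (N + 1)) (Fin (N + 1)) F) i.succ 0 = 0) :
    ∃ (r : Fin N → F) (g' : GL (Fin N) F), g = row0 r * lev g' := by
  set A : Matrix (Fin (N + 1)) (Fin (N + 1)) F :=
    (g : Matrix (Fin (N + 1)) (Fin (N + 1)) F) with hA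
  set D : Matrix (Fin N) (Fin N) F := A.submatrix Fin.succ Fin.succ with hD
  have hdet : A 0 0 * D.det = 1 := by
    have h1 : A.det = 1 := g.2
    rw [Matrix.det_succ_column_zero, Fin.sum_univ_succ] at h1
    rw [Finset.sum_eq_zero, add_zero] at h1
    · simpa [hD] using h1
    · intro i _
      rw [hg i, mul_zero, zero_mul]
  have hD0 : D.det ≠ 0 := by
    intro h
    rw [h, mul_zero] at hdet
    exact zero_ne_one hdet
  have h00 : A 0 0 = (D.det)⁻¹ := eq_inv_of_mul_eq_one_left hdet
  refine ⟨(fun j => A 0 j.succ) ᵥ* D⁻¹, GeneralLinearGroup.mkOfDetNeZero D hD0, ?_⟩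
  apply Subtype.ext
  show A = (row0 ((fun j => A 0 j.succ) ᵥ* D⁻¹) : Matrix (Fin (N + 1)) (Fin (N + 1)) F) *
    (lev (GeneralLinearGroup.mkOfDetNeZero D hD0) : Matrix (Fin (N + 1)) (Fin (N + 1)) F)
  ext i j
  rw [Matrix.mul_apply, Fin.sum_univ_succ]
  simp only [row0_coe_apply, lev_coe]
  have hcoe : ((GeneralLinearGroup.mkOfDetNeZero D hD0 : GL (Fin N) F) :
      Matrix (Fin N) (Fin N) F) = D := rfl
  refine Fin.cases ?_ (fun i' => ?_) i <;> refine Fin.cases ?_ (fun j' => ?_) j
  · simp only [Fin.cases_zero, Fin.cases_succ, mul_zero, Finset.sum_const_zero, add_zero, one_mul]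
    rw [hcoe]
    exact h00
  · simp only [Fin.cases_zero, Fin.cases_succ, mul_zero, zero_add, hcoe]
    have h1 : (((fun j => A 0 j.succ) ᵥ* D⁻¹) ᵥ* D) j' = A 0 j'.succ := by
      rw [Matrix.vecMul_vecMul, Matrix.nonsing_inv_mul _ ((Matrix.isUnit_iff_isUnit_det D).mp
        ((Matrix.isUnit_iff_isUnit_det D).mpr (isUnit_iff_ne_zero.mpr hD0))), Matrix.vecMul_one]
    rw [← h1]
    rfl
  · simp only [Fin.cases_zero, Fin.cases_succ, mul_zero, Finset.sum_const_zero, add_zero, zero_mul]
    exact hg i'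
  · simp only [Fin.cases_zero, Fin.cases_succ, mul_zero, zero_add, hcoe, ite_mul, one_mul,
      zero_mul, Finset.sum_ite_eq, Finset.mem_univ, if_true]
    rfl

end M'

section R

variable {F : Type*} [Field F] [Fintype F] [DecidableEq F] {M : Type*} [AddCommGroup M]
  [Module ℂ M]

/-- M12e: weight spaces of `row0` in terms of the root groups `X 0 k.succ` -/
theorem mem_wt_row0_iff {N : ℕ} (ρ : Representation ℂ (SpecialLinearGroup (Fin (N + 1)) F) M)
    (w : Fin N → F) (x : M) :
    x ∈ wt ρ (row0 (F := F) (N := N)) w ↔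
      ∀ (k : Fin N) (t : F), ρ (X 0 k.succ t) x = (eps F (w k * t)) • x := by
  constructor
  · intro h k t
    have := h (Pi.single k t)
    rwa [row0_single, dotProduct_single] at this
  · intro h r
    have key : ∀ S : Finset (Fin N),
        ρ (row0 (∑ k ∈ S, Pi.single k (r k))) x =
          (eps F (w ⬝ᵥ (∑ k ∈ S, Pi.single k (r k)))) • x := by
      intro S
      induction S using Finset.induction_on with
      | empty =>
        rw [Finset.sum_empty, row0_zero, map_one, dotProduct_zero, AddChar.map_zero_eq_one,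
          one_smul, Module.End.one_apply]
      | insert a S ha ih =>
        rw [Finset.sum_insert ha, row0_add, map_mul, Module.End.mul_apply, ih, map_smul,
          row0_single, h a (r a), dotProduct_add, AddChar.map_add_eq_mul, dotProduct_single,
          smul_smul, mul_comm]
    have := key Finset.univ
    rwa [Finset.univ_sum_single] at this

end R

end Cfsg.Agent.Lib.Helper2.EQ
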