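import Cfsg.Agent.Lib.Helper6.EQR4
import Cfsg.Agent.Lib.Helper17.EQM11

/-!
# EQ leaf R8b: (`n = 3`) the extra torus element `diag(c,1,1)`
-/

set_option autoImplicit false
set_option linter.unusedSectionVars false

namespace Cfsg.Agent.Lib.Helper2.EQ

open Matrix Module Cfsg.Agent.Lib.Helper16.SLMin Cfsg.Agent.Lib.Helper16.SLMinSpine

section R

variable {F : Type*} [Field F] [Fintype F] [DecidableEq F] {M : Type*} [AddCommGroup M]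
  [Module ℂ M] [FiniteDimensional ℂ M]

/-- a line: any vector is a multiple of a non-zero one -/
theorem exists_smul_of_finrank_one {L : Submodule ℂ M} (h : finrank ℂ ↥L = 1) {x y : M}
    (hx : x ∈ L) (hx0 : x ≠ 0) (hy : y ∈ L) : ∃ d : ℂ, y = d • x := by
  have hx0' : (⟨x, hx⟩ : ↥L) ≠ 0 := fun h0 => hx0 (congrArg Subtype.val h0)
  obtain ⟨d, hd⟩ := (finrank_eq_one_iff_of_nonzero' (⟨x, hx⟩ : ↥L) hx0').mp h ⟨y, hy⟩
  exact ⟨d, (congrArg Subtype.val hd).symm⟩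

variable {N : ℕ}

/-- `D` preserves `C_M(U)` -/
theorem D_mem_Cfix (ρ : Representation ℂ (SpecialLinearGroup (Fin (N + 1)) F) M) (c : Fˣ)
    (D : M ≃ₗ[ℂ] M) (hD : ∀ (g : SpecialLinearGroup (Fin (N + 1)) F) (x : M),
      D (ρ g x) = ρ (cj c g) (D x)) {x : M} (hx : x ∈ Cfix ρ) : D x ∈ Cfix ρ := by
  unfold Cfix at hx ⊢
  rw [mem_Fx] at hx ⊢
  intro a b hab t
  set κ : F := (if a = 0 then (c : F) else 1) * (if b = 0 then ((c⁻¹ : Fˣ) : F) else 1) with hκ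
  have hκ0 : κ ≠ 0 := by
    rw [hκ]
    apply mul_ne_zero <;> split_ifs <;> simp
  have h1 := hD (X a b (κ⁻¹ * t)) x
  rw [Cfsg.Agent.Lib.Helper17.EQ.cj_X, ← hκ, ← mul_assoc, mul_inv_cancel₀ hκ0, one_mul,
    hx a b hab] at h1
  exact h1.symm

/-- `D` preserves the torus weight spaces -/
theorem D_mem_wtT (ρ : Representation ℂ (SpecialLinearGroup (Fin (N + 1)) F) M) (c : Fˣ)
    (D : M ≃ₗ[ℂ] M) (hD : ∀ (g : SpecialLinearGroup (Fin (N + 1)) F) (x : M),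
      D (ρ g x) = ρ (cj c g) (D x)) (θ : Tor (N + 1) F →* ℂˣ) {x : M} (hx : x ∈ wtT ρ θ) :
    D x ∈ wtT ρ θ := by
  rw [mem_wtT] at hx ⊢
  intro t
  have h1 := hD (dg t) x
  rw [Cfsg.Agent.Lib.Helper17.EQ.cj_dg, hx t, map_smul] at h1
  exact h1.symm

/-- `D` commutes with the averaging operators -/
theorem D_eX (ρ : Representation ℂ (SpecialLinearGroup (Fin (N + 1)) F) M) (c : Fˣ)
    (D : M ≃ₗ[ℂ] M) (hD : ∀ (g : SpecialLinearGroup (Fin (N + 1)) F) (x : M),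
      D (ρ g x) = ρ (cj c g) (D x)) (a b : Fin (N + 1)) (y : M) :
    D (eX ρ a b y) = eX ρ a b (D y) := by
  set κ : F := (if a = 0 then (c : F) else 1) * (if b = 0 then ((c⁻¹ : Fˣ) : F) else 1) with hκ
  have hκ0 : κ ≠ 0 := by
    rw [hκ]
    apply mul_ne_zero <;> split_ifs <;> simp
  have h := Cfsg.Agent.Lib.Helper6.EQ.eX_comm ρ a b D.toLinearMap κ hκ0 (by
    intro t x
    show D (ρ (X a b t) x) = ρ (X a b (κ * t)) (D x)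
    rw [hD, Cfsg.Agent.Lib.Helper17.EQ.cj_X]) y
  exact h

/-- the Hecke operators away from the index `0` commute with `D` -/
theorem D_Ti_ne (ρ : Representation ℂ (SpecialLinearGroup (Fin (N + 1)) F) M) (c : Fˣ)
    (D : M ≃ₗ[ℂ] M) (hD : ∀ (g : SpecialLinearGroup (Fin (N + 1)) F) (x : M),
      D (ρ g x) = ρ (cj c g) (D x)) (i : Fin N) (hi : i.castSucc ≠ 0) (x : M) :
    D (Ti ρ i x) = Ti ρ i (D x) := by
  rw [Cfsg.Agent.Lib.Helper6.EQ.Ti_apply, Cfsg.Agent.Lib.Helper6.EQ.Ti_apply, D_eX ρ c D hD, hD,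
    Cfsg.Agent.Lib.Helper17.EQ.cj_sd_ne c _ _ hi (Fin.succ_ne_zero i)]

/-- the Hecke operator at the index `0` and `D` (`n = 3`) -/
theorem D_Ti_zero (ρ : Representation ℂ (SpecialLinearGroup (Fin 3) F) M) (c : Fˣ)
    (D : M ≃ₗ[ℂ] M) (hD : ∀ (g : SpecialLinearGroup (Fin 3) F) (x : M),
      D (ρ g x) = ρ (cj c g) (D x)) (x : M) :
    D (Ti ρ (0 : Fin 2) x) = Ti ρ (0 : Fin 2) (ρ (dg (hc 1 0 c)) (D x)) := by
  rw [Cfsg.Agent.Lib.Helper6.EQ.Ti_apply, Cfsg.Agent.Lib.Helper6.EQ.Ti_apply, D_eX ρ c D hD, hD]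
  have h := Cfsg.Agent.Lib.Helper17.EQ.cj_sd_zero (F := F) (N := 2) c (by omega)
  have h' : cj c (sd ((0 : Fin 2).castSucc) ((0 : Fin 2).succ) : SpecialLinearGroup (Fin 3) F) =
      sd ((0 : Fin 2).castSucc) ((0 : Fin 2).succ) * dg (hc 1 0 c) := h
  rw [h', map_mul, Module.End.mul_apply]

/-- R8b: (`n = 3`) the extra torus element `diag(c,1,1)` -/
theorem extra_torus_three (ρ : Representation ℂ (SpecialLinearGroup (Fin 3) F) M)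
    (θ : Tor 3 F →* ℂˣ)
    (h1 : finrank ℂ ↥(Cfix ρ ⊓ wtT ρ θ) = 1)
    (h2 : finrank ℂ ↥(Cfix ρ ⊓ wtT ρ (θ.comp (permTor (Equiv.swap (0 : Fin 3) 1)).toMonoidHom)) = 1)
    (heq : θ.comp (permTor (Equiv.swap (0 : Fin 3) 1)).toMonoidHom =
      θ.comp (permTor (Equiv.swap (1 : Fin 3) 2)).toMonoidHom)
    (c : Fˣ) (D : M ≃ₗ[ℂ] M) (hD : ∀ (g : SpecialLinearGroup (Fin 3) F) (x : M),
      D (ρ g x) = ρ (cj c g) (D x)) :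
    θ (hc 1 0 c) = 1 := by
  set θ' : Tor 3 F →* ℂˣ := θ.comp (permTor (Equiv.swap (0 : Fin 3) 1)).toMonoidHom with hθ'
  -- a generator of the line `L`
  obtain ⟨x₀, hx₀, hx₀ne⟩ : ∃ x₀ ∈ Cfix ρ ⊓ wtT ρ θ, x₀ ≠ 0 := by
    have hpos : 0 < finrank ℂ ↥(Cfix ρ ⊓ wtT ρ θ) := by omega
    rw [Module.finrank_pos_iff_exists_ne_zero] at hpos
    obtain ⟨⟨x, hx⟩, hx0⟩ := hpos
    exact ⟨x, hx, fun h => hx0 (Subtype.ext h)⟩
  have hDx₀ : D x₀ ∈ Cfix ρ ⊓ wtT ρ θ :=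
    ⟨D_mem_Cfix ρ c D hD hx₀.1, D_mem_wtT ρ c D hD θ hx₀.2⟩
  obtain ⟨δ, hδ⟩ := exists_smul_of_finrank_one h1 hx₀ hx₀ne hDx₀
  have hδ0 : δ ≠ 0 := by
    intro h0
    rw [h0, zero_smul] at hδ
    exact hx₀ne ((LinearEquiv.map_eq_zero_iff D).mp hδ)
  -- the two Hecke images lie in the line `L'`
  have hT0 : Ti ρ (0 : Fin 2) x₀ ∈ Cfix ρ ⊓ wtT ρ θ' :=
    ⟨Cfsg.Agent.Lib.Helper6.EQ.Ti_mem_Cfix ρ 0 hx₀.1,
      Cfsg.Agent.Lib.Helper6.EQ.Ti_mem_wtT ρ 0 θ hx₀.2⟩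
  have hT1 : Ti ρ (1 : Fin 2) x₀ ∈ Cfix ρ ⊓ wtT ρ θ' := by
    rw [heq]
    exact ⟨Cfsg.Agent.Lib.Helper6.EQ.Ti_mem_Cfix ρ 1 hx₀.1,
      Cfsg.Agent.Lib.Helper6.EQ.Ti_mem_wtT ρ 1 θ hx₀.2⟩
  have hT0ne : Ti ρ (0 : Fin 2) x₀ ≠ 0 := fun h =>
    hx₀ne (Cfsg.Agent.Lib.Helper6.EQ.eq_zero_of_Ti_eq_zero ρ 0 θ hx₀ h)
  have hT1ne : Ti ρ (1 : Fin 2) x₀ ≠ 0 := fun h =>
    hx₀ne (Cfsg.Agent.Lib.Helper6.EQ.eq_zero_of_Ti_eq_zero ρ 1 θ hx₀ h)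
  -- `D` on `L'`
  have hDT1 : D (Ti ρ (1 : Fin 2) x₀) = δ • Ti ρ (1 : Fin 2) x₀ := by
    rw [D_Ti_ne ρ c D hD 1 (by decide), hδ, map_smul]
  obtain ⟨μ, hμ⟩ := exists_smul_of_finrank_one h2 hT1 hT1ne hT0
  have hDT0 : D (Ti ρ (0 : Fin 2) x₀) = δ • Ti ρ (0 : Fin 2) x₀ := by
    rw [hμ, map_smul, hDT1, smul_comm]
  have hDT0' : D (Ti ρ (0 : Fin 2) x₀) =
      (δ * ((θ (hc 1 0 c) : ℂˣ) : ℂ)) • Ti ρ (0 : Fin 2) x₀ := by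
    rw [D_Ti_zero ρ c D hD, hδ, map_smul, (mem_wtT.mp hx₀.2) (hc 1 0 c), smul_smul, map_smul]
  rw [hDT0'] at hDT0
  have h3 : (δ * ((θ (hc 1 0 c) : ℂˣ) : ℂ) - δ) • Ti ρ (0 : Fin 2) x₀ = 0 := by
    rw [sub_smul, hDT0, sub_self]
  rcases smul_eq_zero.mp h3 with h4 | h4
  · have h5 : δ * (((θ (hc 1 0 c) : ℂˣ) : ℂ) - 1) = 0 := by
      rw [mul_sub, mul_one]
      exact h4
    rcases mul_eq_zero.mp h5 with h6 | h6
    · exact absurd h6 hδ0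
    · apply Units.ext
      rw [Units.val_one]
      exact sub_eq_zero.mp h6
  · exact absurd h4 hT0ne

end R

end Cfsg.Agent.Lib.Helper2.EQ
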