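import Cfsg.Agent.Lib.Helper2.EQS1
import Cfsg.Agent.Lib.Helper2.EQR8b
import Cfsg.Agent.Lib.Helper20.EQM10
import Cfsg.Agent.Lib.Helper20.EQR4
import Cfsg.Agent.Lib.Helper8.EQR6
import Cfsg.Agent.Lib.Helper5.EQR10
import Cfsg.Agent.Lib.Helper25.EQR5
import Cfsg.Agent.Lib.Helper25.EQR11
import Cfsg.Agent.Lib.Helper23.EQR7
import Cfsg.Agent.Lib.Helper23.EQR8a
import Cfsg.Agent.Lib.Helper17.SLMinArith

/-!
# EQ: the spine (glue of the leaves)
-/

set_option autoImplicit false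
set_option linter.unusedSectionVars false
set_option linter.unusedVariables false

namespace Cfsg.Agent.Lib.Helper2.EQMain

open Matrix Module Cfsg.Agent.Lib.Helper16.SLMin Cfsg.Agent.Lib.Helper16.SLMinSpine
  Cfsg.Agent.Lib.Helper2.EQ


/-! ### arithmetic -/

theorem tgt_eq_mul (q n : ℕ) (hq : 2 ≤ q) :
    tgt q (n + 1) = q * Cfsg.Agent.Lib.Helper17.SLMinArith.N q n := by
  unfold tgt
  rw [Cfsg.Agent.Lib.Helper17.SLMinArith.target_eq' q (n + 1) hq (by omega)]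
  simp

theorem tgt_lt (q n : ℕ) (hq : 3 ≤ q) (hn : 1 ≤ n) : tgt q (n + 1) < 2 * (q ^ n - 1) := by
  rw [tgt_eq_mul q n (by omega),
    ← Cfsg.Agent.Lib.Helper17.SLMinArith.pred_mul_N' q n (by omega)]
  have h1 : 1 ≤ Cfsg.Agent.Lib.Helper17.SLMinArith.N q n :=
    Cfsg.Agent.Lib.Helper17.SLMinArith.N_pos q n hn
  have h2 : q < 2 * (q - 1) := by omega
  calc q * Cfsg.Agent.Lib.Helper17.SLMinArith.N q n
      < 2 * (q - 1) * Cfsg.Agent.Lib.Helper17.SLMinArith.N q n :=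
        Nat.mul_lt_mul_of_pos_right h2 (by omega)
    _ = 2 * ((q - 1) * Cfsg.Agent.Lib.Helper17.SLMinArith.N q n) := by ring

theorem sum_pow_sub_one (q n : ℕ) (hq : 2 ≤ q) :
    ∑ j ∈ Finset.range n, (q ^ (j + 1) - 1) + n = tgt q (n + 1) := by
  rw [tgt_eq_mul q n hq]
  induction n with
  | zero => simp [Cfsg.Agent.Lib.Helper17.SLMinArith.N]
  | succ k ih =>
    rw [Finset.sum_range_succ, Cfsg.Agent.Lib.Helper17.SLMinArith.N_succ', mul_add, ← ih]
    have h1 : 1 ≤ q ^ (k + 1) := Nat.one_le_pow _ _ (by omega)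
    have h2 : q * q ^ k = q ^ (k + 1) := by ring
    rw [h2]
    omega

/-! ### coroots -/

section coroot

variable {F : Type*} [Field F] {m : ℕ}

theorem hc_mul (a b : Fin m) (s t : Fˣ) : hc (F := F) a b (s * t) = hc a b s * hc a b t := by
  apply Subtype.ext
  show (Pi.mulSingle a (s * t) * Pi.mulSingle b (s * t)⁻¹ : Fin m → Fˣ) =
    (Pi.mulSingle a s * Pi.mulSingle b s⁻¹) * (Pi.mulSingle a t * Pi.mulSingle b t⁻¹)
  rw [Pi.mulSingle_mul, mul_inv, Pi.mulSingle_mul]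
  exact mul_mul_mul_comm _ _ _ _

theorem hc_symm (a b : Fin m) (t : Fˣ) : hc (F := F) b a t = (hc a b t)⁻¹ := by
  apply Subtype.ext
  show (Pi.mulSingle b t * Pi.mulSingle a t⁻¹ : Fin m → Fˣ) =
    (Pi.mulSingle a t * Pi.mulSingle b t⁻¹)⁻¹
  rw [mul_inv, ← Pi.mulSingle_inv, ← Pi.mulSingle_inv, inv_inv, mul_comm]

end coroot

/-! ### the main theorem -/

section main

variable {F : Type*} [Field F] [Fintype F] [DecidableEq F]

theorem occ_iff_pos {N : ℕ} {M : Type*} [AddCommGroup M] [Module ℂ M] [FiniteDimensional ℂ M]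
    (ρ : Representation ℂ (SpecialLinearGroup (Fin (N + 1)) F) M) (θ : Tor (N + 1) F →* ℂˣ) :
    Cfix ρ ⊓ wtT ρ θ ≠ ⊥ ↔ 1 ≤ finrank ℂ ↥(Cfix ρ ⊓ wtT ρ θ) := by
  rw [Nat.one_le_iff_ne_zero, Ne, Ne, Submodule.finrank_eq_zero]

/-- the torus acts trivially on `C_M(U)` -/
theorem torus_trivial (hq : 5 ≤ Fintype.card F) (N : ℕ) (hN : 2 ≤ N) {M : Type*} [AddCommGroup M]
    [Module ℂ M] [FiniteDimensional ℂ M]
    (ρ : Representation ℂ (SpecialLinearGroup (Fin (N + 1)) F) M)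
    (hm1 : ∀ w : Fin N → F, w ≠ 0 → finrank ℂ ↥(wt ρ (row0 (F := F) (N := N)) w) = 1)
    (hC : finrank ℂ ↥(Cfix ρ) = N)
    (hD : N = 2 → ∀ c : Fˣ, IsSquare c → ∃ D : M ≃ₗ[ℂ] M,
      ∀ (g : SpecialLinearGroup (Fin (N + 1)) F) (x : M), D (ρ g x) = ρ (cj c g) (D x)) :
    ∀ (t : Tor (N + 1) F) (x : M), x ∈ Cfix ρ → ρ (dg t) x = x := by
  set occ : (Tor (N + 1) F →* ℂˣ) → Prop := fun θ => Cfix ρ ⊓ wtT ρ θ ≠ ⊥ with hocc
  have hperm : ∀ θ σ, occ θ → occ (θ.comp (permTor σ).toMonoidHom) := by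
    intro θ σ h
    rw [hocc] at h ⊢
    simp only at h ⊢
    rw [occ_iff_pos] at h ⊢
    rw [Cfsg.Agent.Lib.Helper20.EQ.finrank_wtT_perm ρ θ σ]
    exact h
  have hcard : ∀ S : Finset (Tor (N + 1) F →* ℂˣ), (∀ θ ∈ S, occ θ) → S.card ≤ N := by
    intro S hS
    have h1 := Cfsg.Agent.Lib.Helper25.EQ.sum_finrank_wtT_le ρ S
    rw [hC] at h1
    calc S.card = ∑ _θ ∈ S, 1 := by simp
      _ ≤ ∑ θ ∈ S, finrank ℂ ↥(Cfix ρ ⊓ wtT ρ θ) :=
          Finset.sum_le_sum (fun θ hθ => (occ_iff_pos ρ θ).mp (hS θ hθ))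
      _ ≤ N := h1
  have hloc : ∀ θ, occ θ → ∀ i j : Fin N, i.val = 0 → 2 ≤ j.val →
      ¬ ((∃ t : Fˣ, θ (hc i.castSucc i.succ t) ≠ 1) ∧
        ∃ t : Fˣ, θ (hc j.castSucc j.succ t) ≠ 1) := by
    rintro θ hθ i j hi hj ⟨h0, h1⟩
    exact hθ (Cfsg.Agent.Lib.Helper8.EQ.local_zero_j hq ρ hm1 θ i j hi hj h0 h1)
  have htriv : ∀ θ, occ θ → θ = 1 := by
    rcases Nat.lt_or_ge N 3 with h | h
    · have hN2 : N = 2 := by omega
      subst hN2
      intro θ hθ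
      by_contra hne
      obtain ⟨heq, hne', hcube, t, ht⟩ := Cfsg.Agent.Lib.Helper23.EQ.weights_three occ hperm hcard θ hθ hne
      set θ' := θ.comp (permTor (Equiv.swap (0 : Fin 3) 1)).toMonoidHom with hθ'
      have hθ'occ : occ θ' := hperm θ _ hθ
      have hsum := Cfsg.Agent.Lib.Helper25.EQ.sum_finrank_wtT_le ρ ({θ, θ'} : Finset (Tor 3 F →* ℂˣ))
      rw [Finset.sum_pair (Ne.symm hne'), hC] at hsum
      have p1 := (occ_iff_pos ρ θ).mp hθ
      have p2 := (occ_iff_pos ρ θ').mp hθ'occ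
      have e1 : finrank ℂ ↥(Cfix ρ ⊓ wtT ρ θ) = 1 := by omega
      have e2 : finrank ℂ ↥(Cfix ρ ⊓ wtT ρ θ') = 1 := by omega
      have hsq : θ (hc 1 0 (t * t)) = 1 := by
        obtain ⟨D, hD'⟩ := hD rfl (t * t) ⟨t, rfl⟩
        exact extra_torus_three ρ θ e1 e2 heq (t * t) D hD'
      rw [hc_symm, hc_mul, map_inv, map_mul, inv_eq_one] at hsq
      have h3 := hcube t
      apply ht
      calc θ (hc 0 1 t) = θ (hc 0 1 t) ^ 3 * (θ (hc 0 1 t) * θ (hc 0 1 t))⁻¹ := by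
            rw [pow_succ, pow_two, mul_assoc, mul_inv_cancel_comm_assoc]
        _ = 1 := by rw [h3, hsq]; simp
    · exact Cfsg.Agent.Lib.Helper23.EQ.weights_trivial h occ hperm hloc hcard
  intro t x hx
  have h1 : (⨆ θ : Tor (N + 1) F →* ℂˣ, Cfix ρ ⊓ wtT ρ θ) ≤ wtT ρ 1 := by
    apply iSup_le
    intro θ
    by_cases hθ : occ θ
    · rw [htriv θ hθ]
      exact inf_le_right
    · rw [hocc] at hθ
      simp only [ne_eq, not_not] at hθ
      rw [hθ]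
      exact bot_le
  have h2 := h1 (Cfsg.Agent.Lib.Helper25.EQ.Cfix_le_iSup_wtT ρ hx)
  have h3 := (mem_wtT.mp h2) t
  rw [h3]
  simp

/-- EQ: the equality case of the minimal degree of `SL_n(q)`, `n = N + 1 ≥ 3`, `q ≥ 5` -/
theorem EQ (hq : 5 ≤ Fintype.card F) (N : ℕ) (hN : 2 ≤ N) {M : Type*} [AddCommGroup M]
    [Module ℂ M] [FiniteDimensional ℂ M]
    (ρ : Representation ℂ (SpecialLinearGroup (Fin (N + 1)) F) M) (hnt : ∃ g, ρ g ≠ 1)
    (hdim : finrank ℂ M = tgt (Fintype.card F) (N + 1))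
    (hD : N = 2 → ∀ c : Fˣ, IsSquare c → ∃ D : M ≃ₗ[ℂ] M,
      ∀ (g : SpecialLinearGroup (Fin (N + 1)) F) (x : M), D (ρ g x) = ρ (cj c g) (D x)) :
    ∃ v : M, v ≠ 0 ∧ ∀ g : SpecialLinearGroup (Fin (N + 1)) F,
      (∀ i : Fin N, (g : Matrix (Fin (N + 1)) (Fin (N + 1)) F) i.succ 0 = 0) → ρ g v = v := by
  -- step 0: multiplicity one
  set ρ₁ : Representation ℂ (SpecialLinearGroup (Unit ⊕ Fin N) F) M :=
    compEquiv ρ (slRe (F := F) (eU N)) with hρ₁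
  have hnt₁ : ∃ g, ρ₁ g ≠ 1 := by
    obtain ⟨g, hg⟩ := hnt
    refine ⟨(slRe (F := F) (eU N)).symm g, ?_⟩
    rw [hρ₁, compEquiv_apply, MulEquiv.apply_symm_apply]
    exact hg
  have h2 : 2 ≤ Fintype.card (Fin N) := by
    rw [Fintype.card_fin]
    exact hN
  have hm1 : ∀ w : Fin N → F, w ≠ 0 → finrank ℂ ↥(wt ρ (row0 (F := F) (N := N)) w) = 1 := by
    rcases m_dichotomy h2 ρ₁ hnt₁ with h | ⟨h, _⟩
    · exfalso
      rw [Fintype.card_fin, hdim] at h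
      exact absurd h (not_le.mpr (tgt_lt _ N (by omega) (by omega)))
    · exact h
  -- step 1: the iterated stage lemma
  obtain ⟨hdimC, h1b⟩ := stage_all hq N (by omega) ρ hm1
  have hC : finrank ℂ ↥(Cfix ρ) = N := by
    have := sum_pow_sub_one (Fintype.card F) N (by omega)
    omega
  -- steps 2-6
  have hT := torus_trivial hq N hN ρ hm1 hC hD
  -- steps 7-8
  set W : Fin N → Submodule ℂ M := fun i => Fx ρ (fun a b => a = i.succ ∧ b = i.castSucc) with hW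
  set i0 : Fin N := ⟨0, by omega⟩ with hi0
  set S : Finset (Fin N) := Finset.univ.erase i0 with hS
  have hcod : ∀ i ∈ S, finrank ℂ ↥(Cfix ρ) ≤ finrank ℂ ↥(Cfix ρ ⊓ W i) + 1 :=
    fun i _ => Cfsg.Agent.Lib.Helper5.EQ.codim_le_one hN ρ i (h1b i) hT
  have hge := Cfsg.Agent.Lib.Helper25.EQ.finrank_iInf_ge S (Cfix ρ) W hcod
  have hScard : S.card = N - 1 := by
    rw [hS, Finset.card_erase_of_mem (Finset.mem_univ _), Finset.card_univ, Fintype.card_fin]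
  have hpos : 1 ≤ finrank ℂ ↥(Cfix ρ ⊓ ⨅ i ∈ S, W i) := by
    rw [hC, hScard] at hge
    omega
  have hne : Cfix ρ ⊓ ⨅ i ∈ S, W i ≠ ⊥ := by
    intro h0
    rw [h0, finrank_bot] at hpos
    omega
  obtain ⟨v, hv, hv0⟩ := (Submodule.ne_bot_iff _).mp hne
  obtain ⟨hvC, hvW⟩ := Submodule.mem_inf.mp hv
  refine ⟨v, hv0, ?_⟩
  intro g hg
  have hmem := Cfsg.Agent.Lib.Helper20.EQ.stab_le_closure g hg
  let H : Subgroup (SpecialLinearGroup (Fin (N + 1)) F) :=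
    { carrier := {h | ρ h v = v}
      mul_mem' := by
        intro a b ha hb
        show ρ (a * b) v = v
        rw [map_mul, Module.End.mul_apply, hb, ha]
      one_mem' := by
        show ρ 1 v = v
        rw [map_one, Module.End.one_apply]
      inv_mem' := by
        intro a ha
        show ρ a⁻¹ v = v
        have h1 : ρ a⁻¹ (ρ a v) = v := by
          rw [← Module.End.mul_apply, ← map_mul, inv_mul_cancel, map_one, Module.End.one_apply]
        rw [ha] at h1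
        exact h1 }
  have hle : Subgroup.closure
      ({g : SpecialLinearGroup (Fin (N + 1)) F | ∃ a b, a < b ∧ ∃ t : F, g = X a b t} ∪
        {g | ∃ i : Fin N, i.val ≠ 0 ∧ ∃ t : F, g = X i.succ i.castSucc t} ∪
        Set.range (dg (F := F) (m := N + 1))) ≤ H := by
    rw [Subgroup.closure_le]
    rintro h ((⟨a, b, hab, t, rfl⟩ | ⟨i, hi, t, rfl⟩) | ⟨t, rfl⟩)
    · exact (mem_Fx.mp hvC) a b hab t
    · have hiS : i ∈ S := by
        rw [hS, Finset.mem_erase]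
        refine ⟨?_, Finset.mem_univ _⟩
        intro h
        apply hi
        rw [h, hi0]
      have h1 : v ∈ W i := by
        have := (Submodule.mem_iInf _).mp hvW i
        exact (Submodule.mem_iInf _).mp this hiS
      exact (mem_Fx.mp h1) i.succ i.castSucc ⟨rfl, rfl⟩ t
    · exact hT t v hvC
  exact hle hmem

end main

end Cfsg.Agent.Lib.Helper2.EQMain
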