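import Cfsg.Agent.Lib.Helper2.EQM12

/-!
# EQ leaves S1a / S1b: the iterated stage lemma
-/

set_option autoImplicit false
set_option linter.unusedSectionVars false
set_option linter.unusedVariables false

namespace Cfsg.Agent.Lib.Helper2.EQ

open Matrix Module Cfsg.Agent.Lib.Helper16.SLMin Cfsg.Agent.Lib.Helper16.SLMinSpine

section reindex

variable {F : Type*} [Field F] {J K : Type*} [Fintype J] [DecidableEq J] [Fintype K]
  [DecidableEq K]

/-- reindexing the lower block of the radical -/
theorem slRe_sumCongr_rad (e : J ≃ K) (u : J → F) :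
    slRe (F := F) (Equiv.sumCongr (Equiv.refl Unit) e) (rad u) = rad (u ∘ e.symm) := by
  apply Subtype.ext
  ext i j
  rw [slRe_coe, rad_coe, rad_coe]
  rcases i with i | i <;> rcases j with j | j <;> simp [Matrix.one_apply]

/-- reindexing the lower block of the block embedding -/
theorem slRe_sumCongr_emb (e : J ≃ K) (g : SpecialLinearGroup J F) :
    slRe (F := F) (Equiv.sumCongr (Equiv.refl Unit) e) (emb g) = emb (slRe (F := F) e g) := by
  apply Subtype.ext
  ext i j
  rw [slRe_coe, emb_coe, emb_coe]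
  rcases i with i | i <;> rcases j with j | j <;> simp [slRe_coe]

end reindex

section S1a

variable {F : Type*} [Field F] [Fintype F] [DecidableEq F]

/-- the weight spaces of the radical after reindexing the lower block -/
theorem wt_rad_sumCongr {J K : Type*} [Fintype J] [DecidableEq J] [Fintype K] [DecidableEq K]
    {M : Type*} [AddCommGroup M] [Module ℂ M]
    (ρ : Representation ℂ (SpecialLinearGroup (Unit ⊕ K) F) M) (e : J ≃ K) (u : J → F) :
    wt (compEquiv ρ (slRe (F := F) (Equiv.sumCongr (Equiv.refl Unit) e)))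
        (rad (F := F) (ι' := J)) u =
      wt ρ (rad (F := F) (ι' := K)) (u ∘ e.symm) := by
  ext m
  rw [mem_wt, mem_wt]
  constructor
  · intro h r
    have h1 := h (r ∘ e)
    rw [compEquiv_apply, slRe_sumCongr_rad] at h1
    have h2 : (r ∘ e) ∘ e.symm = r := by
      funext k
      simp
    have h3 : u ⬝ᵥ (r ∘ e) = (u ∘ e.symm) ⬝ᵥ r := (comp_equiv_symm_dotProduct u r e).symm
    rw [h2, h3] at h1
    exact h1
  · intro h r
    have h1 := h (r ∘ e.symm)
    rw [compEquiv_apply, slRe_sumCongr_rad]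
    have h3 : (u ∘ e.symm) ⬝ᵥ (r ∘ e.symm) = u ⬝ᵥ r :=
      comp_equiv_dotProduct_comp_equiv u r e.symm
    rw [h3] at h1
    exact h1

/-- S1a: multiplicity one is inherited by the fixed space of the row-`0` radical (= `stage0`
transported to `Fin`) -/
theorem hm1_fixF {N : ℕ} {M : Type*} [AddCommGroup M] [Module ℂ M] [FiniteDimensional ℂ M]
    (hgen : 3 ≤ N ∨ (N = 2 ∧ 4 ≤ Fintype.card F) ∨
      (N = 1 ∧ Fintype.card F ≠ 2 ∧ Fintype.card F ≠ 4))
    (ρ : Representation ℂ (SpecialLinearGroup (Fin (N + 1 + 1)) F) M)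
    (hm1 : ∀ w : Fin (N + 1) → F, w ≠ 0 →
      finrank ℂ ↥(wt ρ (row0 (F := F) (N := N + 1)) w) = 1) :
    ∀ w : Fin N → F, w ≠ 0 → finrank ℂ ↥(wt (fixF ρ) (row0 (F := F) (N := N)) w) = 1 := by
  intro w hw
  set ρ₁ : Representation ℂ (SpecialLinearGroup (Unit ⊕ Fin (N + 1)) F) M :=
    compEquiv ρ (slRe (F := F) (eU (N + 1))) with hρ₁
  set ρ₂ : Representation ℂ (SpecialLinearGroup (Unit ⊕ (Unit ⊕ Fin N)) F) M :=
    compEquiv ρ₁ (slRe (F := F) (Equiv.sumCongr (Equiv.refl Unit) (eU N))) with hρ₂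
  have hm1' : ∀ u : Unit ⊕ Fin N → F, u ≠ 0 →
      finrank ℂ ↥(wt ρ₂ (rad (F := F) (ι' := Unit ⊕ Fin N)) u) = 1 := by
    intro u hu
    rw [hρ₂, wt_rad_sumCongr]
    have hu' : u ∘ (eU N).symm ≠ 0 := by
      intro h
      apply hu
      funext k
      have := congrFun h (eU N k)
      simpa using this
    exact hm1 _ hu'
  have hgen' : 3 ≤ Fintype.card (Fin N) ∨ (Fintype.card (Fin N) = 2 ∧ 4 ≤ Fintype.card F) ∨
      (Fintype.card (Fin N) = 1 ∧ Fintype.card F ≠ 2 ∧ Fintype.card F ≠ 4) := by
    rw [Fintype.card_fin]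
    exact hgen
  have h0 := Cfsg.Agent.Lib.Helper24.SLMin.stage0 ρ₂ hm1' hgen' w hw
  refine Eq.trans ?_ h0
  set A : Submodule ℂ M := wt ρ₁ (rad (F := F) (ι' := Fin (N + 1))) 0 with hA
  have hmap : (wt (fixF ρ) (row0 (F := F) (N := N)) w).map A.subtype =
      wt ρ₂ (rad (F := F) (ι' := Unit ⊕ Fin N)) 0 ⊓ wt ρ₂ (rb (F := F) (J := Fin N)) w := by
    have hA2 : wt ρ₂ (rad (F := F) (ι' := Unit ⊕ Fin N)) 0 = A := by
      rw [hρ₂, wt_rad_sumCongr]
      rfl
    rw [hA2]
    ext m
    rw [Submodule.mem_map, Submodule.mem_inf]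
    constructor
    · rintro ⟨⟨x, hx⟩, hxS, rfl⟩
      refine ⟨hx, ?_⟩
      rw [mem_wt]
      intro r
      have h1 := (mem_wt.mp hxS) r
      have h2 := congrArg Subtype.val h1
      rw [fixF_apply] at h2
      have h3 : ρ₂ (rb r) x = ρ (em (row0 r)) x := by
        rw [hρ₂, compEquiv_apply, hρ₁, compEquiv_apply]
        unfold rb
        rw [slRe_sumCongr_emb]
        rfl
      rw [Submodule.subtype_apply, h3]
      exact h2
    · rintro ⟨hmA, hmB⟩
      refine ⟨⟨m, hmA⟩, ?_, rfl⟩
      rw [mem_wt]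
      intro r
      apply Subtype.ext
      rw [fixF_apply]
      have h3 : ρ₂ (rb r) m = ρ (em (row0 r)) m := by
        rw [hρ₂, compEquiv_apply, hρ₁, compEquiv_apply]
        unfold rb
        rw [slRe_sumCongr_emb]
        rfl
      have h1 := (mem_wt.mp hmB) r
      rw [h3] at h1
      exact h1
  rw [← hmap]
  exact (Submodule.equivSubtypeMap A _).finrank_eq

end S1a

section S1b

variable {F : Type*} [Field F] [Fintype F] [DecidableEq F]

theorem Fx_congr {m : ℕ} {M : Type*} [AddCommGroup M] [Module ℂ M]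
    (ρ : Representation ℂ (SpecialLinearGroup (Fin m) F) M) {P Q : Fin m → Fin m → Prop}
    (h : ∀ a b, P a b ↔ Q a b) : Fx ρ P = Fx ρ Q := by
  ext x
  rw [mem_Fx, mem_Fx]
  exact ⟨fun hx a b hab => hx a b ((h a b).mpr hab), fun hx a b hab => hx a b ((h a b).mp hab)⟩

/-- the dimension split along the row-`0` radical -/
theorem finrank_eq_fix_add {N : ℕ} {M : Type*} [AddCommGroup M] [Module ℂ M]
    [FiniteDimensional ℂ M] (ρ : Representation ℂ (SpecialLinearGroup (Fin (N + 1)) F) M)
    (hm1 : ∀ w : Fin N → F, w ≠ 0 → finrank ℂ ↥(wt ρ (row0 (F := F) (N := N)) w) = 1) :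
    finrank ℂ M = finrank ℂ ↥(wt ρ (row0 (F := F) (N := N)) 0) + (Fintype.card F ^ N - 1) := by
  have hW1 := Cfsg.Agent.Lib.Helper13.SLMin.finrank_eq_sum_inf_wt ρ (row0 (F := F) (N := N))
    row0_add ⊤ (fun _ _ _ => Submodule.mem_top)
  rw [finrank_top] at hW1
  have hW1' : ∀ v : Fin N → F, finrank ℂ ↥(⊤ ⊓ wt ρ (row0 (F := F) (N := N)) v) =
      finrank ℂ ↥(wt ρ (row0 (F := F) (N := N)) v) := fun v => by rw [top_inf_eq]
  rw [Finset.sum_congr rfl (fun v _ => hW1' v)] at hW1
  rw [sum_split _ 1 hm1, Nat.mul_one, Fintype.card_fin] at hW1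
  exact hW1

/-- membership in the fixed space of the row-`0` radical -/
theorem mem_fix_row0_iff {N : ℕ} {M : Type*} [AddCommGroup M] [Module ℂ M]
    (ρ : Representation ℂ (SpecialLinearGroup (Fin (N + 1)) F) M) (x : M) :
    x ∈ wt ρ (row0 (F := F) (N := N)) 0 ↔ ∀ (k : Fin N) (t : F), ρ (X 0 k.succ t) x = x := by
  rw [mem_wt_row0_iff]
  constructor
  · intro h k t
    have := h k t
    rwa [Pi.zero_apply, zero_mul, AddChar.map_zero_eq_one, one_smul] at this
  · intro h k t
    rw [Pi.zero_apply, zero_mul, AddChar.map_zero_eq_one, one_smul]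
    exact h k t

/-- fixed spaces of root groups in `M` and in the fixed space of the row-`0` radical -/
theorem map_Fx_fixF {N : ℕ} {M : Type*} [AddCommGroup M] [Module ℂ M]
    (ρ : Representation ℂ (SpecialLinearGroup (Fin (N + 1 + 1)) F) M)
    (P : Fin (N + 1 + 1) → Fin (N + 1 + 1) → Prop) (h0 : ∀ k : Fin (N + 1), P 0 k.succ)
    (h1 : ∀ a : Fin (N + 1), ¬ P a.succ 0) :
    (Fx (fixF ρ) (fun a b => P a.succ b.succ)).map
        (wt (compEquiv ρ (slRe (F := F) (eU (N + 1))))
          (rad (F := F) (ι' := Fin (N + 1))) 0).subtype = Fx ρ P := by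
  ext x
  rw [Submodule.mem_map, mem_Fx]
  constructor
  · rintro ⟨⟨y, hy⟩, hyF, rfl⟩
    rw [mem_Fx] at hyF
    intro a b hab t
    rw [Submodule.subtype_apply]
    show ρ (X a b t) y = y
    have hy' : y ∈ wt ρ (row0 (F := F) (N := N + 1)) 0 := hy
    rw [mem_fix_row0_iff] at hy'
    revert hab
    refine Fin.cases ?_ (fun a' => ?_) a <;> refine Fin.cases ?_ (fun b' => ?_) b
    · intro _
      rw [X_eq_one_of_eq rfl, map_one, Module.End.one_apply]
    · intro _
      exact hy' b' t
    · intro hab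
      exact absurd hab (h1 a')
    · intro hab
      have := congrArg Subtype.val (hyF a' b' hab t)
      rw [fixF_apply, em_X] at this
      exact this
  · intro hx
    have hxA : x ∈ wt ρ (row0 (F := F) (N := N + 1)) 0 := by
      rw [mem_fix_row0_iff]
      intro k t
      exact hx 0 k.succ (h0 k) t
    refine ⟨⟨x, hxA⟩, ?_, rfl⟩
    rw [mem_Fx]
    intro a b hab t
    apply Subtype.ext
    rw [fixF_apply, em_X]
    exact hx a.succ b.succ hab t

/-- weight spaces of root groups in `M` and in the fixed space of the row-`0` radical -/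
theorem map_wt_Xr_fixF {N : ℕ} {M : Type*} [AddCommGroup M] [Module ℂ M]
    (ρ : Representation ℂ (SpecialLinearGroup (Fin (N + 1 + 1)) F) M) (a b : Fin (N + 1))
    (c : Unit → F) :
    (wt (fixF ρ) (Xr (F := F) a b) c).map (wt (compEquiv ρ (slRe (F := F) (eU (N + 1))))
          (rad (F := F) (ι' := Fin (N + 1))) 0).subtype =
      wt ρ (row0 (F := F) (N := N + 1)) 0 ⊓ wt ρ (Xr (F := F) a.succ b.succ) c := by
  ext x
  rw [Submodule.mem_map, Submodule.mem_inf]
  constructor
  · rintro ⟨⟨y, hy⟩, hyW, rfl⟩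
    refine ⟨hy, ?_⟩
    rw [mem_wt] at hyW ⊢
    intro r
    have := congrArg Subtype.val (hyW r)
    rw [fixF_apply] at this
    unfold Xr at this ⊢
    rw [em_X] at this
    exact this
  · rintro ⟨hxA, hxW⟩
    refine ⟨⟨x, hxA⟩, ?_, rfl⟩
    rw [mem_wt] at hxW ⊢
    intro r
    apply Subtype.ext
    rw [fixF_apply]
    have := hxW r
    unfold Xr at this ⊢
    rw [em_X]
    exact this

/-- the simple root at position `0`: the weight spaces lie in weight spaces of `row0` -/
theorem Efix_zero_inf_wt_le {N : ℕ} {M : Type*} [AddCommGroup M] [Module ℂ M]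
    (ρ : Representation ℂ (SpecialLinearGroup (Fin (N + 1 + 1)) F) M) (a : Unit → F) :
    Efix ρ (0 : Fin (N + 1)) ⊓ wt ρ (Xr (F := F) (0 : Fin (N + 1)).castSucc (0 : Fin (N + 1)).succ) a ≤
      wt ρ (row0 (F := F) (N := N + 1)) (Pi.single 0 (a ())) := by
  intro x hx
  obtain ⟨hxE, hxW⟩ := Submodule.mem_inf.mp hx
  rw [mem_wt_row0_iff]
  intro k t
  by_cases hk : k = 0
  · subst hk
    rw [Pi.single_eq_same]
    have := (mem_wt.mp hxW) (fun _ => t)
    unfold Xr at this
    rw [Fin.castSucc_zero] at this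
    rw [this]
    congr 2
    simp [dotProduct]
  · rw [Pi.single_eq_of_ne hk, zero_mul, AddChar.map_zero_eq_one, one_smul]
    refine (mem_Fx.mp hxE) 0 k.succ ⟨Fin.succ_pos k, ?_⟩ t
    rintro ⟨_, h2⟩
    exact hk (Fin.succ_injective _ h2)

/-- the iterated stage lemma, by induction on `N` (starting at the trivial group) -/
theorem stage_all_aux (hq : 5 ≤ Fintype.card F) (N : ℕ) :
    ∀ {M : Type*} [AddCommGroup M] [Module ℂ M] [FiniteDimensional ℂ M]
      (ρ : Representation ℂ (SpecialLinearGroup (Fin (N + 1)) F) M),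
      (∀ w : Fin N → F, w ≠ 0 → finrank ℂ ↥(wt ρ (row0 (F := F) (N := N)) w) = 1) →
      finrank ℂ M = finrank ℂ ↥(Cfix ρ) +
          ∑ j ∈ Finset.range N, (Fintype.card F ^ (j + 1) - 1) ∧
        ∀ (i : Fin N) (a : Unit → F), a ≠ 0 →
          finrank ℂ ↥(Efix ρ i ⊓ wt ρ (Xr (F := F) i.castSucc i.succ) a) ≤ 1 := by
  induction N with
  | zero =>
    intro M _ _ _ ρ _
    refine ⟨?_, fun i => i.elim0⟩
    have htop : Cfix ρ = ⊤ := by
      rw [eq_top_iff]
      intro x _
      unfold Cfix
      rw [mem_Fx]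
      intro a b hab t
      exact absurd hab (by
        have ha := a.2
        have hb := b.2
        rw [Fin.lt_def]
        omega)
    rw [htop, finrank_top, Finset.range_zero, Finset.sum_empty, add_zero]
  | succ N ih =>
    intro M _ _ _ ρ hm1
    -- the fixed space of the row-0 radical
    have hm1' : ∀ w : Fin N → F, w ≠ 0 →
        finrank ℂ ↥(wt (fixF ρ) (row0 (F := F) (N := N)) w) = 1 := by
      rcases Nat.eq_zero_or_pos N with h0 | hpos
      · subst h0
        intro w hw
        exact absurd (Subsingleton.elim w 0) hw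
      · apply hm1_fixF _ ρ hm1
        rcases Nat.lt_or_ge N 3 with h3 | h3
        · rcases Nat.lt_or_ge N 2 with h2 | h2
          · right
            right
            exact ⟨by omega, by omega, by omega⟩
          · right
            left
            exact ⟨by omega, by omega⟩
        · left
          exact h3
    obtain ⟨ihd, ihm⟩ := ih (fixF ρ) hm1'
    have hsplit := finrank_eq_fix_add ρ hm1
    have hinj : Function.Injective (wt (compEquiv ρ (slRe (F := F) (eU (N + 1))))
        (rad (F := F) (ι' := Fin (N + 1))) 0).subtype := Subtype.val_injective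
    refine ⟨?_, ?_⟩
    · have hC : finrank ℂ ↥(Cfix (fixF ρ)) = finrank ℂ ↥(Cfix ρ) := by
        have h1 := map_Fx_fixF ρ (fun a b => a < b) (fun k => Fin.succ_pos k)
          (fun a => Fin.not_lt_zero _)
        have h2 : Cfix (fixF ρ) = Fx (fixF ρ) (fun a b => a.succ < b.succ) := by
          unfold Cfix
          exact Fx_congr _ (fun a b => Fin.succ_lt_succ_iff.symm)
        rw [h2]
        unfold Cfix
        rw [← h1]
        exact (Submodule.equivSubtypeMap _ _).finrank_eq
      rw [Finset.sum_range_succ, hsplit]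
      have hA : finrank ℂ ↥(wt ρ (row0 (F := F) (N := N + 1)) 0) =
          finrank ℂ ↥(wt (compEquiv ρ (slRe (F := F) (eU (N + 1))))
            (rad (F := F) (ι' := Fin (N + 1))) 0) := rfl
      rw [hA, ihd, hC]
      ring
    · intro i a ha
      refine Fin.cases ?_ (fun i' => ?_) i
      · have ha0 : (Pi.single 0 (a ()) : Fin (N + 1) → F) ≠ 0 := by
          intro h
          apply ha
          funext u
          have := congrFun h 0
          rw [Pi.single_eq_same] at this
          exact this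
        calc finrank ℂ ↥(Efix ρ (0 : Fin (N + 1)) ⊓
              wt ρ (Xr (F := F) (0 : Fin (N + 1)).castSucc (0 : Fin (N + 1)).succ) a)
            ≤ finrank ℂ ↥(wt ρ (row0 (F := F) (N := N + 1)) (Pi.single 0 (a ()))) :=
              Submodule.finrank_mono (Efix_zero_inf_wt_le ρ a)
          _ = 1 := hm1 _ ha0
      · have h1 := map_Fx_fixF ρ
          (fun a b => a < b ∧ ¬ (a = i'.succ.castSucc ∧ b = i'.succ.succ))
          (fun k => ⟨Fin.succ_pos k, fun h => by
            have := h.1
            rw [← Fin.succ_castSucc] at this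
            exact (Fin.succ_ne_zero _) this.symm⟩)
          (fun a h => Fin.not_lt_zero _ h.1)
        have h2 : Efix (fixF ρ) i' = Fx (fixF ρ) (fun a b => a.succ < b.succ ∧
            ¬ (a.succ = i'.succ.castSucc ∧ b.succ = i'.succ.succ)) := by
          unfold Efix
          apply Fx_congr
          intro a b
          rw [Fin.succ_lt_succ_iff, ← Fin.succ_castSucc, Fin.succ_inj, Fin.succ_inj]
        have h3 := map_wt_Xr_fixF ρ i'.castSucc i'.succ a
        have h4 : Efix ρ i'.succ ⊓ wt ρ (Xr (F := F) i'.succ.castSucc i'.succ.succ) a =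
            (Efix (fixF ρ) i' ⊓ wt (fixF ρ) (Xr (F := F) i'.castSucc i'.succ) a).map
              (wt (compEquiv ρ (slRe (F := F) (eU (N + 1))))
                (rad (F := F) (ι' := Fin (N + 1))) 0).subtype := by
          rw [Submodule.map_inf _ hinj, h3, h2, h1, Fin.succ_castSucc]
          unfold Efix
          rw [← inf_assoc]
          congr 1
          apply le_antisymm
          · refine le_inf le_rfl ?_
            intro x hx
            rw [mem_fix_row0_iff]
            intro k t
            refine (mem_Fx.mp hx) 0 k.succ ⟨Fin.succ_pos k, fun h => ?_⟩ t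
            have := h.1
            rw [← Fin.succ_castSucc] at this
            exact (Fin.succ_ne_zero _) this.symm
          · exact inf_le_left
        rw [h4]
        rw [(Submodule.equivSubtypeMap _ _).finrank_eq.symm]
        exact ihm i' a ha

/-- S1b: the iterated stage lemma: dimension formula and multiplicity one at every simple root -/
theorem stage_all (hq : 5 ≤ Fintype.card F) (N : ℕ) (hN : 1 ≤ N) {M : Type*} [AddCommGroup M]
    [Module ℂ M] [FiniteDimensional ℂ M]
    (ρ : Representation ℂ (SpecialLinearGroup (Fin (N + 1)) F) M)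
    (hm1 : ∀ w : Fin N → F, w ≠ 0 → finrank ℂ ↥(wt ρ (row0 (F := F) (N := N)) w) = 1) :
    finrank ℂ M = finrank ℂ ↥(Cfix ρ) + ∑ j ∈ Finset.range N, (Fintype.card F ^ (j + 1) - 1) ∧
    ∀ (i : Fin N) (a : Unit → F), a ≠ 0 →
      finrank ℂ ↥(Efix ρ i ⊓ wt ρ (Xr (F := F) i.castSucc i.succ) a) ≤ 1 :=
  stage_all_aux hq N ρ hm1

end S1b

end Cfsg.Agent.Lib.Helper2.EQ
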