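/-
helper2: S4642 leaf (GLAUB) `exists_glauberman`: the Glauberman correspondent of a `G`-invariant
character `θ` of the normal `p'`-subgroup `K` with respect to a `p`-subgroup `R`, as a character of
`K.subgroupOf C_G(R)`: the unique constituent of the restriction of multiplicity prime to `p`.
-/
import Mathlib
import Cfsg.Prelude.Def_BrauerPairs
import Cfsg.Agent.Lib.Helper2.FongPTDefs
import Cfsg.Agent.Lib.Helper2.GlaubPInd
import Cfsg.Agent.Lib.Helper6.CliffordCorr

set_option autoImplicit false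
set_option linter.unusedSectionVars false
set_option linter.style.haveILetI false

namespace Cfsg.Agent.Lib.Helper2.FPTGLAUB

open Cfsg Cfsg.Agent.CharLib Cfsg.Agent.Lib.Helper6 Cfsg.Agent.Lib.Helper2.FongPT
  Cfsg.Agent.Lib.Helper2.Glaub
open scoped ComplexConjugate

universe u

variable {G : Type u} [Group G] [Fintype G] {p : ℕ} [hpp : Fact p.Prime] {M : Ideal AlgInt}

/-- The isomorphism `K.subgroupOf C ≃* K ⊓ C`. -/
noncomputable def subEquiv (K C : Subgroup G) : ↥(K.subgroupOf C) ≃* ↥(K ⊓ C) :=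
  (MulEquiv.subgroupCongr (Subgroup.inf_subgroupOf_right K C).symm).trans
    (Subgroup.subgroupOfEquivOfLe (inf_le_right : K ⊓ C ≤ C))

theorem subEquiv_coe (K C : Subgroup G) (x : ↥(K.subgroupOf C)) :
    ((subEquiv K C x : ↥(K ⊓ C)) : G) = ((x : C) : G) := rfl

/-- Auxiliary form with the centralizer as a variable. -/
theorem exists_glauberman_aux (K : Subgroup G) [hKn : K.Normal] [Fintype K]
    (hKp : ¬ p ∣ Nat.card K) (θ : IrrCharacter K)
    (hθ : ∀ g : G, IsConjCharOf K g (θ : K → ℂ) (θ : K → ℂ))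
    (R : Subgroup G) (hR : IsPGroup p R) (C : Subgroup G)
    (hC : C = Subgroup.centralizer (R : Set G))
    [Fintype ↥(K.subgroupOf C)] :
    ∃ θs : IrrCharacter ↥(K.subgroupOf C),
      (∃ m : ℕ, classInner (resSub K C (θ : K → ℂ))
          (θs : ↥(K.subgroupOf C) → ℂ) = (m : ℂ) ∧ ¬ p ∣ m) ∧
      ∀ η : IrrCharacter ↥(K.subgroupOf C), η ≠ θs →
        ∃ m : ℕ, classInner (resSub K C (θ : K → ℂ))
          (η : ↥(K.subgroupOf C) → ℂ) = (m : ℂ) ∧ p ∣ m := by
  classical
  have hp : p.Prime := hpp.out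
  haveI : Fintype ↥(K ⊓ C) := Fintype.ofFinite _
  have hCK : K ⊓ C ≤ K := inf_le_left
  have hcop : (Nat.card K).Coprime (Nat.card R) := by
    obtain ⟨n, hn⟩ := (IsPGroup.iff_card (p := p)).mp hR
    rw [hn]
    exact Nat.Coprime.pow_right n ((Nat.Prime.coprime_iff_not_dvd hp).mpr hKp).symm
  have hcorr := pgroup_corr (Γ := G) hp (Nat.card R) K R (K ⊓ C) rfl
    (fun t _ g hg => hKn.conj_mem g hg t) hcop hR (by rw [hC]) hCK
  have hinv : InvUnder K R (θ : K → ℂ) := by
    intro t _ g g' h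
    exact hθ t g g' h
  obtain ⟨β, ε, hε, hβ⟩ := hcorr.1 θ hinv
  -- transport
  have key : ∀ η : IrrCharacter ↥(K.subgroupOf C),
      classInner (resSub K C (θ : K → ℂ)) (η : ↥(K.subgroupOf C) → ℂ) =
        classInner (fun c : ↥(K ⊓ C) => (θ : K → ℂ) ⟨c, hCK c.2⟩)
          ((irrEquiv (subEquiv K C).symm η : IrrCharacter ↥(K ⊓ C)) : ↥(K ⊓ C) → ℂ) := by
    intro η
    rw [← classInner_comp_mulEquiv (subEquiv K C)]
    congr 1
  refine ⟨irrEquiv (subEquiv K C) β, ?_, ?_⟩
  · obtain ⟨m, hm, hmod⟩ := hβ β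
    refine ⟨m, ?_, ?_⟩
    · rw [key]
      have : irrEquiv (subEquiv K C).symm (irrEquiv (subEquiv K C) β) = β := by
        apply Subtype.ext
        funext x
        simp only [irrEquiv_apply, MulEquiv.apply_symm_apply]
      rw [this]
      exact hm
    · rw [if_pos rfl] at hmod
      intro hd
      have h0 : (m : ℤ) ≡ 0 [ZMOD p] := by
        rw [Int.modEq_zero_iff_dvd]
        exact_mod_cast hd
      have h1 : ε ≡ 0 [ZMOD p] := hmod.symm.trans h0
      rw [Int.modEq_zero_iff_dvd] at h1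
      have h2 : (p : ℤ) ∣ 1 := by
        rcases hε with rfl | rfl
        · exact h1
        · simpa using (dvd_neg.mpr h1)
      have := Int.eq_one_of_dvd_one (by positivity) h2
      exact hp.one_lt.ne' (by exact_mod_cast this)
  · intro η hη
    obtain ⟨m, hm, hmod⟩ := hβ (irrEquiv (subEquiv K C).symm η)
    refine ⟨m, ?_, ?_⟩
    · rw [key]
      exact hm
    · have hne : irrEquiv (subEquiv K C).symm η ≠ β := by
        intro h
        apply hη
        rw [← h]
        apply Subtype.ext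
        funext x
        simp only [irrEquiv_apply, MulEquiv.symm_apply_apply]
      rw [if_neg hne, Int.modEq_zero_iff_dvd] at hmod
      exact_mod_cast hmod

/-- (GLAUB) Glauberman correspondent for the `p`-group `R` acting on the `p'`-group `K`. -/
theorem exists_glauberman (K : Subgroup G) [hKn : K.Normal] [Fintype K]
    (hKp : ¬ p ∣ Nat.card K) (θ : IrrCharacter K)
    (hθ : ∀ g : G, IsConjCharOf K g (θ : K → ℂ) (θ : K → ℂ))
    (R : Subgroup G) (hR : IsPGroup p R)
    [Fintype ↥(K.subgroupOf (Subgroup.centralizer (R : Set G)))] :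
    ∃ θs : IrrCharacter ↥(K.subgroupOf (Subgroup.centralizer (R : Set G))),
      (∃ m : ℕ, classInner (resSub K (Subgroup.centralizer (R : Set G)) (θ : K → ℂ))
          (θs : ↥(K.subgroupOf (Subgroup.centralizer (R : Set G))) → ℂ) = (m : ℂ) ∧ ¬ p ∣ m) ∧
      ∀ η : IrrCharacter ↥(K.subgroupOf (Subgroup.centralizer (R : Set G))), η ≠ θs →
        ∃ m : ℕ, classInner (resSub K (Subgroup.centralizer (R : Set G)) (θ : K → ℂ))
          (η : ↥(K.subgroupOf (Subgroup.centralizer (R : Set G))) → ℂ) = (m : ℂ) ∧ p ∣ m :=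
  exists_glauberman_aux K hKp θ hθ R hR _ rfl

end Cfsg.Agent.Lib.Helper2.FPTGLAUB
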