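/-
helper2: S4642 leaf (GT) `exists_constrained_centralizer`: in the `p`-constrained situation the
centralizer of a `p`-subgroup `R` is again `p`-constrained over `C_K(R)`.
-/
import Mathlib
import Cfsg.Agent.Lib.Helper8.FPTLIFT
import Cfsg.Agent.Lib.Helper8.FPTGT1
import Cfsg.Agent.Lib.Helper12.PPrimeP

set_option autoImplicit false
set_option linter.unusedSectionVars false
set_option linter.unusedVariables false
set_option linter.style.haveILetI false

namespace Cfsg.Agent.Lib.Helper2.FPTGT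

open Cfsg Cfsg.Agent.Lib.Helper12
open Cfsg.Agent.Lib.Helper8.FPTLIFT Cfsg.Agent.Lib.Helper8.FPTGT1

universe u

section core

variable {H : Type u} [Group H] [Fintype H] {p : ℕ} [hpp : Fact p.Prime]

/-- The preimage of `O_p(H / K')`. -/
def L1 (p : ℕ) (K' : Subgroup H) [K'.Normal] : Subgroup H :=
  (Cfsg.pCore p (H ⧸ K')).comap (QuotientGroup.mk' K')

instance L1_normal (K' : Subgroup H) [K'.Normal] : (L1 p K').Normal := by
  unfold L1
  infer_instance

theorem le_L1 (K' : Subgroup H) [K'.Normal] : K' ≤ L1 p K' := by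
  intro x hx
  unfold L1
  rw [Subgroup.mem_comap]
  have : QuotientGroup.mk' K' x = 1 := (QuotientGroup.eq_one_iff x).mpr hx
  rw [this]
  exact one_mem _

theorem relIndex_L1 (K' : Subgroup H) [K'.Normal] : ∃ a : ℕ, K'.relIndex (L1 p K') = p ^ a := by
  obtain ⟨a, ha⟩ := (IsPGroup.iff_card (p := p)).mp (pCore_isPGroup' (X := H ⧸ K') p)
  refine ⟨a, ?_⟩
  have h1 := card_comap_mk' K' (Cfsg.pCore p (H ⧸ K'))
  have h2 := Subgroup.relIndex_mul_relIndex ⊥ K' (L1 p K') bot_le (le_L1 K')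
  rw [Subgroup.relIndex_bot_left, Subgroup.relIndex_bot_left] at h2
  have h3 : Nat.card ↥(L1 p K') = Nat.card ↥K' * Nat.card ↥(Cfsg.pCore p (H ⧸ K')) := h1
  rw [h3, ha] at h2
  exact Nat.eq_of_mul_eq_mul_left Nat.card_pos h2

/-- A normal subgroup all of whose elements have `p`-power order modulo `K'` lies in `L1`. -/
theorem le_L1_of_normal (K' : Subgroup H) [K'.Normal] (N : Subgroup H) [N.Normal]
    (hN : ∀ x ∈ N, ∃ k : ℕ, x ^ (p ^ k) ∈ K') : N ≤ L1 p K' := by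
  intro x hx
  unfold L1
  rw [Subgroup.mem_comap]
  have hnorm : (N.map (QuotientGroup.mk' K')).Normal :=
    Subgroup.Normal.map inferInstance _ (QuotientGroup.mk'_surjective K')
  have hpg : IsPGroup p ↥(N.map (QuotientGroup.mk' K')) := by
    rintro ⟨z, hz⟩
    obtain ⟨y, hy, rfl⟩ := hz
    obtain ⟨k, hk⟩ := hN y hy
    refine ⟨k, ?_⟩
    apply Subtype.ext
    rw [Subgroup.coe_pow, Subgroup.coe_one]
    show (QuotientGroup.mk' K' y) ^ (p ^ k) = 1
    rw [← map_pow]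
    exact (QuotientGroup.eq_one_iff _).mpr hk
  have hle : N.map (QuotientGroup.mk' K') ≤ Cfsg.pCore p (H ⧸ K') := by
    unfold Cfsg.pCore
    exact le_sSup ⟨hnorm, hpg⟩
  exact hle ⟨x, hx, rfl⟩

/-- `K' ⊔ Q₁ = L1` for a Sylow `p`-subgroup `Q₁` of `L1`. -/
theorem sup_sylow_eq_L1 (K' : Subgroup H) [K'.Normal] (Q₁ : Subgroup H)
    (hQ₁L : Q₁ ≤ L1 p K') (hQ₁S : ¬ p ∣ Q₁.relIndex (L1 p K')) : K' ⊔ Q₁ = L1 p K' := by
  have hle : K' ⊔ Q₁ ≤ L1 p K' := sup_le (le_L1 K') hQ₁L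
  apply le_antisymm hle
  rw [← Subgroup.relIndex_eq_one]
  obtain ⟨a, ha⟩ := relIndex_L1 (p := p) K'
  have h1 : (K' ⊔ Q₁).relIndex (L1 p K') ∣ p ^ a := by
    rw [← ha]
    exact Subgroup.relIndex_dvd_of_le_left _ le_sup_left
  have h2 : (K' ⊔ Q₁).relIndex (L1 p K') ∣ Q₁.relIndex (L1 p K') :=
    Subgroup.relIndex_dvd_of_le_left _ le_sup_right
  obtain ⟨b, hb, hb'⟩ := (Nat.dvd_prime_pow hpp.out).mp h1
  rcases Nat.eq_zero_or_pos b with rfl | hbpos
  · rw [hb', pow_zero]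
  · exfalso
    apply hQ₁S
    refine dvd_trans ?_ h2
    rw [hb']
    exact dvd_pow_self p hbpos.ne'

/-- Every element has a `p`-power power which is `p`-regular. -/
theorem exists_pow_pRegular (x : H) : ∃ k : ℕ, ¬ p ∣ orderOf (x ^ (p ^ k)) := by
  refine ⟨(orderOf x).factorization p, ?_⟩
  have hpos : 0 < orderOf x := orderOf_pos x
  rw [orderOf_pow_of_dvd (pow_ne_zero _ hpp.out.ne_zero) (Nat.ordProj_dvd _ p)]
  exact Nat.not_dvd_ordCompl hpp.out hpos.ne'

/-- The centralizer of a Sylow `p`-subgroup `Q₁` of `L1` lies in `L1`, provided its `p`-regular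
elements lie in `K'`. -/
theorem centralizer_le_L1 (K' : Subgroup H) [K'.Normal] (hK'p : ¬ p ∣ Nat.card K')
    (Q₁ : Subgroup H) (hQ₁L : Q₁ ≤ L1 p K') (hQ₁p : IsPGroup p Q₁)
    (hQ₁S : ¬ p ∣ Q₁.relIndex (L1 p K'))
    (hreg : ∀ x : H, x ∈ Subgroup.centralizer (Q₁ : Set H) → ¬ p ∣ orderOf x → x ∈ K') :
    Subgroup.centralizer (Q₁ : Set H) ≤ L1 p K' := by
  have hsup := sup_sylow_eq_L1 K' Q₁ hQ₁L hQ₁S
  -- the image of `Q₁` is `O_p(H / K')`
  have h1 : Q₁.map (QuotientGroup.mk' K') = Cfsg.pCore p (H ⧸ K') := by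
    have e1 : (L1 p K').map (QuotientGroup.mk' K') = Cfsg.pCore p (H ⧸ K') :=
      Subgroup.map_comap_eq_self_of_surjective (QuotientGroup.mk'_surjective K') _
    rw [← e1, ← hsup, Subgroup.map_sup, QuotientGroup.map_mk'_self, bot_sup_eq]
  have h2 := centralizer_map_mk K' hK'p Q₁ hQ₁p
  rw [h1] at h2
  have hnorm : ((Subgroup.centralizer (Q₁ : Set H)).map (QuotientGroup.mk' K')).Normal := by
    rw [← h2]
    infer_instance
  have hpg : IsPGroup p ↥((Subgroup.centralizer (Q₁ : Set H)).map (QuotientGroup.mk' K')) := by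
    rintro ⟨z, hz⟩
    obtain ⟨y, hy, rfl⟩ := hz
    obtain ⟨k, hk⟩ := exists_pow_pRegular (p := p) y
    refine ⟨k, ?_⟩
    apply Subtype.ext
    rw [Subgroup.coe_pow, Subgroup.coe_one]
    show (QuotientGroup.mk' K' y) ^ (p ^ k) = 1
    rw [← map_pow]
    exact (QuotientGroup.eq_one_iff _).mpr (hreg _ (Subgroup.pow_mem _ hy _) hk)
  have hle : (Subgroup.centralizer (Q₁ : Set H)).map (QuotientGroup.mk' K') ≤
      Cfsg.pCore p (H ⧸ K') := by
    unfold Cfsg.pCore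
    exact le_sSup ⟨hnorm, hpg⟩
  intro x hx
  unfold L1
  rw [Subgroup.mem_comap]
  exact hle ⟨x, hx, rfl⟩

end core

section main

variable {G : Type u} [Group G] [Fintype G] {p : ℕ} [hpp : Fact p.Prime]

/-- In a `p`-power-index situation `K ≤ L`, the `p^a`-th power of an element of `L` lies in `K`. -/
theorem pow_mem_of_relIndex (K L : Subgroup G) [hKn : K.Normal] {a : ℕ}
    (ha : K.relIndex L = p ^ a) {y : G} (hy : y ∈ L) : y ^ (p ^ a) ∈ K := by
  haveI : (K.subgroupOf L).Normal := Subgroup.Normal.subgroupOf hKn L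
  have h1 : ((⟨y, hy⟩ : L) : L ⧸ K.subgroupOf L) ^ (p ^ a) = 1 := by
    have hc : Nat.card (L ⧸ K.subgroupOf L) = p ^ a := by
      rw [← Subgroup.index_eq_card]
      exact ha
    rw [← hc]
    exact pow_card_eq_one'
  rw [← QuotientGroup.mk_pow, QuotientGroup.eq_one_iff, Subgroup.mem_subgroupOf] at h1
  simpa using h1

/-- (GT) `C_G(R)` is again `p`-constrained over `C_K(R)`. -/
theorem exists_constrained_centralizer (K L Q : Subgroup G) [hKn : K.Normal] [hLn : L.Normal]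
    (hKp : ¬ p ∣ Nat.card K) (hKL : K ≤ L) (hLK : ∃ a : ℕ, K.relIndex L = p ^ a)
    (hQL : Q ≤ L) (hQp : IsPGroup p Q) (hQS : ¬ p ∣ Q.relIndex L)
    (hCQ : Subgroup.centralizer (Q : Set G) ≤ L)
    (R : Subgroup G) (hR : IsPGroup p R) :
    ∃ L₁ Q₁ : Subgroup ↥(Subgroup.centralizer (R : Set G)), L₁.Normal ∧
      K.subgroupOf (Subgroup.centralizer (R : Set G)) ≤ L₁ ∧
      (∃ a : ℕ, (K.subgroupOf (Subgroup.centralizer (R : Set G))).relIndex L₁ = p ^ a) ∧
      Q₁ ≤ L₁ ∧ IsPGroup p Q₁ ∧ ¬ p ∣ Q₁.relIndex L₁ ∧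
      Subgroup.centralizer (Q₁ : Set ↥(Subgroup.centralizer (R : Set G))) ≤ L₁ := by
  classical
  haveI : Fintype ↥(Subgroup.centralizer (R : Set G)) := Fintype.ofFinite _
  haveI hK'n : (K.subgroupOf (Subgroup.centralizer (R : Set G))).Normal :=
    Subgroup.Normal.subgroupOf hKn _
  haveI hL'n : (L.subgroupOf (Subgroup.centralizer (R : Set G))).Normal :=
    Subgroup.Normal.subgroupOf hLn _
  have hK'p : ¬ p ∣ Nat.card ↥(K.subgroupOf (Subgroup.centralizer (R : Set G))) := by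
    intro h
    apply hKp
    refine dvd_trans h ?_
    let φ : ↥(K.subgroupOf (Subgroup.centralizer (R : Set G))) →* K :=
      ((Subgroup.centralizer (R : Set G)).subtype.comp
        (K.subgroupOf (Subgroup.centralizer (R : Set G))).subtype).codRestrict K
        (fun x => Subgroup.mem_subgroupOf.mp x.2)
    apply Subgroup.card_dvd_of_injective φ
    intro x y hxy
    have h1 : ((x : ↥(Subgroup.centralizer (R : Set G))) : G) =
        ((y : ↥(Subgroup.centralizer (R : Set G))) : G) := congrArg (fun z : K => (z : G)) hxy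
    exact Subtype.ext (Subtype.ext h1)
  obtain ⟨P₁⟩ : Nonempty (Sylow p ↥(L1 p (K.subgroupOf (Subgroup.centralizer (R : Set G))))) :=
    inferInstance
  set K' := K.subgroupOf (Subgroup.centralizer (R : Set G)) with hK'
  set Q₁ : Subgroup ↥(Subgroup.centralizer (R : Set G)) :=
    (P₁ : Subgroup ↥(L1 p K')).map (L1 p K').subtype with hQ₁
  have hQ₁L : Q₁ ≤ L1 p K' := Subgroup.map_subtype_le _
  have hQ₁p : IsPGroup p Q₁ := P₁.isPGroup'.map _
  have hQ₁S : ¬ p ∣ Q₁.relIndex (L1 p K') := by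
    have e : Q₁.subgroupOf (L1 p K') = (P₁ : Subgroup ↥(L1 p K')) := by
      rw [hQ₁]
      exact Subgroup.comap_map_eq_self_of_injective (Subgroup.subtype_injective _) _
    unfold Subgroup.relIndex
    rw [e]
    exact P₁.not_dvd_index
  obtain ⟨a, ha⟩ := hLK
  -- `L ⊓ C ≤ L₁`
  have hLH : L.subgroupOf (Subgroup.centralizer (R : Set G)) ≤ L1 p K' := by
    apply le_L1_of_normal K' _
    intro y hy
    refine ⟨a, ?_⟩
    rw [hK', Subgroup.mem_subgroupOf, Subgroup.coe_pow]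
    exact pow_mem_of_relIndex K L ha (Subgroup.mem_subgroupOf.mp hy)
  have hsup := sup_sylow_eq_L1 K' Q₁ hQ₁L hQ₁S
  refine ⟨L1 p K', Q₁, inferInstance, le_L1 K', relIndex_L1 K', hQ₁L, hQ₁p, hQ₁S, ?_⟩
  apply centralizer_le_L1 K' hK'p Q₁ hQ₁L hQ₁p hQ₁S
  intro x hx hxreg
  rw [hK', Subgroup.mem_subgroupOf]
  apply mem_of_pRegular_centralizes K L Q hKp hKL ⟨a, ha⟩ hQL hQp hQS hCQ R hR
    (Q₁.map (Subgroup.centralizer (R : Set G)).subtype) (hQ₁p.map _)
  · -- `L ⊓ C ≤ K ⊔ Q₀`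
    rintro g ⟨hgL, hgC⟩
    have h1 : (⟨g, hgC⟩ : ↥(Subgroup.centralizer (R : Set G))) ∈ K' ⊔ Q₁ := by
      rw [hsup]
      exact hLH (Subgroup.mem_subgroupOf.mpr hgL)
    have h2 : g ∈ (K' ⊔ Q₁).map (Subgroup.centralizer (R : Set G)).subtype := ⟨_, h1, rfl⟩
    rw [Subgroup.map_sup] at h2
    have h3 : K'.map (Subgroup.centralizer (R : Set G)).subtype ≤ K := by
      rintro _ ⟨k, hk, rfl⟩
      exact Subgroup.mem_subgroupOf.mp hk
    have h4 : K'.map (Subgroup.centralizer (R : Set G)).subtype ⊔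
        Q₁.map (Subgroup.centralizer (R : Set G)).subtype ≤
        K ⊔ Q₁.map (Subgroup.centralizer (R : Set G)).subtype := sup_le_sup_right h3 _
    exact h4 h2
  · exact x.2
  · rw [Subgroup.mem_centralizer_iff]
    rintro _ ⟨q, hq, rfl⟩
    have := (Subgroup.mem_centralizer_iff.mp hx) q hq
    exact congrArg Subtype.val this
  · rwa [Subgroup.orderOf_coe]

end main

end Cfsg.Agent.Lib.Helper2.FPTGT
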