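import Mathlib
import Cfsg.Agent.Lib.Helper9.FRBDefs

/-! helper2: FRB-SPEC (S4427 market, planner helper9): the spectral theorem for a `rev`-symmetric element of the real group algebra. -/

set_option autoImplicit false

namespace Cfsg.Agent.Lib.Helper2.FRBSPEC

open Cfsg Cfsg.Agent.Lib.Helper9.FRB

variable {G : Type*} [Group G]

/-- coordinates of the group algebra as a Euclidean space -/
noncomputable def phi [Fintype G] : MonoidAlgebra ℝ G ≃ₗ[ℝ] EuclideanSpace ℝ G :=
  ((MonoidAlgebra.coeffLinearEquiv ℝ).trans (Finsupp.linearEquivFunOnFinite ℝ ℝ G)).trans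
    (WithLp.linearEquiv 2 ℝ (G → ℝ)).symm

omit [Group G] in
theorem phi_apply [Fintype G] (w : MonoidAlgebra ℝ G) (g : G) : phi w g = w.coeff g := by
  simp [phi]

omit [Group G] in
theorem inner_phi [Fintype G] (u v : MonoidAlgebra ℝ G) :
    inner ℝ (phi u) (phi v) = ∑ g : G, u.coeff g * v.coeff g := by
  simp only [PiLp.inner_apply]
  apply Finset.sum_congr rfl
  intro g _
  have h1 := phi_apply u g
  have h2 := phi_apply v g
  simp only [h1, h2]
  simp [mul_comm]

theorem coeff_mul_fintype [Fintype G] (x y : MonoidAlgebra ℝ G) (g : G) :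
    (x * y).coeff g = ∑ h : G, x.coeff h * y.coeff (h⁻¹ * g) := by
  rw [MonoidAlgebra.coeff_mul_apply_left, Finsupp.sum_fintype]
  simp

/-- left multiplication by a `rev`-symmetric element is symmetric for the standard inner product -/
theorem sum_mul_symm [Fintype G] (x : MonoidAlgebra ℝ G) (hx : rev x = x) (u v : MonoidAlgebra ℝ G) :
    ∑ g : G, (x * u).coeff g * v.coeff g = ∑ g : G, u.coeff g * (x * v).coeff g := by
  have hxi : ∀ h : G, x.coeff h⁻¹ = x.coeff h := by
    intro h
    have := rev_coeff x h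
    rw [hx] at this
    exact this.symm
  simp only [coeff_mul_fintype, Finset.sum_mul, Finset.mul_sum]
  -- LHS = ∑ g ∑ h x_h u_{h⁻¹ g} v_g ; RHS = ∑ g ∑ h u_g x_h v_{h⁻¹ g}
  rw [Finset.sum_comm]
  -- LHS = ∑ h ∑ g x_h u_{h⁻¹ g} v_g
  have hL : ∀ h : G, ∑ g : G, x.coeff h * u.coeff (h⁻¹ * g) * v.coeff g =
      ∑ k : G, x.coeff h * u.coeff k * v.coeff (h * k) := by
    intro h
    apply Fintype.sum_equiv (Equiv.mulLeft h⁻¹)
    intro g
    simp
  rw [Finset.sum_congr rfl (fun h _ => hL h)]
  -- RHS
  rw [Finset.sum_comm (f := fun g h => u.coeff g * (x.coeff h * v.coeff (h⁻¹ * g)))]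
  have hR : ∑ h : G, ∑ g : G, u.coeff g * (x.coeff h * v.coeff (h⁻¹ * g)) =
      ∑ h : G, ∑ g : G, u.coeff g * (x.coeff h⁻¹ * v.coeff (h * g)) := by
    apply Fintype.sum_equiv (Equiv.inv G)
    intro h
    simp
  rw [hR]
  apply Finset.sum_congr rfl
  intro h _
  apply Finset.sum_congr rfl
  intro k _
  rw [hxi h]
  ring

/-- powers of `x` on an eigenvector -/
theorem pow_mul_eig (x v : MonoidAlgebra ℝ G) (l : ℝ) (hv : x * v = l • v) (n : ℕ) :
    x ^ n * v = l ^ n • v := by
  induction n with
  | zero => simp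
  | succ n ih => rw [pow_succ, mul_assoc, hv, mul_smul_comm, ih, smul_smul, pow_succ, mul_comm]

/-- polynomials in `x` on an eigenvector -/
theorem aeval_mul_eig (x v : MonoidAlgebra ℝ G) (l : ℝ) (hv : x * v = l • v) (P : Polynomial ℝ) :
    Polynomial.aeval x P * v = P.eval l • v := by
  rw [Polynomial.aeval_eq_sum_range, Polynomial.eval_eq_sum_range, Finset.sum_mul, Finset.sum_smul]
  apply Finset.sum_congr rfl
  intro i _
  rw [smul_mul_assoc, pow_mul_eig x v l hv, smul_smul]

/-- FRB-SPEC -/
theorem spec [Finite G] (x : MonoidAlgebra ℝ G) (hx : rev x = x) :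
    ∃ S : Finset ℝ,
      (∀ P₁ P₂ : Polynomial ℝ, (∀ l ∈ S, P₁.eval l = P₂.eval l) →
        Polynomial.aeval x P₁ = Polynomial.aeval x P₂) ∧
      (∀ (l : ℝ) (v : MonoidAlgebra ℝ G), v ≠ 0 → x * v = l • v → l ∈ S) ∧
      (∀ l ∈ S, ∃ v : MonoidAlgebra ℝ G, v ≠ 0 ∧ x * v = l • v) := by
  classical
  cases nonempty_fintype G
  -- the operator on the Euclidean space
  let T : EuclideanSpace ℝ G →ₗ[ℝ] EuclideanSpace ℝ G :=
    (phi (G := G)).toLinearMap ∘ₗ (LinearMap.mulLeft ℝ x) ∘ₗ (phi (G := G)).symm.toLinearMap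
  have hTapp : ∀ w : MonoidAlgebra ℝ G, T (phi w) = phi (x * w) := by
    intro w
    simp [T]
  have hT : T.IsSymmetric := by
    intro a b
    obtain ⟨u, rfl⟩ := phi.surjective a
    obtain ⟨v, rfl⟩ := phi.surjective b
    rw [hTapp, hTapp, inner_phi, inner_phi]
    exact sum_mul_symm x hx u v
  have hn : Module.finrank ℝ (EuclideanSpace ℝ G) = Fintype.card G := finrank_euclideanSpace
  set b := hT.eigenvectorBasis hn with hb
  set ev := hT.eigenvalues hn with hev
  -- eigenvectors in the group algebra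
  let w : Fin (Fintype.card G) → MonoidAlgebra ℝ G := fun i => phi.symm (b i)
  have hw : ∀ i, x * w i = ev i • w i := by
    intro i
    have h1 := hT.apply_eigenvectorBasis hn i
    have h2 : T (b i) = phi (x * w i) := by
      have := hTapp (w i)
      simp only [w, LinearEquiv.apply_symm_apply] at this
      exact this
    rw [← hb, h2] at h1
    have h3 := congrArg phi.symm h1
    rw [LinearEquiv.symm_apply_apply, map_smul] at h3
    simpa [hev, w] using h3
  have hw0 : ∀ i, w i ≠ 0 := by
    intro i h0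
    have : b i = 0 := by
      have := congrArg phi h0
      simpa [w] using this
    exact b.orthonormal.ne_zero i this
  -- the `w i` span
  have hspan : ∀ f g : MonoidAlgebra ℝ G →ₗ[ℝ] MonoidAlgebra ℝ G, (∀ i, f (w i) = g (w i)) → f = g := by
    intro f g hfg
    have hbasis := b.toBasis.map phi.symm
    apply (b.toBasis.map phi.symm).ext
    intro i
    simpa [w] using hfg i
  refine ⟨Finset.univ.image ev, ?_, ?_, ?_⟩
  · intro P₁ P₂ hP
    have hlin : LinearMap.mulLeft ℝ (Polynomial.aeval x P₁) = LinearMap.mulLeft ℝ (Polynomial.aeval x P₂) := by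
      apply hspan
      intro i
      simp only [LinearMap.mulLeft_apply]
      rw [aeval_mul_eig x (w i) (ev i) (hw i), aeval_mul_eig x (w i) (ev i) (hw i),
        hP (ev i) (Finset.mem_image_of_mem ev (Finset.mem_univ i))]
    have := congrArg (fun f => f 1) hlin
    simpa using this
  · intro l v hv hxv
    by_contra hl
    -- every coordinate of `phi v` in the eigenbasis vanishes
    have hcoord : ∀ i, inner ℝ (b i) (phi v) = 0 := by
      intro i
      have hne : ev i ≠ l := by
        intro h
        apply hl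
        rw [← h]
        exact Finset.mem_image_of_mem ev (Finset.mem_univ i)
      have h1 : inner ℝ (T (b i)) (phi v) = inner ℝ (b i) (T (phi v)) := hT (b i) (phi v)
      rw [hTapp, hxv, map_smul, hb, hT.apply_eigenvectorBasis hn i, ← hb, ← hev] at h1
      rw [inner_smul_left, inner_smul_right] at h1
      have h2 : (ev i - l) * inner ℝ (b i) (phi v) = 0 := by
        have : ((ev i : ℝ)) * inner ℝ (b i) (phi v) = l * inner ℝ (b i) (phi v) := by
          simpa using h1
        linear_combination this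
      rcases mul_eq_zero.mp h2 with h3 | h3
      · exact absurd (sub_eq_zero.mp h3) hne
      · exact h3
    have hz : phi v = 0 := by
      apply b.toBasis.ext_elem
      intro i
      simp [OrthonormalBasis.repr_apply_apply, hcoord i]
    apply hv
    have := congrArg phi.symm hz
    simpa using this
  · intro l hl
    obtain ⟨i, _, rfl⟩ := Finset.mem_image.mp hl
    exact ⟨w i, hw0 i, hw i⟩

end Cfsg.Agent.Lib.Helper2.FRBSPEC
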