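import Mathlib
import Cfsg.Prelude.Def_Blocks
import Cfsg.Agent.Lib.Helper24.LocalRing
import Cfsg.Agent.Lib.Helper9.FRBDefs
import Cfsg.Agent.Lib.Helper2.FRBSPEC

/-! helper2: FRB-INT (S4427 market, planner helper9): the eigenvalues of left multiplication by an element of the real group
algebra with `D`-integral coefficients (`p ∤ D`) are local integers. -/

set_option autoImplicit false

namespace Cfsg.Agent.Lib.Helper2.FRBINT

open Cfsg Cfsg.Agent.Lib.Helper9.FRB

variable {G : Type*} [Group G]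

/-- an element of the real group algebra with integer coefficients satisfies a monic integer polynomial -/
theorem exists_monic_aeval_eq_zero [Finite G] (y : MonoidAlgebra ℝ G)
    (hint : ∀ k, ∃ m : ℤ, y.coeff k = (m : ℝ)) :
    ∃ P : Polynomial ℤ, P.Monic ∧ Polynomial.aeval y (P.map (Int.castRingHom ℝ)) = 0 := by
  classical
  choose m hm using hint
  let y' : MonoidAlgebra ℤ G := MonoidAlgebra.ofCoeff (Finsupp.equivFunOnFinite.symm m)
  let φ : MonoidAlgebra ℤ G →+* MonoidAlgebra ℝ G := MonoidAlgebra.mapRingHom G (Int.castRingHom ℝ)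
  have hφ : φ y' = y := by
    apply MonoidAlgebra.ext
    apply Finsupp.ext
    intro k
    rw [MonoidAlgebra.coeff_mapRingHom, hm k]
    simp [y']
  obtain ⟨P, hP, hroot⟩ := IsIntegral.of_finite ℤ y'
  refine ⟨P, hP, ?_⟩
  have h1 := congrArg φ hroot
  rw [Polynomial.hom_eval₂, map_zero, hφ] at h1
  rw [Polynomial.aeval_def, Polynomial.eval₂_map]
  have hhom : (algebraMap ℝ (MonoidAlgebra ℝ G)).comp (Int.castRingHom ℝ) =
      φ.comp (algebraMap ℤ (MonoidAlgebra ℤ G)) := RingHom.ext_int _ _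
  rw [hhom]
  exact h1

/-- FRB-INT -/
theorem eig_memLocalRing [Finite G] {p : ℕ} {M : Ideal AlgInt} (hM : IsPModular p M)
    (x : MonoidAlgebra ℝ G) (D : ℕ) (hD : ¬ p ∣ D)
    (hint : ∀ k, ∃ m : ℤ, (D : ℝ) * x.coeff k = (m : ℝ))
    (l : ℝ) (v : MonoidAlgebra ℝ G) (hv : v ≠ 0) (hxv : x * v = l • v) :
    MemLocalRing M ((l : ℝ) : ℂ) := by
  classical
  have hD0 : D ≠ 0 := by
    intro h
    apply hD
    rw [h]
    exact dvd_zero p
  have hDr : (D : ℝ) ≠ 0 := by exact_mod_cast hD0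
  have hDc : (D : ℂ) ≠ 0 := by exact_mod_cast hD0
  set y : MonoidAlgebra ℝ G := (D : ℝ) • x with hy
  have hyint : ∀ k, ∃ m : ℤ, y.coeff k = (m : ℝ) := by
    intro k
    obtain ⟨m, hm⟩ := hint k
    refine ⟨m, ?_⟩
    rw [← hm, hy]
    simp
  obtain ⟨P, hP, hroot⟩ := exists_monic_aeval_eq_zero y hyint
  have hyv : y * v = ((D : ℝ) * l) • v := by
    rw [hy, smul_mul_assoc, hxv, smul_smul]
  have h1 := Cfsg.Agent.Lib.Helper2.FRBSPEC.aeval_mul_eig y v ((D : ℝ) * l) hyv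
    (P.map (Int.castRingHom ℝ))
  rw [hroot, zero_mul] at h1
  have h2 : (P.map (Int.castRingHom ℝ)).eval ((D : ℝ) * l) = 0 := by
    rcases smul_eq_zero.mp h1.symm with h | h
    · exact h
    · exact absurd h hv
  have hintR : IsIntegral ℤ ((D : ℝ) * l) := by
    refine ⟨P, hP, ?_⟩
    rw [Polynomial.eval₂_eq_eval_map]
    exact h2
  have hintC : IsIntegral ℤ (((D : ℝ) * l : ℝ) : ℂ) := by
    have := hintR.algebraMap (B := ℂ)
    simpa using this
  let a : AlgInt := ⟨(((D : ℝ) * l : ℝ) : ℂ), hintC⟩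
  refine ⟨a, (D : AlgInt), Cfsg.Agent.Lib.Helper24.natCast_not_mem_of_not_dvd hM hD, ?_⟩
  show ((((D : ℝ) * l : ℝ) : ℂ)) / (((D : AlgInt) : AlgInt) : ℂ) = (l : ℂ)
  have hcast : (((D : AlgInt) : AlgInt) : ℂ) = (D : ℂ) := by simp
  rw [hcast]
  push_cast
  field_simp

end Cfsg.Agent.Lib.Helper2.FRBINT
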