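import Mathlib
import Cfsg.Prelude.Def_Characters
import Cfsg.Agent.Lib.Lead.CharInd
import Cfsg.Agent.Lib.Helper10.NormalSum
import Cfsg.Agent.Lib.Helper10.IrrOrtho

/-!
Averaging a class function over the cosets of a normal subgroup `K` (the `K`-fixed part of a
character): the difference `χ - avgK K χ` is again a character, orthogonal to `avgK K χ`.
-/

set_option autoImplicit false
namespace Cfsg.Agent.Lib.Helper2
universe u
open Cfsg Cfsg.Agent.CharLib
open scoped ComplexConjugate

section proj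
variable {N : Type u} [Group N] [Fintype N] (K : Subgroup N) [Fintype K]

/-- average of `f` over the left translates by elements of `K` -/
noncomputable def avgK (f : N → ℂ) : N → ℂ :=
  fun x => (Nat.card K : ℂ)⁻¹ * ∑ k : K, f ((k : N) * x)

theorem avgK_mul_left (f : N → ℂ) (k : K) (x : N) : avgK K f ((k : N) * x) = avgK K f x := by
  unfold avgK
  congr 1
  refine Fintype.sum_equiv (Equiv.mulRight k) _ _ (fun j => ?_)
  simp [mul_assoc]

theorem card_K_ne_zero : (Nat.card K : ℂ) ≠ 0 :=
  Nat.cast_ne_zero.mpr Nat.card_pos.ne'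

theorem avgK_isClassFunction [hK : K.Normal] {f : N → ℂ} (hf : IsClassFunction N f) :
    IsClassFunction N (avgK K f) := by
  intro g x
  unfold avgK
  congr 1
  let e : K ≃ K :=
    { toFun := fun k => ⟨x * (k : N) * x⁻¹, hK.conj_mem _ k.2 x⟩
      invFun := fun k => ⟨x⁻¹ * (k : N) * x, by simpa using hK.conj_mem _ k.2 x⁻¹⟩
      left_inv := fun k => by ext; simp [mul_assoc]
      right_inv := fun k => by ext; simp [mul_assoc] }
  symm
  refine Fintype.sum_equiv e _ _ (fun k => ?_)
  have : ((e k : K) : N) * (x * g * x⁻¹) = x * ((k : N) * g) * x⁻¹ := by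
    simp [e, mul_assoc]
  rw [this, hf]

/-- for `x` acting without fixed points on `K`, the average is the value -/
theorem avgK_eq_of_fpf [hK : K.Normal] {f : N → ℂ} (hf : IsClassFunction N f) (x : N)
    (hx : ∀ k ∈ K, x * k = k * x → k = 1) : avgK K f x = f x := by
  unfold avgK
  have hmem : ∀ k : K, (k : N) * (x * (k : N)⁻¹ * x⁻¹) ∈ K := fun k =>
    K.mul_mem k.2 (hK.conj_mem _ (K.inv_mem k.2) x)
  let φ : K → K := fun k => ⟨(k : N) * (x * (k : N)⁻¹ * x⁻¹), hmem k⟩
  have hinj : Function.Injective φ := by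
    intro k k' hkk
    have h1 : (k : N) * (x * (k : N)⁻¹ * x⁻¹) = (k' : N) * (x * (k' : N)⁻¹ * x⁻¹) :=
      congrArg Subtype.val hkk
    have h2 : x * ((k' : N)⁻¹ * (k : N)) = ((k' : N)⁻¹ * (k : N)) * x := by
      have h3 : (k : N) * x * (k : N)⁻¹ = (k' : N) * x * (k' : N)⁻¹ := by
        have := congrArg (· * x) h1
        simpa [mul_assoc] using this
      calc x * ((k' : N)⁻¹ * (k : N)) = (k' : N)⁻¹ * ((k' : N) * x * (k' : N)⁻¹) * k := by group
        _ = (k' : N)⁻¹ * ((k : N) * x * (k : N)⁻¹) * k := by rw [h3]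
        _ = ((k' : N)⁻¹ * (k : N)) * x := by group
    have h4 := hx _ (K.mul_mem (K.inv_mem k'.2) k.2) h2
    ext
    have : (k : N) = (k' : N) := by
      have := congrArg ((k' : N) * ·) h4
      simpa using this
    exact this
  have hbij : Function.Bijective φ := (Finite.injective_iff_bijective).mp hinj
  have hsum : ∑ k : K, f ((k : N) * x) = ∑ k : K, f (((φ k : K) : N) * x) :=
    (Fintype.sum_bijective φ hbij _ _ (fun _ => rfl)).symm
  rw [hsum]
  have hterm : ∀ k : K, f (((φ k : K) : N) * x) = f x := by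
    intro k
    have : ((φ k : K) : N) * x = (k : N) * x * (k : N)⁻¹ := by
      simp [φ, mul_assoc]
    rw [this, hf]
  rw [Finset.sum_congr rfl (fun k _ => hterm k), Finset.sum_const, Finset.card_univ, nsmul_eq_mul,
    ← Nat.card_eq_fintype_card, ← mul_assoc, inv_mul_cancel₀ (card_K_ne_zero K), one_mul]

theorem sum_mul_conj_avgK (f : N → ℂ) :
    ∑ x : N, f x * conj (avgK K f x) = ∑ x : N, avgK K f x * conj (avgK K f x) := by
  have h1 : ∀ k : K, ∑ x : N, f ((k : N) * x) * conj (avgK K f x) =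
      ∑ x : N, f x * conj (avgK K f x) := by
    intro k
    refine Fintype.sum_equiv (Equiv.mulLeft (k : N)) _ _ (fun x => ?_)
    simp only [Equiv.coe_mulLeft]
    rw [avgK_mul_left]
  have h2 : ∑ x : N, avgK K f x * conj (avgK K f x) =
      (Nat.card K : ℂ)⁻¹ * ∑ k : K, ∑ x : N, f ((k : N) * x) * conj (avgK K f x) := by
    rw [Finset.sum_comm, Finset.mul_sum]
    apply Finset.sum_congr rfl
    intro x _
    rw [← Finset.sum_mul, ← mul_assoc]
    rfl
  rw [h2, Finset.sum_congr rfl (fun k _ => h1 k), Finset.sum_const, Finset.card_univ, nsmul_eq_mul,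
    ← Nat.card_eq_fintype_card, ← mul_assoc, inv_mul_cancel₀ (card_K_ne_zero K), one_mul]

/-- inner product of the average with an irreducible character -/
theorem classInner_avgK_irr [hK : K.Normal] (f : N → ℂ) {μ : N → ℂ} (hμ : IsIrrCharacter N μ) :
    classInner (avgK K f) μ = 0 ∨ classInner (avgK K f) μ = classInner f μ := by
  have hμcf := IsCharacter.isClassFunction (IsIrrCharacter.isCharacter hμ)
  have hμ1 : μ 1 ≠ 0 := Cfsg.Agent.Lib.Helper10.irr_one_ne_zero hμ
  -- the sum of `μ` over `k * x`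
  have htr : ∀ x : N, (∑ k : K, μ ((k : N) * x)) * μ 1 = (∑ k : K, μ (k : N)) * μ x := by
    intro x
    have := Cfsg.Agent.Lib.Helper10.sum_normal_translate K hμ x
    rw [← this]
    congr 1
    apply Finset.sum_congr rfl
    intro k _
    have := hμcf ((k : N) * x) x
    rw [← this]
    congr 1
    group
  have hkey : ∑ x : N, avgK K f x * conj (μ x) =
      (Nat.card K : ℂ)⁻¹ * ∑ x : N, f x * conj (∑ k : K, μ ((k : N) * x)) := by
    unfold avgK
    simp only [mul_assoc, ← Finset.mul_sum]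
    congr 1
    simp only [Finset.sum_mul]
    rw [Finset.sum_comm]
    simp only [map_sum, Finset.mul_sum]
    rw [Finset.sum_comm (s := (Finset.univ : Finset N))]
    refine Fintype.sum_equiv (Equiv.inv K) _ _ (fun k => ?_)
    refine Fintype.sum_equiv (Equiv.mulLeft (k : N)) _ _ (fun x => ?_)
    simp
  have hN0 : (Nat.card N : ℂ) ≠ 0 := Nat.cast_ne_zero.mpr Nat.card_pos.ne'
  rcases Cfsg.Agent.Lib.Helper10.sum_normal_eq_zero_or K hμ with h0 | h1
  · left
    unfold classInner
    rw [hkey]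
    have : ∀ x : N, ∑ k : K, μ ((k : N) * x) = 0 := by
      intro x
      have := htr x
      rw [h0, zero_mul] at this
      exact (mul_eq_zero.mp this).resolve_right hμ1
    simp [this]
  · right
    unfold classInner
    rw [hkey]
    have : ∀ x : N, ∑ k : K, μ ((k : N) * x) = (Nat.card K : ℂ) * μ x := by
      intro x
      have h2 := htr x
      have h3 : ∑ k : K, μ (k : N) = (Nat.card K : ℂ) * μ 1 := by
        rw [Finset.sum_congr rfl (fun (k : K) _ => h1 (k : N) k.2), Finset.sum_const, Finset.card_univ,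
          nsmul_eq_mul, Nat.card_eq_fintype_card]
      rw [h3] at h2
      have h4 : (∑ k : K, μ ((k : N) * x)) * μ 1 = ((Nat.card K : ℂ) * μ x) * μ 1 := by
        rw [h2]; ring
      exact mul_right_cancel₀ hμ1 h4
    simp only [this, map_mul, Complex.conj_natCast]
    congr 1
    rw [Finset.mul_sum]
    apply Finset.sum_congr rfl
    intro x _
    field_simp [card_K_ne_zero K]

/-- the part of a character not fixed by `K` is a character -/
theorem isCharacter_sub_avgK [hK : K.Normal] {χ : N → ℂ} (hχ : IsCharacter N χ) :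
    IsCharacter N (χ - avgK K χ) := by
  have hcf := IsCharacter.isClassFunction hχ
  apply isCharacter_of_classInner_nat (IsClassFunction.sub hcf (avgK_isClassFunction K hcf))
  intro μ
  rw [classInner_sub_left]
  obtain ⟨n, hn⟩ := IsCharacter.classInner_nat hχ (IsIrrCharacter.isCharacter μ.2)
  rcases classInner_avgK_irr K χ μ.2 with h | h
  · exact ⟨n, by rw [h, hn, sub_zero]⟩
  · exact ⟨0, by rw [h, sub_self, Nat.cast_zero]⟩

/-- Pythagoras for the decomposition `χ = avgK K χ + (χ - avgK K χ)` -/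
theorem sum_normSq_eq_add (f : N → ℂ) :
    ∑ x : N, ‖f x‖ ^ 2 = ∑ x : N, ‖avgK K f x‖ ^ 2 + ∑ x : N, ‖(f - avgK K f) x‖ ^ 2 := by
  have h1 := sum_mul_conj_avgK K f
  have h2 : ∑ x : N, conj (f x) * avgK K f x = ∑ x : N, conj (avgK K f x) * avgK K f x := by
    have := congrArg conj h1
    simp only [map_sum, map_mul, Complex.conj_conj] at this
    exact this
  have key : ∀ x : N, (‖(f - avgK K f) x‖ ^ 2 : ℂ) = f x * conj (f x) - f x * conj (avgK K f x)
      - conj (f x) * avgK K f x + avgK K f x * conj (avgK K f x) := by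
    intro x
    rw [Pi.sub_apply, ← Complex.ofReal_pow, ← Complex.normSq_eq_norm_sq, ← Complex.mul_conj, map_sub]
    ring
  have hC : ((∑ x : N, ‖f x‖ ^ 2 : ℝ) : ℂ) =
      ((∑ x : N, ‖avgK K f x‖ ^ 2 + ∑ x : N, ‖(f - avgK K f) x‖ ^ 2 : ℝ) : ℂ) := by
    push_cast
    rw [Finset.sum_congr rfl (fun x _ => key x)]
    simp only [Finset.sum_add_distrib, Finset.sum_sub_distrib]
    rw [h1, h2]
    have e1 : ∀ x : N, (‖f x‖ ^ 2 : ℂ) = f x * conj (f x) := by
      intro x
      rw [← Complex.ofReal_pow, ← Complex.normSq_eq_norm_sq, ← Complex.mul_conj]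
    have e2 : ∀ x : N, (‖avgK K f x‖ ^ 2 : ℂ) = avgK K f x * conj (avgK K f x) := by
      intro x
      rw [← Complex.ofReal_pow, ← Complex.normSq_eq_norm_sq, ← Complex.mul_conj]
    rw [Finset.sum_congr rfl (fun x _ => e1 x), Finset.sum_congr rfl (fun x _ => e2 x)]
    have e3 : ∑ x : N, conj (avgK K f x) * avgK K f x = ∑ x : N, avgK K f x * conj (avgK K f x) :=
      Finset.sum_congr rfl (fun x _ => mul_comm _ _)
    rw [e3]
    ring
  exact_mod_cast hC

/-- a nonzero character has norm at least one -/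
theorem card_le_sum_normSq_of_isCharacter {φ : N → ℂ} (hφ : IsCharacter N φ) (h0 : φ ≠ 0) :
    (Nat.card N : ℝ) ≤ ∑ x : N, ‖φ x‖ ^ 2 := by
  obtain ⟨n, hn⟩ := IsCharacter.classInner_nat hφ hφ
  have hn0 : n ≠ 0 := by
    rintro rfl
    rw [Nat.cast_zero] at hn
    exact h0 (classInner_self_eq_zero hn)
  have hN0 : (Nat.card N : ℂ) ≠ 0 := Nat.cast_ne_zero.mpr Nat.card_pos.ne'
  unfold classInner at hn
  have h1 : ∑ x : N, φ x * conj (φ x) = (Nat.card N : ℂ) * n := by
    rw [← hn, ← mul_assoc, mul_inv_cancel₀ hN0, one_mul]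
  have e1 : ∀ x : N, φ x * conj (φ x) = (‖φ x‖ ^ 2 : ℂ) := by
    intro x
    rw [← Complex.ofReal_pow, ← Complex.normSq_eq_norm_sq, ← Complex.mul_conj]
  rw [Finset.sum_congr rfl (fun x _ => e1 x)] at h1
  have h2 : ∑ x : N, ‖φ x‖ ^ 2 = (Nat.card N : ℝ) * n := by exact_mod_cast h1
  rw [h2]
  have : (1 : ℝ) ≤ n := by exact_mod_cast Nat.one_le_iff_ne_zero.mpr hn0
  nlinarith [(Nat.cast_nonneg (Nat.card N) : (0 : ℝ) ≤ Nat.card N)]

end proj
end Cfsg.Agent.Lib.Helper2
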