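import Mathlib
import Cfsg.Agent.Lib.Helper2.FTProj
import Cfsg.Agent.Lib.Helper6.CentralHom

/-!
The Feit–Thompson lemma: `H` abelian, `H ∩ Z(G) = 1`, every non-central element centralizes
non-identity elements of at most one conjugate of `H`.  Then `χ(1)² > |H| [χ_H, 1_H]²` for every
irreducible `χ` with `H ⊄ ker χ`.
-/

set_option autoImplicit false
namespace Cfsg.Agent.Lib.Helper2
universe u
open Cfsg Cfsg.Agent.CharLib
open scoped ComplexConjugate

section main
variable {G : Type u} [Group G] [Fintype G] (H : Subgroup G) [Fintype H]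

/-- the average of `χ` over left translates by `H` -/
noncomputable def psiH (χ : G → ℂ) : G → ℂ :=
  fun g => (Nat.card H : ℂ)⁻¹ * ∑ h : H, χ ((h : G) * g)

/-- non-central elements commuting with a non-identity element of `H` -/
def inY (g : G) : Prop := g ∉ Subgroup.center G ∧ ∃ h ∈ H, h ≠ 1 ∧ g * h = h * g

theorem mem_normalizer_of_map_conj_eq {a b : G}
    (h : H.map (MulAut.conj a).toMonoidHom = H.map (MulAut.conj b).toMonoidHom) :
    b⁻¹ * a ∈ Subgroup.normalizer (H : Set G) := by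
  rw [Subgroup.mem_normalizer_iff]
  intro x
  constructor
  · intro hx
    have h1 : a * x * a⁻¹ ∈ H.map (MulAut.conj a).toMonoidHom := ⟨x, hx, rfl⟩
    rw [h] at h1
    obtain ⟨y, hy, hy'⟩ := h1
    have hy'' : b * y * b⁻¹ = a * x * a⁻¹ := hy'
    have : b⁻¹ * a * x * (b⁻¹ * a)⁻¹ = y := by
      have : b⁻¹ * a * x * (b⁻¹ * a)⁻¹ = b⁻¹ * (a * x * a⁻¹) * b := by group
      rw [this, ← hy'']
      group
    rw [this]
    exact hy
  · intro hx
    have h1 : b * (b⁻¹ * a * x * (b⁻¹ * a)⁻¹) * b⁻¹ ∈ H.map (MulAut.conj b).toMonoidHom :=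
      ⟨_, hx, rfl⟩
    rw [← h] at h1
    obtain ⟨y, hy, hy'⟩ := h1
    have hy'' : a * y * a⁻¹ = b * (b⁻¹ * a * x * (b⁻¹ * a)⁻¹) * b⁻¹ := hy'
    have : y = x := by
      have e : b * (b⁻¹ * a * x * (b⁻¹ * a)⁻¹) * b⁻¹ = a * x * a⁻¹ := by group
      rw [e] at hy''
      have := congrArg (fun t => a⁻¹ * t * a) hy''
      simpa [mul_assoc] using this
    rw [← this]
    exact hy


omit [Fintype G] in
/-- comparison of the two averaging operators -/
theorem avgK_subgroupOf (N : Subgroup G) (hHN : H ≤ N) [Fintype ↥(H.subgroupOf N)] (χ : G → ℂ)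
    (x : N) : avgK (H.subgroupOf N) (fun y : N => χ y) x = psiH H χ x := by
  unfold avgK psiH
  have hc : Nat.card ↥(H.subgroupOf N) = Nat.card H :=
    Nat.card_congr (Subgroup.subgroupOfEquivOfLe hHN).toEquiv
  rw [hc]
  congr 1
  exact Fintype.sum_equiv (Subgroup.subgroupOfEquivOfLe hHN).toEquiv _ _ (fun k => rfl)

theorem norm_apply_center {χ : G → ℂ} (hχ : IsIrrCharacter G χ) {z : G}
    (hz : z ∈ Subgroup.center G) : ‖χ z‖ = ‖χ 1‖ := by
  obtain ⟨c, hc1, hc2⟩ := Cfsg.Agent.Lib.Helper6.IsIrrCharacter.exists_central_hom hχ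
  have := hc1 ⟨z, hz⟩ 1
  rw [mul_one] at this
  rw [this, norm_mul, hc2, one_mul]

theorem norm_psiH_center_mul {χ : G → ℂ} (hχ : IsIrrCharacter G χ) {z h : G}
    (hz : z ∈ Subgroup.center G) (hh : h ∈ H) : ‖psiH H χ (z * h)‖ = ‖psiH H χ 1‖ := by
  obtain ⟨c, hc1, hc2⟩ := Cfsg.Agent.Lib.Helper6.IsIrrCharacter.exists_central_hom hχ
  have h0 : ∑ k : H, χ ((k : G) * (z * h)) = c ⟨z, hz⟩ * ∑ k : H, χ ((k : G) * 1) := by
    rw [Finset.mul_sum]
    refine Fintype.sum_equiv (Equiv.mulRight (⟨h, hh⟩ : H)) (fun k : H => χ ((k : G) * (z * h)))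
      (fun k : H => c ⟨z, hz⟩ * χ ((k : G) * 1)) (fun k => ?_)
    have e : (k : G) * (z * h) = z * ((k : G) * h) := by
      rw [← mul_assoc, ← mul_assoc, (Subgroup.mem_center_iff.mp hz (k : G))]
    have := hc1 ⟨z, hz⟩ ((k : G) * h)
    simp only [e, this, Equiv.coe_mulRight, Subgroup.coe_mul, mul_one]
  have h1 : psiH H χ (z * h) = c ⟨z, hz⟩ * psiH H χ 1 := by
    unfold psiH
    rw [h0]
    ring
  rw [h1, norm_mul, hc2, one_mul]

variable (hone : ∀ g : G, g ∉ Subgroup.center G → ∀ a b : G,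
    Subgroup.centralizer ({g} : Set G) ⊓ H.map (MulAut.conj a).toMonoidHom ≠ ⊥ →
    Subgroup.centralizer ({g} : Set G) ⊓ H.map (MulAut.conj b).toMonoidHom ≠ ⊥ →
    H.map (MulAut.conj a).toMonoidHom = H.map (MulAut.conj b).toMonoidHom)

include hone in
theorem inY_conj_normalizer {g a b : G} (ha : inY H (a⁻¹ * g * a)) (hb : inY H (b⁻¹ * g * b)) :
    b⁻¹ * a ∈ Subgroup.normalizer (H : Set G) := by
  have hg : g ∉ Subgroup.center G := by
    intro hg
    apply ha.1
    have := (Subgroup.center G).normal_of_characteristic.conj_mem g hg a⁻¹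
    simpa using this
  have key : ∀ c : G, inY H (c⁻¹ * g * c) →
      Subgroup.centralizer ({g} : Set G) ⊓ H.map (MulAut.conj c).toMonoidHom ≠ ⊥ := by
    intro c hc
    obtain ⟨-, h, hh, hh1, hcomm⟩ := hc
    intro hbot
    have hmem : c * h * c⁻¹ ∈ Subgroup.centralizer ({g} : Set G) ⊓
        H.map (MulAut.conj c).toMonoidHom := by
      refine Subgroup.mem_inf.mpr ⟨?_, ⟨h, hh, rfl⟩⟩
      rw [Subgroup.mem_centralizer_iff]
      intro y hy
      rw [Set.mem_singleton_iff] at hy
      subst hy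
      have e : y * (c * h * c⁻¹) = c * (c⁻¹ * y * c * h) * c⁻¹ := by group
      rw [e, hcomm]
      group
    rw [hbot, Subgroup.mem_bot] at hmem
    apply hh1
    have := congrArg (fun t => c⁻¹ * t * c) hmem
    simpa [mul_assoc] using this
  exact mem_normalizer_of_map_conj_eq H (hone g hg a b (key a ha) (key b hb))


open Classical in
include hone in
/-- the conjugates of `inY` are pairwise disjoint: counting -/
theorem ft_count {χ : G → ℂ} (hcf : IsClassFunction G χ) :
    (Nat.card G : ℝ) * ∑ g : G, (if inY H g then ‖χ g‖ ^ 2 else 0) ≤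
    (Nat.card (Subgroup.normalizer (H : Set G)) : ℝ) *
      ∑ g : G, (if g ∈ Subgroup.center G then 0 else ‖χ g‖ ^ 2) := by
  have h1 : (Nat.card G : ℝ) * ∑ g : G, (if inY H g then ‖χ g‖ ^ 2 else 0) =
      ∑ _a : G, ∑ g : G, (if inY H g then ‖χ g‖ ^ 2 else 0) := by
    rw [Finset.sum_const, Finset.card_univ, nsmul_eq_mul, Nat.card_eq_fintype_card]
  have h2 : ∀ a : G, ∑ g : G, (if inY H g then ‖χ g‖ ^ 2 else 0) =
      ∑ g : G, (if inY H (a⁻¹ * g * a) then ‖χ g‖ ^ 2 else 0) := by
    intro a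
    symm
    refine Fintype.sum_equiv (MulAut.conj a⁻¹).toEquiv _ _ (fun g => ?_)
    have e : (MulAut.conj a⁻¹).toEquiv g = a⁻¹ * g * a := by simp
    rw [e]
    have := hcf g a⁻¹
    rw [inv_inv] at this
    rw [this]
  rw [h1, Finset.sum_congr rfl (fun a _ => h2 a), Finset.sum_comm, Finset.mul_sum]
  apply Finset.sum_le_sum
  intro g _
  by_cases hg : g ∈ Subgroup.center G
  · rw [if_pos hg, mul_zero]
    apply le_of_eq
    apply Finset.sum_eq_zero
    intro a _
    rw [if_neg]
    intro hY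
    apply hY.1
    have := (Subgroup.center G).normal_of_characteristic.conj_mem g hg a⁻¹
    simpa using this
  · rw [if_neg hg]
    have h3 : ∑ a : G, (if inY H (a⁻¹ * g * a) then ‖χ g‖ ^ 2 else 0) =
        ((Finset.univ.filter (fun a : G => inY H (a⁻¹ * g * a))).card : ℝ) * ‖χ g‖ ^ 2 := by
      rw [← Finset.sum_filter, Finset.sum_const, nsmul_eq_mul]
    rw [h3]
    apply mul_le_mul_of_nonneg_right _ (by positivity)
    have hcard : (Finset.univ.filter (fun a : G => inY H (a⁻¹ * g * a))).card ≤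
        Nat.card (Subgroup.normalizer (H : Set G)) := by
      rcases (Finset.univ.filter (fun a : G => inY H (a⁻¹ * g * a))).eq_empty_or_nonempty with h | h
      · rw [h, Finset.card_empty]; exact Nat.zero_le _
      · obtain ⟨b, hb⟩ := h
        have hb' := (Finset.mem_filter.mp hb).2
        have hN : Nat.card (Subgroup.normalizer (H : Set G)) =
            (Finset.univ.filter (fun a : G => a ∈ Subgroup.normalizer (H : Set G))).card := by
          rw [Nat.card_eq_fintype_card, Fintype.card_subtype]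
        rw [hN]
        apply Finset.card_le_card_of_injOn (fun a => b⁻¹ * a)
        · intro a ha
          have ha' := (Finset.mem_filter.mp ha).2
          exact Finset.mem_filter.mpr ⟨Finset.mem_univ _, inY_conj_normalizer H hone ha' hb'⟩
        · intro a _ a' _ h
          exact mul_left_cancel h
    exact_mod_cast hcard


open Classical in
include hone in
/-- the first inequality of the Feit–Thompson lemma -/
theorem ft_first (hZ : H ⊓ Subgroup.center G = ⊥) {χ : G → ℂ} (hχ : IsIrrCharacter G χ)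
    (hker : ∃ h ∈ H, χ h ≠ χ 1) :
    (Nat.card H : ℝ) * ‖psiH H χ 1‖ ^ 2 < ‖χ 1‖ ^ 2 := by
  have hchar := IsIrrCharacter.isCharacter hχ
  have hcf := IsCharacter.isClassFunction hchar
  have hHN : H ≤ Subgroup.normalizer (H : Set G) := Subgroup.le_normalizer
  haveI : (H.subgroupOf (Subgroup.normalizer (H : Set G))).Normal :=
    Subgroup.normal_in_normalizer
  -- the restriction to the normalizer and its decomposition
  have hχN := IsCharacter.restrict hchar (Subgroup.normalizer (H : Set G))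
  have hφ := isCharacter_sub_avgK (H.subgroupOf (Subgroup.normalizer (H : Set G))) hχN
  have hφ0 : (fun y : ↥(Subgroup.normalizer (H : Set G)) => χ y) -
      avgK (H.subgroupOf (Subgroup.normalizer (H : Set G)))
        (fun y : ↥(Subgroup.normalizer (H : Set G)) => χ y) ≠ 0 := by
    intro h0
    obtain ⟨h, hh, hne⟩ := hker
    apply hne
    have e1 := congrFun h0 ⟨h, hHN hh⟩
    have e2 := congrFun h0 1
    simp only [Pi.sub_apply, Pi.zero_apply, sub_eq_zero] at e1 e2
    have e3 := avgK_mul_left (H.subgroupOf (Subgroup.normalizer (H : Set G)))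
      (fun y : ↥(Subgroup.normalizer (H : Set G)) => χ y)
      ⟨⟨h, hHN hh⟩, (Subgroup.mem_subgroupOf).mpr hh⟩ 1
    rw [mul_one] at e3
    change avgK _ _ (⟨h, hHN hh⟩ : ↥(Subgroup.normalizer (H : Set G))) = _ at e3
    rw [← e1, ← e2] at e3
    exact e3
  have hS1 := card_le_sum_normSq_of_isCharacter hφ hφ0
  have hS2 := sum_normSq_eq_add (H.subgroupOf (Subgroup.normalizer (H : Set G)))
    (fun y : ↥(Subgroup.normalizer (H : Set G)) => χ y)
  simp only [avgK_subgroupOf H _ hHN] at hS2
  -- pass to sums over `G`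
  have hsub : ∀ F : G → ℝ, ∑ x : ↥(Subgroup.normalizer (H : Set G)), F x =
      ∑ g ∈ Finset.univ.filter (fun g : G => g ∈ Subgroup.normalizer (H : Set G)), F g := by
    intro F
    rw [Finset.sum_subtype (Finset.univ.filter (fun g : G => g ∈ Subgroup.normalizer (H : Set G)))
      (p := fun g => g ∈ Subgroup.normalizer (H : Set G)) (by intro g; simp)]
  have hA : ∑ g ∈ Finset.univ.filter (fun g : G => g ∈ Subgroup.normalizer (H : Set G)),
        ‖psiH H χ g‖ ^ 2 + (Nat.card ↥(Subgroup.normalizer (H : Set G)) : ℝ) ≤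
      ∑ g ∈ Finset.univ.filter (fun g : G => g ∈ Subgroup.normalizer (H : Set G)), ‖χ g‖ ^ 2 := by
    rw [← hsub (fun g => ‖χ g‖ ^ 2), ← hsub (fun g => ‖psiH H χ g‖ ^ 2), hS2]
    linarith
  -- the set `Z H`
  have hinjT : Function.Injective
      (fun p : ↥(Subgroup.center G) × ↥H => (p.1 : G) * (p.2 : G)) := by
    rintro ⟨z, h⟩ ⟨z', h'⟩ hp
    have hp' : (z : G) * (h : G) = (z' : G) * (h' : G) := hp
    have h1 : (z' : G)⁻¹ * (z : G) = (h' : G) * (h : G)⁻¹ := by
      have := congrArg (fun t => (z' : G)⁻¹ * t * (h : G)⁻¹) hp'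
      simpa [mul_assoc] using this
    have h2 : (h' : G) * (h : G)⁻¹ ∈ H ⊓ Subgroup.center G := by
      refine Subgroup.mem_inf.mpr ⟨H.mul_mem h'.2 (H.inv_mem h.2), ?_⟩
      rw [← h1]
      exact (Subgroup.center G).mul_mem ((Subgroup.center G).inv_mem z'.2) z.2
    rw [hZ, Subgroup.mem_bot] at h2
    have h3 : (h' : G) = (h : G) := by
      have := congrArg (fun t => t * (h : G)) h2
      simpa using this
    have h4 : (z : G) = (z' : G) := by
      rw [h2] at h1
      have := congrArg (fun t => (z' : G) * t) h1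
      simpa using this
    exact Prod.ext (Subtype.ext h4) (Subtype.ext h3.symm)
  have hTcard : ((Finset.univ : Finset (↥(Subgroup.center G) × ↥H)).image
      (fun p => (p.1 : G) * (p.2 : G))).card = Nat.card ↥(Subgroup.center G) * Nat.card H := by
    rw [Finset.card_image_of_injective _ hinjT, Finset.card_univ, Fintype.card_prod,
      Nat.card_eq_fintype_card, Nat.card_eq_fintype_card]
  have hTsum : ∑ g ∈ (Finset.univ : Finset (↥(Subgroup.center G) × ↥H)).image
      (fun p => (p.1 : G) * (p.2 : G)), ‖psiH H χ g‖ ^ 2 =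
      (Nat.card ↥(Subgroup.center G) : ℝ) * (Nat.card H : ℝ) * ‖psiH H χ 1‖ ^ 2 := by
    have : ∀ g ∈ (Finset.univ : Finset (↥(Subgroup.center G) × ↥H)).image
        (fun p => (p.1 : G) * (p.2 : G)), ‖psiH H χ g‖ ^ 2 = ‖psiH H χ 1‖ ^ 2 := by
      intro g hg
      obtain ⟨p, -, rfl⟩ := Finset.mem_image.mp hg
      rw [norm_psiH_center_mul H hχ p.1.2 p.2.2]
    rw [Finset.sum_congr rfl this, Finset.sum_const, hTcard, nsmul_eq_mul]
    push_cast
    ring
  have hTsub : (Finset.univ : Finset (↥(Subgroup.center G) × ↥H)).image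
      (fun p => (p.1 : G) * (p.2 : G)) ⊆
      Finset.univ.filter (fun g : G => g ∈ Subgroup.normalizer (H : Set G)) := by
    intro g hg
    obtain ⟨p, -, rfl⟩ := Finset.mem_image.mp hg
    refine Finset.mem_filter.mpr ⟨Finset.mem_univ _, ?_⟩
    refine (Subgroup.normalizer (H : Set G)).mul_mem ?_ (hHN p.2.2)
    rw [Subgroup.mem_normalizer_iff]
    intro x
    have e : (p.1 : G) * x * (p.1 : G)⁻¹ = x := by
      rw [← (Subgroup.mem_center_iff.mp p.1.2 x), mul_assoc, mul_inv_cancel, mul_one]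
    rw [e]
  -- pointwise inequality on the normalizer
  have hpt : ∀ g ∈ Finset.univ.filter (fun g : G => g ∈ Subgroup.normalizer (H : Set G)),
      ‖χ g‖ ^ 2 + (if g ∈ (Finset.univ : Finset (↥(Subgroup.center G) × ↥H)).image
        (fun p => (p.1 : G) * (p.2 : G)) then ‖psiH H χ g‖ ^ 2 else 0) ≤
      (if g ∈ Subgroup.center G then ‖χ 1‖ ^ 2 else 0) +
        (if inY H g then ‖χ g‖ ^ 2 else 0) + ‖psiH H χ g‖ ^ 2 := by
    intro g hg
    have hgN := (Finset.mem_filter.mp hg).2
    by_cases hgZ : g ∈ Subgroup.center G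
    · rw [if_pos hgZ]
      have h0 : ‖χ g‖ ^ 2 = ‖χ 1‖ ^ 2 := by rw [norm_apply_center hχ hgZ]
      have h1 : (0 : ℝ) ≤ if inY H g then ‖χ g‖ ^ 2 else 0 := by
        split_ifs <;> positivity
      have h2 : (if g ∈ (Finset.univ : Finset (↥(Subgroup.center G) × ↥H)).image
          (fun p => (p.1 : G) * (p.2 : G)) then ‖psiH H χ g‖ ^ 2 else 0) ≤ ‖psiH H χ g‖ ^ 2 := by
        split_ifs
        · exact le_refl _
        · positivity
      linarith
    · rw [if_neg hgZ, zero_add]
      by_cases hgY : inY H g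
      · rw [if_pos hgY]
        have h2 : (if g ∈ (Finset.univ : Finset (↥(Subgroup.center G) × ↥H)).image
            (fun p => (p.1 : G) * (p.2 : G)) then ‖psiH H χ g‖ ^ 2 else 0) ≤
            ‖psiH H χ g‖ ^ 2 := by
          split_ifs
          · exact le_refl _
          · positivity
        linarith
      · rw [if_neg hgY, zero_add]
        have hgT : g ∉ (Finset.univ : Finset (↥(Subgroup.center G) × ↥H)).image
            (fun p => (p.1 : G) * (p.2 : G)) := by
          intro hgT
          obtain ⟨p, -, hp⟩ := Finset.mem_image.mp hgT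
          have hp' : (p.1 : G) * (p.2 : G) = g := hp
          apply hgY
          refine ⟨hgZ, (p.2 : G), p.2.2, ?_, ?_⟩
          · intro h1
            apply hgZ
            rw [← hp', h1, mul_one]
            exact p.1.2
          · rw [← hp', ← mul_assoc (p.2 : G), Subgroup.mem_center_iff.mp p.1.2 (p.2 : G)]
        rw [if_neg hgT, add_zero]
        have hfix : psiH H χ g = χ g := by
          have := avgK_eq_of_fpf (H.subgroupOf (Subgroup.normalizer (H : Set G)))
            (IsCharacter.isClassFunction hχN) ⟨g, hgN⟩ (by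
              intro k hk hcomm
              by_contra hk1
              apply hgY
              refine ⟨hgZ, (k : G), Subgroup.mem_subgroupOf.mp hk, ?_, ?_⟩
              · intro h1
                apply hk1
                exact Subtype.ext h1
              · exact congrArg Subtype.val hcomm)
          rw [avgK_subgroupOf H _ hHN] at this
          exact this
        rw [hfix]
  have hsum := Finset.sum_le_sum hpt
  simp only [Finset.sum_add_distrib] at hsum
  have hT2 : ∑ g ∈ Finset.univ.filter (fun g : G => g ∈ Subgroup.normalizer (H : Set G)),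
      (if g ∈ (Finset.univ : Finset (↥(Subgroup.center G) × ↥H)).image
        (fun p => (p.1 : G) * (p.2 : G)) then ‖psiH H χ g‖ ^ 2 else 0) =
      (Nat.card ↥(Subgroup.center G) : ℝ) * (Nat.card H : ℝ) * ‖psiH H χ 1‖ ^ 2 := by
    rw [Finset.sum_ite_mem, Finset.inter_eq_right.mpr hTsub, hTsum]
  have hZcard : (Finset.univ.filter (fun g : G => g ∈ Subgroup.center G)).card =
      Nat.card ↥(Subgroup.center G) := by
    rw [Nat.card_eq_fintype_card, Fintype.card_subtype]
  have hZ1 : ∑ g : G, (if g ∈ Subgroup.center G then ‖χ 1‖ ^ 2 else 0) =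
      (Nat.card ↥(Subgroup.center G) : ℝ) * ‖χ 1‖ ^ 2 := by
    rw [← Finset.sum_filter, Finset.sum_const, hZcard, nsmul_eq_mul]
  have hZ2 : ∑ g ∈ Finset.univ.filter (fun g : G => g ∈ Subgroup.normalizer (H : Set G)),
      (if g ∈ Subgroup.center G then ‖χ 1‖ ^ 2 else 0) ≤
      (Nat.card ↥(Subgroup.center G) : ℝ) * ‖χ 1‖ ^ 2 := by
    rw [← hZ1]
    apply Finset.sum_le_sum_of_subset_of_nonneg (Finset.filter_subset _ _)
    intro g _ _
    split_ifs <;> positivity
  have hY2 : ∑ g ∈ Finset.univ.filter (fun g : G => g ∈ Subgroup.normalizer (H : Set G)),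
      (if inY H g then ‖χ g‖ ^ 2 else 0) ≤ ∑ g : G, (if inY H g then ‖χ g‖ ^ 2 else 0) := by
    apply Finset.sum_le_sum_of_subset_of_nonneg (Finset.filter_subset _ _)
    intro g _ _
    split_ifs <;> positivity
  have hcount := ft_count H hone hcf
  have hortho : ∑ g : G, ‖χ g‖ ^ 2 = (Nat.card G : ℝ) := by
    have h1 := Cfsg.Agent.Lib.Helper10.classInner_irr_self hχ
    unfold classInner at h1
    have hG0 : (Nat.card G : ℂ) ≠ 0 := Nat.cast_ne_zero.mpr Nat.card_pos.ne'
    have h2 : ∑ g : G, χ g * conj (χ g) = (Nat.card G : ℂ) := by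
      have := congrArg (fun t => (Nat.card G : ℂ) * t) h1
      simpa [← mul_assoc, mul_inv_cancel₀ hG0] using this
    have e1 : ∀ g : G, χ g * conj (χ g) = ((‖χ g‖ ^ 2 : ℝ) : ℂ) := by
      intro g
      rw [Complex.ofReal_pow, ← Complex.ofReal_pow, ← Complex.normSq_eq_norm_sq, ← Complex.mul_conj]
    rw [Finset.sum_congr rfl (fun g _ => e1 g)] at h2
    exact_mod_cast h2
  have hZ3 : ∑ g : G, (if g ∈ Subgroup.center G then 0 else ‖χ g‖ ^ 2) =
      (Nat.card G : ℝ) - (Nat.card ↥(Subgroup.center G) : ℝ) * ‖χ 1‖ ^ 2 := by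
    rw [← hortho, ← hZ1, eq_sub_iff_add_eq, ← Finset.sum_add_distrib]
    apply Finset.sum_congr rfl
    intro g _
    by_cases hgZ : g ∈ Subgroup.center G
    · rw [if_pos hgZ, if_pos hgZ, zero_add, norm_apply_center hχ hgZ]
    · rw [if_neg hgZ, if_neg hgZ, add_zero]
  rw [hZ3] at hcount
  rw [hT2] at hsum
  -- arithmetic
  have hG : (0 : ℝ) < Nat.card G := by exact_mod_cast Nat.card_pos
  have hNpos : (0 : ℝ) < Nat.card ↥(Subgroup.normalizer (H : Set G)) := by
    exact_mod_cast Nat.card_pos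
  have hZpos : (0 : ℝ) < Nat.card ↥(Subgroup.center G) := by exact_mod_cast Nat.card_pos
  have hd : (0 : ℝ) < ‖χ 1‖ ^ 2 := by
    have := Cfsg.Agent.Lib.Helper10.irr_one_ne_zero hχ
    positivity
  -- abbreviations
  generalize (Nat.card G : ℝ) = nG at *
  generalize (Nat.card ↥(Subgroup.normalizer (H : Set G)) : ℝ) = nN at *
  generalize (Nat.card ↥(Subgroup.center G) : ℝ) = nZ at *
  generalize (Nat.card H : ℝ) = nH at *
  generalize ‖χ 1‖ ^ 2 = d2 at *
  generalize ‖psiH H χ 1‖ ^ 2 = c2 at *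
  generalize (∑ g : G, if inY H g then ‖χ g‖ ^ 2 else 0) = SY at *
  generalize (∑ g ∈ Finset.univ.filter (fun g : G => g ∈ Subgroup.normalizer (H : Set G)),
    ‖χ g‖ ^ 2) = SX at *
  generalize (∑ g ∈ Finset.univ.filter (fun g : G => g ∈ Subgroup.normalizer (H : Set G)),
    ‖psiH H χ g‖ ^ 2) = SP at *
  have h1 : nN + nZ * nH * c2 ≤ nZ * d2 + SY := by linarith
  have h2 : nG * nN + nG * (nZ * nH * c2) ≤ nG * (nZ * d2) + nG * SY := by nlinarith
  have h3 : nG * (nZ * nH * c2) ≤ nZ * d2 * (nG - nN) := by nlinarith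
  have hpos : 0 < nZ * d2 * nN := by positivity
  have h4 : nZ * (nG * (nH * c2)) < nZ * (d2 * nG) := by nlinarith
  have h5 := lt_of_mul_lt_mul_left h4 hZpos.le
  have h6 : nG * (nH * c2) < nG * d2 := by linarith
  exact lt_of_mul_lt_mul_left h6 hG.le

end main
end Cfsg.Agent.Lib.Helper2
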