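import Mathlib
import Cfsg.Agent.Lib.Helper2.FTLemma
import Cfsg.Agent.Lib.Helper6.CharExtra
import Cfsg.Agent.Lib.Helper10.AbelianRestrict
import Cfsg.Agent.Lib.Helper24.Deflation
import Cfsg.Agent.Lib.Lead.CharBurnside

/-!
The Feit–Thompson lemma, second part: `(1 + χ(1))² > |H|` when no proper normal subgroup
contains `H`.
-/

set_option autoImplicit false
namespace Cfsg.Agent.Lib.Helper2
universe u
open Cfsg Cfsg.Agent.CharLib
open scoped ComplexConjugate

section second
variable {G : Type u} [Group G] [Fintype G] (H : Subgroup G) [Fintype H]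

/-- an irreducible character trivial on a subgroup with full normal closure is principal -/
theorem exists_ne_of_closure {χ : G → ℂ} (hχ : IsIrrCharacter G χ) (hne : χ ≠ 1)
    (hcl : ∀ M : Subgroup G, M.Normal → H ≤ M → M = ⊤) : ∃ h ∈ H, χ h ≠ χ 1 := by
  by_contra hcon
  push Not at hcon
  have hall : ∀ g : G, χ g = χ 1 := by
    obtain ⟨n, ρ, hirr, rfl⟩ := hχ
    let M : Subgroup G :=
      { carrier := {g | ρ g = 1}
        mul_mem' := by
          intro a b ha hb
          simp only [Set.mem_setOf_eq] at ha hb ⊢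
          rw [map_mul, ha, hb, one_mul]
        one_mem' := map_one ρ
        inv_mem' := by
          intro a ha
          simp only [Set.mem_setOf_eq] at ha ⊢
          have : ρ a⁻¹ * ρ a = 1 := by rw [← map_mul, inv_mul_cancel, map_one]
          rw [ha, mul_one] at this
          exact this }
    have hMn : M.Normal := by
      constructor
      intro a ha g
      change ρ (g * a * g⁻¹) = 1
      have ha' : ρ a = 1 := ha
      rw [map_mul, map_mul, ha', mul_one, ← map_mul, mul_inv_cancel, map_one]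
    have hHM : H ≤ M := by
      intro h hh
      change ρ h = 1
      apply Cfsg.Agent.Lib.Helper24.rep_eq_one_of_char_eq_finrank
      rw [hcon h hh, Representation.char_one]
    have hM := hcl M hMn hHM
    intro g
    have hg : g ∈ M := by rw [hM]; exact Subgroup.mem_top g
    have hg' : ρ g = 1 := hg
    simp only [Representation.character, hg', map_one]
  have h1 := Cfsg.Agent.Lib.Helper10.classInner_irr hχ (isIrrCharacter_one (G := G))
  rw [if_neg hne] at h1
  unfold classInner at h1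
  have hG0 : (Nat.card G : ℂ) ≠ 0 := Nat.cast_ne_zero.mpr Nat.card_pos.ne'
  have h2 : ∑ g : G, χ g * conj ((1 : G → ℂ) g) = (Nat.card G : ℂ) * χ 1 := by
    simp only [Pi.one_apply, map_one, mul_one, hall]
    rw [Finset.sum_const, Finset.card_univ, nsmul_eq_mul, Nat.card_eq_fintype_card]
  rw [h2, ← mul_assoc, inv_mul_cancel₀ hG0, one_mul] at h1
  exact Cfsg.Agent.Lib.Helper10.irr_one_ne_zero hχ h1

omit [Fintype G] in
theorem psiH_one_eq_classInner (χ : G → ℂ) :
    psiH H χ 1 = classInner (fun h : H => χ h) (fun _ => 1) := by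
  unfold psiH classInner
  simp

omit [Fintype G] in
theorem psiH_sum {ι : Type*} (s : Finset ι) (f : ι → G → ℂ) (g : G) :
    psiH H (∑ i ∈ s, f i) g = ∑ i ∈ s, psiH H (f i) g := by
  unfold psiH
  simp only [Finset.sum_apply]
  rw [Finset.sum_comm, Finset.mul_sum]

omit [Fintype G] in
theorem psiH_nsmul (n : ℕ) (f : G → ℂ) (g : G) : psiH H (n • f) g = n * psiH H f g := by
  unfold psiH
  simp only [Pi.smul_apply, nsmul_eq_mul, ← Finset.mul_sum]
  ring

/-- the norm of the restriction of a character to an abelian subgroup is at least its degree -/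
theorem degree_le_norm_restrict (hab : ∀ a ∈ H, ∀ b ∈ H, a * b = b * a) {χ : G → ℂ}
    (hχ : IsCharacter G χ) :
    ∃ d ν : ℕ, χ 1 = d ∧ classInner (fun h : H => χ h) (fun h : H => χ h) = ν ∧ d ≤ ν := by
  classical
  letI := fintypeIrr H
  have hχH := IsCharacter.restrict hχ H
  obtain ⟨m, hm, hcoef⟩ := Cfsg.Agent.Lib.Helper6.IsCharacter.exists_decomp_sum hχH
  have hcomm : ∀ a b : H, a * b = b * a := by
    intro a b
    exact Subtype.ext (hab a a.2 b b.2)
  refine ⟨∑ μ : IrrCharacter H, m μ, ∑ μ : IrrCharacter H, m μ * m μ, ?_, ?_, ?_⟩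
  · have h1 := congrFun hm 1
    simp only [Finset.sum_apply, Pi.smul_apply] at h1
    have : ∀ μ : IrrCharacter H, (μ : H → ℂ) 1 = 1 := fun μ =>
      Cfsg.Agent.Lib.Helper10.irr_one_of_comm hcomm μ.2
    simp only [nsmul_eq_mul, this, mul_one] at h1
    change χ ((1 : H) : G) = _ at h1
    rw [Subgroup.coe_one] at h1
    rw [h1]
    push_cast
    rfl
  · conv_lhs => enter [1]; rw [hm]
    rw [classInner_sum_left]
    push_cast
    apply Finset.sum_congr rfl
    intro μ _
    rw [← Nat.cast_smul_eq_nsmul ℂ, classInner_smul_left, ← classInner_conj_symm, hcoef μ,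
      Complex.conj_natCast]
  · apply Finset.sum_le_sum
    intro μ _
    exact Nat.le_mul_self _


/-- The Feit–Thompson lemma (= S0898). -/
theorem ft_lemma (hab : ∀ a ∈ H, ∀ b ∈ H, a * b = b * a)
    (hZ : H ⊓ Subgroup.center G = ⊥)
    (hone : ∀ g : G, g ∉ Subgroup.center G → ∀ a b : G,
      Subgroup.centralizer ({g} : Set G) ⊓ H.map (MulAut.conj a).toMonoidHom ≠ ⊥ →
      Subgroup.centralizer ({g} : Set G) ⊓ H.map (MulAut.conj b).toMonoidHom ≠ ⊥ →
      H.map (MulAut.conj a).toMonoidHom = H.map (MulAut.conj b).toMonoidHom)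
    (χ : G → ℂ) (hχ : IsIrrCharacter G χ) (hker : ∃ h ∈ H, χ h ≠ χ 1) :
    (χ 1).re ^ 2 > (Nat.card H : ℝ) * (classInner (fun h : H => χ h) (fun _ => 1)).re ^ 2 ∧
      (χ 1 ≠ 1 → (∀ M : Subgroup G, M.Normal → H ≤ M → M = ⊤) →
        (1 + (χ 1).re) ^ 2 > (Nat.card H : ℝ)) := by
  classical
  have hchar := IsIrrCharacter.isCharacter hχ
  obtain ⟨d, ν, hd, hν, hdν⟩ := degree_le_norm_restrict H hab hchar
  have hnormd : ‖χ 1‖ = (χ 1).re := by rw [hd]; simp
  have hHpos : (0 : ℝ) < Nat.card H := by exact_mod_cast Nat.card_pos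
  constructor
  · have h1 := ft_first H hone hZ hχ hker
    rw [psiH_one_eq_classInner, hnormd] at h1
    have h2 : (classInner (fun h : H => χ h) (fun _ => 1)).re ^ 2 ≤
        ‖classInner (fun h : H => χ h) (fun _ => 1)‖ ^ 2 := by
      apply sq_le_sq'
      · have := Complex.abs_re_le_norm (classInner (fun h : H => χ h) (fun _ => 1))
        have h3 := neg_abs_le (classInner (fun h : H => χ h) (fun _ => 1)).re
        linarith
      · have := Complex.abs_re_le_norm (classInner (fun h : H => χ h) (fun _ => 1))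
        have h3 := le_abs_self (classInner (fun h : H => χ h) (fun _ => 1)).re
        linarith
    have h3 : (Nat.card H : ℝ) * (classInner (fun h : H => χ h) (fun _ => 1)).re ^ 2 ≤
        (Nat.card H : ℝ) * ‖classInner (fun h : H => χ h) (fun _ => 1)‖ ^ 2 :=
      mul_le_mul_of_nonneg_left h2 hHpos.le
    exact lt_of_le_of_lt h3 h1
  · intro hχ1 hcl
    by_contra hcon
    push Not at hcon
    letI := fintypeIrr G
    have hre : (χ 1).re = d := by rw [hd]; simp
    rw [hre] at hcon
    have hd0 : d ≠ 0 := by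
      rintro rfl
      exact Cfsg.Agent.Lib.Helper10.irr_one_ne_zero hχ (by rw [hd]; simp)
    have hd1 : d ≠ 1 := by
      rintro rfl
      exact hχ1 (by rw [hd]; simp)
    have hd2 : (2 : ℝ) ≤ d := by
      have : 2 ≤ d := by omega
      exact_mod_cast this
    have hΦ : IsCharacter G (χ * fun g => conj (χ g)) :=
      IsCharacter.mul hchar (IsCharacter.conj hchar)
    obtain ⟨m, hm, hcoef⟩ := Cfsg.Agent.Lib.Helper6.IsCharacter.exists_decomp_sum hΦ
    have hm0 : m ⟨1, isIrrCharacter_one⟩ = 1 := by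
      have h1 := hcoef ⟨1, isIrrCharacter_one⟩
      have h2 : classInner (χ * fun g => conj (χ g)) (1 : G → ℂ) = classInner χ χ := by
        unfold classInner
        simp
      rw [h2, Cfsg.Agent.Lib.Helper10.classInner_irr_self hχ] at h1
      exact_mod_cast h1.symm
    -- degrees
    have hdegnat : ∀ ψ : IrrCharacter G, (ψ : G → ℂ) 1 = ((‖(ψ : G → ℂ) 1‖ : ℝ) : ℂ) := by
      intro ψ
      obtain ⟨n, hn⟩ := IsCharacter.apply_one (IsIrrCharacter.isCharacter ψ.2)
      rw [hn]
      simp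
    have hdeg : (d : ℝ) ^ 2 = ∑ ψ : IrrCharacter G, (m ψ : ℝ) * ‖(ψ : G → ℂ) 1‖ := by
      have h1 := congrFun hm 1
      simp only [Pi.mul_apply, Finset.sum_apply, Pi.smul_apply] at h1
      simp only [nsmul_eq_mul] at h1
      rw [hd] at h1
      have h2 : ((d : ℝ) ^ 2 : ℂ) =
          ((∑ ψ : IrrCharacter G, (m ψ : ℝ) * ‖(ψ : G → ℂ) 1‖ : ℝ) : ℂ) := by
        push_cast
        rw [Finset.sum_congr rfl (fun ψ _ => by rw [← hdegnat ψ])]
        rw [← h1]
        simp [sq]
      exact_mod_cast h2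
    -- fixed points
    have hnu : (ν : ℝ) ≤ ∑ ψ : IrrCharacter G, (m ψ : ℝ) * ‖psiH H (ψ : G → ℂ) 1‖ := by
      have h1 : psiH H (χ * fun g => conj (χ g)) 1 = (ν : ℂ) := by
        rw [psiH_one_eq_classInner, ← hν]
        unfold classInner
        simp
      have h2 : psiH H (χ * fun g => conj (χ g)) 1 =
          ∑ ψ : IrrCharacter G, (m ψ : ℂ) * psiH H (ψ : G → ℂ) 1 := by
        conv_lhs => rw [hm]
        rw [psiH_sum]
        apply Finset.sum_congr rfl
        intro ψ _
        rw [psiH_nsmul]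
      have h3 : ‖(ν : ℂ)‖ ≤ ∑ ψ : IrrCharacter G, ‖(m ψ : ℂ) * psiH H (ψ : G → ℂ) 1‖ := by
        rw [← h1, h2]
        exact norm_sum_le _ _
      simp only [norm_mul, Complex.norm_natCast] at h3
      exact h3
    -- the principal character
    have hpsi1 : psiH H ((⟨1, isIrrCharacter_one⟩ : IrrCharacter G) : G → ℂ) 1 = 1 := by
      unfold psiH
      simp only [Pi.one_apply, Finset.sum_const, Finset.card_univ, nsmul_eq_mul, mul_one]
      rw [← Nat.card_eq_fintype_card]
      exact inv_mul_cancel₀ (Nat.cast_ne_zero.mpr Nat.card_pos.ne')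
    -- the other characters
    have hother : ∀ ψ : IrrCharacter G, ψ ≠ ⟨1, isIrrCharacter_one⟩ →
        (1 + (d : ℝ)) * ‖psiH H (ψ : G → ℂ) 1‖ < ‖(ψ : G → ℂ) 1‖ := by
      intro ψ hψ
      have hne : (ψ : G → ℂ) ≠ 1 := fun h => hψ (Subtype.ext h)
      have hk := exists_ne_of_closure H ψ.2 hne hcl
      have h1 := ft_first H hone hZ ψ.2 hk
      have h2 : ((1 + (d : ℝ)) * ‖psiH H (ψ : G → ℂ) 1‖) ^ 2 < ‖(ψ : G → ℂ) 1‖ ^ 2 := by
        rw [mul_pow]
        have : (1 + (d : ℝ)) ^ 2 * ‖psiH H (ψ : G → ℂ) 1‖ ^ 2 ≤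
            (Nat.card H : ℝ) * ‖psiH H (ψ : G → ℂ) 1‖ ^ 2 :=
          mul_le_mul_of_nonneg_right hcon (by positivity)
        linarith
      exact lt_of_pow_lt_pow_left₀ 2 (norm_nonneg _) h2
    -- split off the principal character
    rw [← Finset.add_sum_erase _ _ (Finset.mem_univ (⟨1, isIrrCharacter_one⟩ : IrrCharacter G))]
      at hdeg hnu
    rw [hm0, hpsi1] at hnu
    rw [hm0] at hdeg
    simp only [Pi.one_apply, norm_one, Nat.cast_one, mul_one] at hdeg hnu
    -- strictness
    have hex : ∃ ψ ∈ Finset.univ.erase (⟨1, isIrrCharacter_one⟩ : IrrCharacter G), m ψ ≠ 0 := by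
      by_contra hall
      push Not at hall
      have : ∑ ψ ∈ Finset.univ.erase (⟨1, isIrrCharacter_one⟩ : IrrCharacter G),
          (m ψ : ℝ) * ‖(ψ : G → ℂ) 1‖ = 0 := by
        apply Finset.sum_eq_zero
        intro ψ hψ
        rw [hall ψ hψ, Nat.cast_zero, zero_mul]
      rw [this] at hdeg
      nlinarith
    have hlt : ∑ ψ ∈ Finset.univ.erase (⟨1, isIrrCharacter_one⟩ : IrrCharacter G),
        (m ψ : ℝ) * ((1 + (d : ℝ)) * ‖psiH H (ψ : G → ℂ) 1‖) <
        ∑ ψ ∈ Finset.univ.erase (⟨1, isIrrCharacter_one⟩ : IrrCharacter G),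
          (m ψ : ℝ) * ‖(ψ : G → ℂ) 1‖ := by
      apply Finset.sum_lt_sum
      · intro ψ hψ
        exact mul_le_mul_of_nonneg_left (hother ψ (Finset.ne_of_mem_erase hψ)).le
          (Nat.cast_nonneg _)
      · obtain ⟨ψ, hψ, hmψ⟩ := hex
        refine ⟨ψ, hψ, ?_⟩
        apply mul_lt_mul_of_pos_left (hother ψ (Finset.ne_of_mem_erase hψ))
        exact_mod_cast Nat.pos_of_ne_zero hmψ
    have hfac : ∑ ψ ∈ Finset.univ.erase (⟨1, isIrrCharacter_one⟩ : IrrCharacter G),
        (m ψ : ℝ) * ((1 + (d : ℝ)) * ‖psiH H (ψ : G → ℂ) 1‖) =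
        (1 + (d : ℝ)) * ∑ ψ ∈ Finset.univ.erase (⟨1, isIrrCharacter_one⟩ : IrrCharacter G),
          (m ψ : ℝ) * ‖psiH H (ψ : G → ℂ) 1‖ := by
      rw [Finset.mul_sum]
      apply Finset.sum_congr rfl
      intro ψ _
      ring
    rw [hfac] at hlt
    have hdν' : (d : ℝ) ≤ ν := by exact_mod_cast hdν
    nlinarith

end second
end Cfsg.Agent.Lib.Helper2
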