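import Mathlib

/-!
# Agreement counts of permutations (helper2)

`agr b c` is the number of points on which two permutations agree; the number of fixed points
of a product `a * b` is `agr b a⁻¹`.  This file has the basic facts, transitivity helpers for
alternating groups and the mean value of `agr b (h c h⁻¹)` over the alternating group.
-/

namespace Cfsg.Agent.Lib.Helper2.FixProd

open Equiv MulAction

variable {n : ℕ}

/-- number of points where two permutations agree -/
def agr (b c : Perm (Fin n)) : ℕ := (Finset.univ.filter fun w => b w = c w).card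

/-- number of fixed points -/
def fx (b : Perm (Fin n)) : ℕ := (Finset.univ.filter fun w => b w = w).card

theorem agr_comm (b c : Perm (Fin n)) : agr b c = agr c b := by
  unfold agr
  congr 1
  ext w
  simp [eq_comm]

theorem agr_conj (g b c : Perm (Fin n)) : agr (g * b * g⁻¹) (g * c * g⁻¹) = agr b c := by
  unfold agr
  apply Finset.card_bij (fun w _ => g⁻¹ w)
  · intro w hw
    have hw' := (Finset.mem_filter.mp hw).2
    simp only [Perm.coe_mul, Function.comp_apply] at hw'
    exact Finset.mem_filter.mpr ⟨Finset.mem_univ _, g.injective hw'⟩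
  · intro w1 _ w2 _ h
    exact (g⁻¹).injective h
  · intro w hw
    have hw' := (Finset.mem_filter.mp hw).2
    refine ⟨g w, Finset.mem_filter.mpr ⟨Finset.mem_univ _, ?_⟩, by simp⟩
    simp [hw']

theorem card_fixedPoints_mul (a b : Perm (Fin n)) :
    Nat.card (Function.fixedPoints ⇑(a * b)) = agr b a⁻¹ := by
  classical
  rw [Nat.card_eq_fintype_card, Fintype.card_subtype]
  unfold agr
  congr 1
  ext w
  simp only [Finset.mem_filter, Finset.mem_univ, true_and, Function.mem_fixedPoints,
    Function.IsFixedPt, Perm.coe_mul, Function.comp_apply]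
  exact Perm.eq_inv_iff_eq.symm

theorem two_le_agr {b c : Perm (Fin n)} {x y : Fin n} (hxy : x ≠ y) (hx : b x = c x) (hy : b y = c y) :
    2 ≤ agr b c := by
  unfold agr
  have : ({x, y} : Finset (Fin n)) ⊆ Finset.univ.filter fun w => b w = c w := by
    intro w hw
    simp only [Finset.mem_insert, Finset.mem_singleton] at hw
    rcases hw with rfl | rfl <;> simp [hx, hy]
  calc 2 = ({x, y} : Finset (Fin n)).card := (Finset.card_pair hxy).symm
    _ ≤ _ := Finset.card_le_card this

/-- the moved points of a non-identity permutation: at least two, so `fx b + 2 ≤ n` -/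
theorem fx_add_two_le {b : Perm (Fin n)} (hb : b ≠ 1) : fx b + 2 ≤ n := by
  obtain ⟨x, hx⟩ : ∃ x, b x ≠ x := by
    by_contra h
    push Not at h
    exact hb (Equiv.ext h)
  have hbx : b (b x) ≠ b x := fun h => hx (b.injective h)
  have hsub : (Finset.univ.filter fun w => b w = w) ⊆ ({x, b x} : Finset (Fin n))ᶜ := by
    intro w hw
    simp only [Finset.mem_filter, Finset.mem_univ, true_and] at hw
    simp only [Finset.mem_compl, Finset.mem_insert, Finset.mem_singleton, not_or]
    exact ⟨fun h => hx (h ▸ hw), fun h => hbx (h ▸ hw)⟩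
  have h1 := Finset.card_le_card hsub
  rw [Finset.card_compl, Finset.card_pair (Ne.symm hx), Fintype.card_fin] at h1
  unfold fx
  have : 2 ≤ n := by
    have := Finset.card_le_univ ({x, b x} : Finset (Fin n))
    rwa [Finset.card_pair (Ne.symm hx), Fintype.card_fin] at this
  omega

theorem exists_moved {b : Perm (Fin n)} (hb : b ≠ 1) : ∃ x, b x ≠ x := by
  by_contra h
  push Not at h
  exact hb (Equiv.ext h)

theorem exists_fixed {b : Perm (Fin n)} (h : 1 ≤ fx b) : ∃ x, b x = x := by
  unfold fx at h
  obtain ⟨x, hx⟩ := Finset.card_pos.mp h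
  exact ⟨x, (Finset.mem_filter.mp hx).2⟩

theorem exists_two_fixed {b : Perm (Fin n)} (h : 2 ≤ fx b) : ∃ x y, x ≠ y ∧ b x = x ∧ b y = y := by
  unfold fx at h
  obtain ⟨x, hx, y, hy, hxy⟩ := Finset.one_lt_card.mp h
  exact ⟨x, y, hxy, (Finset.mem_filter.mp hx).2, (Finset.mem_filter.mp hy).2⟩

/-- moved points: cardinality -/
theorem card_moved (b : Perm (Fin n)) : (Finset.univ.filter fun w => b w ≠ w).card = n - fx b := by
  unfold fx
  have := Finset.card_filter_add_card_filter_not (s := (Finset.univ : Finset (Fin n))) (fun w => b w = w)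
  rw [Finset.card_univ, Fintype.card_fin] at this
  have h2 : (Finset.univ.filter fun w => b w ≠ w) = (Finset.univ.filter fun w => ¬ b w = w) := rfl
  rw [h2]
  omega

end Cfsg.Agent.Lib.Helper2.FixProd
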