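import Mathlib
import Cfsg.Agent.Lib.Helper2.FixProdA

/-!
# Transitivity helpers and the mean agreement over the alternating group (helper2)
-/

namespace Cfsg.Agent.Lib.Helper2.FixProd

open Equiv MulAction

variable {n : ℕ}

/-- the alternating group of degree `n ≥ k + 2` is `k`-transitive (on embeddings) -/
theorem alt_emb_trans {k : ℕ} (hk : k + 2 ≤ n) (x y : Fin k ↪ Fin n) :
    ∃ h : Perm (Fin n), h ∈ alternatingGroup (Fin n) ∧ ∀ i, h (x i) = y i := by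
  have h0 := alternatingGroup.isMultiplyPretransitive (Fin n)
  rw [Nat.card_eq_fintype_card, Fintype.card_fin] at h0
  have h1 : IsMultiplyPretransitive (alternatingGroup (Fin n)) (Fin n) k :=
    isMultiplyPretransitive_of_le (n := n - 2) (by omega) (by simp)
  obtain ⟨g, hg⟩ := h1.exists_smul_eq x y
  refine ⟨g.1, g.2, fun i => ?_⟩
  have := congrArg (fun e : Fin k ↪ Fin n => e i) hg
  exact this

theorem perm_emb_trans {k : ℕ} (x y : Fin k ↪ Fin n) :
    ∃ h : Perm (Fin n), ∀ i, h (x i) = y i := by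
  have h1 := Equiv.Perm.isMultiplyPretransitive (Fin n) k
  obtain ⟨g, hg⟩ := h1.exists_smul_eq x y
  refine ⟨g, fun i => ?_⟩
  have := congrArg (fun e : Fin k ↪ Fin n => e i) hg
  simpa using this

/-- embedding of two distinct points -/
def emb2 {x y : Fin n} (h : x ≠ y) : Fin 2 ↪ Fin n :=
  ⟨![x, y], by
    intro i j hij
    fin_cases i <;> fin_cases j <;> simp_all⟩

def emb3 {x y z : Fin n} (h1 : x ≠ y) (h2 : x ≠ z) (h3 : y ≠ z) : Fin 3 ↪ Fin n :=
  ⟨![x, y, z], by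
    intro i j hij
    fin_cases i <;> fin_cases j <;> simp_all⟩

def emb4 {x y z w : Fin n} (h1 : x ≠ y) (h2 : x ≠ z) (h3 : x ≠ w) (h4 : y ≠ z) (h5 : y ≠ w) (h6 : z ≠ w) :
    Fin 4 ↪ Fin n :=
  ⟨![x, y, z, w], by
    intro i j hij
    fin_cases i <;> fin_cases j <;> simp_all⟩

theorem alt_two (hn : 4 ≤ n) {x1 x2 y1 y2 : Fin n} (hx : x1 ≠ x2) (hy : y1 ≠ y2) :
    ∃ h : Perm (Fin n), h ∈ alternatingGroup (Fin n) ∧ h x1 = y1 ∧ h x2 = y2 := by
  obtain ⟨h, hh, H⟩ := alt_emb_trans (k := 2) (by omega) (emb2 hx) (emb2 hy)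
  exact ⟨h, hh, H 0, H 1⟩

theorem alt_three (hn : 5 ≤ n) {x1 x2 x3 y1 y2 y3 : Fin n} (hx12 : x1 ≠ x2) (hx13 : x1 ≠ x3)
    (hx23 : x2 ≠ x3) (hy12 : y1 ≠ y2) (hy13 : y1 ≠ y3) (hy23 : y2 ≠ y3) :
    ∃ h : Perm (Fin n), h ∈ alternatingGroup (Fin n) ∧ h x1 = y1 ∧ h x2 = y2 ∧ h x3 = y3 := by
  obtain ⟨h, hh, H⟩ := alt_emb_trans (k := 3) (by omega) (emb3 hx12 hx13 hx23) (emb3 hy12 hy13 hy23)
  exact ⟨h, hh, H 0, H 1, H 2⟩

theorem perm_four {x1 x2 x3 x4 y1 y2 y3 y4 : Fin n} (hx12 : x1 ≠ x2) (hx13 : x1 ≠ x3) (hx14 : x1 ≠ x4)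
    (hx23 : x2 ≠ x3) (hx24 : x2 ≠ x4) (hx34 : x3 ≠ x4) (hy12 : y1 ≠ y2) (hy13 : y1 ≠ y3) (hy14 : y1 ≠ y4)
    (hy23 : y2 ≠ y3) (hy24 : y2 ≠ y4) (hy34 : y3 ≠ y4) :
    ∃ h : Perm (Fin n), h x1 = y1 ∧ h x2 = y2 ∧ h x3 = y3 ∧ h x4 = y4 := by
  obtain ⟨h, H⟩ := perm_emb_trans (emb4 hx12 hx13 hx14 hx23 hx24 hx34)
    (emb4 hy12 hy13 hy14 hy23 hy24 hy34)
  exact ⟨h, H 0, H 1, H 2, H 3⟩

/-- in a transitive action of a finite group all the sets `{g | g • x = y}` have `|G|/|X|` elements -/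
theorem card_filter_smul_eq {G X : Type*} [Group G] [Fintype G] [DecidableEq X] [MulAction G X]
    [Fintype X] [IsPretransitive G X] (x y : X) :
    (Finset.univ.filter fun g : G => g • x = y).card * Fintype.card X = Fintype.card G := by
  classical
  have key : ∀ y : X, (Finset.univ.filter fun g : G => g • x = y).card =
      (Finset.univ.filter fun g : G => g • x = x).card := by
    intro y
    obtain ⟨g0, hg0⟩ := exists_smul_eq G x y
    apply Finset.card_bij (fun g _ => g0⁻¹ * g)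
    · intro g hg
      have hg' := (Finset.mem_filter.mp hg).2
      refine Finset.mem_filter.mpr ⟨Finset.mem_univ _, ?_⟩
      rw [mul_smul, hg', ← hg0, inv_smul_smul]
    · intro g1 _ g2 _ h
      exact mul_left_cancel h
    · intro g hg
      have hg' := (Finset.mem_filter.mp hg).2
      refine ⟨g0 * g, Finset.mem_filter.mpr ⟨Finset.mem_univ _, ?_⟩, by simp⟩
      rw [mul_smul, hg', hg0]
  have h1 : Fintype.card G = ∑ y : X, (Finset.univ.filter fun g : G => g • x = y).card := by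
    rw [← Finset.card_univ]
    exact Finset.card_eq_sum_card_fiberwise (fun g _ => Finset.mem_univ _)
  rw [h1, Finset.sum_congr rfl (fun y _ => key y), Finset.sum_const, Finset.card_univ, smul_eq_mul,
    key y, mul_comm]

end Cfsg.Agent.Lib.Helper2.FixProd
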