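import Mathlib
import Cfsg.Agent.Lib.Helper2.FixProdB

/-!
# Mean agreement over the alternating group (helper2)
-/

namespace Cfsg.Agent.Lib.Helper2.FixProd

open Equiv MulAction

variable {n : ℕ}

local notation "A" => alternatingGroup (Fin n)

theorem card_alt_map_eq (hn : 3 ≤ n) (y x : Fin n) :
    (Finset.univ.filter fun h : A => (h : Perm (Fin n)) y = x).card * n = Fintype.card A := by
  have : IsPretransitive A (Fin n) :=
    alternatingGroup.isPretransitive_of_three_le_card (Fin n) (by simpa using hn)
  have := card_filter_smul_eq (G := A) (X := Fin n) y x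
  rw [Fintype.card_fin] at this
  exact this

theorem card_alt_map_eq₂ (hn : 4 ≤ n) {y y' x x' : Fin n} (hy : y ≠ y') (hx : x ≠ x') :
    (Finset.univ.filter fun h : A => (h : Perm (Fin n)) y = x ∧ (h : Perm (Fin n)) y' = x').card *
      (n * (n - 1)) = Fintype.card A := by
  classical
  have h0 := alternatingGroup.isMultiplyPretransitive (Fin n)
  rw [Nat.card_eq_fintype_card, Fintype.card_fin] at h0
  have h1 : IsPretransitive A (Fin 2 ↪ Fin n) :=
    isMultiplyPretransitive_of_le (n := n - 2) (by omega) (by simp)
  have := @card_filter_smul_eq A (Fin 2 ↪ Fin n) _ _ _ _ _ h1 (emb2 hy) (emb2 hx)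
  rw [Fintype.card_embedding_eq, Fintype.card_fin, Fintype.card_fin] at this
  have hd : n.descFactorial 2 = n * (n - 1) := by
    simp [Nat.descFactorial]
    ring
  rw [hd] at this
  rw [← this]
  congr 2
  ext h
  simp only [Finset.mem_filter, Finset.mem_univ, true_and]
  constructor
  · rintro ⟨h1, h2⟩
    ext i
    fin_cases i
    · exact congrArg _ h1
    · exact congrArg _ h2
  · intro he
    have e0 := congrArg (fun e : Fin 2 ↪ Fin n => e 0) he
    have e1 := congrArg (fun e : Fin 2 ↪ Fin n => e 1) he
    exact ⟨e0, e1⟩

/-- agreement with a conjugate, reindexed -/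
theorem agr_conj_eq (b c h : Perm (Fin n)) :
    agr b (h * c * h⁻¹) = (Finset.univ.filter fun y => b (h y) = h (c y)).card := by
  unfold agr
  apply Finset.card_bij (fun w _ => h⁻¹ w)
  · intro w hw
    have hw' := (Finset.mem_filter.mp hw).2
    refine Finset.mem_filter.mpr ⟨Finset.mem_univ _, ?_⟩
    simpa using hw'
  · intro w1 _ w2 _ e
    exact (h⁻¹).injective e
  · intro y hy
    have hy' := (Finset.mem_filter.mp hy).2
    refine ⟨h y, Finset.mem_filter.mpr ⟨Finset.mem_univ _, ?_⟩, by simp⟩
    simpa using hy'

theorem count_fixed (hn : 3 ≤ n) (b c : Perm (Fin n)) {y : Fin n} (hy : c y = y) :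
    (Finset.univ.filter fun h : A => b ((h : Perm (Fin n)) y) = (h : Perm (Fin n)) (c y)).card * n =
      fx b * Fintype.card A := by
  classical
  rw [Finset.card_eq_sum_card_fiberwise (f := fun h : A => (h : Perm (Fin n)) y)
    (t := Finset.univ) (fun _ _ => Finset.mem_univ _), Finset.sum_mul]
  have : ∀ x : Fin n, ((Finset.univ.filter fun h : A =>
      b ((h : Perm (Fin n)) y) = (h : Perm (Fin n)) (c y)).filter
        fun h : A => (h : Perm (Fin n)) y = x).card * n = if b x = x then Fintype.card A else 0 := by
    intro x
    split_ifs with hx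
    · rw [← card_alt_map_eq hn y x]
      congr 2
      ext h
      simp only [Finset.mem_filter, Finset.mem_univ, true_and, and_iff_right_iff_imp]
      intro e
      rw [hy, e, hx]
    · have : ((Finset.univ.filter fun h : A =>
          b ((h : Perm (Fin n)) y) = (h : Perm (Fin n)) (c y)).filter
            fun h : A => (h : Perm (Fin n)) y = x) = ∅ := by
        apply Finset.eq_empty_of_forall_notMem
        intro h hh
        simp only [Finset.mem_filter, Finset.mem_univ, true_and] at hh
        apply hx
        rw [← hh.2]
        rw [hy] at hh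
        exact hh.1
      rw [this]
      simp
  rw [Finset.sum_congr rfl (fun x _ => this x), Finset.sum_ite, Finset.sum_const_zero, add_zero,
    Finset.sum_const, smul_eq_mul]
  rfl

theorem count_moved (hn : 4 ≤ n) (b c : Perm (Fin n)) {y : Fin n} (hy : c y ≠ y) :
    (Finset.univ.filter fun h : A => b ((h : Perm (Fin n)) y) = (h : Perm (Fin n)) (c y)).card *
      (n * (n - 1)) = (n - fx b) * Fintype.card A := by
  classical
  rw [Finset.card_eq_sum_card_fiberwise (f := fun h : A => (h : Perm (Fin n)) y)
    (t := Finset.univ) (fun _ _ => Finset.mem_univ _), Finset.sum_mul]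
  have : ∀ x : Fin n, ((Finset.univ.filter fun h : A =>
      b ((h : Perm (Fin n)) y) = (h : Perm (Fin n)) (c y)).filter
        fun h : A => (h : Perm (Fin n)) y = x).card * (n * (n - 1)) =
          if b x ≠ x then Fintype.card A else 0 := by
    intro x
    split_ifs with hx
    · rw [← card_alt_map_eq₂ hn (Ne.symm hy) (Ne.symm hx)]
      congr 2
      ext h
      simp only [Finset.mem_filter, Finset.mem_univ, true_and]
      constructor
      · rintro ⟨e1, e2⟩
        exact ⟨e2, by rw [← e1, e2]⟩
      · rintro ⟨e1, e2⟩
        exact ⟨by rw [e1, e2], e1⟩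
    · push Not at hx
      have : ((Finset.univ.filter fun h : A =>
          b ((h : Perm (Fin n)) y) = (h : Perm (Fin n)) (c y)).filter
            fun h : A => (h : Perm (Fin n)) y = x) = ∅ := by
        apply Finset.eq_empty_of_forall_notMem
        intro h hh
        simp only [Finset.mem_filter, Finset.mem_univ, true_and] at hh
        apply hy
        apply (h : Perm (Fin n)).injective
        rw [← hh.1, hh.2, hx]
      rw [this]
      simp
  rw [Finset.sum_congr rfl (fun x _ => this x), Finset.sum_ite, Finset.sum_const_zero, add_zero,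
    Finset.sum_const, smul_eq_mul, card_moved]

/-- the mean of the agreement of `b` with the conjugates of `c` under the alternating group -/
theorem sum_agr_conj (hn : 4 ≤ n) (b c : Perm (Fin n)) :
    (∑ h : A, agr b ((h : Perm (Fin n)) * c * (h : Perm (Fin n))⁻¹)) * (n * (n - 1)) =
      Fintype.card A * ((n - 1) * (fx b * fx c) + (n - fx b) * (n - fx c)) := by
  classical
  have e1 : (∑ h : A, agr b ((h : Perm (Fin n)) * c * (h : Perm (Fin n))⁻¹)) =
      ∑ y : Fin n, (Finset.univ.filter fun h : A =>
        b ((h : Perm (Fin n)) y) = (h : Perm (Fin n)) (c y)).card := by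
    simp_rw [agr_conj_eq, Finset.card_filter]
    exact Finset.sum_comm
  rw [e1, Finset.sum_mul]
  have e2 : ∀ y : Fin n, (Finset.univ.filter fun h : A =>
        b ((h : Perm (Fin n)) y) = (h : Perm (Fin n)) (c y)).card * (n * (n - 1)) =
      if c y = y then (n - 1) * fx b * Fintype.card A else (n - fx b) * Fintype.card A := by
    intro y
    split_ifs with hy
    · have := count_fixed (by omega) b c hy
      calc _ = ((Finset.univ.filter fun h : A =>
        b ((h : Perm (Fin n)) y) = (h : Perm (Fin n)) (c y)).card * n) * (n - 1) := by ring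
        _ = _ := by rw [this]; ring
    · exact count_moved hn b c hy
  rw [Finset.sum_congr rfl (fun y _ => e2 y), Finset.sum_ite, Finset.sum_const, Finset.sum_const,
    smul_eq_mul, smul_eq_mul]
  have h1 : (Finset.univ.filter fun y => c y = y).card = fx c := rfl
  have h2 : (Finset.univ.filter fun y => ¬ c y = y).card = n - fx c := card_moved c
  rw [h1, h2]
  ring

/-- if the agreement is constant `m` on the conjugates under the alternating group, then `m` is
the mean -/
theorem mean_eq (hn : 4 ≤ n) (b c : Perm (Fin n)) (m : ℕ)
    (H : ∀ h : Perm (Fin n), h ∈ A → agr b (h * c * h⁻¹) = m) :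
    m * (n * (n - 1)) = (n - 1) * (fx b * fx c) + (n - fx b) * (n - fx c) := by
  have h1 := sum_agr_conj hn b c
  rw [Finset.sum_congr rfl (fun h _ => H h.1 h.2), Finset.sum_const, Finset.card_univ,
    smul_eq_mul, mul_assoc] at h1
  have hpos : 0 < Fintype.card A := Fintype.card_pos
  exact Nat.eq_of_mul_eq_mul_left hpos h1

end Cfsg.Agent.Lib.Helper2.FixProd
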