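import Mathlib
import Cfsg.Agent.Lib.Helper2.FixProdC

/-!
# Explicit configurations (helper2)
-/

namespace Cfsg.Agent.Lib.Helper2.FixProd

open Equiv MulAction

variable {n : ℕ}

/-- the agreement is constant on pairs of conjugates under the alternating group -/
def ConstA (b c : Perm (Fin n)) (m : ℕ) : Prop :=
  ∀ g h : Perm (Fin n), g ∈ alternatingGroup (Fin n) → h ∈ alternatingGroup (Fin n) →
    agr (g * b * g⁻¹) (h * c * h⁻¹) = m

/-- the agreement is constant on pairs of conjugates under the symmetric group -/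
def ConstS (b c : Perm (Fin n)) (m : ℕ) : Prop :=
  ∀ g h : Perm (Fin n), agr (g * b * g⁻¹) (h * c * h⁻¹) = m

theorem ConstA.symm {b c : Perm (Fin n)} {m : ℕ} (H : ConstA b c m) : ConstA c b m := by
  intro g h hg hh
  rw [agr_comm]
  exact H h g hh hg

theorem ConstS.symm {b c : Perm (Fin n)} {m : ℕ} (H : ConstS b c m) : ConstS c b m := by
  intro g h
  rw [agr_comm]
  exact H h g

theorem ConstS.conj_right {b c : Perm (Fin n)} {m : ℕ} (H : ConstS b c m) (s : Perm (Fin n)) :
    ConstS b (s * c * s⁻¹) m := by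
  intro g h
  have := H g (h * s)
  rw [← this]
  congr 1

theorem conj_apply_of_eq {h : Perm (Fin n)} (c : Perm (Fin n)) {y x : Fin n} (e : h y = x) :
    (h * c * h⁻¹) x = h (c y) := by
  rw [← e]
  simp

theorem ConstA.one_left {b c : Perm (Fin n)} {m : ℕ} (H : ConstA b c m) {h : Perm (Fin n)}
    (hh : h ∈ alternatingGroup (Fin n)) : agr b (h * c * h⁻¹) = m := by
  have := H 1 h (Subgroup.one_mem _) hh
  simpa using this

theorem ConstS.one_left {b c : Perm (Fin n)} {m : ℕ} (H : ConstS b c m) (h : Perm (Fin n)) :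
    agr b (h * c * h⁻¹) = m := by
  have := H 1 h
  simpa using this

/-- parity fix: an odd permutation commuting with `b` upgrades constancy to the symmetric group -/
theorem ConstA.toS {b c : Perm (Fin n)} {m : ℕ} (H : ConstA b c m) {z : Perm (Fin n)}
    (hz : Perm.sign z = -1) (hzb : z * b * z⁻¹ = b) : ConstS b c m := by
  have aux : ∀ g h : Perm (Fin n), Perm.sign h = 1 → agr (g * b * g⁻¹) (h * c * h⁻¹) = m := by
    intro g h hh
    rcases Int.units_eq_one_or (Perm.sign g) with hg | hg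
    · exact H g h (Perm.mem_alternatingGroup.mpr hg) (Perm.mem_alternatingGroup.mpr hh)
    · have e : g * b * g⁻¹ = (g * z) * b * (g * z)⁻¹ := by
        conv_lhs => rw [← hzb]
        simp [mul_assoc]
      rw [e]
      refine H (g * z) h (Perm.mem_alternatingGroup.mpr ?_) (Perm.mem_alternatingGroup.mpr hh)
      simp [hg, hz]
  intro g h
  rcases Int.units_eq_one_or (Perm.sign h) with hh | hh
  · exact aux g h hh
  · have := aux (z * g) (z * h) (by simp [hh, hz])
    rw [← this, ← agr_conj z (g * b * g⁻¹) (h * c * h⁻¹)]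
    congr 1

theorem swap_conj_of_fixed {c : Perm (Fin n)} {y0 y1 : Fin n} (h0 : c y0 = y0) (h1 : c y1 = y1) :
    swap y0 y1 * c * (swap y0 y1)⁻¹ = c := by
  rw [mul_inv_eq_iff_eq_mul, Equiv.mul_swap_eq_swap_mul, h0, h1]

theorem swap_conj_of_invol {b : Perm (Fin n)} (x : Fin n) (hb : b (b x) = x) :
    swap x (b x) * b * (swap x (b x))⁻¹ = b := by
  rw [mul_inv_eq_iff_eq_mul, Equiv.mul_swap_eq_swap_mul, hb, Equiv.swap_comm]

/-- the transposition trick -/
theorem trick {b c : Perm (Fin n)} {m : ℕ} (H : ConstS b c m) {p q : Fin n} (hbp : b p = p)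
    (hbq : b q ≠ q) (hcp : c p = p) (hcq : c q ≠ q) : False := by
  have hpq : p ≠ q := fun h => hbq (h ▸ hbp)
  have h1 := H.one_left 1
  have h2 := H.one_left (swap p q)
  simp only [one_mul, inv_one, mul_one] at h1
  have hlt : agr b (swap p q * c * (swap p q)⁻¹) < agr b c := by
    unfold agr
    apply Finset.card_lt_card
    rw [Finset.ssubset_iff_of_subset]
    · refine ⟨p, Finset.mem_filter.mpr ⟨Finset.mem_univ _, by rw [hbp, hcp]⟩, ?_⟩
      intro hp
      have hp' := (Finset.mem_filter.mp hp).2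
      simp only [Perm.coe_mul, Function.comp_apply, swap_inv, swap_apply_left] at hp'
      rw [hbp] at hp'
      -- p = swap p q (c q)
      have := congrArg (swap p q) hp'
      rw [swap_apply_left, swap_apply_self] at this
      exact hcq this.symm
    · intro w hw
      have hw' := (Finset.mem_filter.mp hw).2
      refine Finset.mem_filter.mpr ⟨Finset.mem_univ _, ?_⟩
      simp only [Perm.coe_mul, Function.comp_apply, swap_inv] at hw'
      by_cases hwp : w = p
      · exfalso
        subst hwp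
        rw [swap_apply_left, hbp] at hw'
        have := congrArg (swap w q) hw'
        rw [swap_apply_left, swap_apply_self] at this
        exact hcq this.symm
      by_cases hwq : w = q
      · exfalso
        subst hwq
        rw [swap_apply_right, hcp, swap_apply_left] at hw'
        exact hbq hw'
      rw [swap_apply_of_ne_of_ne hwp hwq] at hw'
      by_cases hcw : c w = q
      · exfalso
        rw [hcw, swap_apply_right] at hw'
        -- b w = p = b p
        exact hwp (b.injective (hw'.trans hbp.symm))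
      by_cases hcw' : c w = p
      · exfalso
        exact hwp (c.injective (hcw'.trans hcp.symm))
      rw [swap_apply_of_ne_of_ne hcw' hcw] at hw'
      exact hw'
  omega

/-- both have a fixed point, one of them two: constancy over the alternating group fails -/
theorem not_const_of_fixed {b c : Perm (Fin n)} {m : ℕ} (H : ConstA b c m)
    (hb : b ≠ 1) (hc : c ≠ 1) (hfb : 1 ≤ fx b) (hfc : 2 ≤ fx c) : False := by
  obtain ⟨y0, y1, hy, hy0, hy1⟩ := exists_two_fixed hfc
  have HS : ConstS b c m := by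
    have := H.symm.toS (z := swap y0 y1) (Perm.sign_swap hy) (swap_conj_of_fixed hy0 hy1)
    exact this.symm
  obtain ⟨p, hp⟩ := exists_fixed hfb
  obtain ⟨q, hq⟩ := exists_moved hb
  obtain ⟨u, hu⟩ := exists_moved hc
  have hpq : p ≠ q := fun h => hq (h ▸ hp)
  have hy0u : y0 ≠ u := fun h => hu (h ▸ hy0)
  obtain ⟨s, hs⟩ := perm_emb_trans (emb2 hy0u) (emb2 hpq)
  have hs0 : s y0 = p := hs 0
  have hs1 : s u = q := hs 1
  have HS' := HS.conj_right s
  refine trick HS' hp hq ?_ ?_
  · rw [conj_apply_of_eq c hs0, hy0, hs0]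
  · rw [conj_apply_of_eq c hs1, ← hs1]
    exact fun h => hu (s.injective h)

/-- common fixed point and an aligned arrow -/
theorem two_le_of_fixed (hn : 5 ≤ n) {b c : Perm (Fin n)} {m : ℕ} (H : ConstA b c m)
    (hb : b ≠ 1) (hc : c ≠ 1) (hfb : 1 ≤ fx b) (hfc : 1 ≤ fx c) : 2 ≤ m := by
  obtain ⟨x0, hx0⟩ := exists_fixed hfb
  obtain ⟨y0, hy0⟩ := exists_fixed hfc
  obtain ⟨x, hx⟩ := exists_moved hb
  obtain ⟨u, hu⟩ := exists_moved hc
  have hx1 : x0 ≠ x := fun h => hx (h ▸ hx0)
  have hx2 : x0 ≠ b x := fun h => hx1 (b.injective (hx0.trans h))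
  have hy1 : y0 ≠ u := fun h => hu (h ▸ hy0)
  have hy2 : y0 ≠ c u := fun h => hy1 (c.injective (hy0.trans h))
  obtain ⟨h, hh, h1, h2, h3⟩ := alt_three hn hy1 hy2 (Ne.symm hu) hx1 hx2 (Ne.symm hx)
  rw [← H.one_left hh]
  apply two_le_agr hx1
  · rw [conj_apply_of_eq c h1, hy0, h1, hx0]
  · rw [conj_apply_of_eq c h2, h3]

/-- aligned paths -/
theorem two_le_of_paths (hn : 5 ≤ n) {b c : Perm (Fin n)} {m : ℕ} (H : ConstA b c m)
    {x u : Fin n} (hx : b (b x) ≠ x) (hu : c (c u) ≠ u) : 2 ≤ m := by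
  have hx1 : x ≠ b x := fun h => hx (by rw [← h, ← h])
  have hx2 : b x ≠ b (b x) := fun h => hx1 (b.injective h)
  have hu1 : u ≠ c u := fun h => hu (by rw [← h, ← h])
  have hu2 : c u ≠ c (c u) := fun h => hu1 (c.injective h)
  obtain ⟨h, hh, h1, h2, h3⟩ := alt_three hn hu1 (Ne.symm hu) hu2 hx1 (Ne.symm hx) hx2
  rw [← H.one_left hh]
  apply two_le_agr hx1
  · rw [conj_apply_of_eq c h1, h2]
  · rw [conj_apply_of_eq c h2, h3]

/-- aligned 2-cycles -/
theorem two_le_of_invols (hn : 4 ≤ n) {b c : Perm (Fin n)} {m : ℕ} (H : ConstA b c m)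
    (hb : b ≠ 1) (hc : c ≠ 1) (hb2 : ∀ x, b (b x) = x) (hc2 : ∀ u, c (c u) = u) : 2 ≤ m := by
  obtain ⟨x, hx⟩ := exists_moved hb
  obtain ⟨u, hu⟩ := exists_moved hc
  obtain ⟨h, hh, h1, h2⟩ := alt_two hn (Ne.symm hu) (Ne.symm hx)
  rw [← H.one_left hh]
  apply two_le_agr (Ne.symm hx)
  · rw [conj_apply_of_eq c h1, h2]
  · rw [conj_apply_of_eq c h2, hc2, h1, hb2]

/-- two disjoint arrows of a non-involution moving at least four points -/
theorem exists_two_arrows {k : Perm (Fin n)} (hk : 4 ≤ n - fx k) {u : Fin n} (hu : k (k u) ≠ u) :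
    ∃ u1 u2 : Fin n, u1 ≠ k u1 ∧ u1 ≠ u2 ∧ u1 ≠ k u2 ∧ k u1 ≠ u2 ∧ k u1 ≠ k u2 ∧ u2 ≠ k u2 := by
  have hu1 : u ≠ k u := fun h => hu (by rw [← h, ← h])
  have hu2 : k u ≠ k (k u) := fun h => hu1 (k.injective h)
  by_cases h3 : k (k (k u)) = u
  · -- a 3-cycle: another moved point
    have hcard : ({u, k u, k (k u)} : Finset (Fin n)).card < (Finset.univ.filter fun w => k w ≠ w).card := by
      rw [card_moved]
      have : ({u, k u, k (k u)} : Finset (Fin n)).card ≤ 3 := Finset.card_le_three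
      omega
    obtain ⟨v, hv, hvn⟩ := Finset.exists_mem_notMem_of_card_lt_card hcard
    have hv' : k v ≠ v := (Finset.mem_filter.mp hv).2
    simp only [Finset.mem_insert, Finset.mem_singleton, not_or] at hvn
    obtain ⟨hv1, hv2, hv3⟩ := hvn
    refine ⟨u, v, hu1, Ne.symm hv1, ?_, Ne.symm hv2, ?_, Ne.symm hv'⟩
    · intro h
      -- u = k v, so k (k (k u)) = k v → v = k (k u)
      apply hv3
      apply k.injective
      rw [h3, h]
    · intro h
      exact hv1 (k.injective h).symm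
  · refine ⟨u, k (k u), hu1, Ne.symm hu, Ne.symm h3, hu2, ?_, ?_⟩
    · intro h
      exact hu (k.injective h).symm
    · intro h
      exact hu2 (k.injective h)

/-- two disjoint 2-cycles of an involution moving at least four points -/
theorem exists_two_swaps {i : Perm (Fin n)} (hi : 4 ≤ n - fx i) (hi2 : ∀ x, i (i x) = x) :
    ∃ x1 x2 : Fin n, x1 ≠ i x1 ∧ x1 ≠ x2 ∧ x1 ≠ i x2 ∧ i x1 ≠ x2 ∧ i x1 ≠ i x2 ∧ x2 ≠ i x2 := by
  have hpos : 0 < (Finset.univ.filter fun w => i w ≠ w).card := by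
    rw [card_moved]; omega
  obtain ⟨x1, hx1⟩ := Finset.card_pos.mp hpos
  have hx1' : i x1 ≠ x1 := (Finset.mem_filter.mp hx1).2
  have hcard : ({x1, i x1} : Finset (Fin n)).card < (Finset.univ.filter fun w => i w ≠ w).card := by
    rw [card_moved]
    have : ({x1, i x1} : Finset (Fin n)).card ≤ 2 := Finset.card_le_two
    omega
  obtain ⟨x2, hx2, hx2n⟩ := Finset.exists_mem_notMem_of_card_lt_card hcard
  have hx2' : i x2 ≠ x2 := (Finset.mem_filter.mp hx2).2
  simp only [Finset.mem_insert, Finset.mem_singleton, not_or] at hx2n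
  obtain ⟨h1, h2⟩ := hx2n
  refine ⟨x1, x2, Ne.symm hx1', Ne.symm h1, ?_, Ne.symm h2, ?_, Ne.symm hx2'⟩
  · intro h
    apply h2
    rw [h, hi2]
  · intro h
    exact h1 (i.injective h).symm

/-- an involution against a non-involution, both moving at least four points -/
theorem two_le_of_mixed {i k : Perm (Fin n)} {m : ℕ} (H : ConstS i k m) (hi : 4 ≤ n - fx i)
    (hi2 : ∀ x, i (i x) = x) (hk : 4 ≤ n - fx k) {u : Fin n} (hu : k (k u) ≠ u) : 2 ≤ m := by
  obtain ⟨u1, u2, a1, a2, a3, a4, a5, a6⟩ := exists_two_arrows hk hu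
  obtain ⟨x1, x2, b1, b2, b3, b4, b5, b6⟩ := exists_two_swaps hi hi2
  obtain ⟨h, h1, h2, h3, h4⟩ := perm_four a1 a2 a3 a4 a5 a6 b1 b2 b3 b4 b5 b6
  rw [← H.one_left h]
  apply two_le_agr b2
  · rw [conj_apply_of_eq k h1, h2]
  · rw [conj_apply_of_eq k h3, h4]

end Cfsg.Agent.Lib.Helper2.FixProd
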