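import Mathlib
import Cfsg.Agent.Lib.Helper2.FixProdD

/-!
# Non-constancy of the agreement on pairs of conjugates under the alternating group (helper2)
-/

namespace Cfsg.Agent.Lib.Helper2.FixProd

open Equiv MulAction

variable {n : ℕ}

/-- the case `fx b = 0`, `fx c = 1` -/
theorem two_le_of_zero_one (hn : 5 ≤ n) {b c : Perm (Fin n)} {m : ℕ} (H : ConstA b c m)
    (hb : b ≠ 1) (hc : c ≠ 1) (hfb : fx b = 0) (hfc : fx c = 1) : 2 ≤ m := by
  have hmb : 4 ≤ n - fx b := by omega
  have hmc : 4 ≤ n - fx c := by omega
  by_cases hb2 : ∀ x, b (b x) = x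
  · by_cases hc2 : ∀ u, c (c u) = u
    · exact two_le_of_invols (by omega) H hb hc hb2 hc2
    · push Not at hc2
      obtain ⟨u, hu⟩ := hc2
      obtain ⟨x, hx⟩ := exists_moved hb
      have HS : ConstS b c m :=
        H.toS (z := swap x (b x)) (Perm.sign_swap (Ne.symm hx)) (swap_conj_of_invol x (hb2 x))
      exact two_le_of_mixed HS hmb hb2 hmc hu
  · push Not at hb2
    obtain ⟨x, hx⟩ := hb2
    by_cases hc2 : ∀ u, c (c u) = u
    · obtain ⟨u, hu⟩ := exists_moved hc
      have HS : ConstS c b m :=
        H.symm.toS (z := swap u (c u)) (Perm.sign_swap (Ne.symm hu)) (swap_conj_of_invol u (hc2 u))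
      exact two_le_of_mixed HS hmc hc2 hmb hx
    · push Not at hc2
      obtain ⟨u, hu⟩ := hc2
      exact two_le_of_paths hn H hx hu

/-- main theorem, ordered version -/
theorem not_constA_of_le (hn : 5 ≤ n) {b c : Perm (Fin n)} {m : ℕ} (H : ConstA b c m)
    (hb : b ≠ 1) (hc : c ≠ 1) (hle : fx b ≤ fx c) : False := by
  have hfb := fx_add_two_le hb
  have hfc := fx_add_two_le hc
  have hmean := mean_eq (by omega) b c m (fun h hh => H.one_left hh)
  obtain ⟨k, rfl⟩ : ∃ k, n = k + 5 := ⟨n - 5, by omega⟩
  have e1 : k + 5 - 1 = k + 4 := by omega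
  rw [e1] at hmean
  rcases Nat.eq_zero_or_pos (fx b) with hb0 | hb1
  · -- b has no fixed point
    rw [hb0] at hmean
    simp only [zero_mul, mul_zero, zero_add, Nat.sub_zero] at hmean
    rcases Nat.lt_or_ge (fx c) 2 with hc2 | hc2
    · rcases Nat.eq_zero_or_pos (fx c) with hc0 | hc1
      · rw [hc0] at hmean
        simp only [Nat.sub_zero] at hmean
        -- m * ((k+5)*(k+4)) = (k+5)*(k+5)
        have h1 : m * (k + 4) = k + 5 := by
          have : (k + 5) * (m * (k + 4)) = (k + 5) * (k + 5) := by
            rw [← hmean]; ring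
          exact Nat.eq_of_mul_eq_mul_left (by omega) this
        rcases Nat.lt_or_ge m 2 with hm | hm
        · interval_cases m <;> omega
        · nlinarith
      · have hc1' : fx c = 1 := by omega
        have h2 := two_le_of_zero_one hn H hb hc hb0 hc1'
        rw [hc1'] at hmean
        have e2 : k + 5 - 1 = k + 4 := by omega
        rw [e2] at hmean
        have : m = 1 := by
          have : (k + 5) * (k + 4) * m = (k + 5) * (k + 4) * 1 := by
            rw [mul_one]
            calc (k + 5) * (k + 4) * m = m * ((k + 5) * (k + 4)) := by ring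
              _ = _ := hmean
          exact Nat.eq_of_mul_eq_mul_left (by positivity) this
        omega
    · -- fx c ≥ 2
      obtain ⟨t, ht⟩ : ∃ t, k + 5 - fx c = t := ⟨_, rfl⟩
      rw [ht] at hmean
      have ht1 : 0 < t := by omega
      have ht2 : t < k + 4 := by omega
      have h1 : m * (k + 4) = t := by
        have : (k + 5) * (m * (k + 4)) = (k + 5) * t := by
          rw [← hmean]; ring
        exact Nat.eq_of_mul_eq_mul_left (by omega) this
      rcases Nat.eq_zero_or_pos m with hm | hm
      · rw [hm] at h1; omega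
      · nlinarith
  · -- b has a fixed point
    rcases Nat.lt_or_ge (fx c) 2 with hc2 | hc2
    · have hc1 : fx c = 1 := by omega
      have hb1' : fx b = 1 := by omega
      have h2 := two_le_of_fixed hn H hb hc (by omega) (by omega)
      rw [hc1, hb1'] at hmean
      have e2 : k + 5 - 1 = k + 4 := by omega
      rw [e2] at hmean
      have : m = 1 := by
        have : (k + 5) * (k + 4) * m = (k + 5) * (k + 4) * 1 := by
          rw [mul_one]
          calc (k + 5) * (k + 4) * m = m * ((k + 5) * (k + 4)) := by ring
            _ = _ := by rw [hmean]; ring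
        exact Nat.eq_of_mul_eq_mul_left (by positivity) this
      omega
    · exact not_const_of_fixed H hb hc hb1 hc2

/-- main theorem: the agreement is not constant -/
theorem not_constA (hn : 5 ≤ n) {b c : Perm (Fin n)} {m : ℕ} (H : ConstA b c m)
    (hb : b ≠ 1) (hc : c ≠ 1) : False := by
  rcases le_total (fx b) (fx c) with h | h
  · exact not_constA_of_le hn H hb hc h
  · exact not_constA_of_le hn H.symm hc hb h

end Cfsg.Agent.Lib.Helper2.FixProd
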