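/-
helper2: S4642 (Fong's block of a `p`-constrained group): assembly of the market leaves.
`fong_block` (the characters over a `G`-invariant `θ ∈ Irr(K)`, `K` a normal `p'`-subgroup, form ONE block of
full defect, when `L/K` is a normal `p`-subgroup of `G/K` whose Sylow `Q` has `C_G(Q) ≤ L`),
`fong_block_sylow`, and `exists_unique_induced` (principal type).
-/
import Mathlib
import Cfsg.Prelude.Def_BrauerPairs
import Cfsg.Agent.Lib.Helper2.FongPTDefs
import Cfsg.Agent.Lib.Helper6.KnoerrGen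
import Cfsg.Agent.Lib.Helper6.Fong
import Cfsg.Agent.Lib.Helper6.MinMax
import Cfsg.Agent.Lib.Helper23.PairIndA
import Cfsg.Agent.Lib.Helper23.PairIndB
import Cfsg.Agent.Lib.Helper24.MaxPair
import Cfsg.Agent.Lib.Helper2.FPTGT
import Cfsg.Agent.Lib.Helper9.FPTEQK
import Cfsg.Agent.Lib.Helper9.FPTVAN
import Cfsg.Agent.Lib.Helper14.FPTCOEF
import Cfsg.Agent.Lib.Helper17.FPTFULL
import Cfsg.Agent.Lib.Helper17.FPTINVL
import Cfsg.Agent.Lib.Helper6.FPTPPOW
import Cfsg.Agent.Lib.Helper5.FPTGINV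
import Cfsg.Agent.Lib.Helper2.FPTGLAUB
import Cfsg.Agent.Lib.Helper14.FPTOMEGA
import Cfsg.Agent.Lib.Helper5.FPTCOV
import Cfsg.Agent.Lib.Helper6.NormalBlock
import Cfsg.Agent.Lib.Helper6.NormalPBlock
import Cfsg.Agent.Lib.Helper24.IrrFacts
import Cfsg.Agent.Lib.Helper12.PPrimeP

set_option autoImplicit false
set_option linter.unusedSectionVars false
set_option linter.unusedVariables false
set_option linter.style.haveILetI false

namespace Cfsg.Agent.Lib.Helper2.FongPTMain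

open Cfsg Cfsg.Agent.CharLib Cfsg.Agent.Lib.Helper24 Cfsg.Agent.Lib.Helper23
  Cfsg.Agent.Lib.Helper6 Cfsg.Agent.Lib.Helper2.FongPT
open scoped ComplexConjugate

universe u

variable {G : Type u} [Group G] [Fintype G] {p : ℕ} [hpp : Fact p.Prime] {M : Ideal AlgInt}

/-- (UN) `Irr(G | θ)` is a union of blocks (normal `p'`-subgroup). -/
theorem irrOver_closed (hM : IsPModular p M) (K : Subgroup G) [hKn : K.Normal] [Fintype K]
    (hKp : ¬ p ∣ Nat.card K) (θ : IrrCharacter K)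
    (χ ψ : IrrCharacter G) (hχ : χ ∈ irrOver K (θ : K → ℂ))
    (hs : SameBlock M (χ : G → ℂ) (ψ : G → ℂ)) : ψ ∈ irrOver K (θ : K → ℂ) :=
  (constituent_iff_of_sameBlock hM K hKp χ ψ hs θ.2).mp hχ

/-- A `p`-regular element of `L` lies in `K` when `L / K` is a `p`-group. -/
theorem mem_of_pRegular_of_relIndex (K L : Subgroup G) [hKn : K.Normal] (hKL : K ≤ L)
    (hLK : ∃ a : ℕ, K.relIndex L = p ^ a) {x : G} (hxL : x ∈ L) (hx : ¬ p ∣ orderOf x) :
    x ∈ K := by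
  classical
  haveI : (K.subgroupOf L).Normal := Subgroup.Normal.subgroupOf hKn L
  have h := Cfsg.Agent.Lib.Helper23.mem_of_pRegular_of_index (G := L) (K.subgroupOf L) hLK
    (x := ⟨x, hxL⟩) (by
      intro hd
      apply hx
      have : orderOf (⟨x, hxL⟩ : L) = orderOf x := Subgroup.orderOf_mk x hxL
      rwa [this] at hd)
  exact Subgroup.mem_subgroupOf.mp h

/-- **Fong's block**: in the `p`-constrained situation the characters over a `G`-invariant `θ` of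
the normal `p'`-subgroup `K` form ONE block, of full defect. -/
theorem fong_block (hM : IsPModular p M) (K L Q : Subgroup G) [hKn : K.Normal] [hLn : L.Normal]
    [Fintype K] (hKp : ¬ p ∣ Nat.card K) (hKL : K ≤ L) (hLK : ∃ a : ℕ, K.relIndex L = p ^ a)
    (hQL : Q ≤ L) (hQp : IsPGroup p Q) (hQS : ¬ p ∣ Q.relIndex L)
    (hCQ : Subgroup.centralizer (Q : Set G) ≤ L)
    (θ : IrrCharacter K) (hθ : ∀ g : G, IsConjCharOf K g (θ : K → ℂ) (θ : K → ℂ)) :
    IsPBlock M (irrOver K (θ : K → ℂ)) ∧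
      blockDefect p (irrOver K (θ : K → ℂ)) = (Nat.card G).factorization p := by
  classical
  haveI hprime : M.IsPrime := isPrime_of_isPModular hM
  haveI : Fintype L := Fintype.ofFinite L
  set bL := irrOverIn K L hKL (θ : K → ℂ) with hbLdef
  obtain ⟨hbL, hbLfull⟩ := Cfsg.Agent.Lib.Helper6.FPTPPOW.ppow_block hM K L hKL (fun l _ k hk => hKn.conj_mem k hk l) hKp hLK θ
    (fun g _ => hθ g)
  have hQdef : IsDefectGroup p M bL (Q.subgroupOf L) :=
    Cfsg.Agent.Lib.Helper17.FPTFULL.isDefectGroup_of_full_defect (G := L) hM bL hbL hbLfull (Q.subgroupOf L)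
      hQp.comap_subtype hQS
  -- vanishing of central characters off `K`
  have hvan : ∀ χ : IrrCharacter G, χ ∈ irrOver K (θ : K → ℂ) → ∀ g : G, ¬ p ∣ orderOf g →
      g ∉ K → MemLocalIdeal M (centralChar (χ : G → ℂ) g) := by
    intro χ hχ g hg hgK
    have hB' : IsPBlock M (blockOf M (χ : G → ℂ)) := ⟨χ, rfl⟩
    have hBS : ∀ χ' ∈ blockOf M (χ : G → ℂ), χ' ∈ Fong.coverSet L bL := by
      intro χ' hχ'
      exact (Cfsg.Agent.Lib.Helper5.FPTCOV.irrOver_iff_coverSet K L hKL θ χ').mp (irrOver_closed hM K hKp θ χ χ' hχ hχ')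
    obtain ⟨P, hP, hPL⟩ := KnoerrGen.exists_defectGroup_inf_eq L hM hbL _ hB' hBS Q hQL hQdef
    apply Cfsg.Agent.Lib.Helper9.FPTVAN.memLocalIdeal_centralChar_of_defect hM χ P hP g
    intro g' hconj hPle
    apply hgK
    have hQP : Q ≤ P := by rw [← hPL]; exact inf_le_left
    have hg'L : g' ∈ L := by
      apply hCQ
      rw [Subgroup.mem_centralizer_iff]
      intro q hq
      have := hPle (hQP hq)
      rw [Subgroup.mem_centralizer_iff] at this
      exact (this g' (Set.mem_singleton g')).symm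
    obtain ⟨c, hc⟩ := isConj_iff.mp hconj
    have hg'reg : ¬ p ∣ orderOf g' := by
      rw [← hc]
      have : orderOf (c * g * c⁻¹) = orderOf g :=
        (SemiconjBy.orderOf_eq c (x := g) (y := c * g * c⁻¹) (by unfold SemiconjBy; group)).symm
      rwa [this]
    have hg'K : g' ∈ K := mem_of_pRegular_of_relIndex K L hKL hLK hg'L hg'reg
    have : g = c⁻¹ * g' * c⁻¹⁻¹ := by rw [← hc]; group
    rw [this]
    exact hKn.conj_mem g' hg'K c⁻¹
  -- one block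
  obtain ⟨χ₀, hχ₀⟩ := Cfsg.Agent.Lib.Helper23.exists_irr_over_constituent K θ
  have hχ₀' : χ₀ ∈ irrOver K (θ : K → ℂ) := hχ₀
  have heq : irrOver K (θ : K → ℂ) = blockOf M (χ₀ : G → ℂ) := by
    ext ψ
    constructor
    · intro hψ
      apply Cfsg.Agent.Lib.Helper6.sameBlock_of_forall_pRegular hM χ₀ ψ
      intro g hg
      by_cases hgK : g ∈ K
      · rw [Cfsg.Agent.Lib.Helper9.FPTEQK.centralChar_eq_of_mem K θ hθ χ₀ ψ hχ₀' hψ g hgK, sub_self]
        exact memLocalIdeal_zero hprime.one_notMem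
      · exact memLocalIdeal_sub (hvan χ₀ hχ₀' g hg hgK) (hvan ψ hψ g hg hgK)
    · intro hψ
      exact irrOver_closed hM K hKp θ χ₀ ψ hχ₀' hψ
  have hB : IsPBlock M (irrOver K (θ : K → ℂ)) := ⟨χ₀, heq⟩
  refine ⟨hB, ?_⟩
  -- full defect by Fong's theorem
  obtain ⟨P, hP⟩ := exists_isDefectGroup (p := p) hM _ hB
  have hcov : ∃ χ ∈ irrOver K (θ : K → ℂ), ∃ ψ ∈ bL,
      classInner (fun n : L => (χ : G → ℂ) n) (ψ : L → ℂ) ≠ 0 := by
    obtain ⟨ψ, hψ, h⟩ := (Cfsg.Agent.Lib.Helper5.FPTCOV.irrOver_iff_coverSet K L hKL θ χ₀).mp hχ₀'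
    exact ⟨χ₀, hχ₀', ψ, hψ, h⟩
  have hmax : ∀ B' : Set (IrrCharacter G), IsPBlock M B' →
      (∃ χ ∈ B', ∃ ψ ∈ bL, classInner (fun n : L => (χ : G → ℂ) n) (ψ : L → ℂ) ≠ 0) →
      blockDefect p B' ≤ blockDefect p (irrOver K (θ : K → ℂ)) := by
    rintro B' hB' ⟨χ, hχ, ψ, hψ, h⟩
    have hχo : χ ∈ irrOver K (θ : K → ℂ) :=
      (Cfsg.Agent.Lib.Helper5.FPTCOV.irrOver_iff_coverSet K L hKL θ χ).mpr ⟨ψ, hψ, h⟩
    rw [isPBlock_eq_of_mem hB' hB hχ hχo]
  have hfong := Fong.fong L hM bL hbL (Cfsg.Agent.Lib.Helper17.FPTINVL.irrOverIn_inv K L hKL θ hθ) _ hB hcov hmax P hP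
  rw [hfong.2.2, hbLfull]
  have hcard : Nat.card G = Nat.card L * L.index := (Subgroup.card_mul_index L).symm
  rw [hcard, Nat.factorization_mul Nat.card_pos.ne' (Subgroup.index_ne_zero_of_finite)]
  rfl

/-- Every Sylow `p`-subgroup is a defect group of Fong's block. -/
theorem fong_block_sylow (hM : IsPModular p M) (K L Q : Subgroup G) [hKn : K.Normal]
    [hLn : L.Normal] [Fintype K] (hKp : ¬ p ∣ Nat.card K) (hKL : K ≤ L)
    (hLK : ∃ a : ℕ, K.relIndex L = p ^ a)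
    (hQL : Q ≤ L) (hQp : IsPGroup p Q) (hQS : ¬ p ∣ Q.relIndex L)
    (hCQ : Subgroup.centralizer (Q : Set G) ≤ L)
    (θ : IrrCharacter K) (hθ : ∀ g : G, IsConjCharOf K g (θ : K → ℂ) (θ : K → ℂ))
    (S : Sylow p G) : IsDefectGroup p M (irrOver K (θ : K → ℂ)) S := by
  obtain ⟨hB, hfull⟩ := fong_block hM K L Q hKp hKL hLK hQL hQp hQS hCQ θ hθ
  exact Cfsg.Agent.Lib.Helper17.FPTFULL.isDefectGroup_of_full_defect hM _ hB hfull S S.isPGroup' S.not_dvd_index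

/-- (LOC) `a m / b` lies in the local ideal when `p ∣ m` and `p ∤ b`. -/
theorem memLocalIdeal_natCast_mul_div (hM : IsPModular p M) (a m b : ℕ) (hm : p ∣ m)
    (hb : ¬ p ∣ b) : MemLocalIdeal M ((a : ℂ) * (m : ℂ) / (b : ℂ)) := by
  haveI hprime : M.IsPrime := isPrime_of_isPModular hM
  obtain ⟨m', rfl⟩ := hm
  have hb0 : b ≠ 0 := fun h => hb (h ▸ dvd_zero p)
  have hpM : MemLocalIdeal M (p : ℂ) := Cfsg.Agent.Lib.Helper6.memLocalIdeal_natCast_prime hM
  have hR : MemLocalRing M ((a : ℂ) * (m' : ℂ) / (b : ℂ)) := by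
    refine ⟨((a * m' : ℕ) : AlgInt), (b : AlgInt), natCast_not_mem_of_not_dvd hM hb, ?_⟩
    push_cast
    ring
  have h := memLocalIdeal_mul_right hpM hR
  have e : (p : ℂ) * ((a : ℂ) * (m' : ℂ) / (b : ℂ)) = (a : ℂ) * ((p * m' : ℕ) : ℂ) / (b : ℂ) := by
    push_cast
    ring
  rwa [e] at h

/-- **Principal type**: for every `p`-subgroup `R` exactly one block of `C_G(R)` induces Fong's
block. -/
theorem exists_unique_induced (hM : IsPModular p M) (K L Q : Subgroup G) [hKn : K.Normal]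
    [hLn : L.Normal] [Fintype K] (hKp : ¬ p ∣ Nat.card K) (hKL : K ≤ L)
    (hLK : ∃ a : ℕ, K.relIndex L = p ^ a)
    (hQL : Q ≤ L) (hQp : IsPGroup p Q) (hQS : ¬ p ∣ Q.relIndex L)
    (hCQ : Subgroup.centralizer (Q : Set G) ≤ L)
    (θ : IrrCharacter K) (hθ : ∀ g : G, IsConjCharOf K g (θ : K → ℂ) (θ : K → ℂ))
    (R : Subgroup G) (hR : IsPGroup p R) :
    ∃! f : Set (IrrCharacter (Subgroup.centralizer (R : Set G))),
      IsInducedBlock M (Subgroup.centralizer (R : Set G)) f (irrOver K (θ : K → ℂ)) := by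
  classical
  haveI hprime : M.IsPrime := isPrime_of_isPModular hM
  set C : Subgroup G := Subgroup.centralizer (R : Set G) with hC
  haveI : Fintype C := Fintype.ofFinite C
  haveI hK'n : (K.subgroupOf C).Normal := Subgroup.Normal.subgroupOf hKn C
  haveI : Fintype ↥(K.subgroupOf C) := Fintype.ofFinite _
  set B := irrOver K (θ : K → ℂ) with hBdef
  obtain ⟨hB, -⟩ := fong_block hM K L Q hKp hKL hLK hQL hQp hQS hCQ θ hθ
  have hK'p : ¬ p ∣ Nat.card ↥(K.subgroupOf C) := by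
    intro h
    apply hKp
    refine dvd_trans h ?_
    let φ : ↥(K.subgroupOf C) →* K :=
      (C.subtype.comp (K.subgroupOf C).subtype).codRestrict K
        (fun x => Subgroup.mem_subgroupOf.mp x.2)
    apply Subgroup.card_dvd_of_injective φ
    intro x y hxy
    have h1 : ((x : C) : G) = ((y : C) : G) := congrArg (fun z : K => (z : G)) hxy
    exact Subtype.ext (Subtype.ext h1)
  obtain ⟨θs, h1, h2⟩ := Cfsg.Agent.Lib.Helper2.FPTGLAUB.exists_glauberman K hKp θ hθ R hR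
  have hinvs := Cfsg.Agent.Lib.Helper5.FPTGINV.glauberman_invariant K θ hθ R θs h1 h2
  obtain ⟨L₁, Q₁, hL₁n, hK'L₁, hidx, hQ₁L₁, hQ₁p, hQ₁S, hCQ₁⟩ :=
    Cfsg.Agent.Lib.Helper2.FPTGT.exists_constrained_centralizer K L Q hKp hKL hLK hQL hQp hQS hCQ R hR
  haveI := hL₁n
  obtain ⟨hf₀, -⟩ := fong_block (G := C) hM (K.subgroupOf C) L₁ Q₁ hK'p hK'L₁ hidx hQ₁L₁ hQ₁p
    hQ₁S hCQ₁ θs hinvs
  set f₀ := irrOver (K.subgroupOf C) (θs : ↥(K.subgroupOf C) → ℂ) with hf₀def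
  -- the Brauer-map value
  have hcls : IsClassFunction G (blockCoeff B) := blockCoeff_isClassFunction B
  have heR : ∀ x, MemLocalRing M (blockCoeff B x) := by
    obtain ⟨χ₀, hχ₀⟩ := hB
    rw [hBdef, hχ₀]
    exact memLocalRing_blockCoeff_blockOf χ₀
  -- (CRIT0)
  have hcrit : ∀ ξ : IrrCharacter C, ξ ∉ f₀ →
      MemLocalIdeal M (brauerOmega R (blockCoeff B) (ξ : C → ℂ)) := by
    intro ξ hξ
    obtain ⟨η, hη⟩ := exists_constituent_res (K.subgroupOf C) ξ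
    have hne : η ≠ θs := by
      rintro rfl
      exact hξ hη
    obtain ⟨m, hm, hpm⟩ := h2 η hne
    rw [Cfsg.Agent.Lib.Helper14.FPTOMEGA.brauerOmega_irrOver K θ hθ R ξ η hη, hm, irr_apply_one θ, irr_apply_one η]
    have e : ((charDegree (θ : K → ℂ) : ℕ) : ℂ) * (Nat.card ↥(K.subgroupOf C) : ℂ) * (m : ℂ) /
        ((Nat.card K : ℂ) * ((charDegree (η : ↥(K.subgroupOf C) → ℂ) : ℕ) : ℂ)) =
        ((charDegree (θ : K → ℂ) * Nat.card ↥(K.subgroupOf C) : ℕ) : ℂ) * (m : ℂ) /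
          ((Nat.card K * charDegree (η : ↥(K.subgroupOf C) → ℂ) : ℕ) : ℂ) := by
      push_cast
      ring
    rw [e]
    apply memLocalIdeal_natCast_mul_div hM _ m _ hpm
    intro hd
    rcases (Nat.Prime.dvd_mul hpp.out).mp hd with h | h
    · exact hKp h
    · exact hK'p (dvd_trans h (irr_charDegree_dvd_card η))
  -- existence of a Brauer pair at `R`
  have hunit : ¬ MemLocalIdeal M (blockCoeff B 1) := by
    rw [hBdef, (Cfsg.Agent.Lib.Helper14.FPTCOEF.blockCoeff_irrOver K θ hθ).1 1 K.one_mem]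
    have e1 : (⟨(1 : G), K.one_mem⟩ : K) = 1 := rfl
    rw [e1, irr_apply_one θ, Complex.conj_natCast]
    have e2 : (Nat.card K : ℂ)⁻¹ * (((charDegree (θ : K → ℂ) : ℕ) : ℂ) *
        ((charDegree (θ : K → ℂ) : ℕ) : ℂ)) =
        (((charDegree (θ : K → ℂ) ^ 2 : ℕ) : ℤ) : ℂ) / (Nat.card K : ℂ) := by
      push_cast
      field_simp
    rw [e2, memLocalIdeal_intCast_div_natCast_iff hM Nat.card_pos.ne']
    rw [Nat.factorization_eq_zero_of_not_dvd hKp, zero_add, pow_one]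
    intro hd
    have hd' : p ∣ charDegree (θ : K → ℂ) ^ 2 := by exact_mod_cast hd
    exact hKp (dvd_trans (hpp.out.dvd_of_dvd_pow hd') (irr_charDegree_dvd_card θ))
  obtain ⟨g, hg, hgΩ⟩ := exists_block_brauer_of_unit hM R hR (blockCoeff B)
    (ConjInv.of_isClassFunction R hcls) (ConjInv.of_isClassFunction _ hcls) heR
    (conv_blockCoeff_self B) 1 (one_mem _) hunit
  obtain ⟨ξ₀, hgξ₀⟩ := hg
  have hξ₀g : ξ₀ ∈ g := by rw [hgξ₀]; exact mem_blockOf_self ξ₀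
  have hΩ₀ := hgΩ ξ₀ hξ₀g
  have hξ₀f₀ : ξ₀ ∈ f₀ := by
    by_contra hcon
    have h3 := memLocalIdeal_sub (hcrit ξ₀ hcon) hΩ₀
    rw [sub_sub_cancel] at h3
    exact not_memLocalIdeal_one h3
  have hpair : IsBrauerPairOf p M B R f₀ := by
    refine ⟨⟨hR, hf₀⟩, hB, ?_⟩
    intro ξ hξ
    rw [Cfsg.Agent.Lib.Helper14.FPTOMEGA.brauerOmega_irrOver K θ hθ R ξ θs hξ, ← Cfsg.Agent.Lib.Helper14.FPTOMEGA.brauerOmega_irrOver K θ hθ R ξ₀ θs hξ₀f₀]
    exact hΩ₀
  refine ⟨f₀, Cfsg.Agent.Lib.Helper23.PairInd.isInducedBlock_of_isBrauerPairOf' hM B R f₀ hpair, ?_⟩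
  intro f hind
  obtain ⟨ξ₁, hfξ₁⟩ := hind.1
  have hξ₁f : ξ₁ ∈ f := by rw [hfξ₁]; exact mem_blockOf_self ξ₁
  obtain ⟨χ₁, hχ₁⟩ := hB
  have hχ₁B : χ₁ ∈ B := by rw [hBdef, hχ₁]; exact mem_blockOf_self χ₁
  have h4 := memLocalIdeal_omegaFun_resFun_sub_of_induced (M := M) C hind hξ₁f hχ₁B hcls heR
  rw [omegaFun_blockCoeff, if_pos hχ₁B, ← brauerOmega_eq_omegaFun] at h4
  have hξ₁f₀ : ξ₁ ∈ f₀ := by
    by_contra hcon
    have h3 := memLocalIdeal_sub (hcrit ξ₁ hcon) h4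
    rw [sub_sub_cancel] at h3
    exact not_memLocalIdeal_one h3
  exact isPBlock_eq_of_mem hind.1 hf₀ hξ₁f hξ₁f₀

end Cfsg.Agent.Lib.Helper2.FongPTMain
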