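/-
helper2: groups with `O^2(G) = G` and an involution centralizer `GL(2,3)` are simple
(reduction for S2916), part A: no subgroup of index two, odd normal subgroups are trivial.
-/
import Mathlib
import Cfsg.Prelude.Def_Transfer
import Cfsg.Agent.Lib.Helper6.GL23J
import Cfsg.Agent.Lib.Helper6.GL23L

set_option autoImplicit false

namespace Cfsg.Agent.Lib.Helper2.GL23Red

open Cfsg.Agent.Lib.Helper6.GL23

universe u

variable {G : Type u} [Group G]

/-- `O^2(G) = G` forbids normal subgroups of index two. -/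
theorem no_index_two (h : Cfsg.pResidual 2 G = ⊤) :
    ∀ M : Subgroup G, M.Normal → M.index ≠ 2 := by
  intro M hM hidx
  have hle : Cfsg.pResidual 2 G ≤ M := by
    unfold Cfsg.pResidual
    rw [Subgroup.closure_le]
    intro g hg
    have hg' : Nat.Coprime (orderOf g) 2 := hg
    have hcard : Nat.card (G ⧸ M) = 2 := by rw [← Subgroup.index_eq_card, hidx]
    have h2 : (QuotientGroup.mk g : G ⧸ M) ^ 2 = 1 := by
      have := pow_card_eq_one' (G := G ⧸ M) (x := (QuotientGroup.mk g : G ⧸ M))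
      rwa [hcard] at this
    have h3 : (QuotientGroup.mk g : G ⧸ M) ^ orderOf g = 1 := by
      rw [← QuotientGroup.mk_pow, pow_orderOf_eq_one]
      rfl
    have h4 : orderOf (QuotientGroup.mk g : G ⧸ M) ∣ Nat.gcd (orderOf g) 2 :=
      Nat.dvd_gcd (orderOf_dvd_of_pow_eq_one h3) (orderOf_dvd_of_pow_eq_one h2)
    rw [hg'] at h4
    have h5 : (QuotientGroup.mk g : G ⧸ M) = 1 := orderOf_eq_one_iff.1 (Nat.dvd_one.1 h4)
    exact (QuotientGroup.eq_one_iff g).1 h5
  rw [h, top_le_iff] at hle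
  rw [hle, Subgroup.index_top] at hidx
  norm_num at hidx

/-- An involution acting without fixed points on a finite normal subgroup inverts it. -/
theorem inverts_of_fpf [Finite G] {N : Subgroup G} [hN : N.Normal] (u : G) (hu : u * u = 1)
    (hfix : ∀ n ∈ N, u * n = n * u → n = 1) : ∀ n ∈ N, u * n * u⁻¹ = n⁻¹ := by
  have huinv : u⁻¹ = u := inv_eq_of_mul_eq_one_left hu
  let φ : N → N := fun n =>
    ⟨(n : G)⁻¹ * (u * n * u⁻¹), N.mul_mem (N.inv_mem n.2) (hN.conj_mem _ n.2 u)⟩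
  have hinj : Function.Injective φ := by
    intro a b hab
    have h : (a : G)⁻¹ * (u * a * u⁻¹) = (b : G)⁻¹ * (u * b * u⁻¹) := congrArg Subtype.val hab
    have h' : (b : G) * (a : G)⁻¹ * u * a = u * b := by
      calc (b : G) * (a : G)⁻¹ * u * a = (b : G) * ((a : G)⁻¹ * (u * a * u⁻¹)) * u := by group
        _ = (b : G) * ((b : G)⁻¹ * (u * b * u⁻¹)) * u := by rw [h]
        _ = u * b := by group
    have hc : u * ((b : G) * (a : G)⁻¹) = ((b : G) * (a : G)⁻¹) * u := by
      calc u * ((b : G) * (a : G)⁻¹) = (u * b) * (a : G)⁻¹ := by group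
        _ = ((b : G) * (a : G)⁻¹ * u * a) * (a : G)⁻¹ := by rw [h']
        _ = ((b : G) * (a : G)⁻¹) * u := by group
    have h1 := hfix _ (N.mul_mem b.2 (N.inv_mem a.2)) hc
    apply Subtype.ext
    have h2 : (b : G) = a := by
      calc (b : G) = (b : G) * (a : G)⁻¹ * a := by group
        _ = a := by rw [h1, one_mul]
    exact h2.symm
  have hsurj : Function.Surjective φ := Finite.surjective_of_injective hinj
  intro n hn
  obtain ⟨m, hm⟩ := hsurj ⟨n, hn⟩
  have hm' : (m : G)⁻¹ * (u * m * u⁻¹) = n := congrArg Subtype.val hm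
  rw [← hm', huinv]
  have e1 : u * ((m : G)⁻¹ * (u * m * u)) * u = u * (m : G)⁻¹ * u * m * (u * u) := by group
  have e2 : ((m : G)⁻¹ * (u * m * u))⁻¹ = u⁻¹ * (m : G)⁻¹ * u⁻¹ * m := by group
  rw [e1, e2, hu, mul_one, huinv]

variable [Finite G] (C : Hyp G)

/-- a normal subgroup of odd order meets `C_G(t)` trivially -/
theorem inf_cent_eq_bot (N : Subgroup G) [hN : N.Normal] (hodd : Odd (Nat.card N)) :
    N ⊓ Subgroup.centralizer ({C.t} : Set G) = ⊥ := by
  have : Fact (Nat.Prime 3) := ⟨by norm_num⟩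
  set K := N ⊓ Subgroup.centralizer ({C.t} : Set G) with hK
  have hK3 : Nat.card K ∣ 3 := by
    have h1 : Nat.card K ∣ Nat.card N := Subgroup.card_dvd_of_le inf_le_left
    have h2 : Nat.card K ∣ 48 := by
      rw [← C.cardH]
      exact Subgroup.card_dvd_of_le inf_le_right
    have hoddK : Odd (Nat.card K) := hodd.of_dvd_nat h1
    have hc : Nat.Coprime (Nat.card K) 16 := by
      have h2' : Nat.Coprime (Nat.card K) 2 := Nat.coprime_two_right.2 hoddK
      exact Nat.Coprime.pow_right 4 h2'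
    have h48 : Nat.card K ∣ 16 * 3 := by simpa using h2
    exact hc.dvd_of_dvd_mul_left h48
  rw [Subgroup.eq_bot_iff_forall]
  intro y hy
  by_contra hy1
  have hy3 : y ^ 3 = 1 := by
    have h := pow_card_eq_one' (G := K) (x := ⟨y, hy⟩)
    obtain ⟨m, hm⟩ := hK3
    have h3 : (⟨y, hy⟩ : K) ^ 3 = 1 := by rw [hm, pow_mul, h, one_pow]
    exact congrArg Subtype.val h3
  have hord : orderOf y = 3 := orderOf_eq_prime hy3 hy1
  have hz : Subgroup.zpowers y = K := by
    apply Subgroup.eq_of_le_of_card_ge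
    · rw [Subgroup.zpowers_le]
      exact hy
    · rw [Nat.card_zpowers, hord]
      exact Nat.le_of_dvd (by norm_num) hK3
  have hxy : C.x * y * C.x⁻¹ ∈ K := by
    refine ⟨hN.conj_mem y hy.1 C.x, ?_⟩
    exact Subgroup.mul_mem _ (Subgroup.mul_mem _ C.x_mem_cent hy.2)
      (Subgroup.inv_mem _ C.x_mem_cent)
  rw [← hz, Subgroup.mem_zpowers_iff] at hxy
  obtain ⟨k, hk⟩ := hxy
  have hk1 : y ^ k ≠ 1 := by
    rw [hk]
    intro h
    apply hy1
    calc y = C.x⁻¹ * (C.x * y * C.x⁻¹) * C.x := by group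
      _ = 1 := by rw [h]; group
  have h2 : C.x ^ 2 * y * (C.x ^ 2)⁻¹ = y ^ (k * k) := by
    have e1 : C.x ^ 2 * y * (C.x ^ 2)⁻¹ = C.x * (C.x * y * C.x⁻¹) * C.x⁻¹ := by
      rw [pow_two, mul_inv_rev]
      simp only [mul_assoc]
    rw [e1, ← hk, ← conj_zpow, ← hk, ← zpow_mul]
  have hkk : y ^ (k * k) = y := by
    have hmod : y ^ (k * k) = y ^ ((k * k) % 3) := by
      have := zpow_mod_orderOf y (k * k)
      rw [hord] at this
      exact this.symm
    have hk0 : k % 3 ≠ 0 := by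
      intro h0
      apply hk1
      have := zpow_mod_orderOf y k
      rw [hord] at this
      rw [← this]
      norm_num [h0]
    have hkk1 : (k * k) % 3 = 1 := by
      have h3 : k % 3 = 1 ∨ k % 3 = 2 := by omega
      rcases h3 with h3 | h3
      · rw [Int.mul_emod, h3]; norm_num
      · rw [Int.mul_emod, h3]; norm_num
    rw [hmod, hkk1, zpow_one]
  rw [hkk] at h2
  have hcomm : y * C.x ^ 2 = C.x ^ 2 * y := by
    calc y * C.x ^ 2 = (C.x ^ 2 * y * (C.x ^ 2)⁻¹) * C.x ^ 2 := by rw [h2]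
      _ = C.x ^ 2 * y := by group
  have hyx : y ∈ Subgroup.zpowers C.x := C.cent_x2 y hcomm
  obtain ⟨j, _, hj⟩ := C.mem_zpowers_iff.1 hyx
  have hy8 : y ^ 8 = 1 := by
    rw [hj, ← pow_mul, mul_comm, pow_mul, C.x_pow_eight, one_pow]
  apply hy1
  calc y = (y ^ 3) ^ 3 * (y ^ 8)⁻¹ := by group
    _ = 1 := by rw [hy3, hy8]; simp

include C in
/-- **a normal subgroup of odd order is trivial** -/
theorem odd_normal_eq_bot (hno2 : ∀ M : Subgroup G, M.Normal → M.index ≠ 2)
    (N : Subgroup G) [hN : N.Normal] (hodd : Odd (Nat.card N)) : N = ⊥ := by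
  have hK := inf_cent_eq_bot C N hodd
  have hfix_t : ∀ n ∈ N, C.t * n = n * C.t → n = 1 := by
    intro n hn hc
    have hmem : n ∈ N ⊓ Subgroup.centralizer ({C.t} : Set G) :=
      ⟨hn, C.mem_cent.2 hc.symm⟩
    rw [hK] at hmem
    exact Subgroup.mem_bot.1 hmem
  have hinv_t := inverts_of_fpf (N := N) C.t C.t_sq hfix_t
  have hinv : ∀ u : G, orderOf u = 2 → ∀ n ∈ N, u * n * u⁻¹ = n⁻¹ := by
    intro u hu n hn
    obtain ⟨g, hg⟩ := isConj_iff.1 (C.isConj_t_of_orderOf hno2 hu)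
    have hmem : g⁻¹ * n * g ∈ N := by
      have := hN.conj_mem n hn g⁻¹
      simpa using this
    have h1 := hinv_t (g⁻¹ * n * g) hmem
    rw [← hg]
    calc g * C.t * g⁻¹ * n * (g * C.t * g⁻¹)⁻¹ = g * (C.t * (g⁻¹ * n * g) * C.t⁻¹) * g⁻¹ := by
          group
      _ = g * (g⁻¹ * n * g)⁻¹ * g⁻¹ := by rw [h1]
      _ = n⁻¹ := by group
  have hs2 : orderOf C.s = 2 := by simpa using C.orderOf_s_even 0
  have hts : C.t * C.s = C.s * C.x ^ (2 * 2) := by
    have h := C.s_mul_pow 4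
    rw [← C.hx4]
    rw [h]
    have : C.x ^ (3 * 4) = C.x ^ 4 := C.x_pow_twelve
    rw [this]
  have hts2 : orderOf (C.t * C.s) = 2 := by
    rw [hts]
    exact C.orderOf_s_even 2
  rw [Subgroup.eq_bot_iff_forall]
  intro n hn
  have h_s := hinv C.s hs2 n hn
  have h_t := hinv C.t C.ht n hn
  have h_ts := hinv (C.t * C.s) hts2 n hn
  have hfix : C.t * C.s * n * (C.t * C.s)⁻¹ = n := by
    calc C.t * C.s * n * (C.t * C.s)⁻¹ = C.t * (C.s * n * C.s⁻¹) * C.t⁻¹ := by group
      _ = C.t * n⁻¹ * C.t⁻¹ := by rw [h_s]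
      _ = (C.t * n * C.t⁻¹)⁻¹ := by group
      _ = n := by rw [h_t, inv_inv]
  rw [hfix] at h_ts
  have hn2 : n ^ 2 = 1 := by
    rw [pow_two]
    nth_rewrite 1 [h_ts]
    exact inv_mul_cancel n
  have hd1 : orderOf n ∣ 2 := orderOf_dvd_of_pow_eq_one hn2
  have hd2 : orderOf n ∣ Nat.card N := by
    have := orderOf_dvd_natCard (⟨n, hn⟩ : N)
    rwa [Subgroup.orderOf_mk] at this
  have hoddn : Odd (orderOf n) := hodd.of_dvd_nat hd2
  have h1 : orderOf n = 1 := by
    rcases (Nat.dvd_prime Nat.prime_two).1 hd1 with h | h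
    · exact h
    · rw [h] at hoddn
      exact absurd hoddn (by decide)
  exact orderOf_eq_one_iff.1 h1

end Cfsg.Agent.Lib.Helper2.GL23Red
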