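/-
helper2: groups with `O^2(G) = G` and an involution centralizer `GL(2,3)` are simple
(reduction for S2916), part B: normal subgroups of even order are everything; simplicity.
-/
import Mathlib
import Cfsg.Agent.Lib.Helper2.GL23RedA
import Cfsg.Agent.S0111

set_option autoImplicit false

namespace Cfsg.Agent.Lib.Helper2.GL23Red

open Cfsg.Agent.Lib.Helper6.GL23

universe u

variable {G : Type u} [Group G] [Finite G] (C : Hyp G)

include C in
/-- the normalizer of the semidihedral Sylow `2`-subgroup `N = ⟨x, s⟩` is `N` itself -/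
theorem normalizer_N_le : Subgroup.normalizer ((C.N : Subgroup G) : Set G) ≤ C.N := by
  intro g hg
  have hxN : C.x ∈ C.N := by simpa using C.pow_mem_N 1
  have hgx : g * C.x * g⁻¹ ∈ C.N := (Subgroup.mem_normalizer_iff.1 hg C.x).1 hxN
  have h4 : (g * C.x * g⁻¹) ^ 4 ≠ 1 := by
    rw [conj_pow, C.hx4]
    intro h
    apply C.t_ne_one
    calc C.t = g⁻¹ * (g * C.t * g⁻¹) * g := by group
      _ = 1 := by rw [h]; group
  rcases C.mem_N_iff.1 hgx with h | h
  · obtain ⟨k, hk, hgk⟩ := C.mem_zpowers_iff.1 h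
    rw [C.mem_N]
    have hpow : (C.x ^ k) ^ 4 ≠ 1 := by rwa [← hgk]
    rw [← pow_mul, Ne, C.pow_eq_one_iff] at hpow
    interval_cases k
    · omega
    · left; simpa using hgk
    · omega
    · right; exact hgk
    · omega
    · exact absurd hgk (C.no5 g)
    · omega
    · exact absurd hgk (C.no7 g)
  · exfalso
    obtain ⟨k, hk, hgk⟩ := C.mem_zpowers_iff.1 h
    have hgk' : g * C.x * g⁻¹ = C.s * C.x ^ k := by
      calc g * C.x * g⁻¹ = C.s * (C.s * (g * C.x * g⁻¹)) := by
            rw [← mul_assoc, C.hs2, one_mul]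
        _ = C.s * C.x ^ k := by rw [hgk]
    apply h4
    rw [hgk']
    have : (C.s * C.x ^ k) ^ 4 = ((C.s * C.x ^ k) * (C.s * C.x ^ k)) ^ 2 := by
      rw [← pow_two, ← pow_mul]
    rw [this, C.s_pow_sq, ← pow_mul, C.pow_eq_one_iff]
    omega

include C in
/-- **a normal subgroup of even order is everything** -/
theorem even_normal_eq_top (hno2 : ∀ M : Subgroup G, M.Normal → M.index ≠ 2)
    (N : Subgroup G) [hN : N.Normal] (heven : Even (Nat.card N)) : N = ⊤ := by
  classical
  haveI : Fact (Nat.Prime 2) := ⟨Nat.prime_two⟩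
  obtain ⟨u, hu⟩ := exists_prime_orderOf_dvd_card' (G := N) 2 heven.two_dvd
  have hu' : orderOf (u : G) = 2 := by rw [← hu]; exact Subgroup.orderOf_coe u
  have hinvN : ∀ v : G, orderOf v = 2 → v ∈ N := by
    intro v hv
    have h1 := C.isConj_t_of_orderOf hno2 hu'
    have h2 := C.isConj_t_of_orderOf hno2 hv
    obtain ⟨g, hg⟩ := isConj_iff.1 (h1.symm.trans h2)
    rw [← hg]
    exact hN.conj_mem _ u.2 g
  have hsN : C.s ∈ N := hinvN _ (by simpa using C.orderOf_s_even 0)
  have hs2N : C.s * C.x ^ 2 ∈ N := hinvN _ (by simpa using C.orderOf_s_even 1)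
  have hx2N : C.x ^ 2 ∈ N := by
    have := N.mul_mem (N.inv_mem hsN) hs2N
    simpa using this
  have hxCN : C.x ∈ C.N := by simpa using C.pow_mem_N 1
  have hp : IsPGroup 2 C.N := IsPGroup.of_card (n := 4) (by rw [C.card_N]; norm_num)
  have hidx : ¬ 2 ∣ (C.N : Subgroup G).index := by
    intro h
    have hci := (C.N : Subgroup G).card_mul_index
    rw [C.card_N] at hci
    apply C.not_32_dvd
    rw [← hci]
    obtain ⟨m, hm⟩ := h
    rw [hm]
    exact ⟨m, by ring⟩
  let P : Sylow 2 G := hp.toSylow hidx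
  have hPcoe : (P : Subgroup G) = C.N := IsPGroup.toSylow_coe hp hidx
  -- `x ∈ N`
  have hxN : C.x ∈ N := by
    by_contra hx
    let π : G →* G ⧸ N := QuotientGroup.mk' N
    have hπ : Function.Surjective π := QuotientGroup.mk'_surjective N
    have hπs : π C.s = 1 := (QuotientGroup.eq_one_iff C.s).2 hsN
    have hπx1 : π C.x ≠ 1 := fun h => hx ((QuotientGroup.eq_one_iff C.x).1 h)
    have hπx2 : π C.x ^ 2 = 1 := by
      rw [← map_pow]
      exact (QuotientGroup.eq_one_iff (C.x ^ 2)).2 hx2N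
    have hord : orderOf (π C.x) = 2 := orderOf_eq_prime hπx2 hπx1
    let P' : Sylow 2 (G ⧸ N) := P.mapSurjective hπ
    have hP'coe : (P' : Subgroup (G ⧸ N)) = Subgroup.zpowers (π C.x) := by
      rw [Sylow.coe_mapSurjective, hPcoe]
      apply le_antisymm
      · rintro _ ⟨g, hg, rfl⟩
        rcases C.mem_N_iff.1 hg with h | h
        · obtain ⟨k, hk⟩ := Subgroup.mem_zpowers_iff.1 h
          rw [← hk, map_zpow]
          exact Subgroup.zpow_mem _ (Subgroup.mem_zpowers _) k
        · obtain ⟨k, hk⟩ := Subgroup.mem_zpowers_iff.1 h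
          have : π g = π (C.s * g) := by rw [map_mul, hπs, one_mul]
          rw [this, ← hk, map_zpow]
          exact Subgroup.zpow_mem _ (Subgroup.mem_zpowers _) k
      · rw [Subgroup.zpowers_le]
        exact ⟨C.x, hxCN, rfl⟩
    have hrel : (⊥ : Subgroup (G ⧸ N)).relIndex (P' : Subgroup (G ⧸ N)) = 2 := by
      rw [Subgroup.relIndex_bot_left, hP'coe, Nat.card_zpowers, hord]
    have hmemP' : π C.x ∈ (P' : Subgroup (G ⧸ N)) := by
      rw [hP'coe]
      exact Subgroup.mem_zpowers _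
    have hnot : π C.x ∉ (⊥ : Subgroup (G ⧸ N)) := by
      rw [Subgroup.mem_bot]
      exact hπx1
    rcases Cfsg.Agent.S0111.result P' ⊥ bot_le hrel (π C.x) hord hmemP' hnot with
      ⟨M, hMn, hMi, _⟩ | ⟨k, hk⟩
    · refine hno2 (M.comap π) (hMn.comap π) ?_
      rw [Subgroup.index_comap_of_surjective M hπ, hMi]
    · rw [Subgroup.mem_bot] at hk
      apply hπx1
      calc π C.x = k⁻¹ * (k * π C.x * k⁻¹) * k := by group
        _ = 1 := by rw [hk]; group
  -- the Sylow subgroup lies in `N`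
  have hSN : (P : Subgroup G) ≤ N := by
    rw [hPcoe]
    intro g hg
    rcases C.mem_N_iff.1 hg with h | h
    · obtain ⟨k, hk⟩ := Subgroup.mem_zpowers_iff.1 h
      rw [← hk]
      exact N.zpow_mem hxN k
    · obtain ⟨k, hk⟩ := Subgroup.mem_zpowers_iff.1 h
      have hg' : g = C.s⁻¹ * C.x ^ k := by rw [hk]; group
      rw [hg']
      exact N.mul_mem (N.inv_mem hsN) (N.zpow_mem hxN k)
  have hfr := Sylow.normalizer_sup_eq_top' P hSN
  have hnorm : Subgroup.normalizer ((P : Subgroup G) : Set G) ≤ N := by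
    rw [hPcoe]
    exact le_trans (normalizer_N_le C) (hPcoe ▸ hSN)
  rw [← hfr]
  exact (sup_eq_right.2 hnorm).symm

include C in
/-- **simplicity** -/
theorem isSimpleGroup (hno2 : ∀ M : Subgroup G, M.Normal → M.index ≠ 2) : IsSimpleGroup G := by
  have hnt : Nontrivial G := ⟨⟨C.t, 1, C.t_ne_one⟩⟩
  refine { exists_pair_ne := hnt.exists_pair_ne, eq_bot_or_eq_top_of_normal := ?_ }
  intro N hN
  rcases Nat.even_or_odd (Nat.card N) with h | h
  · exact Or.inr (even_normal_eq_top C hno2 N h)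
  · exact Or.inl (odd_normal_eq_bot C hno2 N h)

/-- **the reduction for S2916**: `O^2(G) = G` and `C_G(t) ≅ GL(2,3)` force `G` to be simple
of order `5616` or `7920`. -/
theorem simple_and_card (hO : Cfsg.pResidual 2 G = ⊤) (t : G) (ht : orderOf t = 2)
    (e : Subgroup.centralizer ({t} : Set G) ≃* Matrix.GeneralLinearGroup (Fin 2) (ZMod 3)) :
    IsSimpleGroup G ∧ (Nat.card G = 5616 ∨ Nat.card G = 7920) := by
  have C : Hyp G := mkHyp t e ht
  have hno2 := no_index_two hO
  exact ⟨isSimpleGroup C hno2, C.card_eq hno2⟩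

end Cfsg.Agent.Lib.Helper2.GL23Red
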