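/-
helper2: S2916 modulo the team lemma (T) "simple of order 5616 ⇒ PSL₃(3)".
-/
import Cfsg.Agent.Lib.Helper2.GL23RedB
import Cfsg.Agent.Lib.Helper1.M11RecE

set_option autoImplicit false

namespace Cfsg.Agent.Lib.Helper2.GL23Red

universe u

/-- S2916 from the recognition of `PSL₃(3)` by its order -/
theorem result_of_T {G : Type u} [Group G] [Finite G]
    (hT : IsSimpleGroup G → Nat.card G = 5616 →
      Nonempty (G ≃* Matrix.ProjectiveSpecialLinearGroup (Fin 3) (ZMod 3)))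
    (hO : Cfsg.pResidual 2 G = ⊤) (t : G) (ht : orderOf t = 2)
    (hC : Nonempty (↥(Subgroup.centralizer ({t} : Set G)) ≃* GL (Fin 2) (ZMod 3))) :
    (∃ (F : Type) (_ : Field F) (_ : Fintype F), Fintype.card F = 3 ∧
      Nonempty (G ≃* Matrix.ProjectiveSpecialLinearGroup (Fin 3) F)) ∨ Cfsg.Spor.IsoM11 G := by
  obtain ⟨e⟩ := hC
  obtain ⟨hs, hc | hc⟩ := simple_and_card hO t ht e
  · left
    haveI : Fact (Nat.Prime 3) := ⟨by norm_num⟩
    exact ⟨ZMod 3, inferInstance, inferInstance, ZMod.card 3, hT hs hc⟩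
  · right
    exact Cfsg.Agent.Lib.Helper1.M11Rec.iso_sporM11_of_isM11 ⟨hs, hc⟩

end Cfsg.Agent.Lib.Helper2.GL23Red
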