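/-
helper2: compatibility of the Glauberman correspondence with invariant normal subgroups
(Isaacs, Theorem 13.29, one direction), first for a `p`-group of operators: the multiplicity
`[χ_D, φ]` is computed modulo `p` through `C` and through `N`.
-/
import Mathlib
import Cfsg.Agent.Lib.Helper2.GlaubSolv
import Cfsg.Agent.Lib.Helper6.Clifford
import Cfsg.Agent.Lib.Helper6.CliffordCorr
import Cfsg.Agent.Lib.Helper24.IrrFacts

set_option autoImplicit false

namespace Cfsg.Agent.Lib.Helper2.Glaub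

open Cfsg Cfsg.Agent.CharLib Cfsg.Agent.Lib.Helper6
open scoped ComplexConjugate

universe u

/-- Weighted fixed-point congruence for the action of a `p`-group (after helper23). -/
theorem sum_modEq_fixed {p : ℕ} [Fact p.Prime] {P X : Type*} [Group P] [Finite P]
    [Fintype X] [MulAction P X] (hP : IsPGroup p P) (f : X → ℕ)
    (hf : ∀ (g : P) (x : X), f (g • x) = f x)
    [DecidablePred fun x : X => ∀ g : P, g • x = x] :
    (∑ x, f x) ≡ (∑ x ∈ Finset.univ.filter (fun x : X => ∀ g : P, g • x = x), f x) [MOD p] := by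
  classical
  let Y := {q : X × ℕ // q.2 < f q.1}
  let _ : MulAction P Y :=
    { smul := fun g q => ⟨(g • q.1.1, q.1.2), by
        show q.1.2 < f (g • q.1.1)
        rw [hf]; exact q.2⟩
      one_smul := fun q => by
        apply Subtype.ext
        apply Prod.ext
        · exact one_smul P q.1.1
        · rfl
      mul_smul := fun a b q => by
        apply Subtype.ext
        apply Prod.ext
        · exact mul_smul a b q.1.1
        · rfl }
  let e : Y ≃ Σ x : X, Fin (f x) :=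
    { toFun := fun q => ⟨q.1.1, ⟨q.1.2, q.2⟩⟩
      invFun := fun s => ⟨(s.1, s.2.1), s.2.2⟩
      left_inv := fun q => rfl
      right_inv := fun s => rfl }
  have : Fintype Y := Fintype.ofEquiv _ e.symm
  have hcardY : Nat.card Y = ∑ x, f x := by
    rw [Nat.card_congr e, Nat.card_eq_fintype_card, Fintype.card_sigma]
    simp
  let Z := {x : X // ∀ g : P, g • x = x}
  let e2 : MulAction.fixedPoints P Y ≃ Σ x : Z, Fin (f x.1) :=
    { toFun := fun q => ⟨⟨q.1.1.1, fun g => by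
          have := q.2 g
          have h2 := congrArg (fun y : Y => y.1.1) this
          exact h2⟩, ⟨q.1.1.2, q.1.2⟩⟩
      invFun := fun s => ⟨⟨(s.1.1, s.2.1), s.2.2⟩, fun g => by
          apply Subtype.ext
          apply Prod.ext
          · exact s.1.2 g
          · rfl⟩
      left_inv := fun q => rfl
      right_inv := fun s => rfl }
  have hcardF : Nat.card (MulAction.fixedPoints P Y) =
      ∑ x ∈ Finset.univ.filter (fun x : X => ∀ g : P, g • x = x), f x := by
    rw [Nat.card_congr e2, Nat.card_eq_fintype_card, Fintype.card_sigma]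
    simp only [Fintype.card_fin]
    exact (Finset.sum_subtype (Finset.univ.filter (fun x : X => ∀ g : P, g • x = x))
      (fun x => by simp) f).symm
  have := hP.card_modEq_card_fixedPoints Y
  rw [hcardY, hcardF] at this
  exact this

variable {Γ : Type u} [Group Γ]

/-- The action of a normalising subgroup on the irreducible characters. -/
@[instance_reducible]
noncomputable def irrActP (N P : Subgroup Γ) (hPN : P ≤ Subgroup.normalizer (N : Set Γ)) :
    MulAction P (IrrCharacter N) where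
  smul t ϑ := cjIrr N (t : Γ)⁻¹ (Subgroup.inv_mem _ (hPN t.2)) ϑ
  one_smul ϑ := by
    apply Subtype.ext
    funext g
    show (ϑ : N → ℂ) (conjEquiv N _ _ g) = (ϑ : N → ℂ) g
    refine congrArg _ (Subtype.ext ?_)
    rw [conjEquiv_coe]
    simp
  mul_smul s t ϑ := by
    apply Subtype.ext
    funext g
    show (ϑ : N → ℂ) (conjEquiv N _ _ g) = (ϑ : N → ℂ) (conjEquiv N _ _ (conjEquiv N _ _ g))
    refine congrArg _ (Subtype.ext ?_)
    rw [conjEquiv_coe, conjEquiv_coe, conjEquiv_coe]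
    simp [mul_assoc]

theorem irrActP_fixed_iff (N P : Subgroup Γ) (hPN : P ≤ Subgroup.normalizer (N : Set Γ))
    (ϑ : IrrCharacter N) :
    letI := irrActP N P hPN
    (∀ t : P, t • ϑ = ϑ) ↔ InvUnder N P (ϑ : N → ℂ) := by
  let _ := irrActP N P hPN
  constructor
  · intro h t ht g g' hg'
    have h1 := h ⟨t⁻¹, P.inv_mem ht⟩
    have h2 : ((⟨t⁻¹, P.inv_mem ht⟩ : P) • ϑ : IrrCharacter N).1 g = (ϑ : N → ℂ) g := by rw [h1]
    rw [← h2]
    show (ϑ : N → ℂ) g' = (ϑ : N → ℂ) (conjEquiv N _ _ g)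
    refine congrArg _ (Subtype.ext ?_)
    rw [conjEquiv_coe, hg']
    simp
  · intro h t
    apply Subtype.ext
    funext g
    show (ϑ : N → ℂ) (conjEquiv N _ _ g) = (ϑ : N → ℂ) g
    exact h (t : Γ)⁻¹ (P.inv_mem t.2) g _ rfl

/-- A nonzero multiplicity on a normal subgroup divides the degree, hence is prime to `p` when
the order of the group is. -/
theorem not_dvd_mult_of_normal [Finite Γ] {C D : Subgroup Γ} [Fintype C] [Fintype D] (hDC : D ≤ C)
    (hn : ∀ c ∈ C, ∀ d ∈ D, c * d * c⁻¹ ∈ D) {p : ℕ} (hpC : ¬ p ∣ Nat.card C)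
    (β : IrrCharacter C) (φ : IrrCharacter D) (m : ℕ)
    (hm : classInner (fun d : D => (β : C → ℂ) ⟨d, hDC d.2⟩) (φ : D → ℂ) = (m : ℂ))
    (hm0 : m ≠ 0) : ¬ p ∣ m := by
  classical
  have hnorm : (D.subgroupOf C).Normal := by
    constructor
    intro d hd c
    rw [Subgroup.mem_subgroupOf] at hd ⊢
    simpa using hn c c.2 d hd
  let e := Subgroup.subgroupOfEquivOfLe hDC
  have : Fintype (D.subgroupOf C) := Fintype.ofFinite _
  have hφ' : IsIrrCharacter (D.subgroupOf C) ((φ : D → ℂ) ∘ e) :=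
    isIrrCharacter_comp_mulEquiv' e φ.2
  have hinner : classInner (resFun (D.subgroupOf C) (β : C → ℂ)) ((φ : D → ℂ) ∘ e) = (m : ℂ) := by
    rw [resFun_subgroupOf hDC, classInner_comp_mulEquiv]
    exact hm
  have hne : classInner (resFun (D.subgroupOf C) (β : C → ℂ)) ((φ : D → ℂ) ∘ e) ≠ 0 := by
    rw [hinner]
    exact_mod_cast hm0
  have hdeg := clifford_degree (D.subgroupOf C) β.2 hφ' hne
  rw [hinner] at hdeg
  have h1 : ((φ : D → ℂ) ∘ e) 1 = (φ : D → ℂ) 1 := by
    show (φ : D → ℂ) (e 1) = _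
    rw [map_one]
  rw [h1, Cfsg.Agent.Lib.Helper24.irr_apply_one β, Cfsg.Agent.Lib.Helper24.irr_apply_one φ] at hdeg
  have h2 : charDegree (β : C → ℂ) =
      m * (conjOrbit (D.subgroupOf C) ((φ : D → ℂ) ∘ e)).card * charDegree (φ : D → ℂ) := by
    exact_mod_cast hdeg
  intro hpm
  apply hpC
  have h3 : m ∣ charDegree (β : C → ℂ) := ⟨_, by rw [h2, mul_assoc]⟩
  exact (hpm.trans h3).trans (Cfsg.Agent.Lib.Helper24.irr_charDegree_dvd_card β)

/-- **Compatibility for a `p`-group of operators** (Isaacs 13.29): if the correspondents are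
related, so are the characters. -/
theorem pcompat [Fintype Γ] (G N P C D : Subgroup Γ) [Fintype G] [Fintype N] [Fintype C]
    [Fintype D] {p : ℕ} (hp : p.Prime) (hP : IsPGroup p P)
    (hPG : P ≤ Subgroup.normalizer (G : Set Γ)) (hPN : P ≤ Subgroup.normalizer (N : Set Γ))
    (hNG : N ≤ G) (hCG : C ≤ G) (hDN : D ≤ N) (hDC : D ≤ C)
    (hPD : ∀ t ∈ P, ∀ d ∈ D, t * d * t⁻¹ = d)
    (hcorrG : PCorr G P C hCG p) (hcorrN : PCorr N P D hDN p)
    (hdiv : ∀ (β : IrrCharacter C) (φ : IrrCharacter D) (m : ℕ),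
      classInner (fun d : D => (β : C → ℂ) ⟨d, hDC d.2⟩) (φ : D → ℂ) = (m : ℂ) → m ≠ 0 → ¬ p ∣ m)
    (χ : IrrCharacter G) (hχ : InvUnder G P (χ : G → ℂ))
    (ϑ : IrrCharacter N) (hϑ : InvUnder N P (ϑ : N → ℂ))
    (β : IrrCharacter C) (φ : IrrCharacter D)
    (h1 : PRel G C hCG p χ β) (h2 : PRel N D hDN p ϑ φ)
    (h3 : classInner (fun d : D => (β : C → ℂ) ⟨d, hDC d.2⟩) (φ : D → ℂ) ≠ 0) :
    classInner (fun n : N => (χ : G → ℂ) ⟨n, hNG n.2⟩) (ϑ : N → ℂ) ≠ 0 := by
  classical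
  have : Fact p.Prime := ⟨hp⟩
  let _ := fintypeIrr C
  let _ := fintypeIrr N
  have hDG : D ≤ G := hDN.trans hNG
  have hχc := IsIrrCharacter.isCharacter χ.2
  obtain ⟨M, hM⟩ := IsCharacter.classInner_nat
    (IsCharacter.comp_hom hχc (Subgroup.inclusion hDG)) (IsIrrCharacter.isCharacter φ.2)
  have hM' : classInner (fun d : D => (χ : G → ℂ) ⟨d, hDG d.2⟩) (φ : D → ℂ) = (M : ℂ) := hM
  -- through `C`
  have hMa : ¬ p ∣ M := by
    obtain ⟨β₀, ε, hε, hβ₀⟩ := hcorrG.1 χ hχ
    choose a ha hamod using hβ₀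
    have hb : ∀ β' : IrrCharacter C, ∃ n : ℕ,
        classInner (fun d : D => (β' : C → ℂ) ⟨d, hDC d.2⟩) (φ : D → ℂ) = (n : ℂ) := fun β' =>
      IsCharacter.classInner_nat
        (IsCharacter.comp_hom (IsIrrCharacter.isCharacter β'.2) (Subgroup.inclusion hDC))
        (IsIrrCharacter.isCharacter φ.2)
    choose b hb using hb
    obtain ⟨m₁, hm₁, hpm₁⟩ := h1
    have hββ₀ : β = β₀ := by
      by_contra hne
      have h4 := hamod β
      rw [if_neg hne] at h4
      have h5 : a β = m₁ := by exact_mod_cast (ha β).symm.trans hm₁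
      apply hpm₁
      rw [← h5]
      exact_mod_cast Int.modEq_zero_iff_dvd.mp h4
    have hsum : (M : ℤ) = ∑ β' : IrrCharacter C, (a β' : ℤ) * (b β' : ℤ) := by
      have h5 := classInner_restrict_trans hCG hDC hDG hχc (φ : D → ℂ)
      rw [hM'] at h5
      have h6 : (M : ℂ) = ((∑ β' : IrrCharacter C, a β' * b β' : ℕ) : ℂ) := by
        rw [h5]
        push_cast
        apply Finset.sum_congr rfl
        intro β' _
        rw [ha β', hb β']
      have h7 : M = ∑ β' : IrrCharacter C, a β' * b β' := by exact_mod_cast h6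
      rw [h7]
      push_cast
      rfl
    have h8 := sum_modEq_single (fun β' : IrrCharacter C => (a β' : ℤ) * (b β' : ℤ)) β₀ (p : ℤ)
      (fun β' hne => by
        have h9 := hamod β'
        rw [if_neg hne] at h9
        exact dvd_mul_of_dvd_left (Int.modEq_zero_iff_dvd.mp h9) _)
    rw [← hsum] at h8
    intro hdvd
    have hdvd' : (p : ℤ) ∣ (M : ℤ) := by exact_mod_cast hdvd
    have h10 : (p : ℤ) ∣ (a β₀ : ℤ) * (b β₀ : ℤ) :=
      Int.modEq_zero_iff_dvd.mp (h8.symm.trans (Int.modEq_zero_iff_dvd.mpr hdvd'))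
    have hpa : ¬ p ∣ a β₀ := by
      have h11 := hamod β₀
      rw [if_pos rfl] at h11
      exact not_dvd_of_modEq_sign hp hε h11
    have hpb : ¬ p ∣ b β₀ := by
      apply hdiv β₀ φ (b β₀) (hb β₀)
      intro h0
      apply h3
      rw [hββ₀, hb β₀, h0, Nat.cast_zero]
    have h12 : p ∣ a β₀ * b β₀ := by exact_mod_cast h10
    rcases (Nat.Prime.dvd_mul hp).mp h12 with h | h
    · exact hpa h
    · exact hpb h
  -- through `N`
  intro h0
  apply hMa
  let _ := irrActP N P hPN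
  have hc : ∀ ϑ' : IrrCharacter N, ∃ n : ℕ,
      classInner (fun n : N => (χ : G → ℂ) ⟨n, hNG n.2⟩) (ϑ' : N → ℂ) = (n : ℂ) := fun ϑ' =>
    IsCharacter.classInner_nat (IsCharacter.comp_hom hχc (Subgroup.inclusion hNG))
      (IsIrrCharacter.isCharacter ϑ'.2)
  choose c hc using hc
  have hd : ∀ ϑ' : IrrCharacter N, ∃ n : ℕ,
      classInner (fun d : D => (ϑ' : N → ℂ) ⟨d, hDN d.2⟩) (φ : D → ℂ) = (n : ℂ) := fun ϑ' =>
    IsCharacter.classInner_nat
      (IsCharacter.comp_hom (IsIrrCharacter.isCharacter ϑ'.2) (Subgroup.inclusion hDN))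
      (IsIrrCharacter.isCharacter φ.2)
  choose d hd using hd
  have hsum : M = ∑ ϑ' : IrrCharacter N, c ϑ' * d ϑ' := by
    have h5 := classInner_restrict_trans hNG hDN hDG hχc (φ : D → ℂ)
    rw [hM'] at h5
    have h6 : (M : ℂ) = ((∑ ϑ' : IrrCharacter N, c ϑ' * d ϑ' : ℕ) : ℂ) := by
      rw [h5]
      push_cast
      apply Finset.sum_congr rfl
      intro ϑ' _
      rw [hc ϑ', hd ϑ']
    exact_mod_cast h6
  have hχconj := (invUnder_iff_conj hPG (χ : G → ℂ)).mp hχ
  have hinvf : ∀ (t : P) (ϑ' : IrrCharacter N), c (t • ϑ') * d (t • ϑ') = c ϑ' * d ϑ' := by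
    intro t ϑ'
    have hx : (t : Γ)⁻¹ ∈ P := P.inv_mem t.2
    have hc' : c (t • ϑ') = c ϑ' := by
      have h4 : (c (t • ϑ') : ℂ) = (c ϑ' : ℂ) := by
        rw [← hc, ← hc]
        have h6 := classInner_conj_conj hNG (t : Γ)⁻¹ (hPG hx) (hPN hx) (χ : G → ℂ)
          (ϑ' : N → ℂ)
        rw [hχconj _ hx] at h6
        exact h6
      exact_mod_cast h4
    have hd' : d (t • ϑ') = d ϑ' := by
      have h4 : (d (t • ϑ') : ℂ) = (d ϑ' : ℂ) := by
        rw [← hd, ← hd]
        congr 1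
        funext dd
        show (ϑ' : N → ℂ) (conjEquiv N _ _ ⟨dd, _⟩) = (ϑ' : N → ℂ) ⟨dd, _⟩
        refine congrArg _ (Subtype.ext ?_)
        rw [conjEquiv_coe]
        exact hPD _ hx dd dd.2
      exact_mod_cast h4
    rw [hc', hd']
  have hmod := sum_modEq_fixed (P := P) hP (fun ϑ' : IrrCharacter N => c ϑ' * d ϑ') hinvf
  have hfix : p ∣ ∑ ϑ' ∈ Finset.univ.filter (fun ϑ' : IrrCharacter N => ∀ t : P, t • ϑ' = ϑ'),
      c ϑ' * d ϑ' := by
    apply Finset.dvd_sum
    intro ϑ' hϑ'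
    rw [Finset.mem_filter] at hϑ'
    have hinv' : InvUnder N P (ϑ' : N → ℂ) := (irrActP_fixed_iff N P hPN ϑ').mp hϑ'.2
    by_cases he : ϑ' = ϑ
    · have h4 : c ϑ' = 0 := by
        have h5 := hc ϑ'
        rw [he, h0] at h5
        rw [he]
        exact_mod_cast h5.symm
      rw [h4, zero_mul]
      exact dvd_zero p
    · apply dvd_mul_of_dvd_right
      by_contra hnd
      apply he
      obtain ⟨m₂, hm₂, hpm₂⟩ := h2
      exact hcorrN.2.1 ϑ' ϑ hinv' hϑ φ (d ϑ') m₂ (hd ϑ') hnd hm₂ hpm₂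
  rw [hsum]
  exact Nat.modEq_zero_iff_dvd.mp (hmod.trans (Nat.modEq_zero_iff_dvd.mpr hfix))

end Cfsg.Agent.Lib.Helper2.Glaub
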