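/-
helper2: counting in a coset `G s` of a normal subgroup `G` where the order of `s` is prime to `|G|`
(the group theory behind Glauberman's correspondence for cyclic operator groups, Isaacs 13.8-13.10,
done by pure counting).
-/
import Mathlib

set_option autoImplicit false

namespace Cfsg.Agent.Lib.Helper2.Glaub

open scoped BigOperators

/-- If every fibre of `Φ` over a point of its image has exactly `k` elements and `|A| = k |B|`,
then sums over `A` of functions of `Φ a` are `k` times sums over `B`. -/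
theorem sum_comp_of_fiber_card {A B : Type*} [Fintype A] [Fintype B] [DecidableEq B]
    (Φ : A → B) (k : ℕ) (hk : 0 < k)
    (hfib : ∀ a, (Finset.univ.filter (fun a' => Φ a' = Φ a)).card = k)
    (hcard : Fintype.card A = k * Fintype.card B) (F : B → ℂ) :
    ∑ a, F (Φ a) = (k : ℂ) * ∑ b, F b := by
  classical
  have himg : (Finset.univ : Finset A).image Φ = Finset.univ := by
    apply Finset.eq_univ_of_card
    have h1 := Finset.card_eq_sum_card_image Φ (Finset.univ : Finset A)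
    have h2 : ∀ b ∈ (Finset.univ : Finset A).image Φ,
        (Finset.univ.filter (fun a' => Φ a' = b)).card = k := by
      intro b hb
      obtain ⟨a, -, rfl⟩ := Finset.mem_image.mp hb
      exact hfib a
    rw [Finset.sum_congr rfl h2, Finset.sum_const, smul_eq_mul, Finset.card_univ, hcard] at h1
    have h3 : Fintype.card B * k = ((Finset.univ : Finset A).image Φ).card * k := by
      rw [← h1, mul_comm]
    exact (Nat.eq_of_mul_eq_mul_right hk h3).symm
  rw [Finset.sum_comp F Φ, himg, Finset.mul_sum]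
  apply Finset.sum_congr rfl
  intro b _
  have hb : b ∈ (Finset.univ : Finset A).image Φ := by rw [himg]; exact Finset.mem_univ b
  obtain ⟨a, -, rfl⟩ := Finset.mem_image.mp hb
  rw [hfib a, nsmul_eq_mul]

variable {Γ : Type*} [Group Γ] (G : Subgroup Γ) (s : Γ)

/-- A power map sending every `c s` (`c ∈ G` commuting with `s`) to `s`. -/
theorem exists_pow_eq [Finite G] (hcop : (Nat.card G).Coprime (orderOf s)) :
    ∃ m : ℕ, ∀ c ∈ G, c * s = s * c → (c * s) ^ m = s := by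
  obtain ⟨m, hm0, hm1⟩ := Nat.chineseRemainder hcop 0 1
  refine ⟨m, fun c hc hcs => ?_⟩
  have h1 : c ^ m = 1 := by
    obtain ⟨t, rfl⟩ := (Nat.modEq_zero_iff_dvd).mp hm0
    have h3 : (⟨c, hc⟩ : G) ^ Nat.card G = 1 := pow_card_eq_one'
    have h2 : c ^ Nat.card G = 1 := by
      have h4 := congrArg (fun x : G => (x : Γ)) h3
      simp only [Subgroup.coe_pow, Subgroup.coe_one] at h4
      exact h4
    rw [pow_mul, h2, one_pow]
  have h2 : s ^ m = s := by
    have h3 : s ^ m = s ^ 1 := pow_eq_pow_iff_modEq.mpr hm1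
    rwa [pow_one] at h3
  rw [(show Commute c s from hcs).mul_pow, h1, h2, one_mul]

/-- Conjugacy between elements `c s`, `c' s` forces the conjugating element to centralise `s`. -/
theorem conj_mul_eq [Finite G] (hcop : (Nat.card G).Coprime (orderOf s)) {h c c' : Γ}
    (hc : c ∈ G) (hcs : c * s = s * c) (hc' : c' ∈ G) (hcs' : c' * s = s * c')
    (heq : h * (c * s) * h⁻¹ = c' * s) : h * s * h⁻¹ = s ∧ h * c * h⁻¹ = c' := by
  obtain ⟨m, hm⟩ := exists_pow_eq G s hcop
  have h1 : h * s * h⁻¹ = s := by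
    have h2 := congrArg (· ^ m) heq
    simp only [conj_pow, hm c hc hcs, hm c' hc' hcs'] at h2
    exact h2
  refine ⟨h1, ?_⟩
  have h3 : h * (c * s) * h⁻¹ = (h * c * h⁻¹) * (h * s * h⁻¹) := by group
  rw [h3, h1] at heq
  exact mul_right_cancel heq

variable [hG : G.Normal] (C : Subgroup Γ)

/-- The map `(g, c) ↦ g (c s) g⁻¹ s⁻¹` from `G × C` to `G`. -/
def cosetMap (hCG : C ≤ G) : G × C → G := fun p =>
  ⟨(p.1 : Γ) * (p.2 : Γ) * s * (p.1 : Γ)⁻¹ * s⁻¹, by
    have h1 : s * (p.1 : Γ)⁻¹ * s⁻¹ ∈ G := hG.conj_mem _ (G.inv_mem p.1.2) s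
    have h2 : (p.1 : Γ) * (p.2 : Γ) * s * (p.1 : Γ)⁻¹ * s⁻¹ =
        (p.1 : Γ) * (p.2 : Γ) * (s * (p.1 : Γ)⁻¹ * s⁻¹) := by group
    rw [h2]
    exact G.mul_mem (G.mul_mem p.1.2 (hCG p.2.2)) h1⟩

theorem cosetMap_mul (hCG : C ≤ G) (p : G × C) :
    ((cosetMap G s C hCG p : G) : Γ) * s = (p.1 : Γ) * ((p.2 : Γ) * s) * (p.1 : Γ)⁻¹ := by
  unfold cosetMap
  simp only
  group

/-- Every fibre of `cosetMap` through a point has exactly `|C|` elements. -/
theorem card_fiber_cosetMap [DecidableEq Γ] [Fintype G] [Fintype C] (hCG : C ≤ G)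
    (hC : ∀ x, x ∈ C ↔ x ∈ G ∧ x * s = s * x)
    (hcop : (Nat.card G).Coprime (orderOf s)) (p₀ : G × C) :
    (Finset.univ.filter (fun p => cosetMap G s C hCG p = cosetMap G s C hCG p₀)).card =
      Fintype.card C := by
  classical
  let j : C → G × C := fun h =>
    (p₀.1 * (⟨(h : Γ), hCG h.2⟩ : G)⁻¹, ⟨(h : Γ) * (p₀.2 : Γ) * (h : Γ)⁻¹,
      C.mul_mem (C.mul_mem h.2 p₀.2.2) (C.inv_mem h.2)⟩)
  have hj : Function.Injective j := by
    intro h h' hh
    have h1 := congrArg (fun p : G × C => ((p.1 : G) : Γ)) hh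
    simp only [j, Subgroup.coe_mul, Subgroup.coe_inv] at h1
    apply Subtype.ext
    exact inv_injective (mul_left_cancel h1)
  have himg : Finset.univ.filter (fun p => cosetMap G s C hCG p = cosetMap G s C hCG p₀) =
      Finset.univ.image j := by
    ext p
    simp only [Finset.mem_filter, Finset.mem_univ, true_and, Finset.mem_image]
    constructor
    · intro hp
      have h1 : ((cosetMap G s C hCG p : G) : Γ) * s = ((cosetMap G s C hCG p₀ : G) : Γ) * s := by
        rw [hp]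
      rw [cosetMap_mul, cosetMap_mul] at h1
      -- h := p.1⁻¹ p₀.1
      have h2 : ((p.1 : Γ)⁻¹ * (p₀.1 : Γ)) * ((p₀.2 : Γ) * s) * ((p.1 : Γ)⁻¹ * (p₀.1 : Γ))⁻¹ =
          (p.2 : Γ) * s := by
        have : (p.2 : Γ) * s = (p.1 : Γ)⁻¹ * ((p.1 : Γ) * ((p.2 : Γ) * s) * (p.1 : Γ)⁻¹) * (p.1 : Γ) := by
          group
        rw [this, h1]
        group
      have hp0 := (hC _).mp p₀.2.2
      have hp2 := (hC _).mp p.2.2
      obtain ⟨h3, h4⟩ := conj_mul_eq G s hcop hp0.1 hp0.2 hp2.1 hp2.2 h2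
      have hmemG : (p.1 : Γ)⁻¹ * (p₀.1 : Γ) ∈ G := G.mul_mem (G.inv_mem p.1.2) p₀.1.2
      have hmemC : (p.1 : Γ)⁻¹ * (p₀.1 : Γ) ∈ C := by
        rw [hC]
        refine ⟨hmemG, ?_⟩
        calc (p.1 : Γ)⁻¹ * (p₀.1 : Γ) * s
            = ((p.1 : Γ)⁻¹ * (p₀.1 : Γ) * s * ((p.1 : Γ)⁻¹ * (p₀.1 : Γ))⁻¹) *
                ((p.1 : Γ)⁻¹ * (p₀.1 : Γ)) := by group
          _ = s * ((p.1 : Γ)⁻¹ * (p₀.1 : Γ)) := by rw [h3]
      refine ⟨⟨_, hmemC⟩, ?_⟩
      apply Prod.ext
      · apply Subtype.ext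
        simp only [j, Subgroup.coe_mul, Subgroup.coe_inv]
        group
      · apply Subtype.ext
        simp only [j]
        exact h4
    · rintro ⟨h, rfl⟩
      apply Subtype.ext
      apply mul_right_cancel (b := s)
      rw [cosetMap_mul, cosetMap_mul]
      have hh := (hC _).mp h.2
      simp only [j, Subgroup.coe_mul, Subgroup.coe_inv]
      have h5 : (h : Γ) * (p₀.2 : Γ) * (h : Γ)⁻¹ * s = (h : Γ) * ((p₀.2 : Γ) * s) * (h : Γ)⁻¹ := by
        have h6 : s = (h : Γ) * s * (h : Γ)⁻¹ := by rw [hh.2]; group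
        conv_lhs => rw [h6]
        group
      rw [h5]
      group
  rw [himg, Finset.card_image_of_injective _ hj, Finset.card_univ]

/-- **Coset counting identity**: a function `f` on `Γ` invariant under conjugation by `G` satisfies
`|C| ∑_{g ∈ G} f (g s) = |G| ∑_{c ∈ C} f (c s)`, where `C = C_G(s)` and the order of `s` is prime
to `|G|`. -/
theorem sum_coset_eq [Fintype G] [Fintype C] (hCG : C ≤ G)
    (hC : ∀ x, x ∈ C ↔ x ∈ G ∧ x * s = s * x)
    (hcop : (Nat.card G).Coprime (orderOf s)) (f : Γ → ℂ)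
    (hf : ∀ g ∈ G, ∀ x, f (g * x * g⁻¹) = f x) :
    (Nat.card C : ℂ) * ∑ g : G, f ((g : Γ) * s) = (Nat.card G : ℂ) * ∑ c : C, f ((c : Γ) * s) := by
  classical
  have hcardpos : 0 < Fintype.card C := Fintype.card_pos
  have h1 := sum_comp_of_fiber_card (cosetMap G s C hCG) (Fintype.card C) hcardpos
    (card_fiber_cosetMap G s C hCG hC hcop) (by rw [Fintype.card_prod, mul_comm])
    (fun y : G => f ((y : Γ) * s))
  rw [Nat.card_eq_fintype_card, Nat.card_eq_fintype_card, ← h1, Fintype.sum_prod_type]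
  have h2 : ∀ (g : G) (c : C), f (((cosetMap G s C hCG (g, c) : G) : Γ) * s) = f ((c : Γ) * s) := by
    intro g c
    rw [cosetMap_mul]
    exact hf g g.2 _
  simp only [h2]
  rw [Finset.sum_const, Finset.card_univ, nsmul_eq_mul]

/-- The number of elements of `G` commuting with `y`, as a complex number. -/
noncomputable def centCount [Fintype G] (y : Γ) : ℂ := by
  classical
  exact ∑ g : G, if (g : Γ) * y = y * (g : Γ) then (1 : ℂ) else 0

omit hG in
theorem centCount_conj [Fintype G] {a : Γ} (ha : a ∈ G) (y : Γ) :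
    centCount G (a * y * a⁻¹) = centCount G y := by
  classical
  unfold centCount
  apply Fintype.sum_equiv (MulAut.conj (⟨a, ha⟩ : G)⁻¹).toEquiv
  intro g
  have h1 : (((MulAut.conj (⟨a, ha⟩ : G)⁻¹).toEquiv g : G) : Γ) = a⁻¹ * (g : Γ) * a := by
    simp
  rw [h1]
  have h2 : ((g : Γ) * (a * y * a⁻¹) = a * y * a⁻¹ * (g : Γ)) ↔
      (a⁻¹ * (g : Γ) * a * y = y * (a⁻¹ * (g : Γ) * a)) := by
    constructor
    · intro h
      have : a⁻¹ * ((g : Γ) * (a * y * a⁻¹)) * a = a⁻¹ * (a * y * a⁻¹ * (g : Γ)) * a := by rw [h]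
      calc a⁻¹ * (g : Γ) * a * y = a⁻¹ * ((g : Γ) * (a * y * a⁻¹)) * a := by group
        _ = a⁻¹ * (a * y * a⁻¹ * (g : Γ)) * a := this
        _ = y * (a⁻¹ * (g : Γ) * a) := by group
    · intro h
      calc (g : Γ) * (a * y * a⁻¹) = a * (a⁻¹ * (g : Γ) * a * y) * a⁻¹ := by group
        _ = a * (y * (a⁻¹ * (g : Γ) * a)) * a⁻¹ := by rw [h]
        _ = a * y * a⁻¹ * (g : Γ) := by group
  simp only [h2]

open Classical in
/-- Counting pairs `(g, k)` of elements of `G` with `k g k⁻¹ = s g s⁻¹`: there are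
`|G| · k(C)` of them, where `k(C)` is the class number of `C = C_G(s)`. -/
theorem sum_twisted_pairs [Fintype Γ] [Fintype G] [Fintype C] (hCG : C ≤ G)
    (hC : ∀ x, x ∈ C ↔ x ∈ G ∧ x * s = s * x)
    (hcop : (Nat.card G).Coprime (orderOf s)) :
    ∑ g : G, ∑ k : G, (if (k : Γ) * (g : Γ) * (k : Γ)⁻¹ = s * (g : Γ) * s⁻¹ then (1 : ℂ) else 0) =
      (Nat.card G : ℂ) * (Nat.card (ConjClasses C) : ℂ) := by
  classical
  have hC' : ∀ x, x ∈ C ↔ x ∈ G ∧ x * s⁻¹ = s⁻¹ * x := by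
    intro x
    rw [hC]
    constructor
    · rintro ⟨h1, h2⟩
      refine ⟨h1, ?_⟩
      calc x * s⁻¹ = s⁻¹ * (s * x) * s⁻¹ := by group
        _ = s⁻¹ * (x * s) * s⁻¹ := by rw [h2]
        _ = s⁻¹ * x := by group
    · rintro ⟨h1, h2⟩
      refine ⟨h1, ?_⟩
      calc x * s = s * (s⁻¹ * x) * s := by group
        _ = s * (x * s⁻¹) * s := by rw [h2]
        _ = s * x := by group
  have hcop' : (Nat.card G).Coprime (orderOf s⁻¹) := by rw [orderOf_inv]; exact hcop
  -- step 1: swap and identify with centCount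
  have h1 : ∑ g : G, ∑ k : G,
      (if (k : Γ) * (g : Γ) * (k : Γ)⁻¹ = s * (g : Γ) * s⁻¹ then (1 : ℂ) else 0) =
      ∑ k : G, centCount G ((k : Γ) * s⁻¹) := by
    rw [Finset.sum_comm]
    have h2 : ∀ k : G, ∑ g : G,
        (if (k : Γ) * (g : Γ) * (k : Γ)⁻¹ = s * (g : Γ) * s⁻¹ then (1 : ℂ) else 0) =
        centCount G (s⁻¹ * (k : Γ)) := by
      intro k
      unfold centCount
      apply Finset.sum_congr rfl
      intro g _
      have h3 : ((k : Γ) * (g : Γ) * (k : Γ)⁻¹ = s * (g : Γ) * s⁻¹) ↔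
          ((g : Γ) * (s⁻¹ * (k : Γ)) = s⁻¹ * (k : Γ) * (g : Γ)) := by
        constructor
        · intro h
          calc (g : Γ) * (s⁻¹ * (k : Γ)) = s⁻¹ * (s * (g : Γ) * s⁻¹) * (k : Γ) := by group
            _ = s⁻¹ * ((k : Γ) * (g : Γ) * (k : Γ)⁻¹) * (k : Γ) := by rw [h]
            _ = s⁻¹ * (k : Γ) * (g : Γ) := by group
        · intro h
          calc (k : Γ) * (g : Γ) * (k : Γ)⁻¹ = s * (s⁻¹ * (k : Γ) * (g : Γ)) * (k : Γ)⁻¹ := by group
            _ = s * ((g : Γ) * (s⁻¹ * (k : Γ))) * (k : Γ)⁻¹ := by rw [h]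
            _ = s * (g : Γ) * s⁻¹ := by group
      by_cases h : (g : Γ) * (s⁻¹ * (k : Γ)) = s⁻¹ * (k : Γ) * (g : Γ)
      · rw [if_pos (h3.mpr h), if_pos h]
      · rw [if_neg (fun h' => h (h3.mp h')), if_neg h]
    rw [Finset.sum_congr rfl (fun k _ => h2 k)]
    apply Fintype.sum_equiv (MulAut.conjNormal s⁻¹ : G ≃* G).toEquiv
    intro k
    have h4 : (((MulAut.conjNormal s⁻¹ : G ≃* G).toEquiv k : G) : Γ) = s⁻¹ * (k : Γ) * s := by
      change (((MulAut.conjNormal s⁻¹ : G ≃* G) k : G) : Γ) = _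
      rw [MulAut.conjNormal_apply, inv_inv]
    rw [h4]
    congr 1
    group
  -- step 2: coset counting for `s⁻¹`
  have h5 := sum_coset_eq G s⁻¹ C hCG hC' hcop' (centCount G)
    (fun g hg x => centCount_conj G hg x)
  -- step 3: centralisers of `c s⁻¹`
  have h6 : ∀ c : C, centCount G ((c : Γ) * s⁻¹) =
      ∑ c' : C, (if Commute c' c then (1 : ℂ) else 0) := by
    intro c
    unfold centCount
    have hcc := (hC' _).mp c.2
    have e1 : ∑ g : G, (if (g : Γ) * ((c : Γ) * s⁻¹) = (c : Γ) * s⁻¹ * (g : Γ) then (1 : ℂ) else 0) =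
        ∑ x ∈ Finset.univ.filter (fun x : Γ => x ∈ G),
          (if x * ((c : Γ) * s⁻¹) = (c : Γ) * s⁻¹ * x then (1 : ℂ) else 0) := by
      rw [Finset.sum_subtype (Finset.univ.filter (fun x : Γ => x ∈ G)) (p := fun x => x ∈ G)
        (by intro x; simp)]
    have e2 : ∑ c' : C, (if Commute c' c then (1 : ℂ) else 0) =
        ∑ x ∈ Finset.univ.filter (fun x : Γ => x ∈ C),
          (if x * (c : Γ) = (c : Γ) * x then (1 : ℂ) else 0) := by
      rw [Finset.sum_subtype (Finset.univ.filter (fun x : Γ => x ∈ C)) (p := fun x => x ∈ C)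
        (by intro x; simp)]
      apply Finset.sum_congr rfl
      intro c' _
      have : Commute c' c ↔ (c' : Γ) * (c : Γ) = (c : Γ) * (c' : Γ) := by
        unfold Commute SemiconjBy
        rw [Subtype.ext_iff]
        simp
      simp only [this]
    rw [e1, e2, Finset.sum_ite, Finset.sum_ite]
    simp only [Finset.sum_const_zero, add_zero, Finset.sum_const, nsmul_eq_mul, mul_one]
    congr 2
    ext x
    simp only [Finset.mem_filter, Finset.mem_univ, true_and]
    constructor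
    · rintro ⟨hxG, hx⟩
      have hx' : x * ((c : Γ) * s⁻¹) * x⁻¹ = (c : Γ) * s⁻¹ := by rw [hx]; group
      obtain ⟨h7, h8⟩ := conj_mul_eq G s⁻¹ hcop' hcc.1 hcc.2 hcc.1 hcc.2 hx'
      refine ⟨(hC' x).mpr ⟨hxG, ?_⟩, ?_⟩
      · calc x * s⁻¹ = (x * s⁻¹ * x⁻¹) * x := by group
          _ = s⁻¹ * x := by rw [h7]
      · calc x * (c : Γ) = (x * (c : Γ) * x⁻¹) * x := by group
          _ = (c : Γ) * x := by rw [h8]
    · rintro ⟨hxC, hx⟩
      have hxx := (hC' x).mp hxC
      refine ⟨hxx.1, ?_⟩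
      calc x * ((c : Γ) * s⁻¹) = (x * (c : Γ)) * s⁻¹ := by group
        _ = (c : Γ) * (x * s⁻¹) := by rw [hx]; group
        _ = (c : Γ) * s⁻¹ * x := by rw [hxx.2]; group
  -- step 4: commuting pairs in `C`
  have h9 : ∑ c : C, ∑ c' : C, (if Commute c' c then (1 : ℂ) else 0) =
      (Nat.card (ConjClasses C) : ℂ) * (Nat.card C : ℂ) := by
    have h10 := card_comm_eq_card_conjClasses_mul_card C
    rw [← Nat.cast_mul, ← h10, Nat.card_eq_fintype_card, Fintype.card_subtype, ← Finset.sum_boole,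
      Fintype.sum_prod_type, Finset.sum_comm]
  have hC0 : (Nat.card C : ℂ) ≠ 0 := by exact_mod_cast (Nat.card_pos (α := C)).ne'
  rw [h1]
  apply mul_left_cancel₀ hC0
  rw [h5, Finset.sum_congr rfl (fun c _ => h6 c), h9]
  ring

end Cfsg.Agent.Lib.Helper2.Glaub
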