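/-
helper2: Fourier analysis on a finite abelian group: a character all of whose values off the
identity lie in `{0, 1, -1}` is a multiple of the regular character, plus or minus possibly one
linear character of order at most two.
-/
import Mathlib
import Cfsg.Agent.Lib.Helper2.GlaubFourier
import Cfsg.Agent.Lib.Helper2.GlaubFrobComb

set_option autoImplicit false

namespace Cfsg.Agent.Lib.Helper2.Glaub

open Cfsg Cfsg.Agent.CharLib
open scoped ComplexConjugate

universe u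

variable {A : Type u} [Group A] [Fintype A] [Fintype (IrrCharacter A)]

open Classical in
theorem sum_irr_apply_of_comm (hA : ∀ a b : A, a * b = b * a) (x : A) :
    ∑ μ : IrrCharacter A, (μ : A → ℂ) x = if x = 1 then (Nat.card A : ℂ) else 0 := by
  have h := sum_irr_mul_conj_of_comm hA x 1
  rw [← h]
  apply Finset.sum_congr rfl
  intro μ _
  rw [Cfsg.Agent.Lib.Helper10.irr_one_of_comm hA μ.2, map_one, mul_one]

theorem card_irr_of_comm (hA : ∀ a b : A, a * b = b * a) :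
    Fintype.card (IrrCharacter A) = Nat.card A := by
  have h := sum_irr_apply_of_comm hA (1 : A)
  rw [if_pos rfl] at h
  have h2 : ∑ μ : IrrCharacter A, (μ : A → ℂ) 1 = (Fintype.card (IrrCharacter A) : ℂ) := by
    rw [Finset.sum_congr rfl (fun μ _ => Cfsg.Agent.Lib.Helper10.irr_one_of_comm hA μ.2)]
    simp
  rw [h2] at h
  exact_mod_cast h

/-- Parseval for nonnegative integer combinations of irreducible characters. -/
theorem parseval_nat (a : IrrCharacter A → ℕ) :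
    ∑ x : A, (∑ μ : IrrCharacter A, (a μ : ℂ) * (μ : A → ℂ) x) *
        conj (∑ μ : IrrCharacter A, (a μ : ℂ) * (μ : A → ℂ) x) =
      (Nat.card A : ℂ) * ∑ μ : IrrCharacter A, ((a μ : ℂ)) ^ 2 := by
  classical
  have hfun : (fun x : A => ∑ μ : IrrCharacter A, (a μ : ℂ) * (μ : A → ℂ) x) =
      ∑ μ : IrrCharacter A, (a μ : ℂ) • (μ : A → ℂ) := by
    funext x
    rw [Finset.sum_apply]
    rfl
  have h1 : classInner (fun x : A => ∑ μ : IrrCharacter A, (a μ : ℂ) * (μ : A → ℂ) x)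
      (fun x : A => ∑ μ : IrrCharacter A, (a μ : ℂ) * (μ : A → ℂ) x) =
      ∑ μ : IrrCharacter A, ((a μ : ℂ)) ^ 2 := by
    rw [hfun, classInner_sum_left]
    apply Finset.sum_congr rfl
    intro μ _
    rw [classInner_smul_left, classInner_sum_right]
    rw [Finset.sum_eq_single μ]
    · rw [classInner_smul_right, classInner_irr', if_pos rfl, map_natCast]
      ring
    · intro ν _ hν
      rw [classInner_smul_right, classInner_irr', if_neg (Ne.symm hν), mul_zero]
    · intro h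
      exact absurd (Finset.mem_univ μ) h
  have hn : (Nat.card A : ℂ) ≠ 0 := by
    exact_mod_cast (Nat.card_pos (α := A)).ne'
  rw [← h1]
  unfold classInner
  rw [← mul_assoc, mul_inv_cancel₀ hn, one_mul]

/-- **Fourier dichotomy** on a finite abelian group. -/
theorem fourier_dichotomy (hA : ∀ a b : A, a * b = b * a) (a : IrrCharacter A → ℕ)
    (h : ∀ x : A, x ≠ 1 →
      (∑ μ : IrrCharacter A, (a μ : ℂ) * (μ : A → ℂ) x = 0 ∨
       ∑ μ : IrrCharacter A, (a μ : ℂ) * (μ : A → ℂ) x = 1 ∨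
       ∑ μ : IrrCharacter A, (a μ : ℂ) * (μ : A → ℂ) x = -1)) :
    ((∃ q : ℕ, ∀ μ, a μ = q) ∧
      ∀ x : A, x ≠ 1 → ∑ μ : IrrCharacter A, (a μ : ℂ) * (μ : A → ℂ) x = 0) ∨
    (∃ ε : ℤ, (ε = 1 ∨ ε = -1) ∧ ∃ μ₀ : IrrCharacter A, ∃ q : ℕ,
      (∀ μ, (a μ : ℤ) = q + if μ = μ₀ then ε else 0) ∧
      (∀ x : A, (μ₀ : A → ℂ) x * (μ₀ : A → ℂ) x = 1) ∧
      ∀ x : A, x ≠ 1 →
        ∑ μ : IrrCharacter A, (a μ : ℂ) * (μ : A → ℂ) x = (ε : ℂ) * (μ₀ : A → ℂ) x) := by
  classical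
  set ξ : A → ℂ := fun x => ∑ μ : IrrCharacter A, (a μ : ℂ) * (μ : A → ℂ) x with hξ
  have hcard := card_irr_of_comm hA
  have hμ1 : ∀ μ : IrrCharacter A, (μ : A → ℂ) 1 = 1 :=
    fun μ => Cfsg.Agent.Lib.Helper10.irr_one_of_comm hA μ.2
  have hξ1 : ξ 1 = ((∑ μ : IrrCharacter A, a μ : ℕ) : ℂ) := by
    show ∑ μ : IrrCharacter A, (a μ : ℂ) * (μ : A → ℂ) 1 = _
    rw [Finset.sum_congr rfl (fun μ _ => by rw [hμ1 μ, mul_one])]
    push_cast
    rfl
  -- Parseval, real form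
  have hpars := parseval_nat a
  have hns : ∀ x : A, ξ x * conj (ξ x) = ((Complex.normSq (ξ x) : ℝ) : ℂ) := fun x =>
    Complex.mul_conj (ξ x)
  have hpars2 : ∑ x : A, Complex.normSq (ξ x) =
      (Nat.card A : ℝ) * ∑ μ : IrrCharacter A, ((a μ : ℝ)) ^ 2 := by
    have h1 : ((∑ x : A, Complex.normSq (ξ x) : ℝ) : ℂ) =
        (((Nat.card A : ℝ) * ∑ μ : IrrCharacter A, ((a μ : ℝ)) ^ 2 : ℝ) : ℂ) := by
      push_cast
      rw [← hpars]
      apply Finset.sum_congr rfl
      intro x _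
      exact (hns x).symm
    exact_mod_cast h1
  have hbound : ∑ x : A, Complex.normSq (ξ x) ≤
      ((∑ μ : IrrCharacter A, a μ : ℕ) : ℝ) ^ 2 + ((Nat.card A : ℝ) - 1) := by
    rw [← Finset.add_sum_erase Finset.univ _ (Finset.mem_univ (1 : A))]
    have h1 : Complex.normSq (ξ 1) = ((∑ μ : IrrCharacter A, a μ : ℕ) : ℝ) ^ 2 := by
      rw [hξ1, Complex.normSq_natCast]
      ring
    rw [h1]
    have h2 : ∑ x ∈ Finset.univ.erase (1 : A), Complex.normSq (ξ x) ≤
        ∑ _x ∈ Finset.univ.erase (1 : A), (1 : ℝ) := by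
      apply Finset.sum_le_sum
      intro x hx
      have hx1 : x ≠ 1 := Finset.ne_of_mem_erase hx
      rcases h x hx1 with h0 | h0 | h0
      · show Complex.normSq (ξ x) ≤ 1
        rw [show ξ x = 0 from h0]
        simp
      · show Complex.normSq (ξ x) ≤ 1
        rw [show ξ x = 1 from h0]
        simp
      · show Complex.normSq (ξ x) ≤ 1
        rw [show ξ x = -1 from h0]
        simp
    have h3 : ∑ _x ∈ Finset.univ.erase (1 : A), (1 : ℝ) = (Nat.card A : ℝ) - 1 := by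
      rw [Finset.sum_const, Finset.card_erase_of_mem (Finset.mem_univ _), Finset.card_univ,
        Nat.card_eq_fintype_card, nsmul_eq_mul, mul_one]
      have : 1 ≤ Fintype.card A := Fintype.card_pos
      push_cast [Nat.cast_sub this]
      ring
    linarith
  have hint : (Fintype.card (IrrCharacter A) : ℤ) * ∑ μ, (a μ : ℤ) ^ 2 + 1 ≤
      (∑ μ, (a μ : ℤ)) ^ 2 + Fintype.card (IrrCharacter A) := by
    rw [hcard]
    have h1 : ((Nat.card A : ℝ)) * ∑ μ : IrrCharacter A, ((a μ : ℝ)) ^ 2 ≤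
        ((∑ μ : IrrCharacter A, a μ : ℕ) : ℝ) ^ 2 + ((Nat.card A : ℝ) - 1) := by
      rw [← hpars2]
      exact hbound
    have h2 : (((Nat.card A : ℤ) * ∑ μ, (a μ : ℤ) ^ 2 + 1 : ℤ) : ℝ) ≤
        (((∑ μ, (a μ : ℤ)) ^ 2 + (Nat.card A : ℤ) : ℤ) : ℝ) := by
      push_cast
      push_cast at h1
      linarith
    exact_mod_cast h2
  have hsum0 : ∀ x : A, x ≠ 1 → ∑ μ : IrrCharacter A, (μ : A → ℂ) x = 0 := by
    intro x hx
    rw [sum_irr_apply_of_comm hA x, if_neg hx]
  rcases two_values a hint with ⟨q, hq⟩ | ⟨ε, hε, μ₀, q, hq⟩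
  · left
    refine ⟨⟨q, hq⟩, ?_⟩
    intro x hx
    rw [Finset.sum_congr rfl (fun μ _ => by rw [hq μ]), ← Finset.mul_sum, hsum0 x hx, mul_zero]
  · right
    have hval : ∀ x : A, x ≠ 1 → ξ x = (ε : ℂ) * (μ₀ : A → ℂ) x := by
      intro x hx
      have h1 : ∀ μ : IrrCharacter A, (a μ : ℂ) * (μ : A → ℂ) x =
          (q : ℂ) * (μ : A → ℂ) x + (if μ = μ₀ then (ε : ℂ) * (μ : A → ℂ) x else 0) := by
        intro μ
        have h2 : (a μ : ℂ) = (q : ℂ) + if μ = μ₀ then (ε : ℂ) else 0 := by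
          have := hq μ
          by_cases hμ : μ = μ₀
          · rw [if_pos hμ] at this ⊢
            exact_mod_cast this
          · rw [if_neg hμ] at this ⊢
            exact_mod_cast this
        rw [h2]
        by_cases hμ : μ = μ₀
        · rw [if_pos hμ, if_pos hμ]
          ring
        · rw [if_neg hμ, if_neg hμ]
          ring
      show ∑ μ : IrrCharacter A, (a μ : ℂ) * (μ : A → ℂ) x = _
      rw [Finset.sum_congr rfl (fun μ _ => h1 μ), Finset.sum_add_distrib, ← Finset.mul_sum,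
        hsum0 x hx, mul_zero, zero_add, Finset.sum_ite_eq' Finset.univ μ₀, if_pos (Finset.mem_univ _)]
    refine ⟨ε, hε, μ₀, q, hq, ?_, hval⟩
    intro x
    by_cases hx : x = 1
    · rw [hx, hμ1 μ₀, mul_one]
    · have hne : (μ₀ : A → ℂ) x ≠ 0 := by
        intro h0
        have h1 := Cfsg.Agent.Lib.Helper10.irr_mul_of_comm hA μ₀.2 x x⁻¹
        rw [mul_inv_cancel, hμ1 μ₀, h0, zero_mul] at h1
        exact one_ne_zero h1
      have hεne : (ε : ℂ) ≠ 0 := by
        rcases hε with rfl | rfl <;> norm_num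
      have hεsq : (ε : ℂ) * (ε : ℂ) = 1 := by
        rcases hε with rfl | rfl <;> norm_num
      have h2 := hval x hx
      rcases h x hx with h0 | h0 | h0
      · exfalso
        rw [show ξ x = 0 from h0] at h2
        exact (mul_ne_zero hεne hne) h2.symm
      · rw [show ξ x = 1 from h0] at h2
        calc (μ₀ : A → ℂ) x * (μ₀ : A → ℂ) x
            = ((ε : ℂ) * (ε : ℂ)) * ((μ₀ : A → ℂ) x * (μ₀ : A → ℂ) x) := by rw [hεsq, one_mul]
          _ = ((ε : ℂ) * (μ₀ : A → ℂ) x) * ((ε : ℂ) * (μ₀ : A → ℂ) x) := by ring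
          _ = 1 := by rw [← h2, mul_one]
      · rw [show ξ x = -1 from h0] at h2
        calc (μ₀ : A → ℂ) x * (μ₀ : A → ℂ) x
            = ((ε : ℂ) * (ε : ℂ)) * ((μ₀ : A → ℂ) x * (μ₀ : A → ℂ) x) := by rw [hεsq, one_mul]
          _ = ((ε : ℂ) * (μ₀ : A → ℂ) x) * ((ε : ℂ) * (μ₀ : A → ℂ) x) := by ring
          _ = 1 := by rw [← h2]; norm_num

end Cfsg.Agent.Lib.Helper2.Glaub
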