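/-
helper2: the Glauberman correspondence for a cyclic operator group all of whose non-identity
elements have the same fixed points (S4451).
-/
import Mathlib
import Cfsg.Agent.Lib.Helper2.GlaubRel
import Cfsg.Agent.Lib.Helper2.GlaubFrob
import Cfsg.Agent.Lib.Helper24.IrrFacts

set_option autoImplicit false

namespace Cfsg.Agent.Lib.Helper2.Glaub

open Cfsg Cfsg.Agent.CharLib Cfsg.Agent.Lib.Helper6
open scoped ComplexConjugate

universe u

variable {Γ : Type u} [Group Γ]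

theorem frob_action [Fintype Γ] (G S : Subgroup Γ) [Fintype G]
    (hnorm : ∀ s ∈ S, ∀ g ∈ G, s * g * s⁻¹ ∈ G) (hcop : (Nat.card G).Coprime (Nat.card S))
    (hcyc : IsCyclic S) (C : Subgroup Γ) [Fintype C]
    (hC : C = G ⊓ Subgroup.centralizer (S : Set Γ)) (hCG : C ≤ G)
    (hfpf : ∀ x ∈ S, x ≠ 1 → G ⊓ Subgroup.centralizer ({x} : Set Γ) = C)
    (χ : IrrCharacter G) (χh : IrrCharacter Γ)
    (hext : ∀ g : G, (χh : Γ → ℂ) g = (χ : G → ℂ) g)
    (hdet : (detOrder (χh : Γ → ℂ)).Coprime (Nat.card S)) (β : IrrCharacter C) (ε₀ : ℤ)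
    (hε₀ : ε₀ = 1 ∨ ε₀ = -1)
    (hβ : ∀ c : C, ∀ s : Γ, Subgroup.zpowers s = S →
      (χh : Γ → ℂ) ((c : Γ) * s) = (ε₀ : ℂ) * (β : C → ℂ) c) :
    ∃ ε : ℤ, (ε = 1 ∨ ε = -1) ∧
      (∃ μ : S → ℂ, IsCharacter S μ ∧ μ 1 = 1 ∧ (∀ x : S, μ x * μ x = 1) ∧
        ∀ c : C, ∀ x : S, x ≠ 1 →
          (χh : Γ → ℂ) ((c : Γ) * x) = (ε : ℂ) * (β : C → ℂ) c * μ x) ∧
      (∃ ϑ : C → ℂ, IsCharacter C ϑ ∧ (fun c : C => (χ : G → ℂ) ⟨c, hCG c.2⟩) =
        fun c => (Nat.card S : ℂ) * ϑ c + (ε : ℂ) * (β : C → ℂ) c) ∧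
      (Nat.card S : ℤ) ∣ (charDegree (χ : G → ℂ) : ℤ) - ε * (charDegree (β : C → ℂ) : ℤ) := by
  classical
  haveI : Fintype S := Fintype.ofFinite _
  letI := fintypeIrr S
  letI := fintypeIrr C
  have hScomm : ∀ a b : S, a * b = b * a := fun a b => mul_comm' a b
  have hχC : ∀ c : C, (χ : G → ℂ) ⟨c, hCG c.2⟩ = (χh : Γ → ℂ) c := fun c =>
    (hext ⟨c, hCG c.2⟩).symm
  have hχ1 := Cfsg.Agent.Lib.Helper24.irr_apply_one χ
  have hβ1 := Cfsg.Agent.Lib.Helper24.irr_apply_one β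
  have hεne : ∀ ε : ℤ, (ε = 1 ∨ ε = -1) → (ε : ℂ) ≠ 0 := by
    rintro ε (rfl | rfl) <;> norm_num
  by_cases hS1 : Nat.card S = 1
  · -- trivial operator group
    have hSbot : S = ⊥ := Subgroup.eq_bot_of_card_eq S hS1
    have hsub : ∀ x : S, x = 1 := by
      intro x
      have : (x : Γ) ∈ (⊥ : Subgroup Γ) := hSbot ▸ x.2
      exact Subtype.ext (Subgroup.mem_bot.mp this)
    have hgen : Subgroup.zpowers (1 : Γ) = S := by rw [Subgroup.zpowers_one_eq_bot, hSbot]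
    have hval : ∀ c : C, (χh : Γ → ℂ) c = (ε₀ : ℂ) * (β : C → ℂ) c := by
      intro c
      have := hβ c 1 hgen
      rwa [mul_one] at this
    refine ⟨ε₀, hε₀, ⟨1, isCharacter_one, rfl, fun x => by simp, fun c x hx => (hx (hsub x)).elim⟩,
      ⟨0, isCharacter_zero, ?_⟩, ?_⟩
    · funext c
      rw [hχC c, hval c]
      simp
    · rw [hS1]
      exact one_dvd _
  -- a generator of `S`
  obtain ⟨s, hs⟩ := hcyc.exists_generator
  have hsgen : Subgroup.zpowers (s : Γ) = S := by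
    have h1 : Subgroup.zpowers s = ⊤ := by
      rw [eq_top_iff]
      intro x _
      exact hs x
    have h2 := congrArg (Subgroup.map S.subtype) h1
    rw [MonoidHom.map_zpowers, ← MonoidHom.range_eq_map, Subgroup.range_subtype] at h2
    exact h2
  have hs1 : s ≠ 1 := by
    intro h
    apply hS1
    have h1 : Subgroup.zpowers s = ⊤ := by
      rw [eq_top_iff]
      intro x _
      exact hs x
    rw [h, Subgroup.zpowers_one_eq_bot] at h1
    have : Subsingleton S := by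
      constructor
      intro a b
      have ha : a ∈ (⊥ : Subgroup S) := h1 ▸ Subgroup.mem_top a
      have hb : b ∈ (⊥ : Subgroup S) := h1 ▸ Subgroup.mem_top b
      rw [Subgroup.mem_bot] at ha hb
      rw [ha, hb]
    exact Nat.card_unique
  -- general position for every non-identity element
  have hχhc : IsCharacter Γ (χh : Γ → ℂ) := IsIrrCharacter.isCharacter χh.2
  have hres : IsIrrCharacter G (resFun G (χh : Γ → ℂ)) := by
    have : resFun G (χh : Γ → ℂ) = (χ : G → ℂ) := funext hext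
    rw [this]
    exact χ.2
  have hgp : ∀ x : S, x ≠ 1 → ∃ βx : IrrCharacter C, ∃ εx : ℤ, (εx = 1 ∨ εx = -1) ∧
      ∀ c : C, (χh : Γ → ℂ) ((c : Γ) * x) = (εx : ℂ) * (βx : C → ℂ) c := by
    intro x hx
    have hx1 : (x : Γ) ≠ 1 := fun h => hx (Subtype.ext h)
    have hrel : RelSetup G (x : Γ) C := by
      refine ⟨hnorm x x.2, ?_, ?_, ?_⟩
      · intro g hg
        have := hnorm (x : Γ)⁻¹ (S.inv_mem x.2) g hg
        rwa [inv_inv] at this
      · intro y
        rw [← hfpf x x.2 hx1, Subgroup.mem_inf, Subgroup.mem_centralizer_iff]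
        constructor
        · rintro ⟨h1, h2⟩
          exact ⟨h1, (h2 x (Set.mem_singleton _)).symm⟩
        · rintro ⟨h1, h2⟩
          refine ⟨h1, ?_⟩
          intro z hz
          rw [Set.mem_singleton_iff] at hz
          rw [hz]
          exact h2.symm
      · exact Nat.Coprime.coprime_dvd_right (Subgroup.orderOf_dvd_natCard S x.2) hcop
    obtain ⟨βx, εx, hεx, hval⟩ := hrel.exists_sign_irr hχhc hres
      (Nat.Coprime.coprime_dvd_right (Subgroup.orderOf_dvd_natCard S x.2) hdet)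
    exact ⟨βx, εx, hεx, fun c => hval c x rfl⟩
  -- Fourier coefficients
  have hCT : ∀ c ∈ C, ∀ t ∈ S, c * t = t * c := by
    intro c hc t ht
    have h1 : c ∈ Subgroup.centralizer (S : Set Γ) := (hC.le hc).2
    exact (Subgroup.mem_centralizer_iff.mp h1 t ht).symm
  have hfour : ∀ γ : IrrCharacter C, ∃ a : IrrCharacter S → ℕ, ∀ t₀ : S,
      ∑ μ : IrrCharacter S, (a μ : ℂ) * (μ : S → ℂ) t₀ =
        classInner (fun c : C => (χh : Γ → ℂ) ((c : Γ) * (t₀ : Γ))) (γ : C → ℂ) :=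
    fun γ => fourier_coeffs C S hCT hScomm hχhc (IsIrrCharacter.isCharacter γ.2)
  choose a ha using hfour
  -- values of the Fourier sums
  have hinner : ∀ (δ : IrrCharacter C) (e : ℤ) (γ : IrrCharacter C) (f : C → ℂ),
      (∀ c, f c = (e : ℂ) * (δ : C → ℂ) c) →
      classInner f (γ : C → ℂ) = if δ = γ then (e : ℂ) else 0 := by
    intro δ e γ f hf
    have : f = (e : ℂ) • (δ : C → ℂ) := funext hf
    rw [this, classInner_smul_left, classInner_irr']
    by_cases h : δ = γ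
    · rw [if_pos h, if_pos h, mul_one]
    · rw [if_neg h, if_neg h, mul_zero]
  have hval_s : ∀ γ : IrrCharacter C, ∑ μ : IrrCharacter S, (a γ μ : ℂ) * (μ : S → ℂ) s =
      if β = γ then (ε₀ : ℂ) else 0 := by
    intro γ
    rw [ha γ s]
    exact hinner β ε₀ γ _ (fun c => hβ c s hsgen)
  have hhyp : ∀ γ : IrrCharacter C, ∀ x : S, x ≠ 1 →
      (∑ μ : IrrCharacter S, (a γ μ : ℂ) * (μ : S → ℂ) x = 0 ∨
       ∑ μ : IrrCharacter S, (a γ μ : ℂ) * (μ : S → ℂ) x = 1 ∨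
       ∑ μ : IrrCharacter S, (a γ μ : ℂ) * (μ : S → ℂ) x = -1) := by
    intro γ x hx
    obtain ⟨βx, εx, hεx, hval⟩ := hgp x hx
    rw [ha γ x, hinner βx εx γ _ hval]
    by_cases h : βx = γ
    · rw [if_pos h]
      rcases hεx with rfl | rfl
      · right; left; norm_num
      · right; right; norm_num
    · rw [if_neg h]
      left; rfl
  -- the component of `β`
  have hdβ := fourier_dichotomy hScomm (a β) (hhyp β)
  have hcase2 : ∃ ε : ℤ, (ε = 1 ∨ ε = -1) ∧ ∃ μ₀ : IrrCharacter S, ∃ q : ℕ,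
      (∀ μ, (a β μ : ℤ) = q + if μ = μ₀ then ε else 0) ∧
      (∀ x : S, (μ₀ : S → ℂ) x * (μ₀ : S → ℂ) x = 1) ∧
      ∀ x : S, x ≠ 1 →
        ∑ μ : IrrCharacter S, (a β μ : ℂ) * (μ : S → ℂ) x = (ε : ℂ) * (μ₀ : S → ℂ) x := by
    rcases hdβ with ⟨_, h0⟩ | h2
    · exfalso
      have h1 := h0 s hs1
      rw [hval_s β, if_pos rfl] at h1
      exact hεne ε₀ hε₀ h1
    · exact h2
  obtain ⟨ε, hε, μ₀, qβ, haβ, hμ₀sq, hξβ⟩ := hcase2
  have hμ₀ne : ∀ x : S, (μ₀ : S → ℂ) x ≠ 0 := by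
    intro x h0
    have := hμ₀sq x
    rw [h0, mul_zero] at this
    exact zero_ne_one this
  -- the other components
  have hother : ∀ γ : IrrCharacter C, γ ≠ β → ∃ q : ℕ, ∀ μ, a γ μ = q := by
    intro γ hγ
    rcases fourier_dichotomy hScomm (a γ) (hhyp γ) with ⟨hq, _⟩ | ⟨ε', hε', μ', q', _, hμ'sq, hξ'⟩
    · exact hq
    · exfalso
      have h1 := hξ' s hs1
      rw [hval_s γ, if_neg (Ne.symm hγ)] at h1
      have hμ'ne : (μ' : S → ℂ) s ≠ 0 := by
        intro h0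
        have := hμ'sq s
        rw [h0, mul_zero] at this
        exact zero_ne_one this
      exact (mul_ne_zero (hεne ε' hε') hμ'ne) h1.symm
  choose! q hq using hother
  -- (a)
  have hA : ∀ c : C, ∀ x : S, x ≠ 1 →
      (χh : Γ → ℂ) ((c : Γ) * x) = (ε : ℂ) * (β : C → ℂ) c * (μ₀ : S → ℂ) x := by
    intro c x hx
    obtain ⟨βx, εx, hεx, hval⟩ := hgp x hx
    have h1 := hξβ x hx
    rw [ha β x, hinner βx εx β _ hval] at h1
    have hβx : βx = β := by
      by_contra hne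
      rw [if_neg hne] at h1
      exact (mul_ne_zero (hεne ε hε) (hμ₀ne x)) h1.symm
    rw [if_pos hβx] at h1
    rw [hval c, hβx, h1]
    ring
  -- multiplicities in the restriction to `C`
  have hcardIrr : (Fintype.card (IrrCharacter S) : ℂ) = (Nat.card S : ℂ) := by
    rw [card_irr_of_comm hScomm]
  have hμ1 : ∀ μ : IrrCharacter S, (μ : S → ℂ) 1 = 1 :=
    fun μ => Cfsg.Agent.Lib.Helper10.irr_one_of_comm hScomm μ.2
  have hmult : ∀ γ : IrrCharacter C,
      classInner (fun c : C => (χ : G → ℂ) ⟨c, hCG c.2⟩) (γ : C → ℂ) =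
        ∑ μ : IrrCharacter S, (a γ μ : ℂ) := by
    intro γ
    have h1 := ha γ 1
    have h2 : (fun c : C => (χh : Γ → ℂ) ((c : Γ) * ((1 : S) : Γ))) =
        fun c : C => (χ : G → ℂ) ⟨c, hCG c.2⟩ := by
      funext c
      rw [Subgroup.coe_one, mul_one, hχC c]
    rw [h2] at h1
    rw [← h1]
    apply Finset.sum_congr rfl
    intro μ _
    rw [hμ1 μ, mul_one]
  have hmultβ : classInner (fun c : C => (χ : G → ℂ) ⟨c, hCG c.2⟩) (β : C → ℂ) =
      (Nat.card S : ℂ) * (qβ : ℂ) + (ε : ℂ) := by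
    rw [hmult β]
    have h1 : ∀ μ : IrrCharacter S, (a β μ : ℂ) = (qβ : ℂ) + if μ = μ₀ then (ε : ℂ) else 0 := by
      intro μ
      have := haβ μ
      by_cases hμ : μ = μ₀
      · rw [if_pos hμ] at this ⊢
        exact_mod_cast this
      · rw [if_neg hμ] at this ⊢
        exact_mod_cast this
    rw [Finset.sum_congr rfl (fun μ _ => h1 μ), Finset.sum_add_distrib, Finset.sum_const,
      Finset.card_univ, nsmul_eq_mul, hcardIrr, Finset.sum_ite_eq' Finset.univ μ₀,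
      if_pos (Finset.mem_univ _)]
  have hmultγ : ∀ γ : IrrCharacter C, γ ≠ β →
      classInner (fun c : C => (χ : G → ℂ) ⟨c, hCG c.2⟩) (γ : C → ℂ) =
        (Nat.card S : ℂ) * (q γ : ℂ) := by
    intro γ hγ
    rw [hmult γ, Finset.sum_congr rfl (fun μ _ => by rw [hq γ hγ μ]), Finset.sum_const,
      Finset.card_univ, nsmul_eq_mul, hcardIrr]
  -- (b)
  let Q : IrrCharacter C → ℕ := fun γ => if γ = β then qβ else q γ
  let ϑ : C → ℂ := ∑ γ : IrrCharacter C, Q γ • (γ : C → ℂ)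
  have hϑ : IsCharacter C ϑ :=
    IsCharacter.sum _ (fun γ _ => IsCharacter.nsmul (IsIrrCharacter.isCharacter γ.2) _)
  have hχCc : IsCharacter C (fun c : C => (χ : G → ℂ) ⟨c, hCG c.2⟩) :=
    IsCharacter.comp_hom (IsIrrCharacter.isCharacter χ.2) (Subgroup.inclusion hCG)
  have hB : (fun c : C => (χ : G → ℂ) ⟨c, hCG c.2⟩) =
      fun c => (Nat.card S : ℂ) * ϑ c + (ε : ℂ) * (β : C → ℂ) c := by
    have hdec := classFunction_eq_sum (IsCharacter.isClassFunction hχCc)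
    funext c
    have h1 := congrFun hdec c
    rw [h1, Finset.sum_apply]
    show _ = (Nat.card S : ℂ) * (∑ γ : IrrCharacter C, Q γ • (γ : C → ℂ)) c + _
    rw [Finset.sum_apply, Finset.mul_sum]
    have h2 : ∀ γ : IrrCharacter C,
        (classInner (fun c : C => (χ : G → ℂ) ⟨c, hCG c.2⟩) (γ : C → ℂ) • (γ : C → ℂ)) c =
          (Nat.card S : ℂ) * ((Q γ • (γ : C → ℂ)) c) +
            (if γ = β then (ε : ℂ) * (γ : C → ℂ) c else 0) := by
      intro γ
      by_cases hγ : γ = β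
      · rw [if_pos hγ]
        simp only [Pi.smul_apply, smul_eq_mul, nsmul_eq_mul, Q, if_pos hγ]
        rw [hγ, hmultβ]
        ring
      · rw [if_neg hγ]
        simp only [Pi.smul_apply, smul_eq_mul, nsmul_eq_mul, Q, if_neg hγ]
        rw [hmultγ γ hγ]
        ring
    rw [Finset.sum_congr rfl (fun γ _ => h2 γ), Finset.sum_add_distrib,
      Finset.sum_ite_eq' Finset.univ β, if_pos (Finset.mem_univ _)]
  refine ⟨ε, hε, ⟨(μ₀ : S → ℂ), IsIrrCharacter.isCharacter μ₀.2, hμ1 μ₀, hμ₀sq, hA⟩,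
    ⟨ϑ, hϑ, hB⟩, ?_⟩
  -- (c)
  have h1 := congrFun hB 1
  beta_reduce at h1
  have hχ11 : (χ : G → ℂ) ⟨((1 : C) : Γ), hCG (1 : C).2⟩ = (charDegree (χ : G → ℂ) : ℂ) := by
    rw [← hχ1]
    rfl
  rw [hχ11, hβ1] at h1
  have hϑ1 : ϑ 1 = ((∑ γ : IrrCharacter C, Q γ * charDegree (γ : C → ℂ) : ℕ) : ℂ) := by
    show (∑ γ : IrrCharacter C, Q γ • (γ : C → ℂ)) 1 = _
    rw [Finset.sum_apply]
    push_cast
    apply Finset.sum_congr rfl
    intro γ _
    rw [Pi.smul_apply, nsmul_eq_mul, Cfsg.Agent.Lib.Helper24.irr_apply_one γ]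
  rw [hϑ1] at h1
  refine ⟨(∑ γ : IrrCharacter C, Q γ * charDegree (γ : C → ℂ) : ℕ), ?_⟩
  have h2 : ((charDegree (χ : G → ℂ) : ℤ) : ℂ) =
      (((Nat.card S : ℤ) * ((∑ γ : IrrCharacter C, Q γ * charDegree (γ : C → ℂ) : ℕ) : ℤ) +
        ε * (charDegree (β : C → ℂ) : ℤ) : ℤ) : ℂ) := by
    push_cast
    push_cast at h1
    exact h1
  have h3 : (charDegree (χ : G → ℂ) : ℤ) =
      (Nat.card S : ℤ) * ((∑ γ : IrrCharacter C, Q γ * charDegree (γ : C → ℂ) : ℕ) : ℤ) +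
        ε * (charDegree (β : C → ℂ) : ℤ) := by exact_mod_cast h2
  rw [h3]
  ring

end Cfsg.Agent.Lib.Helper2.Glaub
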