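/-
helper2: the Glauberman correspondences of a group and of an invariant normal subgroup, built
simultaneously along the same chain of operator subgroups, are compatible with restriction
(Isaacs 13.29); consequence: an invariant irreducible character of the normal subgroup lies under
an invariant irreducible character of the group (Isaacs 13.31, solvable operator group).
-/
import Mathlib
import Cfsg.Agent.Lib.Helper2.GlaubCompat

set_option autoImplicit false

namespace Cfsg.Agent.Lib.Helper2.Glaub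

open Cfsg Cfsg.Agent.CharLib Cfsg.Agent.Lib.Helper6
open scoped ComplexConjugate

universe u

variable {Γ : Type u} [Group Γ]

/-- Compatibility of two correspondences with restriction to a normal subgroup. -/
def Compat [Finite Γ] (G N C D T : Subgroup Γ) [Fintype N] [Fintype D] (hNG : N ≤ G)
    (hDC : D ≤ C) (RG : IrrCharacter G → IrrCharacter C → Prop)
    (RN : IrrCharacter N → IrrCharacter D → Prop) : Prop :=
  ∀ (χ : IrrCharacter G) (ϑ : IrrCharacter N) (β : IrrCharacter C) (φ : IrrCharacter D),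
    InvUnder G T (χ : G → ℂ) → InvUnder N T (ϑ : N → ℂ) → RG χ β → RN ϑ φ →
    classInner (fun d : D => (β : C → ℂ) ⟨d, hDC d.2⟩) (φ : D → ℂ) ≠ 0 →
    classInner (fun n : N => (χ : G → ℂ) ⟨n, hNG n.2⟩) (ϑ : N → ℂ) ≠ 0

/-- The partner of a `T`-invariant character under a `T₀`-correspondence is `T`-invariant. -/
theorem partner_inv [Finite Γ] {G T T₀ B : Subgroup Γ}
    (hTG : T ≤ Subgroup.normalizer (G : Set Γ)) (hT₀T : T₀ ≤ T)
    (hTT₀ : T ≤ Subgroup.normalizer (T₀ : Set Γ)) (hTB : T ≤ Subgroup.normalizer (B : Set Γ))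
    {R₀ : IrrCharacter G → IrrCharacter B → Prop} (h1 : IsCorr G T₀ B R₀)
    (χ : IrrCharacter G) (ψ : IrrCharacter B) (hχ : InvUnder G T (χ : G → ℂ)) (hR : R₀ χ ψ) :
    InvUnder B T (ψ : B → ℂ) := by
  apply invUnder_of_cjIrr hTB
  intro x hxT
  have h3 := h1.equiv x (hTG hxT) (hTB hxT) (hTT₀ hxT) χ ψ hR
  rw [cjIrr_eq_of_inv χ hχ x hxT] at h3
  obtain ⟨β₀, _, huniq⟩ := h1.exU χ (invUnder_mono hT₀T hχ)
  rw [huniq _ h3, huniq _ hR]

/-- The composition step for compatibility. -/
theorem compat_step [Finite Γ] (G N T T₀ P BG BN C D : Subgroup Γ) [Fintype N] [Fintype BG]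
    [Fintype BN] [Fintype C] [Fintype D] {p : ℕ}
    (hTG : T ≤ Subgroup.normalizer (G : Set Γ)) (hTN : T ≤ Subgroup.normalizer (N : Set Γ))
    (hT₀T : T₀ ≤ T) (hTT₀ : T ≤ Subgroup.normalizer (T₀ : Set Γ)) (hPT : P ≤ T)
    (hTBG : T ≤ Subgroup.normalizer (BG : Set Γ)) (hTBN : T ≤ Subgroup.normalizer (BN : Set Γ))
    (hNG : N ≤ G) (hBNG : BN ≤ BG) (hCB : C ≤ BG) (hDB : D ≤ BN) (hDC : D ≤ C)
    (R₀G : IrrCharacter G → IrrCharacter BG → Prop) (R₀N : IrrCharacter N → IrrCharacter BN → Prop)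
    (h1G : IsCorr G T₀ BG R₀G) (h1N : IsCorr N T₀ BN R₀N)
    (hc₀ : Compat G N BG BN T₀ hNG hBNG R₀G R₀N)
    (hpc : ∀ (ψ : IrrCharacter BG) (η : IrrCharacter BN) (β : IrrCharacter C)
      (φ : IrrCharacter D), InvUnder BG P (ψ : BG → ℂ) → InvUnder BN P (η : BN → ℂ) →
      PRel BG C hCB p ψ β → PRel BN D hDB p η φ →
      classInner (fun d : D => (β : C → ℂ) ⟨d, hDC d.2⟩) (φ : D → ℂ) ≠ 0 →
      classInner (fun n : BN => (ψ : BG → ℂ) ⟨n, hBNG n.2⟩) (η : BN → ℂ) ≠ 0) :
    Compat G N C D T hNG hDC (fun χ β => ∃ ψ, R₀G χ ψ ∧ PRel BG C hCB p ψ β)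
      (fun ϑ φ => ∃ η, R₀N ϑ η ∧ PRel BN D hDB p η φ) := by
  rintro χ ϑ β φ hχ hϑ ⟨ψ, hRψ, hPψ⟩ ⟨η, hRη, hPη⟩ hne
  have hψT := partner_inv hTG hT₀T hTT₀ hTBG h1G χ ψ hχ hRψ
  have hηT := partner_inv hTN hT₀T hTT₀ hTBN h1N ϑ η hϑ hRη
  have h2 := hpc ψ η β φ (invUnder_mono hPT hψT) (invUnder_mono hPT hηT) hPψ hPη hne
  exact hc₀ χ ϑ ψ η (invUnder_mono hT₀T hχ) (invUnder_mono hT₀T hϑ) hRψ hRη h2

/-- The trivial correspondence, explicitly. -/
theorem isCorr_bot' [Finite Γ] (G : Subgroup Γ) :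
    IsCorr G ⊥ G (fun χ β => χ = β) := by
  refine ⟨?_, ?_, ?_, ?_⟩
  · intro χ _
    exact ⟨χ, rfl, fun β h => h.symm⟩
  · intro β
    refine ⟨β, ⟨?_, rfl⟩, fun χ h => h.2⟩
    intro t ht g g' hg'
    rw [Subgroup.mem_bot] at ht
    subst ht
    have : g' = g := by
      apply Subtype.ext
      rw [hg']
      group
    rw [this]
  · intro x hxG hxC _ χ β h
    subst h
    rfl
  · intro χ β h
    subst h
    rfl

theorem inf_centralizer_bot (G : Subgroup Γ) :
    G ⊓ Subgroup.centralizer ((⊥ : Subgroup Γ) : Set Γ) = G := by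
  apply inf_eq_left.mpr
  intro g _
  rw [Subgroup.mem_centralizer_iff]
  intro h hh
  have : h = 1 := by simpa using hh
  rw [this]
  simp

theorem inf_centralizer_sup (G T₀ P : Subgroup Γ) :
    G ⊓ Subgroup.centralizer ((T₀ ⊔ P : Subgroup Γ) : Set Γ) =
      (G ⊓ Subgroup.centralizer (T₀ : Set Γ)) ⊓ Subgroup.centralizer (P : Set Γ) := by
  apply le_antisymm
  · refine le_inf (le_inf inf_le_left ?_) ?_
    · exact inf_le_right.trans (Subgroup.centralizer_le (by exact_mod_cast le_sup_left))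
    · exact inf_le_right.trans (Subgroup.centralizer_le (by exact_mod_cast le_sup_right))
  · refine le_inf (inf_le_left.trans inf_le_left) ?_
    intro c hc
    rw [Subgroup.mem_centralizer_iff]
    have h1 : T₀ ≤ Subgroup.centralizer {c} := by
      intro t ht
      rw [Subgroup.mem_centralizer_iff]
      intro y hy
      rw [Set.mem_singleton_iff] at hy
      subst hy
      exact (Subgroup.mem_centralizer_iff.mp hc.1.2 t ht).symm
    have h2 : P ≤ Subgroup.centralizer {c} := by
      intro t ht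
      rw [Subgroup.mem_centralizer_iff]
      intro y hy
      rw [Set.mem_singleton_iff] at hy
      subst hy
      exact (Subgroup.mem_centralizer_iff.mp hc.2 t ht).symm
    intro t ht
    have h3 : t ∈ Subgroup.centralizer {c} := by
      have : T₀ ⊔ P ≤ Subgroup.centralizer {c} := sup_le h1 h2
      exact this ht
    exact (Subgroup.mem_centralizer_iff.mp h3 c (Set.mem_singleton c)).symm

/-- **Glauberman correspondences of a pair** `N ⊴ G`, compatible with restriction. -/
theorem solv_corr_pair [Fintype Γ] :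
    ∀ (n : ℕ) (G N T C D : Subgroup Γ) [_iN : Fintype N] [_iD : Fintype D] (hNG : N ≤ G)
      (hDC : D ≤ C), Nat.card T = n →
      T ≤ Subgroup.normalizer (G : Set Γ) → T ≤ Subgroup.normalizer (N : Set Γ) →
      (∀ g ∈ G, ∀ x ∈ N, g * x * g⁻¹ ∈ N) →
      (Nat.card G).Coprime (Nat.card T) → Group.IsSolvable T →
      C = G ⊓ Subgroup.centralizer (T : Set Γ) → D = N ⊓ Subgroup.centralizer (T : Set Γ) →
      ∃ (RG : IrrCharacter G → IrrCharacter C → Prop)
        (RN : IrrCharacter N → IrrCharacter D → Prop),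
        IsCorr G T C RG ∧ IsCorr N T D RN ∧ Compat G N C D T hNG hDC RG RN := by
  intro n
  induction n using Nat.strong_induction_on with
  | _ n ih =>
    intro G N T C D iN iD hNG hDC hn hTG hTN hNn hcop hsolv hC hD
    by_cases hbot : T = ⊥
    · subst hbot
      rw [inf_centralizer_bot] at hC hD
      subst hC hD
      refine ⟨fun χ β => χ = β, fun ϑ φ => ϑ = φ, isCorr_bot' _, isCorr_bot' _, ?_⟩
      intro χ ϑ β φ _ _ h1 h2 hne
      subst h1 h2
      obtain rfl : iN = iD := Subsingleton.elim _ _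
      exact hne
    · obtain ⟨p, hp, T₀, hT₀T, hlt, hchar, hq⟩ := exists_char_pquot T hsolv hbot
      have hTT₀ : T ≤ Subgroup.normalizer (T₀ : Set Γ) :=
        fun t ht => hchar t (Subgroup.le_normalizer ht)
      obtain ⟨P, hPT, hPp, hsup⟩ := exists_pgroup_sup hp T T₀ hT₀T hTT₀ hq
      let BG : Subgroup Γ := G ⊓ Subgroup.centralizer (T₀ : Set Γ)
      let BN : Subgroup Γ := N ⊓ Subgroup.centralizer (T₀ : Set Γ)
      have : Fintype BG := Fintype.ofFinite _
      have : Fintype BN := Fintype.ofFinite _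
      have : Fintype C := Fintype.ofFinite _
      have : Fintype G := Fintype.ofFinite _
      have hBGG : BG ≤ G := inf_le_left
      have hBNN : BN ≤ N := inf_le_left
      have hBNG : BN ≤ BG := inf_le_inf_right _ hNG
      have hC' : C = BG ⊓ Subgroup.centralizer (P : Set Γ) := by
        rw [hC, ← hsup]
        exact inf_centralizer_sup G T₀ P
      have hD' : D = BN ⊓ Subgroup.centralizer (P : Set Γ) := by
        rw [hD, ← hsup]
        exact inf_centralizer_sup N T₀ P
      have hCB : C ≤ BG := by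
        rw [hC']
        exact inf_le_left
      have hDB : D ≤ BN := by
        rw [hD']
        exact inf_le_left
      have : Group.IsSolvable T₀ :=
        Group.isSolvable_of_isSolvable_injective (f := Subgroup.inclusion hT₀T)
          (Subgroup.inclusion_injective _)
      have hcop₀ : (Nat.card G).Coprime (Nat.card T₀) :=
        Nat.Coprime.coprime_dvd_right (Subgroup.card_dvd_of_le hT₀T) hcop
      obtain ⟨R₀G, R₀N, h1G, h1N, hc₀⟩ := ih (Nat.card T₀) (hn ▸ hlt) G N T₀ BG BN hNG hBNG rfl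
        (hT₀T.trans hTG) (hT₀T.trans hTN) hNn hcop₀ inferInstance rfl rfl
      have hTBG : T ≤ Subgroup.normalizer (BG : Set Γ) := fun t ht =>
        mem_normalizer_inf_centralizer (hTG ht) (hTT₀ ht)
      have hTBN : T ≤ Subgroup.normalizer (BN : Set Γ) := fun t ht =>
        mem_normalizer_inf_centralizer (hTN ht) (hTT₀ ht)
      have hPBG : ∀ t ∈ P, ∀ g ∈ BG, t * g * t⁻¹ ∈ BG := by
        intro t ht g hg
        exact (Subgroup.mem_normalizer_iff.mp (hTBG (hPT ht)) g).mp hg
      have hPBN : ∀ t ∈ P, ∀ g ∈ BN, t * g * t⁻¹ ∈ BN := by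
        intro t ht g hg
        exact (Subgroup.mem_normalizer_iff.mp (hTBN (hPT ht)) g).mp hg
      have hcopP : (Nat.card G).Coprime (Nat.card P) :=
        Nat.Coprime.coprime_dvd_right (Subgroup.card_dvd_of_le hPT) hcop
      have h2G : PCorr BG P C hCB p :=
        pgroup_corr hp (Nat.card P) BG P C rfl hPBG
          (Nat.Coprime.coprime_dvd_left (Subgroup.card_dvd_of_le hBGG) hcopP) hPp hC' hCB
      have h2N : PCorr BN P D hDB p :=
        pgroup_corr hp (Nat.card P) BN P D rfl hPBN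
          (Nat.Coprime.coprime_dvd_left (Subgroup.card_dvd_of_le (hBNN.trans hNG)) hcopP) hPp
          hD' hDB
      have hpP : p ∣ Nat.card P := by
        have : Fact p.Prime := ⟨hp⟩
        obtain ⟨k, hk⟩ := IsPGroup.iff_card.mp hPp
        rcases k with _ | k
        · exfalso
          have hPbot : P = ⊥ := Subgroup.card_eq_one.mp (by simpa using hk)
          rw [hPbot, sup_bot_eq] at hsup
          rw [hsup] at hlt
          exact lt_irrefl _ hlt
        · rw [hk, pow_succ]
          exact dvd_mul_left _ _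
      have hpC : ¬ p ∣ Nat.card C := by
        intro h
        have h1 : p ∣ Nat.card G := h.trans (Subgroup.card_dvd_of_le (hCB.trans hBGG))
        have h2 : p ∣ Nat.card T := hpP.trans (Subgroup.card_dvd_of_le hPT)
        have h3 : p.Coprime p :=
          (Nat.Coprime.coprime_dvd_left h1 hcop).coprime_dvd_right h2
        exact hp.one_lt.ne' ((Nat.coprime_self p).mp h3)
      have hnCD : ∀ c ∈ C, ∀ d ∈ D, c * d * c⁻¹ ∈ D := by
        intro c hc d hd
        rw [hD] at hd ⊢
        rw [hC] at hc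
        refine ⟨hNn c hc.1 d hd.1, ?_⟩
        exact Subgroup.mul_mem _ (Subgroup.mul_mem _ hc.2 hd.2) (Subgroup.inv_mem _ hc.2)
      have hPD : ∀ t ∈ P, ∀ d ∈ D, t * d * t⁻¹ = d := by
        intro t ht d hd
        rw [hD] at hd
        have h1 := Subgroup.mem_centralizer_iff.mp hd.2 t (hPT ht)
        rw [h1]
        group
      have hpc : ∀ (ψ : IrrCharacter BG) (η : IrrCharacter BN) (β : IrrCharacter C)
          (φ : IrrCharacter D), InvUnder BG P (ψ : BG → ℂ) → InvUnder BN P (η : BN → ℂ) →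
          PRel BG C hCB p ψ β → PRel BN D hDB p η φ →
          classInner (fun d : D => (β : C → ℂ) ⟨d, hDC d.2⟩) (φ : D → ℂ) ≠ 0 →
          classInner (fun n : BN => (ψ : BG → ℂ) ⟨n, hBNG n.2⟩) (η : BN → ℂ) ≠ 0 :=
        fun ψ η β φ hψ hη h1 h2 h3 =>
          pcompat BG BN P C D hp hPp (hPT.trans hTBG) (hPT.trans hTBN) hBNG hCB hDB hDC hPD
            h2G h2N (fun β φ m hm hm0 => not_dvd_mult_of_normal hDC hnCD hpC β φ m hm hm0)
            ψ hψ η hη β φ h1 h2 h3
      refine ⟨_, _, isCorr_step G T T₀ P BG C hp hTG hT₀T hchar hPT hsup rfl hCB R₀G h1G h2G,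
        isCorr_step N T T₀ P BN D hp hTN hT₀T hchar hPT hsup rfl hDB R₀N h1N h2N, ?_⟩
      exact compat_step G N T T₀ P BG BN C D hTG hTN hT₀T hTT₀ hPT hTBG hTBN hNG hBNG hCB hDB
        hDC R₀G R₀N h1G h1N hc₀ hpc

/-- Every irreducible character of a subgroup lies under some irreducible character
(after helper24). -/
theorem exists_irr_over_type {H : Type u} [Group H] [Fintype H] (N : Subgroup H) [Fintype N]
    {θ : N → ℂ} (hθ : IsIrrCharacter N θ) :
    ∃ χ : H → ℂ, IsIrrCharacter H χ ∧ classInner (resFun N χ) θ ≠ 0 := by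
  classical
  have hθc : IsCharacter N θ := IsIrrCharacter.isCharacter hθ
  have hind : IsCharacter H (indFun N θ) := IsCharacter.indFun N hθc
  have hθ1 : θ 1 ≠ 0 := Cfsg.Agent.Lib.Helper24.irr_apply_one_ne_zero ⟨θ, hθ⟩
  have hne : indFun N θ ≠ 0 := by
    intro h0
    have h1 := congrFun h0 1
    rw [Cfsg.Agent.Lib.Helper6.indFun_apply_one] at h1
    have hH : (Nat.card N : ℂ) ≠ 0 := by
      have : 0 < Nat.card N := Nat.card_pos
      exact_mod_cast this.ne'
    have hG : (Nat.card H : ℂ) ≠ 0 := by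
      have : 0 < Nat.card H := Nat.card_pos
      exact_mod_cast this.ne'
    have : (Nat.card N : ℂ)⁻¹ * (Nat.card H : ℂ) * θ 1 ≠ 0 :=
      mul_ne_zero (mul_ne_zero (inv_ne_zero hH) hG) hθ1
    exact this h1
  obtain ⟨χ, hχ, hχne⟩ := IsCharacter.exists_constituent hind hne
  have hχc : IsCharacter H χ := IsIrrCharacter.isCharacter hχ
  have hcls : IsClassFunction H χ := IsCharacter.isClassFunction hχc
  rw [frobenius_reciprocity N θ hcls] at hχne
  refine ⟨χ, hχ, ?_⟩
  intro h0
  apply hχne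
  rw [Cfsg.Agent.Lib.Helper10.classInner_conj_symm]
  have : classInner (fun h : N => χ h) θ = 0 := h0
  rw [this, map_zero]

/-- Every irreducible character of a subgroup lies under some irreducible character, for
subgroups of an ambient group. -/
theorem exists_irr_over [Finite Γ] {C D : Subgroup Γ} [Fintype C] [Fintype D] (hDC : D ≤ C)
    (φ : IrrCharacter D) :
    ∃ β : IrrCharacter C,
      classInner (fun d : D => (β : C → ℂ) ⟨d, hDC d.2⟩) (φ : D → ℂ) ≠ 0 := by
  classical
  let e := Subgroup.subgroupOfEquivOfLe hDC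
  have : Fintype (D.subgroupOf C) := Fintype.ofFinite _
  have hφ' : IsIrrCharacter (D.subgroupOf C) ((φ : D → ℂ) ∘ e) :=
    isIrrCharacter_comp_mulEquiv' e φ.2
  obtain ⟨β, hβ, hne⟩ := exists_irr_over_type (D.subgroupOf C) hφ'
  refine ⟨⟨β, hβ⟩, ?_⟩
  rw [resFun_subgroupOf hDC, classInner_comp_mulEquiv] at hne
  exact hne

/-- **Isaacs 13.31** for a solvable group of operators: an invariant irreducible character of an
invariant normal subgroup lies under an invariant irreducible character of the group. -/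
theorem exists_inv_over [Fintype Γ] (G S N : Subgroup Γ) [Fintype N]
    (hSG : S ≤ Subgroup.normalizer (G : Set Γ)) (hSN : S ≤ Subgroup.normalizer (N : Set Γ))
    (hNG : N ≤ G) (hNn : ∀ g ∈ G, ∀ x ∈ N, g * x * g⁻¹ ∈ N)
    (hcop : (Nat.card G).Coprime (Nat.card S)) (hsolv : Group.IsSolvable S)
    (θ : IrrCharacter N) (hinv : InvUnder N S (θ : N → ℂ)) :
    ∃ χ : IrrCharacter G,
      classInner (fun n : N => (χ : G → ℂ) ⟨n, hNG n.2⟩) (θ : N → ℂ) ≠ 0 ∧
        InvUnder G S (χ : G → ℂ) := by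
  classical
  let C : Subgroup Γ := G ⊓ Subgroup.centralizer (S : Set Γ)
  let D : Subgroup Γ := N ⊓ Subgroup.centralizer (S : Set Γ)
  have : Fintype C := Fintype.ofFinite _
  have : Fintype D := Fintype.ofFinite _
  have hDC : D ≤ C := inf_le_inf_right _ hNG
  obtain ⟨RG, RN, hG, hN, hcompat⟩ := solv_corr_pair (Nat.card S) G N S C D hNG hDC rfl hSG hSN
    hNn hcop hsolv rfl rfl
  obtain ⟨φ, hφ, -⟩ := hN.exU θ hinv
  obtain ⟨β, hβ⟩ := exists_irr_over hDC φ
  obtain ⟨χ, ⟨hχinv, hχ⟩, -⟩ := hG.exU' β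
  exact ⟨χ, hcompat χ θ β φ hχinv hinv hχ hφ hβ, hχinv⟩

end Cfsg.Agent.Lib.Helper2.Glaub
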