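import Mathlib
set_option autoImplicit false

/-! Data for the stabiliser of a vector of the 352-orbit of the Higman-Sims group. -/

namespace Cfsg.Agent.Lib.Helper2.HS352

/-- table of the `0`-th Moore generator -/
def tblA0 : List ℕ := [0, 21, 13, 10, 3, 12, 18, 22, 1, 6, 4, 5, 11, 14, 2, 15, 16, 17, 9, 7, 20, 8, 19, 23]
/-- table of the `1`-th Moore generator -/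
def tblA1 : List ℕ := [0, 1, 13, 18, 22, 19, 11, 9, 8, 7, 12, 6, 10, 2, 15, 14, 16, 17, 3, 5, 20, 21, 4, 23]
/-- table of the `2`-th Moore generator -/
def tblA2 : List ℕ := [0, 11, 13, 4, 3, 8, 6, 22, 5, 18, 10, 1, 21, 2, 14, 16, 15, 17, 9, 19, 20, 12, 7, 23]
/-- table of the `3`-th Moore generator -/
def tblA3 : List ℕ := [0, 21, 13, 3, 10, 19, 9, 11, 8, 6, 4, 7, 22, 2, 14, 15, 17, 16, 18, 5, 20, 1, 12, 23]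
/-- table of the `4`-th Moore generator -/
def tblA4 : List ℕ := [0, 1, 13, 7, 22, 12, 6, 3, 21, 18, 19, 11, 5, 2, 14, 15, 16, 20, 9, 10, 17, 8, 4, 23]
/-- tables of the factors of the extra generator -/
def tblQ0 : List ℕ := [9, 23, 21, 6, 10, 20, 12, 16, 8, 11, 22, 2, 0, 18, 1, 19, 13, 14, 4, 17, 7, 5, 15, 3]
def tblQ1 : List ℕ := [19, 22, 21, 1, 7, 20, 14, 15, 0, 2, 8, 4, 17, 9, 10, 16, 11, 13, 5, 18, 12, 6, 3, 23]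
def tblQ2 : List ℕ := [2, 23, 0, 5, 21, 7, 8, 18, 3, 19, 15, 20, 16, 10, 9, 14, 17, 22, 6, 1, 4, 11, 13, 12]
/-- the fifty points -/
def yvL : List (List ℤ) := [
  [4, 0, 0, 0, 0, 0, 0, 0, 0, 0, 0, 0, 0, 0, 0, 0, 0, 0, 0, 0, 0, 0, 0, 4],
  [2, 0, 2, 2, 2, 0, 0, 0, 2, 2, 0, 0, 0, 0, 0, 0, 0, 0, 0, 0, 0, 2, 0, 2],
  [2, 2, 0, 2, 0, 0, 2, 0, 2, 0, 2, 0, 0, 2, 0, 0, 0, 0, 0, 0, 0, 0, 0, 2],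
  [2, 2, 0, 0, 2, 0, 0, 0, 0, 0, 2, 0, 0, 0, 2, 0, 0, 0, 2, 0, 0, 2, 0, 2],
  [2, 0, 0, 0, 0, 0, 0, 2, 2, 0, 0, 0, 0, 2, 0, 0, 0, 0, 2, 0, 0, 2, 2, 2],
  [2, 0, 0, 2, 2, 2, 0, 0, 0, 0, 0, 0, 2, 2, 0, 0, 0, 0, 2, 0, 0, 0, 0, 2],
  [2, 2, 2, 0, 0, 0, 0, 0, 2, 0, 0, 2, 2, 0, 0, 0, 0, 0, 2, 0, 0, 0, 0, 2],
  [2, 0, 2, 0, 2, 2, 2, 0, 0, 0, 2, 2, 0, 0, 0, 0, 0, 0, 0, 0, 0, 0, 0, 2],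
  [2, 2, 2, 0, 0, 0, 2, 2, 0, 0, 0, 0, 0, 0, 0, 0, 0, 0, 0, 2, 0, 2, 0, 2],
  [2, 0, 0, 2, 0, 0, 2, 0, 0, 0, 0, 2, 0, 0, 0, 0, 0, 2, 2, 0, 0, 2, 0, 2],
  [2, 2, 0, 2, 0, 0, 0, 0, 0, 0, 0, 0, 2, 0, 0, 2, 0, 0, 0, 0, 0, 2, 2, 2],
  [2, 0, 0, 2, 0, 0, 0, 0, 0, 2, 2, 2, 2, 0, 2, 0, 0, 0, 0, 0, 0, 0, 0, 2],
  [2, 2, 0, 0, 0, 0, 0, 0, 2, 2, 0, 0, 0, 0, 2, 0, 0, 0, 0, 2, 0, 0, 2, 2],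
  [2, 0, 0, 0, 2, 0, 2, 0, 2, 0, 0, 0, 0, 0, 0, 0, 2, 0, 2, 2, 0, 0, 0, 2],
  [2, 0, 2, 0, 0, 2, 0, 2, 0, 2, 0, 0, 2, 0, 0, 0, 0, 0, 0, 0, 0, 0, 2, 2],
  [2, 0, 2, 2, 0, 0, 0, 0, 0, 0, 2, 0, 0, 0, 0, 0, 0, 0, 2, 2, 0, 0, 2, 2],
  [2, 0, 0, 2, 2, 0, 2, 2, 0, 0, 0, 0, 0, 0, 2, 0, 0, 0, 0, 0, 0, 0, 2, 2],
  [2, 2, 0, 0, 0, 2, 0, 0, 0, 2, 0, 2, 0, 2, 0, 0, 0, 0, 0, 0, 0, 2, 0, 2],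
  [2, 0, 0, 0, 0, 2, 2, 0, 2, 0, 0, 0, 2, 0, 2, 0, 0, 0, 0, 0, 0, 2, 0, 2],
  [2, 0, 0, 0, 0, 0, 2, 0, 0, 0, 0, 2, 2, 2, 0, 0, 0, 0, 0, 2, 0, 0, 2, 2],
  [2, 0, 0, 0, 2, 0, 0, 2, 0, 2, 2, 0, 0, 2, 0, 0, 0, 0, 0, 2, 0, 0, 0, 2],
  [2, 0, 0, 0, 0, 2, 0, 0, 2, 2, 2, 0, 0, 0, 0, 0, 0, 2, 2, 0, 0, 0, 0, 2],
  [2, 2, 0, 0, 2, 0, 2, 0, 0, 2, 0, 0, 2, 0, 0, 0, 0, 2, 0, 0, 0, 0, 0, 2],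
  [2, 2, 0, 2, 0, 0, 0, 2, 0, 2, 0, 0, 0, 0, 0, 0, 2, 0, 2, 0, 0, 0, 0, 2],
  [2, 0, 0, 0, 0, 0, 2, 2, 2, 2, 0, 2, 0, 0, 0, 0, 0, 0, 0, 0, 2, 0, 0, 2],
  [2, 0, 0, 0, 0, 0, 0, 0, 2, 0, 2, 2, 0, 0, 0, 2, 0, 0, 0, 2, 0, 2, 0, 2],
  [2, 2, 0, 0, 2, 2, 0, 2, 2, 0, 0, 0, 0, 0, 0, 2, 0, 0, 0, 0, 0, 0, 0, 2],
  [2, 0, 0, 0, 2, 0, 0, 2, 0, 0, 0, 2, 2, 0, 0, 0, 2, 0, 0, 0, 0, 2, 0, 2],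
  [2, 0, 0, 2, 0, 0, 0, 2, 2, 0, 0, 0, 2, 0, 0, 0, 0, 2, 0, 2, 0, 0, 0, 2],
  [2, 0, 0, 0, 0, 0, 2, 2, 0, 0, 2, 0, 2, 0, 0, 2, 0, 0, 2, 0, 0, 0, 0, 2],
  [2, 0, 0, 0, 0, 2, 0, 2, 0, 0, 0, 2, 0, 0, 2, 0, 0, 0, 2, 2, 0, 0, 0, 2],
  [2, 0, 0, 2, 0, 2, 2, 0, 0, 2, 0, 0, 0, 0, 0, 2, 0, 0, 0, 2, 0, 0, 0, 2],
  [2, 0, 0, 0, 0, 0, 0, 0, 0, 2, 0, 0, 2, 0, 0, 0, 0, 0, 2, 2, 2, 2, 0, 2],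
  [2, 0, 0, 0, 0, 0, 2, 0, 0, 2, 2, 0, 0, 0, 0, 0, 2, 0, 0, 0, 0, 2, 2, 2],
  [2, 0, 0, 2, 0, 2, 0, 0, 2, 0, 0, 2, 0, 0, 0, 0, 2, 0, 0, 0, 0, 0, 2, 2],
  [2, 0, 0, 0, 2, 0, 0, 0, 0, 2, 0, 2, 0, 0, 0, 2, 0, 0, 2, 0, 0, 0, 2, 2],
  [1, 1, 1, 1, 1, 1, 1, 1, 1, 1, 1, 1, 1, 1, 1, 1, -3, 1, 1, 1, 1, 1, 1, 1],
  [2, 2, 0, 0, 0, 0, 0, 2, 0, 0, 2, 2, 0, 0, 0, 0, 0, 2, 0, 0, 0, 0, 2, 2],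
  [2, 2, 0, 0, 0, 2, 2, 0, 0, 0, 0, 0, 0, 0, 0, 0, 0, 0, 2, 0, 2, 0, 2, 2],
  [2, 2, 0, 0, 0, 2, 0, 0, 0, 0, 2, 0, 2, 0, 0, 0, 2, 0, 0, 2, 0, 0, 0, 2],
  [2, 0, 0, 0, 2, 2, 0, 0, 0, 0, 0, 0, 0, 0, 0, 0, 0, 2, 0, 2, 0, 2, 2, 2],
  [2, 0, 0, 2, 0, 2, 0, 2, 0, 0, 2, 0, 0, 0, 0, 0, 0, 0, 0, 0, 2, 2, 0, 2],
  [1, 1, 1, 1, 1, 1, 1, 1, 1, 1, 1, 1, 1, 1, 1, 1, 1, 1, 1, 1, -3, 1, 1, 1],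
  [1, 1, 1, 1, 1, 1, 1, 1, 1, 1, 1, 1, 1, 1, 1, 1, 1, -3, 1, 1, 1, 1, 1, 1],
  [1, 1, 1, 1, 1, 1, 1, 1, 1, 1, 1, 1, 1, 1, 1, -3, 1, 1, 1, 1, 1, 1, 1, 1],
  [2, 2, 0, 2, 2, 0, 0, 0, 0, 0, 0, 2, 0, 0, 0, 0, 0, 0, 0, 2, 2, 0, 0, 2],
  [1, 1, 1, 1, 1, 1, 1, 1, 1, 1, 1, 1, 1, 1, -3, 1, 1, 1, 1, 1, 1, 1, 1, 1],
  [1, 1, 1, 1, 1, 1, 1, 1, 1, 1, 1, 1, 1, -3, 1, 1, 1, 1, 1, 1, 1, 1, 1, 1],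
  [2, 0, 0, 0, 2, 0, 0, 0, 2, 0, 2, 0, 2, 0, 0, 0, 0, 0, 0, 0, 2, 0, 2, 2],
  [1, 1, -3, 1, 1, 1, 1, 1, 1, 1, 1, 1, 1, 1, 1, 1, 1, 1, 1, 1, 1, 1, 1, 1] ]
/-- the permutations of the fifty points -/
def sgL : List (List ℕ) := [
  [0, 2, 3, 1, 12, 11, 17, 5, 4, 21, 25, 7, 8, 23, 19, 20, 15, 18, 6, 30, 16, 22, 9, 33, 38, 26, 10, 34, 37, 35, 14, 29, 24, 13, 39, 31, 36, 40, 32, 27, 28, 48, 42, 43, 44, 41, 49, 46, 45, 47],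
  [0, 4, 6, 10, 1, 15, 2, 19, 17, 9, 3, 29, 26, 34, 20, 5, 35, 8, 25, 7, 14, 28, 37, 23, 24, 18, 12, 33, 21, 11, 31, 30, 41, 27, 13, 16, 36, 22, 45, 39, 40, 32, 42, 43, 46, 38, 44, 49, 48, 47],
  [0, 5, 7, 11, 14, 1, 17, 2, 19, 22, 27, 3, 30, 31, 4, 20, 16, 6, 18, 8, 15, 21, 9, 35, 38, 39, 34, 10, 40, 33, 12, 13, 32, 29, 26, 23, 44, 37, 24, 25, 28, 48, 42, 43, 36, 45, 46, 49, 41, 47],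
  [0, 2, 1, 3, 6, 15, 4, 20, 17, 23, 10, 16, 18, 21, 19, 5, 11, 8, 12, 14, 7, 13, 33, 9, 24, 26, 25, 37, 34, 35, 30, 31, 38, 22, 28, 29, 43, 27, 32, 40, 39, 45, 42, 36, 44, 41, 46, 49, 48, 47],
  [0, 4, 8, 12, 1, 14, 17, 19, 2, 24, 26, 30, 3, 33, 5, 20, 16, 6, 18, 7, 15, 32, 38, 23, 9, 25, 10, 34, 41, 31, 11, 29, 21, 13, 27, 35, 36, 45, 22, 39, 48, 28, 43, 42, 44, 37, 46, 49, 40, 47],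
  [1, 0, 9, 13, 4, 16, 8, 7, 6, 2, 28, 31, 32, 3, 14, 15, 5, 24, 18, 36, 35, 33, 22, 23, 17, 25, 27, 26, 10, 42, 43, 11, 12, 21, 41, 20, 19, 46, 44, 47, 48, 34, 29, 30, 38, 45, 37, 39, 40, 49] ]

end Cfsg.Agent.Lib.Helper2.HS352
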