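import Mathlib
import Cfsg.Prelude.Def_Sporadic_a
import Cfsg.Agent.Lib.Helper14.LeechCo3R5b
import Cfsg.Agent.Lib.Helper14.LeechXi
import Cfsg.Agent.Lib.Helper3.Golay.TblPerm
import Cfsg.Agent.Lib.Helper2.HS352Data

set_option autoImplicit false

/-! Explicit elements of the stabiliser of the standard vector of the 352-orbit of the
Higman–Sims group, and their action on fifty of the hundred points. -/

namespace Cfsg.Agent.Lib.Helper2.HS352

open Cfsg
open Cfsg.Agent.Lib.Helper3.Golay (idx pt permOfTbl hasTbl_permOfTbl HasTbl okInv invT codeOK)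
open Cfsg.Agent.Lib.Helper14.LeechXi (xi xiPerm xiPerm_mem xiPerm_apply chk chk_sound)
open Cfsg.Agent.S1584 (permEl permEl_apply U0 WS V0)
open Cfsg.Agent.S1578 (u0)
open Cfsg.Agent.S1583 (ws)
open Cfsg.Agent.Lib.Helper14.LeechCo3R5 (Zm8)

/-- the vector with the given list of coordinates -/
def vecL (L : List ℤ) : GolayPt → ℤ := fun p => L.getD (idx p) 0

/-- the action of a permutation of the coordinates -/
def permF (π : Equiv.Perm GolayPt) (f : GolayPt → ℤ) : GolayPt → ℤ := fun i => f (π.symm i)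

set_option maxRecDepth 100000 in
theorem okA0 : okInv tblA0 (invT tblA0) = true ∧ okInv (invT tblA0) tblA0 = true ∧ codeOK tblA0 = true := by
  decide +kernel
set_option maxRecDepth 100000 in
theorem okA1 : okInv tblA1 (invT tblA1) = true ∧ okInv (invT tblA1) tblA1 = true ∧ codeOK tblA1 = true := by
  decide +kernel
set_option maxRecDepth 100000 in
theorem okA2 : okInv tblA2 (invT tblA2) = true ∧ okInv (invT tblA2) tblA2 = true ∧ codeOK tblA2 = true := by
  decide +kernel
set_option maxRecDepth 100000 in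
theorem okA3 : okInv tblA3 (invT tblA3) = true ∧ okInv (invT tblA3) tblA3 = true ∧ codeOK tblA3 = true := by
  decide +kernel
set_option maxRecDepth 100000 in
theorem okA4 : okInv tblA4 (invT tblA4) = true ∧ okInv (invT tblA4) tblA4 = true ∧ codeOK tblA4 = true := by
  decide +kernel
set_option maxRecDepth 100000 in
theorem okQ0 : okInv tblQ0 (invT tblQ0) = true ∧ okInv (invT tblQ0) tblQ0 = true ∧ codeOK tblQ0 = true := by
  decide +kernel
set_option maxRecDepth 100000 in
theorem okQ1 : okInv tblQ1 (invT tblQ1) = true ∧ okInv (invT tblQ1) tblQ1 = true ∧ codeOK tblQ1 = true := by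
  decide +kernel
set_option maxRecDepth 100000 in
theorem okQ2 : okInv tblQ2 (invT tblQ2) = true ∧ okInv (invT tblQ2) tblQ2 = true ∧ codeOK tblQ2 = true := by
  decide +kernel

/-- the permutation of a checked table -/
def pOf (T : List ℕ) (h : okInv T (invT T) = true ∧ okInv (invT T) T = true ∧ codeOK T = true) :
    Equiv.Perm GolayPt := permOfTbl T (invT T) h.1 h.2.1

theorem pOf_mem (T : List ℕ)
    (h : okInv T (invT T) = true ∧ okInv (invT T) T = true ∧ codeOK T = true) : pOf T h ∈ M24 :=
  (hasTbl_permOfTbl T (invT T) h.1 h.2.1).mem_M24 h.2.2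

/-- the element of `Co0` of a checked table -/
noncomputable def gOf (T : List ℕ)
    (h : okInv T (invT T) = true ∧ okInv (invT T) T = true ∧ codeOK T = true) : ↥Co0 :=
  permEl (pOf T h) (pOf_mem T h)

theorem coe_gOf_smul (T : List ℕ)
    (h : okInv T (invT T) = true ∧ okInv (invT T) T = true ∧ codeOK T = true) (y : ↥leechLattice) :
    ((gOf T h • y : ↥leechLattice) : GolayPt → ℤ) = permF (pOf T h) (y : GolayPt → ℤ) := by
  funext i
  exact permEl_apply _ _ y i

/-- the non-monomial element -/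
noncomputable def gXi : ↥Co0 := ⟨xiPerm, xiPerm_mem⟩

theorem coe_gXi_smul (y : ↥leechLattice) :
    ((gXi • y : ↥leechLattice) : GolayPt → ℤ) = xi (y : GolayPt → ℤ) := rfl

/-- the generators -/
noncomputable def gA0 : ↥Co0 := gOf tblA0 okA0
noncomputable def gA1 : ↥Co0 := gOf tblA1 okA1
noncomputable def gA2 : ↥Co0 := gOf tblA2 okA2
noncomputable def gA3 : ↥Co0 := gOf tblA3 okA3
noncomputable def gA4 : ↥Co0 := gOf tblA4 okA4
noncomputable def gT : ↥Co0 := gOf tblQ0 okQ0 * gXi * gOf tblQ2 okQ2 * gXi * gOf tblQ1 okQ1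

/-- the action of the last generator on coordinates -/
def tF (f : GolayPt → ℤ) : GolayPt → ℤ :=
  permF (pOf tblQ0 okQ0) (xi (permF (pOf tblQ2 okQ2) (xi (permF (pOf tblQ1 okQ1) f))))

theorem coe_gT_smul (y : ↥leechLattice) :
    ((gT • y : ↥leechLattice) : GolayPt → ℤ) = tF (y : GolayPt → ℤ) := by
  unfold gT tF
  rw [mul_smul, mul_smul, mul_smul, mul_smul, coe_gOf_smul, coe_gXi_smul, coe_gOf_smul,
    coe_gXi_smul, coe_gOf_smul]

end Cfsg.Agent.Lib.Helper2.HS352
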