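import Mathlib
import Cfsg.Prelude.Def_Sporadic_a
import Cfsg.Agent.Lib.Helper2.HS352A

set_option autoImplicit false

/-! The action of the explicit elements on the standard vectors and on the fifty points. -/

namespace Cfsg.Agent.Lib.Helper2.HS352

open Cfsg
open Cfsg.Agent.Lib.Helper3.Golay (idx pt)
open Cfsg.Agent.Lib.Helper14.LeechXi (xi chk chk_sound)
open Cfsg.Agent.S1584 (U0 WS V0)
open Cfsg.Agent.S1578 (u0)
open Cfsg.Agent.S1583 (ws)
open Cfsg.Agent.Lib.Helper14.LeechCo3R5 (Zm8)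
open Cfsg.Agent.Lib.Helper14.LeechPairs (v0)

/-- coordinates of the standard vectors -/
def u0L : List ℤ := [1, 1, 1, 1, 1, 1, 1, 1, 1, 1, 1, 1, 1, 1, 1, 1, 1, 1, 1, 1, 1, 1, 1, 5]
def wsL : List ℤ := [-5, -1, -1, -1, -1, -1, -1, -1, -1, -1, -1, -1, -1, -1, -1, -1, -1, -1, -1,
  -1, -1, -1, -1, -1]
def zm8L : List ℤ := [2, 0, 2, 0, 0, 0, 0, 0, 0, 0, 0, 0, 0, 2, 2, 2, 2, 2, 0, 0, 2, 0, 0, 0]

set_option maxRecDepth 100000 in
theorem u0_eq : ∀ i, u0 i = vecL u0L i := by decide +kernel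

set_option maxRecDepth 100000 in
theorem ws_eq : ∀ i, ws i = vecL wsL i := by decide +kernel

set_option maxRecDepth 100000 in
theorem zm8_eq : ∀ i, (Zm8 : GolayPt → ℤ) i = vecL zm8L i := by decide +kernel

/-- the action of the generators on coordinates -/
def genF : ℕ → (GolayPt → ℤ) → GolayPt → ℤ
  | 0 => permF (pOf tblA0 okA0)
  | 1 => permF (pOf tblA1 okA1)
  | 2 => permF (pOf tblA2 okA2)
  | 3 => permF (pOf tblA3 okA3)
  | 4 => permF (pOf tblA4 okA4)
  | _ => tF

set_option maxRecDepth 100000 in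
theorem fix_u0 : ∀ k < 6, ∀ i, genF k (vecL u0L) i = vecL u0L i := by decide +kernel

set_option maxRecDepth 100000 in
theorem fix_ws : ∀ k < 6, ∀ i, genF k (vecL wsL) i = vecL wsL i := by decide +kernel

set_option maxRecDepth 100000 in
theorem fix_zm8 : ∀ k < 6, ∀ i, genF k (vecL zm8L) i = vecL zm8L i := by decide +kernel

/-- the fifty points, as functions -/
def yvF (p : ℕ) : GolayPt → ℤ := vecL (yvL.getD p [])

/-- the permutations of the fifty points -/
def sg (k p : ℕ) : ℕ := (sgL.getD k []).getD p 0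

set_option maxRecDepth 100000 in
theorem act_yv : ∀ k < 6, ∀ p < 50, ∀ i, genF k (yvF p) i = yvF (sg k p) i := by decide +kernel

set_option maxRecDepth 100000 in
theorem chk_yv : ∀ p < 50, chk (yvF p) = true := by decide +kernel

set_option maxRecDepth 100000 in
theorem yv_facts : ∀ p < 50, sqNorm (yvF p) = 32 ∧ dotInt (vecL u0L) (yvF p) = 24 ∧
    dotInt (vecL wsL) (yvF p) = -24 ∧ dotInt (yvF p) (vecL zm8L) = 8 := by decide +kernel

set_option maxRecDepth 100000 in
theorem yv_inj : ∀ p < 50, ∀ q < 50, (∀ i, yvF p i = yvF q i) → p = q := by decide +kernel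

set_option maxRecDepth 100000 in
theorem sg_lt : ∀ k < 6, ∀ p < 50, sg k p < 50 := by decide +kernel

set_option maxRecDepth 100000 in
theorem yv_zero : ∀ i, yvF 0 i = v0 i := by decide +kernel

end Cfsg.Agent.Lib.Helper2.HS352
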