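import Mathlib
import Cfsg.Prelude.Def_Sporadic_a
import Cfsg.Agent.Lib.Helper2.HS352B

set_option autoImplicit false

/-! The stabiliser `K0` of the standard vector of the 352-orbit: its order and its action on fifty
points. -/

namespace Cfsg.Agent.Lib.Helper2.HS352

open Cfsg
open Cfsg.Agent.Lib.Helper3.Golay (idx pt)
open Cfsg.Agent.Lib.Helper14.LeechXi (xi chk chk_sound)
open Cfsg.Agent.Lib.Helper14.LeechCo2 (ip nrm ip_comm ip_smul nrm_smul ip_fix)
open Cfsg.Agent.S1584 (U0 WS V0)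
open Cfsg.Agent.S1578 (u0)
open Cfsg.Agent.S1583 (ws)
open Cfsg.Agent.Lib.Helper14.LeechCo3R5 (Zm8 Zm8_rel Nm8 orbitm8 Rel)
open Cfsg.Agent.Lib.Helper14.LeechPairs (v0)
open Cfsg.Agent.S0405 (G0 S100 card_G0)
open MulAction

/-- the stabiliser of the three standard vectors -/
noncomputable abbrev K0 : Subgroup ↥Co0 :=
  stabilizer ↥Co0 U0 ⊓ stabilizer ↥Co0 WS ⊓ stabilizer ↥Co0 Zm8

/-- the generators as elements of `Co0` -/
noncomputable def genG : ℕ → ↥Co0
  | 0 => gA0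
  | 1 => gA1
  | 2 => gA2
  | 3 => gA3
  | 4 => gA4
  | _ => gT

theorem coe_genG_smul (k : ℕ) (y : ↥leechLattice) :
    ((genG k • y : ↥leechLattice) : GolayPt → ℤ) = genF k (y : GolayPt → ℤ) := by
  match k with
  | 0 => exact coe_gOf_smul _ _ y
  | 1 => exact coe_gOf_smul _ _ y
  | 2 => exact coe_gOf_smul _ _ y
  | 3 => exact coe_gOf_smul _ _ y
  | 4 => exact coe_gOf_smul _ _ y
  | (n + 5) => exact coe_gT_smul y

theorem coe_U0 : (U0 : GolayPt → ℤ) = vecL u0L := funext u0_eq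
theorem coe_WS : (WS : GolayPt → ℤ) = vecL wsL := funext ws_eq
theorem coe_Zm8 : (Zm8 : GolayPt → ℤ) = vecL zm8L := funext zm8_eq

theorem genG_mem (k : ℕ) (hk : k < 6) : genG k ∈ K0 := by
  refine ⟨⟨?_, ?_⟩, ?_⟩
  · apply Subtype.ext
    rw [coe_genG_smul, coe_U0]
    exact funext (fix_u0 k hk)
  · apply Subtype.ext
    rw [coe_genG_smul, coe_WS]
    exact funext (fix_ws k hk)
  · apply Subtype.ext
    rw [coe_genG_smul, coe_Zm8]
    exact funext (fix_zm8 k hk)

/-- the fifty points -/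
noncomputable def yv (p : Fin 50) : ↥leechLattice := ⟨yvF p.val, chk_sound _ (chk_yv p.val p.2)⟩

theorem genG_smul_yv (k : ℕ) (hk : k < 6) (p : Fin 50) :
    genG k • yv p = yv ⟨sg k p.val, sg_lt k hk p.val p.2⟩ := by
  apply Subtype.ext
  rw [coe_genG_smul]
  exact funext (act_yv k hk p.val p.2)

theorem yv_injective : Function.Injective yv := by
  intro p q h
  apply Fin.ext
  apply yv_inj p.val p.2 q.val q.2
  intro i
  exact congrFun (congrArg Subtype.val h) i

/-- the set of the fifty points -/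
def Ys : Set ↥leechLattice :=
  {y | nrm y = 32 ∧ ip U0 y = 24 ∧ ip WS y = -24 ∧ ip y Zm8 = 8}

theorem yv_mem (p : Fin 50) : yv p ∈ Ys := by
  obtain ⟨h1, h2, h3, h4⟩ := yv_facts p.val p.2
  refine ⟨h1, ?_, ?_, ?_⟩
  · show dotInt (U0 : GolayPt → ℤ) (yvF p.val) = 24
    rw [coe_U0]; exact h2
  · show dotInt (WS : GolayPt → ℤ) (yvF p.val) = -24
    rw [coe_WS]; exact h3
  · show dotInt (yvF p.val) (Zm8 : GolayPt → ℤ) = 8
    rw [coe_Zm8]; exact h4

theorem ncard_Ys : Ys.ncard = 50 := by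
  have h := Set.ncard_image_of_injective {p : ↥S100 | Rel 0 2 8 p.1 Zm8}
    (f := fun p : ↥S100 => (p : ↥leechLattice)) Subtype.val_injective
  rw [Nm8] at h
  rw [← h]
  congr 1
  ext y
  simp only [Set.mem_image, Set.mem_ofPred_eq]
  constructor
  · rintro ⟨h1, h2, h3, h4⟩
    exact ⟨⟨y, h1, h2, h3⟩, ⟨Zm8_rel.1, Zm8_rel.2.1, Zm8_rel.2.2.1, h4⟩, rfl⟩
  · rintro ⟨p, hp, rfl⟩
    exact ⟨p.2.1, p.2.2.1, p.2.2.2, hp.2.2.2⟩

/-- the fifty points as a `K0`-set -/
def YS : SubMulAction ↥K0 ↥leechLattice where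
  carrier := Ys
  smul_mem' := by
    rintro g y ⟨h1, h2, h3, h4⟩
    have hU : g.1 • U0 = U0 := g.2.1.1
    have hW : g.1 • WS = WS := g.2.1.2
    have hZ : g.1 • Zm8 = Zm8 := g.2.2
    refine ⟨?_, ?_, ?_, ?_⟩
    · show nrm (g.1 • y) = 32
      rw [nrm_smul, h1]
    · show ip U0 (g.1 • y) = 24
      rw [ip_fix g.1 U0 y hU, h2]
    · show ip WS (g.1 • y) = -24
      rw [ip_fix g.1 WS y hW, h3]
    · show ip (g.1 • y) Zm8 = 8
      rw [ip_comm, ip_fix g.1 Zm8 y hZ, ip_comm, h4]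

theorem card_YS : Nat.card ↥YS = 50 := by
  rw [← ncard_Ys]
  exact Nat.card_coe_set_eq _

/-- the numbering of the fifty points -/
noncomputable def eY : Fin 50 ≃ ↥YS :=
  Equiv.ofBijective (fun p => ⟨yv p, yv_mem p⟩) (by
    have : Finite ↥YS := Nat.finite_of_card_ne_zero (by rw [card_YS]; norm_num)
    rw [Nat.bijective_iff_injective_and_card]
    refine ⟨fun p q h => yv_injective (congrArg Subtype.val h), ?_⟩
    rw [card_YS, Nat.card_eq_fintype_card, Fintype.card_fin])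

theorem eY_apply (p : Fin 50) : ((eY p : ↥YS) : ↥leechLattice) = yv p := rfl

/-- the action on the fifty points as a permutation representation -/
noncomputable def theta : ↥K0 →* Equiv.Perm (Fin 50) :=
  (eY.symm.permCongrHom : Equiv.Perm ↥YS ≃* Equiv.Perm (Fin 50)).toMonoidHom.comp
    (MulAction.toPermHom ↥K0 ↥YS)

theorem theta_apply (g : ↥K0) (p q : Fin 50) (h : g.1 • yv p = yv q) : theta g p = q := by
  show eY.symm (g • eY p) = q
  rw [Equiv.symm_apply_eq]
  apply Subtype.ext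
  show g.1 • yv p = yv q
  exact h

/-- the generators as elements of `K0` -/
noncomputable def genK (k : Fin 6) : ↥K0 := ⟨genG k.val, genG_mem k.val k.2⟩

theorem theta_genK (k : Fin 6) (p : Fin 50) :
    theta (genK k) p = ⟨sg k.val p.val, sg_lt k.val k.2 p.val p.2⟩ :=
  theta_apply _ _ _ (genG_smul_yv k.val k.2 p)

/-- the order of `K0` -/
theorem card_K0 : Nat.card ↥K0 = 126000 := by
  have h1 : Nat.card (orbit ↥G0 Zm8) = 352 := by
    rw [Nat.card_coe_set_eq]; exact orbitm8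
  have h3 := Subgroup.card_eq_card_quotient_mul_card_subgroup (stabilizer ↥G0 Zm8)
  rw [← Nat.card_congr (orbitEquivQuotientStabilizer ↥G0 Zm8), h1, card_G0] at h3
  have h4 : Nat.card ↥(stabilizer ↥G0 Zm8) = 126000 := by omega
  rw [← h4]
  refine Nat.card_congr ?_
  exact
    { toFun := fun g => ⟨⟨g.1, g.2.1⟩, g.2.2⟩
      invFun := fun h => ⟨h.1.1, ⟨h.1.2, h.2⟩⟩
      left_inv := fun g => rfl
      right_inv := fun h => rfl }

end Cfsg.Agent.Lib.Helper2.HS352
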