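import Cfsg.Agent.Lib.Helper28.TC2Upper
import Cfsg.Agent.Lib.Helper2.U35PDataC0
set_option autoImplicit false
set_option maxRecDepth 100000

namespace Cfsg.Agent.Lib.Helper2.U35PData
open Cfsg.Agent.Lib.Helper28.TC2Upper

/-- relators -/
def relT : BT (ℕ × List ℕ × List ℕ) := (BT.node 10 (BT.node 5 (BT.node 2 (BT.node 1 (BT.node 0 (BT.leaf (3, [0, 0, 0], [1, 1, 1])) (BT.leaf (2, [2, 2], [3, 3]))) (BT.leaf (2, [4, 4], [5, 5]))) (BT.node 4 (BT.node 3 (BT.leaf (2, [6, 6], [7, 7])) (BT.leaf (2, [8, 8], [9, 9]))) (BT.leaf (6, [2, 0, 2, 0, 2, 0], [1, 3, 1, 3, 1, 3])))) (BT.node 8 (BT.node 7 (BT.node 6 (BT.leaf (6, [4, 2, 4, 2, 4, 2], [3, 5, 3, 5, 3, 5])) (BT.leaf (6, [6, 4, 6, 4, 6, 4], [5, 7, 5, 7, 5, 7]))) (BT.leaf (6, [8, 6, 8, 6, 8, 6], [7, 9, 7, 9, 7, 9]))) (BT.node 9 (BT.leaf (4, [4, 0, 4, 0], [1, 5, 1, 5])) (BT.leaf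 (4, [6, 0, 6, 0], [1, 7, 1, 7]))))) (BT.node 16 (BT.node 13 (BT.node 12 (BT.node 11 (BT.leaf (4, [8, 0, 8, 0], [1, 9, 1, 9])) (BT.leaf (4, [6, 2, 6, 2], [3, 7, 3, 7]))) (BT.leaf (4, [8, 2, 8, 2], [3, 9, 3, 9]))) (BT.node 15 (BT.node 14 (BT.leaf (4, [8, 4, 8, 4], [5, 9, 5, 9])) (BT.leaf (2, [10, 10], [11, 11]))) (BT.leaf (8, [0, 6, 10, 0, 2, 6, 2, 10], [11, 3, 7, 3, 1, 11, 7, 1])))) (BT.node 19 (BT.node 18 (BT.node 17 (BT.leaf (8, [2, 8, 10, 0, 8, 0, 2, 10], [11, 3, 1, 9, 1, 11, 9, 3])) (BT.leaf (9, [4, 8, 10, 4, 10, 8, 10, 4, 10], [11, 5, 11, 9, 11, 5, 11, 9, 5]))) (BT.leaf (10, [0, 4, 10, 0, 4, 10, 4, 0, 0, 10], [11, 1, 1, 5, 11, 5, 1, 11, 5, 1]))) (BT.node 20 (BT.leaf (6, [8, 10, 2, 10, 2, 10], [11, 3, 11, 3, 11, 9])) (BT.leaf (13, [0, 2, 10, 0, 10, 8, 10, 0, 0, 2, 0, 0, 10], [11, 1, 1, 3, 1, 1, 11, 9, 11, 1,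 11, 3, 1]))))))
/-- subgroup generators -/
def subT : BT (ℕ × List ℕ × List ℕ) := (BT.node 2 (BT.node 1 (BT.node 0 (BT.leaf (1, [0], [1])) (BT.leaf (1, [2], [3]))) (BT.leaf (1, [4], [5]))) (BT.node 3 (BT.leaf (1, [6], [7])) (BT.leaf (1, [8], [9]))))
/-- fact chunks -/
def colET : BT ℕ := (BT.node 6 (BT.node 3 (BT.node 1 (BT.node 0 (BT.leaf cE0) (BT.leaf cE1)) (BT.node 2 (BT.leaf cE2) (BT.leaf cE3))) (BT.node 5 (BT.node 4 (BT.leaf cE4) (BT.leaf cE5)) (BT.leaf cE6))) (BT.node 9 (BT.node 8 (BT.node 7 (BT.leaf cE7) (BT.leaf cE8)) (BT.leaf cE9)) (BT.node 11 (BT.node 10 (BT.leaf cE10) (BT.leaf cE11)) (BT.leaf cE12))))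
/-- justification chunks -/
def colJT : BT ℕ := (BT.node 6 (BT.node 3 (BT.node 1 (BT.node 0 (BT.leaf cJ0) (BT.leaf cJ1)) (BT.node 2 (BT.leaf cJ2) (BT.leaf cJ3))) (BT.node 5 (BT.node 4 (BT.leaf cJ4) (BT.leaf cJ5)) (BT.leaf cJ6))) (BT.node 9 (BT.node 8 (BT.node 7 (BT.leaf cJ7) (BT.leaf cJ8)) (BT.leaf cJ9)) (BT.node 11 (BT.node 10 (BT.leaf cJ10) (BT.leaf cJ11)) (BT.leaf cJ12))))
/-- parent chunks -/
def parCT : BT ℕ := (BT.leaf cP0)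
/-- the certificate -/
def data : Data where
  k := 12
  N := 50
  W := 16
  MW := 65536
  B := 64
  CH := 512
  NCH := 1
  colE := colET
  JW := 64
  MJ := 18446744073709551616
  A := 1048576
  colJ := colJT
  PW := 16
  MP := 65536
  parC := parCT
  inv := (BT.node 6 (BT.node 3 (BT.node 1 (BT.node 0 (BT.leaf 1) (BT.leaf 0)) (BT.node 2 (BT.leaf 3) (BT.leaf 2))) (BT.node 5 (BT.node 4 (BT.leaf 5) (BT.leaf 4)) (BT.leaf 7))) (BT.node 9 (BT.node 8 (BT.node 7 (BT.leaf 6) (BT.leaf 9)) (BT.leaf 8)) (BT.node 11 (BT.node 10 (BT.leaf 11) (BT.leaf 10)) (BT.leaf 12))))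
  rel := relT
  sub := subT
  fuel := 4

end Cfsg.Agent.Lib.Helper2.U35PData
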