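import Mathlib
set_option autoImplicit false

namespace Cfsg.Agent.Lib.Helper2.U35PDef

/-- the generators -/
inductive Gen
  | a
  | b
  | c
  | d
  | e
  | t
  deriving DecidableEq

/-- the relators in list form -/
def relWords : List (List (Gen × Bool)) := [
  [(.a, true), (.a, true), (.a, true)],
  [(.b, true), (.b, true)],
  [(.c, true), (.c, true)],
  [(.d, true), (.d, true)],
  [(.e, true), (.e, true)],
  [(.a, true), (.b, true), (.a, true), (.b, true), (.a, true), (.b, true)],
  [(.b, true), (.c, true), (.b, true), (.c, true), (.b, true), (.c, true)],
  [(.c, true), (.d, true), (.c, true), (.d, true), (.c, true), (.d, true)],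
  [(.d, true), (.e, true), (.d, true), (.e, true), (.d, true), (.e, true)],
  [(.a, true), (.c, true), (.a, true), (.c, true)],
  [(.a, true), (.d, true), (.a, true), (.d, true)],
  [(.a, true), (.e, true), (.a, true), (.e, true)],
  [(.b, true), (.d, true), (.b, true), (.d, true)],
  [(.b, true), (.e, true), (.b, true), (.e, true)],
  [(.c, true), (.e, true), (.c, true), (.e, true)],
  [(.t, true), (.t, true)],
  [(.t, true), (.b, true), (.d, true), (.b, true), (.a, true), (.t, true), (.d, true), (.a, true)],
  [(.t, true), (.b, true), (.a, true), (.e, true), (.a, true), (.t, true), (.e, true), (.b, true)],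
  [(.t, true), (.c, true), (.t, true), (.e, true), (.t, true), (.c, true), (.t, true), (.e, true), (.c, true)],
  [(.t, true), (.a, true), (.a, true), (.c, true), (.t, true), (.c, true), (.a, true), (.t, true), (.c, true), (.a, true)],
  [(.t, true), (.b, true), (.t, true), (.b, true), (.t, true), (.e, true)],
  [(.t, true), (.a, true), (.a, true), (.b, true), (.a, true), (.a, true), (.t, true), (.e, true), (.t, true), (.a, true), (.t, true), (.b, true), (.a, true)] ]

end Cfsg.Agent.Lib.Helper2.U35PDef
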