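import Cfsg.Agent.Lib.Helper28.TC2Orbit
set_option autoImplicit false
set_option maxRecDepth 100000

namespace Cfsg.Agent.Lib.Helper2.U35PTable
open Cfsg.Agent.Lib.Helper28.TC2Upper Cfsg.Agent.Lib.Helper28.TC2Lower Cfsg.Agent.Lib.Helper28.TC2Orbit

def cT0 : ℕ := 0xbedbb1a6caeac1c6e0a247e735874e8e588a6a684959078648f5135c81d95441512cc043080
def cT1 : ℕ := 0xba9c6fc2caeab6589872475b5e68d37e89d92a035524f39119441e84415a58c2d21c80810c0
def cT2 : ℕ := 0xbf0c6c9aeaea8289ed5a440d6e979f2d584c4985e570e1d922315489a7432514c23c1286100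
def cT3 : ℕ := 0xbf0c6c9aeaea8289ed5a440d6e979f2d584c4985e570e1d922315489a7432514c23c1286100
def cT4 : ℕ := 0xbe9c6eb64aeac1c65896c5da76034c8682a29e68c954f2121905047de0db59309104e2c7140
def cT5 : ℕ := 0xbe9c6eb64aeac1c65896c5da76034c8682a29e68c954f2121905047de0db59309104e2c7140
def cT6 : ℕ := 0xbf0c6ea6c92ab67a206eb75c5a67de8e295969826134738c20b15355240a5d15043c60c1080
def cT7 : ℕ := 0xbf0c6ea6c92ab67a206eb75c5a67de8e295969826134738c20b15355240a5d15043c60c1080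
def cT8 : ℕ := 0xbe8c6e96caab7309d6b648db35574b7e988a6495e680f1d219050584379a6024d1381308100
def cT9 : ℕ := 0xbe8c6e96caab7309d6b648db35574b7e988a6495e680f1d219050584379a6024d1381308100
def cT10 : ℕ := 0xc689e5b6679d8b0becb9352954c2eba8a69b6515d68639126053ce0e07dc0861c8404349001
def cT11 : ℕ := 0xc689e5b6679d8b0becb9352954c2eba8a69b6515d68639126053ce0e07dc0861c8404349001
def cR0 : ℕ := 0xb82280a9c2a508941240a7829d087005c04642160258293024008d013428c0a2c20b022c28a042804a002820906240490024187021c046001828502141040a0c203040c0830a082020408082040408101040010a00000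
/-- table chunks -/
def colTT : BT ℕ := (BT.node 5 (BT.node 2 (BT.node 1 (BT.node 0 (BT.leaf cT0) (BT.leaf cT1)) (BT.leaf cT2)) (BT.node 4 (BT.node 3 (BT.leaf cT3) (BT.leaf cT4)) (BT.leaf cT5))) (BT.node 8 (BT.node 7 (BT.node 6 (BT.leaf cT6) (BT.leaf cT7)) (BT.leaf cT8)) (BT.node 10 (BT.node 9 (BT.leaf cT9) (BT.leaf cT10)) (BT.leaf cT11))))
/-- spanning tree chunks -/
def treeT : BT ℕ := (BT.leaf cR0)
/-- relator paths -/
def relPaths : List (List ℕ) := [[0, 0, 0], [2, 2], [4, 4], [6, 6], [8, 8], [2, 0, 2, 0, 2, 0], [4, 2, 4, 2, 4, 2], [6, 4, 6, 4, 6, 4], [8, 6, 8, 6, 8, 6], [4, 0, 4, 0], [6, 0, 6, 0], [8, 0, 8, 0], [6, 2, 6, 2], [8, 2, 8, 2], [8, 4, 8, 4], [10, 10], [0, 6, 10, 0, 2, 6, 2, 10], [2, 8, 10, 0, 8, 0, 2, 10], [4, 8, 10, 4, 10, 8, 10, 4, 10], [0, 4, 10, 0, 4, 10, 4, 0, 0, 10], [8, 10, 2, 10, 2, 10], [0, 2, 10, 0, 10, 8, 10, 0, 0, 2, 0, 0, 10]]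
/-- subgroup generator paths -/
def subPaths : List (List ℕ) := [[0], [2], [4], [6], [8]]
/-- the relator paths that are checked directly -/
def chkPaths : List (List ℕ) := [[0, 0, 0], [2, 2], [4, 4], [6, 6], [8, 8], [2, 0, 2, 0, 2, 0], [4, 2, 4, 2, 4, 2], [6, 4, 6, 4, 6, 4], [8, 6, 8, 6, 8, 6], [4, 0, 4, 0], [6, 0, 6, 0], [8, 0, 8, 0], [6, 2, 6, 2], [8, 2, 8, 2], [8, 4, 8, 4], [10, 10], [0, 6, 10, 0, 2, 6, 2, 10], [2, 8, 10, 0, 8, 0, 2, 10], [4, 8, 10, 4, 10, 8, 10, 4, 10], [0, 4, 10, 0, 4, 10, 4, 0, 0, 10], [8, 10, 2, 10, 2, 10], [0, 2, 10, 0, 10, 8, 10, 0, 0, 2, 0, 0, 10]]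
/-- the coset table -/
def table : Table where
  n := 50
  k := 12
  w := 6
  M := 64
  CH := 1024
  NCH := 1
  col := colTT
  inv := (BT.node 6 (BT.node 3 (BT.node 1 (BT.node 0 (BT.leaf 1) (BT.leaf 0)) (BT.node 2 (BT.leaf 3) (BT.leaf 2))) (BT.node 5 (BT.node 4 (BT.leaf 5) (BT.leaf 4)) (BT.leaf 7))) (BT.node 9 (BT.node 8 (BT.node 7 (BT.leaf 6) (BT.leaf 9)) (BT.leaf 8)) (BT.node 11 (BT.node 10 (BT.leaf 11) (BT.leaf 10)) (BT.leaf 12))))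
  tw := 14
  TM := 16384
  tree := treeT

end Cfsg.Agent.Lib.Helper2.U35PTable
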