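import Mathlib
import Cfsg.Agent.Lib.Helper14.U35C
import Cfsg.Agent.Lib.Helper14.U35F
import Cfsg.Agent.Lib.Helper2.U35PMain

set_option autoImplicit false

/-! The presented group `⟨a, b, c, d, e, t⟩` maps onto `PSU₃(5)`. -/

namespace Cfsg.Agent.Lib.Helper2.HS352

open Cfsg
open Cfsg.Agent.Lib.Helper14.U35
open Cfsg.Agent.Lib.Helper9.SU3Local (mat mat_mul mat_one mat_pow mat_injective)
open Cfsg.Agent.Lib.Helper2.U35PDef (Gen relWords)
open Cfsg.Agent.Lib.Helper2.U35PLink (rels)

/-- the presented group -/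
abbrev PG : Type := PresentedGroup rels

/-- the image of the last generator -/
def TmM : M3 := !![⟨1, 0⟩, ⟨4, 3⟩, ⟨0, 2⟩; ⟨4, 2⟩, ⟨3, 0⟩, ⟨4, 4⟩; ⟨0, 3⟩, ⟨4, 1⟩, ⟨0, 0⟩]

theorem det_TmM : TmM.det = 1 := by rw [Matrix.det_fin_three]; decide +kernel
theorem uni_TmM : TmM.transpose * TmM.map (fun x => x ^ 5) = 1 := by decide +kernel

def gTm : S25 := mkSU TmM det_TmM uni_TmM

/-- the matrices of the generators -/
def matGen : Gen → M3
  | .a => B0
  | .b => B1
  | .c => B2
  | .d => B3
  | .e => B4
  | .t => TmM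

/-- the images of the generators in `SU₃(5)` -/
def sGen : Gen → S25
  | .a => g0
  | .b => g1
  | .c => g2
  | .d => g3
  | .e => g4
  | .t => gTm

theorem mat_sGen (x : Gen) : mat (sGen x) = matGen x := by cases x <;> rfl

/-- the matrix of a positive word -/
def evalM (L : List (Gen × Bool)) : M3 := (L.map (fun xb => matGen xb.1)).prod

set_option maxRecDepth 100000 in
theorem rel_chk : ∀ L ∈ relWords,
    (∀ xb ∈ L, xb.2 = true) ∧ (evalM L = 1 ∨ evalM L = W1 ∨ evalM L = W1 * W1) := by
  decide +kernel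

/-- the element of `SU₃(5)` of a positive word -/
def evalS (L : List (Gen × Bool)) : S25 := (L.map (fun xb => sGen xb.1)).prod

theorem mat_evalS (L : List (Gen × Bool)) : mat (evalS L) = evalM L := by
  induction L with
  | nil => rfl
  | cons x L ih =>
    show mat (sGen x.1 * evalS L) = matGen x.1 * evalM L
    rw [mat_mul, ih, mat_sGen]

theorem evalS_mem_center (L : List (Gen × Bool)) (hL : L ∈ relWords) :
    evalS L ∈ Subgroup.center S25 := by
  rcases (rel_chk L hL).2 with h | h | h
  · have : evalS L = 1 := mat_injective (by rw [mat_evalS, h, mat_one])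
    rw [this]; exact Subgroup.one_mem _
  · have : evalS L = w1 := mat_injective (by rw [mat_evalS, h]; rfl)
    rw [this]; exact w1_mem_center
  · have : evalS L = w1 * w1 := mat_injective (by rw [mat_evalS, h, mat_mul]; rfl)
    rw [this]; exact Subgroup.mul_mem _ w1_mem_center w1_mem_center

/-- the images of the generators in `PSU₃(5)` -/
def pGen (x : Gen) : P25 := QuotientGroup.mk (sGen x)

theorem prod_cond_pos {G : Type*} [Group G] (f : Gen → G) (L : List (Gen × Bool))
    (hL : ∀ xb ∈ L, xb.2 = true) :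
    (L.map fun x => cond x.2 (f x.1) (f x.1)⁻¹).prod = (L.map fun x => f x.1).prod := by
  induction L with
  | nil => rfl
  | cons x L ih =>
    rw [List.map_cons, List.map_cons, List.prod_cons, List.prod_cons,
      ih (fun xb hxb => hL xb (List.mem_cons_of_mem _ hxb)), hL x List.mem_cons_self]
    rfl

theorem prod_pGen (L : List (Gen × Bool)) :
    (L.map fun x => pGen x.1).prod = (QuotientGroup.mk (evalS L) : P25) := by
  induction L with
  | nil => rfl
  | cons x L ih =>
    rw [List.map_cons, List.prod_cons, ih]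
    rfl

theorem lift_rel : ∀ r ∈ rels, FreeGroup.lift pGen r = 1 := by
  rintro r ⟨L, hL, rfl⟩
  rw [FreeGroup.lift_mk, prod_cond_pos pGen L (rel_chk L hL).1, prod_pGen]
  exact (QuotientGroup.eq_one_iff _).mpr (evalS_mem_center L hL)

/-- the homomorphism onto `PSU₃(5)` -/
noncomputable def toP25 : PG →* P25 := PresentedGroup.toGroup lift_rel

theorem toP25_of (x : Gen) : toP25 (PresentedGroup.of x) = pGen x :=
  PresentedGroup.toGroup.of lift_rel

end Cfsg.Agent.Lib.Helper2.HS352
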