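import Mathlib
import Cfsg.Agent.Lib.Helper2.HS352D

set_option autoImplicit false

/-! The homomorphism from the presented group onto `PSU₃(5)` is surjective. -/

namespace Cfsg.Agent.Lib.Helper2.HS352

open Cfsg
open Cfsg.Agent.Lib.Helper14.U35
open Cfsg.Agent.Lib.Helper25.Moore
open Cfsg.Agent.Lib.Helper9.SU3Local (mat mat_mul mat_one mat_pow mat_injective)
open Cfsg.Agent.Lib.Helper14 (center_eq_scalar)
open Cfsg.Agent.Lib.Helper2.U35PDef (Gen relWords)
open Cfsg.Agent.Lib.Helper2.U35PLink (rels)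

/-- the exponent of the symmetric group of degree seven divides 420 -/
theorem pow_420 (σ : Equiv.Perm (Fin 7)) : σ ^ 420 = 1 := by
  rw [← orderOf_dvd_iff_pow_eq_one, ← Equiv.Perm.lcm_cycleType]
  apply Multiset.lcm_dvd.mpr
  intro n hn
  have h1 : n ≤ σ.support.card := Equiv.Perm.le_card_support_of_mem_cycleType hn
  have h2 : σ.support.card ≤ 7 := by
    have := Finset.card_le_univ σ.support
    simpa using this
  have h3 : 2 ≤ n := Equiv.Perm.two_le_of_mem_cycleType hn
  have h4 : n ≤ 7 := h1.trans h2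
  interval_cases n <;> norm_num

/-- the copy of `A₇` in `PSU₃(5)` -/
theorem exists_A7 : ∃ A : Subgroup P25, Nat.card A = 2520 ∧ (∀ y ∈ A, y ^ 420 = 1) ∧
    A = Subgroup.closure (Set.range fun i : Fin 5 => (QuotientGroup.mk (gen i.val) : P25)) := by
  classical
  obtain ⟨e⟩ := nonempty_mulEquiv_alternatingGroup 5
  obtain ⟨φ, hφ⟩ := exists_hom_of_mooreRel _ 5 mooreRel_gen
  let ψ : alternatingGroup (Fin 7) →* P25 := φ.comp e.symm.toMonoidHom
  have : IsSimpleGroup (alternatingGroup (Fin 7)) := alternatingGroup.isSimpleGroup (by simp)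
  have hinj : Function.Injective ψ := by
    rw [← MonoidHom.ker_eq_bot_iff]
    rcases (MonoidHom.normal_ker ψ).eq_bot_or_eq_top with h | h
    · exact h
    · exfalso
      have h1 : ψ (e (PresentedGroup.of ⟨1, by norm_num⟩)) = 1 := by
        rw [← MonoidHom.mem_ker, h]; exact Subgroup.mem_top _
      have h2 : ψ (e (PresentedGroup.of ⟨1, by norm_num⟩)) = (QuotientGroup.mk (gen 1) : P25) := by
        show φ (e.symm (e _)) = _
        rw [MulEquiv.symm_apply_apply, hφ]
      rw [h2] at h1
      exact g1_not_mem_center ((QuotientGroup.eq_one_iff _).mp h1)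
  refine ⟨ψ.range, ?_, ?_, ?_⟩
  · rw [← Nat.card_congr (MonoidHom.ofInjective hinj).toEquiv]
    have h2 := nat_card_alternatingGroup (α := Fin 7)
    rw [Nat.card_eq_fintype_card (α := Fin 7), Fintype.card_fin] at h2
    rw [h2]
    decide
  · rintro _ ⟨x, rfl⟩
    rw [← map_pow]
    have : x ^ 420 = 1 := by
      apply Subtype.ext
      rw [Subgroup.coe_pow]
      exact pow_420 x.1
    rw [this, map_one]
  · have h1 : ψ.range = φ.range := by
      ext y
      constructor
      · rintro ⟨x, rfl⟩; exact ⟨e.symm x, rfl⟩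
      · rintro ⟨x, rfl⟩; exact ⟨e x, by show φ (e.symm (e x)) = _; rw [MulEquiv.symm_apply_apply]⟩
    rw [h1, MonoidHom.range_eq_map, ← PresentedGroup.closure_range_of, MonoidHom.map_closure]
    congr 1
    ext y
    constructor
    · rintro ⟨_, ⟨i, rfl⟩, rfl⟩; exact ⟨i, (hφ i).symm⟩
    · rintro ⟨i, rfl⟩; exact ⟨_, ⟨i, rfl⟩, hφ i⟩

/-- the matrix of an element of order eight -/
def UM : M3 := TmM * B1 * B3 * B2

theorem UM_pow8 : UM ^ 8 = 1 ∨ UM ^ 8 = W1 ∨ UM ^ 8 = W1 * W1 := by decide +kernel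

theorem UM_pow4 : UM ^ 4 ≠ ((UM ^ 4) 0 0) • (1 : M3) := by decide +kernel

/-- an element of order eight of the image -/
noncomputable def uS : S25 := gTm * g1 * g3 * g2

theorem mat_uS : mat uS = UM := rfl

theorem uS_pow8 : uS ^ 8 ∈ Subgroup.center S25 := by
  rcases UM_pow8 with h | h | h
  · have : uS ^ 8 = 1 := mat_injective (by rw [mat_pow, mat_uS, h, mat_one])
    rw [this]; exact Subgroup.one_mem _
  · have : uS ^ 8 = w1 := mat_injective (by rw [mat_pow, mat_uS, h]; rfl)
    rw [this]; exact w1_mem_center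
  · have : uS ^ 8 = w1 * w1 := mat_injective (by rw [mat_pow, mat_uS, h, mat_mul]; rfl)
    rw [this]; exact Subgroup.mul_mem _ w1_mem_center w1_mem_center

theorem uS_pow4 : uS ^ 4 ∉ Subgroup.center S25 := by
  intro h
  have h1 := center_eq_scalar (m := 1) card_K25' (uS ^ 4) h
  apply UM_pow4
  have h3 : ((uS ^ 4).1 : M3) = UM ^ 4 := by
    have := mat_pow uS 4
    rw [mat_uS] at this
    exact this
  rw [h3] at h1
  exact h1.trans (Matrix.smul_one_eq_diagonal _).symm

theorem uP_pow420 : (QuotientGroup.mk uS : P25) ^ 420 ≠ 1 := by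
  have h8 : (QuotientGroup.mk uS : P25) ^ 8 = 1 := by
    rw [← QuotientGroup.mk_pow]
    exact (QuotientGroup.eq_one_iff _).mpr uS_pow8
  have : (QuotientGroup.mk uS : P25) ^ 420 = (QuotientGroup.mk uS : P25) ^ 4 := by
    have e : (420 : ℕ) = 8 * 52 + 4 := by norm_num
    rw [e, pow_add, pow_mul, h8, one_pow, one_mul]
  rw [this, ← QuotientGroup.mk_pow]
  intro h
  exact uS_pow4 ((QuotientGroup.eq_one_iff _).mp h)

theorem uP_mem_range : (QuotientGroup.mk uS : P25) ∈ toP25.range := by
  refine ⟨PresentedGroup.of Gen.t * PresentedGroup.of Gen.b * PresentedGroup.of Gen.d *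
    PresentedGroup.of Gen.c, ?_⟩
  rw [map_mul, map_mul, map_mul, toP25_of, toP25_of, toP25_of, toP25_of]
  rfl

theorem toP25_surjective : Function.Surjective toP25 := by
  classical
  rw [← MonoidHom.range_eq_top]
  obtain ⟨A, hA, hexp, hAe⟩ := exists_A7
  have : Finite P25 := Nat.finite_of_card_ne_zero (by rw [card_P25]; norm_num)
  have hle : A ≤ toP25.range := by
    rw [hAe, Subgroup.closure_le]
    rintro _ ⟨i, rfl⟩
    have hi : i.val < 5 := i.2
    have key : ∀ x : Gen, pGen x ∈ toP25.range := fun x => ⟨PresentedGroup.of x, toP25_of x⟩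
    have h5 : i.val = 0 ∨ i.val = 1 ∨ i.val = 2 ∨ i.val = 3 ∨ i.val = 4 := by omega
    show (QuotientGroup.mk (gen i.val) : P25) ∈ toP25.range
    rcases h5 with h | h | h | h | h <;> rw [h]
    · exact key Gen.a
    · exact key Gen.b
    · exact key Gen.c
    · exact key Gen.d
    · exact key Gen.e
  by_contra hne
  have h50 := index_ge_fifty_psu (F := K25) card_K25 toP25.range hne
  have hAi : A.index = 50 := by
    have h3 := Subgroup.card_mul_index A
    rw [hA, card_P25] at h3
    omega
  have hdvd : toP25.range.index ∣ A.index := Subgroup.index_dvd_of_le hle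
  rw [hAi] at hdvd
  have hidx : toP25.range.index = 50 := by
    have := Nat.le_of_dvd (by norm_num) hdvd
    omega
  have hcard : Nat.card toP25.range = 2520 := by
    have h3 := Subgroup.card_mul_index toP25.range
    rw [hidx, card_P25] at h3
    omega
  have heq : A = toP25.range := by
    apply Subgroup.eq_of_le_of_card_ge hle
    rw [hA, hcard]
  exact uP_pow420 (hexp _ (heq ▸ uP_mem_range))

end Cfsg.Agent.Lib.Helper2.HS352
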