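import Mathlib
import Cfsg.Agent.Lib.Helper2.HS352E
import Cfsg.Agent.Lib.Helper5.PSUSimple

set_option autoImplicit false

/-! The presented group is isomorphic to `PSU₃(5)`, and acts faithfully on fifty points. -/

namespace Cfsg.Agent.Lib.Helper2.HS352

open Cfsg
open Cfsg.Agent.Lib.Helper14.U35
open Cfsg.Agent.Lib.Helper25.Moore
open Cfsg.Agent.Lib.Helper2.U35PDef (Gen relWords)
open Cfsg.Agent.Lib.Helper2.U35PLink (rels lw)
open Cfsg.Agent.Lib.Helper2.U35PTable (table)
open Cfsg.Agent.Lib.Helper28.TC2Lower

theorem rel_prod (L : List (Gen × Bool)) (hL : L ∈ relWords) :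
    (L.map fun x => (PresentedGroup.of x.1 : PG)).prod = 1 := by
  have h1 : FreeGroup.lift (fun x => (PresentedGroup.of x : PG)) = PresentedGroup.mk rels := by
    ext x
    simp [PresentedGroup.of]
  have h2 : PresentedGroup.mk rels (FreeGroup.mk L) = 1 :=
    PresentedGroup.one_of_mem ⟨L, hL, rfl⟩
  rw [← h1, FreeGroup.lift_mk, prod_cond_pos _ L (rel_chk L hL).1] at h2
  exact h2

/-- the Moore generators in the presented group -/
noncomputable def yP : ℕ → PG
  | 0 => PresentedGroup.of Gen.a
  | 1 => PresentedGroup.of Gen.b
  | 2 => PresentedGroup.of Gen.c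
  | 3 => PresentedGroup.of Gen.d
  | 4 => PresentedGroup.of Gen.e
  | _ => 1

theorem mooreRel_yP : MooreRel yP 5 := by
  refine ⟨fun _ => ?_, ?_, ?_, ?_⟩
  · have := rel_prod [(.a, true), (.a, true), (.a, true)] (by decide)
    simpa [yP, pow_succ, mul_assoc] using this
  · intro i h1 h2
    interval_cases i
    · have := rel_prod [(.b, true), (.b, true)] (by decide)
      simpa [yP, pow_succ, mul_assoc] using this
    · have := rel_prod [(.c, true), (.c, true)] (by decide)
      simpa [yP, pow_succ, mul_assoc] using this
    · have := rel_prod [(.d, true), (.d, true)] (by decide)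
      simpa [yP, pow_succ, mul_assoc] using this
    · have := rel_prod [(.e, true), (.e, true)] (by decide)
      simpa [yP, pow_succ, mul_assoc] using this
  · intro i h1
    have hi : i < 4 := by omega
    interval_cases i
    · have := rel_prod [(.a, true), (.b, true), (.a, true), (.b, true), (.a, true), (.b, true)]
        (by decide)
      simpa [yP, pow_succ, mul_assoc] using this
    · have := rel_prod [(.b, true), (.c, true), (.b, true), (.c, true), (.b, true), (.c, true)]
        (by decide)
      simpa [yP, pow_succ, mul_assoc] using this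
    · have := rel_prod [(.c, true), (.d, true), (.c, true), (.d, true), (.c, true), (.d, true)]
        (by decide)
      simpa [yP, pow_succ, mul_assoc] using this
    · have := rel_prod [(.d, true), (.e, true), (.d, true), (.e, true), (.d, true), (.e, true)]
        (by decide)
      simpa [yP, pow_succ, mul_assoc] using this
  · intro i j h1 h2
    have hj : j < 5 := h2
    have hi : i < 3 := by omega
    interval_cases i <;> interval_cases j <;> try omega
    · have := rel_prod [(.a, true), (.c, true), (.a, true), (.c, true)] (by decide)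
      simpa [yP, pow_succ, mul_assoc] using this
    · have := rel_prod [(.a, true), (.d, true), (.a, true), (.d, true)] (by decide)
      simpa [yP, pow_succ, mul_assoc] using this
    · have := rel_prod [(.a, true), (.e, true), (.a, true), (.e, true)] (by decide)
      simpa [yP, pow_succ, mul_assoc] using this
    · have := rel_prod [(.b, true), (.d, true), (.b, true), (.d, true)] (by decide)
      simpa [yP, pow_succ, mul_assoc] using this
    · have := rel_prod [(.b, true), (.e, true), (.b, true), (.e, true)] (by decide)
      simpa [yP, pow_succ, mul_assoc] using this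
    · have := rel_prod [(.c, true), (.e, true), (.c, true), (.e, true)] (by decide)
      simpa [yP, pow_succ, mul_assoc] using this

/-- the subgroup generated by the Moore generators -/
noncomputable abbrev HP : Subgroup PG :=
  (Subgroup.closure Cfsg.Agent.Lib.Helper2.U35PLink.S).map (PresentedGroup.mk rels)

theorem card_HP_le : Finite HP ∧ Nat.card HP ≤ 2520 := by
  classical
  obtain ⟨e⟩ := nonempty_mulEquiv_alternatingGroup 5
  obtain ⟨ψ, hψ⟩ := exists_hom_of_mooreRel yP 5 mooreRel_yP
  have hfin : Finite (MooreGroup 5) := Finite.of_equiv _ e.symm.toEquiv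
  have hcard : Nat.card (MooreGroup 5) = 2520 := by
    rw [Nat.card_congr e.toEquiv]
    have h2 := nat_card_alternatingGroup (α := Fin 7)
    rw [Nat.card_eq_fintype_card (α := Fin 7), Fintype.card_fin] at h2
    rw [h2]
    decide
  have hfr : Finite ψ.range := Finite.of_surjective ψ.rangeRestrict ψ.rangeRestrict_surjective
  have hr : Nat.card ψ.range ≤ 2520 := by
    rw [← hcard]
    exact Nat.card_le_card_of_surjective ψ.rangeRestrict ψ.rangeRestrict_surjective
  have hle : HP ≤ ψ.range := by
    show (Subgroup.closure Cfsg.Agent.Lib.Helper2.U35PLink.S).map (PresentedGroup.mk rels) ≤ ψ.range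
    rw [MonoidHom.map_closure, Subgroup.closure_le]
    rintro _ ⟨s, hs, rfl⟩
    simp only [Cfsg.Agent.Lib.Helper2.U35PLink.S, Set.mem_insert_iff, Set.mem_singleton_iff] at hs
    rcases hs with rfl | rfl | rfl | rfl | rfl
    · exact ⟨PresentedGroup.of ⟨0, by norm_num⟩, hψ _⟩
    · exact ⟨PresentedGroup.of ⟨1, by norm_num⟩, hψ _⟩
    · exact ⟨PresentedGroup.of ⟨2, by norm_num⟩, hψ _⟩
    · exact ⟨PresentedGroup.of ⟨3, by norm_num⟩, hψ _⟩
    · exact ⟨PresentedGroup.of ⟨4, by norm_num⟩, hψ _⟩
  have hfH : Finite HP := Finite.of_injective (Subgroup.inclusion hle) (Subgroup.inclusion_injective hle)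
  exact ⟨hfH, (Subgroup.card_le_of_le hle).trans hr⟩

theorem index_HP : HP.index = 50 := Cfsg.Agent.Lib.Helper2.U35PMain.main.1

theorem finite_PG : Finite PG ∧ Nat.card PG ≤ 126000 := by
  obtain ⟨hf, hc⟩ := card_HP_le
  have h3 := Subgroup.card_mul_index HP
  rw [index_HP] at h3
  have hpos : 0 < Nat.card HP := Nat.card_pos
  refine ⟨Nat.finite_of_card_ne_zero (by omega), by omega⟩

theorem toP25_bijective : Function.Bijective toP25 := by
  obtain ⟨hf, hc⟩ := finite_PG
  have hge : Nat.card P25 ≤ Nat.card PG := Nat.card_le_card_of_surjective toP25 toP25_surjective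
  rw [card_P25] at hge
  rw [Nat.bijective_iff_surjective_and_card]
  exact ⟨toP25_surjective, by rw [card_P25]; omega⟩

/-- the presented group is `PSU₃(5)` -/
noncomputable def eP : PG ≃* P25 := MulEquiv.ofBijective toP25 toP25_bijective

theorem card_PG : Nat.card PG = 126000 := by
  rw [Nat.card_congr eP.toEquiv, card_P25]

instance simple_P25 : IsSimpleGroup P25 :=
  Cfsg.Agent.Lib.Helper5.PSUSimple.isSimpleGroup_PSU card_K25' le_rfl (by norm_num)

instance simple_PG : IsSimpleGroup PG := eP.isSimpleGroup

/-- the generators, numbered -/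
def genOf : Fin 6 → Gen
  | 0 => .a
  | 1 => .b
  | 2 => .c
  | 3 => .d
  | 4 => .e
  | 5 => .t

/-- the images of the points under the generators, from the coset table -/
noncomputable def tauG (k : Fin 6) (p : ℕ) : ℕ := table.tau (lw (genOf k, true)) p

end Cfsg.Agent.Lib.Helper2.HS352
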