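import Mathlib
import Cfsg.Agent.Lib.Helper2.HS352C
import Cfsg.Agent.Lib.Helper2.HS352F

set_option autoImplicit false

/-! The stabiliser `K0` is isomorphic to `PSU₃(5)`. -/

namespace Cfsg.Agent.Lib.Helper2.HS352

open Cfsg
open Cfsg.Agent.Lib.Helper14.U35
open Cfsg.Agent.Lib.Helper2.U35PDef (Gen relWords)
open Cfsg.Agent.Lib.Helper2.U35PLink (rels lw)
open Cfsg.Agent.Lib.Helper2.U35PTable (table)
open Cfsg.Agent.Lib.Helper2.U35PMain (hT)
open Cfsg.Agent.Lib.Helper28.TC2Lower

set_option maxRecDepth 100000 in
theorem tauG_eq : ∀ k : Fin 6, ∀ p < 50, tauG k p = sg k.val p := by decide +kernel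

theorem lw_lt (k : Fin 6) : lw (genOf k, true) < table.k := by
  revert k; decide

/-- a group of order `N` acting on a finite set, whose image contains the image of a faithful
action of another group of order `N`, is isomorphic to the latter -/
theorem nonempty_mulEquiv_of_range_le {K P X : Type*} [Group K] [Group P] [Group X]
    (N : ℕ) (hN : N ≠ 0) (hK : Nat.card K = N) (hP : Nat.card P = N)
    (θ : K →* X) (φ : P →* X) (hφ : Function.Injective φ) (hle : φ.range ≤ θ.range) :
    Nonempty (K ≃* P) := by
  have hKf : Finite K := Nat.finite_of_card_ne_zero (by rw [hK]; exact hN)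
  have hPf : Finite P := Nat.finite_of_card_ne_zero (by rw [hP]; exact hN)
  have hfr : Finite θ.range := Finite.of_surjective θ.rangeRestrict θ.rangeRestrict_surjective
  have h1 : Nat.card φ.range = N := by
    rw [← Nat.card_congr (MonoidHom.ofInjective hφ).toEquiv, hP]
  have h2 : Nat.card θ.range ≤ N := by
    rw [← hK]
    exact Nat.card_le_card_of_surjective θ.rangeRestrict θ.rangeRestrict_surjective
  have h3 : Nat.card φ.range ≤ Nat.card θ.range := Subgroup.card_le_of_le hle
  have h4 : Nat.card θ.range = N := by omega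
  have heq : φ.range = θ.range := Subgroup.eq_of_le_of_card_ge hle (by rw [h1, h4])
  have hbij : Function.Bijective θ.rangeRestrict := by
    rw [Nat.bijective_iff_surjective_and_card]
    exact ⟨θ.rangeRestrict_surjective, by rw [hK, h4]⟩
  have e1 : K ≃* θ.range := MulEquiv.ofBijective θ.rangeRestrict hbij
  have e2 : P ≃* φ.range := MonoidHom.ofInjective hφ
  exact ⟨e1.trans ((MulEquiv.subgroupCongr heq).symm.trans e2.symm)⟩

theorem lw_lt' (x : Gen) : lw (x, true) < table.k := by
  cases x <;> decide

/-- the permutation representation of the presented group on fifty points -/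
theorem main50 : ∃ φ : PG →* Equiv.Perm (Fin 50),
    ∀ (x : Gen) (p : Fin 50), (φ (PresentedGroup.of x) p).val = table.tau (lw (x, true)) p.val := by
  obtain ⟨-, φ, hφ, -⟩ := Cfsg.Agent.Lib.Helper2.U35PMain.main
  refine ⟨φ, fun x p => ?_⟩
  have e : φ (PresentedGroup.of x) = Table.sigma hT (lw (x, true)) := hφ x
  exact (congrArg (fun σ : Equiv.Perm (Fin table.n) => (σ p).val) e).trans
    (Table.sigma_apply hT (lw_lt' x) p)

/-- the stabiliser of the standard triple is `PSU₃(5)` over the model field -/
theorem nonempty_K0_P25 : Nonempty (↥K0 ≃* P25) := by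
  obtain ⟨φ, hφ⟩ := main50
  -- the values of `φ` on the generators
  have hval : ∀ (k : Fin 6) (p : Fin 50), φ (PresentedGroup.of (genOf k)) p = theta (genK k) p := by
    intro k p
    rw [theta_genK]
    apply Fin.ext
    rw [hφ]
    exact tauG_eq k p.val p.2
  -- `φ` is injective
  have hinj : Function.Injective φ := by
    rw [← MonoidHom.ker_eq_bot_iff]
    rcases (MonoidHom.normal_ker φ).eq_bot_or_eq_top with h | h
    · exact h
    · exfalso
      have h1 : φ (PresentedGroup.of (genOf 5)) = 1 := by
        rw [← MonoidHom.mem_ker, h]; exact Subgroup.mem_top _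
      have h2 := hval 5 0
      rw [h1, theta_genK] at h2
      have h3 := congrArg Fin.val h2
      revert h3
      decide
  -- the image of `φ` lies in the image of `theta`
  have hle : φ.range ≤ theta.range := by
    rw [MonoidHom.range_eq_map, ← PresentedGroup.closure_range_of, MonoidHom.map_closure,
      Subgroup.closure_le]
    rintro _ ⟨_, ⟨x, rfl⟩, rfl⟩
    have hx : ∃ k : Fin 6, genOf k = x := by
      cases x
      · exact ⟨0, rfl⟩
      · exact ⟨1, rfl⟩
      · exact ⟨2, rfl⟩
      · exact ⟨3, rfl⟩
      · exact ⟨4, rfl⟩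
      · exact ⟨5, rfl⟩
    obtain ⟨k, rfl⟩ := hx
    refine ⟨genK k, ?_⟩
    ext p
    rw [hval k p]
  obtain ⟨e⟩ := nonempty_mulEquiv_of_range_le 126000 (by norm_num) card_K0 card_PG theta φ hinj hle
  exact ⟨e.trans eP⟩

end Cfsg.Agent.Lib.Helper2.HS352
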