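import Mathlib
import Cfsg.Agent.S1641
import Cfsg.Agent.Lib.Helper2.HS352G
import Cfsg.Agent.Lib.Helper19.SUCongr

set_option autoImplicit false

/-! The Higman–Sims group `Stab(v, w)` on the 352 vectors `x` with `x · x = 32`, `v · x = 16`,
`w · x = -24`: transitivity and the stabiliser. -/

namespace Cfsg.Agent.Lib.Helper2.HS352

open Cfsg
open Cfsg.Agent.Lib.Helper14.Golay Cfsg.Agent.Lib.Helper14.Leech
  Cfsg.Agent.Lib.Helper14.LeechOrbit Cfsg.Agent.Lib.Helper14.LeechHS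
  Cfsg.Agent.Lib.Helper14.LeechMcL Cfsg.Agent.Lib.Helper14.LeechCo2
  Cfsg.Agent.Lib.Helper14.LeechCo3R5 Cfsg.Agent.Lib.Helper14.Co0Center
  Cfsg.Agent.Lib.Helper14.LeechPairs
open Cfsg.Agent.S1578 (u0 u0_mem u0_norm dot_u0)
open Cfsg.Agent.S1583 (ws ws_mem ws_norm dot_u0_ws dot_ws)
open Cfsg.Agent.S1584 (U0 WS V0)
open Cfsg.Agent.S0403 (smul_sub' coe_sub')
open Cfsg.Agent.S1634 (smul_add' coe_add')
open Cfsg.Agent.S1641 (X negT0_mem WS_eq orbit_transport eq_union5 smul_neg' coe_neg' nrm_neg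
  ip_neg_right ip_neg_left)
open Cfsg.Agent.Lib.Helper14.U35 (K25 P25 card_K25)
open MulAction

local notation "HG" => Cfsg.Agent.S0405.G0

/-- the 352 vectors -/
def XS (v w : ↥leechLattice) : Set ↥leechLattice := {x | nrm x = 32 ∧ ip v x = 16 ∧ ip w x = -24}

/-- the members of the 11178 points with inner product `-8` with the base point form one orbit -/
theorem mem_orbit_m8 (u x : ↥leechLattice) (hx : x ∈ X u) (hX : (X u).ncard = 11178)
    (k : ↥Co0) (hku : k • u = U0) (hkx : k • x = -T0) (y : ↥leechLattice) (hy : y ∈ X u)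
    (hxy : ip x y = -8) :
    y ∈ orbit ↥(stabilizer ↥Co0 u ⊓ stabilizer ↥Co0 x) (k⁻¹ • (-Zm8)) := by
  have hmem : ∀ Z : ↥leechLattice, nrm Z = 32 → ip U0 Z = 16 → k⁻¹ • (-Z) ∈ X u := by
    intro Z h1 h2
    refine ⟨by rw [nrm_smul, nrm_neg, h1], ?_⟩
    rw [ip_comm, ip_inv_smul, hku, ip_neg_left, ip_comm, h2]
  have hval : ∀ Z : ↥leechLattice, ip x (k⁻¹ • (-Z)) = ip T0 Z := by
    intro Z
    rw [ip_comm, ip_inv_smul, hkx, ip_neg_left, ip_neg_right, neg_neg, ip_comm]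
  have hsub : ∀ y ∈ X u, ∀ c : ℤ, ip x y = c →
      orbit ↥(stabilizer ↥Co0 u ⊓ stabilizer ↥Co0 x) y ⊆ X u ∧
      ∀ a ∈ orbit ↥(stabilizer ↥Co0 u ⊓ stabilizer ↥Co0 x) y, ip x a = c := by
    intro y hy c hc
    refine ⟨?_, ?_⟩
    · rintro _ ⟨⟨h, hh⟩, rfl⟩
      have hhu : h • u = u := hh.1
      show nrm (h • y) = 32 ∧ ip u (h • y) = -16
      exact ⟨by rw [nrm_smul]; exact hy.1, by rw [ip_fix h u y hhu]; exact hy.2⟩
    · rintro _ ⟨⟨h, hh⟩, rfl⟩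
      have hhx : h • x = x := hh.2
      show ip x (h • y) = c
      rw [ip_fix h x y hhx, hc]
  have m1 := hmem Zm8 Zm8_rel.1 Zm8_rel.2.1
  have m2 := hmem Z16 Z16_rel.1 Z16_rel.2.1
  have m3 := hmem Z0 Z0_rel.1 Z0_rel.2.1
  have m4 := hmem Z8 Z8_rel.1 Z8_rel.2.1
  have o1 := orbit_transport u x k hku hkx Zm8
  have o2 := orbit_transport u x k hku hkx Z16
  have o3 := orbit_transport u x k hku hkx Z0
  have o4 := orbit_transport u x k hku hkx Z8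
  rw [orbitm8] at o1
  rw [orbit16] at o2
  rw [orbit0] at o3
  rw [orbit8] at o4
  have v1 : ip x (k⁻¹ • (-Zm8)) = -8 := by rw [hval, Zm8_rel.2.2.1]; norm_num
  have v2 : ip x (k⁻¹ • (-Z16)) = 16 := by rw [hval, Z16_rel.2.2.1]; norm_num
  have v3 : ip x (k⁻¹ • (-Z0)) = 0 := by rw [hval, Z0_rel.2.2.1]; norm_num
  have v4 : ip x (k⁻¹ • (-Z8)) = 8 := by rw [hval, Z8_rel.2.2.1]; norm_num
  obtain ⟨s1, t1⟩ := hsub _ m1 _ v1
  obtain ⟨s2, t2⟩ := hsub _ m2 _ v2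
  obtain ⟨s3, t3⟩ := hsub _ m3 _ v3
  obtain ⟨s4, t4⟩ := hsub _ m4 _ v4
  have hfin : (X u).Finite := Set.finite_of_ncard_ne_zero (by rw [hX]; norm_num)
  have hxx : ip x x = 32 := by rw [ip_self]; exact hx.1
  have hU : X u = {x} ∪ orbit ↥(stabilizer ↥Co0 u ⊓ stabilizer ↥Co0 x) (k⁻¹ • (-Zm8)) ∪
      orbit ↥(stabilizer ↥Co0 u ⊓ stabilizer ↥Co0 x) (k⁻¹ • (-Z16)) ∪
      orbit ↥(stabilizer ↥Co0 u ⊓ stabilizer ↥Co0 x) (k⁻¹ • (-Z0)) ∪
      orbit ↥(stabilizer ↥Co0 u ⊓ stabilizer ↥Co0 x) (k⁻¹ • (-Z8)) := by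
    refine eq_union5 (fun a => ip x a) (X u) {x} _ _ _ _ hfin ?_ s1 s2 s3 s4 32 (-8) 16 0 8 ?_
      t1 t2 t3 t4 (by norm_num) ?_
    · intro a ha
      rw [Set.mem_singleton_iff] at ha
      rw [ha]; exact hx
    · intro a ha
      rw [Set.mem_singleton_iff] at ha
      rw [ha]
      exact hxx
    · rw [Set.ncard_singleton, o1, o2, o3, o4, hX]
  rw [hU] at hy
  rcases hy with (((hy | hy) | hy) | hy) | hy
  · rw [Set.mem_singleton_iff] at hy
    rw [hy, hxx] at hxy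
    norm_num at hxy
  · exact hy
  · rw [t2 y hy] at hxy; norm_num at hxy
  · rw [t3 y hy] at hxy; norm_num at hxy
  · rw [t4 y hy] at hxy; norm_num at hxy

theorem ip_U0_WS : ip U0 WS = -32 := dot_u0_ws

theorem ip_T0_left (z : ↥leechLattice) : ip T0 z = ip U0 z + ip WS z := by
  rw [T0_eq, ip_add_left]

theorem Zm8_mem : Zm8 ∈ XS U0 WS := by
  refine ⟨Zm8_rel.1, Zm8_rel.2.1, ?_⟩
  have h := Zm8_rel.2.2.1
  rw [ip_T0_left, Zm8_rel.2.1] at h
  linarith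

theorem XS_smul (g : ↥HG) (z : ↥leechLattice) (hz : z ∈ XS U0 WS) : g.1 • z ∈ XS U0 WS := by
  obtain ⟨h1, h2, h3⟩ := hz
  refine ⟨by rw [nrm_smul, h1], ?_, ?_⟩
  · rw [ip_fix g.1 U0 z g.2.1, h2]
  · rw [ip_fix g.1 WS z g.2.2, h3]

/-- the 352 vectors in standard position form the orbit of `Zm8` -/
theorem XS_std_eq : XS U0 WS = orbit ↥HG Zm8 := by
  ext z
  constructor
  · intro hz
    obtain ⟨h1, h2, h3⟩ := hz
    have hX := (Cfsg.Agent.S1640.result U0 u0_norm).1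
    have hy : -z ∈ X U0 := by
      refine ⟨by rw [nrm_neg, h1], ?_⟩
      rw [ip_neg_right, h2]
    have hxy : ip (-T0) (-z) = -8 := by
      rw [ip_neg_left, ip_neg_right, neg_neg, ip_T0_left, h2, h3]; norm_num
    have hk1 : (1 : ↥Co0) • U0 = U0 := one_smul _ _
    have hk2 : (1 : ↥Co0) • (-T0) = -T0 := one_smul _ _
    have hmem := mem_orbit_m8 U0 (-T0) negT0_mem hX 1 hk1 hk2 (-z) hy hxy
    rw [inv_one, one_smul] at hmem
    obtain ⟨⟨h, hh⟩, he⟩ := hmem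
    have hhU : h • U0 = U0 := hh.1
    have hhT' : h • (-T0) = -T0 := hh.2
    have hhT : h • T0 = T0 := by
      rw [smul_neg'] at hhT'
      exact neg_injective hhT'
    have hhW : h • WS = WS := by rw [WS_eq, smul_sub', hhT, hhU]
    have he' : h • (-Zm8) = -z := he
    rw [smul_neg'] at he'
    exact ⟨⟨h, hhU, hhW⟩, neg_injective he'⟩
  · rintro ⟨g, rfl⟩
    exact XS_smul g Zm8 Zm8_mem

theorem ncard_XS_std : (XS U0 WS).ncard = 352 := by
  rw [XS_std_eq]; exact orbitm8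

/-- moving a triple to the standard triple -/
theorem exists_std3 (v w x : ↥leechLattice) (hv : nrm v = 48) (hw : nrm w = 48)
    (hvw : ip v w = -32) (hx : x ∈ XS v w) :
    ∃ k : ↥Co0, k • v = U0 ∧ k • w = WS ∧ k • x = Zm8 := by
  obtain ⟨k, hkv, hkw⟩ := pair_move v w U0 WS hv hw hvw u0_norm ws_norm dot_u0_ws
  have hkx : k • x ∈ XS U0 WS := by
    obtain ⟨h1, h2, h3⟩ := hx
    refine ⟨by rw [nrm_smul, h1], ?_, ?_⟩
    · rw [← hkv, ip_smul, h2]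
    · rw [← hkw, ip_smul, h3]
  rw [XS_std_eq] at hkx
  obtain ⟨g, hg⟩ := hkx
  have hg' : g.1 • Zm8 = k • x := hg
  refine ⟨g.1⁻¹ * k, ?_, ?_, ?_⟩
  · rw [mul_smul, hkv, inv_smul_eq_iff, g.2.1]
  · rw [mul_smul, hkw, inv_smul_eq_iff, g.2.2]
  · rw [mul_smul, inv_smul_eq_iff, hg']

/-- conjugation between triple stabilisers -/
def conjEquiv3 {Γ : Type*} [Group Γ] {α : Type*} [MulAction Γ α] (k : Γ)
    (a a' b b' c c' : α) (ha : k • a = a') (hb : k • b = b') (hc : k • c = c') :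
    ↥(stabilizer Γ a ⊓ stabilizer Γ b ⊓ stabilizer Γ c) ≃*
      ↥(stabilizer Γ a' ⊓ stabilizer Γ b' ⊓ stabilizer Γ c') where
  toFun g := ⟨k * g.1 * k⁻¹, by
    have h1 : g.1 • a = a := g.2.1.1
    have h2 : g.1 • b = b := g.2.1.2
    have h3 : g.1 • c = c := g.2.2
    refine ⟨⟨?_, ?_⟩, ?_⟩
    · show (k * g.1 * k⁻¹) • a' = a'
      rw [← ha, mul_smul, mul_smul, inv_smul_smul, h1]
    · show (k * g.1 * k⁻¹) • b' = b'
      rw [← hb, mul_smul, mul_smul, inv_smul_smul, h2]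
    · show (k * g.1 * k⁻¹) • c' = c'
      rw [← hc, mul_smul, mul_smul, inv_smul_smul, h3]⟩
  invFun g := ⟨k⁻¹ * g.1 * k, by
    have h1 : g.1 • a' = a' := g.2.1.1
    have h2 : g.1 • b' = b' := g.2.1.2
    have h3 : g.1 • c' = c' := g.2.2
    refine ⟨⟨?_, ?_⟩, ?_⟩
    · show (k⁻¹ * g.1 * k) • a = a
      rw [mul_smul, mul_smul, ha, h1, ← ha, inv_smul_smul]
    · show (k⁻¹ * g.1 * k) • b = b
      rw [mul_smul, mul_smul, hb, h2, ← hb, inv_smul_smul]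
    · show (k⁻¹ * g.1 * k) • c = c
      rw [mul_smul, mul_smul, hc, h3, ← hc, inv_smul_smul]⟩
  left_inv g := Subtype.ext (by simp [mul_assoc])
  right_inv g := Subtype.ext (by simp [mul_assoc])
  map_mul' g h := Subtype.ext (by simp [mul_assoc])

/-- the statement, in terms of `nrm` and `ip` -/
theorem main (v w : ↥leechLattice) (hv : nrm v = 48) (hw : nrm w = 48) (hvw : ip v w = -32)
    (F : Type) [Field F] [Fintype F] (hF : Fintype.card F = 25) :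
    (XS v w).ncard = 352 ∧ (∀ x ∈ XS v w, -w - x ∈ XS v w) ∧
    (∀ x ∈ XS v w, ∀ x' ∈ XS v w, ∃ g : ↥Co0, g • v = v ∧ g • w = w ∧ g • x = x') ∧
    ∀ x ∈ XS v w, Nonempty (↥(stabilizer ↥Co0 v ⊓ stabilizer ↥Co0 w ⊓ stabilizer ↥Co0 x) ≃*
      Cfsg.PSU 3 F 5) := by
  obtain ⟨k, hkv, hkw⟩ := pair_move v w U0 WS hv hw hvw u0_norm ws_norm dot_u0_ws
  have hiff : ∀ x : ↥leechLattice, x ∈ XS v w ↔ k • x ∈ XS U0 WS := by
    intro x
    constructor
    · rintro ⟨h1, h2, h3⟩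
      refine ⟨by rw [nrm_smul, h1], ?_, ?_⟩
      · rw [← hkv, ip_smul, h2]
      · rw [← hkw, ip_smul, h3]
    · rintro ⟨h1, h2, h3⟩
      rw [nrm_smul] at h1
      rw [← hkv, ip_smul] at h2
      rw [← hkw, ip_smul] at h3
      exact ⟨h1, h2, h3⟩
  refine ⟨?_, ?_, ?_, ?_⟩
  · rw [← ncard_XS_std, ← Set.ncard_image_of_injective (XS v w) (MulAction.injective k)]
    congr 1
    ext z
    constructor
    · rintro ⟨x, hx, rfl⟩; exact (hiff x).mp hx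
    · intro hz
      refine ⟨k⁻¹ • z, (hiff _).mpr ?_, smul_inv_smul k z⟩
      rw [smul_inv_smul]; exact hz
  · rintro x ⟨h1, h2, h3⟩
    have e : -w - x = -(w + x) := by abel
    refine ⟨?_, ?_, ?_⟩
    · rw [e, nrm_neg, nrm_add, hw, h1, h3]; norm_num
    · rw [e, ip_neg_right, ip_add_right, hvw, h2]; norm_num
    · rw [e, ip_neg_right, ip_add_right, ip_self, hw, h3]; norm_num
  · intro x hx x' hx'
    obtain ⟨k1, a1, b1, c1⟩ := exists_std3 v w x hv hw hvw hx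
    obtain ⟨k2, a2, b2, c2⟩ := exists_std3 v w x' hv hw hvw hx'
    refine ⟨k2⁻¹ * k1, ?_, ?_, ?_⟩
    · rw [mul_smul, a1, inv_smul_eq_iff, a2]
    · rw [mul_smul, b1, inv_smul_eq_iff, b2]
    · rw [mul_smul, c1, inv_smul_eq_iff, c2]
  · intro x hx
    obtain ⟨k1, a1, b1, c1⟩ := exists_std3 v w x hv hw hvw hx
    obtain ⟨e⟩ := nonempty_K0_P25
    let φ : K25 ≃+* F := FiniteField.ringEquivOfCardEq (by rw [card_K25, hF])
    let e2 : Cfsg.PSU 3 K25 5 ≃* Cfsg.PSU 3 F 5 := Cfsg.Agent.Lib.Helper19.SUCongr.psuCongr φ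
    exact ⟨((conjEquiv3 k1 v U0 w WS x Zm8 a1 b1 c1).trans e).trans e2⟩

end Cfsg.Agent.Lib.Helper2.HS352
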