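/-
helper2: S3928 leaf K (glue), core version against leaf J (`card_le_bd2`) as an explicit
hypothesis.  Planner helper25, `notes/S3928_plan.md`.
-/
import Cfsg.Agent.Lib.Helper25.InvAutDefs

set_option autoImplicit false

universe u

namespace Cfsg.Agent.Lib.Helper2.IAKCore

open Cfsg.Agent.Lib.Helper25.InvAut

/-- the statement of LEAF J, for groups in `Type u` -/
def LeafJ : Prop :=
  ∀ {K : Type u} [Group K] [Finite K] (S : Finset K)
    (_hS : Subgroup.closure (S : Set K) = ⊤) (m : ℕ) (_hm : S.card ≤ m)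
    (_hord : ∀ s ∈ S, orderOf s ≤ m) (N₀ : Subgroup K) [N₀.Normal]
    (_hN : ∀ n ∈ N₀, ∀ g : K, n * g * n⁻¹ * g⁻¹ ∈ Subgroup.center K) (B : ℕ)
    (_hB : N₀.index ≤ B), Nat.card K ≤ bd2 m B

variable {H : Type u} [Group H]

/-- inverse of an element of `JJ a` -/
theorem inv_mem_JJ {a x : H} (hx : x ∈ JJ a) : x⁻¹ ∈ JJ a := by
  refine ⟨by rw [orderOf_inv]; exact hx.1, ?_⟩
  rw [← conj_inv, hx.2]

/-- powers of an element of `JJ a` -/
theorem pow_mem_JJ {a x : H} (hx : x ∈ JJ a) (i : ℕ) : x ^ i ∈ JJ a := by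
  refine ⟨?_, ?_⟩
  · have hd : orderOf (x ^ i) ∣ orderOf x := orderOf_pow_dvd i
    exact Odd.of_dvd_nat hx.1 hd
  · have h1 : a * x ^ i * a⁻¹ = (a * x * a⁻¹) ^ i := by
      rw [conj_pow]
    rw [h1, hx.2, inv_pow]

/-- conjugation by `a` preserves `JJ a` -/
theorem conj_mem_JJ {a x : H} (hx : x ∈ JJ a) : a * x * a⁻¹ ∈ JJ a := by
  rw [hx.2]
  exact inv_mem_JJ hx

theorem orderOf_le_card_JJ [Finite H] {a x : H} (hx : x ∈ JJ a) :
    orderOf x ≤ Nat.card (JJ a) := by
  classical
  have hpos : 0 < orderOf x := orderOf_pos x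
  let f : Fin (orderOf x) → JJ a := fun i => ⟨x ^ (i : ℕ), pow_mem_JJ hx i⟩
  have hf : Function.Injective f := by
    intro i j hij
    have h1 : x ^ (i : ℕ) = x ^ (j : ℕ) := congrArg Subtype.val hij
    have := pow_injOn_Iio_orderOf (x := x) (by simp) (by simp) h1
    exact Fin.ext this
  have := Nat.card_le_card_of_injective f hf
  simpa using this

/-- `G₀ = ⟨J⟩` -/
abbrev G0 (a : H) : Subgroup H := Subgroup.closure (JJ a)

theorem conjA_mem_G0 {a : H} : ∀ g ∈ G0 a, a * g * a⁻¹ ∈ G0 a := by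
  intro g hg
  induction hg using Subgroup.closure_induction with
  | mem x hx => exact Subgroup.subset_closure (conj_mem_JJ hx)
  | one => simp
  | mul x y _ _ hx hy =>
    have : a * (x * y) * a⁻¹ = (a * x * a⁻¹) * (a * y * a⁻¹) := by group
    rw [this]
    exact mul_mem hx hy
  | inv x _ hx =>
    rw [← conj_inv]
    exact inv_mem hx

theorem G0_normal {a : H} (h : IsPair a)
    (hgen : Subgroup.closure (insert a (JJ a)) = ⊤) : (G0 a).Normal := by
  have hle : Subgroup.closure (insert a (JJ a)) ≤ Subgroup.normalizer (G0 a : Set H) := by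
    rw [Subgroup.closure_le]
    intro g hg
    rcases hg with rfl | hg
    · rw [SetLike.mem_coe, Subgroup.mem_normalizer_iff]
      intro k
      refine ⟨fun hk => conjA_mem_G0 k hk, fun hk => ?_⟩
      have h2 := conjA_mem_G0 _ hk
      have h3 : g * (g * k * g⁻¹) * g⁻¹ = (g * g) * k * (g * g)⁻¹ := by group
      rw [h3, h.sq] at h2
      simpa using h2
    · exact Subgroup.le_normalizer (Subgroup.subset_closure hg)
  rw [hgen] at hle
  exact Subgroup.normalizer_eq_top_iff.1 (top_le_iff.1 hle)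

theorem index_G0_le [Finite H] {a : H} (h : IsPair a)
    (hgen : Subgroup.closure (insert a (JJ a)) = ⊤) : (G0 a).index ≤ 2 := by
  have := G0_normal h hgen
  have key : ∀ g : H, (QuotientGroup.mk g : H ⧸ G0 a) = 1 ∨
      (QuotientGroup.mk g : H ⧸ G0 a) = QuotientGroup.mk a := by
    intro g
    have hg : g ∈ Subgroup.closure (insert a (JJ a)) := by rw [hgen]; trivial
    have haa : (QuotientGroup.mk a : H ⧸ G0 a) * QuotientGroup.mk a = 1 := by
      rw [← QuotientGroup.mk_mul, h.sq]; rfl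
    induction hg using Subgroup.closure_induction with
    | mem x hx =>
      rcases hx with rfl | hx
      · right; rfl
      · left
        exact (QuotientGroup.eq_one_iff x).2 (Subgroup.subset_closure hx)
    | one => left; rfl
    | mul x y _ _ hx hy =>
      rw [QuotientGroup.mk_mul]
      rcases hx with hx | hx <;> rcases hy with hy | hy <;> rw [hx, hy]
      · left; simp
      · right; simp
      · right; simp
      · left; exact haa
    | inv x _ hx =>
      rw [QuotientGroup.mk_inv]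
      rcases hx with hx | hx <;> rw [hx]
      · left; simp
      · right
        exact inv_eq_of_mul_eq_one_left haa
  have hsub : (Set.univ : Set (H ⧸ G0 a)) ⊆ {1, QuotientGroup.mk a} := by
    intro q _
    induction q using QuotientGroup.induction_on with
    | H g =>
      rcases key g with hg | hg
      · left; exact hg
      · right; exact hg
  have h1 := Set.ncard_le_ncard hsub (Set.toFinite _)
  have h2 : ({1, QuotientGroup.mk a} : Set (H ⧸ G0 a)).ncard ≤ 2 := by
    refine le_trans (Set.ncard_insert_le _ _) ?_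
    simp
  rw [Set.ncard_univ] at h1
  exact le_trans h1 h2

/-- `[N, H] ≤ P` from `[N, a] ≤ P` (the conjugates of `a` generate `H`) -/
theorem comm_mem_of_pair {a : H} (h : IsPair a) (N P : Subgroup H) [N.Normal] [P.Normal]
    (hNa : ∀ n ∈ N, n * a * n⁻¹ * a⁻¹ ∈ P) :
    ∀ g : H, ∀ n ∈ N, n * g * n⁻¹ * g⁻¹ ∈ P := by
  intro g
  have hg : g ∈ Subgroup.normalClosure ({a} : Set H) := by rw [h.gen]; trivial
  unfold Subgroup.normalClosure at hg
  induction hg using Subgroup.closure_induction with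
  | mem x hx =>
    rw [Group.mem_conjugatesOfSet_iff] at hx
    obtain ⟨b, hb, hbx⟩ := hx
    rw [Set.mem_singleton_iff] at hb
    subst hb
    rw [isConj_iff] at hbx
    obtain ⟨c, rfl⟩ := hbx
    intro n hn
    have hn' : c⁻¹ * n * c ∈ N := by
      have := ‹N.Normal›.conj_mem n hn c⁻¹
      simpa using this
    have h1 := hNa _ hn'
    have h2 := ‹P.Normal›.conj_mem _ h1 c
    have : c * (c⁻¹ * n * c * b * (c⁻¹ * n * c)⁻¹ * b⁻¹) * c⁻¹ =
        n * (c * b * c⁻¹) * n⁻¹ * (c * b * c⁻¹)⁻¹ := by group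
    rw [this] at h2
    exact h2
  | one => intro n _; simp
  | mul x y _ _ hx hy =>
    intro n hn
    have h1 := hx n hn
    have h2 := ‹P.Normal›.conj_mem _ (hy n hn) x
    have : n * (x * y) * n⁻¹ * (x * y)⁻¹ =
        (n * x * n⁻¹ * x⁻¹) * (x * (n * y * n⁻¹ * y⁻¹) * x⁻¹) := by group
    rw [this]
    exact mul_mem h1 h2
  | inv x _ hx =>
    intro n hn
    have h1 := inv_mem (hx n hn)
    have h2 := ‹P.Normal›.conj_mem _ h1 x⁻¹
    have : n * x⁻¹ * n⁻¹ * x⁻¹⁻¹ = x⁻¹ * (n * x * n⁻¹ * x⁻¹)⁻¹ * x⁻¹⁻¹ := by group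
    rw [this]
    exact h2

/-- LEAF K against LEAF J as a hypothesis. -/
theorem card_le_of_almost_central_of (hJ : LeafJ.{u}) [Finite H] {a : H} (h : IsPair a)
    (hgen : Subgroup.closure (insert a (JJ a)) = ⊤) (N P : Subgroup H) [N.Normal] [P.Normal]
    (hNa : ∀ n ∈ N, n * a * n⁻¹ * a⁻¹ ∈ P)
    (hPJ : ∀ x ∈ JJ a, ∀ u ∈ P, u * x = x * u) (B : ℕ) (hB : N.index ≤ B) :
    Nat.card H ≤ 2 * bd2 (Nat.card (JJ a)) B := by
  classical
  have hnorm := G0_normal h hgen
  have hidx := index_G0_le h hgen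
  have hNH := comm_mem_of_pair h N P hNa
  -- `P` centralizes `G₀`
  have hPG : ∀ u ∈ P, ∀ g ∈ G0 a, u * g = g * u := by
    intro u hu g hg
    have hle : G0 a ≤ Subgroup.centralizer ({u} : Set H) := by
      rw [Subgroup.closure_le]
      intro x hx
      rw [SetLike.mem_coe, Subgroup.mem_centralizer_iff]
      intro v hv
      rw [Set.mem_singleton_iff] at hv
      subst hv
      exact hPJ x hx v hu
    have := hle hg
    rw [Subgroup.mem_centralizer_iff] at this
    exact this u rfl
  -- the generating set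
  letI : Fintype ↥(G0 a) := Fintype.ofFinite _
  let S : Finset ↥(G0 a) := Finset.univ.filter (fun k => (k : H) ∈ JJ a)
  have hSmem : ∀ k : ↥(G0 a), k ∈ S ↔ (k : H) ∈ JJ a := by
    intro k; simp [S]
  have hScoe : (S : Set ↥(G0 a)) = Subtype.val ⁻¹' (JJ a) := by
    ext k
    simp [S]
  have hS : Subgroup.closure (S : Set ↥(G0 a)) = ⊤ := by
    rw [hScoe]
    exact Subgroup.closure_closure_coe_preimage
  have hcard : S.card ≤ Nat.card (JJ a) := by
    let f : S → JJ a := fun k => ⟨(k : ↥(G0 a)), (hSmem k).1 k.2⟩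
    have hf : Function.Injective f := by
      intro k k' hkk
      have : ((k : ↥(G0 a)) : H) = ((k' : ↥(G0 a)) : H) :=
        congrArg (fun z : JJ a => (z : H)) hkk
      exact Subtype.ext (Subtype.ext this)
    have := Nat.card_le_card_of_injective f hf
    simpa using this
  have hord : ∀ s ∈ S, orderOf s ≤ Nat.card (JJ a) := by
    intro s hs
    rw [← Subgroup.orderOf_coe]
    exact orderOf_le_card_JJ ((hSmem s).1 hs)
  -- the normal subgroup
  have hN0idx : (N.subgroupOf (G0 a)).index ≤ B := by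
    have hd : N.relIndex (G0 a) ∣ N.index := Subgroup.relIndex_dvd_index_of_normal N (G0 a)
    have hpos : 0 < N.index := Nat.pos_of_ne_zero Subgroup.index_ne_zero_of_finite
    exact le_trans (Nat.le_of_dvd hpos hd) hB
  have hN0 : ∀ n ∈ N.subgroupOf (G0 a), ∀ g : ↥(G0 a),
      n * g * n⁻¹ * g⁻¹ ∈ Subgroup.center ↥(G0 a) := by
    intro n hn g
    rw [Subgroup.mem_subgroupOf] at hn
    have hP : ((n * g * n⁻¹ * g⁻¹ : ↥(G0 a)) : H) ∈ P := by
      have := hNH (g : H) (n : H) hn
      simpa using this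
    rw [Subgroup.mem_center_iff]
    intro k
    apply Subtype.ext
    have := hPG _ hP (k : H) k.2
    simpa using this.symm
  have hK := hJ S hS (Nat.card (JJ a)) hcard hord (N.subgroupOf (G0 a)) hN0 B hN0idx
  have hmul := Subgroup.card_mul_index (G0 a)
  calc Nat.card H = Nat.card ↥(G0 a) * (G0 a).index := hmul.symm
    _ ≤ bd2 (Nat.card (JJ a)) B * 2 := Nat.mul_le_mul hK hidx
    _ = 2 * bd2 (Nat.card (JJ a)) B := Nat.mul_comm _ _

end Cfsg.Agent.Lib.Helper2.IAKCore
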