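/-
helper2: S3928 leaf K `card_le_of_almost_central` (planner helper25, notes/S3928_leaves.lean):
glue in `G₀ = ⟨J⟩` (index at most 2), using helper16's leaf J `card_le_bd2`.
-/
import Cfsg.Agent.Lib.Helper2.IAKCore
import Cfsg.Agent.Lib.Helper16.IAJ

set_option autoImplicit false

namespace Cfsg.Agent.Lib.Helper2.IAK

open Cfsg.Agent.Lib.Helper25.InvAut

/-- LEAF K (glue). -/
theorem card_le_of_almost_central {H : Type*} [Group H] [Finite H] {a : H} (h : IsPair a)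
    (hgen : Subgroup.closure (insert a (JJ a)) = ⊤) (N P : Subgroup H) [N.Normal] [P.Normal]
    (hPN : P ≤ N) (hNa : ∀ n ∈ N, n * a * n⁻¹ * a⁻¹ ∈ P)
    (hPJ : ∀ x ∈ JJ a, ∀ u ∈ P, u * x = x * u) (B : ℕ) (hB : N.index ≤ B) :
    Nat.card H ≤ 2 * bd2 (Nat.card (JJ a)) B := by
  have _ := hPN
  exact Cfsg.Agent.Lib.Helper2.IAKCore.card_le_of_almost_central_of
    (fun S hS m hm hord N₀ _ hN B hB =>
      Cfsg.Agent.Lib.Helper16.IAJ.card_le_bd2 S hS m hm hord N₀ hN B hB)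
    h hgen N P hNa hPJ B hB

end Cfsg.Agent.Lib.Helper2.IAK
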