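import Mathlib
import Cfsg.Agent.Lib.Helper2.DihedralIso

/-!
# Isolated involutions in a Sylow 2-subgroup (helper2 library)
-/

set_option autoImplicit false

namespace Cfsg.Agent.Lib.Helper2

section Iso

variable {G : Type*} [Group G]

/-- two involutions whose product has 2-power order generate a 2-group -/
theorem isPGroup_closure_pair {u w : G} (hu : orderOf u = 2) (hw : orderOf w = 2) {k : ℕ}
    (h : orderOf (u * w) = 2 ^ k) : IsPGroup 2 ↥(Subgroup.closure ({u, w} : Set G)) := by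
  apply IsPGroup.of_card (n := k + 1)
  rw [card_closure_pair hu hw, h, pow_succ, mul_comm]

theorem orderOf_mul_invol_comm {s t : G} (hs : orderOf s = 2) (ht : orderOf t = 2) :
    orderOf (s * t) = orderOf (t * s) := by
  have : s * t = (t * s)⁻¹ := by
    rw [mul_inv_rev, invol_inv hs, invol_inv ht]
  rw [this, orderOf_inv]

/-- If `u` is an involution of the Sylow 2-subgroup `P` with no other conjugate in `P`, then
any 2-subgroup containing `u` contains no other conjugate of `u`. -/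
theorem isolated_in_pgroup [Finite G] (P : Sylow 2 G) (u : G)
    (hiso : ∀ g : G, g * u * g⁻¹ ∈ P → g * u * g⁻¹ = u)
    (Q : Subgroup G) (hQ : IsPGroup 2 Q) (huQ : u ∈ Q) (k : G) (hk : k * u * k⁻¹ ∈ Q) :
    k * u * k⁻¹ = u := by
  have : Fact (Nat.Prime 2) := ⟨Nat.prime_two⟩
  obtain ⟨P', hP'⟩ := hQ.exists_le_sylow
  obtain ⟨h, hh⟩ := MulAction.exists_smul_eq G P' P
  have hmem : ∀ x : G, x ∈ Q → h * x * h⁻¹ ∈ P := by
    intro x hx
    have h1 : x ∈ (P' : Subgroup G) := hP' hx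
    have h2 := Subgroup.smul_mem_pointwise_smul x (MulAut.conj h) (P' : Subgroup G) h1
    rw [← Sylow.coe_subgroup_smul, hh, MulAut.smul_def, MulAut.conj_apply] at h2
    exact h2
  have h1 := hiso h (hmem u huQ)
  have h2 : h * (k * u * k⁻¹) * h⁻¹ = (h * k) * u * (h * k)⁻¹ := by group
  have h3 := hmem _ hk
  rw [h2] at h3
  have h4 := hiso (h * k) h3
  have h6 : h * (k * u * k⁻¹) * h⁻¹ = h * u * h⁻¹ := by rw [h2, h4, h1]
  have h5 := mul_right_cancel h6
  exact mul_left_cancel h5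

/-- `x * (ρ^m * x) = (ρ^m)⁻¹` -/
theorem dih_x_mul_refl {x y : G} (hx : x * x = 1) (hy : y * y = 1) (m : ℕ) :
    x * ((x * y) ^ m * x) = ((x * y) ^ m)⁻¹ := by
  have h := dih_x_mul_zpow hx hy (m : ℤ)
  rw [zpow_natCast, zpow_neg, zpow_natCast] at h
  rw [← mul_assoc, h, mul_assoc, hx, mul_one]

/-- odd powers times `x` are conjugates of `y` -/
theorem dih_odd_refl_conj {x y : G} (hx : x * x = 1) (hy : y * y = 1) (j : ℕ) :
    (x * y) ^ (2 * j + 1) * x = (x * y) ^ (j + 1) * y * ((x * y) ^ (j + 1))⁻¹ := by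
  have hy' := dih_y_eq' hx hy
  have h1 : (x * y) ^ (j + 1) * y * ((x * y) ^ (j + 1))⁻¹
      = (x * y) ^ ((j : ℤ) + 1) * ((x * y) ^ (-1 : ℤ) * x) * (x * y) ^ (-((j : ℤ) + 1)) := by
    have e1 : (x * y) ^ (j + 1) = (x * y) ^ ((j : ℤ) + 1) := by
      have := zpow_natCast (x * y) (j + 1)
      rw [← this]; norm_cast
    rw [← hy', zpow_neg, e1]
  rw [h1, mul_assoc, mul_assoc, dih_x_mul_zpow hx hy, neg_neg, ← mul_assoc, ← mul_assoc,
    ← zpow_add, ← zpow_add]
  have : ((j : ℤ) + 1 + -1 + ((j : ℤ) + 1)) = ((2 * j + 1 : ℕ) : ℤ) := by push_cast; ring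
  rw [this, zpow_natCast]

/-- An isolated involution `u` of a Sylow 2-subgroup: `u * v` has odd order for each conjugate
`v` of `u`. -/
theorem isolated_odd_order [Finite G] (P : Sylow 2 G) (u : G) (hu : orderOf u = 2)
    (hiso : ∀ g : G, g * u * g⁻¹ ∈ P → g * u * g⁻¹ = u) (g : G) :
    Odd (orderOf (u * (g * u * g⁻¹))) := by
  by_contra hnodd
  have heven : Even (orderOf (u * (g * u * g⁻¹))) := Nat.not_odd_iff_even.mp hnodd
  set v := g * u * g⁻¹ with hv
  have hv2 : orderOf v = 2 := orderOf_conj_two g hu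
  have hx := invol_mul_self hu
  have hy := invol_mul_self hv2
  have hn0 : orderOf (u * v) ≠ 0 := (orderOf_pos _).ne'
  obtain ⟨a, m, hm, hnm⟩ := Nat.exists_eq_two_pow_mul_odd hn0
  have ha : a ≠ 0 := by
    rintro rfl
    rw [pow_zero, one_mul] at hnm
    rw [hnm] at hnodd
    exact hnodd hm
  obtain ⟨j, hj⟩ := hm
  have hm0 : m ≠ 0 := by omega
  -- the reflection w
  set w := (u * v) ^ m * u with hw
  have hwconj : w = ((u * v) ^ (j + 1) * g) * u * ((u * v) ^ (j + 1) * g)⁻¹ := by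
    rw [hw, hj, dih_odd_refl_conj hx hy j, hv]
    group
  have hw2 : orderOf w = 2 := by rw [hwconj]; exact orderOf_conj_two _ hu
  have huw : orderOf (u * w) = 2 ^ a := by
    rw [hw, dih_x_mul_refl hx hy, orderOf_inv, orderOf_pow' _ hm0, hnm]
    have : Nat.gcd (2 ^ a * m) m = m := by
      rw [Nat.gcd_comm]; exact Nat.gcd_eq_left (Dvd.intro_left _ rfl)
    rw [this]
    exact Nat.mul_div_cancel _ (Nat.pos_of_ne_zero hm0)
  have hQ := isPGroup_closure_pair hu hw2 huw
  have huQ : u ∈ Subgroup.closure ({u, w} : Set G) := Subgroup.subset_closure (by simp)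
  have hwQ : w ∈ Subgroup.closure ({u, w} : Set G) := Subgroup.subset_closure (by simp)
  have hwQ' : ((u * v) ^ (j + 1) * g) * u * ((u * v) ^ (j + 1) * g)⁻¹ ∈
      Subgroup.closure ({u, w} : Set G) := by rw [← hwconj]; exact hwQ
  have := isolated_in_pgroup P u hiso _ hQ huQ _ hwQ'
  rw [← hwconj, hw] at this
  have h1 : (u * v) ^ m = 1 := by
    have := congrArg (fun z => z * u⁻¹) this
    simpa using this
  have h2 := orderOf_dvd_of_pow_eq_one h1
  rw [hnm] at h2
  have h3 := Nat.le_of_dvd (Nat.pos_of_ne_zero hm0) h2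
  have h4 : 2 ^ a ≥ 2 := by
    calc 2 ^ a ≥ 2 ^ 1 := Nat.pow_le_pow_right (by norm_num) (Nat.pos_of_ne_zero ha)
      _ = 2 := by norm_num
  have h6 : 2 * m ≤ 2 ^ a * m := Nat.mul_le_mul_right m h4
  omega

/-- An isolated involution `t` of a Sylow 2-subgroup and any involution `s`: the order of
`t * s` is not divisible by 4. -/
theorem isolated_not_four_dvd [Finite G] (P : Sylow 2 G) (t : G) (ht : orderOf t = 2)
    (hiso : ∀ g : G, g * t * g⁻¹ ∈ P → g * t * g⁻¹ = t) (s : G) (hs : orderOf s = 2) :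
    ¬ 4 ∣ orderOf (t * s) := by
  intro h4
  have hx := invol_mul_self ht
  have hy := invol_mul_self hs
  have hn0 : orderOf (t * s) ≠ 0 := (orderOf_pos _).ne'
  obtain ⟨a, m, hm, hnm⟩ := Nat.exists_eq_two_pow_mul_odd hn0
  have hm0 : m ≠ 0 := by
    rintro rfl
    simp at hm
  have ha : 2 ≤ a := by
    by_contra hlt
    have : a = 0 ∨ a = 1 := by omega
    obtain ⟨j, hj⟩ := hm
    rcases this with rfl | rfl <;> rw [hnm] at h4 <;> omega
  -- w = ρ^m t ρ^-m = ρ^(2m) t
  set w := (t * s) ^ m * t * ((t * s) ^ m)⁻¹ with hw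
  have hw' : w = (t * s) ^ (2 * m) * t := by
    have := dih_rot_conj_x hx hy (m : ℤ)
    rw [zpow_natCast] at this
    rw [hw, this]
    congr 1
    exact_mod_cast zpow_natCast (t * s) (2 * m)
  have hw2 : orderOf w = 2 := orderOf_conj_two _ ht
  have h2m0 : 2 * m ≠ 0 := by omega
  have htw : orderOf (t * w) = 2 ^ (a - 1) := by
    rw [hw', dih_x_mul_refl hx hy, orderOf_inv, orderOf_pow' _ h2m0, hnm]
    have e : 2 ^ a * m = 2 ^ (a - 1) * (2 * m) := by
      have : 2 ^ a = 2 ^ (a - 1) * 2 := by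
        rw [← pow_succ]; congr 1; omega
      rw [this]; ring
    have : Nat.gcd (2 ^ a * m) (2 * m) = 2 * m := by
      rw [e, Nat.gcd_comm]; exact Nat.gcd_eq_left (Dvd.intro_left _ rfl)
    rw [this, e]
    exact Nat.mul_div_cancel _ (Nat.pos_of_ne_zero h2m0)
  have hQ := isPGroup_closure_pair ht hw2 htw
  have htQ : t ∈ Subgroup.closure ({t, w} : Set G) := Subgroup.subset_closure (by simp)
  have hwQ : w ∈ Subgroup.closure ({t, w} : Set G) := Subgroup.subset_closure (by simp)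
  have := isolated_in_pgroup P t hiso _ hQ htQ _ hwQ
  rw [← hw, hw'] at this
  have h1 : (t * s) ^ (2 * m) = 1 := by
    have := congrArg (fun z => z * t⁻¹) this
    simpa using this
  have h2 := orderOf_dvd_of_pow_eq_one h1
  rw [hnm] at h2
  have h3 := Nat.le_of_dvd (Nat.pos_of_ne_zero h2m0) h2
  have h5 : 2 ^ a ≥ 4 := by
    calc 2 ^ a ≥ 2 ^ 2 := Nat.pow_le_pow_right (by norm_num) ha
      _ = 4 := by norm_num
  have h6 : 4 * m ≤ 2 ^ a * m := Nat.mul_le_mul_right m h5
  omega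

end Iso

end Cfsg.Agent.Lib.Helper2
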