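import Mathlib
import Cfsg.Prelude.Def_BlockRank
import Cfsg.Prelude.Def_BrauerPairs
import Cfsg.Agent.S4637
import Cfsg.Agent.S4687
import Cfsg.Agent.S4669
import Cfsg.Agent.Lib.Helper23.PairIndB
import Cfsg.Agent.Lib.Helper24.KleinSC
import Cfsg.Agent.Lib.Helper14.KleinE13
import Cfsg.Agent.Lib.Helper5.KleinPISTAB

/-!
helper2: S4648 market leaf **NIL** `isNilpotentBlock_of_small` (planner helper1, `notes/S4648_leaves.lean`).

A block `B` with `l(B) = 1` whose defect group `D` has order `k(B) ≤ 4` is nilpotent.  Route: a maximal Brauer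
pair `(D, f)` at the defect group (helper23 `PairInd`), S4687 (`D` abelian: nilpotent iff the inertial group
`T = N_G(D, f)` centralizes `D`), and the cases `|D| = 1, 2` (no automorphisms), `|D| = 3` (if some `t ∈ T`
inverts `D` then Brauer's count (helper24 `KleinSC.card_block_eq_sum_orbits`) with S4669 gives `k(B) = 2`),
`D` cyclic of order 4 (an element of `T` outside `C_G(D)` has its square in `C_G(D)`, against
`2 ∤ |T : C_G(D)|`, helper6 `StabIndex.not_dvd_of_isDefectGroup`), `D` a four-group (S4637: `l(B) = |T : C_G(D)|`).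
-/

set_option autoImplicit false

namespace Cfsg.Agent.Lib.Helper2.K4NIL

open Cfsg

universe u

section group

variable {G : Type u} [Group G]

/-- A `p`-group of order at most four is abelian. -/
theorem comm_of_card_le_four [Finite G] (p : ℕ) [hpp : Fact p.Prime] (D : Subgroup G) (hDp : IsPGroup p D)
    (h4 : Nat.card D ≤ 4) : ∀ x ∈ D, ∀ y ∈ D, x * y = y * x := by
  have hp : p.Prime := hpp.out
  obtain ⟨d, hd⟩ := IsPGroup.iff_card.mp hDp
  have hcomm : ∀ a b : D, a * b = b * a := by
    have hd2 : d ≤ 2 := by
      by_contra hcon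
      have h3 : 3 ≤ d := by omega
      have h8 : 2 ^ 3 ≤ p ^ d :=
        (Nat.pow_le_pow_left hp.two_le 3).trans (Nat.pow_le_pow_right hp.pos h3)
      omega
    interval_cases d
    · rw [pow_zero] at hd
      have : Subsingleton D := (Nat.card_eq_one_iff_unique.mp hd).1
      intro a b
      rw [Subsingleton.elim a b]
    · rw [pow_one] at hd
      have hc : IsCyclic D := isCyclic_of_prime_card hd
      intro a b
      exact (IsCyclic.commGroup (α := D)).mul_comm a b
    · intro a b
      exact (IsPGroup.isMulCommutative_of_card_eq_prime_sq hd).is_comm.comm a b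
  intro x hx y hy
  exact congrArg Subtype.val (hcomm ⟨x, hx⟩ ⟨y, hy⟩)

/-- Conjugation by an element of the normalizer. -/
theorem conj_mem_of_mem_normalizer (D : Subgroup G) {t : G} (ht : t ∈ Subgroup.normalizer (D : Set G))
    {y : G} (hy : y ∈ D) : t * y * t⁻¹ ∈ D :=
  (Subgroup.mem_normalizer_iff.mp ht y).mp hy

/-- An element commuting with a generator centralizes. -/
theorem mem_centralizer_of_zpowers (D : Subgroup G) (g t : G) (hD : D = Subgroup.zpowers g)
    (h : t * g * t⁻¹ = g) : t ∈ Subgroup.centralizer (D : Set G) := by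
  rw [Subgroup.mem_centralizer_iff]
  intro y hy
  rw [SetLike.mem_coe, hD, Subgroup.mem_zpowers_iff] at hy
  obtain ⟨k, rfl⟩ := hy
  have hc : Commute t g := by
    have : t * g = g * t := by
      calc t * g = t * g * t⁻¹ * t := by group
        _ = g * t := by rw [h]
    exact this
  exact ((hc.zpow_right k).eq).symm

end group

section inertial

variable {G : Type u} [Group G] [Fintype G] {M : Ideal AlgInt} {p : ℕ} [hpp : Fact p.Prime]

/-- The inertial index of a block with an abelian defect group is prime to `p`; the inertial quotient embeds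
into the automorphism group of the defect group. -/
theorem inertial_abelian (hM : IsPModular p M) (B : Set (IrrCharacter G))
    (P : Subgroup G) (hPD : IsDefectGroup p M B P) (hab : ∀ x ∈ P, ∀ y ∈ P, x * y = y * x)
    (c : Set (IrrCharacter (Subgroup.centralizer (P : Set G))))
    (hc : IsInducedBlock M (Subgroup.centralizer (P : Set G)) c B) (T : Subgroup G)
    (hT : ∀ g : G, g ∈ T ↔ (g ∈ Subgroup.normalizer (P : Set G) ∧
      StabilizesBlock (Subgroup.centralizer (P : Set G)) c g)) :
    ¬ p ∣ (Subgroup.centralizer (P : Set G)).relIndex T ∧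
      ∀ (q : ℕ) (t : G), q.Prime → t ∈ T → t ∉ Subgroup.centralizer (P : Set G) →
        t ^ q ∈ Subgroup.centralizer (P : Set G) →
          q ∣ (Subgroup.centralizer (P : Set G)).relIndex T := by
  classical
  have hPp : IsPGroup p P := Cfsg.Agent.Lib.Helper6.ExtFirstMain.isPGroup_of_isDefectGroup hPD
  have hPC : P ≤ Subgroup.centralizer (P : Set G) := by
    intro a ha
    rw [Subgroup.mem_centralizer_iff]
    intro b hb
    exact hab b hb a ha
  have hCN : Subgroup.centralizer (P : Set G) ≤ Subgroup.normalizer (P : Set G) :=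
    Subgroup.centralizer_le_normalizer _
  have hNN : Subgroup.normalizer (P : Set G) ≤
      Subgroup.normalizer ((Subgroup.centralizer (P : Set G) : Subgroup G) : Set G) := by
    have h := Cfsg.Agent.Lib.Helper6.ExtFirstMain.normalizer_le_normalizer_sup_centralizer P
    rwa [sup_eq_right.mpr hPC] at h
  have hcP : Cfsg.IsDefectGroup p M c (P.subgroupOf (Subgroup.centralizer (P : Set G))) :=
    Cfsg.Agent.Lib.Helper6.ExtFirstMain.isDefectGroup_of_induced hM B P hPD _ hPC hCN c hc
  have hT' : ∀ g : G, g ∈ T ↔ (g ∈ Subgroup.normalizer (P : Set G) ∧ ∀ θ ∈ c,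
      ∀ θ' : Cfsg.IrrCharacter (Subgroup.centralizer (P : Set G)),
        (∀ h h' : Subgroup.centralizer (P : Set G), (h' : G) = g * h * g⁻¹ →
          (θ' : Subgroup.centralizer (P : Set G) → ℂ) h' =
            (θ : Subgroup.centralizer (P : Set G) → ℂ) h) → θ' ∈ c) := by
    intro g
    rw [hT]
    constructor
    · rintro ⟨hgN, hgC, hstab⟩
      refine ⟨hgN, ?_⟩
      intro θ hθ θ' hθ'
      obtain ⟨χ', hχ', hconj⟩ := hstab θ hθ
      have e1 := Cfsg.Agent.Lib.Helper24.eq_conjIrr_of_isConjCharOf _ g hgC θ χ' hconj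
      have e2 := Cfsg.Agent.Lib.Helper24.eq_conjIrr_of_isConjCharOf _ g hgC θ θ' hθ'
      rw [e2, ← e1]
      exact hχ'
    · rintro ⟨hgN, hall⟩
      refine ⟨hgN, hNN hgN, ?_⟩
      intro χ hχ
      refine ⟨Cfsg.Agent.Lib.Helper24.conjIrr _ g (hNN hgN) χ, ?_,
        Cfsg.Agent.Lib.Helper24.isConjCharOf_conjIrr _ g (hNN hgN) χ⟩
      exact hall χ hχ _ (Cfsg.Agent.Lib.Helper24.isConjCharOf_conjIrr _ g (hNN hgN) χ)
  have hnd : ¬ p ∣ (Subgroup.centralizer (P : Set G)).relIndex T :=
    Cfsg.Agent.Lib.Helper6.StabIndex.not_dvd_of_isDefectGroup hM hPp hPC le_rfl hCN hNN hc.1 hcP B hc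
      hT' hPD
  refine ⟨hnd, ?_⟩
  -- group theory
  have hTN : T ≤ Subgroup.normalizer (P : Set G) := fun g hg => ((hT g).mp hg).1
  let φ : T →* MulAut P := (Subgroup.normalizerMonoidHom P).comp (Subgroup.inclusion hTN)
  have hker : φ.ker = (Subgroup.centralizer (P : Set G)).subgroupOf T := by
    ext g
    rw [MonoidHom.mem_ker, Subgroup.mem_subgroupOf]
    have : φ g = 1 ↔ Subgroup.inclusion hTN g ∈ (Subgroup.normalizerMonoidHom P).ker := by
      rw [MonoidHom.mem_ker]; rfl
    rw [this, Subgroup.normalizerMonoidHom_ker, Subgroup.mem_subgroupOf]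
    rfl
  have hn : ((Subgroup.centralizer (P : Set G)).subgroupOf T).Normal := by
    rw [← hker]; infer_instance
  have e1 : T ⧸ (Subgroup.centralizer (P : Set G)).subgroupOf T ≃* φ.range :=
    (QuotientGroup.quotientMulEquivOfEq hker.symm).trans (QuotientGroup.quotientKerEquivRange φ)
  have hcardR : Nat.card φ.range = (Subgroup.centralizer (P : Set G)).relIndex T := by
    rw [← Nat.card_congr e1.toEquiv]
    rfl
  intro q t hq ht htC htq
  have : Fact q.Prime := ⟨hq⟩
  set σ : φ.range := ⟨φ ⟨t, ht⟩, ⟨_, rfl⟩⟩ with hσ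
  have hmem : ∀ s : T, φ s = 1 ↔ (s : G) ∈ Subgroup.centralizer (P : Set G) := by
    intro s
    rw [← MonoidHom.mem_ker, hker, Subgroup.mem_subgroupOf]
  have h1 : σ ≠ 1 := by
    intro h
    have h2 : φ ⟨t, ht⟩ = 1 := congrArg Subtype.val h
    exact htC ((hmem ⟨t, ht⟩).mp h2)
  have h2 : σ ^ q = 1 := by
    apply Subtype.ext
    rw [hσ]
    change (φ ⟨t, ht⟩) ^ q = 1
    rw [← map_pow]
    exact (hmem (⟨t, ht⟩ ^ q)).mpr htq
  have ho : orderOf σ = q := orderOf_eq_prime h2 h1
  rw [← hcardR, ← ho]
  exact orderOf_dvd_natCard σ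

end inertial

section main

/-- **NIL** nilpotency of small blocks of rank one. -/
theorem isNilpotentBlock_of_small {G : Type*} [Group G] [Finite G] (p : ℕ) [Fact p.Prime]
    (M : Ideal Cfsg.AlgInt) (hM : Cfsg.IsPModular p M) (B : Set (Cfsg.IrrCharacter G))
    (hB : Cfsg.IsPBlock M B) (D : Subgroup G) (hD : Cfsg.IsDefectGroup p M B D)
    (hl : Cfsg.blockRank p B = 1) (hDB : Nat.card D = Nat.card B) (h4 : Nat.card D ≤ 4) :
    Cfsg.IsNilpotentBlock p M B := by
  classical
  let _ : Fintype G := Fintype.ofFinite G
  have hp : p.Prime := Fact.out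
  have hDp : IsPGroup p D := Cfsg.Agent.Lib.Helper6.ExtFirstMain.isPGroup_of_isDefectGroup hD
  obtain ⟨f, hf⟩ := Cfsg.Agent.Lib.Helper23.PairInd.exists_isBrauerPairOf_of_isDefectGroup hM B hB D hD
  have hmax := Cfsg.Agent.Lib.Helper23.PairInd.isMaximalBrauerPair_of_isDefectGroup hM B D hD f hf
  have hc : IsInducedBlock M (Subgroup.centralizer (D : Set G)) f B :=
    Cfsg.Agent.Lib.Helper24.isInducedBlock_of_isBrauerPairOf hM B D f hf
  obtain ⟨T, hT⟩ := Cfsg.Agent.Lib.Helper5.KleinPISTAB.exists_stabilizer D f
  have hab : ∀ x ∈ D, ∀ y ∈ D, x * y = y * x := comm_of_card_le_four p D hDp h4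
  rw [Cfsg.Agent.S4687.result p M hM B D f hmax hab]
  intro x hxN hxS
  have hxT : x ∈ T := (hT x).mpr ⟨hxN, hxS⟩
  suffices h : T ≤ Subgroup.centralizer (D : Set G) from h hxT
  have hTN : T ≤ Subgroup.normalizer (D : Set G) := fun g hg => ((hT g).mp hg).1
  obtain ⟨hnd, hdvd⟩ := inertial_abelian hM B D hD hab f hc T hT
  obtain ⟨d, hd⟩ := IsPGroup.iff_card.mp hDp
  have hpos : 0 < Nat.card D := Nat.card_pos
  -- conjugates of nontrivial elements are nontrivial
  have hne : ∀ (t y : G), y ≠ 1 → t * y * t⁻¹ ≠ 1 := by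
    intro t y hy h
    apply hy
    have : y = t⁻¹ * (t * y * t⁻¹) * t := by group
    rw [this, h]; group
  have hcases : Nat.card D = 1 ∨ Nat.card D = 2 ∨ Nat.card D = 3 ∨ Nat.card D = 4 := by omega
  rcases hcases with h1 | h2 | h3 | h4'
  · -- trivial defect group
    intro t _
    rw [Subgroup.mem_centralizer_iff]
    intro y hy
    have hbot : D = ⊥ := Subgroup.card_eq_one.mp h1
    rw [SetLike.mem_coe, hbot, Subgroup.mem_bot] at hy
    rw [hy, one_mul, mul_one]
  · -- order two
    obtain ⟨u, hu1, huniq⟩ := (Nat.card_eq_two_iff' (1 : D)).mp h2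
    intro t ht
    rw [Subgroup.mem_centralizer_iff]
    intro y hy
    by_cases hy1 : y = 1
    · rw [hy1, one_mul, mul_one]
    · have hyu : (⟨y, hy⟩ : D) = u := huniq ⟨y, hy⟩ (fun h => hy1 (congrArg Subtype.val h))
      have hty : t * y * t⁻¹ ∈ D := conj_mem_of_mem_normalizer D (hTN ht) hy
      have htyu : (⟨t * y * t⁻¹, hty⟩ : D) = u :=
        huniq ⟨_, hty⟩ (fun h => hne t y hy1 (congrArg Subtype.val h))
      have heq : t * y * t⁻¹ = y := by
        have := htyu.trans hyu.symm
        exact congrArg Subtype.val this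
      calc y * t = t * y * t⁻¹ * t := by rw [heq]
        _ = t * y := by group
  · -- order three
    have hp3 : p = 3 := by
      have h5 : p ∣ 3 := by
        have hd0 : d ≠ 0 := by
          intro h0
          rw [h0, pow_zero] at hd
          omega
        rw [← h3, hd]
        exact dvd_pow_self p hd0
      exact (Nat.prime_dvd_prime_iff_eq hp Nat.prime_three).mp h5
    by_contra hcon
    -- an element of `T` outside the centralizer
    obtain ⟨t, ht, htC⟩ := SetLike.not_le_iff_exists.mp hcon
    -- a nontrivial element moved by `t`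
    have hex : ∃ u ∈ D, t * u * t⁻¹ ≠ u := by
      by_contra hall
      push Not at hall
      apply htC
      rw [Subgroup.mem_centralizer_iff]
      intro y hy
      have heq := hall y hy
      calc y * t = t * y * t⁻¹ * t := by rw [heq]
        _ = t * y := by group
    obtain ⟨u, hu, htu⟩ := hex
    have hu1 : u ≠ 1 := by
      intro h
      apply htu
      rw [h]; group
    -- the elements of `D`
    have hu3 : u ^ 3 = 1 := by
      have h5 : (⟨u, hu⟩ : D) ^ Nat.card D = 1 := pow_card_eq_one'
      rw [h3] at h5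
      exact congrArg Subtype.val h5
    have huinv : u⁻¹ ≠ u := by
      intro h
      apply hu1
      have h6 : u * u = 1 := by
        calc u * u = u⁻¹ * u := by rw [h]
          _ = 1 := inv_mul_cancel u
      calc u = u ^ 3 * (u * u)⁻¹ := by group
        _ = 1 := by rw [hu3, h6]; group
    have huinv1 : u⁻¹ ≠ 1 := fun h => hu1 (inv_eq_one.mp h)
    have helts : ∀ y ∈ D, y = 1 ∨ y = u ∨ y = u⁻¹ := by
      intro y hy
      by_contra hnot
      push Not at hnot
      have hsub : ({⟨1, D.one_mem⟩, ⟨u, hu⟩, ⟨u⁻¹, D.inv_mem hu⟩, ⟨y, hy⟩} : Finset D).card ≤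
          Nat.card D := by
        rw [Nat.card_eq_fintype_card]
        exact Finset.card_le_univ _
      rw [Finset.card_insert_of_notMem, Finset.card_insert_of_notMem, Finset.card_insert_of_notMem,
        Finset.card_singleton] at hsub
      · omega
      · simp only [Finset.mem_singleton, Subtype.mk.injEq]
        exact fun h => hnot.2.2 h.symm
      · simp only [Finset.mem_insert, Finset.mem_singleton, Subtype.mk.injEq, not_or]
        exact ⟨fun h => huinv h.symm, fun h => hnot.2.1 h.symm⟩
      · simp only [Finset.mem_insert, Finset.mem_singleton, Subtype.mk.injEq, not_or]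
        exact ⟨fun h => hu1 h.symm, fun h => huinv1 h.symm, fun h => hnot.1 h.symm⟩
    have htu' : t * u * t⁻¹ = u⁻¹ := by
      rcases helts _ (conj_mem_of_mem_normalizer D (hTN ht) hu) with h | h | h
      · exact absurd h (hne t u hu1)
      · exact absurd h htu
      · exact h
    -- Brauer's count
    have hR : ∀ v ∈ D, ∃! r, r ∈ ({1, u} : Finset G) ∧ ∃ s ∈ T, s * r * s⁻¹ = v := by
      intro v hv
      rcases helts v hv with h | h | h
      · refine ⟨1, ⟨by simp, 1, T.one_mem, by rw [h]; group⟩, ?_⟩
        rintro r ⟨hr, s, _, hs⟩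
        rw [Finset.mem_insert, Finset.mem_singleton] at hr
        rcases hr with hr | hr
        · exact hr
        · exfalso
          rw [hr, h] at hs
          exact hne s u hu1 hs
      · refine ⟨u, ⟨by simp, 1, T.one_mem, by rw [h]; group⟩, ?_⟩
        rintro r ⟨hr, s, _, hs⟩
        rw [Finset.mem_insert, Finset.mem_singleton] at hr
        rcases hr with hr | hr
        · exfalso
          rw [hr, h] at hs
          apply hu1
          rw [← hs]; group
        · exact hr
      · refine ⟨u, ⟨by simp, t, ht, by rw [h]; exact htu'⟩, ?_⟩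
        rintro r ⟨hr, s, _, hs⟩
        rw [Finset.mem_insert, Finset.mem_singleton] at hr
        rcases hr with hr | hr
        · exfalso
          rw [hr, h] at hs
          apply huinv1
          rw [← hs]; group
        · exact hr
    obtain ⟨F, hF, hcount⟩ := Cfsg.Agent.Lib.Helper24.KleinSC.card_block_eq_sum_orbits hM B hB D hD hab f hc
      T hT ({1, u} : Finset G) (by
        intro r hr
        rw [Finset.mem_insert, Finset.mem_singleton] at hr
        rcases hr with hr | hr
        · rw [hr]; exact D.one_mem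
        · rw [hr]; exact hu) hR
    have herase : ({1, u} : Finset G).erase 1 = {u} := by
      ext r
      simp only [Finset.mem_erase, Finset.mem_insert, Finset.mem_singleton]
      constructor
      · rintro ⟨h1, h2 | h2⟩
        · exact absurd h2 h1
        · exact h2
      · intro h
        exact ⟨by rw [h]; exact hu1, Or.inr h⟩
    rw [herase, Finset.sum_singleton, hl] at hcount
    obtain ⟨hFi, hFd⟩ := hF u (by simp)
    let _ : Fintype (Subgroup.centralizer ({u} : Set G)) := Fintype.ofFinite _
    have hrank : blockRank p (F u) = 1 := by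
      apply Cfsg.Agent.S4669.result p M hM (F u) hFi.1 _ hFd
      intro y hy
      rw [Subgroup.mem_subgroupOf] at hy
      rw [Subgroup.mem_center_iff]
      intro z
      apply Subtype.ext
      have hz : (z : G) ∈ Subgroup.centralizer ({u} : Set G) := z.2
      rw [Subgroup.mem_centralizer_iff] at hz
      have hzu : u * (z : G) = (z : G) * u := hz u (Set.mem_singleton u)
      rw [Subgroup.coe_mul, Subgroup.coe_mul]
      rcases helts _ hy with h | h | h
      · rw [h, one_mul, mul_one]
      · rw [h]; exact hzu.symm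
      · rw [h]
        calc (z : G) * u⁻¹ = u⁻¹ * (u * (z : G)) * u⁻¹ := by group
          _ = u⁻¹ * ((z : G) * u) * u⁻¹ := by rw [hzu]
          _ = u⁻¹ * (z : G) := by group
    rw [hrank, ← hDB, h3] at hcount
    omega
  · -- order four
    have hp2 : p = 2 := by
      have h5 : p ∣ 4 := by
        have hd0 : d ≠ 0 := by
          intro h0
          rw [h0, pow_zero] at hd
          omega
        rw [← h4', hd]
        exact dvd_pow_self p hd0
      have h6 : p ∣ 2 ^ 2 := by norm_num; exact h5
      exact (Nat.prime_dvd_prime_iff_eq hp Nat.prime_two).mp (hp.dvd_of_dvd_pow h6)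
    subst hp2
    by_cases hK : ∀ y ∈ D, y * y = 1
    · -- the four-group
      have hV : IsKleinFour D := by
        refine ⟨h4', ?_⟩
        have hdvd2 : Monoid.exponent D ∣ 2 := by
          apply Monoid.exponent_dvd_of_forall_pow_eq_one
          intro y
          apply Subtype.ext
          rw [pow_two]
          exact hK y y.2
        have hne1 : Monoid.exponent D ≠ 1 := by
          intro h
          have hsub : Subsingleton D := Monoid.exp_eq_one_iff.mp h
          have : Nat.card D = 1 := Nat.card_unique
          omega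
        rcases (Nat.dvd_prime Nat.prime_two).mp hdvd2 with h | h
        · exact absurd h hne1
        · exact h
      obtain ⟨-, -, hrk⟩ := Cfsg.Agent.S4637.result M hM B hB D hD hV f hc T hT _ rfl
      rw [hl] at hrk
      exact Subgroup.relIndex_eq_one.mp hrk.symm
    · -- the cyclic group
      push Not at hK
      obtain ⟨g, hg, hgg⟩ := hK
      have hg4 : g ^ 4 = 1 := by
        have h5 : (⟨g, hg⟩ : D) ^ Nat.card D = 1 := pow_card_eq_one'
        rw [h4'] at h5
        exact congrArg Subtype.val h5
      have hgo : orderOf g = 4 := by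
        have hdvd4 : orderOf g ∣ 2 ^ 2 := by
          apply orderOf_dvd_of_pow_eq_one
          norm_num
          exact hg4
        obtain ⟨k, hk, hko⟩ := (Nat.dvd_prime_pow Nat.prime_two).mp hdvd4
        interval_cases k
        · exfalso
          rw [pow_zero, orderOf_eq_one_iff] at hko
          apply hgg
          rw [hko, one_mul]
        · exfalso
          apply hgg
          rw [← pow_two]
          rw [pow_one] at hko
          rw [← hko]
          exact pow_orderOf_eq_one g
        · rw [hko]; norm_num
      have hDz : D = Subgroup.zpowers g := by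
        symm
        apply Subgroup.eq_of_le_of_card_ge
        · rw [Subgroup.zpowers_le]; exact hg
        · rw [Nat.card_zpowers, hgo, h4']
      by_contra hcon
      obtain ⟨t, ht, htC⟩ := SetLike.not_le_iff_exists.mp hcon
      have htg : t * g * t⁻¹ ∈ D := conj_mem_of_mem_normalizer D (hTN ht) hg
      have htgne : t * g * t⁻¹ ≠ g := fun h => htC (mem_centralizer_of_zpowers D g t hDz h)
      -- `t g t⁻¹` is `g ^ 3`
      have htg3 : t * g * t⁻¹ = g ^ 3 := by
        have hmem : t * g * t⁻¹ ∈ Subgroup.zpowers g := by rw [← hDz]; exact htg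
        rw [mem_zpowers_iff_mem_range_orderOf, hgo] at hmem
        obtain ⟨i, hi, hi'⟩ := Finset.mem_image.mp hmem
        rw [Finset.mem_range] at hi
        have hsq : (t * g * t⁻¹) * (t * g * t⁻¹) ≠ 1 := by
          intro h
          apply hgg
          have h7 : t * (g * g) * t⁻¹ = 1 := by
            rw [← h]; group
          have h8 : g * g = t⁻¹ * (t * (g * g) * t⁻¹) * t := by group
          rw [h8, h7]; group
        interval_cases i
        · exfalso
          apply hsq
          rw [← hi']; simp
        · exfalso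
          apply htgne
          rw [← hi']; simp
        · exfalso
          apply hsq
          rw [← hi']
          change g ^ 2 * g ^ 2 = 1
          rw [← pow_add]
          exact hg4
        · exact hi'.symm
      have ht2 : t ^ 2 ∈ Subgroup.centralizer (D : Set G) := by
        apply mem_centralizer_of_zpowers D g (t ^ 2) hDz
        have h9 : t ^ 2 * g * (t ^ 2)⁻¹ = t * (t * g * t⁻¹) * t⁻¹ := by
          simp only [pow_two, mul_inv_rev, mul_assoc]
        rw [h9, htg3]
        have h10 : t * g ^ 3 * t⁻¹ = (t * g * t⁻¹) ^ 3 := (conj_pow).symm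
        rw [h10, htg3, ← pow_mul]
        calc g ^ (3 * 3) = g ^ 4 * g ^ 4 * g := by group
          _ = g := by rw [hg4]; group
      exact hnd (hdvd 2 t Nat.prime_two ht htC ht2)

end main

end Cfsg.Agent.Lib.Helper2.K4NIL
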