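/-
helper2: automorphism groups of odd order of a Klein four group (for S4637 leaf E13).
-/
import Mathlib

set_option autoImplicit false

namespace Cfsg.Agent.Lib.Helper2.KleinAut

variable {P : Type*} [Group P] [IsKleinFour P]

/-- every element of a Klein four group is one of `x * y, x, y, 1` -/
theorem mem_four {x y : P} (hx : x ≠ 1) (hy : y ≠ 1) (hxy : x ≠ y) (z : P) :
    z = x * y ∨ z = x ∨ z = y ∨ z = 1 := by
  classical
  have : Finite P := Nat.finite_of_card_ne_zero (by rw [IsKleinFour.card_four]; norm_num)
  let _ := Fintype.ofFinite P
  have h := IsKleinFour.eq_finset_univ hx hy hxy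
  have hz : z ∈ ({x * y, x, y, 1} : Finset P) := by rw [h]; exact Finset.mem_univ z
  simpa using hz

theorem exists_third (x : P) : ∃ y : P, y ≠ 1 ∧ y ≠ x := by
  classical
  have : Finite P := Nat.finite_of_card_ne_zero (by rw [IsKleinFour.card_four]; norm_num)
  by_contra hcon
  simp only [not_exists, not_and, not_not] at hcon
  have hsub : (Set.univ : Set P) ⊆ {1, x} := by
    intro y _
    by_cases hy : y = 1
    · left; exact hy
    · right; exact hcon y hy
  have h1 := Set.ncard_le_ncard hsub (Set.toFinite _)
  have h2 : ({1, x} : Set P).ncard ≤ 2 := by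
    refine le_trans (Set.ncard_insert_le _ _) ?_
    simp
  rw [Set.ncard_univ, IsKleinFour.card_four] at h1
  omega

/-- an automorphism with `β ^ 3 = 1` fixing a non-identity element is trivial -/
theorem eq_one_of_fix (β : MulAut P) (hβ : β ^ 3 = 1) {x : P} (hx : x ≠ 1) (hfix : β x = x) :
    β = 1 := by
  obtain ⟨y, hy1, hyx⟩ := exists_third x
  have hxy : x ≠ y := fun h => hyx h.symm
  have hβy : β y = y := by
    rcases mem_four hx hy1 hxy (β y) with h | h | h | h
    · exfalso
      have h2 : β (β y) = y := by
        rw [h, map_mul, hfix, h, ← mul_assoc, IsKleinFour.mul_self, one_mul]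
      have h3 : (β ^ 3) y = β y := by
        have : (β ^ 3) y = β (β (β y)) := by
          rw [pow_succ, pow_succ, pow_one]
          rfl
        rw [this, h2]
      rw [hβ, h] at h3
      have : y = x * y := h3
      have : x = 1 := by
        have h4 : x * y = 1 * y := by rw [one_mul]; exact this.symm
        exact mul_right_cancel h4
      exact hx this
    · exfalso
      rw [← hfix] at h
      exact hyx (β.injective h)
    · exact h
    · exfalso
      have : β y = β 1 := by rw [h, map_one]
      exact hy1 (β.injective this)
  ext z
  rcases mem_four hx hy1 hxy z with h | h | h | h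
  · rw [h, map_mul, hfix, hβy]; rfl
  · rw [h, hfix]; rfl
  · rw [h, hβy]; rfl
  · rw [h, map_one]; rfl

/-- a group of automorphisms of odd order of a Klein four group has order `1`, or order `3` and is
transitive on the non-identity elements -/
theorem odd_aut (R : Subgroup (MulAut P)) (hodd : ¬ 2 ∣ Nat.card R) :
    Nat.card R = 1 ∨
      (Nat.card R = 3 ∧ ∀ u v : P, u ≠ 1 → v ≠ 1 → ∃ α ∈ R, α u = v) := by
  classical
  have hfinP : Finite P := Nat.finite_of_card_ne_zero (by rw [IsKleinFour.card_four]; norm_num)
  -- the order divides 24
  have hinj : Function.Injective ((MulAut.toPerm P).comp R.subtype) := by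
    intro a b hab
    apply Subtype.ext
    ext z
    have := congrArg (fun σ : Equiv.Perm P => σ z) hab
    exact this
  have hdvd : Nat.card R ∣ 24 := by
    have h24 : Nat.card (Equiv.Perm P) = 24 := by
      rw [Nat.card_perm, IsKleinFour.card_four (G := P)]
      rfl
    have := Subgroup.card_dvd_of_injective _ hinj
    rw [h24] at this
    exact this
  have hcop : Nat.Coprime (Nat.card R) 8 := by
    have : Nat.Coprime (Nat.card R) 2 := by
      rw [Nat.coprime_comm]
      exact (Nat.Prime.coprime_iff_not_dvd Nat.prime_two).mpr hodd
    exact Nat.Coprime.pow_right 3 this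
  have hdvd3 : Nat.card R ∣ 3 := by
    have h24 : (24 : ℕ) = 8 * 3 := by norm_num
    rw [h24] at hdvd
    exact hcop.dvd_of_dvd_mul_left hdvd
  rcases (Nat.dvd_prime Nat.prime_three).mp hdvd3 with h1 | h3
  · left; exact h1
  · right
    refine ⟨h3, ?_⟩
    intro u v hu hv
    by_cases huv : u = v
    · exact ⟨1, R.one_mem, by rw [huv]; rfl⟩
    -- a non-identity element of `R`
    have hfinR : Finite R := Nat.finite_of_card_ne_zero (by rw [h3]; norm_num)
    have hnt : Nontrivial R := Finite.one_lt_card_iff_nontrivial.mp (by rw [h3]; norm_num)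
    obtain ⟨a, ha⟩ := exists_ne (1 : R)
    have ha3 : (a : MulAut P) ^ 3 = 1 := by
      have : a ^ Nat.card R = 1 := pow_card_eq_one'
      rw [h3] at this
      have := congrArg Subtype.val this
      simpa using this
    have ha1 : (a : MulAut P) ≠ 1 := fun h => ha (Subtype.ext h)
    set α : MulAut P := (a : MulAut P) with hα
    have hαu : α u ≠ u := fun h => ha1 (eq_one_of_fix α ha3 hu h)
    have hαv : α v ≠ v := fun h => ha1 (eq_one_of_fix α ha3 hv h)
    have hαu1 : α u ≠ 1 := by
      intro h
      have : α u = α 1 := by rw [h, map_one]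
      exact hu (α.injective this)
    have hαv1 : α v ≠ 1 := by
      intro h
      have : α v = α 1 := by rw [h, map_one]
      exact hv (α.injective this)
    rcases mem_four hu hv huv (α u) with h | h | h | h
    · -- `α u = u * v`
      have hαv' : α v = u := by
        rcases mem_four hu hv huv (α v) with h' | h' | h' | h'
        · exfalso
          rw [← h] at h'
          exact huv (α.injective h').symm
        · exact h'
        · exact absurd h' hαv
        · exact absurd h' hαv1
      refine ⟨α ^ 2, R.pow_mem a.2 2, ?_⟩
      have : (α ^ 2) u = α (α u) := by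
        rw [pow_succ, pow_one]
        rfl
      rw [this, h, map_mul, h, hαv']
      have hcomm : u * v * u = v := by
        have hc : u * v = v * u :=
          (IsKleinFour.isMulCommutative (G := P)).is_comm.comm u v
        rw [hc, mul_assoc, IsKleinFour.mul_self, mul_one]
      exact hcomm
    · exact absurd h hαu
    · exact ⟨α, a.2, h⟩
    · exact absurd h hαu1

end Cfsg.Agent.Lib.Helper2.KleinAut
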