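/-
helper2: S4637 leaf (E13) `inertial_klein` (planner helper27, notes/S4637_leaves.lean): the inertial
index of a block with a Klein four defect group is 1 or 3.  Route = lead's S4633.
-/
import Mathlib
import Cfsg.Agent.S4650
import Cfsg.Agent.S4682
import Cfsg.Agent.Lib.Helper6.SubsectionCount
import Cfsg.Agent.Lib.Helper6.StabIndex
import Cfsg.Agent.Lib.Helper6.ExtFirstMain
import Cfsg.Agent.Lib.Helper24.ConjBlock
import Cfsg.Agent.Lib.Helper23.RankQuotApp
import Cfsg.Agent.Lib.Helper27.MajSubMain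
import Cfsg.Agent.Lib.Helper2.KleinAut

set_option autoImplicit false

namespace Cfsg.Agent.Lib.Helper2.KleinE13

open Cfsg Cfsg.Agent.CharLib Cfsg.Agent.Lib.Helper24 Cfsg.Agent.Lib.Helper6
open scoped ComplexConjugate

universe u

variable {G : Type u} [Group G] [Fintype G] {M : Ideal AlgInt}

/-- (E13) the inertial index of a block with a Klein four defect group is 1 or 3; the stabilizer
acts trivially on `P` in the first case and transitively on `P \ 1` in the second. -/
theorem inertial_klein (hM : IsPModular 2 M) (B : Set (IrrCharacter G)) (hB : IsPBlock M B)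
    (P : Subgroup G) (hPD : IsDefectGroup 2 M B P) (hV : IsKleinFour P)
    (c : Set (IrrCharacter (Subgroup.centralizer (P : Set G))))
    (hc : IsInducedBlock M (Subgroup.centralizer (P : Set G)) c B) (T : Subgroup G)
    (hT : ∀ g : G, g ∈ T ↔ (g ∈ Subgroup.normalizer (P : Set G) ∧
      StabilizesBlock (Subgroup.centralizer (P : Set G)) c g)) :
    ((Subgroup.centralizer (P : Set G)).relIndex T = 1 ∧
        ∀ t ∈ T, ∀ u ∈ P, t * u * t⁻¹ = u) ∨
      ((Subgroup.centralizer (P : Set G)).relIndex T = 3 ∧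
        ∀ u ∈ P, ∀ v ∈ P, u ≠ 1 → v ≠ 1 → ∃ t ∈ T, t * u * t⁻¹ = v) := by
  classical
  have _ := hB
  have hp2 : Fact (2 : ℕ).Prime := ⟨Nat.prime_two⟩
  have hPp : IsPGroup 2 P := Cfsg.Agent.Lib.Helper6.ExtFirstMain.isPGroup_of_isDefectGroup hPD
  -- `P ≤ C_G(P)`
  have hPC : P ≤ Subgroup.centralizer (P : Set G) := by
    intro a ha
    rw [Subgroup.mem_centralizer_iff]
    intro b hb
    have hcomm := (IsKleinFour.isMulCommutative (G := P)).is_comm.comm ⟨b, hb⟩ ⟨a, ha⟩
    exact congrArg Subtype.val hcomm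
  have hCN : Subgroup.centralizer (P : Set G) ≤ Subgroup.normalizer (P : Set G) :=
    Subgroup.centralizer_le_normalizer _
  have hNN : Subgroup.normalizer (P : Set G) ≤
      Subgroup.normalizer ((Subgroup.centralizer (P : Set G) : Subgroup G) : Set G) := by
    have h := Cfsg.Agent.Lib.Helper6.ExtFirstMain.normalizer_le_normalizer_sup_centralizer P
    rwa [sup_eq_right.mpr hPC] at h
  have hcP : Cfsg.IsDefectGroup 2 M c (P.subgroupOf (Subgroup.centralizer (P : Set G))) :=
    Cfsg.Agent.Lib.Helper6.ExtFirstMain.isDefectGroup_of_induced hM B P hPD _ hPC hCN c hc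
  -- the stabilizer in the other form
  have hT' : ∀ g : G, g ∈ T ↔ (g ∈ Subgroup.normalizer (P : Set G) ∧ ∀ θ ∈ c,
      ∀ θ' : Cfsg.IrrCharacter (Subgroup.centralizer (P : Set G)),
        (∀ h h' : Subgroup.centralizer (P : Set G), (h' : G) = g * h * g⁻¹ →
          (θ' : Subgroup.centralizer (P : Set G) → ℂ) h' =
            (θ : Subgroup.centralizer (P : Set G) → ℂ) h) → θ' ∈ c) := by
    intro g
    rw [hT]
    constructor
    · rintro ⟨hgN, hgC, hstab⟩
      refine ⟨hgN, ?_⟩
      intro θ hθ θ' hθ'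
      obtain ⟨χ', hχ', hconj⟩ := hstab θ hθ
      have e1 := Cfsg.Agent.Lib.Helper24.eq_conjIrr_of_isConjCharOf _ g hgC θ χ' hconj
      have e2 := Cfsg.Agent.Lib.Helper24.eq_conjIrr_of_isConjCharOf _ g hgC θ θ' hθ'
      rw [e2, ← e1]
      exact hχ'
    · rintro ⟨hgN, hall⟩
      refine ⟨hgN, hNN hgN, ?_⟩
      intro χ hχ
      refine ⟨Cfsg.Agent.Lib.Helper24.conjIrr _ g (hNN hgN) χ, ?_,
        Cfsg.Agent.Lib.Helper24.isConjCharOf_conjIrr _ g (hNN hgN) χ⟩
      exact hall χ hχ _ (Cfsg.Agent.Lib.Helper24.isConjCharOf_conjIrr _ g (hNN hgN) χ)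
  have hnd : ¬ 2 ∣ (Subgroup.centralizer (P : Set G)).relIndex T :=
    Cfsg.Agent.Lib.Helper6.StabIndex.not_dvd_of_isDefectGroup hM hPp hPC le_rfl hCN hNN hc.1 hcP B hc
      hT' hPD
  -- group theory
  have hTN : T ≤ Subgroup.normalizer (P : Set G) := fun g hg => ((hT g).mp hg).1
  let φ : T →* MulAut P := (Subgroup.normalizerMonoidHom P).comp (Subgroup.inclusion hTN)
  have hφ : ∀ (t : T) (x : P), ((φ t) x : G) = (t : G) * (x : G) * (t : G)⁻¹ := by
    intro t x
    rfl
  have hker : φ.ker = (Subgroup.centralizer (P : Set G)).subgroupOf T := by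
    ext g
    rw [MonoidHom.mem_ker, Subgroup.mem_subgroupOf]
    have : φ g = 1 ↔ Subgroup.inclusion hTN g ∈ (Subgroup.normalizerMonoidHom P).ker := by
      rw [MonoidHom.mem_ker]; rfl
    rw [this, Subgroup.normalizerMonoidHom_ker, Subgroup.mem_subgroupOf]
    rfl
  have e1 : T ⧸ φ.ker ≃* φ.range := QuotientGroup.quotientKerEquivRange φ
  have hcardR : Nat.card φ.range = (Subgroup.centralizer (P : Set G)).relIndex T := by
    rw [← Nat.card_congr e1.toEquiv, hker]
    rfl
  have : IsKleinFour P := hV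
  rcases Cfsg.Agent.Lib.Helper2.KleinAut.odd_aut φ.range (by rw [hcardR]; exact hnd) with
    h1 | ⟨h3, htrans⟩
  · left
    rw [hcardR] at h1
    refine ⟨h1, ?_⟩
    have hle : T ≤ Subgroup.centralizer (P : Set G) := Subgroup.relIndex_eq_one.mp h1
    intro t ht u hu
    have := hle ht
    rw [Subgroup.mem_centralizer_iff] at this
    have h2 := this u hu
    rw [← h2, mul_assoc, mul_inv_cancel, mul_one]
  · right
    rw [hcardR] at h3
    refine ⟨h3, ?_⟩
    intro u hu v hv hu1 hv1
    obtain ⟨α, ⟨t, rfl⟩, hαu⟩ := htrans ⟨u, hu⟩ ⟨v, hv⟩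
      (fun h => hu1 (congrArg Subtype.val h)) (fun h => hv1 (congrArg Subtype.val h))
    refine ⟨(t : G), t.2, ?_⟩
    have := congrArg Subtype.val hαu
    rw [hφ] at this
    exact this

end Cfsg.Agent.Lib.Helper2.KleinE13
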