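/-
helper2: the automorphism group of the cyclic projective plane of order `3` on `Fin 13`
has at most `5616 = 13 * 12 * 9 * 4` elements: a collineation is determined by the image of the
quadrangle `(0, 1, 2, 5)`, and that image is a quadrangle.
-/
import Cfsg.Agent.Lib.Helper10.StPlane13

set_option autoImplicit false

namespace Cfsg.Agent.Lib.Helper2.L33Aut

open Cfsg Cfsg.Agent.Lib.Helper10.StCertK
open scoped Pointwise

/-! ### boolean incidence -/

def inD (x : ℕ) : Bool := x == 0 || x == 1 || x == 3 || x == 9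

/-- `x` on line `i` -/
def onL (i x : ℕ) : Bool := inD ((x + 13 - i) % 13)

def colN (a b c : ℕ) : Bool := (List.range 13).any (fun i => onL i a && onL i b && onL i c)

def isQuadN (a b c d : ℕ) : Bool :=
  a != b && a != c && a != d && b != c && b != d && c != d &&
  !colN a b c && !colN a b d && !colN a c d && !colN b c d

theorem sum_quad : (∑ a : Fin 13, ∑ b : Fin 13, ∑ c : Fin 13, ∑ d : Fin 13,
    if isQuadN a b c d = true then 1 else 0) = 5616 := by
  decide +kernel

/-- the lines of the cyclic plane -/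
abbrev ln (i : Fin 13) : Finset (Fin 13) := {i, i + 1, i + 3, i + 9}

theorem mem_ln_iff : ∀ i x : Fin 13, x ∈ ln i ↔ onL i x = true := by decide +kernel

theorem line_unique_aux : ∀ i j a b : Fin 13, onL i a = true → onL i b = true →
    onL j a = true → onL j b = true → a = b ∨ i = j := by
  decide +kernel

theorem line_unique (i j a b : Fin 13) (hai : a ∈ ln i) (hbi : b ∈ ln i) (haj : a ∈ ln j)
    (hbj : b ∈ ln j) : a = b ∨ i = j :=
  line_unique_aux i j a b ((mem_ln_iff i a).1 hai) ((mem_ln_iff i b).1 hbi)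
    ((mem_ln_iff j a).1 haj) ((mem_ln_iff j b).1 hbj)

theorem colN_iff_aux : ∀ a b c : Fin 13, colN a b c = true ↔
    ∃ i : Fin 13, onL i a = true ∧ onL i b = true ∧ onL i c = true := by
  decide +kernel

theorem colN_iff (a b c : Fin 13) : colN a b c = true ↔
    ∃ i : Fin 13, a ∈ ln i ∧ b ∈ ln i ∧ c ∈ ln i := by
  rw [colN_iff_aux]
  simp only [mem_ln_iff]

/-! ### collineations -/

variable {σ : Equiv.Perm (Fin 13)}

theorem perm_inv_apply (f : Equiv.Perm (Fin 13)) (x : Fin 13) : f⁻¹ (f x) = x := by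
  rw [Equiv.Perm.inv_def, Equiv.symm_apply_apply]

theorem exists_image_line (hσ : σ ∈ setSystemAut cyclicPlane13) (i : Fin 13) :
    ∃ j : Fin 13, ∀ x, x ∈ ln i → σ x ∈ ln j := by
  have h1 : σ • cyclicPlane13 = cyclicPlane13 := MulAction.mem_stabilizer_iff.1 hσ
  have h2 : σ • ln i ∈ σ • cyclicPlane13 := Set.smul_mem_smul_set ⟨i, rfl⟩
  rw [h1] at h2
  obtain ⟨j, hj⟩ := h2
  refine ⟨j, fun x hx => ?_⟩
  have h3 : σ • x ∈ σ • ln i := Finset.smul_mem_smul_finset hx
  rw [hj] at h3
  exact h3

theorem colN_map (hσ : σ ∈ setSystemAut cyclicPlane13) {a b c : Fin 13}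
    (h : colN a b c = true) : colN (σ a) (σ b) (σ c) = true := by
  rw [colN_iff] at h ⊢
  obtain ⟨i, ha, hb, hc⟩ := h
  obtain ⟨j, hj⟩ := exists_image_line hσ i
  exact ⟨j, hj a ha, hj b hb, hj c hc⟩

theorem colN_map_false (hσ : σ ∈ setSystemAut cyclicPlane13) {a b c : Fin 13}
    (h : colN a b c = false) : colN (σ a) (σ b) (σ c) = false := by
  by_contra hcon
  rw [Bool.not_eq_false] at hcon
  have h' := colN_map ((setSystemAut cyclicPlane13).inv_mem hσ) hcon
  simp only [perm_inv_apply] at h'
  rw [h] at h'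
  exact Bool.false_ne_true h'

theorem isQuadN_of {a b c d : Fin 13} (hab : a ≠ b) (hac : a ≠ c) (had : a ≠ d) (hbc : b ≠ c)
    (hbd : b ≠ d) (hcd : c ≠ d) (h1 : colN a b c = false) (h2 : colN a b d = false)
    (h3 : colN a c d = false) (h4 : colN b c d = false) : isQuadN a b c d = true := by
  have e : ∀ {x y : Fin 13}, x ≠ y → ((x : ℕ) != (y : ℕ)) = true := by
    intro x y hxy
    rw [bne_iff_ne]
    exact fun h => hxy (Fin.ext h)
  unfold isQuadN
  rw [e hab, e hac, e had, e hbc, e hbd, e hcd, h1, h2, h3, h4]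
  rfl

theorem isQuadN_map (hσ : σ ∈ setSystemAut cyclicPlane13) :
    isQuadN (σ 0) (σ 1) (σ 2) (σ 5) = true := by
  have hne : ∀ {x y : Fin 13}, x ≠ y → σ x ≠ σ y := fun h h' => h (σ.injective h')
  apply isQuadN_of (hne (by decide)) (hne (by decide)) (hne (by decide)) (hne (by decide))
    (hne (by decide)) (hne (by decide))
  · exact colN_map_false hσ (by decide +kernel)
  · exact colN_map_false hσ (by decide +kernel)
  · exact colN_map_false hσ (by decide +kernel)
  · exact colN_map_false hσ (by decide +kernel)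

/-- a collineation fixing two points of a line maps the line to itself -/
theorem fix_line (hσ : σ ∈ setSystemAut cyclicPlane13) {a b : Fin 13} (i : Fin 13)
    (ha : σ a = a) (hb : σ b = b) (hab : a ≠ b) (hai : a ∈ ln i) (hbi : b ∈ ln i) :
    ∀ x, x ∈ ln i → σ x ∈ ln i := by
  obtain ⟨j, hj⟩ := exists_image_line hσ i
  have h1 := hj a hai
  rw [ha] at h1
  have h2 := hj b hbi
  rw [hb] at h2
  rcases line_unique i j a b hai hbi h1 h2 with h | h
  · exact absurd h hab
  · subst h
    exact hj

/-- a collineation fixing `a, b, c, d` fixes the intersection of the lines `ab` and `cd` -/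
theorem fix_point (hσ : σ ∈ setSystemAut cyclicPlane13) {a b c d : Fin 13} (x i j : Fin 13)
    (ha : σ a = a) (hb : σ b = b) (hc : σ c = c) (hd : σ d = d) (hab : a ≠ b) (hcd : c ≠ d)
    (hai : a ∈ ln i) (hbi : b ∈ ln i) (hxi : x ∈ ln i) (hcj : c ∈ ln j) (hdj : d ∈ ln j)
    (hxj : x ∈ ln j) (hij : i ≠ j) : σ x = x := by
  have h1 := fix_line hσ i ha hb hab hai hbi x hxi
  have h2 := fix_line hσ j hc hd hcd hcj hdj x hxj
  rcases line_unique i j (σ x) x h1 hxi h2 hxj with h | h
  · exact h
  · exact absurd h hij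

/-- a collineation fixing the quadrangle `0, 1, 2, 5` is the identity -/
theorem eq_one_of_fix (hσ : σ ∈ setSystemAut cyclicPlane13) (h0 : σ 0 = 0) (h1 : σ 1 = 1)
    (h2 : σ 2 = 2) (h5 : σ 5 = 5) : σ = 1 := by
  -- lines: 01 = L0, 02 = L12, 12 = L1, 05 = L4, 15 = L5, 25 = L2
  have h3 : σ 3 = 3 := fix_point hσ 3 0 2 h0 h1 h2 h5 (by decide) (by decide) (by decide)
    (by decide) (by decide) (by decide) (by decide) (by decide) (by decide)
  have h4 : σ 4 = 4 := fix_point hσ 4 1 4 h1 h2 h0 h5 (by decide) (by decide) (by decide)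
    (by decide) (by decide) (by decide) (by decide) (by decide) (by decide)
  have h8 : σ 8 = 8 := fix_point hσ 8 12 5 h0 h2 h1 h5 (by decide) (by decide) (by decide)
    (by decide) (by decide) (by decide) (by decide) (by decide) (by decide)
  -- 34 = L3, 38 = L7, 48 = L8
  have h6 : σ 6 = 6 := fix_point hσ 6 3 5 h3 h4 h1 h5 (by decide) (by decide) (by decide)
    (by decide) (by decide) (by decide) (by decide) (by decide) (by decide)
  have h12 : σ 12 = 12 := fix_point hσ 12 3 12 h3 h4 h0 h2 (by decide) (by decide) (by decide)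
    (by decide) (by decide) (by decide) (by decide) (by decide) (by decide)
  have h7 : σ 7 = 7 := fix_point hσ 7 7 4 h3 h8 h0 h5 (by decide) (by decide) (by decide)
    (by decide) (by decide) (by decide) (by decide) (by decide) (by decide)
  have h10 : σ 10 = 10 := fix_point hσ 10 7 1 h3 h8 h1 h2 (by decide) (by decide) (by decide)
    (by decide) (by decide) (by decide) (by decide) (by decide) (by decide)
  have h9 : σ 9 = 9 := fix_point hσ 9 8 0 h4 h8 h0 h1 (by decide) (by decide) (by decide)
    (by decide) (by decide) (by decide) (by decide) (by decide) (by decide)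
  have h11 : σ 11 = 11 := fix_point hσ 11 8 2 h4 h8 h2 h5 (by decide) (by decide) (by decide)
    (by decide) (by decide) (by decide) (by decide) (by decide) (by decide)
  ext x : 1
  rw [Equiv.Perm.one_apply]
  fin_cases x
  · exact h0
  · exact h1
  · exact h2
  · exact h3
  · exact h4
  · exact h5
  · exact h6
  · exact h7
  · exact h8
  · exact h9
  · exact h10
  · exact h11
  · exact h12

/-- the quadrangles -/
abbrev Quad : Type :=
  {t : Fin 13 × Fin 13 × Fin 13 × Fin 13 // isQuadN t.1 t.2.1 t.2.2.1 t.2.2.2 = true}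

theorem card_quad : Fintype.card Quad = 5616 := by
  rw [Fintype.card_subtype, Finset.card_filter, Fintype.sum_prod_type]
  simp only [Fintype.sum_prod_type]
  exact sum_quad

/-- **the automorphism group of the cyclic plane of order `3` has at most `5616` elements** -/
theorem card_setSystemAut_cyclicPlane13_le :
    Nat.card ↥(setSystemAut cyclicPlane13) ≤ 5616 := by
  rw [← card_quad, ← Nat.card_eq_fintype_card]
  let f : ↥(setSystemAut cyclicPlane13) → Quad := fun σ =>
    ⟨((σ : Equiv.Perm (Fin 13)) 0, (σ : Equiv.Perm (Fin 13)) 1, (σ : Equiv.Perm (Fin 13)) 2,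
      (σ : Equiv.Perm (Fin 13)) 5), isQuadN_map σ.2⟩
  apply Nat.card_le_card_of_injective f
  intro σ τ hστ
  have h := congrArg Subtype.val hστ
  simp only [f, Prod.mk.injEq] at h
  obtain ⟨h0, h1, h2, h5⟩ := h
  have hρ : (τ : Equiv.Perm (Fin 13))⁻¹ * σ ∈ setSystemAut cyclicPlane13 :=
    (setSystemAut cyclicPlane13).mul_mem ((setSystemAut cyclicPlane13).inv_mem τ.2) σ.2
  have key := eq_one_of_fix hρ
    (by rw [Equiv.Perm.mul_apply, h0, perm_inv_apply])
    (by rw [Equiv.Perm.mul_apply, h1, perm_inv_apply])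
    (by rw [Equiv.Perm.mul_apply, h2, perm_inv_apply])
    (by rw [Equiv.Perm.mul_apply, h5, perm_inv_apply])
  apply Subtype.ext
  have : (σ : Equiv.Perm (Fin 13)) = τ := by
    have h' := congrArg (fun x => (τ : Equiv.Perm (Fin 13)) * x) key
    simpa [mul_assoc] using h'
  exact this

end Cfsg.Agent.Lib.Helper2.L33Aut
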