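/-
helper2: piece [E] of the team target "simple of order 5616 ⇒ PSL₃(3)".

A group `G` acting `2`-transitively on `13` points, with a subgroup `E` of order `9` and
exponent `3`, normalized by a point stabilizer `G_α ≥ E`, all of whose nonidentity elements fix
exactly `4` points, preserves a `2-(13,4,1)` design: the lines are the fixed point sets of the
conjugates of the nonidentity elements of `E`.

Part A: the local structure at `α`.
-/
import Mathlib

set_option autoImplicit false

namespace Cfsg.Agent.Lib.Helper2.L33Design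

open MulAction

universe u v

variable {G : Type u} [Group G] {Ω : Type v} [MulAction G Ω] [Fintype Ω] [DecidableEq Ω]

/-- the fixed points of `z` as a finset -/
def fixF (z : G) : Finset Ω := Finset.univ.filter (fun ω => z • ω = ω)

omit [DecidableEq Ω] in
theorem mem_fixF [DecidableEq Ω] {z : G} {ω : Ω} : ω ∈ fixF z ↔ z • ω = ω := by
  simp [fixF]

theorem card_fixF (z : G) : (fixF z : Finset Ω).card = Nat.card (fixedBy Ω z) := by
  rw [Nat.card_eq_fintype_card, fixF, ← Fintype.card_subtype]
  rfl

/-- fixed points of a conjugate -/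
theorem fixF_conj (g z : G) :
    (fixF (g * z * g⁻¹) : Finset Ω) = (fixF z).image (fun ω => g • ω) := by
  ext ω
  rw [mem_fixF, Finset.mem_image]
  constructor
  · intro h
    refine ⟨g⁻¹ • ω, ?_, by rw [smul_inv_smul]⟩
    rw [mem_fixF]
    calc z • g⁻¹ • ω = (g⁻¹ * (g * z * g⁻¹)) • ω := by
          rw [← mul_smul]
          congr 1
          group
      _ = g⁻¹ • (g * z * g⁻¹) • ω := mul_smul _ _ _
      _ = g⁻¹ • ω := by rw [h]
  · rintro ⟨ω', h, rfl⟩
    rw [mem_fixF] at h
    simp only [mul_smul, inv_smul_smul, h]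

theorem card_fixF_conj (g z : G) :
    (fixF (g * z * g⁻¹) : Finset Ω).card = (fixF z : Finset Ω).card := by
  rw [fixF_conj]
  exact Finset.card_image_of_injective _ (MulAction.injective g)

omit [Fintype Ω] [DecidableEq Ω] in
theorem smul_cube {x : G} (h : x ^ 3 = 1) (ω : Ω) : x • x • x • ω = ω := by
  rw [← mul_smul, ← mul_smul]
  have : x * x * x = x ^ 3 := by rw [pow_succ, pow_two]
  rw [this, h, one_smul]

/-- The hypotheses of piece [E]. -/
structure Hyp (G : Type u) [Group G] (Ω : Type v) [MulAction G Ω] [Fintype Ω] [DecidableEq Ω]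
    (α : Ω) (E : Subgroup G) : Prop where
  card_Ω : Fintype.card Ω = 13
  fixE : E ≤ stabilizer G α
  normE : stabilizer G α ≤ Subgroup.normalizer (E : Set G)
  cardE : Nat.card E = 9
  expE : ∀ z ∈ E, z ^ 3 = 1
  trans2 : IsMultiplyPretransitive G Ω 2
  fix4 : ∀ z ∈ E, z ≠ 1 → (fixF z : Finset Ω).card = 4

namespace Hyp

variable {α : Ω} {E : Subgroup G} (D : Hyp G Ω α E)

include D

theorem comm {a b : G} (ha : a ∈ E) (hb : b ∈ E) : a * b = b * a := by
  have : Fact (Nat.Prime 3) := ⟨by norm_num⟩
  have h : Nat.card E = 3 ^ 2 := by rw [D.cardE]; norm_num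
  have := (IsPGroup.isMulCommutative_of_card_eq_prime_sq h).is_comm.comm ⟨a, ha⟩ ⟨b, hb⟩
  exact congrArg Subtype.val this

theorem smul_α {e : G} (he : e ∈ E) : e • α = α := mem_stabilizer_iff.1 (D.fixE he)

theorem exists_ne_one : ∃ e ∈ E, e ≠ 1 := by
  haveI : Finite E := Nat.finite_of_card_ne_zero (by rw [D.cardE]; norm_num)
  haveI : Nontrivial E := (Finite.one_lt_card_iff_nontrivial).1 (by rw [D.cardE]; norm_num)
  obtain ⟨e, he⟩ := exists_ne (1 : E)
  exact ⟨e, e.2, fun h => he (Subtype.ext h)⟩

theorem two_trans {a b c d : Ω} (hab : a ≠ b) (hcd : c ≠ d) : ∃ g : G, g • a = c ∧ g • b = d :=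
  (is_two_pretransitive_iff.1 D.trans2) hab hcd

/-- `E` fixes no point other than `α` -/
theorem not_le_stabilizer {β : Ω} (hβ : β ≠ α) : ¬ E ≤ stabilizer G β := by
  intro hE
  -- then `E` fixes every point
  have hall : ∀ γ : Ω, ∀ e ∈ E, e • γ = γ := by
    intro γ e he
    by_cases hγ : γ = α
    · rw [hγ]; exact D.smul_α he
    · obtain ⟨h, hα, hβγ⟩ := D.two_trans (Ne.symm hβ) (Ne.symm hγ)
      have hh : h ∈ stabilizer G α := mem_stabilizer_iff.2 hα
      have hn := D.normE hh
      have he' : h⁻¹ * e * h ∈ E := by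
        have := (Subgroup.mem_normalizer_iff''.1 hn e).1 he
        exact this
      have h1 : (h⁻¹ * e * h) • β = β := mem_stabilizer_iff.1 (hE he')
      rw [← hβγ]
      have : e • h • β = h • ((h⁻¹ * e * h) • β) := by
        simp only [mul_smul, smul_inv_smul]
      rw [this, h1]
  obtain ⟨e, he, he1⟩ := D.exists_ne_one
  have h4 := D.fix4 e he he1
  have huniv : (fixF e : Finset Ω) = Finset.univ := by
    ext ω
    simp only [mem_fixF, Finset.mem_univ, iff_true]
    exact hall ω e he
  rw [huniv, Finset.card_univ, D.card_Ω] at h4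
  norm_num at h4

/-- if `e ∈ E` fixes `β` it fixes the whole `E`-orbit of `β` -/
theorem smul_smul_of_fix {e g : G} (he : e ∈ E) (hg : g ∈ E) {β : Ω} (h : e • β = β) :
    e • g • β = g • β := by
  rw [← mul_smul, D.comm he hg, mul_smul, h]

/-- the pointwise stabilizer in `E` of a point `β ≠ α` is not trivial -/
theorem exists_fix {β : Ω} (hβ : β ≠ α) : ∃ e ∈ E, e ≠ 1 ∧ e • β = β := by
  classical
  by_contra hcon
  push Not at hcon
  haveI : Finite E := Nat.finite_of_card_ne_zero (by rw [D.cardE]; norm_num)
  haveI : Fintype E := Fintype.ofFinite E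
  -- the orbit map is injective
  have hinj : Function.Injective (fun g : E => (g : G) • β) := by
    intro a b hab
    have h1 : ((a : G)⁻¹ * b) • β = β := by
      have hab' : (a : G) • β = (b : G) • β := hab
      rw [mul_smul, ← hab', inv_smul_smul]
    have hmem : (a : G)⁻¹ * b ∈ E := E.mul_mem (E.inv_mem a.2) b.2
    by_contra hne
    apply hcon _ hmem _ h1
    intro h
    apply hne
    apply Subtype.ext
    have : (b : G) = a := by
      calc (b : G) = a * ((a : G)⁻¹ * b) := by group
        _ = a := by rw [h, mul_one]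
    exact this.symm
  let O : Finset Ω := Finset.univ.image (fun g : E => (g : G) • β)
  have hO9 : O.card = 9 := by
    rw [Finset.card_image_of_injective _ hinj, Finset.card_univ, ← Nat.card_eq_fintype_card,
      D.cardE]
  have hαO : α ∉ O := by
    intro h
    obtain ⟨g, -, hg⟩ := Finset.mem_image.1 h
    apply hβ
    have hg' : (g : G) • β = α := hg
    have h2 : β = (g : G)⁻¹ • α := by rw [← hg', inv_smul_smul]
    rw [h2]
    exact D.smul_α (E.inv_mem g.2)
  -- the complement of `{α} ∪ O` has three points
  let R : Finset Ω := (insert α O)ᶜ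
  have hR3 : R.card = 3 := by
    rw [Finset.card_compl, Finset.card_insert_of_notMem hαO, hO9, D.card_Ω]
  -- every nonidentity `e` fixes `R` pointwise
  have hfixR : ∀ e ∈ E, e ≠ 1 → ∀ γ ∈ R, e • γ = γ := by
    intro e he he1 γ hγ
    have h4 := D.fix4 e he he1
    have hαF : α ∈ (fixF e : Finset Ω) := mem_fixF.2 (D.smul_α he)
    have hsub : (fixF e : Finset Ω).erase α ⊆ R := by
      intro ω hω
      rw [Finset.mem_erase] at hω
      rw [Finset.mem_compl, Finset.mem_insert, not_or]
      refine ⟨hω.1, ?_⟩
      intro hωO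
      obtain ⟨g, -, hg⟩ := Finset.mem_image.1 hωO
      have hg' : (g : G) • β = ω := hg
      have h1 : e • ω = ω := mem_fixF.1 hω.2
      rw [← hg'] at h1
      -- then `e` fixes `β`
      have h2 : e • β = β := by
        have hc : (g : G)⁻¹ * (e * g) = e := by
          rw [D.comm he g.2]; group
        calc e • β = ((g : G)⁻¹ * (e * g)) • β := by rw [hc]
          _ = (g : G)⁻¹ • (e • (g : G) • β) := by rw [mul_smul, mul_smul]
          _ = β := by rw [h1, inv_smul_smul]
      exact hcon e he he1 h2
    have hcard : R.card ≤ ((fixF e : Finset Ω).erase α).card := by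
      rw [Finset.card_erase_of_mem hαF, h4, hR3]
    have hEq := Finset.eq_of_subset_of_card_le hsub hcard
    rw [← hEq] at hγ
    exact mem_fixF.1 (Finset.mem_of_mem_erase hγ)
  -- contradiction: a point of `R` is fixed by all of `E`
  have hRne : R.Nonempty := Finset.card_pos.1 (by rw [hR3]; norm_num)
  obtain ⟨γ, hγ⟩ := hRne
  have hγα : γ ≠ α := by
    intro h
    rw [h] at hγ
    rw [Finset.mem_compl] at hγ
    exact hγ (Finset.mem_insert_self _ _)
  apply D.not_le_stabilizer hγα
  intro e he
  rw [mem_stabilizer_iff]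
  by_cases he1 : e = 1
  · rw [he1, one_smul]
  · exact hfixR e he he1 γ hγ

/-- some element of `E` moves `β ≠ α` -/
theorem exists_move {β : Ω} (hβ : β ≠ α) : ∃ g ∈ E, g • β ≠ β := by
  by_contra hcon
  push Not at hcon
  exact D.not_le_stabilizer hβ (fun e he => mem_stabilizer_iff.2 (hcon e he))

/-- **the fixed points of a nonidentity element of `E`** -/
theorem fixF_eq {e : G} (he : e ∈ E) (he1 : e ≠ 1) {β : Ω} (hβ : β ≠ α) (heβ : e • β = β)
    {g : G} (hg : g ∈ E) (hgβ : g • β ≠ β) :
    (fixF e : Finset Ω) = {α, β, g • β, g • g • β} := by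
  have hg3 : g • g • g • β = β := smul_cube (D.expE g hg) β
  have hgα : g • α = α := D.smul_α hg
  have h1 : g • β ≠ α := by
    intro h
    apply hβ
    have : g⁻¹ • (g • β) = g⁻¹ • α := by rw [h]
    rw [inv_smul_smul] at this
    rw [this]
    exact D.smul_α (E.inv_mem hg)
  have h2 : g • g • β ≠ α := by
    intro h
    apply h1
    have : g⁻¹ • (g • g • β) = g⁻¹ • α := by rw [h]
    rw [inv_smul_smul] at this
    rw [this]
    exact D.smul_α (E.inv_mem hg)
  have h3 : g • g • β ≠ g • β := by
    intro h
    exact hgβ (MulAction.injective g h)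
  have h4 : g • g • β ≠ β := by
    intro h
    apply hgβ
    have : g • g • g • β = g • β := by rw [h]
    rw [hg3] at this
    exact this.symm
  symm
  apply Finset.eq_of_subset_of_card_le
  · intro ω hω
    simp only [Finset.mem_insert, Finset.mem_singleton] at hω
    rw [mem_fixF]
    rcases hω with rfl | rfl | rfl | rfl
    · exact D.smul_α he
    · exact heβ
    · exact D.smul_smul_of_fix he hg heβ
    · exact D.smul_smul_of_fix he hg (D.smul_smul_of_fix he hg heβ)
  · rw [D.fix4 e he he1]
    rw [Finset.card_insert_of_notMem, Finset.card_insert_of_notMem, Finset.card_insert_of_notMem,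
      Finset.card_singleton]
    · simp only [Finset.mem_singleton]
      exact fun h => h3 h.symm
    · simp only [Finset.mem_insert, Finset.mem_singleton, not_or]
      exact ⟨fun h => hgβ h.symm, fun h => h4 h.symm⟩
    · simp only [Finset.mem_insert, Finset.mem_singleton, not_or]
      exact ⟨fun h => hβ h.symm, fun h => h1 h.symm, fun h => h2 h.symm⟩

/-- every element of the `E`-orbit of `β` is one of `β, gβ, g²β` -/
theorem orbit_mem {β : Ω} (hβ : β ≠ α) {g : G} (hg : g ∈ E) (hgβ : g • β ≠ β) {k : G}
    (hk : k ∈ E) : k • β = β ∨ k • β = g • β ∨ k • β = g • g • β := by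
  obtain ⟨e, he, he1, heβ⟩ := D.exists_fix hβ
  have hF := D.fixF_eq he he1 hβ heβ hg hgβ
  have hmem : k • β ∈ (fixF e : Finset Ω) := mem_fixF.2 (D.smul_smul_of_fix he hk heβ)
  rw [hF] at hmem
  simp only [Finset.mem_insert, Finset.mem_singleton] at hmem
  rcases hmem with h | h | h | h
  · exfalso
    apply hβ
    have : k⁻¹ • (k • β) = k⁻¹ • α := by rw [h]
    rw [inv_smul_smul] at this
    rw [this]
    exact D.smul_α (E.inv_mem hk)
  · exact Or.inl h
  · exact Or.inr (Or.inl h)
  · exact Or.inr (Or.inr h)

/-- **an element of order three of `G_α` with four fixed points has the fixed points of an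
element of `E`** -/
theorem fixF_eq_of_stab {z : G} (hz : z ∈ stabilizer G α) (hz3 : z ^ 3 = 1)
    (hz4 : (fixF z : Finset Ω).card = 4) {β : Ω} (hβ : β ≠ α) (hzβ : z • β = β)
    {e : G} (he : e ∈ E) (he1 : e ≠ 1) (heβ : e • β = β) :
    (fixF z : Finset Ω) = fixF e := by
  obtain ⟨g, hg, hgβ⟩ := D.exists_move hβ
  have hF := D.fixF_eq he he1 hβ heβ hg hgβ
  have hn := D.normE hz
  -- `z` maps the orbit `{β, gβ, g²β}` to itself
  have horb : ∀ k ∈ E, z • k • β = β ∨ z • k • β = g • β ∨ z • k • β = g • g • β := by
    intro k hk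
    have hk' : z * k * z⁻¹ ∈ E := (Subgroup.mem_normalizer_iff.1 hn k).1 hk
    have : z • k • β = (z * k * z⁻¹) • β := by
      rw [mul_smul, mul_smul]
      congr 2
      have : z⁻¹ • (z • β) = z⁻¹ • β := by rw [hzβ]
      rw [inv_smul_smul] at this
      exact this
    rw [this]
    exact D.orbit_mem hβ hg hgβ hk'
  have hz3' : ∀ ω : Ω, z • z • z • ω = ω := fun ω => smul_cube hz3 ω
  have hg3 : g • g • g • β = β := smul_cube (D.expE g hg) β
  have hgg : g • g • β ≠ g • β := fun h => hgβ (MulAction.injective g h)
  -- `z` fixes `gβ`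
  have hz1 : z • g • β = g • β := by
    rcases horb g hg with h | h | h
    · exfalso
      apply hgβ
      exact MulAction.injective z (h.trans hzβ.symm)
    · exact h
    · -- then `z (g²β) = gβ` and `z³ ≠ 1`
      exfalso
      rcases horb (g * g) (E.mul_mem hg hg) with h' | h' | h'
      · rw [mul_smul] at h'
        have h5 : g • g • β = β := MulAction.injective z (h'.trans hzβ.symm)
        apply hgβ
        have h3 := hg3
        rw [h5] at h3
        exact h3
      · rw [mul_smul] at h'
        have h3 := hz3' (g • β)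
        rw [h, h', h] at h3
        exact hgg h3
      · rw [mul_smul] at h'
        exact hgg (MulAction.injective z (h'.trans h.symm))
  have hz2 : z • g • g • β = g • g • β := by
    rcases horb (g * g) (E.mul_mem hg hg) with h | h | h
    · exfalso
      rw [mul_smul] at h
      have h5 : g • g • β = β := MulAction.injective z (h.trans hzβ.symm)
      apply hgβ
      have h3 := hg3
      rw [h5] at h3
      exact h3
    · exfalso
      rw [mul_smul] at h
      exact hgg (MulAction.injective z (h.trans hz1.symm))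
    · rw [mul_smul] at h
      exact h
  symm
  apply Finset.eq_of_subset_of_card_le
  · rw [hF]
    intro ω hω
    simp only [Finset.mem_insert, Finset.mem_singleton] at hω
    rw [mem_fixF]
    rcases hω with rfl | rfl | rfl | rfl
    · exact mem_stabilizer_iff.1 hz
    · exact hzβ
    · exact hz1
    · exact hz2
  · rw [hz4, D.fix4 e he he1]

end Hyp

end Cfsg.Agent.Lib.Helper2.L33Design
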