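/-
helper2: piece [E] of the team target "simple of order 5616 ⇒ PSL₃(3)", part B:
the lines (fixed point sets of the conjugates of the nonidentity elements of `E`) form a
`G`-invariant `2-(13,4,1)` design.
-/
import Cfsg.Agent.Lib.Helper2.L33DesignA

set_option autoImplicit false

namespace Cfsg.Agent.Lib.Helper2.L33Design

open MulAction

universe u v

variable {G : Type u} [Group G] {Ω : Type v} [MulAction G Ω] [Fintype Ω] [DecidableEq Ω]

/-- the conjugates of the nonidentity elements of `E` -/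
def conjT (E : Subgroup G) : Set G := {z | ∃ g : G, ∃ e ∈ E, e ≠ 1 ∧ z = g * e * g⁻¹}

omit [MulAction G Ω] [Fintype Ω] [DecidableEq Ω] in
theorem conjT_conj {E : Subgroup G} {z : G} (hz : z ∈ conjT E) (h : G) :
    h * z * h⁻¹ ∈ conjT E := by
  obtain ⟨g, e, he, he1, rfl⟩ := hz
  refine ⟨h * g, e, he, he1, ?_⟩
  group

/-- the lines -/
noncomputable def lines (Ω : Type v) [MulAction G Ω] [Fintype Ω] [DecidableEq Ω]
    (E : Subgroup G) : Finset (Finset Ω) := by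
  classical
  exact Finset.univ.filter (fun l => ∃ z ∈ conjT E, l = fixF z)

theorem mem_lines {E : Subgroup G} {l : Finset Ω} :
    l ∈ lines Ω E ↔ ∃ z ∈ conjT E, l = fixF z := by
  classical
  simp [lines]

theorem image_mem_lines {E : Subgroup G} {l : Finset Ω} (hl : l ∈ lines Ω E) (g : G) :
    l.image (fun ω => g • ω) ∈ lines Ω E := by
  obtain ⟨z, hz, rfl⟩ := mem_lines.1 hl
  exact mem_lines.2 ⟨g * z * g⁻¹, conjT_conj hz g, (fixF_conj g z).symm⟩

namespace Hyp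

variable {α : Ω} {E : Subgroup G} (D : Hyp G Ω α E)

include D

theorem conjT_pow {z : G} (hz : z ∈ conjT E) : z ^ 3 = 1 := by
  obtain ⟨g, e, he, -, rfl⟩ := hz
  rw [conj_pow, D.expE e he, mul_one, mul_inv_cancel]

theorem conjT_card {z : G} (hz : z ∈ conjT E) : (fixF z : Finset Ω).card = 4 := by
  obtain ⟨g, e, he, he1, rfl⟩ := hz
  rw [card_fixF_conj]
  exact D.fix4 e he he1

theorem card_of_mem_lines {l : Finset Ω} (hl : l ∈ lines Ω E) : l.card = 4 := by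
  obtain ⟨z, hz, rfl⟩ := mem_lines.1 hl
  exact D.conjT_card hz

theorem exists_ne_α : ∃ β : Ω, β ≠ α := by
  have h : 1 < Fintype.card Ω := by rw [D.card_Ω]; norm_num
  haveI : Nontrivial Ω := Fintype.one_lt_card_iff_nontrivial.1 h
  exact exists_ne α

/-- two points are on a line -/
theorem exists_line {x y : Ω} (hxy : x ≠ y) : ∃ l ∈ lines Ω E, x ∈ l ∧ y ∈ l := by
  obtain ⟨β, hβ⟩ := D.exists_ne_α
  obtain ⟨e, he, he1, heβ⟩ := D.exists_fix hβ
  obtain ⟨g, hgα, hgβ⟩ := D.two_trans (Ne.symm hβ) hxy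
  refine ⟨fixF (g * e * g⁻¹), mem_lines.2 ⟨_, ⟨g, e, he, he1, rfl⟩, rfl⟩, ?_, ?_⟩
  · rw [fixF_conj, Finset.mem_image]
    exact ⟨α, mem_fixF.2 (D.smul_α he), hgα⟩
  · rw [fixF_conj, Finset.mem_image]
    exact ⟨β, mem_fixF.2 heβ, hgβ⟩

/-- two elements of `conjT E` with two common fixed points have the same fixed points -/
theorem fixF_eq_of_common {z₁ z₂ : G} (h₁ : z₁ ∈ conjT E) (h₂ : z₂ ∈ conjT E) {x y : Ω}
    (hxy : x ≠ y) (h₁x : z₁ • x = x) (h₁y : z₁ • y = y) (h₂x : z₂ • x = x) (h₂y : z₂ • y = y) :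
    (fixF z₁ : Finset Ω) = fixF z₂ := by
  obtain ⟨β, hβ⟩ := D.exists_ne_α
  obtain ⟨e, he, he1, heβ⟩ := D.exists_fix hβ
  obtain ⟨g, hgx, hgy⟩ := D.two_trans hxy (Ne.symm hβ)
  have key : ∀ z : G, z ∈ conjT E → z • x = x → z • y = y →
      (fixF (g * z * g⁻¹) : Finset Ω) = fixF e := by
    intro z hz hzx hzy
    have hα : (g * z * g⁻¹) • α = α := by
      rw [← hgx]
      simp only [mul_smul, inv_smul_smul, hzx]
    have hβ' : (g * z * g⁻¹) • β = β := by
      rw [← hgy]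
      simp only [mul_smul, inv_smul_smul, hzy]
    exact D.fixF_eq_of_stab (mem_stabilizer_iff.2 hα) (D.conjT_pow (conjT_conj hz g))
      (D.conjT_card (conjT_conj hz g)) hβ hβ' he he1 heβ
  have h := (key z₁ h₁ h₁x h₁y).trans (key z₂ h₂ h₂x h₂y).symm
  rw [fixF_conj, fixF_conj] at h
  exact Finset.image_injective (MulAction.injective g) h

/-- **the design** -/
theorem design : ∃ L : Finset (Finset Ω), (∀ l ∈ L, l.card = 4) ∧
    (∀ x y : Ω, x ≠ y → ∃! l, l ∈ L ∧ x ∈ l ∧ y ∈ l) ∧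
    (∀ g : G, ∀ l ∈ L, l.image (fun ω => g • ω) ∈ L) := by
  refine ⟨lines Ω E, fun l hl => D.card_of_mem_lines hl, ?_, fun g l hl => image_mem_lines hl g⟩
  intro x y hxy
  obtain ⟨l, hl, hx, hy⟩ := D.exists_line hxy
  refine ⟨l, ⟨hl, hx, hy⟩, ?_⟩
  rintro l' ⟨hl', hx', hy'⟩
  obtain ⟨z, hz, rfl⟩ := mem_lines.1 hl
  obtain ⟨z', hz', rfl⟩ := mem_lines.1 hl'
  exact D.fixF_eq_of_common hz' hz hxy (mem_fixF.1 hx') (mem_fixF.1 hy') (mem_fixF.1 hx)
    (mem_fixF.1 hy)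

end Hyp

end Cfsg.Agent.Lib.Helper2.L33Design
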