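/-
helper2: piece [E] of the team target "simple of order 5616 ⇒ PSL₃(3)", part C:
the coset instantiation and the glue with the character data.
-/
import Cfsg.Agent.Lib.Helper2.L33DesignB
import Cfsg.Agent.Lib.Helper2.M11PermA
import Cfsg.Agent.Lib.Helper24.IrrFacts

set_option autoImplicit false

namespace Cfsg.Agent.Lib.Helper2.L33Design

open MulAction Cfsg Cfsg.Agent.CharLib

universe u

variable {G : Type u} [Group G]

/-- **the permutation character on the cosets of a subgroup of index `d + 1` is `1 + χ`** as soon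
as `χ` is the only nonprincipal irreducible character of degree at most `d` -/
theorem permChar_sub_one_eq_of_gap [Finite G] (H : Subgroup G) {χ : G → ℂ}
    (hχ : IsIrrCharacter G χ) (d : ℕ) (hd : χ 1 = d) (hd1 : 1 ≤ d) (hidx : H.index = d + 1)
    (hgap : ∀ ψ : IrrCharacter G, (ψ : G → ℂ) ≠ 1 → (ψ : G → ℂ) ≠ χ →
      d < charDegree (ψ : G → ℂ)) :
    (fun g : G => (Nat.card (MulAction.fixedBy (G ⧸ H) g) : ℂ)) - 1 = χ := by
  classical
  let _ := Fintype.ofFinite G
  let _ := fintypeIrr G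
  let _ : Fintype H := Fintype.ofFinite H
  set π : G → ℂ := fun g => (Nat.card (MulAction.fixedBy (G ⧸ H) g) : ℂ) with hπdef
  have hπ : IsCharacter G π := isCharacter_card_fixedBy
  have hHne : (Nat.card H : ℂ) ≠ 0 := by
    have : Nat.card H ≠ 0 := Nat.card_pos.ne'
    exact_mod_cast this
  have hπ1 : classInner π 1 = 1 := by
    rw [hπdef, Cfsg.Agent.Lib.Helper2.M11Perm.classInner_permChar H
      (IsCharacter.isClassFunction isCharacter_one)]
    simp only [Pi.one_apply, Finset.sum_const, Finset.card_univ, nsmul_eq_mul, mul_one, map_natCast]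
    rw [← Nat.card_eq_fintype_card, inv_mul_cancel₀ hHne]
  have hchar : IsCharacter G (π - 1) := by
    apply Cfsg.Agent.Lib.Helper6.IsCharacter.sub_constituent hπ isIrrCharacter_one
    rw [hπ1]
    exact one_ne_zero
  have hinner1 : classInner (π - 1) 1 = 0 := by
    rw [classInner_sub_left, hπ1, classInner_irr (isIrrCharacter_one (G := G)) isIrrCharacter_one,
      if_pos rfl, sub_self]
  have hval1 : (π - 1) 1 = (d : ℂ) := by
    have h1 : π 1 = (H.index : ℂ) := by
      simp only [hπdef]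
      congr 1
      rw [Subgroup.index_eq_card]
      apply Nat.card_congr
      refine ⟨fun q => q.1, fun q => ⟨q, ?_⟩, fun _ => rfl, fun _ => rfl⟩
      rw [MulAction.mem_fixedBy, one_smul]
    rw [Pi.sub_apply, h1, Pi.one_apply, hidx]
    push_cast
    ring
  -- some irreducible constituent
  obtain ⟨m, hm, hcoef⟩ := Cfsg.Agent.Lib.Helper6.IsCharacter.exists_decomp_sum hchar
  have hex : ∃ ψ : IrrCharacter G, m ψ ≠ 0 := by
    by_contra hcon
    push Not at hcon
    have h0 : π - 1 = 0 := by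
      rw [hm]
      apply Finset.sum_eq_zero
      intro ψ _
      rw [hcon ψ, zero_smul]
    rw [h0, Pi.zero_apply] at hval1
    have : (d : ℂ) ≠ 0 := by
      have : d ≠ 0 := by omega
      exact_mod_cast this
    exact this hval1.symm
  obtain ⟨ψ, hψ⟩ := hex
  have hψin : classInner (π - 1) (ψ : G → ℂ) ≠ 0 := by
    rw [hcoef ψ]
    exact_mod_cast hψ
  have hψ1 : (ψ : G → ℂ) ≠ 1 := by
    intro h
    rw [h] at hψin
    exact hψin hinner1
  have hψχ : (ψ : G → ℂ) = χ := by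
    by_contra hne
    have hlt := hgap ψ hψ1 hne
    have hsub := Cfsg.Agent.Lib.Helper6.IsCharacter.sub_constituent hchar ψ.2 hψin
    obtain ⟨k, hk⟩ := IsCharacter.apply_one hsub
    rw [Pi.sub_apply, hval1, Cfsg.Agent.Lib.Helper24.irr_apply_one ψ] at hk
    have hk' : (d : ℂ) = ((charDegree (ψ : G → ℂ) + k : ℕ) : ℂ) := by
      push_cast; linear_combination hk
    have hk'' : d = charDegree (ψ : G → ℂ) + k := by exact_mod_cast hk'
    omega
  rw [hψχ] at hψin
  exact Cfsg.Agent.Lib.Helper6.IsCharacter.eq_of_constituent_of_degree_le hchar hχ hψin hval1 hd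
    le_rfl

/-- **`G` is `2`-transitive on the cosets of `H`** under the hypotheses of
`permChar_sub_one_eq_of_gap` -/
theorem isMultiplyPretransitive_two_of_gap [Finite G] (H : Subgroup G) {χ : G → ℂ}
    (hχ : IsIrrCharacter G χ) (d : ℕ) (hd : χ 1 = d) (hd1 : 1 ≤ d) (hidx : H.index = d + 1)
    (hgap : ∀ ψ : IrrCharacter G, (ψ : G → ℂ) ≠ 1 → (ψ : G → ℂ) ≠ χ →
      d < charDegree (ψ : G → ℂ)) :
    MulAction.IsMultiplyPretransitive G (G ⧸ H) 2 := by
  have h := permChar_sub_one_eq_of_gap H hχ d hd hd1 hidx hgap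
  have hX : 2 ≤ Nat.card (G ⧸ H) := by
    rw [← Subgroup.index_eq_card, hidx]; omega
  rw [← isIrrCharacter_card_fixedBy_sub_one_iff hX]
  have h2 : (fun g : G => (Nat.card (MulAction.fixedBy (G ⧸ H) g) : ℂ) - 1) =
      (fun g : G => (Nat.card (MulAction.fixedBy (G ⧸ H) g) : ℂ)) - 1 := rfl
  rw [h2, h]
  exact hχ

theorem card_fixedBy_of_gap [Finite G] (H : Subgroup G) {χ : G → ℂ}
    (hχ : IsIrrCharacter G χ) (d : ℕ) (hd : χ 1 = d) (hd1 : 1 ≤ d) (hidx : H.index = d + 1)
    (hgap : ∀ ψ : IrrCharacter G, (ψ : G → ℂ) ≠ 1 → (ψ : G → ℂ) ≠ χ →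
      d < charDegree (ψ : G → ℂ)) (g : G) :
    (Nat.card (MulAction.fixedBy (G ⧸ H) g) : ℂ) = 1 + χ g := by
  have h := congrFun (permChar_sub_one_eq_of_gap H hχ d hd hd1 hidx hgap) g
  simp only [Pi.sub_apply, Pi.one_apply] at h
  linear_combination h

/-- **the design on the cosets of `H`**, purely permutation-theoretic input. -/
theorem design_of_subgroup [Finite G] (H E : Subgroup G) (hidx : H.index = 13) (hEH : E ≤ H)
    (hHN : H ≤ Subgroup.normalizer (E : Set G)) (hE : Nat.card E = 9)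
    (hexp : ∀ z ∈ E, z ^ 3 = 1)
    (h2t : MulAction.IsMultiplyPretransitive G (G ⧸ H) 2)
    (hfix : ∀ z ∈ E, z ≠ 1 → Nat.card (MulAction.fixedBy (G ⧸ H) z) = 4) :
    ∃ L : Set (Set (G ⧸ H)), (∀ l ∈ L, l.ncard = 4) ∧
      (∀ x y : G ⧸ H, x ≠ y → ∃! l, l ∈ L ∧ x ∈ l ∧ y ∈ l) ∧
      (∀ g : G, ∀ l ∈ L, (fun ω => g • ω) '' l ∈ L) := by
  classical
  haveI : Fintype (G ⧸ H) := Fintype.ofFinite _
  have hstab : stabilizer G ((1 : G) : G ⧸ H) = H := MulAction.stabilizer_quotient H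
  have D : Hyp G (G ⧸ H) ((1 : G) : G ⧸ H) E :=
    { card_Ω := by rw [← Nat.card_eq_fintype_card, ← Subgroup.index_eq_card, hidx]
      fixE := by rw [hstab]; exact hEH
      normE := by rw [hstab]; exact hHN
      cardE := hE
      expE := hexp
      trans2 := h2t
      fix4 := fun z hz hz1 => by rw [card_fixF]; exact hfix z hz hz1 }
  obtain ⟨L, hL4, hLu, hLg⟩ := D.design
  refine ⟨(fun l : Finset (G ⧸ H) => (l : Set (G ⧸ H))) '' (L : Set (Finset (G ⧸ H))), ?_, ?_, ?_⟩
  · rintro _ ⟨l, hl, rfl⟩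
    rw [Set.ncard_coe_finset]
    exact hL4 l hl
  · intro x y hxy
    obtain ⟨l, ⟨hl, hx, hy⟩, huniq⟩ := hLu x y hxy
    refine ⟨(l : Set (G ⧸ H)), ⟨⟨l, hl, rfl⟩, hx, hy⟩, ?_⟩
    rintro _ ⟨⟨l', hl', rfl⟩, hx', hy'⟩
    rw [huniq l' ⟨hl', hx', hy'⟩]
  · rintro g _ ⟨l, hl, rfl⟩
    refine ⟨l.image (fun ω => g • ω), hLg g l hl, ?_⟩
    simp only [Finset.coe_image]

end Cfsg.Agent.Lib.Helper2.L33Design
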