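/-
helper2: piece [E] of the team target "simple of order 5616 ⇒ PSL₃(3)", part D:
the design as a Steiner system `S(2,4,13)` in the sense of the Prelude, and the glue with the
character data and the `3`-local data.
-/
import Cfsg.Agent.Lib.Helper2.L33DesignC
import Cfsg.Prelude.Def_Sporadic_a

set_option autoImplicit false

namespace Cfsg.Agent.Lib.Helper2.L33Design

open MulAction Cfsg Cfsg.Agent.CharLib

universe u v

section general

variable {G : Type u} [Group G] {Ω : Type v} [MulAction G Ω] [Fintype Ω] [DecidableEq Ω]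

/-- the lines form a Steiner system `S(2,4,13)` -/
theorem Hyp.isSteinerSystem {α : Ω} {E : Subgroup G} (D : Hyp G Ω α E) :
    IsSteinerSystem 2 4 ((lines Ω E : Finset (Finset Ω)) : Set (Finset Ω)) := by
  refine ⟨fun b hb => D.card_of_mem_lines (Finset.mem_coe.1 hb), ?_⟩
  intro s hs
  obtain ⟨x, y, hxy, rfl⟩ := Finset.card_eq_two.1 hs
  obtain ⟨l, hl, hx, hy⟩ := D.exists_line hxy
  refine ⟨l, ⟨Finset.mem_coe.2 hl, ?_⟩, ?_⟩
  · intro w hw
    rw [Finset.mem_insert, Finset.mem_singleton] at hw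
    rcases hw with rfl | rfl
    · exact hx
    · exact hy
  · rintro l' ⟨hl', hsub⟩
    have hl'' : l' ∈ lines Ω E := Finset.mem_coe.1 hl'
    have hx' : x ∈ l' := hsub (Finset.mem_insert_self _ _)
    have hy' : y ∈ l' := hsub (Finset.mem_insert_of_mem (Finset.mem_singleton_self _))
    obtain ⟨z, hz, rfl⟩ := mem_lines.1 hl
    obtain ⟨z', hz', rfl⟩ := mem_lines.1 hl''
    exact D.fixF_eq_of_common hz' hz hxy (mem_fixF.1 hx') (mem_fixF.1 hy') (mem_fixF.1 hx)
      (mem_fixF.1 hy)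

end general

variable {G : Type u} [Group G]

/-- **the Steiner system on the cosets of `H`**, purely permutation-theoretic input; any
`Fintype` and `DecidableEq` instances on `G ⧸ H`. -/
theorem steiner_of_subgroup [Finite G] (H E : Subgroup G) [Fintype (G ⧸ H)] [DecidableEq (G ⧸ H)]
    (hidx : H.index = 13) (hEH : E ≤ H)
    (hHN : H ≤ Subgroup.normalizer (E : Set G)) (hE : Nat.card E = 9)
    (hexp : ∀ z ∈ E, z ^ 3 = 1)
    (h2t : MulAction.IsMultiplyPretransitive G (G ⧸ H) 2)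
    (hfix : ∀ z ∈ E, z ≠ 1 → Nat.card (MulAction.fixedBy (G ⧸ H) z) = 4) :
    ∃ B : Set (Finset (G ⧸ H)), IsSteinerSystem 2 4 B ∧
      ∀ g : G, ∀ b ∈ B, b.image (fun ω => g • ω) ∈ B := by
  have hstab : stabilizer G ((1 : G) : G ⧸ H) = H := MulAction.stabilizer_quotient H
  have D : Hyp G (G ⧸ H) ((1 : G) : G ⧸ H) E :=
    { card_Ω := by rw [← Nat.card_eq_fintype_card, ← Subgroup.index_eq_card, hidx]
      fixE := by rw [hstab]; exact hEH
      normE := by rw [hstab]; exact hHN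
      cardE := hE
      expE := hexp
      trans2 := h2t
      fix4 := fun z hz hz1 => by rw [card_fixF]; exact hfix z hz hz1 }
  refine ⟨_, D.isSteinerSystem, ?_⟩
  intro g b hb
  exact Finset.mem_coe.2 (image_mem_lines (Finset.mem_coe.1 hb) g)

/-- **the glue**: the character of degree `12` and the subgroup `E` of order `9` give a subgroup
of index `13` on whose cosets `G` preserves a Steiner system `S(2,4,13)`. -/
theorem steiner_of_data [Finite G] (hG : Nat.card G = 5616) (χ : IrrCharacter G)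
    (ha : charDegree (χ : G → ℂ) = 12)
    (hb : ∀ ψ : IrrCharacter G, (ψ : G → ℂ) ≠ 1 → ψ ≠ χ → 13 ≤ charDegree (ψ : G → ℂ))
    (hc : ∀ z : G, orderOf z = 3 → Nat.card (Subgroup.centralizer ({z} : Set G)) = 54 →
      (χ : G → ℂ) z = 3)
    (E : Subgroup G) (hE : Nat.card E = 9)
    (hE3 : ∀ z ∈ E, z ≠ 1 → orderOf z = 3 ∧ Nat.card (Subgroup.centralizer ({z} : Set G)) = 54)
    (hN : Nat.card (Subgroup.normalizer (E : Set G)) = 432) :
    ∃ H : Subgroup G, H.index = 13 ∧ ∀ [Fintype (G ⧸ H)] [DecidableEq (G ⧸ H)],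
      MulAction.IsMultiplyPretransitive G (G ⧸ H) 2 ∧
      ∃ B : Set (Finset (G ⧸ H)), IsSteinerSystem 2 4 B ∧
        ∀ g : G, ∀ b ∈ B, b.image (fun ω => g • ω) ∈ B := by
  set H : Subgroup G := Subgroup.normalizer (E : Set G) with hH
  have hidx : H.index = 13 := by
    have h := Subgroup.card_mul_index H
    rw [hN, hG] at h
    omega
  have hχ1 : (χ : G → ℂ) 1 = ((12 : ℕ) : ℂ) := by
    rw [Cfsg.Agent.Lib.Helper24.irr_apply_one χ, ha]
  have hgap : ∀ ψ : IrrCharacter G, (ψ : G → ℂ) ≠ 1 → (ψ : G → ℂ) ≠ (χ : G → ℂ) →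
      12 < charDegree (ψ : G → ℂ) := by
    intro ψ h1 h2
    have := hb ψ h1 (fun h => h2 (by rw [h]))
    omega
  have h2t : MulAction.IsMultiplyPretransitive G (G ⧸ H) 2 :=
    isMultiplyPretransitive_two_of_gap H χ.2 12 hχ1 (by norm_num) hidx hgap
  refine ⟨H, hidx, ?_⟩
  intro _ _
  refine ⟨h2t, ?_⟩
  apply steiner_of_subgroup H E hidx Subgroup.le_normalizer le_rfl hE
  · intro z hz
    by_cases hz1 : z = 1
    · rw [hz1, one_pow]
    · rw [← (hE3 z hz hz1).1]
      exact pow_orderOf_eq_one z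
  · exact h2t
  · intro z hz hz1
    have h := card_fixedBy_of_gap H χ.2 12 hχ1 (by norm_num) hidx hgap z
    rw [hc z (hE3 z hz hz1).1 (hE3 z hz hz1).2] at h
    have h' : (Nat.card (MulAction.fixedBy (G ⧸ H) z) : ℂ) = ((4 : ℕ) : ℂ) := by
      rw [h]; norm_num
    exact_mod_cast h'

end Cfsg.Agent.Lib.Helper2.L33Design
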