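/-
helper2: the endgame of the team target (T): a simple group of order `5616` is isomorphic to the
automorphism group of the cyclic projective plane of order `3`, hence to `PSL₃(3)`.
-/
import Cfsg.Agent.Lib.Helper24.L33Glue
import Cfsg.Agent.Lib.Helper2.L33AutBound
import Cfsg.Agent.Lib.Helper1.L33RecC

set_option autoImplicit false

namespace Cfsg.Agent.Lib.Helper2.L33Final

open Cfsg Cfsg.Agent.Lib.Helper10.StCertK
open scoped Pointwise

universe u

/-- **(F\*)**: a simple group of order `5616` is the full automorphism group of the cyclic plane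
of order `3` -/
theorem nonempty_mulEquiv_aut {G : Type u} [Group G] [Finite G] [IsSimpleGroup G]
    (hG : Nat.card G = 5616) : Nonempty (G ≃* ↥(setSystemAut cyclicPlane13)) := by
  classical
  obtain ⟨H, hidx, hH⟩ := Cfsg.Agent.Lib.Helper24.L33Loc.exists_steiner hG
  haveI : Fintype (G ⧸ H) := Fintype.ofFinite _
  obtain ⟨-, B, hB, hinv⟩ := hH
  have hcard : Fintype.card (G ⧸ H) = 13 := by
    rw [← Nat.card_eq_fintype_card, ← Subgroup.index_eq_card, hidx]
  obtain ⟨e, he⟩ := plane13_unique' hcard hB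
  -- the action transported to `Fin 13`
  let φ : G →* Equiv.Perm (Fin 13) :=
    (e.permCongrHom.toMonoidHom).comp (MulAction.toPermHom G (G ⧸ H))
  have hφ : ∀ (g : G) (x : Fin 13), φ g x = e (g • e.symm x) := fun g x => rfl
  -- `φ g` maps lines to lines
  have hsub : ∀ g : G, ∀ b' ∈ cyclicPlane13, φ g • b' ∈ cyclicPlane13 := by
    intro g b' hb'
    rw [← he] at hb' ⊢
    obtain ⟨b, hb, rfl⟩ := hb'
    refine ⟨b.image (fun ω => g • ω), hinv g b hb, ?_⟩
    ext x
    simp only [Finset.mem_image, Finset.mem_smul_finset, Equiv.Perm.smul_def]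
    constructor
    · rintro ⟨y, ⟨w, hw, rfl⟩, rfl⟩
      exact ⟨e w, ⟨w, hw, rfl⟩, by rw [hφ, Equiv.symm_apply_apply]⟩
    · rintro ⟨y, ⟨w, hw, rfl⟩, rfl⟩
      exact ⟨g • w, ⟨w, hw, rfl⟩, by rw [hφ, Equiv.symm_apply_apply]⟩
  have hmem : ∀ g : G, φ g ∈ setSystemAut cyclicPlane13 := by
    intro g
    rw [MulAction.mem_stabilizer_iff]
    apply Set.Subset.antisymm
    · rintro _ ⟨b', hb', rfl⟩
      exact hsub g b' hb'
    · intro b' hb'
      refine ⟨φ g⁻¹ • b', hsub g⁻¹ b' hb', ?_⟩
      show φ g • φ g⁻¹ • b' = b'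
      rw [smul_smul, ← map_mul, mul_inv_cancel, map_one, one_smul]
  let ψ : G →* ↥(setSystemAut cyclicPlane13) := φ.codRestrict _ hmem
  -- injectivity from simplicity
  have hker : ψ.ker = ⊥ := by
    rcases (ψ.normal_ker).eq_bot_or_eq_top with h | h
    · exact h
    · exfalso
      -- then `G` acts trivially on `G ⧸ H`, so `H = ⊤`
      have htriv : ∀ g : G, g ∈ H := by
        intro g
        have hg : g ∈ ψ.ker := by rw [h]; exact Subgroup.mem_top g
        have h1 : φ g = 1 := by
          have := MonoidHom.mem_ker.1 hg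
          exact congrArg Subtype.val this
        have h2 := hφ g (e ((1 : G) : G ⧸ H))
        rw [h1, Equiv.Perm.one_apply, Equiv.symm_apply_apply] at h2
        have h3 : g • ((1 : G) : G ⧸ H) = ((1 : G) : G ⧸ H) := (e.injective h2).symm
        have h4 : g ∈ MulAction.stabilizer G (((1 : G) : G ⧸ H)) := MulAction.mem_stabilizer_iff.2 h3
        rwa [MulAction.stabilizer_quotient] at h4
      have hHtop : H = ⊤ := (Subgroup.eq_top_iff' H).2 htriv
      rw [hHtop, Subgroup.index_top] at hidx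
      omega
  have hinj : Function.Injective ψ := (MonoidHom.ker_eq_bot_iff ψ).1 hker
  haveI : Finite ↥(setSystemAut cyclicPlane13) := inferInstance
  have hle : Nat.card ↥(setSystemAut cyclicPlane13) ≤ Nat.card G := by
    rw [hG]
    exact Cfsg.Agent.Lib.Helper2.L33Aut.card_setSystemAut_cyclicPlane13_le
  have hbij : Function.Bijective ψ := hinj.bijective_of_nat_card_le hle
  exact ⟨MulEquiv.ofBijective ψ hbij⟩

/-- **(T)**: a simple group of order `5616` is isomorphic to `PSL₃(3)` -/
theorem nonempty_mulEquiv_PSL {G : Type u} [Group G] [Finite G] [IsSimpleGroup G]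
    (hG : Nat.card G = 5616) :
    Nonempty (G ≃* Matrix.ProjectiveSpecialLinearGroup (Fin 3) (ZMod 3)) := by
  haveI : Fact (Nat.Prime 3) := ⟨Nat.prime_three⟩
  haveI : IsSimpleGroup (Matrix.ProjectiveSpecialLinearGroup (Fin 3) (ZMod 3)) :=
    Cfsg.Agent.Lib.Helper1.L33Rec.isSimpleGroup_L33
  obtain ⟨e1⟩ := nonempty_mulEquiv_aut hG
  obtain ⟨e2⟩ := nonempty_mulEquiv_aut Cfsg.Agent.Lib.Helper1.L33Rec.card_L33
  exact ⟨e1.trans e2.symm⟩

end Cfsg.Agent.Lib.Helper2.L33Final
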