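import Cfsg.Agent.Lib.Helper14.LargeESH
import Cfsg.Agent.Lib.Helper9.Components
import Cfsg.Agent.Lib.Helper9.FStar
import Cfsg.Agent.Lib.Helper9.FStar2
import Cfsg.Agent.Lib.Helper9.Socle
import Cfsg.Agent.Lib.Helper9.Transport
import Cfsg.Agent.Lib.Helper8.FStar
import Cfsg.Agent.Lib.Helper8.Layer
import Cfsg.Agent.Lib.Helper1.Fitting

/-!
helper2: S5426 (Aschbacher: structure of the normal closure of `z` for a large extraspecial `Q`).
Part A: the basic package from largeness; subgroups normalized by `Q` not containing `z` are trivial;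
no component of `G` centralizes `z`.
-/

set_option autoImplicit false
open scoped commutatorElement

namespace Cfsg.Agent.Lib.Helper2.LXS

open Cfsg.Agent.Lib.Helper20.ES Cfsg.Agent.Lib.Helper14.LES

variable {G : Type*} [Group G] [Finite G]

/-- the basic package from largeness -/
theorem base_of_large (Q : Subgroup G) (hQ : Cfsg.IsLargeExtraspecial Q) (z : G)
    (hz : ((Subgroup.center ↥Q).map Q.subtype) = Subgroup.zpowers z) : Base Q z := by
  obtain ⟨hL1, hL2, hL3, hL4⟩ := hQ
  obtain ⟨z₀, hz₀, hA₀⟩ := exists_amb Q hL1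
  have h0 : Subgroup.zpowers z = Subgroup.zpowers (z₀ : G) := by rw [← hz, hA₀.center_eq]
  have hz1 : z ≠ 1 := by
    intro h
    rw [h, Subgroup.zpowers_one_eq_bot] at h0
    have : (z₀ : G) ∈ (⊥ : Subgroup G) := by rw [h0]; exact Subgroup.mem_zpowers _
    exact hA₀.z1 (Subgroup.mem_bot.mp this)
  have hzz : z = (z₀ : G) := by
    have h1 : z ∈ Subgroup.zpowers (z₀ : G) := by rw [← h0]; exact Subgroup.mem_zpowers z
    rcases (hA₀.mem_zpowers z).mp h1 with h | h
    · exact absurd h hz1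
    · exact h
  rw [hzz]
  rw [hzz] at hz
  refine ⟨hA₀, ?_, ?_, hL1⟩
  · intro x hx
    have : x ∈ Subgroup.zpowers (z₀ : G) := by
      rw [← hz, ← hL2, Subgroup.mem_centralizer_iff]
      intro q hq
      exact (hx q hq).symm
    exact (hA₀.mem_zpowers x).mp this
  · intro x hx
    apply hL3
    rw [hz, Subgroup.mem_centralizer_iff]
    intro y hy
    rcases (hA₀.mem_zpowers y).mp hy with rfl | rfl
    · simp
    · exact hx.symm

variable {Q : Subgroup G} {z : G}

/-- a subgroup normalized by `Q` and not containing `z` is trivial -/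
theorem eq_bot_of_normalized (h : Base Q z) (hL : Cfsg.IsLargeExtraspecial Q) (N : Subgroup G)
    (hQN : Q ≤ Subgroup.normalizer (N : Set G)) (hzN : z ∉ N) : N = ⊥ := by
  have hNQ : ∀ x ∈ N, x ∈ Q → x = 1 := by
    intro x hxN hxQ
    by_contra hx1
    apply hzN
    by_cases hxz : x = z
    · exact hxz ▸ hxN
    · obtain ⟨q, hq, hqx⟩ := amb_exists_conj_mul h.amb x hxQ hx1 hxz
      have h1 : z = (q * x * q⁻¹) * x⁻¹ := by rw [hqx]; group
      rw [h1]
      exact Subgroup.mul_mem _ ((Subgroup.mem_normalizer_iff.mp (hQN hq) x).mp hxN)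
        (Subgroup.inv_mem _ hxN)
  have hzNn : z ∈ Subgroup.normalizer (N : Set G) := hQN h.amb.zQ
  have hfpf : ∀ d ∈ N, d * z = z * d → d = 1 := by
    intro d hd hdz
    have hdN := h.nQ d hdz
    have hall : ∀ q ∈ Q, d * q = q * d := by
      intro q hq
      have h1 : d * q * d⁻¹ * q⁻¹ ∈ Q :=
        Subgroup.mul_mem _ ((Subgroup.mem_normalizer_iff.mp hdN q).mp hq) (Subgroup.inv_mem _ hq)
      have h2 : d * q * d⁻¹ * q⁻¹ ∈ N := by
        have h4 : d * q * d⁻¹ * q⁻¹ = d * (q * d⁻¹ * q⁻¹) := by group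
        rw [h4]
        exact Subgroup.mul_mem _ hd
          ((Subgroup.mem_normalizer_iff.mp (hQN hq) d⁻¹).mp (Subgroup.inv_mem _ hd))
      have h5 := hNQ _ h2 h1
      calc d * q = (d * q * d⁻¹ * q⁻¹) * (q * d) := by group
        _ = q * d := by rw [h5, one_mul]
    rcases h.cQ d hall with h1 | h1
    · exact h1
    · exact absurd (h1 ▸ hd) hzN
  obtain ⟨-, -, hodd⟩ := inverts_of_fpf N z h.amb.zz hzNn hfpf
  exact hL.2.2.2 N hodd hQN

omit [Finite G] in
/-- a subgroup commuting elementwise with `Q` lies in `{1, z}` hence is commutative -/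
theorem commute_of_centralizes (h : Base Q z) (K : Subgroup G)
    (hK : ∀ k ∈ K, ∀ q ∈ Q, k * q = q * k) : ∀ a ∈ K, ∀ b ∈ K, a * b = b * a := by
  intro a ha b hb
  rcases h.cQ a (hK a ha) with rfl | rfl
  · simp
  · rcases h.cQ b (hK b hb) with rfl | rfl
    · simp
    · rfl

/-- no component of `G` centralizes `z` -/
theorem not_component_of_le_cent (h : Base Q z) (K : Subgroup G) (hK : Cfsg.IsComponent K)
    (hKz : ∀ k ∈ K, k * z = z * k) : False := by
  set Hc := Subgroup.centralizer ({z} : Set G) with hHc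
  have hKH : K ≤ Hc := fun k hk => (mem_cent_iff z k).mpr (hKz k hk)
  have hQH : Q ≤ Hc := fun q hq => (mem_cent_iff z q).mpr (h.amb.zc q hq)
  have hcomp : Cfsg.IsComponent (K.subgroupOf Hc) :=
    Cfsg.Agent.Lib.Helper9.isComponent_subgroupOf hKH hK
  have hQn : (Q.subgroupOf Hc).Normal := by
    refine ⟨fun x hx g => ?_⟩
    rw [Subgroup.mem_subgroupOf] at hx ⊢
    have hg := h.nQ (g : G) ((mem_cent_iff z g).mp g.2)
    exact (Subgroup.mem_normalizer_iff.mp hg x).mp hx
  have hQsol : Group.IsSolvable ↥(Q.subgroupOf Hc) := by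
    have : Fact (Nat.Prime 2) := ⟨Nat.prime_two⟩
    have hp : IsPGroup 2 ↥(Q.subgroupOf Hc) := by
      have e : ↥(Q.subgroupOf Hc) ≃* ↥Q := Subgroup.subgroupOfEquivOfLe hQH
      exact h.amb.pgroup.of_equiv e.symm
    have := hp.isNilpotent
    infer_instance
  have hcomm := Cfsg.Agent.Lib.Helper9.component_commutator_solvable_eq_bot
    (K.subgroupOf Hc) (Q.subgroupOf Hc) hcomp hQn.isSubnormal hQsol
  have hcent : ∀ k ∈ K, ∀ q ∈ Q, k * q = q * k := by
    intro k hk q hq
    have h1 : (⟨k, hKH hk⟩ : ↥Hc) ∈ K.subgroupOf Hc := by rw [Subgroup.mem_subgroupOf]; exact hk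
    have h2 : (⟨q, hQH hq⟩ : ↥Hc) ∈ Q.subgroupOf Hc := by rw [Subgroup.mem_subgroupOf]; exact hq
    have h3 := (Subgroup.commutator_eq_bot_iff_le_centralizer.mp hcomm) h1
    have h4 := Subgroup.mem_centralizer_iff.mp h3 _ h2
    have h5 := congrArg Subtype.val h4
    exact h5.symm
  have hab := commute_of_centralizes h K hcent
  -- a commutative quasisimple group is impossible
  have hperf : ⁅K, K⁆ = K := Cfsg.Agent.Lib.Helper8.isComponent_perfect hK
  have hbot : ⁅K, K⁆ = ⊥ := by
    rw [Subgroup.commutator_eq_bot_iff_le_centralizer]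
    intro a ha
    rw [Subgroup.mem_centralizer_iff]
    intro b hb
    exact hab b hb a ha
  have hKbot : K = ⊥ := by rw [← hperf, hbot]
  have hnt := Cfsg.Agent.Lib.Helper8.isQuasisimple_nontrivial hK.2
  obtain ⟨⟨a, ha⟩, ⟨b, hb⟩, hne⟩ := hnt
  rw [hKbot, Subgroup.mem_bot] at ha hb
  apply hne
  apply Subtype.ext
  show a = b
  rw [ha, hb]

/-- every nontrivial normal subgroup contains the normal closure of `z` -/
theorem normalClosure_le_of_ne_bot (h : Base Q z) (hL : Cfsg.IsLargeExtraspecial Q)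
    (N : Subgroup G) [hN : N.Normal] (hN0 : N ≠ ⊥) : Subgroup.normalClosure ({z} : Set G) ≤ N := by
  apply Subgroup.normalClosure_le_normal
  intro x hx
  rw [Set.mem_singleton_iff] at hx
  subst hx
  by_contra hzN
  exact hN0 (h.eq_bot_of_not_mem hL N hzN)

end Cfsg.Agent.Lib.Helper2.LXS
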