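import Cfsg.Agent.Lib.Helper2.LXSA

/-!
helper2: S5426 part B: the dichotomy `F(G) ≠ 1` (then `⟨z^G⟩` is abelian and `F*(G) = O_2(G)`) versus
`F(G) = 1` (then `⟨z^G⟩ = E(G) = F*(G)`), and transitivity of `Q` on the components.
-/

set_option autoImplicit false
open scoped commutatorElement

namespace Cfsg.Agent.Lib.Helper2.LXS

open Cfsg.Agent.Lib.Helper20.ES Cfsg.Agent.Lib.Helper14.LES

variable {G : Type*} [Group G] [Finite G] {Q : Subgroup G} {z : G}

theorem orderOf_z (h : Base Q z) : orderOf z = 2 := by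
  apply orderOf_eq_prime
  · rw [pow_two]; exact h.amb.zz
  · exact h.amb.z1

/-- odd `p`-cores are trivial -/
theorem pCore_eq_bot_of_ne_two (h : Base Q z) (hL : Cfsg.IsLargeExtraspecial Q) (p : ℕ)
    [hp : Fact p.Prime] (hp2 : p ≠ 2) : Cfsg.pCore p G = ⊥ := by
  haveI := Cfsg.Agent.Lib.Helper1.pCore_normal p G
  apply h.eq_bot_of_not_mem hL
  intro hz
  have hpg := Cfsg.Agent.Lib.Helper1.pCore_isPGroup p G
  obtain ⟨k, hk⟩ := hpg ⟨z, hz⟩
  have hk' : z ^ (p ^ k) = 1 := by
    have := congrArg Subtype.val hk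
    simpa using this
  have h1 : orderOf z ∣ p ^ k := orderOf_dvd_of_pow_eq_one hk'
  rw [orderOf_z h] at h1
  have h2 : 2 ∣ p := Nat.Prime.dvd_of_dvd_pow Nat.prime_two h1
  have h3 := (Nat.prime_dvd_prime_iff_eq Nat.prime_two hp.out).mp h2
  exact hp2 h3.symm

theorem fittingSubgroup_eq_pCore_two (h : Base Q z) (hL : Cfsg.IsLargeExtraspecial Q) :
    Cfsg.fittingSubgroup G = Cfsg.pCore 2 G := by
  rw [Cfsg.Agent.Lib.Helper1.fittingSubgroup_eq_iSup_pCore]
  apply le_antisymm
  · apply iSup_le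
    intro p
    by_cases hp2 : (p : ℕ) = 2
    · rw [hp2]
    · haveI : Fact (Nat.Prime (p : ℕ)) := ⟨p.2⟩
      rw [pCore_eq_bot_of_ne_two h hL (p : ℕ) hp2]
      exact bot_le
  · exact le_iSup (fun p : Nat.Primes => Cfsg.pCore (p : ℕ) G) ⟨2, Nat.prime_two⟩

/-- if a component exists then `z` does not lie in the Fitting subgroup -/
theorem layer_eq_bot_of_z_mem_fitting (h : Base Q z) (hzF : z ∈ Cfsg.fittingSubgroup G) :
    Cfsg.layer G = ⊥ := by
  rw [Cfsg.Agent.Lib.Helper9.layer_eq_bot_iff]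
  intro K hK
  apply not_component_of_le_cent h K hK
  intro k hk
  have h1 : k ∈ Subgroup.centralizer (Cfsg.fittingSubgroup G : Set G) :=
    Cfsg.Agent.Lib.Helper9.layer_le_centralizer_fittingSubgroup
      (Cfsg.Agent.Lib.Helper9.component_le_layer hK hk)
  exact (Subgroup.mem_centralizer_iff.mp h1 z hzF).symm

/-- **Case `F(G) ≠ 1`.** -/
theorem case_fitting_ne_bot (h : Base Q z) (hL : Cfsg.IsLargeExtraspecial Q)
    (hF : Cfsg.fittingSubgroup G ≠ ⊥) :
    IsMulCommutative ↥(Subgroup.normalClosure ({z} : Set G)) ∧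
      Cfsg.generalizedFittingSubgroup G = Cfsg.pCore 2 G := by
  haveI : Fact (Nat.Prime 2) := ⟨Nat.prime_two⟩
  have hFR := fittingSubgroup_eq_pCore_two h hL
  set R := Cfsg.pCore 2 G with hR
  haveI hRn : R.Normal := Cfsg.Agent.Lib.Helper1.pCore_normal 2 G
  have hR0 : R ≠ ⊥ := by rw [← hFR]; exact hF
  have hRp : IsPGroup 2 ↥R := Cfsg.Agent.Lib.Helper1.pCore_isPGroup 2 G
  haveI : Nontrivial ↥R := (Subgroup.nontrivial_iff_ne_bot R).mpr hR0
  have hcn : Nontrivial (Subgroup.center ↥R) := hRp.center_nontrivial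
  set Z : Subgroup G := (Subgroup.center ↥R).map R.subtype with hZ
  haveI hZn : Z.Normal := ConjAct.normal_of_characteristic_of_normal
  have hZ0 : Z ≠ ⊥ := by
    intro h0
    have := (Subgroup.map_eq_bot_iff_of_injective _ R.subtype_injective).mp h0
    rw [← Subgroup.nontrivial_iff_ne_bot] at *
    exact (Subgroup.nontrivial_iff_ne_bot _).mp hcn this
  have hMZ := normalClosure_le_of_ne_bot h hL Z hZ0
  have hzZ : z ∈ Z := hMZ (Subgroup.subset_normalClosure (Set.mem_singleton z))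
  have hZR : Z ≤ R := by
    rintro _ ⟨x, -, rfl⟩
    exact x.2
  have hZcomm : ∀ a ∈ Z, ∀ b ∈ Z, a * b = b * a := by
    rintro _ ⟨a, ha, rfl⟩ _ ⟨b, hb, rfl⟩
    have := Subgroup.mem_center_iff.mp ha b
    have h2 := congrArg Subtype.val this
    exact h2.symm
  refine ⟨⟨⟨?_⟩⟩, ?_⟩
  · rintro ⟨a, ha⟩ ⟨b, hb⟩
    apply Subtype.ext
    exact hZcomm a (hMZ ha) b (hMZ hb)
  · have hzF : z ∈ Cfsg.fittingSubgroup G := by rw [hFR]; exact hZR hzZ
    have hlay := layer_eq_bot_of_z_mem_fitting h hzF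
    show Cfsg.layer G ⊔ Cfsg.fittingSubgroup G = R
    rw [hlay, bot_sup_eq, hFR]

/-- **Case `F(G) = 1`.** -/
theorem case_fitting_eq_bot (h : Base Q z) (hL : Cfsg.IsLargeExtraspecial Q)
    (hF : Cfsg.fittingSubgroup G = ⊥) :
    Subgroup.normalClosure ({z} : Set G) = Cfsg.generalizedFittingSubgroup G ∧
      Subgroup.normalClosure ({z} : Set G) = Cfsg.layer G ∧
      ¬ IsMulCommutative ↥(Subgroup.normalClosure ({z} : Set G)) := by
  have hFs : Cfsg.generalizedFittingSubgroup G = Cfsg.layer G := by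
    show Cfsg.layer G ⊔ Cfsg.fittingSubgroup G = Cfsg.layer G
    rw [hF, sup_bot_eq]
  have hlay0 : Cfsg.layer G ≠ ⊥ := by
    intro h0
    have h1 := Cfsg.Agent.Lib.Helper9.centralizer_generalizedFittingSubgroup_le (G := G)
    rw [hFs, h0] at h1
    have h2 : z ∈ Subgroup.centralizer ((⊥ : Subgroup G) : Set G) := by
      rw [Subgroup.mem_centralizer_iff]
      intro y hy
      rw [SetLike.mem_coe, Subgroup.mem_bot] at hy
      rw [hy]; simp
    exact h.amb.z1 (Subgroup.mem_bot.mp (h1 h2))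
  have hM1 : Subgroup.normalClosure ({z} : Set G) ≤ Cfsg.layer G :=
    normalClosure_le_of_ne_bot h hL (Cfsg.layer G) hlay0
  have hzM : z ∈ Subgroup.normalClosure ({z} : Set G) :=
    Subgroup.subset_normalClosure (Set.mem_singleton z)
  have hM2 : Cfsg.layer G ≤ Subgroup.normalClosure ({z} : Set G) := by
    apply sSup_le
    intro K hK
    have hMn : (Subgroup.normalClosure ({z} : Set G)).Normal := Subgroup.normalClosure_normal
    rcases Cfsg.Agent.Lib.Helper9.component_le_or_commutator_eq_bot K _ hK hMn.isSubnormal with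
      h1 | h1
    · exact h1
    · exfalso
      apply not_component_of_le_cent h K hK
      intro k hk
      have h3 := (Subgroup.commutator_eq_bot_iff_le_centralizer.mp h1) hk
      exact (Subgroup.mem_centralizer_iff.mp h3 z hzM).symm
  have hM : Subgroup.normalClosure ({z} : Set G) = Cfsg.layer G := le_antisymm hM1 hM2
  refine ⟨hM.trans hFs.symm, hM, ?_⟩
  intro hcomm
  rw [hM] at hcomm
  apply hlay0
  rw [← Cfsg.Agent.Lib.Helper9.layer_commutator_eq, Subgroup.commutator_eq_bot_iff_le_centralizer]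
  intro a ha
  rw [Subgroup.mem_centralizer_iff]
  intro b hb
  have := hcomm.is_comm.comm (⟨b, hb⟩ : ↥(Cfsg.layer G)) ⟨a, ha⟩
  exact congrArg Subtype.val this

end Cfsg.Agent.Lib.Helper2.LXS
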