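import Cfsg.Agent.Lib.Helper2.LXSB

/-!
helper2: S5426 part C: `F(G) = 1`: components are simple, `Q` is transitive on them,
coordinates with respect to a component `K` (`E(G) ≤ K × C_G(K)`), and the key computation.
-/

set_option autoImplicit false
open scoped commutatorElement

namespace Cfsg.Agent.Lib.Helper2.LXS

open Cfsg.Agent.Lib.Helper20.ES Cfsg.Agent.Lib.Helper14.LES

variable {G : Type*} [Group G]

/-- conjugate subgroup -/
abbrev cj (g : G) (K : Subgroup G) : Subgroup G := K.map (MulAut.conj g).toMonoidHom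

theorem mem_cj {g : G} {K : Subgroup G} {x : G} : x ∈ cj g K ↔ ∃ k ∈ K, x = g * k * g⁻¹ := by
  constructor
  · rintro ⟨k, hk, rfl⟩
    exact ⟨k, hk, by simp [MulAut.conj_apply]⟩
  · rintro ⟨k, hk, rfl⟩
    exact ⟨k, hk, by simp [MulAut.conj_apply]⟩

theorem conj_mem_cj {g : G} {K : Subgroup G} {k : G} (hk : k ∈ K) : g * k * g⁻¹ ∈ cj g K :=
  mem_cj.mpr ⟨k, hk, rfl⟩

theorem cj_one (K : Subgroup G) : cj 1 K = K := by
  ext x
  rw [mem_cj]
  constructor
  · rintro ⟨k, hk, rfl⟩
    simpa using hk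
  · intro hx
    exact ⟨x, hx, by simp⟩

theorem cj_cj (a b : G) (K : Subgroup G) : cj a (cj b K) = cj (a * b) K := by
  ext x
  rw [mem_cj, mem_cj]
  constructor
  · rintro ⟨k, hk, rfl⟩
    obtain ⟨k', hk', rfl⟩ := mem_cj.mp hk
    exact ⟨k', hk', by group⟩
  · rintro ⟨k, hk, rfl⟩
    exact ⟨b * k * b⁻¹, conj_mem_cj hk, by group⟩

theorem mem_normalizer_of_cj_eq {g : G} {K : Subgroup G} (h : cj g K = K) :
    g ∈ Subgroup.normalizer (K : Set G) := by
  rw [Subgroup.mem_normalizer_iff]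
  intro k
  constructor
  · intro hk
    rw [← h]
    exact conj_mem_cj hk
  · intro hk
    rw [← h] at hk
    obtain ⟨k', hk', he⟩ := mem_cj.mp hk
    have : k = k' := by
      have h1 : g⁻¹ * (g * k * g⁻¹) * g = g⁻¹ * (g * k' * g⁻¹) * g := by rw [he]
      simpa [mul_assoc] using h1
    rw [this]; exact hk'

theorem cj_eq_of_mem_normalizer {g : G} {K : Subgroup G}
    (h : g ∈ Subgroup.normalizer (K : Set G)) : cj g K = K := by
  ext x
  rw [mem_cj]
  constructor
  · rintro ⟨k, hk, rfl⟩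
    exact (Subgroup.mem_normalizer_iff.mp h k).mp hk
  · intro hx
    refine ⟨g⁻¹ * x * g, ?_, by group⟩
    have := (Subgroup.mem_normalizer_iff.mp (Subgroup.inv_mem _ h) x).mp hx
    simpa using this

variable [Finite G] {Q : Subgroup G} {z : G}

/-- components are nontrivial -/
theorem component_ne_bot {K : Subgroup G} (hK : Cfsg.IsComponent K) : K ≠ ⊥ := by
  intro h0
  have hnt := Cfsg.Agent.Lib.Helper8.isQuasisimple_nontrivial hK.2
  obtain ⟨⟨a, ha⟩, ⟨b, hb⟩, hne⟩ := hnt
  rw [h0, Subgroup.mem_bot] at ha hb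
  apply hne
  apply Subtype.ext
  show a = b
  rw [ha, hb]

/-- when `F(G) = 1` the components are nonabelian simple -/
theorem component_simple (hF : Cfsg.fittingSubgroup G = ⊥) {K : Subgroup G}
    (hK : Cfsg.IsComponent K) : IsSimpleGroup ↥K ∧ ¬ IsMulCommutative ↥K := by
  have hc := Cfsg.Agent.Lib.Helper9.component_center_eq_bot_of_fittingSubgroup_eq_bot hF hK
  have hs : IsSimpleGroup (↥K ⧸ Subgroup.center ↥K) := hK.2.2
  let e : (↥K ⧸ Subgroup.center ↥K) ≃* ↥K :=
    (QuotientGroup.quotientMulEquivOfEq hc).trans QuotientGroup.quotientBot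
  refine ⟨e.symm.isSimpleGroup, ?_⟩
  intro hcomm
  have hnt := Cfsg.Agent.Lib.Helper8.isQuasisimple_nontrivial hK.2
  obtain ⟨a, b, hne⟩ := hnt
  have h1 : ∀ x : ↥K, x ∈ Subgroup.center ↥K := by
    intro x
    rw [Subgroup.mem_center_iff]
    intro y
    exact hcomm.is_comm.comm y x
  have ha := h1 a
  have hb := h1 b
  rw [hc, Subgroup.mem_bot] at ha hb
  exact hne (ha.trans hb.symm)

/-- `K ∩ C_G(K) = 1` -/
theorem inf_centralizer_eq_one (hF : Cfsg.fittingSubgroup G = ⊥) {K : Subgroup G}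
    (hK : Cfsg.IsComponent K) (x : G) (hxK : x ∈ K)
    (hxC : x ∈ Subgroup.centralizer (K : Set G)) : x = 1 := by
  have hc := Cfsg.Agent.Lib.Helper9.component_center_eq_bot_of_fittingSubgroup_eq_bot hF hK
  have h1 : (⟨x, hxK⟩ : ↥K) ∈ Subgroup.center ↥K := by
    rw [Subgroup.mem_center_iff]
    intro y
    apply Subtype.ext
    exact Subgroup.mem_centralizer_iff.mp hxC y y.2
  rw [hc, Subgroup.mem_bot] at h1
  exact congrArg Subtype.val h1

/-- a component different from `K` centralizes `K` -/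
theorem le_centralizer_of_ne {K K' : Subgroup G} (hK : Cfsg.IsComponent K)
    (hK' : Cfsg.IsComponent K') (hne : K' ≠ K) : K' ≤ Subgroup.centralizer (K : Set G) :=
  Subgroup.commutator_eq_bot_iff_le_centralizer.mp
    (Cfsg.Agent.Lib.Helper9.components_commute K' K hK' hK hne)

/-- conjugates by non-normalizing elements centralize `K` -/
theorem cj_le_centralizer {K : Subgroup G} (hK : Cfsg.IsComponent K) {x : G}
    (hx : x ∉ Subgroup.normalizer (K : Set G)) : cj x K ≤ Subgroup.centralizer (K : Set G) := by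
  apply le_centralizer_of_ne hK (Cfsg.Agent.Lib.Helper8.isComponent_map_conj hK x)
  intro h
  exact hx (mem_normalizer_of_cj_eq h)

/-- uniqueness of the decomposition in `K × C_G(K)` -/
theorem decomp_unique (hF : Cfsg.fittingSubgroup G = ⊥) {K : Subgroup G}
    (hK : Cfsg.IsComponent K) {k k' c c' : G} (hk : k ∈ K) (hk' : k' ∈ K)
    (hc : c ∈ Subgroup.centralizer (K : Set G)) (hc' : c' ∈ Subgroup.centralizer (K : Set G))
    (he : k * c = k' * c') : k = k' ∧ c = c' := by
  have h1 : k'⁻¹ * k = c' * c⁻¹ := by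
    calc k'⁻¹ * k = k'⁻¹ * (k * c) * c⁻¹ := by group
      _ = k'⁻¹ * (k' * c') * c⁻¹ := by rw [he]
      _ = c' * c⁻¹ := by group
  have h2 : k'⁻¹ * k = 1 := by
    apply inf_centralizer_eq_one hF hK _ (K.mul_mem (K.inv_mem hk') hk)
    rw [h1]
    exact Subgroup.mul_mem _ hc' (Subgroup.inv_mem _ hc)
  have h3 : k = k' := by
    have := congrArg (fun t => k' * t) h2
    simpa using this
  refine ⟨h3, ?_⟩
  rw [h3] at he
  exact mul_left_cancel he

/-- the layer lies in `K · C_G(K)` -/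
theorem exists_decomp {K : Subgroup G} (hK : Cfsg.IsComponent K) (m : G)
    (hm : m ∈ Cfsg.layer G) : ∃ k ∈ K, ∃ c ∈ Subgroup.centralizer (K : Set G), m = k * c := by
  have hle : Cfsg.layer G ≤ K ⊔ Subgroup.centralizer (K : Set G) := by
    apply sSup_le
    intro K' hK'
    by_cases hne : K' = K
    · rw [hne]; exact le_sup_left
    · exact le_trans (le_centralizer_of_ne hK hK' hne) le_sup_right
  apply Cfsg.Agent.Lib.Helper8.mem_sup_of_commute _ (hle hm)
  intro a ha b hb
  exact (Subgroup.mem_centralizer_iff.mp hb a ha)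

/-- **`Q` is transitive on the components.** -/
theorem exists_conj_of_component (h : Base Q z) (hL : Cfsg.IsLargeExtraspecial Q)
    {K K' : Subgroup G} (hK : Cfsg.IsComponent K) (hK' : Cfsg.IsComponent K') :
    ∃ q ∈ Q, K' = cj q K := by
  by_contra hcon
  push Not at hcon
  set 𝒮 : Set (Subgroup G) := {K'' | Cfsg.IsComponent K'' ∧ ∀ q ∈ Q, K'' ≠ cj q K} with h𝒮
  set N₁ : Subgroup G := sSup 𝒮 with hN₁
  have hconj : ∀ q ∈ Q, ∀ K'' ∈ 𝒮, cj q K'' ∈ 𝒮 := by
    intro q hq K'' hK''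
    refine ⟨Cfsg.Agent.Lib.Helper8.isComponent_map_conj hK''.1 q, ?_⟩
    intro q' hq' he
    apply hK''.2 (q⁻¹ * q') (Q.mul_mem (Q.inv_mem hq) hq')
    have h1 : cj q⁻¹ (cj q K'') = cj q⁻¹ (cj q' K) := by rw [he]
    rw [cj_cj, cj_cj, inv_mul_cancel, cj_one] at h1
    exact h1
  have hQN : Q ≤ Subgroup.normalizer (N₁ : Set G) := by
    intro q hq
    apply Subgroup.mem_normalizer_fintype
    intro n hn
    have hle : N₁ ≤ (N₁.comap (MulAut.conj q).toMonoidHom) := by
      apply sSup_le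
      intro K'' hK''
      intro x hx
      rw [Subgroup.mem_comap]
      have h2 : cj q K'' ≤ N₁ := le_sSup (hconj q hq K'' hK'')
      apply h2
      exact ⟨x, hx, rfl⟩
    have := hle hn
    rw [Subgroup.mem_comap] at this
    simpa [MulAut.conj_apply] using this
  have hN₁C : N₁ ≤ Subgroup.centralizer (K : Set G) := by
    apply sSup_le
    intro K'' hK''
    apply le_centralizer_of_ne hK hK''.1
    intro he
    apply hK''.2 1 Q.one_mem
    rw [cj_one]; exact he
  have hzN : z ∉ N₁ := by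
    intro hz
    apply not_component_of_le_cent h K hK
    intro k hk
    exact (Subgroup.mem_centralizer_iff.mp (hN₁C hz) k hk)
  have hbot := eq_bot_of_normalized h hL N₁ hQN hzN
  have hK'S : K' ∈ 𝒮 := ⟨hK', hcon⟩
  have : K' ≤ N₁ := le_sSup hK'S
  rw [hbot, le_bot_iff] at this
  exact component_ne_bot hK' this

end Cfsg.Agent.Lib.Helper2.LXS
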