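import Cfsg.Agent.Lib.Helper2.LXSC

/-!
helper2: S5426 part D: coordinates of `z` with respect to a component `K` (`z = z₁ z'`), and the
key computation: if `Q` has three "independent" cosets modulo `N_Q(K)` then `C_K(z₁) = {1, z₁}`.
-/

set_option autoImplicit false
open scoped commutatorElement

namespace Cfsg.Agent.Lib.Helper2.LXS

open Cfsg.Agent.Lib.Helper20.ES Cfsg.Agent.Lib.Helper14.LES

variable {G : Type*} [Group G] [Finite G] {Q : Subgroup G} {z : G}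

/-- the data: `F(G) = 1`, `K` a component, `z = z₁ z'` with `z₁ ∈ K`, `z' ∈ C_G(K)` -/
structure Cmp (Q : Subgroup G) (z : G) (K : Subgroup G) (z₁ z' : G) : Prop where
  base : Base Q z
  large : Cfsg.IsLargeExtraspecial Q
  hF : Cfsg.fittingSubgroup G = ⊥
  comp : Cfsg.IsComponent K
  z₁K : z₁ ∈ K
  z'C : z' ∈ Subgroup.centralizer (K : Set G)
  hz : z = z₁ * z'

theorem exists_cmp (h : Base Q z) (hL : Cfsg.IsLargeExtraspecial Q)
    (hF : Cfsg.fittingSubgroup G = ⊥) {K : Subgroup G} (hK : Cfsg.IsComponent K) :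
    ∃ z₁ z', Cmp Q z K z₁ z' := by
  obtain ⟨-, hM, -⟩ := case_fitting_eq_bot h hL hF
  have hzl : z ∈ Cfsg.layer G := by
    rw [← hM]
    exact Subgroup.subset_normalClosure (Set.mem_singleton z)
  obtain ⟨k, hk, c, hc, he⟩ := exists_decomp hK z hzl
  exact ⟨k, c, h, hL, hF, hK, hk, hc, he⟩

namespace Cmp

variable {K : Subgroup G} {z₁ z' : G}

theorem cent_comm (h : Cmp Q z K z₁ z') {k c : G} (hk : k ∈ K)
    (hc : c ∈ Subgroup.centralizer (K : Set G)) : k * c = c * k :=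
  Subgroup.mem_centralizer_iff.mp hc k hk

theorem comm₁ (h : Cmp Q z K z₁ z') : z₁ * z' = z' * z₁ := h.cent_comm h.z₁K h.z'C

/-- reading off the `K`-coordinate -/
theorem coord (h : Cmp Q z K z₁ z') {k c : G} (hk : k ∈ K)
    (hc : c ∈ Subgroup.centralizer (K : Set G)) :
    (k * c = 1 → k = 1) ∧ (k * c = z → k = z₁) := by
  constructor
  · intro he
    have : k * c = 1 * 1 := by rw [he, one_mul]
    exact (decomp_unique h.hF h.comp hk K.one_mem hc (Subgroup.one_mem _) this).1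
  · intro he
    rw [h.hz] at he
    exact (decomp_unique h.hF h.comp hk h.z₁K hc h.z'C he).1

theorem z₁_ne (h : Cmp Q z K z₁ z') : z₁ ≠ 1 := by
  intro h1
  apply not_component_of_le_cent h.base K h.comp
  intro k hk
  have hz : z = z' := by rw [h.hz, h1, one_mul]
  rw [hz]
  exact h.cent_comm hk h.z'C

theorem z₁_sq (h : Cmp Q z K z₁ z') : z₁ * z₁ = 1 := by
  have h1 : (z₁ * z₁) * (z' * z') = 1 := by
    calc (z₁ * z₁) * (z' * z') = z₁ * (z₁ * z') * z' := by group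
      _ = z₁ * (z' * z₁) * z' := by rw [h.comm₁]
      _ = (z₁ * z') * (z₁ * z') := by group
      _ = 1 := by rw [← h.hz]; exact h.base.amb.zz
  exact (h.coord (K.mul_mem h.z₁K h.z₁K) (Subgroup.mul_mem _ h.z'C h.z'C)).1 h1

theorem z₁_inv (h : Cmp Q z K z₁ z') : z₁⁻¹ = z₁ := inv_eq_of_mul_eq_one_right h.z₁_sq

/-- for `c ∈ K`: commuting with `z` is the same as commuting with `z₁` -/
theorem comm_z_of_comm_z₁ (h : Cmp Q z K z₁ z') {c : G} (hc : c ∈ K) (hcz : c * z₁ = z₁ * c) :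
    c * z = z * c := by
  have h1 := h.cent_comm hc h.z'C
  rw [h.hz]
  calc c * (z₁ * z') = (c * z₁) * z' := by group
    _ = (z₁ * c) * z' := by rw [hcz]
    _ = z₁ * (c * z') := by group
    _ = z₁ * (z' * c) := by rw [h1]
    _ = z₁ * z' * c := by group

theorem comm_z₁_of_comm_z (h : Cmp Q z K z₁ z') {c : G} (hc : c ∈ K) (hcz : c * z = z * c) :
    c * z₁ = z₁ * c := by
  have h1 := h.cent_comm hc h.z'C
  rw [h.hz] at hcz
  have h2 : c * z₁ * z' = z₁ * c * z' := by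
    calc c * z₁ * z' = c * (z₁ * z') := by group
      _ = z₁ * z' * c := hcz
      _ = z₁ * (z' * c) := by group
      _ = z₁ * (c * z') := by rw [h1]
      _ = z₁ * c * z' := by group
  exact mul_right_cancel h2

/-- the normalizer of `K` normalizes `C_G(K)` -/
theorem conj_mem_centralizer {K : Subgroup G} {x c : G}
    (hx : x ∈ Subgroup.normalizer (K : Set G)) (hc : c ∈ Subgroup.centralizer (K : Set G)) :
    x * c * x⁻¹ ∈ Subgroup.centralizer (K : Set G) := by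
  rw [Subgroup.mem_centralizer_iff]
  intro k hk
  have h1 : x⁻¹ * k * x ∈ K := by
    have := (Subgroup.mem_normalizer_iff.mp (Subgroup.inv_mem _ hx) k).mp hk
    simpa using this
  have h2 := Subgroup.mem_centralizer_iff.mp hc _ h1
  calc k * (x * c * x⁻¹) = x * ((x⁻¹ * k * x) * c) * x⁻¹ := by group
    _ = x * (c * (x⁻¹ * k * x)) * x⁻¹ := by rw [h2]
    _ = x * c * x⁻¹ * k := by group

/-- elements of `Q` normalizing `K` fix `z₁` -/
theorem conj_z₁ (h : Cmp Q z K z₁ z') {x : G} (hx : x ∈ Q)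
    (hxK : x ∈ Subgroup.normalizer (K : Set G)) : x * z₁ * x⁻¹ = z₁ := by
  have hxz : x * z = z * x := h.base.amb.zc x hx
  have h1 : (x * z₁ * x⁻¹) * (x * z' * x⁻¹) = z := by
    calc (x * z₁ * x⁻¹) * (x * z' * x⁻¹) = x * (z₁ * z') * x⁻¹ := by group
      _ = x * z * x⁻¹ := by rw [← h.hz]
      _ = z * x * x⁻¹ := by rw [hxz]
      _ = z := by group
  exact (h.coord ((Subgroup.mem_normalizer_iff.mp hxK z₁).mp h.z₁K)
    (conj_mem_centralizer hxK h.z'C)).2 h1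

/-- elements of `C_K(z₁)` normalize `Q` -/
theorem conj_mem_Q (h : Cmp Q z K z₁ z') {c : G} (hc : c ∈ K) (hcz : c * z₁ = z₁ * c) {q : G}
    (hq : q ∈ Q) : c * q * c⁻¹ ∈ Q :=
  (Subgroup.mem_normalizer_iff.mp (h.base.nQ c (h.comm_z_of_comm_z₁ hc hcz)) q).mp hq

/-- `Q ∩ K ⊆ {1, z₁}` as soon as `Q` does not normalize `K` -/
theorem Q_inf_K (h : Cmp Q z K z₁ z') {u : G} (hu : u ∈ Q)
    (huK : u ∉ Subgroup.normalizer (K : Set G)) {a : G} (haQ : a ∈ Q) (haK : a ∈ K) :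
    a = 1 ∨ a = z₁ := by
  have h1 : u * a⁻¹ * u⁻¹ ∈ Subgroup.centralizer (K : Set G) :=
    cj_le_centralizer h.comp huK (conj_mem_cj (K.inv_mem haK))
  have h2 : ⁅a, u⁆ = a * (u * a⁻¹ * u⁻¹) := by rw [commutatorElement_def]; group
  rcases h.base.amb.comm a haQ u hu with h3 | h3
  · left
    rw [h2] at h3
    exact (h.coord haK h1).1 h3
  · right
    rw [h2] at h3
    exact (h.coord haK h1).2 h3

/-- **Key computation.** -/
theorem key (h : Cmp Q z K z₁ z') {c : G} (hc : c ∈ K) (hcz : c * z₁ = z₁ * c) {x y : G}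
    (hx : x ∈ Q) (hy : y ∈ Q) (hxK : x ∉ Subgroup.normalizer (K : Set G))
    (hyK : y ∉ Subgroup.normalizer (K : Set G))
    (hyxK : y * x ∉ Subgroup.normalizer (K : Set G)) : c = 1 ∨ c = z₁ := by
  set g := c * x * c⁻¹ * x⁻¹ with hg
  have hgQ : g ∈ Q := Q.mul_mem (h.conj_mem_Q hc hcz hx) (Q.inv_mem hx)
  have h1 : x * c * x⁻¹ ∈ Subgroup.centralizer (K : Set G) :=
    cj_le_centralizer h.comp hxK (conj_mem_cj hc)
  have h2 : y * c * y⁻¹ ∈ Subgroup.centralizer (K : Set G) :=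
    cj_le_centralizer h.comp hyK (conj_mem_cj hc)
  have h3 : (y * x) * c⁻¹ * (y * x)⁻¹ ∈ Subgroup.centralizer (K : Set G) :=
    cj_le_centralizer h.comp hyxK (conj_mem_cj (K.inv_mem hc))
  have h4 : (x * c * x⁻¹) * c⁻¹ = c⁻¹ * (x * c * x⁻¹) := (h.cent_comm (K.inv_mem hc) h1).symm
  have hw : ⁅g⁻¹, y⁆ = c⁻¹ * ((x * c * x⁻¹) * (y * c * y⁻¹) * ((y * x) * c⁻¹ * (y * x)⁻¹)) := by
    rw [commutatorElement_def, hg]
    calc (c * x * c⁻¹ * x⁻¹)⁻¹ * y * (c * x * c⁻¹ * x⁻¹)⁻¹⁻¹ * y⁻¹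
        = ((x * c * x⁻¹) * c⁻¹) * ((y * c * y⁻¹) * ((y * x) * c⁻¹ * (y * x)⁻¹)) := by group
      _ = (c⁻¹ * (x * c * x⁻¹)) * ((y * c * y⁻¹) * ((y * x) * c⁻¹ * (y * x)⁻¹)) := by rw [h4]
      _ = c⁻¹ * ((x * c * x⁻¹) * (y * c * y⁻¹) * ((y * x) * c⁻¹ * (y * x)⁻¹)) := by group
  have hd : (x * c * x⁻¹) * (y * c * y⁻¹) * ((y * x) * c⁻¹ * (y * x)⁻¹) ∈
      Subgroup.centralizer (K : Set G) :=
    Subgroup.mul_mem _ (Subgroup.mul_mem _ h1 h2) h3
  rcases h.base.amb.comm g⁻¹ (Q.inv_mem hgQ) y hy with h5 | h5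
  · left
    rw [hw] at h5
    have := (h.coord (K.inv_mem hc) hd).1 h5
    exact inv_eq_one.mp this
  · right
    rw [hw] at h5
    have := (h.coord (K.inv_mem hc) hd).2 h5
    rw [← h.z₁_inv, ← this, inv_inv]

end Cmp

end Cfsg.Agent.Lib.Helper2.LXS
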