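import Mathlib
import Cfsg.Agent.Lib.Helper16.Frattini

/-!
helper2: S5426 auxiliary lemmas: a group with a self-centralizing involution (`C(t) = {1,t}`) has a
normal subgroup of index 2; Frattini criterion.
-/

set_option autoImplicit false
open scoped commutatorElement

namespace Cfsg.Agent.Lib.Helper2.LXS

/-- a finite group with an involution `t` with `C(t) = {1,t}` has a normal subgroup of index 2 -/
theorem exists_index_two_of_self_centralizing {K : Type*} [Group K] [Finite K] (t : K)
    (ht1 : t ≠ 1) (ht2 : t * t = 1) (hC : ∀ c : K, c * t = t * c → c = 1 ∨ c = t) :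
    ∃ N : Subgroup K, N.Normal ∧ N.index = 2 := by
  haveI : Fact (Nat.Prime 2) := ⟨Nat.prime_two⟩
  have hto : orderOf t = 2 := orderOf_eq_prime (by rw [pow_two]; exact ht2) ht1
  have hpz : IsPGroup 2 ↥(Subgroup.zpowers t) := by
    rw [IsPGroup.iff_card, Nat.card_zpowers, hto]
    exact ⟨1, by norm_num⟩
  obtain ⟨S, hS⟩ := hpz.exists_le_sylow
  have htS : t ∈ (S : Subgroup K) := hS (Subgroup.mem_zpowers t)
  haveI : Nontrivial ↥(S : Subgroup K) :=
    ⟨⟨⟨t, htS⟩, 1, fun h' => ht1 (congrArg Subtype.val h')⟩⟩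
  have hcn : Nontrivial (Subgroup.center ↥(S : Subgroup K)) := S.2.center_nontrivial
  obtain ⟨⟨c, hc⟩, hc1⟩ := exists_ne (1 : Subgroup.center ↥(S : Subgroup K))
  have hc1' : (c : K) ≠ 1 := by
    intro h'
    apply hc1
    apply Subtype.ext
    apply Subtype.ext
    exact h'
  have hcS : ∀ s ∈ (S : Subgroup K), s * (c : K) = (c : K) * s := by
    intro s hs
    have := Subgroup.mem_center_iff.mp hc ⟨s, hs⟩
    exact congrArg Subtype.val this
  have hct : (c : K) = t := by
    rcases hC (c : K) ((hcS t htS).symm) with h1 | h1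
    · exact absurd h1 hc1'
    · exact h1
  have hSmem : ∀ s ∈ (S : Subgroup K), s = 1 ∨ s = t := by
    intro s hs
    apply hC
    rw [← hct]
    exact hcS s hs
  have hNC : Subgroup.normalizer ((S : Subgroup K) : Set K) ≤
      Subgroup.centralizer ((S : Subgroup K) : Set K) := by
    intro n hn
    rw [Subgroup.mem_centralizer_iff]
    intro s hs
    rcases hSmem s hs with rfl | rfl
    · simp
    · have h1 : n * s * n⁻¹ ∈ (S : Subgroup K) := (Subgroup.mem_normalizer_iff.mp hn s).mp hs
      rcases hSmem _ h1 with h2 | h2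
      · exact absurd (conj_eq_one_iff.mp h2) ht1
      · calc s * n = (n * s * n⁻¹)⁻¹⁻¹ * n := by rw [h2]; group
          _ = n * s := by group
  have hcomp := MonoidHom.ker_transferSylow_isComplement' S hNC
  refine ⟨(MonoidHom.transferSylow S hNC).ker, inferInstance, ?_⟩
  rw [hcomp.symm.index_eq_card]
  -- `S = {1, t}` has two elements
  have hSz : (S : Subgroup K) = Subgroup.zpowers t := by
    apply le_antisymm
    · intro s hs
      rcases hSmem s hs with rfl | rfl
      · exact Subgroup.one_mem _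
      · exact Subgroup.mem_zpowers _
    · exact hS
  rw [hSz, Nat.card_zpowers, hto]

/-- hence such a group is not nonabelian simple -/
theorem not_simple_of_self_centralizing {K : Type*} [Group K] [Finite K] (t : K) (ht1 : t ≠ 1)
    (ht2 : t * t = 1) (hC : ∀ c : K, c * t = t * c → c = 1 ∨ c = t)
    (hs : IsSimpleGroup K) (hna : ∃ a b : K, a * b ≠ b * a) : False := by
  obtain ⟨N, hN, hidx⟩ := exists_index_two_of_self_centralizing t ht1 ht2 hC
  rcases hN.eq_bot_or_eq_top with h | h
  · -- `|K| = 2`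
    rw [h, Subgroup.index_bot] at hidx
    obtain ⟨a, b, hab⟩ := hna
    haveI : Fact (Nat.Prime 2) := ⟨Nat.prime_two⟩
    have hcyc : IsCyclic K := isCyclic_of_prime_card hidx
    obtain ⟨g, hg⟩ := hcyc.exists_generator
    obtain ⟨i, rfl⟩ := Subgroup.mem_zpowers_iff.mp (hg a)
    obtain ⟨j, rfl⟩ := Subgroup.mem_zpowers_iff.mp (hg b)
    exact hab (zpow_mul_comm g i j)
  · rw [h, Subgroup.index_top] at hidx
    omega

/-- Frattini criterion -/
theorem frattini_map_le_zpowers {K : Type*} [Group K] [Finite K] (C : Subgroup K) (t : K)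
    (htC : t ∈ C) (ht2 : t * t = 1) (htc : ∀ c ∈ C, c * t = t * c)
    (hsq : ∀ c ∈ C, c * c = 1 ∨ c * c = t)
    (hcomm : ∀ c ∈ C, ∀ c' ∈ C, ⁅c, c'⁆ = 1 ∨ ⁅c, c'⁆ = t) :
    (frattini ↥C).map C.subtype ≤ Subgroup.zpowers t := by
  haveI : Fact (Nat.Prime 2) := ⟨Nat.prime_two⟩
  set tC : ↥C := ⟨t, htC⟩ with htC'
  set Z : Subgroup ↥C := Subgroup.zpowers tC with hZ
  have hZn : Z.Normal := by
    refine ⟨fun x hx g => ?_⟩
    obtain ⟨i, rfl⟩ := Subgroup.mem_zpowers_iff.mp hx
    have h1 : g * tC = tC * g := Subtype.ext (htc g g.2)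
    have h2 : g * tC ^ i * g⁻¹ = tC ^ i := by
      have hc : Commute g (tC ^ i) := (Commute.zpow_right h1 i)
      calc g * tC ^ i * g⁻¹ = tC ^ i * g * g⁻¹ := by rw [hc.eq]
        _ = tC ^ i := by group
    rw [h2]
    exact Subgroup.zpow_mem _ (Subgroup.mem_zpowers _) i
  have hmemZ : ∀ x : ↥C, (x : K) = 1 ∨ (x : K) = t → x ∈ Z := by
    intro x hx
    rcases hx with h1 | h1
    · have : x = 1 := Subtype.ext h1
      rw [this]; exact Subgroup.one_mem _
    · have : x = tC := Subtype.ext h1
      rw [this]; exact Subgroup.mem_zpowers _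
  have hle : frattini ↥C ≤ (QuotientGroup.mk' Z).ker := by
    apply Cfsg.Agent.Lib.Helper16.frattini_le_ker' (p := 2)
    · intro a b
      induction a using QuotientGroup.induction_on with
      | H a =>
        induction b using QuotientGroup.induction_on with
        | H b =>
          show ((a * b : ↥C) : ↥C ⧸ Z) = ((b * a : ↥C) : ↥C ⧸ Z)
          rw [QuotientGroup.eq]
          apply hmemZ
          have h1 := hcomm (b⁻¹ : ↥C) (Subgroup.inv_mem _ b.2) (a⁻¹ : ↥C) (Subgroup.inv_mem _ a.2)
          have h2 : (((a * b)⁻¹ * (b * a) : ↥C) : K) = ⁅((b⁻¹ : ↥C) : K), ((a⁻¹ : ↥C) : K)⁆ := by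
            rw [commutatorElement_def]
            simp only [Subgroup.coe_mul, Subgroup.coe_inv]
            group
          rw [h2]
          exact h1
    · intro e
      induction e using QuotientGroup.induction_on with
      | H a =>
        show ((a ^ 2 : ↥C) : ↥C ⧸ Z) = 1
        rw [QuotientGroup.eq_one_iff]
        apply hmemZ
        have := hsq a a.2
        simpa [pow_two] using this
  rw [QuotientGroup.ker_mk'] at hle
  rintro _ ⟨x, hx, rfl⟩
  have h1 := hle hx
  obtain ⟨i, hi⟩ := Subgroup.mem_zpowers_iff.mp h1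
  rw [Subgroup.mem_zpowers_iff]
  refine ⟨i, ?_⟩
  have := congrArg Subtype.val hi
  simpa using this

end Cfsg.Agent.Lib.Helper2.LXS
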