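import Mathlib

/-!
helper2: S5426 auxiliary lemma: Sylow criterion via a "transvection" automorphism.
-/

set_option autoImplicit false
open scoped commutatorElement

namespace Cfsg.Agent.Lib.Helper2.LXS

/-- Sylow criterion: `t` an involution of the finite group `K` whose centralizer `C` is a 2-group
with `[C,C] ⊆ {1,t}`, and `α` an automorphism of `K` fixing `t`, acting on `C` by `c ↦ c` or
`c ↦ c t`, nontrivially. Then `C` is a Sylow 2-subgroup of `K`. -/
theorem sylow_of_transvection {K : Type*} [Group K] [Finite K] (t : K) (ht1 : t ≠ 1)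
    (ht2 : t * t = 1)
    (hC : IsPGroup 2 ↥(Subgroup.centralizer ({t} : Set K)))
    (hcomm : ∀ c c' : K, c * t = t * c → c' * t = t * c' → ⁅c, c'⁆ = 1 ∨ ⁅c, c'⁆ = t)
    (α : K ≃* K) (hαt : α t = t)
    (hα : ∀ c : K, c * t = t * c → α c = c ∨ α c = c * t)
    (c₀ : K) (hc₀ : c₀ * t = t * c₀) (hαc₀ : α c₀ ≠ c₀) :
    ∃ R : Sylow 2 K, (R : Subgroup K) = Subgroup.centralizer ({t} : Set K) := by
  classical
  haveI : Fact (Nat.Prime 2) := ⟨Nat.prime_two⟩
  set C := Subgroup.centralizer ({t} : Set K) with hCdef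
  set N := Subgroup.normalizer (C : Set K) with hNdef
  have hmemC : ∀ c, c ∈ C ↔ c * t = t * c := by
    intro c
    rw [hCdef, Subgroup.mem_centralizer_iff]
    constructor
    · intro h; exact (h t rfl).symm
    · intro h y hy
      rw [Set.mem_singleton_iff] at hy
      subst hy
      exact h.symm
  have htC : t ∈ C := (hmemC t).mpr rfl
  have hCN : C ≤ N := Subgroup.le_normalizer
  have hαC : ∀ c ∈ C, α c ∈ C := by
    intro c hc
    rw [hmemC] at hc ⊢
    calc α c * t = α c * α t := by rw [hαt]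
      _ = α (c * t) := (map_mul α c t).symm
      _ = α (t * c) := by rw [hc]
      _ = t * α c := by rw [map_mul, hαt]
  have hαst : α.symm t = t := by
    rw [MulEquiv.symm_apply_eq, hαt]
  have hαsC : ∀ c ∈ C, α.symm c ∈ C := by
    intro c hc
    rw [hmemC] at hc ⊢
    calc α.symm c * t = α.symm c * α.symm t := by rw [hαst]
      _ = α.symm (c * t) := (map_mul α.symm c t).symm
      _ = α.symm (t * c) := by rw [hc]
      _ = t * α.symm c := by rw [map_mul, hαst]
  have hαN : ∀ n ∈ N, α n ∈ N := by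
    intro n hn
    apply Subgroup.mem_normalizer_fintype
    intro c hc
    have h1 : n * α.symm c * n⁻¹ ∈ C :=
      (Subgroup.mem_normalizer_iff.mp hn _).mp (hαsC c hc)
    have h2 := hαC _ h1
    rw [map_mul, map_mul, map_inv, MulEquiv.apply_symm_apply] at h2
    exact h2
  have hαα : ∀ c ∈ C, α (α c) = c := by
    intro c hc
    rcases hα c ((hmemC c).mp hc) with h1 | h1
    · rw [h1, h1]
    · rw [h1, map_mul, h1, hαt, mul_assoc, ht2, mul_one]
  -- the key fixed-point statement
  have key : ∀ n ∈ N, α (n * t * n⁻¹) = n * t * n⁻¹ → n * t * n⁻¹ = t := by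
    intro n hn hfix
    have hw1 : n * t * n⁻¹ ≠ 1 := fun h => ht1 (conj_eq_one_iff.mp h)
    by_cases hab : ∃ c c' : K, c ∈ C ∧ c' ∈ C ∧ ⁅c, c'⁆ ≠ 1
    · obtain ⟨c, c', hc, hc', hne⟩ := hab
      have h1 : ⁅c, c'⁆ = t :=
        (hcomm c c' ((hmemC c).mp hc) ((hmemC c').mp hc')).resolve_left hne
      have h2 : n * t * n⁻¹ = ⁅n * c * n⁻¹, n * c' * n⁻¹⁆ := by
        rw [← h1, commutatorElement_def, commutatorElement_def]; group
      have hnc : n * c * n⁻¹ ∈ C := (Subgroup.mem_normalizer_iff.mp hn _).mp hc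
      have hnc' : n * c' * n⁻¹ ∈ C := (Subgroup.mem_normalizer_iff.mp hn _).mp hc'
      rcases hcomm _ _ ((hmemC _).mp hnc) ((hmemC _).mp hnc') with h3 | h3
      · rw [← h2] at h3; exact absurd h3 hw1
      · rw [← h2] at h3; exact h3
    · push Not at hab
      have hCab : ∀ c ∈ C, ∀ c' ∈ C, c * c' = c' * c := by
        intro c hc c' hc'
        exact commutatorElement_eq_one_iff_mul_comm.mp (hab c c' hc hc')
      set l := n⁻¹ * α n with hl
      have hlC : l ∈ C := by
        rw [hmemC]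
        rw [map_mul, map_mul, map_inv, hαt] at hfix
        calc l * t = n⁻¹ * (α n * t * (α n)⁻¹) * α n := by rw [hl]; group
          _ = n⁻¹ * (n * t * n⁻¹) * α n := by rw [hfix]
          _ = t * l := by rw [hl]; group
      have hαc₀ : α c₀ = c₀ * t := (hα c₀ hc₀).resolve_left hαc₀
      have hc₀C : c₀ ∈ C := (hmemC c₀).mpr hc₀
      have hαc₀C : α c₀ ∈ C := hαC c₀ hc₀C
      set y := n * c₀ * n⁻¹ with hy
      have hyC : y ∈ C := (Subgroup.mem_normalizer_iff.mp hn _).mp hc₀C
      have hαy : α y = y * (n * t * n⁻¹) := by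
        have h1 : α n = n * l := by rw [hl]; group
        have h2 : l * α c₀ = α c₀ * l := hCab l hlC _ hαc₀C
        calc α y = α n * α c₀ * (α n)⁻¹ := by rw [hy, map_mul, map_mul, map_inv]
          _ = n * (l * α c₀) * l⁻¹ * n⁻¹ := by rw [h1]; group
          _ = n * (α c₀ * l) * l⁻¹ * n⁻¹ := by rw [h2]
          _ = n * α c₀ * n⁻¹ := by group
          _ = n * (c₀ * t) * n⁻¹ := by rw [hαc₀]
          _ = y * (n * t * n⁻¹) := by rw [hy]; group
      rcases hα y ((hmemC y).mp hyC) with h3 | h3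
      · rw [h3] at hαy
        exact absurd (left_eq_mul.mp hαy) hw1
      · rw [h3] at hαy
        exact (mul_left_cancel hαy).symm
  -- the orbit of `t` under `N`, parametrized by `N / C`
  set Cn : Subgroup ↥N := C.comap N.subtype with hCn
  let f : ↥N ⧸ Cn → K := fun x => Quotient.liftOn' x (fun n => (n : K) * t * (n : K)⁻¹) (by
    intro a b hab
    rw [QuotientGroup.leftRel_apply] at hab
    have h1 : ((a⁻¹ * b : ↥N) : K) ∈ C := hab
    have h2 := (hmemC _).mp h1
    have h3 : (b : K) = a * ((a⁻¹ * b : ↥N) : K) := by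
      simp only [Subgroup.coe_mul, Subgroup.coe_inv]; group
    show (a : K) * t * (a : K)⁻¹ = (b : K) * t * (b : K)⁻¹
    rw [h3]
    calc (a : K) * t * (a : K)⁻¹
        = a * (t * ((a⁻¹ * b : ↥N) : K)) * ((a⁻¹ * b : ↥N) : K)⁻¹ * (a : K)⁻¹ := by group
      _ = a * (((a⁻¹ * b : ↥N) : K) * t) * ((a⁻¹ * b : ↥N) : K)⁻¹ * (a : K)⁻¹ := by rw [h2]
      _ = (a * ((a⁻¹ * b : ↥N) : K)) * t * (a * ((a⁻¹ * b : ↥N) : K))⁻¹ := by group)
  have hf_mk : ∀ n : ↥N, f (QuotientGroup.mk n) = (n : K) * t * (n : K)⁻¹ := fun n => rfl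
  have hf_inj : Function.Injective f := by
    intro x y
    induction x using QuotientGroup.induction_on with
    | H a =>
      induction y using QuotientGroup.induction_on with
      | H b =>
        intro hxy
        rw [hf_mk, hf_mk] at hxy
        rw [QuotientGroup.eq]
        show ((a⁻¹ * b : ↥N) : K) ∈ C
        rw [hmemC]
        simp only [Subgroup.coe_mul, Subgroup.coe_inv]
        calc (a : K)⁻¹ * b * t = (a : K)⁻¹ * ((b : K) * t * (b : K)⁻¹) * b := by group
          _ = (a : K)⁻¹ * ((a : K) * t * (a : K)⁻¹) * b := by rw [hxy]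
          _ = t * ((a : K)⁻¹ * b) := by group
  haveI : Fintype (↥N ⧸ Cn) := Fintype.ofFinite _
  set O : Finset K := Finset.univ.image f with hO
  have hOcard : O.card = Nat.card (↥N ⧸ Cn) := by
    rw [hO, Finset.card_image_of_injective _ hf_inj, Finset.card_univ, Nat.card_eq_fintype_card]
  have hOmem : ∀ w, w ∈ O ↔ ∃ n ∈ N, w = n * t * n⁻¹ := by
    intro w
    rw [hO, Finset.mem_image]
    constructor
    · rintro ⟨x, -, rfl⟩
      induction x using QuotientGroup.induction_on with
      | H a => exact ⟨a, a.2, hf_mk a⟩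
    · rintro ⟨n, hn, rfl⟩
      exact ⟨QuotientGroup.mk ⟨n, hn⟩, Finset.mem_univ _, hf_mk ⟨n, hn⟩⟩
  have hOC : ∀ w ∈ O, w ∈ C := by
    intro w hw
    obtain ⟨n, hn, rfl⟩ := (hOmem w).mp hw
    exact (Subgroup.mem_normalizer_iff.mp hn _).mp htC
  have htO : t ∈ O := (hOmem t).mpr ⟨1, N.one_mem, by simp⟩
  have hαO : ∀ w ∈ O, α w ∈ O := by
    intro w hw
    obtain ⟨n, hn, rfl⟩ := (hOmem w).mp hw
    rw [hOmem]
    exact ⟨α n, hαN n hn, by rw [map_mul, map_mul, map_inv, hαt]⟩
  have hfixO : ∀ w ∈ O, α w = w → w = t := by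
    intro w hw hfix
    obtain ⟨n, hn, rfl⟩ := (hOmem w).mp hw
    exact key n hn hfix
  -- parity
  have hsum : ∑ x ∈ O.erase t, (1 : ZMod 2) = 0 := by
    apply Finset.sum_involution (fun a _ => α a)
    · intro a _
      exact CharTwo.add_self_eq_zero (1 : ZMod 2)
    · intro a ha _ hfix
      rw [Finset.mem_erase] at ha
      exact ha.1 (hfixO a ha.2 hfix)
    · intro a ha
      rw [Finset.mem_erase] at ha ⊢
      refine ⟨?_, hαO a ha.2⟩
      intro h1
      apply ha.1
      have h2 : α a = α t := by rw [h1, hαt]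
      exact α.injective h2
    · intro a ha
      rw [Finset.mem_erase] at ha
      exact hαα a (hOC a ha.2)
  have heven : Even (O.erase t).card := by
    rw [← ZMod.natCast_eq_zero_iff_even]
    rw [Finset.sum_const, nsmul_eq_mul, mul_one] at hsum
    exact hsum
  have hOodd : ¬ 2 ∣ O.card := by
    rw [← Finset.card_erase_add_one htO]
    intro h2
    have := (Nat.dvd_add_right (even_iff_two_dvd.mp heven)).mp h2
    omega
  -- conclude
  have hidx : ¬ 2 ∣ C.index := by
    intro hdvd
    obtain ⟨n, hn⟩ := IsPGroup.iff_card.mp hC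
    have hcard : Nat.card K = Nat.card ↥C * C.index := (Subgroup.card_mul_index C).symm
    have hdvd2 : 2 ^ (n + 1) ∣ Nat.card K := by
      rw [hcard, hn, pow_succ]
      exact mul_dvd_mul_left _ hdvd
    have := Sylow.prime_dvd_card_quotient_normalizer hdvd2 hn
    rw [← hOcard] at this
    exact hOodd this
  exact ⟨hC.toSylow hidx, rfl⟩

end Cfsg.Agent.Lib.Helper2.LXS
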