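import Cfsg.Agent.Lib.Helper2.LXSD
import Cfsg.Agent.Lib.Helper2.LXSI
import Cfsg.Agent.Lib.Helper2.LXSJ

/-!
helper2: S5426 part E: `N_Q(K)` has index at most two in `Q`; the case `Q ≤ N(K)`; the structure
`Two` for the case of two components.
-/

set_option autoImplicit false
open scoped commutatorElement

namespace Cfsg.Agent.Lib.Helper2.LXS

open Cfsg.Agent.Lib.Helper20.ES Cfsg.Agent.Lib.Helper14.LES

variable {G : Type*} [Group G] [Finite G] {Q : Subgroup G} {z : G}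

namespace Cmp

variable {K : Subgroup G} {z₁ z' : G}

/-- `C_K(z₁) = {1, z₁}` is impossible -/
theorem not_self_centralizing (h : Cmp Q z K z₁ z')
    (hC : ∀ c ∈ K, c * z₁ = z₁ * c → c = 1 ∨ c = z₁) : False := by
  obtain ⟨hs, hna⟩ := component_simple h.hF h.comp
  apply Cfsg.Agent.Lib.Helper2.LXS.not_simple_of_self_centralizing (K := ↥K) ⟨z₁, h.z₁K⟩ _ _ _ hs
  · by_contra hcon
    push Not at hcon
    apply hna
    exact ⟨⟨fun a b => hcon a b⟩⟩
  · intro h1
    exact h.z₁_ne (congrArg Subtype.val h1)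
  · apply Subtype.ext
    exact h.z₁_sq
  · intro c hc
    have h1 : (c : G) * z₁ = z₁ * c := congrArg Subtype.val hc
    rcases hC c c.2 h1 with h2 | h2
    · left; exact Subtype.ext h2
    · right; exact Subtype.ext h2

/-- `N_Q(K)` has index at most two in `Q` -/
theorem idx2 (h : Cmp Q z K z₁ z') {x y : G} (hx : x ∈ Q) (hy : y ∈ Q)
    (hxK : x ∉ Subgroup.normalizer (K : Set G)) (hyK : y ∉ Subgroup.normalizer (K : Set G)) :
    y * x ∈ Subgroup.normalizer (K : Set G) := by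
  by_contra hyx
  apply h.not_self_centralizing
  intro c hc hcz
  exact h.key hc hcz hx hy hxK hyK hyx

end Cmp

/-- if `Q` normalizes the component `K` then `E(G) = K` -/
theorem layer_eq_of_normalized (h : Base Q z) (hL : Cfsg.IsLargeExtraspecial Q)
    {K : Subgroup G} (hK : Cfsg.IsComponent K) (hQK : Q ≤ Subgroup.normalizer (K : Set G)) :
    Cfsg.layer G = K := by
  apply le_antisymm
  · apply sSup_le
    intro K' hK'
    obtain ⟨q, hq, he⟩ := exists_conj_of_component h hL hK hK'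
    rw [he, cj_eq_of_mem_normalizer (hQK hq)]
  · exact le_sSup hK

/-- the two-component configuration -/
structure Two (Q : Subgroup G) (z : G) (K : Subgroup G) (z₁ z' u : G) : Prop where
  cmp : Cmp Q z K z₁ z'
  uQ : u ∈ Q
  uK : u ∉ Subgroup.normalizer (K : Set G)

namespace Two

variable {K : Subgroup G} {z₁ z' u : G}

theorem uinvK (h : Two Q z K z₁ z' u) : u⁻¹ ∉ Subgroup.normalizer (K : Set G) := by
  intro h1
  apply h.uK
  have := Subgroup.inv_mem _ h1
  simpa using this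

theorem uuK (h : Two Q z K z₁ z' u) : u * u ∈ Subgroup.normalizer (K : Set G) :=
  h.cmp.idx2 h.uQ h.uQ h.uK h.uK

/-- every element of `Q` outside `N(K)` lies in `u N_Q(K)` -/
theorem inv_mul_mem (h : Two Q z K z₁ z' u) {q : G} (hq : q ∈ Q)
    (hqK : q ∉ Subgroup.normalizer (K : Set G)) :
    u⁻¹ * q ∈ Subgroup.normalizer (K : Set G) :=
  h.cmp.idx2 hq (Q.inv_mem h.uQ) hqK h.uinvK

/-- every element of `Q` outside `N(K)` lies in `N_Q(K) u` -/
theorem mul_inv_mem (h : Two Q z K z₁ z' u) {q : G} (hq : q ∈ Q)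
    (hqK : q ∉ Subgroup.normalizer (K : Set G)) :
    q * u⁻¹ ∈ Subgroup.normalizer (K : Set G) :=
  h.cmp.idx2 (Q.inv_mem h.uQ) hq h.uinvK hqK

/-- `N_Q(K)` is normalized by `u` -/
theorem conj_u_mem (h : Two Q z K z₁ z' u) {x : G} (hx : x ∈ Q)
    (hxK : x ∈ Subgroup.normalizer (K : Set G)) :
    u⁻¹ * x * u ∈ Subgroup.normalizer (K : Set G) := by
  by_contra hcon
  have h1 : u⁻¹ * x * u ∈ Q := Q.mul_mem (Q.mul_mem (Q.inv_mem h.uQ) hx) h.uQ
  have h2 := h.cmp.idx2 h1 h.uQ hcon h.uK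
  have h3 : u * (u⁻¹ * x * u) = x * u := by group
  rw [h3] at h2
  apply h.uK
  have h4 := Subgroup.mul_mem _ (Subgroup.inv_mem _ hxK) h2
  have h5 : x⁻¹ * (x * u) = u := by group
  rwa [h5] at h4

/-- the components are `K` and `K^u` -/
theorem component_eq (h : Two Q z K z₁ z' u) {K' : Subgroup G} (hK' : Cfsg.IsComponent K') :
    K' = K ∨ K' = cj u K := by
  obtain ⟨q, hq, he⟩ := exists_conj_of_component h.cmp.base h.cmp.large h.cmp.comp hK'
  by_cases hqK : q ∈ Subgroup.normalizer (K : Set G)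
  · left
    rw [he, cj_eq_of_mem_normalizer hqK]
  · right
    have h1 := h.inv_mul_mem hq hqK
    have h2 : q = u * (u⁻¹ * q) := by group
    rw [he, h2, ← cj_cj, cj_eq_of_mem_normalizer h1]

theorem cjK_comp (h : Two Q z K z₁ z' u) : Cfsg.IsComponent (cj u K) :=
  Cfsg.Agent.Lib.Helper8.isComponent_map_conj h.cmp.comp u

theorem cjK_le (h : Two Q z K z₁ z' u) : cj u K ≤ Subgroup.centralizer (K : Set G) :=
  cj_le_centralizer h.cmp.comp h.uK

theorem layer_eq (h : Two Q z K z₁ z' u) : Cfsg.layer G = K ⊔ cj u K := by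
  apply le_antisymm
  · apply sSup_le
    intro K' hK'
    rcases h.component_eq hK' with h1 | h1
    · rw [h1]; exact le_sup_left
    · rw [h1]; exact le_sup_right
  · exact sup_le (le_sSup h.cmp.comp) (le_sSup h.cjK_comp)

theorem commute (h : Two Q z K z₁ z' u) {a b : G} (ha : a ∈ K) (hb : b ∈ cj u K) :
    a * b = b * a := h.cmp.cent_comm ha (h.cjK_le hb)

/-- `z' = u z₁ u⁻¹` -/
theorem z'_eq (h : Two Q z K z₁ z' u) : z' = u * z₁ * u⁻¹ := by
  have hzl : z ∈ Cfsg.layer G := by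
    obtain ⟨-, hM, -⟩ := case_fitting_eq_bot h.cmp.base h.cmp.large h.cmp.hF
    rw [← hM]
    exact Subgroup.subset_normalClosure (Set.mem_singleton z)
  have hz'l : z' ∈ K ⊔ cj u K := by
    rw [← h.layer_eq]
    have h1 : z' = z₁⁻¹ * z := by rw [h.cmp.hz]; group
    rw [h1]
    exact Subgroup.mul_mem _ (Subgroup.inv_mem _
      (Cfsg.Agent.Lib.Helper9.component_le_layer h.cmp.comp h.cmp.z₁K)) hzl
  obtain ⟨k, hk, k', hk', he⟩ :=
    Cfsg.Agent.Lib.Helper8.mem_sup_of_commute (fun a ha b hb => h.commute ha hb) hz'l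
  have h2 : (1 : G) * z' = k * k' := by rw [one_mul, he]
  obtain ⟨h3, h4⟩ := decomp_unique h.cmp.hF h.cmp.comp K.one_mem hk h.cmp.z'C (h.cjK_le hk') h2
  have hz'Ku : z' ∈ cj u K := by rw [h4]; exact hk'
  -- conjugate by `u`
  have huz : u * z = z * u := h.cmp.base.amb.zc u h.uQ
  have h5 : u * z' * u⁻¹ ∈ K := by
    have : u * z' * u⁻¹ ∈ cj u (cj u K) := conj_mem_cj hz'Ku
    rw [cj_cj, cj_eq_of_mem_normalizer h.uuK] at this
    exact this
  have h6 : u * z₁ * u⁻¹ ∈ cj u K := conj_mem_cj h.cmp.z₁K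
  have h7 : (u * z' * u⁻¹) * (u * z₁ * u⁻¹) = z₁ * z' := by
    rw [h.commute h5 h6]
    calc (u * z₁ * u⁻¹) * (u * z' * u⁻¹) = u * (z₁ * z') * u⁻¹ := by group
      _ = u * z * u⁻¹ := by rw [← h.cmp.hz]
      _ = z * u * u⁻¹ := by rw [huz]
      _ = z₁ * z' := by rw [h.cmp.hz]; group
  exact (decomp_unique h.cmp.hF h.cmp.comp h5 h.cmp.z₁K (h.cjK_le h6) h.cmp.z'C h7).2.symm

theorem z_eq (h : Two Q z K z₁ z' u) : z = z₁ * (u * z₁ * u⁻¹) := by
  rw [← h.z'_eq]; exact h.cmp.hz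

end Two

end Cfsg.Agent.Lib.Helper2.LXS
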