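import Cfsg.Agent.Lib.Helper2.LXSE

/-!
helper2: S5426 part F: the two-component configuration: `C_K(z₁)` embeds in `Q` via `c ↦ [c,u]`;
it is a 2-group with squares and commutators in `{1, z₁}`; `N_Q(K)` acts on it by transvections,
nontrivially.
-/

set_option autoImplicit false
open scoped commutatorElement

namespace Cfsg.Agent.Lib.Helper2.LXS

open Cfsg.Agent.Lib.Helper20.ES Cfsg.Agent.Lib.Helper14.LES

variable {G : Type*} [Group G]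

/-- commutator of products of commuting pairs -/
theorem commutator_mul_of_commute {a a' b b' : G} (C : Subgroup G)
    (hb : b ∈ C) (hb' : b' ∈ C) (ha : ∀ x ∈ C, a * x = x * a) (ha' : ∀ x ∈ C, a' * x = x * a') :
    ⁅a * b, a' * b'⁆ = ⁅a, a'⁆ * ⁅b, b'⁆ := by
  have hainv : ∀ x ∈ C, a⁻¹ * x = x * a⁻¹ := by
    intro x hx
    have := ha x hx
    calc a⁻¹ * x = a⁻¹ * (x * a) * a⁻¹ := by group
      _ = a⁻¹ * (a * x) * a⁻¹ := by rw [this]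
      _ = x * a⁻¹ := by group
  have ha'inv : ∀ x ∈ C, a'⁻¹ * x = x * a'⁻¹ := by
    intro x hx
    have := ha' x hx
    calc a'⁻¹ * x = a'⁻¹ * (x * a') * a'⁻¹ := by group
      _ = a'⁻¹ * (a' * x) * a'⁻¹ := by rw [this]
      _ = x * a'⁻¹ := by group
  have h1 := ha' b hb
  have h2 := hainv (b * b' * b⁻¹) (C.mul_mem (C.mul_mem hb hb') (C.inv_mem hb))
  have h3 := ha'inv (b * b' * b⁻¹ * b'⁻¹)
    (C.mul_mem (C.mul_mem (C.mul_mem hb hb') (C.inv_mem hb)) (C.inv_mem hb'))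
  rw [commutatorElement_def, commutatorElement_def, commutatorElement_def]
  calc a * b * (a' * b') * (a * b)⁻¹ * (a' * b')⁻¹
      = a * (b * a') * b' * b⁻¹ * a⁻¹ * b'⁻¹ * a'⁻¹ := by group
    _ = a * (a' * b) * b' * b⁻¹ * a⁻¹ * b'⁻¹ * a'⁻¹ := by rw [← h1]
    _ = a * a' * ((b * b' * b⁻¹) * a⁻¹) * b'⁻¹ * a'⁻¹ := by group
    _ = a * a' * (a⁻¹ * (b * b' * b⁻¹)) * b'⁻¹ * a'⁻¹ := by rw [← h2]
    _ = a * a' * a⁻¹ * ((b * b' * b⁻¹ * b'⁻¹) * a'⁻¹) := by group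
    _ = a * a' * a⁻¹ * (a'⁻¹ * (b * b' * b⁻¹ * b'⁻¹)) := by rw [← h3]
    _ = a * a' * a⁻¹ * a'⁻¹ * (b * b' * b⁻¹ * b'⁻¹) := by group

variable [Finite G] {Q : Subgroup G} {z : G}

namespace Two

variable {K : Subgroup G} {z₁ z' u : G}

/-- `[c, u] ∈ Q` for `c ∈ C_K(z₁)` -/
theorem gc_mem (h : Two Q z K z₁ z' u) {c : G} (hc : c ∈ K) (hcz : c * z₁ = z₁ * c) :
    c * (u * c⁻¹ * u⁻¹) ∈ Q := by
  have h1 : c * (u * c⁻¹ * u⁻¹) = (c * u * c⁻¹) * u⁻¹ := by group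
  rw [h1]
  exact Q.mul_mem (h.cmp.conj_mem_Q hc hcz h.uQ) (Q.inv_mem h.uQ)

theorem ucu_mem (h : Two Q z K z₁ z' u) {c : G} (hc : c ∈ K) :
    u * c * u⁻¹ ∈ Subgroup.centralizer (K : Set G) := h.cjK_le (conj_mem_cj hc)

/-- `C_K(z₁)` is a 2-group -/
theorem pow_eq_one (h : Two Q z K z₁ z' u) {c : G} (hc : c ∈ K) (hcz : c * z₁ = z₁ * c) :
    ∃ n : ℕ, c ^ (2 ^ n) = 1 := by
  obtain ⟨n, hn⟩ := h.cmp.base.amb.pgroup ⟨_, h.gc_mem hc hcz⟩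
  refine ⟨n, ?_⟩
  have hn' : (c * (u * c⁻¹ * u⁻¹)) ^ (2 ^ n) = 1 := by
    have := congrArg Subtype.val hn
    simpa using this
  have hcomm : Commute c (u * c⁻¹ * u⁻¹) := h.cmp.cent_comm hc (h.ucu_mem (K.inv_mem hc))
  rw [hcomm.mul_pow] at hn'
  apply (h.cmp.coord (K.pow_mem hc _) (Subgroup.pow_mem _ (h.ucu_mem (K.inv_mem hc)) _)).1 hn'

/-- squares in `C_K(z₁)` -/
theorem sq_mem (h : Two Q z K z₁ z' u) {c : G} (hc : c ∈ K) (hcz : c * z₁ = z₁ * c) :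
    c * c = 1 ∨ c * c = z₁ := by
  have hcomm := h.cmp.cent_comm hc (h.ucu_mem (K.inv_mem hc))
  have h1 : (c * (u * c⁻¹ * u⁻¹)) * (c * (u * c⁻¹ * u⁻¹)) =
      (c * c) * (u * (c⁻¹ * c⁻¹) * u⁻¹) := by
    calc (c * (u * c⁻¹ * u⁻¹)) * (c * (u * c⁻¹ * u⁻¹))
        = c * ((u * c⁻¹ * u⁻¹) * c) * (u * c⁻¹ * u⁻¹) := by group
      _ = c * (c * (u * c⁻¹ * u⁻¹)) * (u * c⁻¹ * u⁻¹) := by rw [hcomm]
      _ = (c * c) * (u * (c⁻¹ * c⁻¹) * u⁻¹) := by group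
  have h2 : u * (c⁻¹ * c⁻¹) * u⁻¹ ∈ Subgroup.centralizer (K : Set G) :=
    h.ucu_mem (K.mul_mem (K.inv_mem hc) (K.inv_mem hc))
  rcases h.cmp.base.amb.sq _ (h.gc_mem hc hcz) with h3 | h3
  · left
    rw [h1] at h3
    exact (h.cmp.coord (K.mul_mem hc hc) h2).1 h3
  · right
    rw [h1] at h3
    exact (h.cmp.coord (K.mul_mem hc hc) h2).2 h3

/-- commutators in `C_K(z₁)` -/
theorem comm_mem (h : Two Q z K z₁ z' u) {c c' : G} (hc : c ∈ K) (hcz : c * z₁ = z₁ * c)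
    (hc' : c' ∈ K) (hcz' : c' * z₁ = z₁ * c') : ⁅c, c'⁆ = 1 ∨ ⁅c, c'⁆ = z₁ := by
  have h1 : ⁅c * (u * c⁻¹ * u⁻¹), c' * (u * c'⁻¹ * u⁻¹)⁆ =
      ⁅c, c'⁆ * ⁅u * c⁻¹ * u⁻¹, u * c'⁻¹ * u⁻¹⁆ :=
    commutator_mul_of_commute (Subgroup.centralizer (K : Set G))
      (h.ucu_mem (K.inv_mem hc)) (h.ucu_mem (K.inv_mem hc'))
      (fun x hx => h.cmp.cent_comm hc hx) (fun x hx => h.cmp.cent_comm hc' hx)
  have h2 : ⁅u * c⁻¹ * u⁻¹, u * c'⁻¹ * u⁻¹⁆ ∈ Subgroup.centralizer (K : Set G) := by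
    rw [commutatorElement_def]
    exact Subgroup.mul_mem _ (Subgroup.mul_mem _ (Subgroup.mul_mem _ (h.ucu_mem (K.inv_mem hc))
      (h.ucu_mem (K.inv_mem hc'))) (Subgroup.inv_mem _ (h.ucu_mem (K.inv_mem hc))))
      (Subgroup.inv_mem _ (h.ucu_mem (K.inv_mem hc')))
  have h3 : ⁅c, c'⁆ ∈ K := by
    rw [commutatorElement_def]
    exact K.mul_mem (K.mul_mem (K.mul_mem hc hc') (K.inv_mem hc)) (K.inv_mem hc')
  rcases h.cmp.base.amb.comm _ (h.gc_mem hc hcz) _ (h.gc_mem hc' hcz') with h4 | h4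
  · left
    rw [h1] at h4
    exact (h.cmp.coord h3 h2).1 h4
  · right
    rw [h1] at h4
    exact (h.cmp.coord h3 h2).2 h4

/-- `N_Q(K)` acts on `C_K(z₁)` by transvections -/
theorem conj_eq_or (h : Two Q z K z₁ z' u) {x : G} (hx : x ∈ Q)
    (hxK : x ∈ Subgroup.normalizer (K : Set G)) {c : G} (hc : c ∈ K) (hcz : c * z₁ = z₁ * c) :
    x * c * x⁻¹ = c ∨ x * c * x⁻¹ = c * z₁ := by
  have h1 : c * (x * c⁻¹ * x⁻¹) ∈ Q := by
    have h2 : c * (x * c⁻¹ * x⁻¹) = (c * x * c⁻¹) * x⁻¹ := by group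
    rw [h2]
    exact Q.mul_mem (h.cmp.conj_mem_Q hc hcz hx) (Q.inv_mem hx)
  have h3 : c * (x * c⁻¹ * x⁻¹) ∈ K :=
    K.mul_mem hc ((Subgroup.mem_normalizer_iff.mp hxK c⁻¹).mp (K.inv_mem hc))
  rcases h.cmp.Q_inf_K h.uQ h.uK h1 h3 with h4 | h4
  · left
    have h5 : x * c⁻¹ * x⁻¹ = c⁻¹ := by
      have := congrArg (fun t => c⁻¹ * t) h4
      simpa using this
    calc x * c * x⁻¹ = (x * c⁻¹ * x⁻¹)⁻¹ := by group
      _ = c := by rw [h5, inv_inv]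
  · right
    have h5 : x * c⁻¹ * x⁻¹ = c⁻¹ * z₁ := by
      have := congrArg (fun t => c⁻¹ * t) h4
      simpa using this
    calc x * c * x⁻¹ = (x * c⁻¹ * x⁻¹)⁻¹ := by group
      _ = z₁⁻¹ * c := by rw [h5]; group
      _ = z₁ * c := by rw [h.cmp.z₁_inv]
      _ = c * z₁ := hcz.symm

/-- `N_Q(K)` does not centralize `C_K(z₁)` -/
theorem exists_moved (h : Two Q z K z₁ z' u) :
    ∃ x ∈ Q, x ∈ Subgroup.normalizer (K : Set G) ∧ ∃ c ∈ K, c * z₁ = z₁ * c ∧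
      x * c * x⁻¹ ≠ c := by
  by_contra hcon
  push Not at hcon
  apply h.cmp.not_self_centralizing
  intro c hc hcz
  set d := c * (u * c * u⁻¹) with hd
  have hcomm : c * (u * c * u⁻¹) = (u * c * u⁻¹) * c := h.cmp.cent_comm hc (h.ucu_mem hc)
  have hN : ∀ x ∈ Q, x ∈ Subgroup.normalizer (K : Set G) → x * d * x⁻¹ = d := by
    intro x hx hxK
    have h1 := hcon x hx hxK c hc hcz
    have h2 := hcon (u⁻¹ * x * u) (Q.mul_mem (Q.mul_mem (Q.inv_mem h.uQ) hx) h.uQ)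
      (h.conj_u_mem hx hxK) c hc hcz
    calc x * d * x⁻¹ = (x * c * x⁻¹) * (u * ((u⁻¹ * x * u) * c * (u⁻¹ * x * u)⁻¹) * u⁻¹) := by
          rw [hd]; group
      _ = d := by rw [h1, h2]
  have hu : u * d * u⁻¹ = d := by
    have h1 := hcon (u * u) (Q.mul_mem h.uQ h.uQ) h.uuK c hc hcz
    calc u * d * u⁻¹ = (u * c * u⁻¹) * ((u * u) * c * (u * u)⁻¹) := by rw [hd]; group
      _ = (u * c * u⁻¹) * c := by rw [h1]
      _ = d := by rw [← hcomm]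
  have hall : ∀ q ∈ Q, d * q = q * d := by
    intro q hq
    have hq' : q * d * q⁻¹ = d := by
      by_cases hqK : q ∈ Subgroup.normalizer (K : Set G)
      · exact hN q hq hqK
      · have h1 := hN (q * u⁻¹) (Q.mul_mem hq (Q.inv_mem h.uQ)) (h.mul_inv_mem hq hqK)
        calc q * d * q⁻¹ = (q * u⁻¹) * (u * d * u⁻¹) * (q * u⁻¹)⁻¹ := by group
          _ = d := by rw [hu, h1]
    calc d * q = (q * d * q⁻¹)⁻¹⁻¹ * q := by rw [hq']; group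
      _ = q * d := by group
  rcases h.cmp.base.cQ d hall with h1 | h1
  · left
    exact (h.cmp.coord hc (h.ucu_mem hc)).1 h1
  · right
    exact (h.cmp.coord hc (h.ucu_mem hc)).2 h1

end Two

end Cfsg.Agent.Lib.Helper2.LXS
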