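import Cfsg.Agent.Lib.Helper2.LXSF

/-!
helper2: S5426 part G: in the two-component configuration `C_K(z₁)` is a Sylow 2-subgroup of `K`
with Frattini subgroup inside `⟨z₁⟩`, and `Q ≠ O_2(C_G(z))`.
-/

set_option autoImplicit false
open scoped commutatorElement

namespace Cfsg.Agent.Lib.Helper2.LXS

open Cfsg.Agent.Lib.Helper20.ES Cfsg.Agent.Lib.Helper14.LES

variable {G : Type*} [Group G]

/-- conjugation by a normalizing element, as an automorphism of the subgroup -/
def conjEquiv (K : Subgroup G) (x : G) (hx : x ∈ Subgroup.normalizer (K : Set G)) : ↥K ≃* ↥K where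
  toFun k := ⟨x * k * x⁻¹, (Subgroup.mem_normalizer_iff.mp hx k).mp k.2⟩
  invFun k := ⟨x⁻¹ * k * x, by
    have := (Subgroup.mem_normalizer_iff.mp (Subgroup.inv_mem _ hx) k).mp k.2
    simpa using this⟩
  left_inv k := by
    apply Subtype.ext
    show x⁻¹ * (x * (k : G) * x⁻¹) * x = k
    group
  right_inv k := by
    apply Subtype.ext
    show x * (x⁻¹ * (k : G) * x) * x⁻¹ = k
    group
  map_mul' a b := by
    apply Subtype.ext
    show x * ((a : G) * b) * x⁻¹ = (x * a * x⁻¹) * (x * b * x⁻¹)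
    group

@[simp] theorem conjEquiv_coe (K : Subgroup G) (x : G)
    (hx : x ∈ Subgroup.normalizer (K : Set G)) (k : ↥K) :
    ((conjEquiv K x hx k : ↥K) : G) = x * k * x⁻¹ := rfl

variable [Finite G] {Q : Subgroup G} {z : G}

namespace Two

variable {K : Subgroup G} {z₁ z' u : G}

/-- the Sylow and Frattini data -/
theorem sylow_data (h : Two Q z K z₁ z' u) :
    ∃ R : Sylow 2 ↥K, (R : Subgroup ↥K) = (Subgroup.centralizer ({z₁} : Set G)).subgroupOf K ∧
      (frattini ↥(R : Subgroup ↥K)).map ((K.subtype).comp (R : Subgroup ↥K).subtype) ≤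
        Subgroup.zpowers z₁ := by
  set t : ↥K := ⟨z₁, h.cmp.z₁K⟩ with ht
  have hmemC : ∀ c : ↥K, c ∈ (Subgroup.centralizer ({z₁} : Set G)).subgroupOf K ↔
      (c : G) * z₁ = z₁ * c := by
    intro c
    rw [Subgroup.mem_subgroupOf, mem_cent_iff]
  have hmemC' : ∀ c : ↥K, c ∈ Subgroup.centralizer ({t} : Set ↥K) ↔ (c : G) * z₁ = z₁ * c := by
    intro c
    rw [mem_cent_iff]
    constructor
    · intro h1; exact congrArg Subtype.val h1
    · intro h1; exact Subtype.ext h1
  have hCeq : (Subgroup.centralizer ({z₁} : Set G)).subgroupOf K =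
      Subgroup.centralizer ({t} : Set ↥K) := by
    ext c
    rw [hmemC, hmemC']
  have ht1 : t ≠ 1 := fun h1 => h.cmp.z₁_ne (congrArg Subtype.val h1)
  have ht2 : t * t = 1 := Subtype.ext h.cmp.z₁_sq
  obtain ⟨x, hxQ, hxK, c₀, hc₀K, hc₀z, hmove⟩ := h.exists_moved
  have hPG : IsPGroup 2 ↥(Subgroup.centralizer ({t} : Set ↥K)) := by
    intro c
    obtain ⟨n, hn⟩ := h.pow_eq_one (c : ↥K).2 ((hmemC' c).mp c.2)
    refine ⟨n, ?_⟩
    apply Subtype.ext
    apply Subtype.ext
    simpa using hn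
  have hcomm : ∀ c c' : ↥K, c * t = t * c → c' * t = t * c' → ⁅c, c'⁆ = 1 ∨ ⁅c, c'⁆ = t := by
    intro c c' hc hc'
    have h1 : (c : G) * z₁ = z₁ * c := congrArg Subtype.val hc
    have h2 : (c' : G) * z₁ = z₁ * c' := congrArg Subtype.val hc'
    rcases h.comm_mem c.2 h1 c'.2 h2 with h3 | h3
    · left
      apply Subtype.ext
      rw [commutatorElement_def] at h3 ⊢
      simpa using h3
    · right
      apply Subtype.ext
      rw [commutatorElement_def] at h3 ⊢
      simpa using h3
  obtain ⟨R₀, hR₀⟩ := Cfsg.Agent.Lib.Helper2.LXS.sylow_of_transvection (K := ↥K) t ht1 ht2 hPG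
    hcomm (conjEquiv K x hxK)
    (by apply Subtype.ext; exact h.cmp.conj_z₁ hxQ hxK)
    (by
      intro c hc
      have h1 : (c : G) * z₁ = z₁ * c := congrArg Subtype.val hc
      rcases h.conj_eq_or hxQ hxK c.2 h1 with h2 | h2
      · left; exact Subtype.ext h2
      · right; exact Subtype.ext h2)
    ⟨c₀, hc₀K⟩ (Subtype.ext hc₀z)
    (by
      intro h1
      exact hmove (congrArg Subtype.val h1))
  let R : Sylow 2 ↥K :=
    { toSubgroup := (Subgroup.centralizer ({z₁} : Set G)).subgroupOf K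
      isPGroup' := by rw [hCeq]; exact hPG
      is_maximal' := by
        intro P hP hle
        rw [hCeq, ← hR₀] at hle ⊢
        exact R₀.is_maximal' hP hle }
  refine ⟨R, rfl, ?_⟩
  show (frattini ↥((Subgroup.centralizer ({z₁} : Set G)).subgroupOf K)).map
    ((K.subtype).comp ((Subgroup.centralizer ({z₁} : Set G)).subgroupOf K).subtype) ≤
      Subgroup.zpowers z₁
  have hFr := Cfsg.Agent.Lib.Helper2.LXS.frattini_map_le_zpowers
    ((Subgroup.centralizer ({z₁} : Set G)).subgroupOf K) t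
    ((hmemC t).mpr rfl) ht2
    (fun c hc => Subtype.ext ((hmemC c).mp hc))
    (fun c hc => by
      rcases h.sq_mem c.2 ((hmemC c).mp hc) with h1 | h1
      · left; exact Subtype.ext h1
      · right; exact Subtype.ext h1)
    (fun c hc c' hc' => hcomm c c' (Subtype.ext ((hmemC c).mp hc)) (Subtype.ext ((hmemC c').mp hc')))
  rw [← Subgroup.map_map]
  have h2 := Subgroup.map_mono (f := K.subtype) hFr
  rw [MonoidHom.map_zpowers] at h2
  exact h2

end Two

end Cfsg.Agent.Lib.Helper2.LXS
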