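import Cfsg.Agent.Lib.Helper2.LXSG

/-!
helper2: S5426 part H: `Q ≠ O_2(C_G(z))` in the two-component configuration, and the final theorem.
-/

set_option autoImplicit false
open scoped commutatorElement

namespace Cfsg.Agent.Lib.Helper2.LXS

open Cfsg.Agent.Lib.Helper20.ES Cfsg.Agent.Lib.Helper14.LES

variable {G : Type*} [Group G] [Finite G] {Q : Subgroup G} {z : G}

namespace Two

variable {K : Subgroup G} {z₁ z' u : G}

/-- `C_{E(G)}(z)` is a 2-group -/
theorem pow_eq_one_of_mem_layer (h : Two Q z K z₁ z' u) {m : G} (hm : m ∈ Cfsg.layer G)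
    (hmz : m * z = z * m) : ∃ n : ℕ, m ^ (2 ^ n) = 1 := by
  rw [h.layer_eq] at hm
  obtain ⟨k, hk, k', hk', rfl⟩ :=
    Cfsg.Agent.Lib.Helper8.mem_sup_of_commute (fun a ha b hb => h.commute ha hb) hm
  have hk'C := h.cjK_le hk'
  have h1 : z₁ * k' = k' * z₁ := h.cmp.cent_comm h.cmp.z₁K hk'C
  have h2 : k * z' = z' * k := h.cmp.cent_comm hk h.cmp.z'C
  have h3 : (k * z₁) * (k' * z') = (z₁ * k) * (z' * k') := by
    calc (k * z₁) * (k' * z') = k * (z₁ * k') * z' := by group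
      _ = k * (k' * z₁) * z' := by rw [h1]
      _ = (k * k') * (z₁ * z') := by group
      _ = (z₁ * z') * (k * k') := by rw [← h.cmp.hz]; exact hmz
      _ = z₁ * (z' * k) * k' := by group
      _ = z₁ * (k * z') * k' := by rw [h2]
      _ = (z₁ * k) * (z' * k') := by group
  obtain ⟨h4, h5⟩ := decomp_unique h.cmp.hF h.cmp.comp (K.mul_mem hk h.cmp.z₁K)
    (K.mul_mem h.cmp.z₁K hk) (Subgroup.mul_mem _ hk'C h.cmp.z'C)
    (Subgroup.mul_mem _ h.cmp.z'C hk'C) h3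
  obtain ⟨a, ha⟩ := h.pow_eq_one hk h4
  obtain ⟨k₀, hk₀, rfl⟩ := mem_cj.mp hk'
  have h6 : k₀ * z₁ = z₁ * k₀ := by
    rw [h.z'_eq] at h5
    have h7 : u⁻¹ * ((u * k₀ * u⁻¹) * (u * z₁ * u⁻¹)) * u = u⁻¹ * ((u * z₁ * u⁻¹) * (u * k₀ * u⁻¹)) * u := by
      rw [h5]
    calc k₀ * z₁ = u⁻¹ * ((u * k₀ * u⁻¹) * (u * z₁ * u⁻¹)) * u := by group
      _ = u⁻¹ * ((u * z₁ * u⁻¹) * (u * k₀ * u⁻¹)) * u := h7
      _ = z₁ * k₀ := by group
  obtain ⟨b, hb⟩ := h.pow_eq_one hk₀ h6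
  refine ⟨a + b, ?_⟩
  have hcomm : Commute k (u * k₀ * u⁻¹) := h.commute hk hk'
  rw [hcomm.mul_pow]
  have e1 : k ^ (2 ^ (a + b)) = 1 := by
    rw [pow_add, pow_mul, ha, one_pow]
  have e2 : (u * k₀ * u⁻¹) ^ (2 ^ (a + b)) = 1 := by
    rw [conj_pow, pow_add, mul_comm, pow_mul, hb, one_pow]
    group
  rw [e1, e2, one_mul]

/-- `Q` is not the largest normal 2-subgroup of `C_G(z)` -/
theorem Q_ne (h : Two Q z K z₁ z' u) :
    Q ≠ (Cfsg.pCore 2 ↥(Subgroup.centralizer ({z} : Set G))).map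
      (Subgroup.centralizer ({z} : Set G)).subtype := by
  intro hEq
  set Hc := Subgroup.centralizer ({z} : Set G) with hHc
  set T : Subgroup ↥Hc := (Cfsg.layer G).subgroupOf Hc with hT
  have hTn : T.Normal := Subgroup.Normal.subgroupOf inferInstance Hc
  have hTp : IsPGroup 2 ↥T := by
    intro m
    have hm1 : ((m : ↥Hc) : G) ∈ Cfsg.layer G := Subgroup.mem_subgroupOf.mp m.2
    have hm2 : ((m : ↥Hc) : G) * z = z * ((m : ↥Hc) : G) := (mem_cent_iff z _).mp (m : ↥Hc).2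
    obtain ⟨n, hn⟩ := h.pow_eq_one_of_mem_layer hm1 hm2
    refine ⟨n, ?_⟩
    apply Subtype.ext
    apply Subtype.ext
    simpa using hn
  have hTle : T ≤ Cfsg.pCore 2 ↥Hc := Cfsg.Agent.Lib.Helper1.le_pCore hTn hTp
  apply h.cmp.not_self_centralizing
  intro c hc hcz
  have hcH : c ∈ Hc := (mem_cent_iff z c).mpr (h.cmp.comm_z_of_comm_z₁ hc hcz)
  have hcT : (⟨c, hcH⟩ : ↥Hc) ∈ T := by
    rw [hT, Subgroup.mem_subgroupOf]
    exact Cfsg.Agent.Lib.Helper9.component_le_layer h.cmp.comp hc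
  have hcQ : c ∈ Q := by
    rw [hEq]
    exact ⟨⟨c, hcH⟩, hTle hcT, rfl⟩
  exact h.cmp.Q_inf_K h.uQ h.uK hcQ hc

end Two

/-- **Aschbacher's theorem on the normal closure of `z`** (S5426). -/
theorem main (Q : Subgroup G) (hQ : Cfsg.IsLargeExtraspecial Q) (z : G)
    (hz : ((Subgroup.center ↥Q).map Q.subtype) = Subgroup.zpowers z) (M : Subgroup G)
    (hM : M = Subgroup.normalClosure ({z} : Set G)) :
    Q.Normal ∨ (IsMulCommutative ↥M ∧ Cfsg.generalizedFittingSubgroup G = Cfsg.pCore 2 G) ∨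
    (M = Cfsg.generalizedFittingSubgroup G ∧ IsSimpleGroup ↥M ∧ ¬ IsMulCommutative ↥M) ∨
    (M = Cfsg.generalizedFittingSubgroup G ∧ ∃ (L : Subgroup G) (u : G), u ∈ Q ∧
      IsSimpleGroup ↥L ∧ ¬ IsMulCommutative ↥L ∧
      L ⊓ (L).map (MulAut.conj u).toMonoidHom = ⊥ ∧
      (∀ x ∈ L, ∀ y ∈ (L).map (MulAut.conj u).toMonoidHom, x * y = y * x) ∧
      L ⊔ (L).map (MulAut.conj u).toMonoidHom = M ∧
      ∃ z₁ ∈ L, z = z₁ * (u * z₁ * u⁻¹) ∧
        (∃ R : Sylow 2 ↥L, (R : Subgroup ↥L) =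
            (Subgroup.centralizer ({z₁} : Set G)).subgroupOf L ∧
          (frattini ↥(R : Subgroup ↥L)).map ((L.subtype).comp (R : Subgroup ↥L).subtype) ≤
            Subgroup.zpowers z₁) ∧
        Q ≠ (Cfsg.pCore 2 ↥(Subgroup.centralizer ({z} : Set G))).map
          (Subgroup.centralizer ({z} : Set G)).subtype) := by
  subst hM
  have hb := base_of_large Q hQ z hz
  by_cases hF : Cfsg.fittingSubgroup G = ⊥
  · obtain ⟨hMF, hMl, hMnc⟩ := case_fitting_eq_bot hb hQ hF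
    have hex : ∃ K : Subgroup G, Cfsg.IsComponent K := by
      by_contra hcon
      push Not at hcon
      have h0 := Cfsg.Agent.Lib.Helper9.layer_eq_bot_iff.mpr hcon
      have hzM : z ∈ Subgroup.normalClosure ({z} : Set G) :=
        Subgroup.subset_normalClosure (Set.mem_singleton z)
      rw [hMl, h0, Subgroup.mem_bot] at hzM
      exact hb.amb.z1 hzM
    obtain ⟨K, hK⟩ := hex
    obtain ⟨hKs, hKnc⟩ := component_simple hF hK
    by_cases hQK : Q ≤ Subgroup.normalizer (K : Set G)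
    · right; right; left
      have hlK := layer_eq_of_normalized hb hQ hK hQK
      have hMK : Subgroup.normalClosure ({z} : Set G) = K := hMl.trans hlK
      refine ⟨hMF, ?_, hMnc⟩
      rw [hMK]
      exact hKs
    · right; right; right
      obtain ⟨u, huQ, huK⟩ := SetLike.not_le_iff_exists.mp hQK
      obtain ⟨z₁, z', hcmp⟩ := exists_cmp hb hQ hF hK
      have hT : Two Q z K z₁ z' u := ⟨hcmp, huQ, huK⟩
      refine ⟨hMF, K, u, huQ, hKs, hKnc, ?_, ?_, ?_, z₁, hcmp.z₁K, hT.z_eq, hT.sylow_data, hT.Q_ne⟩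
      · rw [eq_bot_iff]
        intro x hx
        rw [Subgroup.mem_bot]
        exact inf_centralizer_eq_one hF hK x hx.1 (hT.cjK_le hx.2)
      · intro x hx y hy
        exact hT.commute hx hy
      · rw [hMl, hT.layer_eq]
  · right; left
    exact case_fitting_ne_bot hb hQ hF

end Cfsg.Agent.Lib.Helper2.LXS
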