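/-
helper2: S4017 market (planner helper26), leaf MIX-CORECONJ:
`O(C_G(x t x⁻¹)) = x O(C_G(t)) x⁻¹` for the Prelude's `centralizerPPrimeCore 2`.
Exact name + binders of `notes/S4017_leaves.lean` (`core_conj`).
-/
import Mathlib
import Cfsg.Prelude.Def_Local
import Cfsg.Agent.Lib.Helper26.MixDefs
import Cfsg.Agent.Lib.Helper12.Cores

set_option autoImplicit false

namespace Cfsg.Agent.Lib.Helper2.MIXCORECONJ

open Cfsg Cfsg.Agent.Lib.Helper26.Mix

universe u

section gen

variable {G : Type u} [Group G]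

/-- conjugation by `x` maps `C_G(t)` onto `C_G(x t x⁻¹)` -/
theorem map_conj_centralizer (x t : G) :
    (Subgroup.centralizer ({t} : Set G)).map (MulAut.conj x).toMonoidHom =
      Subgroup.centralizer ({x * t * x⁻¹} : Set G) := by
  ext g
  simp only [Subgroup.mem_map, Subgroup.mem_centralizer_iff, Set.mem_singleton_iff, forall_eq,
    MulEquiv.coe_toMonoidHom, MulAut.conj_apply]
  constructor
  · rintro ⟨c, hc, rfl⟩
    have h1 : x * t * x⁻¹ * (x * c * x⁻¹) = x * (t * c) * x⁻¹ := by group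
    have h2 : x * c * x⁻¹ * (x * t * x⁻¹) = x * (c * t) * x⁻¹ := by group
    rw [h1, h2, hc]
  · intro hg
    refine ⟨x⁻¹ * g * x, ?_, by group⟩
    have h1 : t * (x⁻¹ * g * x) = x⁻¹ * (x * t * x⁻¹ * g) * x := by group
    have h2 : x⁻¹ * g * x * t = x⁻¹ * (g * (x * t * x⁻¹)) * x := by group
    rw [h1, h2, hg]

/-- the isomorphism `C_G(t) ≃* C_G(x t x⁻¹)` induced by conjugation by `x` -/
noncomputable def conjCentralizerEquiv (x t : G) :
    ↥(Subgroup.centralizer ({t} : Set G)) ≃* ↥(Subgroup.centralizer ({x * t * x⁻¹} : Set G)) :=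
  ((MulAut.conj x).subgroupMap (Subgroup.centralizer ({t} : Set G))).trans
    (MulEquiv.subgroupCongr (map_conj_centralizer x t))

theorem conjCentralizerEquiv_coe (x t : G) (c : ↥(Subgroup.centralizer ({t} : Set G))) :
    ((conjCentralizerEquiv x t c : ↥(Subgroup.centralizer ({x * t * x⁻¹} : Set G))) : G) =
      x * (c : G) * x⁻¹ := rfl

end gen

section main

variable {G : Type u} [Group G] [Finite G]

/-- CORECONJ : `O(C_G(x t x⁻¹)) = x O(C_G(t)) x⁻¹`. -/
theorem core_conj (x t : G) :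
    centralizerPPrimeCore 2 (x * t * x⁻¹) =
      (centralizerPPrimeCore 2 t).map (MulAut.conj x).toMonoidHom := by
  unfold centralizerPPrimeCore
  rw [← Cfsg.Agent.Lib.Helper12.pPrimeCore_map_equiv 2 (conjCentralizerEquiv x t),
    Subgroup.map_map, Subgroup.map_map]
  congr 1

end main

end Cfsg.Agent.Lib.Helper2.MIXCORECONJ
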