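/-
helper2: Burnside's "table of marks" theorem: two finite `Γ`-sets with the same number of
`K`-fixed points for every subgroup `K ≤ Γ` are isomorphic as `Γ`-sets.
-/
import Mathlib

set_option autoImplicit false

namespace Cfsg.Agent.Lib.Helper2.Marks

open MulAction

variable {Γ : Type*} [Group Γ] {X : Type*} {Y : Type*} [MulAction Γ X] [MulAction Γ Y]

/-- the set of `K`-fixed points -/
def fix (K : Subgroup Γ) (X : Type*) [MulAction Γ X] : Set X := {x | ∀ k ∈ K, k • x = x}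

theorem mem_fix {K : Subgroup Γ} {x : X} : x ∈ fix K X ↔ ∀ k ∈ K, k • x = x := Iff.rfl

theorem fix_bot : fix (⊥ : Subgroup Γ) X = Set.univ := by
  ext x
  simp only [mem_fix, Subgroup.mem_bot, Set.mem_univ, iff_true]
  rintro k rfl
  exact one_smul _ _

/-- equivariant bijection between the orbits of two points with the same stabilizer -/
noncomputable def orbitEquiv (x0 : X) (y0 : Y) (h : stabilizer Γ x0 = stabilizer Γ y0) :
    orbit Γ x0 ≃ orbit Γ y0 :=
  (orbitEquivQuotientStabilizer Γ x0).trans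
    ((Subgroup.quotientEquivOfEq h).trans (orbitEquivQuotientStabilizer Γ y0).symm)

theorem orbitEquiv_apply (x0 : X) (y0 : Y) (h : stabilizer Γ x0 = stabilizer Γ y0) (g : Γ) :
    ((orbitEquiv x0 y0 h ⟨g • x0, mem_orbit _ _⟩ : orbit Γ y0) : Y) = g • y0 := by
  have h1 : orbitEquivQuotientStabilizer Γ x0 ⟨g • x0, mem_orbit _ _⟩ =
      (g : Γ ⧸ stabilizer Γ x0) := by
    rw [← Equiv.eq_symm_apply]
    symm
    apply Subtype.ext
    rw [orbitEquivQuotientStabilizer_symm_apply]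
  unfold orbitEquiv
  rw [Equiv.trans_apply, Equiv.trans_apply, h1, Subgroup.quotientEquivOfEq_mk,
    orbitEquivQuotientStabilizer_symm_apply]

theorem orbitEquiv_smul (x0 : X) (y0 : Y) (h : stabilizer Γ x0 = stabilizer Γ y0) (g : Γ)
    (a a' : orbit Γ x0) (haa : (a' : X) = g • (a : X)) :
    ((orbitEquiv x0 y0 h a' : orbit Γ y0) : Y) = g • ((orbitEquiv x0 y0 h a : orbit Γ y0) : Y) := by
  obtain ⟨g', hg'⟩ := a.2
  have hg'' : g' • x0 = (a : X) := hg'
  have h1 : a = ⟨g' • x0, mem_orbit _ _⟩ := Subtype.ext hg''.symm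
  have h2 : a' = ⟨(g * g') • x0, mem_orbit _ _⟩ := by
    apply Subtype.ext
    show (a' : X) = (g * g') • x0
    rw [haa, ← hg'', mul_smul]
  rw [h2, h1, orbitEquiv_apply, orbitEquiv_apply, mul_smul]

theorem orbitEquiv_mem_fix (x0 : X) (y0 : Y) (h : stabilizer Γ x0 = stabilizer Γ y0)
    (K : Subgroup Γ) (a : orbit Γ x0) :
    ((orbitEquiv x0 y0 h a : orbit Γ y0) : Y) ∈ fix K Y ↔ (a : X) ∈ fix K X := by
  constructor
  · intro hf k hk
    have h1 := hf k hk
    have hmem : k • (a : X) ∈ orbit Γ x0 := by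
      obtain ⟨g', hg'⟩ := a.2
      have hg'' : g' • x0 = (a : X) := hg'
      rw [← hg'', ← mul_smul]
      exact mem_orbit _ _
    have h2 := orbitEquiv_smul x0 y0 h k a ⟨k • (a : X), hmem⟩ rfl
    rw [h1] at h2
    have h3 : (⟨k • (a : X), hmem⟩ : orbit Γ x0) = a :=
      (orbitEquiv x0 y0 h).injective (Subtype.ext h2)
    exact congrArg Subtype.val h3
  · intro hf k hk
    have h1 : (a : X) = k • (a : X) := (hf k hk).symm
    exact (orbitEquiv_smul x0 y0 h k a a h1).symm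

theorem ncard_orbit_inter_fix (x0 : X) (y0 : Y) (h : stabilizer Γ x0 = stabilizer Γ y0)
    (K : Subgroup Γ) :
    (orbit Γ x0 ∩ fix K X).ncard = (orbit Γ y0 ∩ fix K Y).ncard := by
  apply Set.ncard_congr (fun a ha => ((orbitEquiv x0 y0 h ⟨a, ha.1⟩ : orbit Γ y0) : Y))
  · intro a ha
    exact ⟨(orbitEquiv x0 y0 h ⟨a, ha.1⟩).2, (orbitEquiv_mem_fix x0 y0 h K ⟨a, ha.1⟩).mpr ha.2⟩
  · intro a b ha hb hab
    have := (orbitEquiv x0 y0 h).injective (Subtype.ext hab)
    exact congrArg Subtype.val this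
  · intro b hb
    obtain ⟨a, ha⟩ := (orbitEquiv x0 y0 h).surjective ⟨b, hb.1⟩
    refine ⟨a, ⟨a.2, ?_⟩, ?_⟩
    · rw [← orbitEquiv_mem_fix x0 y0 h K a, ha]
      exact hb.2
    · show ((orbitEquiv x0 y0 h ⟨(a : X), _⟩ : orbit Γ y0) : Y) = b
      rw [Subtype.coe_eta, ha]

section
variable [Finite Γ] [Finite X] [Finite Y]

theorem exists_same_stabilizer (A : Set X) (B : Set Y) (x0 : X) (hx0 : x0 ∈ A)
    (hmax : ∀ y ∈ B, Nat.card (stabilizer Γ y) ≤ Nat.card (stabilizer Γ x0))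
    (hfix : (A ∩ fix (stabilizer Γ x0) X).ncard = (B ∩ fix (stabilizer Γ x0) Y).ncard) :
    ∃ y0 ∈ B, stabilizer Γ x0 = stabilizer Γ y0 := by
  have h1 : x0 ∈ A ∩ fix (stabilizer Γ x0) X := ⟨hx0, fun k hk => hk⟩
  have h2 : 0 < (A ∩ fix (stabilizer Γ x0) X).ncard :=
    (Set.ncard_pos (Set.toFinite _)).mpr ⟨x0, h1⟩
  rw [hfix, Set.ncard_pos (Set.toFinite _)] at h2
  obtain ⟨y0, hy0B, hy0⟩ := h2
  refine ⟨y0, hy0B, ?_⟩
  apply Subgroup.eq_of_le_of_card_ge
  · intro k hk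
    exact hy0 k hk
  · exact hmax y0 hy0B

/-- existence of a pair of points with the same stabilizer -/
theorem exists_pair (A : Set X) (B : Set Y) (hA : A.Nonempty) (hB : B.Nonempty)
    (hfix : ∀ K : Subgroup Γ, (A ∩ fix K X).ncard = (B ∩ fix K Y).ncard) :
    ∃ x0 ∈ A, ∃ y0 ∈ B, stabilizer Γ x0 = stabilizer Γ y0 := by
  have : Nonempty A := hA.to_subtype
  have : Nonempty B := hB.to_subtype
  obtain ⟨x1, hx1⟩ := Finite.exists_max (fun a : A => Nat.card (stabilizer Γ (a : X)))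
  obtain ⟨y1, hy1⟩ := Finite.exists_max (fun b : B => Nat.card (stabilizer Γ (b : Y)))
  by_cases hc : Nat.card (stabilizer Γ (y1 : Y)) ≤ Nat.card (stabilizer Γ (x1 : X))
  · obtain ⟨y0, hy0, h⟩ := exists_same_stabilizer A B x1 x1.2
      (fun y hy => (hy1 ⟨y, hy⟩).trans hc) (hfix _)
    exact ⟨x1, x1.2, y0, hy0, h⟩
  · push Not at hc
    obtain ⟨x0, hx0, h⟩ := exists_same_stabilizer B A y1 y1.2
      (fun x hx => (hx1 ⟨x, hx⟩).trans hc.le) (hfix _).symm
    exact ⟨x0, hx0, y1, y1.2, h.symm⟩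

theorem marks_sets : ∀ (n : ℕ) (A : Set X) (B : Set Y), (∀ g : Γ, ∀ a ∈ A, g • a ∈ A) →
    (∀ g : Γ, ∀ b ∈ B, g • b ∈ B) → A.ncard = n →
    (∀ K : Subgroup Γ, (A ∩ fix K X).ncard = (B ∩ fix K Y).ncard) →
    ∃ e : A ≃ B, ∀ (g : Γ) (a a' : A), (a' : X) = g • (a : X) →
      ((e a' : B) : Y) = g • ((e a : B) : Y) := by
  classical
  intro n
  induction n using Nat.strong_induction_on with
  | _ n ih =>
  intro A B hAinv hBinv hn hfix
  have hAB : A.ncard = B.ncard := by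
    have := hfix ⊥
    rwa [fix_bot, fix_bot, Set.inter_univ, Set.inter_univ] at this
  rcases Set.eq_empty_or_nonempty A with hA | hA
  · have hB : B = ∅ := by
      rw [hA, Set.ncard_empty] at hAB
      exact (Set.ncard_eq_zero (Set.toFinite B)).mp hAB.symm
    subst hA hB
    refine ⟨Equiv.equivOfIsEmpty _ _, ?_⟩
    intro g a
    exact absurd a.2 (Set.notMem_empty _)
  · have hB : B.Nonempty := by
      rw [← Set.ncard_pos (Set.toFinite B), ← hAB, Set.ncard_pos (Set.toFinite A)]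
      exact hA
    obtain ⟨x0, hx0, y0, hy0, hst⟩ := exists_pair A B hA hB hfix
    have hOA : orbit Γ x0 ⊆ A := by
      rintro _ ⟨g, rfl⟩
      exact hAinv g x0 hx0
    have hOB : orbit Γ y0 ⊆ B := by
      rintro _ ⟨g, rfl⟩
      exact hBinv g y0 hy0
    have hA'inv : ∀ g : Γ, ∀ a ∈ A \ orbit Γ x0, g • a ∈ A \ orbit Γ x0 := by
      intro g a ha
      refine ⟨hAinv g a ha.1, fun hmem => ha.2 ?_⟩
      have : a = g⁻¹ • (g • a) := by rw [inv_smul_smul]
      rw [this]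
      obtain ⟨g', hg'⟩ := hmem
      have hg'' : g' • x0 = g • a := hg'
      rw [← hg'', ← mul_smul]
      exact mem_orbit _ _
    have hB'inv : ∀ g : Γ, ∀ b ∈ B \ orbit Γ y0, g • b ∈ B \ orbit Γ y0 := by
      intro g b hb
      refine ⟨hBinv g b hb.1, fun hmem => hb.2 ?_⟩
      have : b = g⁻¹ • (g • b) := by rw [inv_smul_smul]
      rw [this]
      obtain ⟨g', hg'⟩ := hmem
      have hg'' : g' • y0 = g • b := hg'
      rw [← hg'', ← mul_smul]
      exact mem_orbit _ _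
    have hlt : (A \ orbit Γ x0).ncard < n := by
      rw [← hn]
      apply Set.ncard_lt_ncard _ (Set.toFinite A)
      refine ⟨Set.sdiff_subset, fun hsub => ?_⟩
      exact (hsub hx0).2 (mem_orbit_self x0)
    have hfix' : ∀ K : Subgroup Γ, ((A \ orbit Γ x0) ∩ fix K X).ncard =
        ((B \ orbit Γ y0) ∩ fix K Y).ncard := by
      intro K
      have e1 : (A \ orbit Γ x0) ∩ fix K X = (A ∩ fix K X) \ (orbit Γ x0 ∩ fix K X) := by
        ext x
        simp only [Set.mem_inter_iff, Set.mem_sdiff]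
        tauto
      have e2 : (B \ orbit Γ y0) ∩ fix K Y = (B ∩ fix K Y) \ (orbit Γ y0 ∩ fix K Y) := by
        ext x
        simp only [Set.mem_inter_iff, Set.mem_sdiff]
        tauto
      rw [e1, e2, Set.ncard_sdiff (Set.inter_subset_inter_left _ hOA) (Set.toFinite _),
        Set.ncard_sdiff (Set.inter_subset_inter_left _ hOB) (Set.toFinite _), hfix K,
        ncard_orbit_inter_fix x0 y0 hst K]
    obtain ⟨e', he'⟩ := ih _ hlt (A \ orbit Γ x0) (B \ orbit Γ y0) hA'inv hB'inv rfl hfix'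
    let o := orbitEquiv x0 y0 hst
    let e : A ≃ B := (Equiv.Set.sumDiffSubset hOA).symm.trans
      ((Equiv.sumCongr o e').trans (Equiv.Set.sumDiffSubset hOB))
    refine ⟨e, ?_⟩
    intro g a a' haa
    by_cases hmem : (a : X) ∈ orbit Γ x0
    · have hmem' : (a' : X) ∈ orbit Γ x0 := by
        rw [haa]
        obtain ⟨g', hg'⟩ := hmem
        have hg'' : g' • x0 = (a : X) := hg'
        rw [← hg'', ← mul_smul]
        exact mem_orbit _ _
      have h1 : (e a : Y) = (o ⟨a, hmem⟩ : Y) := by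
        show ((Equiv.Set.sumDiffSubset hOB) ((Equiv.sumCongr o e')
          ((Equiv.Set.sumDiffSubset hOA).symm a)) : Y) = _
        rw [Equiv.Set.sumDiffSubset_symm_apply_of_mem hOA hmem]
        rfl
      have h2 : (e a' : Y) = (o ⟨a', hmem'⟩ : Y) := by
        show ((Equiv.Set.sumDiffSubset hOB) ((Equiv.sumCongr o e')
          ((Equiv.Set.sumDiffSubset hOA).symm a')) : Y) = _
        rw [Equiv.Set.sumDiffSubset_symm_apply_of_mem hOA hmem']
        rfl
      rw [h1, h2]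
      exact orbitEquiv_smul x0 y0 hst g ⟨a, hmem⟩ ⟨a', hmem'⟩ haa
    · have hmem' : (a' : X) ∉ orbit Γ x0 := by
        intro hm
        apply hmem
        have : (a : X) = g⁻¹ • (a' : X) := by rw [haa, inv_smul_smul]
        rw [this]
        obtain ⟨g', hg'⟩ := hm
        have hg'' : g' • x0 = (a' : X) := hg'
        rw [← hg'', ← mul_smul]
        exact mem_orbit _ _
      have h1 : (e a : Y) = (e' ⟨a, a.2, hmem⟩ : Y) := by
        show ((Equiv.Set.sumDiffSubset hOB) ((Equiv.sumCongr o e')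
          ((Equiv.Set.sumDiffSubset hOA).symm a)) : Y) = _
        rw [Equiv.Set.sumDiffSubset_symm_apply_of_notMem hOA hmem]
        rfl
      have h2 : (e a' : Y) = (e' ⟨a', a'.2, hmem'⟩ : Y) := by
        show ((Equiv.Set.sumDiffSubset hOB) ((Equiv.sumCongr o e')
          ((Equiv.Set.sumDiffSubset hOA).symm a')) : Y) = _
        rw [Equiv.Set.sumDiffSubset_symm_apply_of_notMem hOA hmem']
        rfl
      rw [h1, h2]
      exact he' g ⟨a, a.2, hmem⟩ ⟨a', a'.2, hmem'⟩ haa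

/-- **Burnside's marks theorem.** -/
theorem marks (hfix : ∀ K : Subgroup Γ, (fix K X).ncard = (fix K Y).ncard) :
    ∃ e : X ≃ Y, ∀ (g : Γ) (x : X), e (g • x) = g • e x := by
  obtain ⟨e, he⟩ := marks_sets (Γ := Γ) (Set.univ : Set X).ncard (Set.univ : Set X)
    (Set.univ : Set Y) (fun _ _ _ => Set.mem_univ _) (fun _ _ _ => Set.mem_univ _) rfl
    (fun K => by rw [Set.univ_inter, Set.univ_inter]; exact hfix K)
  refine ⟨(Equiv.Set.univ X).symm.trans (e.trans (Equiv.Set.univ Y)), ?_⟩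
  intro g x
  exact he g ⟨x, Set.mem_univ _⟩ ⟨g • x, Set.mem_univ _⟩ rfl

end

/-- the marks theorem for two actions given as homomorphisms into permutation groups -/
theorem marks_hom {Γ : Type*} [Group Γ] [Finite Γ] {X : Type*} {Y : Type*} [Finite X] [Finite Y]
    (a₁ : Γ →* Equiv.Perm X) (a₂ : Γ →* Equiv.Perm Y)
    (h : ∀ K : Subgroup Γ, {x : X | ∀ k ∈ K, a₁ k x = x}.ncard =
      {y : Y | ∀ k ∈ K, a₂ k y = y}.ncard) :
    ∃ e : X ≃ Y, ∀ (g : Γ) (x : X), e (a₁ g x) = a₂ g (e x) := by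
  let i1 : MulAction Γ X := MulAction.compHom X a₁
  let i2 : MulAction Γ Y := MulAction.compHom Y a₂
  exact @marks Γ _ X Y i1 i2 _ _ _ h

end Cfsg.Agent.Lib.Helper2.Marks
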