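import Mathlib
import Cfsg.Prelude.Def_GeometricClasses
import Cfsg.Agent.Lib.Lead.OEQF
import Cfsg.Agent.Lib.Helper12.OETypeA
import Cfsg.Agent.Lib.Helper18.OET3
import Cfsg.Agent.Lib.Helper18.OET4
import Cfsg.Agent.Lib.Helper26.OET6
import Cfsg.Agent.Lib.Helper28.OmME3

/-!
OE-ROWS3 leaf R18 `dec_of_nd_half` (planner lead, `notes/OmEven_rows3_leaves.lean`): a non-degenerate subspace `W` of half dimension in a
plus-type space gives the isometric orthogonal decomposition `![W, W^⊥]`, stabilised by the isometries stabilising `W`.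
-/

set_option autoImplicit false
set_option linter.unusedSectionVars false
set_option linter.unusedVariables false

namespace Cfsg.Agent.Lib.Helper2.OELeaf

open Cfsg Cfsg.Geo Matrix Module QuadraticMap Cfsg.Agent.Lib.Lead.OE
open scoped Kronecker

section generic
variable {ι : Type} [Fintype ι] [DecidableEq ι] {F : Type*} [Field F] [Fintype F]
  (Q : QuadraticForm F (ι → F))

/-- the whole space is non-degenerate for the polar form -/
lemma r18_nd_top (hQ : (polarBilin Q).Nondegenerate) : IsNondegenerateOn (polar ⇑Q) (⊤ : Submodule F (ι → F)) := by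
  intro w _ hw
  have h1 : ∃ x, polar ⇑Q x w ≠ 0 := by
    by_contra hcon
    push Not at hcon
    apply hw
    apply hQ.1 w
    intro y
    rw [polarBilin_apply_apply, polar_comm]
    exact hcon y
  obtain ⟨x, hx⟩ := h1
  refine ⟨⟨x, Submodule.mem_top, hx⟩, ⟨x, Submodule.mem_top, ?_⟩⟩
  rw [polar_comm]
  exact hx

/-- a linear map stabilising (in the iff sense) a subspace maps it onto itself -/
lemma r18_map_eq {W : Submodule F (ι → F)} {g : GL ι F} (hg : g ∈ subspaceStabilizer W) :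
    W.map (Matrix.toLin' (g : Matrix ι ι F)) = W := by
  have hg' : ∀ v, v ∈ W ↔ (g : Matrix ι ι F) *ᵥ v ∈ W := hg
  have hgi : g⁻¹ ∈ subspaceStabilizer W := (subspaceStabilizer W).inv_mem hg
  have hgi' : ∀ v, v ∈ W ↔ ((g⁻¹ : GL ι F) : Matrix ι ι F) *ᵥ v ∈ W := hgi
  apply le_antisymm
  · rintro _ ⟨v, hv, rfl⟩
    rw [Matrix.toLin'_apply]
    exact (hg' v).1 hv
  · intro v hv
    refine ⟨((g⁻¹ : GL ι F) : Matrix ι ι F) *ᵥ v, (hgi' v).1 hv, ?_⟩
    rw [Matrix.toLin'_apply, Matrix.mulVec_mulVec, ← Units.val_mul, mul_inv_cancel, Units.val_one,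
      Matrix.one_mulVec]

/-- R18 (exact signature of `notes/OmEven_rows3_leaves.lean`). -/
theorem dec_of_nd_half (hQ : (polarBilin Q).Nondegenerate) (hplus : IsPlusTypeOn ⇑Q ⊤)
    {W : Submodule F (ι → F)} (hW : IsNondegenerateOn (polar ⇑Q) W) {k : ℕ} (hk : Even k)
    (hdim : finrank F W = k) (hcard : Fintype.card ι = 2 * k) (hk0 : 0 < k) :
    ∃ D : Fin 2 → Submodule F (ι → F), IsOrthogonalMDecomposition ⇑Q k D ∧
      subspaceStabilizer W ⊓ isometryGroup F ⇑Q ≤ decompositionStabilizer D := by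
  classical
  set U : Submodule F (ι → F) := Cfsg.Agent.Lib.Helper28.OmMLeaf.perp28 Q W with hU
  obtain ⟨hcompl, hndU⟩ := Cfsg.Agent.Lib.Helper28.OmMLeaf.orth_props28 Q hQ hW
  have hstabU : subspaceStabilizer W ⊓ isometryGroup F ⇑Q ≤ subspaceStabilizer U :=
    Cfsg.Agent.Lib.Helper28.OmMLeaf.stab_orth28 Q
  have hdimU : finrank F U = k := by
    have := Submodule.finrank_add_eq_of_isCompl hcompl
    rw [Module.finrank_fintype_fun_eq_card] at this
    show finrank F (Cfsg.Agent.Lib.Helper28.OmMLeaf.perp28 Q W) = k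
    omega
  -- orthogonality
  have hWU : AreOrthogonalFor (polar ⇑Q) W U := by
    intro w hw u hu
    exact (Cfsg.Agent.Lib.Helper28.OmMLeaf.mem_orth28 Q W u).1 hu w hw
  have hUW : AreOrthogonalFor (polar ⇑Q) U W := by
    intro u hu w hw
    rw [polar_comm]
    exact hWU w hw u hu
  -- types
  obtain ⟨εW, hεW, hTW⟩ := Cfsg.Agent.Lib.Helper12.OELeaf.exists_typeOn Q hW (hdim ▸ hk)
  obtain ⟨εU, hεU, hTU⟩ := Cfsg.Agent.Lib.Helper12.OELeaf.exists_typeOn Q hndU (hdimU ▸ hk)
  have hTsup : TypeOn Q (W ⊔ U) (εW * εU) :=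
    Cfsg.Agent.Lib.Helper18.OELeaf.typeOn_sup Q hW hndU hWU hTW hTU
  rw [hcompl.sup_eq_top] at hTsup
  have hevtop : Even (finrank F (⊤ : Submodule F (ι → F))) := by
    rw [finrank_top, Module.finrank_fintype_fun_eq_card, hcard]
    exact even_two_mul k
  have hTtop : TypeOn Q ⊤ 1 :=
    (Cfsg.Agent.Lib.Helper18.OELeaf.typeOn_one_iff_plus Q (r18_nd_top Q hQ) hevtop).2 hplus
  have hprod : εW * εU = 1 := Cfsg.Agent.Lib.Helper12.OELeaf.typeOn_unique Q hTsup hTtop
  have hεeq : εU = εW := by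
    rcases hεW with rfl | rfl <;> rcases hεU with rfl | rfl <;> simp at hprod ⊢
  rw [hεeq] at hTU
  have hisoWU : AreIsometricFor ⇑Q W U :=
    Cfsg.Agent.Lib.Helper26.OELeaf.isometric_of_typeOn Q hW hndU hεW hTW hTU (hdim.trans hdimU.symm)
  have hisoUW : AreIsometricFor ⇑Q U W := by
    obtain ⟨e, he⟩ := hisoWU
    refine ⟨e.symm, fun u => ?_⟩
    have := he (e.symm u)
    rw [LinearEquiv.apply_symm_apply] at this
    exact this.symm
  have hrefl : ∀ A : Submodule F (ι → F), AreIsometricFor ⇑Q A A := fun A =>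
    ⟨LinearEquiv.refl F A, fun _ => rfl⟩
  refine ⟨![W, U], ⟨⟨⟨le_refl 2, hk0, ?_, ?_, ?_⟩, ?_, ?_⟩, ?_⟩, ?_⟩
  · intro i
    fin_cases i
    · exact hdim
    · exact hdimU
  · -- independence
    rw [iSupIndep_def]
    intro i
    fin_cases i
    · show Disjoint W (⨆ j, ⨆ (_ : j ≠ (0 : Fin 2)), (![W, U] : Fin 2 → Submodule F (ι → F)) j)
      have : (⨆ j, ⨆ (_ : j ≠ (0 : Fin 2)), (![W, U] : Fin 2 → Submodule F (ι → F)) j) ≤ U := by
        refine iSup_le fun j => iSup_le fun hj => ?_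
        fin_cases j
        · exact absurd rfl hj
        · exact le_refl _
      exact hcompl.disjoint.mono_right this
    · show Disjoint U (⨆ j, ⨆ (_ : j ≠ (1 : Fin 2)), (![W, U] : Fin 2 → Submodule F (ι → F)) j)
      have : (⨆ j, ⨆ (_ : j ≠ (1 : Fin 2)), (![W, U] : Fin 2 → Submodule F (ι → F)) j) ≤ W := by
        refine iSup_le fun j => iSup_le fun hj => ?_
        fin_cases j
        · exact le_refl _
        · exact absurd rfl hj
      exact hcompl.disjoint.symm.mono_right this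
  · -- span
    rw [eq_top_iff, ← hcompl.sup_eq_top]
    exact sup_le (le_iSup (![W, U] : Fin 2 → Submodule F (ι → F)) 0)
      (le_iSup (![W, U] : Fin 2 → Submodule F (ι → F)) 1)
  · intro i
    fin_cases i
    · exact hW
    · exact hndU
  · intro i j hij
    fin_cases i <;> fin_cases j
    · exact absurd rfl hij
    · exact hWU
    · exact hUW
    · exact absurd rfl hij
  · intro i j
    fin_cases i <;> fin_cases j
    · exact hrefl W
    · exact hisoWU
    · exact hisoUW
    · exact hrefl U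
  · intro g hg
    have hgW : g ∈ subspaceStabilizer W := (Subgroup.mem_inf.1 hg).1
    have hgU : g ∈ subspaceStabilizer U := hstabU hg
    refine ⟨1, fun i => ?_⟩
    fin_cases i
    · exact r18_map_eq hgW
    · exact r18_map_eq hgU

end generic

end Cfsg.Agent.Lib.Helper2.OELeaf
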