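import Mathlib
import Cfsg.Prelude.Def_ClassicalGeometry
import Cfsg.Prelude.Def_GeometricClasses
import Cfsg.Agent.Lib.Helper2.OTGDefs

/-!
S5681 / S5709 PART (GA'), leaf (C2) `dual_neg`: duality for an isometry which is `−1` on `R` modulo `K`.
-/

set_option autoImplicit false
set_option linter.unusedSectionVars false
set_option linter.unusedVariables false

namespace Cfsg.Agent.Lib.Helper2.OTGLeaf
open Matrix Module
open Cfsg.Agent.Lib.Helper25.Tens Cfsg.Agent.Lib.Helper19.OSub Cfsg.Agent.Lib.Helper25.OT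
open Cfsg.Agent.Lib.Helper2.SOT (fB gim mem_gim fB_add_left fB_add_right fB_smul_left fB_smul_right
  fB_comm)
open Cfsg.Agent.Lib.Helper2.OTG
open scoped Kronecker

variable {F : Type*} [Field F] [Fintype F] {a b : ℕ} {G1 : Matrix (Fin a) (Fin a) F}
  {G2 : Matrix (Fin b) (Fin b) F} {M : Subgroup (GL (Idx a b) F)}

/-- (C2) -/
theorem dual_neg (h : Ctx a b G1 G2) (R W' : Submodule F (Idx a b → F))
    (hR : R ≤ perpW G1 G2 R) (hW' : W' ≤ perpW G1 G2 W') (hKl : W' ⊓ perpW G1 G2 R ≤ R)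
    (b₀ : GL (Idx a b) F) (hb : b₀ ∈ OV G1 G2)
    (hP : ∀ v, mv b₀ v - v ∈ R ⊔ W')
    (hfix : ∀ v ∈ R ⊓ W', mv b₀ v = v)
    (hneg : ∀ v ∈ R, mv b₀ v + v ∈ R ⊓ W') :
    ∀ w ∈ W', mv b₀ w + w ∈ R := by
  intro w hw
  have hiso := fV_mv h.symm1 h.symm2 h.two hb
  -- step 1
  have h1 : mv b₀ w + w ∈ perpW G1 G2 R := by
    intro r hr
    have hk := hneg r hr
    set k := mv b₀ r + r with hkdef
    have e1 : mv b₀ r = k - r := by rw [hkdef]; abel
    have e2 : fV G1 G2 (mv b₀ w) (mv b₀ r) = fV G1 G2 w r := hiso w r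
    have e3 : fV G1 G2 (mv b₀ w) k = 0 := by
      have : fV G1 G2 (mv b₀ w) (mv b₀ k) = fV G1 G2 w k := hiso w k
      rw [hfix k hk] at this
      rw [this]
      exact hW' hw k hk.2
    rw [e1, fV_sub_right, e3, zero_sub] at e2
    rw [fV_add_left, ← e2]
    ring
  -- step 2
  have h2 : mv b₀ w + w ∈ R ⊔ W' := by
    have e : mv b₀ w + w = (mv b₀ w - w) + (w + w) := by abel
    rw [e]
    exact Submodule.add_mem _ (hP w) (Submodule.mem_sup_right (W'.add_mem hw hw))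
  obtain ⟨r', hr', w', hw', hsum⟩ := Submodule.mem_sup.1 h2
  have h3 : w' ∈ perpW G1 G2 R := by
    have e : w' = (mv b₀ w + w) - r' := by rw [← hsum]; abel
    rw [e]
    exact Submodule.sub_mem _ h1 (hR hr')
  rw [← hsum]
  exact R.add_mem hr' (hKl ⟨hw', h3⟩)

end Cfsg.Agent.Lib.Helper2.OTGLeaf
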