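import Mathlib
import Cfsg.Prelude.Def_ClassicalGeometry
import Cfsg.Prelude.Def_GeometricClasses
import Cfsg.Agent.Lib.Helper2.OTGDefs

/-!
S5681 / S5709 PART (GA'), leaf (C3) `exists_b1`: the involution `b₁ = b₀ ^ p`.
-/

set_option autoImplicit false
set_option linter.unusedSectionVars false
set_option linter.unusedVariables false

namespace Cfsg.Agent.Lib.Helper2.OTGLeaf
open Matrix Module
open Cfsg.Agent.Lib.Helper25.Tens Cfsg.Agent.Lib.Helper19.OSub Cfsg.Agent.Lib.Helper25.OT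
open Cfsg.Agent.Lib.Helper2.SOT (fB gim mem_gim fB_add_left fB_add_right fB_smul_left fB_smul_right
  fB_comm)
open Cfsg.Agent.Lib.Helper2.OTG
open scoped Kronecker

variable {F : Type*} [Field F] [Fintype F] {a b : ℕ} {G1 : Matrix (Fin a) (Fin a) F}
  {G2 : Matrix (Fin b) (Fin b) F} {M : Subgroup (GL (Idx a b) F)}

/-- powers of `b₀` on `R` modulo `K` -/
lemma pow_neg_mod' {ι : Type} [Fintype ι] [DecidableEq ι] (R K : Submodule F (ι → F))
    (b₀ : GL ι F) (hfixK : ∀ v ∈ K, mv b₀ v = v)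
    (hneg : ∀ v ∈ R, mv b₀ v + v ∈ K) (n : ℕ) :
    ∀ v ∈ R, mv (b₀ ^ n) v - ((-1 : F) ^ n) • v ∈ K := by
  induction n with
  | zero => intro v _; simp [mv]
  | succ n ih =>
    intro v hv
    have h1 := ih v hv
    set κ := mv (b₀ ^ n) v - ((-1 : F) ^ n) • v with hκ
    have h2 : mv (b₀ ^ n) v = ((-1 : F) ^ n) • v + κ := by rw [hκ]; abel
    have h3 : mv (b₀ ^ (n + 1)) v = mv b₀ (mv (b₀ ^ n) v) := by
      rw [pow_succ', mv_mul]
    rw [h3, h2, mv_add, mv_smul, hfixK κ h1]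
    have h4 := hneg v hv
    have : ((-1 : F) ^ n) • mv b₀ v + κ - ((-1 : F) ^ (n + 1)) • v =
        ((-1 : F) ^ n) • (mv b₀ v + v) + κ := by
      rw [pow_succ, smul_add, mul_neg_one, neg_smul]
      abel
    rw [this]
    exact K.add_mem (K.smul_mem _ h4) h1

/-- `(1 + n)^k = 1 + k • n` when `n² = 0` -/
lemma one_add_pow_of_sq_zero' {ι : Type} [Fintype ι] [DecidableEq ι] (n : Matrix ι ι F)
    (hn : n * n = 0) (k : ℕ) : (1 + n) ^ k = 1 + (k : F) • n := by
  induction k with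
  | zero => simp
  | succ k ih =>
    rw [pow_succ, ih, add_mul, mul_add, mul_add, one_mul, mul_one, one_mul, Matrix.smul_mul, hn,
      smul_zero, add_zero, Nat.cast_succ, add_smul, one_smul]
    abel

/-- (C3) the involution `b₁ = b₀^p` (`p = char F`, odd). -/
theorem exists_b1 (h : Ctx a b G1 G2) (p : ℕ) [Fact p.Prime] [CharP F p]
    (R W' : Submodule F (Idx a b → F))
    (b₀ : GL (Idx a b) F)
    (hP : ∀ v, mv b₀ v - v ∈ R ⊔ W')
    (hfix : ∀ v ∈ R ⊓ W', mv b₀ v = v)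
    (hneg : ∀ v ∈ R, mv b₀ v + v ∈ R ⊓ W')
    (hnegW : ∀ w ∈ W', mv b₀ w + w ∈ R) :
    (b₀ ^ p) ^ 2 = 1 ∧ ∀ v ∈ R, mv (b₀ ^ p) v + v ∈ R ⊓ W' := by
  have two := h.two
  have hpp : p.Prime := Fact.out
  have hp2 : p ≠ 2 := by
    intro h2
    apply two
    have := CharP.cast_eq_zero F p
    rw [h2] at this
    exact_mod_cast this
  have hpodd : Odd p := hpp.odd_of_ne_two hp2
  set s : GL (Idx a b) F := b₀ * b₀ with hs
  set n : Matrix (Idx a b) (Idx a b) F := (s : Matrix (Idx a b) (Idx a b) F) - 1 with hn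
  have hnv : ∀ v, n *ᵥ v = mv s v - v := by
    intro v
    rw [hn, Matrix.sub_mulVec, Matrix.one_mulVec]
  -- `Z u := b₀ u + u` maps `P` into `R`
  have hZP : ∀ u ∈ R ⊔ W', mv b₀ u + u ∈ R := by
    intro u hu
    obtain ⟨r, hr, w, hw, rfl⟩ := Submodule.mem_sup.1 hu
    have e : mv b₀ (r + w) + (r + w) = (mv b₀ r + r) + (mv b₀ w + w) := by
      rw [mv_add]; abel
    rw [e]
    exact R.add_mem (hneg r hr).1 (hnegW w hw)
  -- `n v ∈ R`
  have hnR : ∀ v, n *ᵥ v ∈ R := by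
    intro v
    have e : n *ᵥ v = mv b₀ (mv b₀ v - v) + (mv b₀ v - v) := by
      rw [hnv, hs, mv_mul, mv_sub]; abel
    rw [e]
    exact hZP _ (hP v)
  -- `n r = 0` for `r ∈ R`
  have hn0 : ∀ r ∈ R, n *ᵥ r = 0 := by
    intro r hr
    have e : n *ᵥ r = mv b₀ (mv b₀ r + r) - (mv b₀ r + r) := by
      rw [hnv, hs, mv_mul, mv_add]; abel
    rw [e, hfix _ (hneg r hr), sub_self]
  have hnn : n * n = 0 := by
    apply Matrix.mulVec_injective
    funext v
    rw [← Matrix.mulVec_mulVec, Matrix.zero_mulVec, hn0 _ (hnR v)]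
  have hsp : s ^ p = 1 := by
    apply Units.ext
    rw [Units.val_pow_eq_pow_val, Units.val_one]
    have : (s : Matrix (Idx a b) (Idx a b) F) = 1 + n := by rw [hn]; abel
    rw [this, one_add_pow_of_sq_zero' n hnn, CharP.cast_eq_zero F p, zero_smul, add_zero]
  refine ⟨?_, ?_⟩
  · rw [← pow_mul, mul_comm, pow_mul, pow_two, ← hs, hsp]
  · intro v hv
    have := pow_neg_mod' R (R ⊓ W') b₀ hfix hneg p v hv
    rw [hpodd.neg_one_pow, neg_smul, one_smul, sub_neg_eq_add] at this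
    exact this

end Cfsg.Agent.Lib.Helper2.OTGLeaf
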