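import Mathlib
import Cfsg.Prelude.Def_ClassicalGeometry
import Cfsg.Prelude.Def_GeometricClasses
import Cfsg.Agent.Lib.Helper2.OTGDefs
import Cfsg.Agent.Lib.Helper2.OTGS1
import Cfsg.Agent.Lib.Helper7.SpTN

/-!
S5681 / S5709 PART (GA'), leaf (C4) in the parity-generic form `inv_normalise_par`
(`Odd a ∨ Odd b` as an explicit hypothesis; does not use `Ctx.oa`): needed for the swapped case of
S5709 (`a = 4`, `b` odd).  Auxiliary lemmas copied from helper11's `OTGC4` (renamed with a `p`).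
-/

set_option autoImplicit false
set_option linter.unusedSectionVars false
set_option linter.unusedVariables false

namespace Cfsg.Agent.Lib.Helper2.OTGLeaf
open Matrix Module
open Cfsg.Agent.Lib.Helper25.Tens Cfsg.Agent.Lib.Helper19.OSub Cfsg.Agent.Lib.Helper25.OT
open Cfsg.Agent.Lib.Helper2.SOT (fB gim mem_gim fB_add_left fB_add_right fB_smul_left fB_smul_right
  fB_comm)
open Cfsg.Agent.Lib.Helper2.OTG
open scoped Kronecker

variable {F : Type*} [Field F] {a b : ℕ} {G1 : Matrix (Fin a) (Fin a) F}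
  {G2 : Matrix (Fin b) (Fin b) F}

/-- the scalar multiple `d • H` of an invertible matrix, as a unit -/
def scGp {n : ℕ} (d : F) (hd : d ≠ 0) (H : GL (Fin n) F) : GL (Fin n) F where
  val := d • (H : Matrix (Fin n) (Fin n) F)
  inv := d⁻¹ • ((H⁻¹ : GL (Fin n) F) : Matrix (Fin n) (Fin n) F)
  val_inv := by
    rw [Matrix.smul_mul, Matrix.mul_smul, smul_smul, mul_inv_cancel₀ hd, one_smul,
      ← Units.val_mul, mul_inv_cancel, Units.val_one]
  inv_val := by
    rw [Matrix.smul_mul, Matrix.mul_smul, smul_smul, inv_mul_cancel₀ hd, one_smul,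
      ← Units.val_mul, inv_mul_cancel, Units.val_one]

lemma scGp_val {n : ℕ} (d : F) (hd : d ≠ 0) (H : GL (Fin n) F) :
    ((scGp d hd H : GL (Fin n) F) : Matrix (Fin n) (Fin n) F) =
      d • (H : Matrix (Fin n) (Fin n) F) := rfl

lemma kel_scGp (d : F) (hd : d ≠ 0) (α : GL (Fin a) F) (β : GL (Fin b) F) :
    (kel (scGp d⁻¹ (inv_ne_zero hd) α) (scGp d hd β) : GL (Idx a b) F) = kel α β := by
  apply Units.ext
  rw [kel_val, kel_val, scGp_val, scGp_val, Matrix.smul_kronecker, Matrix.kronecker_smul, smul_smul,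
    inv_mul_cancel₀ hd, one_smul]

/-- the matrix form of a similitude -/
lemma gram_of_simp {n : ℕ} (G A : Matrix (Fin n) (Fin n) F) (μ : F)
    (hA : ∀ x x' : Fin n → F, fB G (A *ᵥ x) (A *ᵥ x') = μ * fB G x x') :
    Aᵀ * G * A = μ • G := by
  ext i j
  have h1 := hA (Pi.single i 1) (Pi.single j 1)
  unfold fB at h1
  rw [Matrix.mulVec_mulVec, dotProduct_comm, Matrix.dotProduct_mulVec, dotProduct_comm,
    ← Matrix.mulVec_transpose, Matrix.mulVec_mulVec, ← Matrix.mul_assoc] at h1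
  simpa using h1

/-- a Kronecker product equal to `1` has scalar factors -/
lemma scalar_of_kron_eq_onep (ha : 0 < a) (hb : 0 < b) (X : Matrix (Fin a) (Fin a) F)
    (Y : Matrix (Fin b) (Fin b) F) (h : X ⊗ₖ Y = 1) :
    ∃ c : F, c ≠ 0 ∧ X = c • 1 ∧ Y = c⁻¹ • 1 := by
  have hent : ∀ (i j : Fin a) (k l : Fin b), X i j * Y k l =
      if (i, k) = (j, l) then 1 else 0 := by
    intro i j k l
    have := congrFun (congrFun h (i, k)) (j, l)
    rwa [Matrix.kroneckerMap_apply, Matrix.one_apply] at this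
  have h00 := hent ⟨0, ha⟩ ⟨0, ha⟩ ⟨0, hb⟩ ⟨0, hb⟩
  rw [if_pos rfl] at h00
  have hc : X ⟨0, ha⟩ ⟨0, ha⟩ ≠ 0 := left_ne_zero_of_mul_eq_one h00
  have hY0 : Y ⟨0, hb⟩ ⟨0, hb⟩ = (X ⟨0, ha⟩ ⟨0, ha⟩)⁻¹ := eq_inv_of_mul_eq_one_right h00
  refine ⟨X ⟨0, ha⟩ ⟨0, ha⟩, hc, ?_, ?_⟩
  · ext i j
    have := hent i j ⟨0, hb⟩ ⟨0, hb⟩
    rw [hY0] at this
    rw [Matrix.smul_apply, Matrix.one_apply, smul_eq_mul]
    by_cases hij : i = j
    · rw [if_pos (by rw [hij])] at this
      rw [if_pos hij, mul_one]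
      field_simp at this
      exact this
    · rw [if_neg (by intro h'; exact hij (Prod.ext_iff.1 h').1)] at this
      rw [if_neg hij, mul_zero]
      rcases mul_eq_zero.1 this with h' | h'
      · exact h'
      · exact absurd h' (inv_ne_zero hc)
  · ext k l
    have := hent ⟨0, ha⟩ ⟨0, ha⟩ k l
    rw [Matrix.smul_apply, Matrix.one_apply, smul_eq_mul]
    by_cases hkl : k = l
    · rw [if_pos (by rw [hkl])] at this
      rw [if_pos hkl, mul_one]
      exact eq_inv_of_mul_eq_one_right this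
    · rw [if_neg (by intro h'; exact hkl (Prod.ext_iff.1 h').2)] at this
      rw [if_neg hkl, mul_zero]
      rcases mul_eq_zero.1 this with h' | h'
      · exact absurd h' hc
      · exact h'


/-- `det A ^ 2 = μ ^ n` for a similitude `A` of multiplier `μ` of a nondegenerate form -/
lemma det_sq_of_simp {n : ℕ} {G : Matrix (Fin n) (Fin n) F} (hG : G.det ≠ 0)
    (A : Matrix (Fin n) (Fin n) F) (μ : F)
    (hA : ∀ x x' : Fin n → F, fB G (A *ᵥ x) (A *ᵥ x') = μ * fB G x x') :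
    A.det ^ 2 = μ ^ n := by
  have hmat := gram_of_simp G A μ hA
  have := congrArg Matrix.det hmat
  rw [Matrix.det_mul, Matrix.det_mul, Matrix.det_transpose, Matrix.det_smul,
    Fintype.card_fin] at this
  have h1 : (A.det ^ 2 - μ ^ n) * G.det = 0 := by
    linear_combination this
  rcases mul_eq_zero.1 h1 with h' | h'
  · exact sub_eq_zero.1 h'
  · exact absurd h' hG

/-- for odd `n`, `x ^ 2 = μ ^ n` forces `μ` to be a square -/
lemma exists_sqrt_of_odd_pow {n : ℕ} (hn : Odd n) {x μ : F} (hμ : μ ≠ 0) (hx : x ^ 2 = μ ^ n) :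
    ∃ ν : F, ν ^ 2 = μ := by
  obtain ⟨k, hk⟩ := hn
  refine ⟨x * (μ ^ k)⁻¹, ?_⟩
  have hμk : μ ^ k ≠ 0 := pow_ne_zero _ hμ
  have e1 : μ ^ (2 * k + 1) = (μ ^ k) ^ 2 * μ := by ring
  rw [mul_pow, hx, hk, e1]
  field_simp

variable [Fintype F]

/-- (C4), parity-generic form -/
theorem inv_normalise_par (h : Ctx a b G1 G2) (hpar : Odd a ∨ Odd b)
    (b₁ : GL (Idx a b) F) (hK : b₁ ∈ KG a b F)
    (hO : b₁ ∈ OV G1 G2) (hsq : b₁ ^ 2 = 1) :
    ∃ (α : GL (Fin a) F) (β : GL (Fin b) F), b₁ = kel α β ∧ α ^ 2 = 1 ∧ β ^ 2 = 1 ∧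
      (∀ x x' : Fin a → F, fB G1 ((α : Matrix (Fin a) (Fin a) F) *ᵥ x)
        ((α : Matrix (Fin a) (Fin a) F) *ᵥ x') = fB G1 x x') ∧
      (∀ y y' : Fin b → F, fB G2 ((β : Matrix (Fin b) (Fin b) F) *ᵥ y)
        ((β : Matrix (Fin b) (Fin b) F) *ᵥ y') = fB G2 y y') := by
  obtain ⟨α, β, hαβ⟩ := (mem_KG_iff b₁).1 hK
  have hb₁ : b₁ = kel α β := Units.ext hαβ
  rw [hb₁] at hO
  obtain ⟨μ, hμ, hA, hB⟩ := sim_of_kel_mem h α β hO
  have ha0 : 0 < a := by have := h.ha; omega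
  have hb0 : 0 < b := by have := h.hb; omega
  -- `μ` is a square
  obtain ⟨ν, hν2⟩ : ∃ ν : F, ν ^ 2 = μ := by
    rcases hpar with hoa | hob
    · exact exists_sqrt_of_odd_pow hoa hμ
        (det_sq_of_simp h.nd1 (α : Matrix (Fin a) (Fin a) F) μ hA)
    · obtain ⟨ν', hν'⟩ := exists_sqrt_of_odd_pow hob (inv_ne_zero hμ)
        (det_sq_of_simp h.nd2 (β : Matrix (Fin b) (Fin b) F) μ⁻¹ hB)
      refine ⟨ν'⁻¹, ?_⟩
      rw [inv_pow, hν', inv_inv]
  have hν0 : ν ≠ 0 := by
    intro h0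
    rw [h0] at hν2
    exact hμ (by rw [← hν2]; ring)
  -- the rescaled factors
  obtain ⟨α', hα'⟩ : ∃ α' : GL (Fin a) F, α' = scGp ν⁻¹ (inv_ne_zero hν0) α := ⟨_, rfl⟩
  obtain ⟨β', hβ'⟩ : ∃ β' : GL (Fin b) F, β' = scGp ν hν0 β := ⟨_, rfl⟩
  have hkel : (kel α' β' : GL (Idx a b) F) = kel α β := by
    rw [hα', hβ']; exact kel_scGp ν hν0 α β
  have hA' : ∀ x x' : Fin a → F, fB G1 ((α' : Matrix (Fin a) (Fin a) F) *ᵥ x)
      ((α' : Matrix (Fin a) (Fin a) F) *ᵥ x') = fB G1 x x' := by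
    intro x x'
    rw [hα', scGp_val, Matrix.smul_mulVec, Matrix.smul_mulVec, fB_smul_left, fB_smul_right, hA,
      ← hν2]
    field_simp
  have hB' : ∀ y y' : Fin b → F, fB G2 ((β' : Matrix (Fin b) (Fin b) F) *ᵥ y)
      ((β' : Matrix (Fin b) (Fin b) F) *ᵥ y') = fB G2 y y' := by
    intro y y'
    rw [hβ', scGp_val, Matrix.smul_mulVec, Matrix.smul_mulVec, fB_smul_left, fB_smul_right, hB,
      ← hν2]
    field_simp
  -- squares
  have hsq' : (kel (α' ^ 2) (β' ^ 2) : GL (Idx a b) F) = 1 := by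
    rw [pow_two, pow_two, Cfsg.Agent.Lib.Helper7.SpTLeaf.kel_mul_kel, hkel, ← hb₁, ← pow_two, hsq]
  have hsqv : ((α' ^ 2 : GL (Fin a) F) : Matrix (Fin a) (Fin a) F) ⊗ₖ
      ((β' ^ 2 : GL (Fin b) F) : Matrix (Fin b) (Fin b) F) = 1 := by
    have := congrArg (fun t : GL (Idx a b) F => (t : Matrix (Idx a b) (Idx a b) F)) hsq'
    simpa using this
  obtain ⟨c, hc0, hcA, hcB⟩ := scalar_of_kron_eq_onep ha0 hb0 _ _ hsqv
  -- `c ^ 2 = 1`
  obtain ⟨i, j, hij⟩ : ∃ i j, G1 i j ≠ 0 := by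
    by_contra hcon
    push Not at hcon
    apply h.nd1
    have hG0 : G1 = 0 := by ext i j; exact hcon i j
    haveI : Nonempty (Fin a) := ⟨⟨0, ha0⟩⟩
    rw [hG0, Matrix.det_zero]
  have hα2v : ∀ x : Fin a → F, (α' : Matrix (Fin a) (Fin a) F) *ᵥ
      ((α' : Matrix (Fin a) (Fin a) F) *ᵥ x) = c • x := by
    intro x
    rw [Matrix.mulVec_mulVec, ← Units.val_mul, ← pow_two, hcA, Matrix.smul_mulVec,
      Matrix.one_mulVec]
  have hc2 : c ^ 2 = 1 := by
    have h1 := hA' ((α' : Matrix (Fin a) (Fin a) F) *ᵥ Pi.single i 1)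
      ((α' : Matrix (Fin a) (Fin a) F) *ᵥ Pi.single j 1)
    rw [hα2v, hα2v, fB_smul_left, fB_smul_right, hA'] at h1
    have h2 : fB G1 (Pi.single i 1) (Pi.single j 1) = G1 i j := by
      unfold fB
      simp
    rw [h2] at h1
    have h3 : (c ^ 2 - 1) * G1 i j = 0 := by linear_combination h1
    rcases mul_eq_zero.1 h3 with h' | h'
    · exact sub_eq_zero.1 h'
    · exact absurd h' hij
  have hc1 : c = 1 := by
    have h1 : (c - 1) * (c + 1) = 0 := by rw [← sub_eq_zero] at hc2; rw [← hc2]; ring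
    rcases mul_eq_zero.1 h1 with h' | h'
    · exact sub_eq_zero.1 h'
    · exfalso
      have hcm : c = -1 := eq_neg_of_add_eq_zero_left h'
      have htwo : ∀ x : F, x = 1 → x = -1 → False := by
        intro x hx1 hxm
        rw [hx1] at hxm
        have h3 : (1 : F) + 1 = 0 := by nth_rewrite 1 [hxm]; ring
        exact h.two (by rw [← h3]; ring)
      rcases hpar with hoa | hob
      · -- `det α' ^ 2 = 1` and `= (-1)^a = -1`
        obtain ⟨k, hk⟩ := hoa
        have hd1 : (α' : Matrix (Fin a) (Fin a) F).det ^ 2 = 1 := by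
          have := det_sq_of_simp h.nd1 (α' : Matrix (Fin a) (Fin a) F) 1
            (by intro x x'; rw [one_mul]; exact hA' x x')
          rwa [one_pow] at this
        have hd2 : (α' : Matrix (Fin a) (Fin a) F).det ^ 2 = -1 := by
          have := congrArg Matrix.det hcA
          rw [pow_two, Units.val_mul, Matrix.det_mul, Matrix.det_smul, Matrix.det_one, mul_one,
            Fintype.card_fin, hcm] at this
          rw [pow_two, this, hk, pow_succ, pow_mul]
          simp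
        exact htwo _ hd1 hd2
      · obtain ⟨k, hk⟩ := hob
        have hd1 : (β' : Matrix (Fin b) (Fin b) F).det ^ 2 = 1 := by
          have := det_sq_of_simp h.nd2 (β' : Matrix (Fin b) (Fin b) F) 1
            (by intro x x'; rw [one_mul]; exact hB' x x')
          rwa [one_pow] at this
        have hd2 : (β' : Matrix (Fin b) (Fin b) F).det ^ 2 = -1 := by
          have := congrArg Matrix.det hcB
          rw [pow_two, Units.val_mul, Matrix.det_mul, Matrix.det_smul, Matrix.det_one, mul_one,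
            Fintype.card_fin, hcm] at this
          rw [pow_two, this, hk, pow_succ, pow_mul]
          simp
        exact htwo _ hd1 hd2
  refine ⟨α', β', by rw [hb₁, hkel], ?_, ?_, hA', hB'⟩
  · apply Units.ext
    rw [hcA, hc1, one_smul, Units.val_one]
  · apply Units.ext
    rw [hcB, hc1, inv_one, one_smul, Units.val_one]

end Cfsg.Agent.Lib.Helper2.OTGLeaf
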