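import Mathlib
import Cfsg.Prelude.Def_ClassicalGeometry
import Cfsg.Prelude.Def_GeometricClasses
import Cfsg.Agent.Lib.Helper2.OTGDefs
import Cfsg.Agent.Lib.Helper2.OTGW

/-!
S5681 / S5709 PART (GA'), leaf (C5) `alpha_pm_one`: the `A`-factor of the involution `b₁` is `±1`.
-/

set_option autoImplicit false
set_option linter.unusedSectionVars false
set_option linter.unusedVariables false

namespace Cfsg.Agent.Lib.Helper2.OTGLeaf
open Matrix Module
open Cfsg.Agent.Lib.Helper25.Tens Cfsg.Agent.Lib.Helper19.OSub Cfsg.Agent.Lib.Helper25.OT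
open Cfsg.Agent.Lib.Helper2.SOT (fB gim mem_gim fB_add_left fB_add_right fB_smul_left fB_smul_right
  fB_comm)
open Cfsg.Agent.Lib.Helper2.OTG
open scoped Kronecker

variable {F : Type*} [Field F] [Fintype F] {a b : ℕ} {G1 : Matrix (Fin a) (Fin a) F}
  {G2 : Matrix (Fin b) (Fin b) F} {M : Subgroup (GL (Idx a b) F)}

/-- the functional `fB G · y` -/
def fBL (G : Matrix (Fin b) (Fin b) F) (y : Fin b → F) : (Fin b → F) →ₗ[F] F where
  toFun v := fB G v y
  map_add' u v := fB_add_left G u v y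
  map_smul' c v := by rw [fB_smul_left]; rfl

/-- (C5) -/
theorem alpha_pm_one (h : Ctx a b G1 G2) {y z : Fin b → F} (hL : TSL G2 y z)
    (P : Submodule F (Idx a b → F))
    (hPR : P ⊓ perpW G1 G2 (WL y z) ≤ (WL y z : Submodule F (Idx a b → F)))
    (α : GL (Fin a) F) (β : GL (Fin b) F) (hα : α ^ 2 = 1) (hβ : β ^ 2 = 1)
    (hβi : ∀ v v' : Fin b → F, fB G2 ((β : Matrix (Fin b) (Fin b) F) *ᵥ v)
      ((β : Matrix (Fin b) (Fin b) F) *ᵥ v') = fB G2 v v')
    (hstab : ∀ v ∈ (WL y z : Submodule F (Idx a b → F)),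
      mv (kel α β) v ∈ (WL y z : Submodule F (Idx a b → F)))
    (hP : ∀ v, mv (kel α β : GL (Idx a b) F) v - v ∈ P) :
    α = 1 ∨ α = -1 := by
  have two := h.two
  have hb := h.hb
  by_contra hcon
  push Not at hcon
  obtain ⟨hα1, hαm1⟩ := hcon
  have hαα : ∀ x : Fin a → F, (α : Matrix (Fin a) (Fin a) F) *ᵥ
      ((α : Matrix (Fin a) (Fin a) F) *ᵥ x) = x := by
    intro x
    rw [Matrix.mulVec_mulVec, ← Units.val_mul, ← pow_two, hα, Units.val_one, Matrix.one_mulVec]
  have hββ : ∀ v : Fin b → F, (β : Matrix (Fin b) (Fin b) F) *ᵥ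
      ((β : Matrix (Fin b) (Fin b) F) *ᵥ v) = v := by
    intro v
    rw [Matrix.mulVec_mulVec, ← Units.val_mul, ← pow_two, hβ, Units.val_one, Matrix.one_mulVec]
  -- eigenvectors of `α`
  obtain ⟨xp, hxp0, hxp⟩ : ∃ x : Fin a → F, x ≠ 0 ∧ (α : Matrix (Fin a) (Fin a) F) *ᵥ x = x := by
    by_contra hno
    push Not at hno
    apply hαm1
    apply Units.ext
    apply Matrix.mulVec_injective
    funext x
    have h1 : (α : Matrix (Fin a) (Fin a) F) *ᵥ x + x = 0 := by
      by_contra h2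
      apply hno _ h2
      rw [Matrix.mulVec_add, hαα, add_comm]
    rw [Units.val_neg, Units.val_one, Matrix.neg_mulVec, Matrix.one_mulVec]
    exact eq_neg_of_add_eq_zero_left h1
  obtain ⟨xm, hxm0, hxm⟩ : ∃ x : Fin a → F, x ≠ 0 ∧ (α : Matrix (Fin a) (Fin a) F) *ᵥ x = -x := by
    by_contra hno
    push Not at hno
    apply hα1
    apply Units.ext
    apply Matrix.mulVec_injective
    funext x
    have h1 : (α : Matrix (Fin a) (Fin a) F) *ᵥ x - x = 0 := by
      by_contra h2
      apply hno _ h2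
      rw [Matrix.mulVec_sub, hαα]
      abel
    rw [Units.val_one, Matrix.one_mulVec]
    exact sub_eq_zero.1 h1
  have hmvpt : ∀ (x : Fin a → F) (v : Fin b → F), mv (kel α β : GL (Idx a b) F) (pt x v) =
      pt ((α : Matrix (Fin a) (Fin a) F) *ᵥ x) ((β : Matrix (Fin b) (Fin b) F) *ᵥ v) :=
    fun x v => kel_mulVec_pt α β x v
  -- `β L ⊆ L`
  have hβL : ∀ l ∈ Submodule.span F {y, z},
      (β : Matrix (Fin b) (Fin b) F) *ᵥ l ∈ Submodule.span F {y, z} := by
    intro l hl
    have h1 : pt xp l ∈ (WL y z : Submodule F (Idx a b → F)) := by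
      rw [WL_eq_AT]; exact pt_mem_AT xp hl
    have h2 := hstab _ h1
    rw [hmvpt, hxp, WL_eq_AT] at h2
    exact mem_of_pt_mem_AT hxp0 h2
  -- `L^⊥`
  set φ : (Fin b → F) →ₗ[F] F × F := (fBL G2 y).prod (fBL G2 z) with hφ
  have hmemφ : ∀ v : Fin b → F, v ∈ LinearMap.ker φ ↔ fB G2 v y = 0 ∧ fB G2 v z = 0 := by
    intro v
    have hφv : φ v = (fB G2 v y, fB G2 v z) := rfl
    rw [LinearMap.mem_ker, hφv, Prod.mk_eq_zero]
  have hperpL : ∀ v ∈ LinearMap.ker φ, ∀ l ∈ Submodule.span F {y, z}, fB G2 v l = 0 := by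
    intro v hv l hl
    obtain ⟨s, t, rfl⟩ := Submodule.mem_span_pair.1 hl
    obtain ⟨h1, h2⟩ := (hmemφ v).1 hv
    rw [fB_add_right, fB_smul_right, fB_smul_right, h1, h2]
    ring
  have hβperp : ∀ v ∈ LinearMap.ker φ, (β : Matrix (Fin b) (Fin b) F) *ᵥ v ∈ LinearMap.ker φ := by
    intro v hv
    rw [hmemφ]
    constructor
    · have := hβi ((β : Matrix (Fin b) (Fin b) F) *ᵥ v) y
      rw [hββ] at this
      rw [← this]
      exact hperpL v hv _ (hβL y (Submodule.subset_span (by simp)))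
    · have := hβi ((β : Matrix (Fin b) (Fin b) F) *ᵥ v) z
      rw [hββ] at this
      rw [← this]
      exact hperpL v hv _ (hβL z (Submodule.subset_span (by simp)))
  have pt_neg_right' : ∀ (x : Fin a → F) (v : Fin b → F), pt x (-v) = -pt x v := by
    intro x v
    ext p
    simp [pt]
  have pt_neg_left' : ∀ (x : Fin a → F) (v : Fin b → F), pt (-x) v = -pt x v := by
    intro x v
    ext p
    simp [pt]
  -- the key claim
  have key : ∀ (x : Fin a → F) (v : Fin b → F), x ≠ 0 → v ∈ LinearMap.ker φ →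
      mv (kel α β : GL (Idx a b) F) (pt x v) = -pt x v → v ∈ Submodule.span F {y, z} := by
    intro x v hx hv hneg
    have h1 := hP (pt x v)
    rw [hneg] at h1
    have h2 : pt x v ∈ P := by
      have e : pt x v = (-(2 : F)⁻¹) • (-pt x v - pt x v) := by
        have : -pt x v - pt x v = (-(2 : F)) • pt x v := by rw [neg_smul, two_smul]; abel
        rw [this, smul_smul, neg_mul_neg, inv_mul_cancel₀ two, one_smul]
      rw [e]
      exact P.smul_mem _ h1
    have h3 : pt x v ∈ perpW G1 G2 (WL y z) := by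
      intro w hw
      obtain ⟨x₁, x₂, rfl⟩ := (mem_WL_iff y z w).1 hw
      obtain ⟨e1, e2⟩ := (hmemφ v).1 hv
      rw [fV_add_right, fV_pt, fV_pt, e1, e2]
      ring
    have h4 := hPR ⟨h2, h3⟩
    rw [WL_eq_AT] at h4
    exact mem_of_pt_mem_AT hx h4
  -- `L^⊥ ≤ L`
  have hle : LinearMap.ker φ ≤ Submodule.span F {y, z} := by
    intro v hv
    set βv := (β : Matrix (Fin b) (Fin b) F) *ᵥ v with hβv
    have hβvm : βv ∈ LinearMap.ker φ := hβperp v hv
    have h1 : v - βv ∈ Submodule.span F {y, z} := by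
      apply key xp _ hxp0 (Submodule.sub_mem _ hv hβvm)
      rw [hmvpt, hxp, Matrix.mulVec_sub, hββ, ← pt_neg_right']
      congr 1
      abel
    have h2 : v + βv ∈ Submodule.span F {y, z} := by
      apply key xm _ hxm0 (Submodule.add_mem _ hv hβvm)
      rw [hmvpt, hxm, Matrix.mulVec_add, hββ, pt_neg_left', add_comm]
    have e : v = (2 : F)⁻¹ • ((v + βv) + (v - βv)) := by
      have : (v + βv) + (v - βv) = (2 : F) • v := by rw [two_smul]; abel
      rw [this, smul_smul, inv_mul_cancel₀ two, one_smul]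
    rw [e]
    exact Submodule.smul_mem _ _ (Submodule.add_mem _ h2 h1)
  -- dimensions
  have hdim := LinearMap.finrank_range_add_finrank_ker φ
  rw [Module.finrank_fin_fun] at hdim
  have hrange : finrank F (LinearMap.range φ) ≤ 2 := by
    have := Submodule.finrank_le (LinearMap.range φ)
    rwa [Module.finrank_prod, Module.finrank_self] at this
  have hspan : finrank F (Submodule.span F {y, z} : Submodule F (Fin b → F)) ≤ 2 := by
    have h1 := finrank_WL (a := a) hL
    rw [WL_eq_AT, finrank_AT] at h1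
    have ha : 0 < a := by have := h.ha; omega
    have h2 : a * finrank F (Submodule.span F {y, z} : Submodule F (Fin b → F)) = a * 2 := by
      rw [h1, mul_comm]
    exact le_of_eq (Nat.eq_of_mul_eq_mul_left ha h2)
  have hker := Submodule.finrank_mono hle
  omega

end Cfsg.Agent.Lib.Helper2.OTGLeaf
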