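import Mathlib
import Cfsg.Prelude.Def_ClassicalGeometry
import Cfsg.Prelude.Def_GeometricClasses
import Cfsg.Agent.Lib.Helper2.OTGDefs
import Cfsg.Agent.Lib.Helper2.OTGN
import Cfsg.Agent.Lib.Helper2.OTGW

/-!
S5681 / S5709 PART (GA'), leaf (C6) `cheap_trick`.
-/

set_option autoImplicit false
set_option linter.unusedSectionVars false
set_option linter.unusedVariables false

namespace Cfsg.Agent.Lib.Helper2.OTGLeaf
open Matrix Module
open Cfsg.Agent.Lib.Helper25.Tens Cfsg.Agent.Lib.Helper19.OSub Cfsg.Agent.Lib.Helper25.OT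
open Cfsg.Agent.Lib.Helper2.SOT (fB gim mem_gim fB_add_left fB_add_right fB_smul_left fB_smul_right
  fB_comm)
open Cfsg.Agent.Lib.Helper2.OTG
open scoped Kronecker

variable {F : Type*} [Field F] [Fintype F] {a b : ℕ} {G1 : Matrix (Fin a) (Fin a) F}
  {G2 : Matrix (Fin b) (Fin b) F} {M : Subgroup (GL (Idx a b) F)}

/-- (C6) the cheap trick: if `W' = g (A⊗L')` contains `A ⊗ y₀` for some `0 ≠ y₀ ∈ L` then `g ∈ KG`. -/
theorem cheap_trick (h : MCtx a b G1 G2 M)
    (hroot : ∀ y z : Fin b → F, TSL G2 y z → ∀ c : F, (kB G2 y z c : GL (Idx a b) F) ∈ M)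
    (h1 : L1' G2 M) (h2 : L2' G2 M) {y z y' z' : Fin b → F} (hL : TSL G2 y z)
    (hL' : TSL G2 y' z') (g : GL (Idx a b) F) (hg : g ∈ M) (y₀ : Fin b → F) (hy₀ : y₀ ≠ 0)
    (hy₀L : y₀ ∈ Submodule.span F {y, z})
    (hsub : ∀ x : Fin a → F, pt x y₀ ∈ gim g (WL y' z' : Submodule F (Idx a b → F))) :
    g ∈ KG a b F := by
  have hc : Ctx a b G1 G2 := h.toCtx
  have hgO : g ∈ OV G1 G2 := OmV_le_OV _ _ (h.le_om hg)
  -- `W'` is totally singular
  have hW'ts : gim g (WL y' z' : Submodule F (Idx a b → F)) ≤ perpW G1 G2 (gim g (WL y' z')) := by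
    intro w hw
    obtain ⟨u, hu, rfl⟩ := mem_gim.1 hw
    exact (mem_perpW_gim hc g hgO _ u).2 (WL_isotropic hc hL' hu)
  obtain ⟨s, t, hst⟩ := Submodule.mem_span_pair.1 hy₀L
  -- `N_L W' ⊆ W'`
  have hN : ∀ w ∈ gim g (WL y' z' : Submodule F (Idx a b → F)),
      (NL G2 y z : Matrix (Idx a b) (Idx a b) F) *ᵥ w ∈
        gim g (WL y' z' : Submodule F (Idx a b → F)) := by
    intro w hw
    have h0 : ct (G2 *ᵥ y₀) w = 0 :=
      ct_eq_zero_of_perp hc w y₀ (fun x => hW'ts hw _ (hsub x))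
    rw [← hst, Matrix.mulVec_add, Matrix.mulVec_smul, Matrix.mulVec_smul, ct_add_left,
      ct_smul_left, ct_smul_left] at h0
    set u := ct (G2 *ᵥ y) w with hu
    set u' := ct (G2 *ᵥ z) w with hu'
    rw [NL_mulVec hc hL, ← hu, ← hu']
    by_cases hs : s = 0
    · have ht : t ≠ 0 := by
        intro ht
        apply hy₀
        rw [← hst, hs, ht, zero_smul, zero_smul, add_zero]
      rw [hs, zero_smul, zero_add] at h0
      have hu'0 : u' = 0 := by
        rcases smul_eq_zero.1 h0 with h3 | h3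
        · exact absurd h3 ht
        · exact h3
      rw [hu'0, pt_zero_left, sub_zero]
      have e : pt u z = t⁻¹ • pt u y₀ := by
        rw [← hst, hs, zero_smul, zero_add, pt_smul_right, smul_smul, inv_mul_cancel₀ ht, one_smul]
      rw [e]
      exact Submodule.smul_mem _ _ (hsub u)
    · have hu0 : u = -(s⁻¹ * t) • u' := by
        have h3 : s • u = -(t • u') := eq_neg_of_add_eq_zero_left h0
        have h4 : u = s⁻¹ • (s • u) := by rw [smul_smul, inv_mul_cancel₀ hs, one_smul]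
        rw [h4, h3, smul_neg, smul_smul, neg_smul]
      have e : pt u z - pt u' y = (-s⁻¹) • pt u' y₀ := by
        rw [hu0, ← hst, pt_add_right, pt_smul_right, pt_smul_right, pt_smul_left, smul_add,
          smul_smul, smul_smul]
        have e1 : -s⁻¹ * s = -1 := by rw [neg_mul, inv_mul_cancel₀ hs]
        have e2 : -s⁻¹ * t = -(s⁻¹ * t) := by ring
        rw [e1, e2, neg_one_smul]
        abel
      rw [e]
      exact Submodule.smul_mem _ _ (hsub u')
  -- `kB y z c` stabilises `W'`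
  have hstab : ∀ (c : F), ∀ w ∈ gim g (WL y' z' : Submodule F (Idx a b → F)),
      mv (kB G2 y z c : GL (Idx a b) F) w ∈ gim g (WL y' z' : Submodule F (Idx a b → F)) := by
    intro c w hw
    unfold mv
    rw [kB_val hc hL, Matrix.add_mulVec, Matrix.one_mulVec, Matrix.smul_mulVec]
    exact Submodule.add_mem _ hw (Submodule.smul_mem _ _ (hN w hw))
  -- conjugates lie in `KG`
  apply h2 y z hL g hg
  intro c
  apply h1 y' z' hL' _ (M.mul_mem (M.mul_mem (M.inv_mem hg) (hroot y z hL c)) hg)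
  intro v hv
  rw [mv_mul, mv_mul]
  have h3 : mv g v ∈ gim g (WL y' z' : Submodule F (Idx a b → F)) := mem_gim.2 ⟨v, hv, rfl⟩
  obtain ⟨u, hu, hu'⟩ := mem_gim.1 (hstab c _ h3)
  rw [← hu', mv_inv_mv]
  exact hu

end Cfsg.Agent.Lib.Helper2.OTGLeaf
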