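import Mathlib
import Cfsg.Prelude.Def_ClassicalGeometry
import Cfsg.Prelude.Def_GeometricClasses
import Cfsg.Agent.Lib.Helper2.OTGDefs
import Cfsg.Agent.Lib.Helper2.OTGW

/-!
S5681 / S5709 PART (GA'), leaf (C7) `SLs_of_b1`: the structure of `P = R ⊔ W'` from the involution
`b₁ = 1 ⊗ β`.
-/

set_option autoImplicit false
set_option linter.unusedSectionVars false
set_option linter.unusedVariables false

namespace Cfsg.Agent.Lib.Helper2.OTGLeaf
open Matrix Module
open Cfsg.Agent.Lib.Helper25.Tens Cfsg.Agent.Lib.Helper19.OSub Cfsg.Agent.Lib.Helper25.OT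
open Cfsg.Agent.Lib.Helper2.SOT (fB gim mem_gim fB_add_left fB_add_right fB_smul_left fB_smul_right
  fB_comm)
open Cfsg.Agent.Lib.Helper2.OTG
open scoped Kronecker

variable {F : Type*} [Field F] [Fintype F] {a b : ℕ} {G1 : Matrix (Fin a) (Fin a) F}
  {G2 : Matrix (Fin b) (Fin b) F} {M : Subgroup (GL (Idx a b) F)}

/-- nondegeneracy of `fB G` for `det G ≠ 0` -/
lemma fB_nondeg_left {n : ℕ} {G : Matrix (Fin n) (Fin n) F} (hG : G.det ≠ 0) (d : Fin n → F)
    (hd : ∀ v : Fin n → F, fB G d v = 0) : d = 0 := by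
  have hdet : IsUnit G.det := isUnit_iff_ne_zero.2 hG
  funext i
  have h1 := hd (G⁻¹ *ᵥ Pi.single i 1)
  unfold fB at h1
  rw [Matrix.mulVec_mulVec, Matrix.mul_nonsing_inv G hdet, Matrix.one_mulVec] at h1
  simpa using h1

/-- (C7) -/
theorem SLs_of_b1 (h : Ctx a b G1 G2) {y z : Fin b → F} (hL : TSL G2 y z)
    (W' : Submodule F (Idx a b → F)) (β : GL (Fin b) F) (hβ : β ^ 2 = 1)
    (hβi : ∀ v v' : Fin b → F, fB G2 ((β : Matrix (Fin b) (Fin b) F) *ᵥ v)
      ((β : Matrix (Fin b) (Fin b) F) *ᵥ v') = fB G2 v v')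
    (hP : ∀ v, mv (kel (1 : GL (Fin a) F) β) v - v ∈ (WL y z : Submodule F (Idx a b → F)) ⊔ W')
    (hfix : ∀ v ∈ (WL y z : Submodule F (Idx a b → F)) ⊓ W', mv (kel (1 : GL (Fin a) F) β) v = v)
    (hneg : ∀ v ∈ (WL y z : Submodule F (Idx a b → F)),
      mv (kel (1 : GL (Fin a) F) β) v + v ∈ (WL y z : Submodule F (Idx a b → F)) ⊓ W')
    (hnegW : ∀ w ∈ W', mv (kel (1 : GL (Fin a) F) β) w + w ∈ (WL y z : Submodule F (Idx a b → F)))
    (hno : ∀ y₀ ∈ Submodule.span F {y, z}, (β : Matrix (Fin b) (Fin b) F) *ᵥ y₀ = y₀ → y₀ = 0) :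
    (WL y z : Submodule F (Idx a b → F)) ⊓ W' = ⊥ ∧
      ∃ D : Submodule F (Fin b → F), NondegOn G2 D ∧
        (WL y z : Submodule F (Idx a b → F)) ⊔ W' = AT D := by
  have two := h.two
  have ha0 : 0 < a := by have := h.ha; omega
  set b₁ : GL (Idx a b) F := kel (1 : GL (Fin a) F) β with hb₁
  -- `β β = 1`
  have hββ : ∀ v : Fin b → F, (β : Matrix (Fin b) (Fin b) F) *ᵥ
      ((β : Matrix (Fin b) (Fin b) F) *ᵥ v) = v := by
    intro v
    rw [Matrix.mulVec_mulVec, ← Units.val_mul, ← pow_two, hβ, Units.val_one, Matrix.one_mulVec]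
  -- rows
  have hrow : ∀ (v : Idx a b → F) (i : Fin a), (fun k : Fin b => mv b₁ v (i, k)) =
      (β : Matrix (Fin b) (Fin b) F) *ᵥ (fun k : Fin b => v (i, k)) := fun v i => kel_one_row β v i
  -- a vector is negated by `b₁` iff all its rows are negated by `β`
  have hnegrow : ∀ v : Idx a b → F, (∀ i : Fin a, (β : Matrix (Fin b) (Fin b) F) *ᵥ
      (fun k : Fin b => v (i, k)) = -(fun k : Fin b => v (i, k))) → mv b₁ v = -v := by
    intro v hv
    ext ⟨i, k⟩
    have := congrFun ((hrow v i).trans (hv i)) k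
    simpa using this
  have hrowneg : ∀ v : Idx a b → F, mv b₁ v = -v → ∀ i : Fin a,
      (β : Matrix (Fin b) (Fin b) F) *ᵥ (fun k : Fin b => v (i, k)) =
        -(fun k : Fin b => v (i, k)) := by
    intro v hv i
    rw [← hrow v i, hv]
    rfl
  have hinv : ∀ v, mv b₁ (mv b₁ v) = v := by
    intro v
    ext ⟨i, k⟩
    have h1 := congrFun (hrow (mv b₁ v) i) k
    rw [hrow v i, hββ] at h1
    exact h1
  -- a nonzero vector of `A`
  set x₁ : Fin a → F := Pi.single ⟨0, ha0⟩ 1 with hx₁def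
  have hx₁ : x₁ ≠ 0 := by
    intro h0
    have := congrFun h0 ⟨0, ha0⟩
    simp [hx₁def] at this
  have hmvpt : ∀ (x : Fin a → F) (v : Fin b → F),
      mv b₁ (pt x v) = pt x ((β : Matrix (Fin b) (Fin b) F) *ᵥ v) := by
    intro x v
    have := kel_mulVec_pt (1 : GL (Fin a) F) β x v
    rw [Units.val_one, Matrix.one_mulVec] at this
    exact this
  -- `β = −1` on `L`
  have hβL : ∀ l ∈ Submodule.span F {y, z}, (β : Matrix (Fin b) (Fin b) F) *ᵥ l = -l := by
    intro l hl
    have h1 : pt x₁ l ∈ (WL y z : Submodule F (Idx a b → F)) := by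
      rw [WL_eq_AT]; exact pt_mem_AT x₁ hl
    have h2 := (hneg _ h1).1
    rw [hmvpt, ← pt_add_right, WL_eq_AT] at h2
    have h3 : (β : Matrix (Fin b) (Fin b) F) *ᵥ l + l ∈ Submodule.span F {y, z} :=
      mem_of_pt_mem_AT hx₁ h2
    have h4 := hno _ h3 (by rw [Matrix.mulVec_add, hββ, add_comm])
    exact eq_neg_of_add_eq_zero_left h4
  -- `b₁ = −1` on `R`
  have hnegR : ∀ v ∈ (WL y z : Submodule F (Idx a b → F)), mv b₁ v = -v := by
    intro v hv
    apply hnegrow
    intro i
    rw [WL_eq_AT] at hv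
    exact hβL _ (hv i)
  -- `K = 0`
  have hK : (WL y z : Submodule F (Idx a b → F)) ⊓ W' = ⊥ := by
    rw [eq_bot_iff]
    intro v hv
    have h1 := hfix v hv
    rw [hnegR v hv.1] at h1
    have h2 : (2 : F) • v = 0 := by
      rw [two_smul]
      nth_rewrite 1 [← h1]
      exact neg_add_cancel v
    rcases smul_eq_zero.1 h2 with h3 | h3
    · exact absurd h3 two
    · rw [Submodule.mem_bot]; exact h3
  -- `b₁ = −1` on `W'`
  have hnegW' : ∀ w ∈ W', mv b₁ w = -w := by
    intro w hw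
    have hr := hnegW w hw
    set r := mv b₁ w + w with hrdef
    have h1 : mv b₁ r = r := by
      rw [hrdef, mv_add, hinv, add_comm]
    have h2 := hnegR r hr
    rw [h1] at h2
    have h3 : (2 : F) • r = 0 := by
      rw [two_smul]
      nth_rewrite 1 [h2]
      exact neg_add_cancel r
    rcases smul_eq_zero.1 h3 with h4 | h4
    · exact absurd h4 two
    · exact eq_neg_of_add_eq_zero_left h4
  -- `D`
  let D : Submodule F (Fin b → F) :=
    { carrier := {d | (β : Matrix (Fin b) (Fin b) F) *ᵥ d = -d}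
      add_mem' := by
        intro u v hu hv
        change (β : Matrix (Fin b) (Fin b) F) *ᵥ (u + v) = -(u + v)
        rw [Matrix.mulVec_add, hu, hv, neg_add]
      zero_mem' := by
        change (β : Matrix (Fin b) (Fin b) F) *ᵥ (0 : Fin b → F) = -0
        rw [Matrix.mulVec_zero, neg_zero]
      smul_mem' := by
        intro c v hv
        change (β : Matrix (Fin b) (Fin b) F) *ᵥ (c • v) = -(c • v)
        rw [Matrix.mulVec_smul, hv, smul_neg] }
  have hmemD : ∀ d : Fin b → F, d ∈ D ↔ (β : Matrix (Fin b) (Fin b) F) *ᵥ d = -d := fun d => Iff.rfl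
  refine ⟨hK, D, ?_, ?_⟩
  · -- nondegenerate
    intro d hd hperp
    apply fB_nondeg_left h.nd2 d
    intro v
    set βv := (β : Matrix (Fin b) (Fin b) F) *ᵥ v with hβv
    have h1 : v - βv ∈ D := by
      rw [hmemD, Matrix.mulVec_sub, hββ]
      abel
    have h2 : fB G2 d (v - βv) = 0 := hperp _ h1
    have h3 : fB G2 d (v + βv) = 0 := by
      have e1 := hβi d (v + βv)
      rw [(hmemD d).1 hd, Matrix.mulVec_add, hββ] at e1
      have e2 : fB G2 (-d) (βv + v) = -fB G2 d (v + βv) := by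
        have : -d = (-1 : F) • d := by rw [neg_smul, one_smul]
        rw [this, fB_smul_left, add_comm]
        ring
      rw [e2] at e1
      have e3 : (2 : F) * fB G2 d (v + βv) = 0 := by
        rw [two_mul]
        nth_rewrite 1 [← e1]
        exact neg_add_cancel _
      rcases mul_eq_zero.1 e3 with h4 | h4
      · exact absurd h4 two
      · exact h4
    have h5 : v = (2 : F)⁻¹ • ((v + βv) + (v - βv)) := by
      have : (v + βv) + (v - βv) = (2 : F) • v := by rw [two_smul]; abel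
      rw [this, smul_smul, inv_mul_cancel₀ two, one_smul]
    rw [h5, fB_smul_right, fB_add_right, h2, h3]
    ring
  · apply le_antisymm
    · apply sup_le
      · intro v hv
        rw [mem_AT]
        intro i
        rw [hmemD]
        exact hrowneg v (hnegR v hv) i
      · intro w hw
        rw [mem_AT]
        intro i
        rw [hmemD]
        exact hrowneg w (hnegW' w hw) i
    · intro v hv
      have h1 : mv b₁ v = -v := hnegrow v (fun i => (hmemD _).1 (hv i))
      have h2 := hP v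
      rw [h1] at h2
      have h3 : v = (-(2 : F)⁻¹) • (-v - v) := by
        have : -v - v = (-(2 : F)) • v := by rw [neg_smul, two_smul]; abel
        rw [this, smul_smul, neg_mul_neg, inv_mul_cancel₀ two, one_smul]
      rw [h3]
      exact Submodule.smul_mem _ _ h2

end Cfsg.Agent.Lib.Helper2.OTGLeaf
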