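import Mathlib
import Cfsg.Prelude.Def_ClassicalGeometry
import Cfsg.Prelude.Def_GeometricClasses
import Cfsg.Agent.Lib.Helper2.OTGDefs
import Cfsg.Agent.Lib.Helper2.OTGN
import Cfsg.Agent.Lib.Helper2.OTGW
import Cfsg.Agent.Lib.Helper2.OTGN5
import Cfsg.Agent.Lib.Helper2.OTGC2
import Cfsg.Agent.Lib.Helper2.OTGC3
import Cfsg.Agent.Lib.Helper2.OTGC7
import Cfsg.Agent.Lib.Helper2.OTGS1
import Cfsg.Agent.Lib.Helper2.OTGP1
import Cfsg.Agent.Lib.Helper2.OTGC5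
import Cfsg.Agent.Lib.Helper2.OTGC6
import Cfsg.Agent.Lib.Helper6.OTGF1
import Cfsg.Agent.Lib.Helper6.OTGS
import Cfsg.Agent.Lib.Helper11.OTGC1
import Cfsg.Agent.Lib.Helper11.OTGC4
import Cfsg.Agent.Lib.Helper11.OTGP2
import Cfsg.Agent.Lib.Helper12.OTGG1
import Cfsg.Agent.Lib.Helper12.OTGG5

/-!
S5681 / S5709 PART (GA'): the global fixed-point argument for t.s. lines, final assembly `globalO`.
Paper proof: `notes/S5681_GA_plan.md`; leaves: `notes/S5681_GA_leaves.lean`.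
-/

set_option autoImplicit false
set_option linter.unusedSectionVars false
set_option linter.unusedVariables false

namespace Cfsg.Agent.Lib.Helper2.OTGMain
open Matrix Module
open Cfsg.Agent.Lib.Helper25.Tens Cfsg.Agent.Lib.Helper19.OSub Cfsg.Agent.Lib.Helper25.OT
open Cfsg.Agent.Lib.Helper2.SOT (fB gim mem_gim fB_add_left fB_add_right fB_smul_left fB_smul_right
  fB_comm)
open Cfsg.Agent.Lib.Helper2.OTG
open scoped Kronecker

variable {F : Type*} [Field F] [Fintype F] {a b : ℕ} {G1 : Matrix (Fin a) (Fin a) F}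
  {G2 : Matrix (Fin b) (Fin b) F} {M : Subgroup (GL (Idx a b) F)}


open Cfsg.Agent.Lib.Helper2.OTGLeaf in
/-- (C1) -/
theorem exists_b0 (h : Ctx a b G1 G2) {y z y' z' : Fin b → F} (hL : TSL G2 y z)
    (hL' : TSL G2 y' z') (g : GL (Idx a b) F) (hg : g ∈ OV G1 G2) (x₀ : GL (Idx a b) F)
    (hx₀ : x₀ ∈ LL G2 y z g y' z')
    (hmap : ∀ v ∈ (WL y z : Submodule F (Idx a b → F)), mv x₀ v ∈ gim g (WL y' z')) :
    gim g (WL y' z') ⊓ perpW G1 G2 (WL y z) ≤ (WL y z : Submodule F (Idx a b → F)) ∧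
    ∃ b₀ ∈ LL G2 y z g y' z',
      (∀ v ∈ perpW G1 G2 (WL y z) ⊓ perpW G1 G2 (gim g (WL y' z')), mv b₀ v = v) ∧
      ∀ v ∈ (WL y z : Submodule F (Idx a b → F)),
        mv b₀ v + v ∈ (WL y z : Submodule F (Idx a b → F)) ⊓ gim g (WL y' z') :=
  Cfsg.Agent.Lib.Helper11.OTGLeaf.exists_b0_core g x₀ hx₀ hmap (kB_val h hL) (kB_val h hL')
    (NL_mem_WL h hL) (NL_mem_WL h hL') (NL_perp h hL) (NL_perp h hL') (finrank_WL hL)
    (finrank_WL hL') (WL_isotropic h hL) (WL_isotropic h hL') (mem_perpW_gim h g hg)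
    (Cfsg.Agent.Lib.Helper6.OTGLeaf.LL_action h hL hL' g hg)

open Cfsg.Agent.Lib.Helper2.OTGLeaf in
/-- (C4) -/
theorem inv_normalise (h : Ctx a b G1 G2) (b₁ : GL (Idx a b) F) (hK : b₁ ∈ KG a b F)
    (hO : b₁ ∈ OV G1 G2) (hsq : b₁ ^ 2 = 1) :
    ∃ (α : GL (Fin a) F) (β : GL (Fin b) F), b₁ = kel α β ∧ α ^ 2 = 1 ∧ β ^ 2 = 1 ∧
      (∀ x x' : Fin a → F, fB G1 ((α : Matrix (Fin a) (Fin a) F) *ᵥ x)
        ((α : Matrix (Fin a) (Fin a) F) *ᵥ x') = fB G1 x x') ∧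
      (∀ y y' : Fin b → F, fB G2 ((β : Matrix (Fin b) (Fin b) F) *ᵥ y)
        ((β : Matrix (Fin b) (Fin b) F) *ᵥ y') = fB G2 y y') :=
  Cfsg.Agent.Lib.Helper11.OTGLeaf.inv_normalise_core h (sim_of_kel_mem h) b₁ hK hO hsq

open Cfsg.Agent.Lib.Helper2.OTGLeaf in
/-- (P2) -/
theorem exists_partner (h : MCtx a b G1 G2 M)
    (hroot : ∀ y z : Fin b → F, TSL G2 y z → ∀ c : F, (kB G2 y z c : GL (Idx a b) F) ∈ M)
    (h2 : L2' G2 M) {y z y' z' : Fin b → F} (hL : TSL G2 y z) (hL' : TSL G2 y' z')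
    (g : GL (Idx a b) F) (hg : g ∈ M) :
    ∃ y₁ z₁ : Fin b → F, TSL G2 y₁ z₁ ∧ LL G2 y₁ z₁ g y' z' ≤ LL G2 y z g y' z' ∧
      (∃ x₀ ∈ LL G2 y z g y' z', ∀ v ∈ (WL y₁ z₁ : Submodule F (Idx a b → F)),
        mv x₀ v ∈ gim g (WL y' z' : Submodule F (Idx a b → F))) ∧
      (WL y z : Submodule F (Idx a b → F)) ⊓ gim g (WL y' z') ≤ WL y₁ z₁ ∧
      (WL y₁ z₁ : Submodule F (Idx a b → F)) ≤ WL y z ⊔ gim g (WL y' z') :=
  have hc : Ctx a b G1 G2 := h.toCtx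
  have hgO : g ∈ OV G1 G2 := OmV_le_OV _ _ (h.le_om hg)
  Cfsg.Agent.Lib.Helper11.OTGLeaf.exists_partner_core h hroot hL hL' g hg
    (exists_x0 h hroot h2 hL hL' g hg) (sim_of_kel_mem hc)
    (fun β ν hβ => Cfsg.Agent.Lib.Helper6.OTGLeaf.TSL_of_sim β ν hβ hL')
    (fun α β ν hν hβ c => Cfsg.Agent.Lib.Helper6.OTGLeaf.kel_conj_kB hc α β ν hν hβ hL' c)
    (fun α β => Cfsg.Agent.Lib.Helper6.OTGLeaf.kel_WL α β y' z')
    (WL_isotropic hc hL) (WL_isotropic hc hL') (mem_perpW_gim hc g hgO)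
    (Cfsg.Agent.Lib.Helper6.OTGLeaf.LL_action hc hL hL' g hgO)

theorem LL_le (hroot : ∀ y z : Fin b → F, TSL G2 y z → ∀ c : F, (kB G2 y z c : GL (Idx a b) F) ∈ M)
    {y z y' z' : Fin b → F} (hL : TSL G2 y z) (hL' : TSL G2 y' z') (g : GL (Idx a b) F)
    (hg : g ∈ M) : LL G2 y z g y' z' ≤ M := by
  unfold LL
  rw [Subgroup.closure_le]
  rintro t (⟨c, rfl⟩ | ⟨c, rfl⟩)
  · exact hroot y z hL c
  · exact M.mul_mem (M.mul_mem hg (hroot y' z' hL' c)) (M.inv_mem hg)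

theorem pt_mem_WL_of_span (x : Fin a → F) {y z y₀ : Fin b → F}
    (hy₀ : y₀ ∈ Submodule.span F {y, z}) : pt x y₀ ∈ (WL y z : Submodule F (Idx a b → F)) := by
  rw [Cfsg.Agent.Lib.Helper2.OTGLeaf.WL_eq_AT]
  exact pt_mem_AT x hy₀

open Cfsg.Agent.Lib.Helper2.OTGLeaf in
/-- Theorem C: a good triple with `g` bad has the structure `S(L)`. -/
theorem good_SLs (h : MCtx a b G1 G2 M)
    (hroot : ∀ y z : Fin b → F, TSL G2 y z → ∀ c : F, (kB G2 y z c : GL (Idx a b) F) ∈ M)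
    (h1 : L1' G2 M) (h2 : L2' G2 M) {y z y' z' : Fin b → F} (hL : TSL G2 y z)
    (hL' : TSL G2 y' z') (g : GL (Idx a b) F) (hg : Bad M g) (hgood : Good G2 y z g y' z') :
    SLs G2 y z g y' z' := by
  obtain ⟨x₀, hx₀, hmap⟩ := hgood
  have hc : Ctx a b G1 G2 := h.toCtx
  have hgO : g ∈ OV G1 G2 := OmV_le_OV _ _ (h.le_om hg.1)
  have hLM : LL G2 y z g y' z' ≤ M := LL_le hroot hL hL' g hg.1
  obtain ⟨hKl, b₀, hb₀L, hb₀Y, hb₀neg⟩ := exists_b0 hc hL hL' g hgO x₀ hx₀ hmap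
  have hRts : (WL y z : Submodule F (Idx a b → F)) ≤ perpW G1 G2 (WL y z) := WL_isotropic hc hL
  have hW'ts : gim g (WL y' z' : Submodule F (Idx a b → F)) ≤ perpW G1 G2 (gim g (WL y' z')) := by
    intro w hw
    obtain ⟨u, hu, rfl⟩ := mem_gim.1 hw
    exact (mem_perpW_gim hc g hgO _ u).2 (WL_isotropic hc hL' hu)
  have hKY : (WL y z : Submodule F (Idx a b → F)) ⊓ gim g (WL y' z') ≤
      perpW G1 G2 (WL y z) ⊓ perpW G1 G2 (gim g (WL y' z')) :=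
    fun v hv => ⟨hRts hv.1, hW'ts hv.2⟩
  obtain ⟨p, hp⟩ := CharP.exists F
  have hpC : CharP F p := hp
  have hpF : Fact p.Prime := ⟨(CharP.char_is_prime_or_zero F p).resolve_right
    (CharP.char_ne_zero_of_finite F p)⟩
  have hb₀act := Cfsg.Agent.Lib.Helper6.OTGLeaf.LL_action hc hL hL' g hgO b₀ hb₀L
  have hb₀O : b₀ ∈ OV G1 G2 := OmV_le_OV _ _ (h.le_om (hLM hb₀L))
  have hb₀fixK : ∀ v ∈ (WL y z : Submodule F (Idx a b → F)) ⊓ gim g (WL y' z'), mv b₀ v = v :=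
    fun v hv => hb₀Y v (hKY hv)
  have hb₀negW := dual_neg hc _ _ hRts hW'ts hKl b₀ hb₀O hb₀act.1 hb₀fixK hb₀neg
  obtain ⟨hsq, hb₁neg⟩ := exists_b1 hc p _ _ b₀ hb₀act.1 hb₀fixK hb₀neg hb₀negW
  have hb₁L : b₀ ^ p ∈ LL G2 y z g y' z' := pow_mem hb₀L p
  have hb₁act := Cfsg.Agent.Lib.Helper6.OTGLeaf.LL_action hc hL hL' g hgO (b₀ ^ p) hb₁L
  have hb₁M : b₀ ^ p ∈ M := hLM hb₁L
  have hb₁O : b₀ ^ p ∈ OV G1 G2 := OmV_le_OV _ _ (h.le_om hb₁M)
  have hb₁fixK : ∀ v ∈ (WL y z : Submodule F (Idx a b → F)) ⊓ gim g (WL y' z'),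
      mv (b₀ ^ p) v = v := fun v hv => hb₁act.2 v (hKY hv)
  have hb₁negW := dual_neg hc _ _ hRts hW'ts hKl (b₀ ^ p) hb₁O hb₁act.1 hb₁fixK hb₁neg
  have hb₁stab : ∀ v ∈ (WL y z : Submodule F (Idx a b → F)),
      mv (b₀ ^ p) v ∈ (WL y z : Submodule F (Idx a b → F)) := by
    intro v hv
    have h3 := (hb₁neg v hv).1
    have h4 : mv (b₀ ^ p) v = (mv (b₀ ^ p) v + v) - v := by abel
    rw [h4]
    exact Submodule.sub_mem _ h3 hv
  have hb₁K : b₀ ^ p ∈ KG a b F := h1 y z hL (b₀ ^ p) hb₁M hb₁stab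
  obtain ⟨α, β, hb₁eq, hα, hβ, hαi, hβi⟩ := inv_normalise hc (b₀ ^ p) hb₁K hb₁O hsq
  have hPR : ((WL y z : Submodule F (Idx a b → F)) ⊔ gim g (WL y' z')) ⊓ perpW G1 G2 (WL y z) ≤
      (WL y z : Submodule F (Idx a b → F)) := by
    rintro v ⟨hvP, hvp⟩
    obtain ⟨r, hr, w, hw, rfl⟩ := Submodule.mem_sup.1 hvP
    have hwp : w ∈ perpW G1 G2 (WL y z) := by
      have h5 : w = (r + w) - r := by abel
      rw [h5]
      exact Submodule.sub_mem _ hvp (hRts hr)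
    exact Submodule.add_mem _ hr (hKl ⟨hw, hwp⟩)
  have hα1 := alpha_pm_one hc hL _ hPR α β hα hβ hβi (by rw [← hb₁eq]; exact hb₁stab)
    (by rw [← hb₁eq]; exact hb₁act.1)
  obtain ⟨β', hb₁eq', hβ', hβ'i⟩ : ∃ β' : GL (Fin b) F, b₀ ^ p = kel 1 β' ∧ β' ^ 2 = 1 ∧
      ∀ v v' : Fin b → F, fB G2 ((β' : Matrix (Fin b) (Fin b) F) *ᵥ v)
        ((β' : Matrix (Fin b) (Fin b) F) *ᵥ v') = fB G2 v v' := by
    rcases hα1 with rfl | rfl
    · exact ⟨β, hb₁eq, hβ, hβi⟩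
    · refine ⟨-β, by rw [hb₁eq, Cfsg.Agent.Lib.Helper6.OTGLeaf.kel_neg_one], by rw [neg_sq, hβ], ?_⟩
      intro v v'
      rw [Units.val_neg, Matrix.neg_mulVec, Matrix.neg_mulVec]
      have h6 : ∀ u u' : Fin b → F, fB G2 (-u) (-u') = fB G2 u u' := by
        intro u u'
        have e1 : -u = (-1 : F) • u := by rw [neg_smul, one_smul]
        have e2 : -u' = (-1 : F) • u' := by rw [neg_smul, one_smul]
        rw [e1, e2, fB_smul_left, fB_smul_right]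
        ring
      rw [h6, hβi]
  have hno : ∀ y₀ ∈ Submodule.span F {y, z},
      (β' : Matrix (Fin b) (Fin b) F) *ᵥ y₀ = y₀ → y₀ = 0 := by
    intro y₀ hy₀L hfix
    by_contra hy₀
    apply hg.2
    apply cheap_trick h hroot h1 h2 hL hL' g hg.1 y₀ hy₀ hy₀L
    intro x
    have hxR : pt x y₀ ∈ (WL y z : Submodule F (Idx a b → F)) := pt_mem_WL_of_span x hy₀L
    have h7 := (hb₁neg _ hxR).2
    have h8 : mv (b₀ ^ p) (pt x y₀) = pt x y₀ := by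
      rw [hb₁eq']
      have := kel_mulVec_pt (1 : GL (Fin a) F) β' x y₀
      rw [Units.val_one, Matrix.one_mulVec, hfix] at this
      exact this
    rw [h8] at h7
    have h9 : pt x y₀ = (2 : F)⁻¹ • (pt x y₀ + pt x y₀) := by
      rw [← two_smul F (pt x y₀), smul_smul, inv_mul_cancel₀ hc.two, one_smul]
    rw [h9]
    exact Submodule.smul_mem _ _ h7
  exact SLs_of_b1 hc hL _ β' hβ' hβ'i (by rw [← hb₁eq']; exact hb₁act.1)
    (by rw [← hb₁eq']; exact hb₁fixK) (by rw [← hb₁eq']; exact hb₁neg)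
    (by rw [← hb₁eq']; exact hb₁negW) hno

open Cfsg.Agent.Lib.Helper2.OTGLeaf in
/-- the structure `S(L)` passes from the partner line to `L`. -/
theorem SLs_of_partner (h : Ctx a b G1 G2) {y z y₁ z₁ y' z' : Fin b → F} (hL : TSL G2 y z)
    (hL₁ : TSL G2 y₁ z₁) (g : GL (Idx a b) F)
    (hK : (WL y z : Submodule F (Idx a b → F)) ⊓ gim g (WL y' z') ≤ WL y₁ z₁)
    (hP : (WL y₁ z₁ : Submodule F (Idx a b → F)) ≤ WL y z ⊔ gim g (WL y' z'))
    (hS : SLs G2 y₁ z₁ g y' z') : SLs G2 y z g y' z' := by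
  obtain ⟨hK₁, D, hD, hPD⟩ := hS
  have hK0 : (WL y z : Submodule F (Idx a b → F)) ⊓ gim g (WL y' z') = ⊥ := by
    rw [eq_bot_iff]
    intro v hv
    rw [← hK₁]
    exact ⟨hK hv, hv.2⟩
  refine ⟨hK0, D, hD, ?_⟩
  rw [← hPD]
  symm
  apply Submodule.eq_of_le_of_finrank_eq (sup_le hP le_sup_right)
  have e1 := Submodule.finrank_sup_add_finrank_inf_eq (WL y₁ z₁ : Submodule F (Idx a b → F))
    (gim g (WL y' z'))
  have e2 := Submodule.finrank_sup_add_finrank_inf_eq (WL y z : Submodule F (Idx a b → F))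
    (gim g (WL y' z'))
  rw [hK₁, finrank_bot, add_zero, finrank_WL hL₁] at e1
  rw [hK0, finrank_bot, add_zero, finrank_WL hL] at e2
  omega

/-- `S(L)` for all t.s. lines `L`, by strong induction on `|𝓛(L, L', g)|`. -/
theorem all_SLs (h : MCtx a b G1 G2 M)
    (hroot : ∀ y z : Fin b → F, TSL G2 y z → ∀ c : F, (kB G2 y z c : GL (Idx a b) F) ∈ M)
    (h1 : L1' G2 M) (h2 : L2' G2 M) {y' z' : Fin b → F} (hL' : TSL G2 y' z')
    (g : GL (Idx a b) F) (hg : Bad M g) :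
    ∀ y z : Fin b → F, TSL G2 y z → SLs G2 y z g y' z' := by
  have key : ∀ n : ℕ, ∀ y z : Fin b → F, TSL G2 y z →
      Nat.card (LL G2 y z g y' z') = n → SLs G2 y z g y' z' := by
    intro n
    induction n using Nat.strong_induction_on with
    | _ n ih =>
      intro y z hL hn
      obtain ⟨y₁, z₁, hL₁, hle, ⟨x₀, hx₀, hmap⟩, hK, hP⟩ :=
        exists_partner h hroot h2 hL hL' g hg.1
      have hS₁ : SLs G2 y₁ z₁ g y' z' := by
        by_cases hcard : Nat.card (LL G2 y z g y' z') ≤ Nat.card (LL G2 y₁ z₁ g y' z')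
        · have heq := Subgroup.eq_of_le_of_card_ge hle hcard
          exact good_SLs h hroot h1 h2 hL₁ hL' g hg ⟨x₀, by rw [heq]; exact hx₀, hmap⟩
        · exact ih _ (by omega) y₁ z₁ hL₁ rfl
      exact SLs_of_partner h.toCtx hL hL₁ g hK hP hS₁
  intro y z hL
  exact key _ y z hL rfl

/-- (G0) there is a t.s. line. -/
theorem exists_TSL (h : Ctx a b G1 G2) : ∃ y z : Fin b → F, TSL G2 y z := by
  have hb := h.hb
  obtain ⟨y, hy, hyy, -⟩ := Cfsg.Agent.Lib.Helper12.OTGLeaf.exists_sing_not_mem h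
    (⊥ : Submodule F (Fin b → F)) (by
    intro h0
    have h1 : finrank F (⊥ : Submodule F (Fin b → F)) = finrank F (⊤ : Submodule F (Fin b → F)) := by
      rw [h0]
    rw [finrank_bot, finrank_top, Module.finrank_fin_fun] at h1
    omega)
  obtain ⟨z, hz⟩ := Cfsg.Agent.Lib.Helper12.OTGLeaf.exists_TSL_of_sing h y hy hyy
  exact ⟨y, z, hz⟩

/-- PART (GA'): the global theorem. -/
theorem globalO (h : MCtx a b G1 G2 M)
    (hroot : ∀ y z : Fin b → F, TSL G2 y z → ∀ c : F, (kB G2 y z c : GL (Idx a b) F) ∈ M)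
    (h1 : L1' G2 M) (h2 : L2' G2 M) : M ≤ KG a b F := by
  intro g hg
  by_contra hgK
  obtain ⟨y', z', hL'⟩ := exists_TSL h.toCtx
  exact Cfsg.Agent.Lib.Helper12.OTGLeaf.endgame h.toCtx hL' g (OmV_le_OV _ _ (h.le_om hg))
    (all_SLs h hroot h1 h2 hL' g ⟨hg, hgK⟩)

end Cfsg.Agent.Lib.Helper2.OTGMain
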