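import Mathlib
import Cfsg.Agent.Lib.Helper11.Om2Rel

/-! helper2: S2146 (helper11's OM2 market), step (I): the lemmas R4 - R7 about the relation `Rel` (twin of the far end of leaf IR). -/

set_option autoImplicit false

open Cfsg.Agent.Lib.Helper11.Om2 MulAction

namespace Cfsg.Agent.Lib.Helper2.Om2Leaf

variable {F V G : Type*} [Field F] [AddCommGroup V] [Module F V] [Group G] [DistribMulAction G V]
  (S : Setting F V G) {H : Subgroup G} {x y : V}

/-- `sg x (c • y)` is `1` or `sg x y` -/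
theorem sg_fsmul {x y : V} (hx : S.Q x = 0) (c : F) :
    (c = 0 ∧ S.sg x (c • y) = 1) ∨ (c = 1 ∧ S.sg x (c • y) = S.sg x y) := by
  rcases S.h01 c with h | h
  · left; refine ⟨h, ?_⟩; rw [h, zero_smul, S.sg_zero_right hx]
  · right; refine ⟨h, ?_⟩; rw [h, one_smul]

/-- R7 -/
theorem exists_lift (D : LineData S H x y) {u b : V} (hu : S.Q u = 0) (hxu : S.B x u = 0)
    (hyu : S.B y u = 0) (hxb : S.B x b = 0) (hyb : S.B y b = 0) (hub : S.B u b = 0) :
    ∃ g ∈ H, g • x = x ∧ (g • y = y ∨ g • y = x + y) ∧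
      ∀ v, S.B x v = 0 → S.B y v = 0 → (g • v = S.sg u b • v ∨ g • v = S.sg u b • v + x) := by
  have hux : S.B u x = 0 := by rw [S.B_symm]; exact hxu
  have huy : S.B u y = 0 := by rw [S.B_symm]; exact hyu
  have hbx : S.B b x = 0 := by rw [S.B_symm]; exact hxb
  have hby : S.B b y = 0 := by rw [S.B_symm]; exact hyb
  have hfx : S.sg u b • x = x := S.sg_smul_of_perp_perp hu hub hux hbx
  have hfy : S.sg u b • y = y := S.sg_smul_of_perp_perp hu hub huy hby
  obtain ⟨c, hxc, hc⟩ := (D.hall x D.hx0 D.hx).2.2.2 (S.sg u b) hfx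
  refine ⟨S.sg u b * S.sg x c, hc, ?_, ?_, ?_⟩
  · rw [mul_smul, S.sg_smul_self D.hx hxc, hfx]
  · rw [mul_smul, S.sg_smul_of_perp D.hx hxc D.hxy, smul_add, S.smul_fsmul, hfx, hfy]
    rcases S.h01 (S.B y c) with h | h
    · left; rw [h, zero_smul, add_zero]
    · right; rw [h, one_smul, add_comm]
  · intro v hxv _
    rw [mul_smul, S.sg_smul_of_perp D.hx hxc hxv, smul_add, S.smul_fsmul, hfx]
    rcases S.h01 (S.B v c) with h | h
    · left; rw [h, zero_smul, add_zero]
    · right; rw [h, one_smul]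

/-- R6a -/
theorem rel_smul (D : LineData S H x y) {g : G} (hg : g ∈ H) (hgx : g • x = x) (hgy : g • y = y)
    {w a : V} (h : Rel S H x y w a) : Rel S H x y (g • w) (g • a) := by
  obtain ⟨hxw, hyw, hxa, hya, hH⟩ := h
  have e1 : S.B x (g • w) = 0 := by
    have := S.iso g x w; rw [hgx] at this; rw [this, hxw]
  have e2 : S.B y (g • w) = 0 := by
    have := S.iso g y w; rw [hgy] at this; rw [this, hyw]
  have e3 : S.B x (g • a) = 0 := by
    have := S.iso g x a; rw [hgx] at this; rw [this, hxa]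
  have e4 : S.B y (g • a) = 0 := by
    have := S.iso g y a; rw [hgy] at this; rw [this, hya]
  refine ⟨e1, e2, e3, e4, ?_⟩
  have h1 := S.conj_sg g D.hy hyw
  have h2 := S.conj_sg g D.hx hxa
  rw [hgy] at h1
  rw [hgx] at h2
  have h3 : S.sg y (g • w) * S.sg x (g • a) = g * (S.sg y w * S.sg x a) * g⁻¹ := by
    rw [← h1, ← h2]; group
  rw [h3]
  exact H.mul_mem (H.mul_mem hg hH) (H.inv_mem hg)

/-- R6b -/
theorem rel_smul' (D : LineData S H x y) {g : G} (hg : g ∈ H) (hgx : g • x = x)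
    (hgy : g • y = x + y) {w a : V} (h : Rel S H x y w a) :
    Rel S H x y (g • w) (g • w + g • a + S.Q w • y) := by
  obtain ⟨hxw, hyw, hxa, hya, hH⟩ := h
  have hyx : S.B y x = 0 := by rw [S.B_symm]; exact D.hxy
  have e1 : S.B x (g • w) = 0 := by
    have := S.iso g x w; rw [hgx] at this; rw [this, hxw]
  have e2' : S.B (x + y) (g • w) = 0 := by
    have := S.iso g y w; rw [hgy] at this; rw [this, hyw]
  have e2 : S.B y (g • w) = 0 := by
    rw [S.Badd_left, e1, zero_add] at e2'; exact e2'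
  have e3 : S.B x (g • a) = 0 := by
    have := S.iso g x a; rw [hgx] at this; rw [this, hxa]
  have e4' : S.B (x + y) (g • a) = 0 := by
    have := S.iso g y a; rw [hgy] at this; rw [this, hya]
  have e4 : S.B y (g • a) = 0 := by
    rw [S.Badd_left, e3, zero_add] at e4'; exact e4'
  have e5 : S.B x (g • w + g • a + S.Q w • y) = 0 := by
    rw [S.Badd_right, S.Badd_right, e1, e3, S.Bsmul_right, D.hxy]; simp
  have e6 : S.B y (g • w + g • a + S.Q w • y) = 0 := by
    rw [S.Badd_right, S.Badd_right, e2, e4, S.Bsmul_right, S.alt]; simp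
  refine ⟨e1, e2, e5, e6, ?_⟩
  -- the conjugate of the element of `H`
  have h1 := S.conj_sg g D.hy hyw
  have h2 := S.conj_sg g D.hx hxa
  rw [hgy] at h1
  rw [hgx] at h2
  have h3 : S.sg (x + y) (g • w) * S.sg x (g • a) = g * (S.sg y w * S.sg x a) * g⁻¹ := by
    rw [← h1, ← h2]; group
  have hK : S.sg (x + y) (g • w) * S.sg x (g • a) ∈ H := by
    rw [h3]; exact H.mul_mem (H.mul_mem hg hH) (H.inv_mem hg)
  have hQ : S.Q (g • w) = S.Q w := S.isoQ g w
  have hcomm : S.sg x (g • w) * S.sg y (g • w) = S.sg y (g • w) * S.sg x (g • w) :=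
    S.sg_mul_sg_of_perp D.hx D.hy D.hxy e1 e2 e1 e2 (S.alt _)
  have e7 : S.B x (g • w + g • a) = 0 := by rw [S.Badd_right, e1, e3, add_zero]
  rcases S.h01 (S.Q w) with hq | hq
  · have hsplit := S.sg_add_left_of_sing D.hx D.hy D.hxy e1 e2 (by rw [hQ, hq])
    rw [hq, zero_smul, add_zero, ← S.sg_mul D.hx e1 e3, ← mul_assoc, ← hcomm, ← hsplit]
    exact hK
  · have hsplit := S.sg_add_left_of_nonsing D.hx D.hy D.hxy e1 e2 (by rw [hQ, hq])
    rw [hq, one_smul, ← S.sg_mul D.hx e7 D.hxy, ← S.sg_mul D.hx e1 e3]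
    have : S.sg y (g • w) * (S.sg x (g • w) * S.sg x (g • a) * S.sg x y) =
        S.sg (x + y) (g • w) * S.sg x (g • a) := by
      calc S.sg y (g • w) * (S.sg x (g • w) * S.sg x (g • a) * S.sg x y)
          = S.sg y (g • w) * S.sg x (g • w) * (S.sg x (g • a) * S.sg x y) := by group
        _ = S.sg y (g • w) * S.sg x (g • w) * (S.sg x y * S.sg x (g • a)) := by
            rw [S.sg_comm D.hx e3 D.hxy]
        _ = S.sg x (g • w) * S.sg y (g • w) * S.sg x y * S.sg x (g • a) := by
            rw [hcomm]; group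
        _ = S.sg (x + y) (g • w) * S.sg x (g • a) := by rw [hsplit]
    rw [this]
    exact hK

/-- R5a -/
theorem rel_ker (D : LineData S H x y) {w a : V} (h : Rel S H x y w a) (ha : OnLine x y a) :
    OnLine x y w := by
  obtain ⟨hxw, hyw, hxa, hya, hH⟩ := h
  have hyx : S.B y x = 0 := by rw [S.B_symm]; exact D.hxy
  have hAy := (D.hall y D.hy0 D.hy).2.2.1
  have hsxy : S.sg x y = S.sg y x := S.sg_symm D.hx D.hy D.hxy
  -- `sg x a` is `1` or `sg y x`
  have hcase : S.sg x a = 1 ∨ S.sg x a = S.sg y x := by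
    rcases ha with rfl | rfl | rfl | rfl
    · left; exact S.sg_zero_right D.hx
    · left; exact S.sg_self D.hx
    · right; exact hsxy
    · right; rw [add_comm, S.sg_add_self D.hx D.hxy, hsxy]
  rcases hcase with h1 | h1
  · rw [h1, mul_one] at hH
    rcases hAy w hyw hH with h2 | h2
    · left; exact h2
    · right; right; left; exact h2
  · rw [h1, S.sg_mul D.hy hyw hyx] at hH
    have hyw' : S.B y (w + x) = 0 := by rw [S.Badd_right, hyw, hyx, add_zero]
    rcases hAy (w + x) hyw' hH with h2 | h2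
    · right; left; exact S.vadd_eq_zero_iff.mp h2
    · right; right; right
      have : w + x + x = y + x := by rw [h2]
      rw [S.vadd_cancel_right] at this
      rw [this, add_comm]

/-- R5b -/
theorem rel_ker' (D : LineData S H x y) {w a : V} (h : Rel S H x y w a) (ha : OnLine x y (a + w)) :
    OnLine x y w := by
  obtain ⟨hxw, hyw, hxa, hya, hH⟩ := h
  have hyx : S.B y x = 0 := by rw [S.B_symm]; exact D.hxy
  have hs0 : x + y ≠ 0 := by
    intro h0; exact D.hne (S.vadd_eq_zero_iff.mp h0)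
  have hsQ : S.Q (x + y) = 0 := by rw [S.Q_add, D.hx, D.hy, D.hxy]; simp
  have hAs := (D.hall (x + y) hs0 hsQ).2.2.1
  have hsw : S.B (x + y) w = 0 := by rw [S.Badd_left, hxw, hyw, add_zero]
  have hsy : S.B (x + y) y = 0 := by rw [S.Badd_left, D.hxy, S.alt, add_zero]
  have hcomm : S.sg x w * S.sg y w = S.sg y w * S.sg x w :=
    S.sg_mul_sg_of_perp D.hx D.hy D.hxy hxw hyw hxw hyw (S.alt _)
  -- `sg (x + y) y = sg x y`
  have hsy' : S.sg (x + y) y = S.sg x y := by
    rw [S.sg_add_left_of_sing D.hx D.hy D.hxy D.hxy (S.alt y) D.hy, S.sg_self D.hy, mul_one]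
  -- `a = w + ℓ` with `sg x ℓ ∈ {1, sg x y}`
  have ha' : a = w + (a + w) := by
    rw [add_comm a w, S.vadd_cancel_left]
  have hxl : S.B x (a + w) = 0 := by rw [S.Badd_right, hxa, hxw, add_zero]
  have hcase : S.sg x (a + w) = 1 ∨ S.sg x (a + w) = S.sg x y := by
    rcases ha with h0 | h0 | h0 | h0
    · left; rw [h0]; exact S.sg_zero_right D.hx
    · left; rw [h0]; exact S.sg_self D.hx
    · right; rw [h0]
    · right; rw [h0, add_comm, S.sg_add_self D.hx D.hxy]
  have hxa' : S.sg x a = S.sg x w * S.sg x (a + w) := by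
    rw [S.sg_mul D.hx hxw hxl, ← ha']
  -- in all cases `sg (x + y) (w + c • y) ∈ H` for some `c`
  have key : ∃ c : F, S.sg (x + y) (w + c • y) ∈ H := by
    rcases S.h01 (S.Q w) with hq | hq
    · have hsplit := S.sg_add_left_of_sing D.hx D.hy D.hxy hxw hyw hq
      rcases hcase with h1 | h1
      · refine ⟨0, ?_⟩
        rw [zero_smul, add_zero, hsplit, hcomm]
        rw [hxa', h1, mul_one] at hH
        exact hH
      · refine ⟨1, ?_⟩
        rw [one_smul, ← S.sg_mul hsQ hsw hsy, hsy', hsplit, hcomm]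
        rw [hxa', h1, ← mul_assoc] at hH
        exact hH
    · have hsplit := S.sg_add_left_of_nonsing D.hx D.hy D.hxy hxw hyw hq
      rcases hcase with h1 | h1
      · refine ⟨1, ?_⟩
        rw [one_smul, ← S.sg_mul hsQ hsw hsy, hsy', hsplit, hcomm, mul_assoc,
          S.sg_mul_self D.hx D.hxy, mul_one]
        rw [hxa', h1, mul_one] at hH
        exact hH
      · refine ⟨0, ?_⟩
        rw [zero_smul, add_zero, hsplit, hcomm]
        rw [hxa', h1, ← mul_assoc] at hH
        exact hH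
  obtain ⟨c, hc⟩ := key
  have hswc : S.B (x + y) (w + c • y) = 0 := by
    rw [S.Badd_right, hsw, S.Bsmul_right, hsy]; simp
  rcases hAs (w + c • y) hswc hc with h2 | h2
  · -- `w = c • y`
    have hw : w = c • y := S.vadd_eq_zero_iff.mp h2
    rcases S.h01 c with h3 | h3
    · left; rw [hw, h3, zero_smul]
    · right; right; left; rw [hw, h3, one_smul]
  · -- `w = x + y + c • y`
    have hw : w = x + y + c • y := by
      have : w + c • y + c • y = x + y + c • y := by rw [h2]
      rwa [S.vadd_cancel_right] at this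
    rcases S.h01 c with h3 | h3
    · right; right; right; rw [hw, h3, zero_smul, add_zero]
    · right; left; rw [hw, h3, one_smul, S.vadd_cancel_right]

/-- R4 -/
theorem rel_add (D : LineData S H x y) {w a w' a' : V} (h : Rel S H x y w a)
    (h' : Rel S H x y w' a') : Rel S H x y (w + w') (a + a' + S.B a w' • y) := by
  obtain ⟨hxw, hyw, hxa, hya, hH⟩ := h
  obtain ⟨hxw', hyw', hxa', hya', hH'⟩ := h'
  have e1 : S.B x (w + w') = 0 := by rw [S.Badd_right, hxw, hxw', add_zero]
  have e2 : S.B y (w + w') = 0 := by rw [S.Badd_right, hyw, hyw', add_zero]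
  have e3 : S.B x (a + a') = 0 := by rw [S.Badd_right, hxa, hxa', add_zero]
  have e5 : S.B x (a + a' + S.B a w' • y) = 0 := by
    rw [S.Badd_right, e3, S.Bsmul_right, D.hxy]; simp
  have e6 : S.B y (a + a' + S.B a w' • y) = 0 := by
    rw [S.Badd_right, S.Badd_right, hya, hya', S.Bsmul_right, S.alt]; simp
  refine ⟨e1, e2, e5, e6, ?_⟩
  have hprod : S.sg y w * S.sg x a * (S.sg y w' * S.sg x a') ∈ H := H.mul_mem hH hH'
  rcases S.h01 (S.B a w') with hb | hb
  · have hc := S.sg_mul_sg_of_perp D.hx D.hy D.hxy hxa hya hxw' hyw' hb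
    rw [hb, zero_smul, add_zero, ← S.sg_mul D.hy hyw hyw', ← S.sg_mul D.hx hxa hxa']
    have : S.sg y w * S.sg y w' * (S.sg x a * S.sg x a') =
        S.sg y w * S.sg x a * (S.sg y w' * S.sg x a') := by
      rw [mul_assoc, mul_assoc, ← mul_assoc (S.sg y w') , ← hc]; group
    rw [this]; exact hprod
  · have hc := S.sg_mul_sg_of_not_perp D.hx D.hy D.hxy hxa hya hxw' hyw' hb
    rw [hb, one_smul, ← S.sg_mul D.hy hyw hyw', ← S.sg_mul D.hx e3 D.hxy, ← S.sg_mul D.hx hxa hxa',
      mul_assoc (S.sg x a), S.sg_comm D.hx hxa' D.hxy]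
    have : S.sg y w * S.sg y w' * (S.sg x a * (S.sg x y * S.sg x a')) =
        S.sg y w * S.sg x a * (S.sg y w' * S.sg x a') := by
      have h1 : S.sg y w' * S.sg x a * S.sg x y = S.sg x a * S.sg y w' := hc.symm
      calc S.sg y w * S.sg y w' * (S.sg x a * (S.sg x y * S.sg x a'))
          = S.sg y w * (S.sg y w' * S.sg x a * S.sg x y) * S.sg x a' := by group
        _ = S.sg y w * (S.sg x a * S.sg y w') * S.sg x a' := by rw [h1]
        _ = S.sg y w * S.sg x a * (S.sg y w' * S.sg x a') := by group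
    rw [this]; exact hprod

end Cfsg.Agent.Lib.Helper2.Om2Leaf
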