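import Cfsg.Agent.Lib.Helper2.Om2IRA
import Cfsg.Agent.Lib.Helper2.Om2IRB

/-! helper2: S2146 (helper11's OM2 market): the whole leaf IR (R0 - R7) in the planner's vocabulary, namespace
`Cfsg.Agent.Lib.Helper2.Om2Leaf`: `rel_zero rel_x rel_y rel_exists rel_unique rel_perp` (module `Om2IRA`, over helper5's `Om2IR`) and
`rel_add rel_ker rel_ker' rel_smul rel_smul' exists_lift` (module `Om2IRB`, direct). -/
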