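import Mathlib
import Cfsg.Agent.Lib.Helper11.Om2Rel
import Cfsg.Agent.Lib.Helper5.Om2IR

/-! helper2: S2146 (helper11's OM2 market), step (I): R0 - R3 in the planner's vocabulary (`LineData` / `Rel` / `OnLine` of
`Helper11.Om2Rel`, statements of `notes/S2146_IR_leaves.lean`), transported from helper5's landed `Helper5.Om2IR`
(`LineA` / `InL` / `Rel`).  Together with `Helper2.Om2IRB` (R4 - R7) this is the whole leaf IR in the planner's form. -/

set_option autoImplicit false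

open Cfsg.Agent.Lib.Helper11.Om2 MulAction

namespace Cfsg.Agent.Lib.Helper2.Om2Leaf

variable {F V G : Type*} [Field F] [AddCommGroup V] [Module F V] [Group G] [DistribMulAction G V]
  (S : Setting F V G) {H : Subgroup G} {x y : V}

/-- the planner's hypotheses give helper5's -/
theorem lineA_of_lineData (D : LineData S H x y) : Cfsg.Agent.Lib.Helper5.Om2Leaf.LineA S H x y := by
  have hs0 : x + y ≠ 0 := by
    intro h0; exact D.hne (S.vadd_eq_zero_iff.mp h0)
  have hsQ : S.Q (x + y) = 0 := by rw [S.Q_add, D.hx, D.hy, D.hxy]; simp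
  exact ⟨D.hxy, D.hne, D.hall x D.hx0 D.hx, D.hall y D.hy0 D.hy, D.hall (x + y) hs0 hsQ⟩

theorem rel_iff {w a : V} :
    Rel S H x y w a ↔ Cfsg.Agent.Lib.Helper5.Om2Leaf.Rel S H x y w a := by
  constructor
  · rintro ⟨h1, h2, h3, h4, h5⟩
    exact ⟨⟨h1, h2⟩, ⟨h3, h4⟩, h5⟩
  · rintro ⟨⟨h1, h2⟩, ⟨h3, h4⟩, h5⟩
    exact ⟨h1, h2, h3, h4, h5⟩

/-- R0 -/
theorem rel_zero (D : LineData S H x y) : Rel S H x y 0 0 := by
  refine ⟨S.Bzero_right x, S.Bzero_right y, S.Bzero_right x, S.Bzero_right y, ?_⟩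
  rw [S.sg_zero_right D.hy, S.sg_zero_right D.hx, one_mul]
  exact H.one_mem

theorem rel_x (D : LineData S H x y) : Rel S H x y x y := by
  have hyx : S.B y x = 0 := by rw [S.B_symm]; exact D.hxy
  refine ⟨S.alt x, hyx, D.hxy, S.alt y, ?_⟩
  rw [← S.sg_symm D.hx D.hy D.hxy, S.sg_mul_self D.hx D.hxy]
  exact H.one_mem

theorem rel_y (D : LineData S H x y) : Rel S H x y y 0 := by
  refine ⟨D.hxy, S.alt y, S.Bzero_right x, S.Bzero_right y, ?_⟩
  rw [S.sg_self D.hy, S.sg_zero_right D.hx, one_mul]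
  exact H.one_mem

/-- R1 -/
theorem rel_exists (D : LineData S H x y) {w : V} (hxw : S.B x w = 0) (hyw : S.B y w = 0) :
    ∃ a, Rel S H x y w a := by
  obtain ⟨a, ha⟩ := Cfsg.Agent.Lib.Helper5.Om2Leaf.R1 S (lineA_of_lineData S D) ⟨hxw, hyw⟩
  exact ⟨a, (rel_iff S).mpr ha⟩

/-- R2 -/
theorem rel_unique (D : LineData S H x y) {w a a' : V} (h : Rel S H x y w a)
    (h' : Rel S H x y w a') : a' = a ∨ a' = a + x :=
  Cfsg.Agent.Lib.Helper5.Om2Leaf.R2 S (lineA_of_lineData S D) ((rel_iff S).mp h) ((rel_iff S).mp h')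

/-- R3 -/
theorem rel_perp (D : LineData S H x y) {w a : V} (h : Rel S H x y w a) : S.B a w = 0 :=
  Cfsg.Agent.Lib.Helper5.Om2Leaf.R3 S (lineA_of_lineData S D) ((rel_iff S).mp h)

end Cfsg.Agent.Lib.Helper2.Om2Leaf
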