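import Mathlib
import Cfsg.Prelude.Def_ClassicalGeometry
import Cfsg.Prelude.Def_GeometricClasses
import Cfsg.Agent.Lib.Helper20.Om7S.Wrap
import Cfsg.Agent.Lib.Helper20.Om7S.KDefs
import Cfsg.Agent.Lib.Helper20.Om7S.EDefs
import Cfsg.Agent.Lib.Helper22.Om7SL0cd

set_option linter.dupNamespace false
set_option linter.ambiguousOpen false

namespace Cfsg.Agent.Lib.Helper20.Om7S

/-!
Om7E leaf E2a (S5825 conjunct (8), characteristic 2 subfield groups; planner helper20): a vector of `l'^⊥` outside the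
rational totally singular line `l'` is not orthogonal to some rational singular vector of `l'^⊥`.
-/

set_option autoImplicit false
set_option linter.unusedSectionVars false
set_option linter.unusedVariables false

open Cfsg Matrix QuadraticMap Module Cfsg.Agent.Lib.Helper25.Siegel Cfsg.Agent.Lib.Helper19.OSub
open _root_.Cfsg _root_.Cfsg.Agent.Lib.Helper25.Siegel
open Cfsg.Agent.Lib.Helper26.OSubLeaf
open S7
open Cfsg.Agent.Lib.Helper22.Om7SLeaf

namespace Cfsg.Agent.Lib.Helper2.Om7ELeaf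

variable {ι : Type} [Fintype ι] [DecidableEq ι] {F : Type*} [Field F] [Fintype F]
  {F₀ : Subfield F} {Q : QuadraticForm F (ι → F)} {M : Subgroup (GL ι F)}

/-- rational duals of a rational totally singular pair -/
theorem exists_rat_duals (h : QCtx F₀ Q) {u' v' : ι → F} (hu' : RatV F₀ u') (hv' : RatV F₀ v')
    (hts : TS Q u' v') :
    ∃ fu fv : ι → F, RatV F₀ fu ∧ RatV F₀ fv ∧ polar Q u' fu = 1 ∧ polar Q v' fu = 0 ∧
      polar Q u' fv = 0 ∧ polar Q v' fv = 1 := by
  obtain ⟨fr⟩ := S7.exists_frame h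
  have h01 : (0 : Fin 3) ≠ 1 := by decide
  have hli : LinearIndependent F ![fr.e 0, fr.e 1] := by
    rw [LinearIndependent.pair_iff]
    intro s t hst
    have h1 := congrArg (fun z => polar Q z (fr.f 0)) hst
    have h2 := congrArg (fun z => polar Q z (fr.f 1)) hst
    simp only [polar_add_left, polar_smul_left, fr.ef, smul_eq_mul, if_true] at h1 h2
    simp at h1 h2
    exact ⟨h1, h2⟩
  obtain ⟨g, hg, hrat, hrat', ⟨s, hs, hs0, hgu⟩, s', hs', hs'0, hgv⟩ :=
    S7.t2 h hu' hv' (fr.rat_e 0) (fr.rat_e 1) hts.Qu hts.Qv (fr.Qe 0) (fr.Qe 1) hts.uv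
      (fr.ee 0 1) hts.li hli
  have hgI : g ∈ Cfsg.isometryGroup F ⇑Q := omegaGL_le_iso (Subgroup.mem_inf.mp hg).2
  have key : ∀ x z : ι → F, polar Q x (mv g⁻¹ z) = polar Q (mv g x) z := by
    intro x z
    rw [← iso_polar hgI x (mv g⁻¹ z), mv_mv_inv]
  have hsinv : s⁻¹ ∈ F₀ := F₀.inv_mem hs
  have hs'inv : s'⁻¹ ∈ F₀ := F₀.inv_mem hs'
  refine ⟨s⁻¹ • mv g⁻¹ (fr.f 0), s'⁻¹ • mv g⁻¹ (fr.f 1),
    ratV_smul hsinv (hrat' _ (fr.rat_f 0)), ratV_smul hs'inv (hrat' _ (fr.rat_f 1)), ?_, ?_, ?_, ?_⟩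
  · rw [polar_smul_right, key, hgu, polar_smul_left, fr.ef, if_pos rfl, smul_eq_mul, smul_eq_mul,
      mul_one, inv_mul_cancel₀ hs0]
  · rw [polar_smul_right, key, hgv, polar_smul_left, fr.ef, if_neg (Ne.symm h01), smul_eq_mul,
      smul_eq_mul, mul_zero, mul_zero]
  · rw [polar_smul_right, key, hgu, polar_smul_left, fr.ef, if_neg h01, smul_eq_mul,
      smul_eq_mul, mul_zero, mul_zero]
  · rw [polar_smul_right, key, hgv, polar_smul_left, fr.ef, if_pos rfl, smul_eq_mul, smul_eq_mul,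
      mul_one, inv_mul_cancel₀ hs'0]

/-- E2a -/
theorem exists_sing_perp_ne (h : QCtx F₀ Q) {u' v' w : ι → F} (hu' : RatV F₀ u') (hv' : RatV F₀ v')
    (hts : TS Q u' v') (hwu : polar Q u' w = 0) (hwv : polar Q v' w = 0) (hw : ¬ InSpan u' v' w) :
    ∃ c' : ι → F, RatV F₀ c' ∧ Q c' = 0 ∧ polar Q u' c' = 0 ∧ polar Q v' c' = 0 ∧
      polar Q c' w ≠ 0 := by
  by_contra hcon
  push Not at hcon
  -- every rational singular vector orthogonal to the line is orthogonal to `w`
  obtain ⟨d, d', hdd, hud, hud', hvd, hvd'⟩ := exists_perp_pair h hu' hv'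
  have hd'd : polar Q d' d = 1 := by rw [polar_comm]; exact hdd.dd'
  -- every rational vector orthogonal to the line is orthogonal to `w`
  have hperp : ∀ x, RatV F₀ x → polar Q u' x = 0 → polar Q v' x = 0 → polar Q x w = 0 := by
    intro x hx hux hvx
    obtain ⟨s, c₂, c₃, hQs, hus, hxeq, hrat⟩ :=
      Cfsg.Agent.Lib.Helper20.OSubLeaf.exists_sing_decomp (F₀ := F₀) (e₀ := u') hdd.Qd hdd.Qd'
        hdd.dd' hud hud' hux
    obtain ⟨hsr, hc₂, hc₃⟩ := hrat h hdd.rat hdd.rat' hx
    have hseq : s = x - c₂ • d' - c₃ • d := by rw [hxeq]; module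
    have hvs : polar Q v' s = 0 := by
      rw [hseq, polar_sub_right, polar_sub_right, polar_smul_right, polar_smul_right, hvx, hvd,
        hvd', smul_zero, smul_zero, sub_zero, sub_zero]
    rw [hxeq, polar_add_left, polar_add_left, polar_smul_left, polar_smul_left,
      hcon s hsr hQs hus hvs, hcon d' hdd.rat' hdd.Qd' hud' hvd', hcon d hdd.rat hdd.Qd hud hvd,
      smul_zero, smul_zero, add_zero, add_zero]
  obtain ⟨fu, fv, hfu, hfv, h1, h2, h3, h4⟩ := exists_rat_duals h hu' hv' hts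
  apply hw
  refine ⟨polar Q fu w, polar Q fv w, ?_⟩
  have hz : ∀ y, polar Q (w - (polar Q fu w • u' + polar Q fv w • v')) y = 0 := by
    apply polar_zero_of_rat (F₀ := F₀)
    intro x hx
    have hx' : RatV F₀ (x - polar Q u' x • fu - polar Q v' x • fv) :=
      ratV_sub (ratV_sub hx (ratV_smul (ratV_polar h hu' hx) hfu))
        (ratV_smul (ratV_polar h hv' hx) hfv)
    have := hperp _ hx' (by
      rw [polar_sub_right, polar_sub_right, polar_smul_right, polar_smul_right, h1, h3,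
        smul_eq_mul, smul_eq_mul]; ring) (by
      rw [polar_sub_right, polar_sub_right, polar_smul_right, polar_smul_right, h2, h4,
        smul_eq_mul, smul_eq_mul]; ring)
    rw [polar_sub_left, polar_sub_left, polar_smul_left, polar_smul_left, smul_eq_mul,
      smul_eq_mul] at this
    rw [polar_sub_left, polar_add_left, polar_smul_left, polar_smul_left, smul_eq_mul,
      smul_eq_mul, polar_comm Q w x]
    linear_combination this
  have := h.nd.1 _ hz
  exact sub_eq_zero.mp this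

end Cfsg.Agent.Lib.Helper2.Om7ELeaf

end Cfsg.Agent.Lib.Helper20.Om7S
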