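import Cfsg.Agent.Lib.Helper5.NDGlue
import Cfsg.Agent.Lib.Helper5.NDMinus

set_option autoImplicit false
open Cfsg

/-!
S5825 (`Ω_8^-(q)`, geometric types), conjuncts (3) and (4): the stabiliser of a nondegenerate 2-space of `F^8` is maximal in
`Ω(Q)` (it is the stabiliser of the 6-dimensional complement, to which helper5's `NDMax.isMaximalIn_nd` applies).
-/

namespace Cfsg.Agent.Lib.Helper2.Om8m

open Module QuadraticMap

variable {F : Type*} [Field F] [Fintype F]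

/-- nondegenerate 2-spaces of an 8-dimensional space: the complement has dimension 6 -/
theorem nd2_max (Q : QuadraticForm F (Fin 8 → F)) (hQ : (polarBilin Q).Nondegenerate)
    {W : Submodule F (Fin 8 → F)} (hdim : Module.finrank F W = 2)
    (hW : Cfsg.Geo.IsNondegenerateOn (QuadraticMap.polar ⇑Q) W)
    (hexc : ¬ (Fintype.card F ≤ 3 ∧ ∃ e ∈ W, e ≠ 0 ∧ Q e = 0)) :
    Cfsg.Geo.IsMaximalIn (Cfsg.Geo.omegaGL ⇑Q)
      (Cfsg.Geo.subspaceStabilizer W ⊓ Cfsg.Geo.omegaGL ⇑Q) := by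
  have hcard : Fintype.card (Fin 8) = 8 := Fintype.card_fin 8
  have hWnd := Cfsg.Agent.Lib.Helper5.NDMax.ndOn_of_isNondegenerateOn Q hW
  have hfr := Cfsg.Agent.Lib.Helper25.MaxTS.finrank_perp hQ W
  rw [Module.finrank_fintype_fun_eq_card, hcard] at hfr
  have hW0 : W ≠ ⊥ := by
    intro h
    rw [h, finrank_bot] at hdim
    omega
  have h := Cfsg.Agent.Lib.Helper5.NDMax.isMaximalIn_nd Q hQ (by rw [hcard]; omega)
    (W := Cfsg.Agent.Lib.Helper25.MaxTS.perp Q W) (W' := W)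
    (fun x hx y hy => by
      rw [polar_comm]; exact Cfsg.Agent.Lib.Helper5.NDMax.perp_orth Q W y hy x hx)
    (by rw [inf_comm]; exact Cfsg.Agent.Lib.Helper5.NDMax.perp_disj Q hWnd)
    (by rw [sup_comm]; exact Cfsg.Agent.Lib.Helper5.NDMax.perp_sup Q hQ hWnd)
    (by omega) hW0
    (by
      rintro ⟨hq, -, e, he, he0, hQe⟩
      exact hexc ⟨hq, e, he, he0, hQe⟩)
    (fun g _ => Cfsg.Agent.Lib.Helper5.NDMax.not_map_into_of_finrank_lt Q (by omega) g)
  rwa [Cfsg.Agent.Lib.Helper5.NDMax.stab_perp_inf_eq Q hQ] at h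

end Cfsg.Agent.Lib.Helper2.Om8m
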