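import Cfsg.Agent.Lib.Helper6.Orb.Basic
import Cfsg.Agent.Lib.Helper20.NormalRankTwo
import Cfsg.Agent.Lib.Helper9.PGroupMisc

/-!
# S4125 orbit lemma, leaf OrbB1 (helper2)

A finite `p`-group with a normal abelian non-cyclic subgroup has a normal subgroup of order `p ^ 2`
and exponent `p`.
-/

set_option autoImplicit false

namespace Cfsg.Agent.Lib.Helper2.OrbLeaf
open Cfsg.Agent.Lib.Helper6.Orb

universe u v

variable {p q : ℕ} [hp : Fact p.Prime] [hq : Fact q.Prime]
  {H : Type u} {V : Type v} [Group H] [Finite H] [AddCommGroup V] [Finite V] [DistribMulAction H V]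
  [FaithfulSMul H V]

/-- OrbB1 -/
theorem exists_klein_of_normal_abelian {P : Type*} [Group P] [Finite P] (hP : IsPGroup p P)
    (A : Subgroup P) (hAn : A.Normal) (hAc : IsMulCommutative A) (hnc : ¬ IsCyclic A) :
    ∃ E : Subgroup P, E.Normal ∧ Nat.card E = p ^ 2 ∧ ∀ e ∈ E, e ^ p = 1 := by
  classical
  have hpp : p.Prime := hp.out
  have hcomm : ∀ a ∈ A, ∀ b ∈ A, a * b = b * a := by
    intro a ha b hb
    have := hAc.is_comm.comm (⟨a, ha⟩ : A) ⟨b, hb⟩
    exact congrArg Subtype.val this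
  let Om : Subgroup P :=
    { carrier := {a | a ∈ A ∧ a ^ p = 1}
      one_mem' := ⟨A.one_mem, one_pow p⟩
      mul_mem' := by
        rintro a b ⟨ha, hap⟩ ⟨hb, hbp⟩
        refine ⟨A.mul_mem ha hb, ?_⟩
        have hc : Commute a b := hcomm a ha b hb
        rw [hc.mul_pow, hap, hbp, one_mul]
      inv_mem' := by
        rintro a ⟨ha, hap⟩
        exact ⟨A.inv_mem ha, by rw [inv_pow, hap, inv_one]⟩ }
  have hOm_mem : ∀ a, a ∈ Om ↔ a ∈ A ∧ a ^ p = 1 := fun a => Iff.rfl
  have hOmn : Om.Normal := by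
    constructor
    intro a ha g
    obtain ⟨haA, hap⟩ := (hOm_mem a).mp ha
    refine (hOm_mem _).mpr ⟨hAn.conj_mem a haA g, ?_⟩
    rw [conj_pow, hap, mul_one, mul_inv_cancel]
  have hOmexp : ∀ x ∈ Om, x ^ p = 1 := fun x hx => ((hOm_mem x).mp hx).2
  -- two independent elements of order p in A
  letI : CommGroup A := { (inferInstance : Group A) with mul_comm := hAc.is_comm.comm }
  have hAp : IsPGroup p A := hP.to_subgroup A
  have hex : ∃ u v : A, orderOf u = p ∧ orderOf v = p ∧ v ∉ Subgroup.zpowers u := by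
    by_contra hcon
    push Not at hcon
    exact hnc (Cfsg.Agent.Lib.Helper9.PGroupMisc.isCyclic_of_comm_of_unique_order_p hAp
      (fun u v hu hv => hcon u v hu hv))
  obtain ⟨u, v, hu, hv, hvu⟩ := hex
  have huOm : (u : P) ∈ Om := (hOm_mem _).mpr ⟨u.2, by
    have : u ^ p = 1 := by rw [← hu]; exact pow_orderOf_eq_one u
    exact_mod_cast congrArg Subtype.val this⟩
  have hvOm : (v : P) ∈ Om := (hOm_mem _).mpr ⟨v.2, by
    have : v ^ p = 1 := by rw [← hv]; exact pow_orderOf_eq_one v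
    exact_mod_cast congrArg Subtype.val this⟩
  -- |Om| ≥ p^2
  have hOmp : IsPGroup p Om := hP.to_subgroup Om
  obtain ⟨k, hk⟩ := IsPGroup.iff_card.mp hOmp
  have hlt : Subgroup.zpowers (u : P) < Om := by
    refine lt_of_le_of_ne (Subgroup.zpowers_le.mpr huOm) ?_
    intro heq
    apply hvu
    have hvmem : (v : P) ∈ Subgroup.zpowers (u : P) := heq ▸ hvOm
    obtain ⟨n, hn⟩ := Subgroup.mem_zpowers_iff.mp hvmem
    refine Subgroup.mem_zpowers_iff.mpr ⟨n, ?_⟩
    apply Subtype.ext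
    rw [Subgroup.coe_zpow]
    exact hn
  have hcardlt : Nat.card (Subgroup.zpowers (u : P)) < Nat.card Om := by
    by_contra h
    exact hlt.ne (Subgroup.eq_of_le_of_card_ge hlt.le (not_lt.mp h))
  have huord : orderOf (u : P) = p := by rw [Subgroup.orderOf_coe, hu]
  rw [Nat.card_zpowers, huord, hk] at hcardlt
  have hk2 : 2 ≤ k := by
    by_contra hk2
    push Not at hk2
    have : p ^ k ≤ p ^ 1 := Nat.pow_le_pow_right hpp.pos (by omega)
    rw [pow_one] at this
    omega
  have hcard : p ^ 2 ≤ Nat.card Om := by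
    rw [hk]; exact Nat.pow_le_pow_right hpp.pos hk2
  obtain ⟨M, _, hMn, _, hMexp, hMcard⟩ :=
    Cfsg.Agent.Lib.Helper20.exists_normal_elemAb_card_sq hP Om hOmexp hcard
  exact ⟨M, hMn, hMcard, hMexp⟩

end Cfsg.Agent.Lib.Helper2.OrbLeaf
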