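import Cfsg.Agent.Lib.Helper6.Orb.Basic
import Cfsg.Agent.Lib.Helper20.A8SubA

/-!
# S4125 orbit lemma, leaf OrbC2 (helper2)

Cyclic Sylow `p`-subgroup `P = ⟨g⟩`, a proper nontrivial normal subgroup `N`: then `H` is solvable
or `z = g ^ (|g| / p)` is central in `H`.
-/

set_option autoImplicit false

namespace Cfsg.Agent.Lib.Helper2.OrbLeaf
open Cfsg.Agent.Lib.Helper6.Orb
open scoped commutatorElement

universe u v

variable {p q : ℕ} [hp : Fact p.Prime] [hq : Fact q.Prime]
  {H : Type u} {V : Type v} [Group H] [Finite H] [AddCommGroup V] [Finite V] [DistribMulAction H V]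
  [FaithfulSMul H V]

/-- In a cyclic group `⟨g⟩` of order `p ^ (n+1)`, the elements with `x ^ p = 1` are powers of
`g ^ (p ^ n)`. -/
theorem mem_zpowers_pow_of_pow_eq_one {G : Type*} [Group G] {p : ℕ} (hp : p.Prime) (g : G)
    (n : ℕ) (hg : orderOf g = p ^ (n + 1)) (x : G) (hx : x ∈ Subgroup.zpowers g)
    (hxp : x ^ p = 1) : x ∈ Subgroup.zpowers (g ^ (p ^ n)) := by
  have hfin : IsOfFinOrder g := by
    rw [← orderOf_pos_iff, hg]; exact pow_pos hp.pos _
  rw [← hfin.mem_powers_iff_mem_zpowers, Submonoid.mem_powers_iff] at hx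
  obtain ⟨k, rfl⟩ := hx
  rw [← pow_mul] at hxp
  have hdvd : p ^ (n + 1) ∣ k * p := by
    rw [← hg]; exact orderOf_dvd_of_pow_eq_one hxp
  rw [pow_succ] at hdvd
  have hdvd' : p ^ n ∣ k := Nat.dvd_of_mul_dvd_mul_right hp.pos hdvd
  obtain ⟨m, rfl⟩ := hdvd'
  rw [pow_mul]
  exact Subgroup.pow_mem _ (Subgroup.mem_zpowers _) m

/-- OrbC2 -/
theorem solvable_or_central_of_normal (S : Setup p q H V) (P : Sylow p H) (g : H)
    (hg : (P : Subgroup H) = Subgroup.zpowers g) (N : Subgroup H) (hNn : N.Normal) (hN1 : N ≠ ⊥)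
    (hNT : N ≠ ⊤) :
    Group.IsSolvable H ∨ ∀ x : H, x * g ^ (orderOf g / p) = g ^ (orderOf g / p) * x := by
  classical
  have hpp : p.Prime := hp.out
  have := hNn
  have hsolN : Group.IsSolvable N := S.solvable_of_normal N hNT
  obtain ⟨r, A, hr, hAn, hA1, hAr⟩ :=
    Cfsg.Agent.Lib.Helper20.A8Sub.exists_normal_pgroup_of_solvable (Nat.card N) N rfl hNn hsolN hN1
  have := hAn
  have : Fact r.Prime := ⟨hr⟩
  -- r = p
  have hrp : r = p := by
    by_contra hne
    apply hA1
    apply eq_bot_of_normal_coprime S.pp A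
    obtain ⟨k, hk⟩ := IsPGroup.iff_card.mp hAr
    rw [hk]
    exact Nat.Coprime.pow_left k ((Nat.coprime_primes hr hpp).mpr hne)
  subst hrp
  have hAP : A ≤ (P : Subgroup H) := hAr.le_sylow_of_normal P
  rw [hg] at hAP
  -- order of g
  have hgP : g ∈ (P : Subgroup H) := by rw [hg]; exact Subgroup.mem_zpowers g
  obtain ⟨n, hn⟩ : ∃ n, orderOf g = r ^ n := by
    obtain ⟨k, hk⟩ := P.2 ⟨g, hgP⟩
    have hk' : g ^ r ^ k = 1 := by
      have := congrArg Subtype.val hk
      simpa using this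
    exact (Nat.dvd_prime_pow hpp).mp (orderOf_dvd_of_pow_eq_one hk') |>.imp fun _ h => h.2
  -- g ≠ 1, so n ≥ 1
  obtain ⟨a, haA, ha1⟩ : ∃ a ∈ A, a ≠ 1 := by
    by_contra hcon
    push Not at hcon
    exact hA1 ((Subgroup.eq_bot_iff_forall A).mpr hcon)
  have hn0 : n ≠ 0 := by
    rintro rfl
    rw [pow_zero, orderOf_eq_one_iff] at hn
    have := hAP haA
    rw [hn, Subgroup.zpowers_one_eq_bot, Subgroup.mem_bot] at this
    exact ha1 this
  obtain ⟨m, rfl⟩ := Nat.exists_eq_succ_of_ne_zero hn0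
  have hdiv : orderOf g / r = r ^ m := by
    rw [hn, pow_succ, Nat.mul_div_cancel _ hpp.pos]
  rw [hdiv]
  set z : H := g ^ (r ^ m) with hz
  have hzord : orderOf z = r := by
    rw [hz, orderOf_pow_of_dvd (pow_pos hpp.pos m).ne' (by rw [hn, pow_succ]; exact dvd_mul_right _ _),
      hn, pow_succ, Nat.mul_div_cancel_left _ (pow_pos hpp.pos m)]
  have hz1 : z ≠ 1 := by
    intro h
    rw [h, orderOf_one] at hzord
    exact hpp.one_lt.ne hzord
  have hzg : z ∈ Subgroup.zpowers g := Subgroup.pow_mem _ (Subgroup.mem_zpowers g) _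
  -- z ∈ A
  have hzA : z ∈ A := by
    -- a power of `a` of order r
    obtain ⟨j, hj⟩ : ∃ j, orderOf a = r ^ j := by
      obtain ⟨k, hk⟩ := hAr ⟨a, haA⟩
      have hk' : a ^ r ^ k = 1 := by
        have := congrArg Subtype.val hk
        simpa using this
      exact (Nat.dvd_prime_pow hpp).mp (orderOf_dvd_of_pow_eq_one hk') |>.imp fun _ h => h.2
    have hj0 : j ≠ 0 := by
      rintro rfl
      rw [pow_zero, orderOf_eq_one_iff] at hj
      exact ha1 hj
    obtain ⟨i, rfl⟩ := Nat.exists_eq_succ_of_ne_zero hj0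
    set b : H := a ^ (r ^ i) with hb
    have hbord : orderOf b = r := by
      rw [hb, orderOf_pow_of_dvd (pow_pos hpp.pos i).ne' (by rw [hj, pow_succ]; exact dvd_mul_right _ _),
        hj, pow_succ, Nat.mul_div_cancel_left _ (pow_pos hpp.pos i)]
    have hbA : b ∈ A := A.pow_mem haA _
    have hbz : b ∈ Subgroup.zpowers z :=
      mem_zpowers_pow_of_pow_eq_one hpp g m hn b (hAP hbA) (by rw [← hbord]; exact pow_orderOf_eq_one b)
    -- zpowers b = zpowers z by cardinality
    have hle : Subgroup.zpowers b ≤ Subgroup.zpowers z := Subgroup.zpowers_le.mpr hbz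
    have hcard : Nat.card (Subgroup.zpowers z) ≤ Nat.card (Subgroup.zpowers b) := by
      rw [Nat.card_zpowers, Nat.card_zpowers, hzord, hbord]
    have heq := Subgroup.eq_of_le_of_card_ge hle hcard
    have : z ∈ Subgroup.zpowers b := heq ▸ Subgroup.mem_zpowers z
    exact (Subgroup.zpowers_le.mpr hbA) this
  -- conjugates of z are powers of z
  have hconj : ∀ h : H, h * z * h⁻¹ ∈ Subgroup.zpowers z := by
    intro h
    apply mem_zpowers_pow_of_pow_eq_one hpp g m hn _ (hAP (hAn.conj_mem z hzA h))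
    rw [conj_pow, ← hzord, pow_orderOf_eq_one, mul_one, mul_inv_cancel]
  -- commutators centralize z
  have hcomm : commutator H ≤ Subgroup.centralizer ({z} : Set H) := by
    rw [commutator_def, Subgroup.commutator_le]
    intro x _ y _
    obtain ⟨a, ha⟩ := Subgroup.mem_zpowers_iff.mp (hconj x⁻¹)
    obtain ⟨b, hb⟩ := Subgroup.mem_zpowers_iff.mp (hconj y⁻¹)
    rw [inv_inv] at ha hb
    -- x⁻¹ z x = z^a, y⁻¹ z y = z^b
    rw [Subgroup.mem_centralizer_iff]
    intro w hw
    rw [Set.mem_singleton_iff] at hw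
    subst hw
    -- ⁅x,y⁆ = x y x⁻¹ y⁻¹ ; show z * ⁅x,y⁆ = ⁅x,y⁆ * z
    have h1 : z * x = x * z ^ a := by rw [ha]; group
    have h2 : z * y = y * z ^ b := by rw [hb]; group
    have h1' : ∀ k : ℤ, z ^ k * x = x * (z ^ a) ^ k := by
      intro k
      have : z ^ k * x = x * (x⁻¹ * z * x) ^ k := by
        rw [show x⁻¹ * z * x = x⁻¹ * z * x⁻¹⁻¹ by rw [inv_inv], conj_zpow]; group
      rw [this, ← ha]
    have h2' : ∀ k : ℤ, z ^ k * y = y * (z ^ b) ^ k := by
      intro k
      have : z ^ k * y = y * (y⁻¹ * z * y) ^ k := by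
        rw [show y⁻¹ * z * y = y⁻¹ * z * y⁻¹⁻¹ by rw [inv_inv], conj_zpow]; group
      rw [this, ← hb]
    -- z * (x*y) = (x*y) * z^(a*b) and z * (y*x) = (y*x) * z^(b*a)
    have hxy : z * (x * y) = (x * y) * z ^ (a * b) := by
      rw [← mul_assoc, h1, mul_assoc, h2' a, ← zpow_mul, mul_assoc, mul_comm b a]
    have hyx : z * (y * x) = (y * x) * z ^ (a * b) := by
      rw [← mul_assoc, h2, mul_assoc, h1' b, ← zpow_mul, mul_assoc]
    -- ⁅x, y⁆ = (x*y) * (y*x)⁻¹
    have hc : ⁅x, y⁆ = (x * y) * (y * x)⁻¹ := by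
      rw [commutatorElement_def]; group
    rw [hc]
    have hyx' : (y * x)⁻¹ * z = z ^ (a * b) * (y * x)⁻¹ := by
      have : z = (y * x) * z ^ (a * b) * (y * x)⁻¹ := by rw [← hyx]; group
      calc (y * x)⁻¹ * z = (y * x)⁻¹ * ((y * x) * z ^ (a * b) * (y * x)⁻¹) := by rw [← this]
        _ = z ^ (a * b) * (y * x)⁻¹ := by group
    calc z * ((x * y) * (y * x)⁻¹) = (z * (x * y)) * (y * x)⁻¹ := (mul_assoc _ _ _).symm
      _ = (x * y) * (z ^ (a * b) * (y * x)⁻¹) := by rw [hxy]; exact mul_assoc _ _ _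
      _ = (x * y) * ((y * x)⁻¹ * z) := by rw [hyx']
      _ = (x * y) * (y * x)⁻¹ * z := (mul_assoc _ _ _).symm
  -- the centralizer
  set C : Subgroup H := Subgroup.centralizer ({z} : Set H) with hC
  by_cases hCT : C = ⊤
  · right
    intro x
    have hx : x ∈ C := hCT ▸ Subgroup.mem_top x
    rw [hC, Subgroup.mem_centralizer_iff] at hx
    exact (hx z (Set.mem_singleton z)).symm
  · left
    have hPC : (P : Subgroup H) ≤ C := by
      rw [hg]
      intro x hx
      rw [hC, Subgroup.mem_centralizer_iff]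
      intro w hw
      rw [Set.mem_singleton_iff] at hw
      subst hw
      obtain ⟨k, rfl⟩ := Subgroup.mem_zpowers_iff.mp hx
      rw [hz, ← zpow_natCast, ← zpow_add, ← zpow_add, add_comm]
    have : Group.IsSolvable C := S.solvable_of_sylow_le P hPC hCT
    apply Group.isSolvable_of_ker_le_range C.subtype (Abelianization.of (G := H))
    rw [Abelianization.ker_of, Subgroup.range_subtype]
    exact hcomm

end Cfsg.Agent.Lib.Helper2.OrbLeaf
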