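import Mathlib
import Cfsg.Prelude.Def_LocalEven
import Cfsg.Prelude.Def_PLocal
import Cfsg.Prelude.Def_FusionSystem
import Cfsg.Agent.Lib.Helper2.PCDefs
import Cfsg.Agent.Lib.Helper17.PSMain
import Cfsg.Agent.Lib.Helper27.ZJ7
import Cfsg.Agent.Lib.Helper27.FSSubgroupSat
import Cfsg.Agent.Lib.Helper12.PStableSections
import Cfsg.Agent.S1934
import Cfsg.Agent.Lib.Helper20.PC1
import Cfsg.Agent.Lib.Helper20.PC2
import Cfsg.Agent.Lib.Helper12.PC4

/-!
# S5280 project (helper2), PC5: the induction

In a group `p`-stable in the normalizer form (`p > 3`), the fusion system on a Sylow `p`-subgroup `P` has a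
normal centric subgroup (`GoodIn ⊤ P`).
-/

set_option autoImplicit false
set_option linter.unusedSectionVars false
open scoped commutatorElement
open Cfsg.Agent.Lib.Helper2.PC

universe u
variable {p : ℕ} [Fact p.Prime]

namespace Cfsg.Agent.Lib.Helper2.PC

open Cfsg.Agent.Lib.Helper20.PCLeaf Cfsg.Agent.Lib.Helper12.PCLeaf

/-- the elements of `O_p(G)` commuting with every `p'`-element. -/
def yZero (p : ℕ) (G : Type*) [Group G] : Subgroup G :=
  Cfsg.pCore p G ⊓ Subgroup.centralizer {k : G | (orderOf k).Coprime p}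

theorem yZero_commute {G : Type*} [Group G] {k y : G} (hk : (orderOf k).Coprime p)
    (hy : y ∈ yZero p G) : k * y = y * k :=
  (Subgroup.mem_centralizer_iff.mp hy.2 k hk)

instance yZero_normal {G : Type*} [Group G] : (yZero p G).Normal := by
  constructor
  intro y hy g
  have hUn : (Cfsg.pCore p G).Normal := inferInstance
  refine Subgroup.mem_inf.mpr ⟨hUn.conj_mem y hy.1 g, ?_⟩
  rw [Subgroup.mem_centralizer_iff]
  intro k hk
  have hk' : (orderOf (g⁻¹ * k * g)).Coprime p := by
    have hsc : SemiconjBy g⁻¹ k (g⁻¹ * k * g) := by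
      unfold SemiconjBy; group
    rw [← hsc.orderOf_eq]; exact hk
  have h := yZero_commute hk' hy
  calc k * (g * y * g⁻¹) = g * ((g⁻¹ * k * g) * y) * g⁻¹ := by group
    _ = g * (y * (g⁻¹ * k * g)) * g⁻¹ := by rw [h]
    _ = g * y * g⁻¹ * k := by group

/-- `G = P C_G(Y)` when every `p'`-element centralizes the normal subgroup `Y`. -/
theorem sup_centralizer_eq_top {G : Type*} [Group G] [Finite G] (P : Sylow p G) (Y : Subgroup G)
    [Y.Normal] (hcop : ∀ k : G, (orderOf k).Coprime p → ∀ y ∈ Y, k * y = y * k) :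
    (P : Subgroup G) ⊔ Subgroup.centralizer (Y : Set G) = ⊤ := by
  set C : Subgroup G := Subgroup.centralizer (Y : Set G) with hC
  have : C.Normal := Subgroup.normal_centralizer
  have hpg : IsPGroup p (G ⧸ C) := by
    intro q
    obtain ⟨g, rfl⟩ := QuotientGroup.mk_surjective q
    obtain ⟨z, y, -, -, hg, ⟨a, hz⟩, m, hm, hy⟩ :=
      Cfsg.Agent.Lib.Helper12.exists_pPart_decomposition g p
    have hyC : y ∈ C := by
      rw [hC, Subgroup.mem_centralizer_iff]
      intro y₀ hy₀
      have hyo : (orderOf y).Coprime p :=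
        Nat.Coprime.coprime_dvd_left (orderOf_dvd_of_pow_eq_one hy) hm
      exact (hcop y hyo y₀ hy₀).symm
    refine ⟨a, ?_⟩
    have h1 : (g : G ⧸ C) = (z : G ⧸ C) := by
      rw [hg, QuotientGroup.mk_mul, (QuotientGroup.eq_one_iff y).mpr hyC, mul_one]
    rw [h1, ← QuotientGroup.mk_pow, hz, QuotientGroup.mk_one]
  have h1 : ((P : Subgroup G) ⊔ C).index ∣ (P : Subgroup G).index :=
    Subgroup.index_dvd_of_le le_sup_left
  have h2 : ((P : Subgroup G) ⊔ C).index ∣ C.index := Subgroup.index_dvd_of_le le_sup_right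
  obtain ⟨k, hk⟩ := hpg.exists_card_eq
  have h3 : C.index = p ^ k := by rw [Subgroup.index_eq_card, hk]
  rw [h3] at h2
  have hcopi : Nat.Coprime (P : Subgroup G).index (p ^ k) := by
    apply Nat.Coprime.pow_right
    rw [Nat.coprime_comm, Nat.Prime.coprime_iff_not_dvd Fact.out]
    exact P.not_dvd_index
  have h4 : ((P : Subgroup G) ⊔ C).index = 1 :=
    Nat.eq_one_of_dvd_coprimes hcopi h1 h2
  exact Subgroup.index_eq_one.mp h4

theorem good_aux (hp : 3 < p) (n : ℕ) : ∀ (G : Type u) [Group G] [Finite G], Nat.card G ≤ n →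
    Cfsg.IsNormalizerPStable p G → ∀ P : Sylow p G, GoodIn ⊤ (P : Subgroup G) := by
  induction n with
  | zero =>
    intro G _ _ hcard
    exact absurd hcard (by have : 0 < Nat.card G := Nat.card_pos; omega)
  | succ n ih =>
    intro G _ _ hcard hst P
    have hp2 : p ≠ 2 := by omega
    -- IH for proper subgroups
    have ihsub : ∀ H : Subgroup G, H ≠ ⊤ → ∀ R' : Sylow p ↥H,
        GoodIn H ((R' : Subgroup ↥H).map H.subtype) := by
      intro H hH R'
      apply goodIn_of_subtype
      apply ih ↥H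
      · have := Cfsg.Agent.Lib.Helper17.PSM.card_subgroup_lt H hH; omega
      · exact Cfsg.Agent.Lib.Helper17.isNormalizerPStable_subgroup hst H
    have hPidx : ∀ H : Subgroup G, (P : Subgroup G) ≤ H → ¬ p ∣ (P : Subgroup G).relIndex H := by
      intro H hPH hdvd
      apply P.not_dvd_index
      rw [← Subgroup.relIndex_top_right, ← Subgroup.relIndex_mul_relIndex _ H ⊤ hPH le_top]
      exact dvd_mul_of_dvd_left hdvd _
    have hfinish : ∀ H : Subgroup G, H ≠ ⊤ → (P : Subgroup G) ≤ H → CtlIn ⊤ H (P : Subgroup G) →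
        GoodIn ⊤ (P : Subgroup G) := by
      intro H hH hPH hctl
      apply goodIn_top_of_ctl H _ hPH hctl
      obtain ⟨R', hR'⟩ := Cfsg.Agent.Lib.Helper16.exists_sylow_of_relIndex (P : Subgroup G) H
        P.isPGroup' (hPidx H hPH)
      have := ihsub H hH R'
      rwa [hR', Subgroup.map_subgroupOf_eq_of_le hPH] at this
    by_cases hPbot : (P : Subgroup G) = ⊥
    · refine ⟨⊥, bot_le, ?_, ?_, ?_⟩
      · rw [hPbot]; exact bot_le
      · rw [hPbot]; exact inf_le_left
      · intro A g _ hA hAg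
        refine ⟨1, ⟨Subgroup.mem_top _, Subgroup.one_mem _⟩, fun a ha => ?_⟩
        have h1 : a = 1 := by
          have := hA ha
          rwa [hPbot] at this
        subst h1; simp
    -- Step 1: W = Z(J(P)) is normal in G
    have hWne : Cfsg.centerThompsonAOf (P : Subgroup G) ≠ ⊥ :=
      Cfsg.Agent.Lib.Helper27.centerThompsonAOf_ne_bot (P : Subgroup G) P.isPGroup' hPbot
    have hWP : Cfsg.centerThompsonAOf (P : Subgroup G) ≤ (P : Subgroup G) :=
      Cfsg.Agent.Lib.Helper27.centerThompsonAOf_le _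
    have hPNW : (P : Subgroup G) ≤
        Subgroup.normalizer (Cfsg.centerThompsonAOf (P : Subgroup G) : Set G) :=
      Subgroup.le_normalizer.trans
        (Cfsg.Agent.Lib.Helper27.normalizer_le_normalizer_centerThompsonAOf (P : Subgroup G))
    have hctlW : CtlIn ⊤ (Subgroup.normalizer (Cfsg.centerThompsonAOf (P : Subgroup G) : Set G))
        (P : Subgroup G) := by
      intro A g _ hA hAg
      obtain ⟨-, h2⟩ := Cfsg.Agent.S1934.result p hp hst P A hA
      obtain ⟨x, hx, hxa⟩ := h2 g (by rintro _ ⟨a, ha, rfl⟩; exact hAg a ha)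
      exact ⟨x, ⟨Subgroup.mem_top _, hx⟩, fun a ha => (hxa a ha).symm⟩
    by_cases hNW : Subgroup.normalizer (Cfsg.centerThompsonAOf (P : Subgroup G) : Set G) = ⊤
    swap
    · exact hfinish _ hNW hPNW hctlW
    have hUp : IsPGroup p ↥(Cfsg.pCore p G) := Cfsg.Agent.Lib.Helper16.pCore_isPGroup
    have hUP : Cfsg.pCore p G ≤ (P : Subgroup G) := Cfsg.Agent.Lib.Helper16.pCore_le_sylow P
    have hUn : (Cfsg.pCore p G).Normal := inferInstance
    have hWU : Cfsg.centerThompsonAOf (P : Subgroup G) ≤ Cfsg.pCore p G :=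
      Cfsg.Agent.Lib.Helper17.PSM.le_pCore_of_normalizer_eq_top _ (P.isPGroup'.to_le hWP) hNW
    have hUbot : Cfsg.pCore p G ≠ ⊥ := by
      intro h
      apply hWne
      rw [h] at hWU
      exact le_bot_iff.mp hWU
    -- Step 2: Y₀ = 1
    by_cases hY₀ : yZero p G = ⊥
    swap
    · have hcopY : ∀ k : G, (orderOf k).Coprime p → ∀ y ∈ yZero p G, k * y = y * k :=
        fun k hk y hy => yZero_commute hk hy
      have hstQ : Cfsg.IsNormalizerPStable p (G ⧸ yZero p G) :=
        Cfsg.Agent.Lib.Helper17.PSQ.isNormalizerPStable_quotient hp2 hst (yZero p G)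
          (hUp.to_le inf_le_left) hcopY
      have hπsurj : Function.Surjective (QuotientGroup.mk' (yZero p G)) :=
        QuotientGroup.mk'_surjective _
      have hgQ := ih (G ⧸ yZero p G)
        (by have := Cfsg.Agent.Lib.Helper17.PSM.card_quotient_lt (yZero p G) hY₀; omega) hstQ
        (P.mapSurjective hπsurj)
      rw [Sylow.coe_mapSurjective] at hgQ
      exact goodIn_top_of_quotient P (yZero p G) (inf_le_left.trans hUP)
        (sup_centralizer_eq_top P (yZero p G) hcopY) hgQ
    -- Step 3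
    by_cases hcen : (P : Subgroup G) ⊓ Subgroup.centralizer ((Cfsg.pCore p G : Subgroup G) : Set G) ≤
        Cfsg.pCore p G
    · refine ⟨Cfsg.pCore p G, hUP, ?_, hcen, ?_⟩
      · rw [Subgroup.normalizer_eq_top]; exact le_top
      · intro A g _ hA hAg
        exact ⟨g, ⟨Subgroup.mem_top _, by rw [Subgroup.normalizer_eq_top]; exact Subgroup.mem_top _⟩,
          fun a ha => rfl⟩
    have hCn : (Subgroup.centralizer ((Cfsg.pCore p G : Subgroup G) : Set G)).Normal :=
      Subgroup.normal_centralizer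
    have hKn : (Cfsg.pCore p G ⊔
        Subgroup.centralizer ((Cfsg.pCore p G : Subgroup G) : Set G)).Normal := inferInstance
    have hKne : Cfsg.pCore p G ⊔ Subgroup.centralizer ((Cfsg.pCore p G : Subgroup G) : Set G) ≠ ⊤ := by
      intro hK
      apply hUbot
      rw [eq_bot_iff, ← hY₀]
      intro u hu
      refine Subgroup.mem_inf.mpr ⟨hu, ?_⟩
      rw [Subgroup.mem_centralizer_iff]
      intro k hk
      have hPC : (P : Subgroup G) ⊔ Subgroup.centralizer ((Cfsg.pCore p G : Subgroup G) : Set G) = ⊤ := by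
        rw [eq_top_iff, ← hK]
        exact sup_le_sup_right hUP _
      exact Cfsg.Agent.Lib.Helper19.PSLeaf.commute_of_coprime_of_sup_centralizer P (Cfsg.pCore p G)
        hPC k hk u hu
    obtain ⟨R', hR'⟩ := Cfsg.Agent.Lib.Helper27.sylowIn_inf_of_normal P
      (Cfsg.pCore p G ⊔ Subgroup.centralizer ((Cfsg.pCore p G : Subgroup G) : Set G))
    have hgK := ihsub _ hKne R'
    rw [hR', Subgroup.map_subgroupOf_eq_of_le inf_le_right] at hgK
    obtain ⟨T, hTle, hPT, hctlT, hcenT⟩ := exists_normal_of_goodIn_normal P _ hgK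
    have hTnU : ¬ T ≤ Cfsg.pCore p G := by
      intro hTU
      apply hcen
      intro x hx
      have hxK : x ∈ Cfsg.pCore p G ⊔
          Subgroup.centralizer ((Cfsg.pCore p G : Subgroup G) : Set G) :=
        Subgroup.mem_sup_right hx.2
      have hxT : x ∈ Subgroup.centralizer (T : Set G) :=
        Subgroup.centralizer_le (by exact_mod_cast hTU) hx.2
      exact hTU (hcenT ⟨⟨hx.1, hxK⟩, hxT⟩)
    have hNT : Subgroup.normalizer (T : Set G) ≠ ⊤ := fun hN =>
      hTnU (Cfsg.Agent.Lib.Helper17.PSM.le_pCore_of_normalizer_eq_top T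
        (P.isPGroup'.to_le (hTle.trans inf_le_left)) hN)
    exact hfinish _ hNT hPT hctlT

/-- **Main theorem (group form)**. -/
theorem goodIn_top_of_stable {G : Type u} [Group G] [Finite G] (hp : 3 < p)
    (hst : Cfsg.IsNormalizerPStable p G) (P : Sylow p G) : GoodIn ⊤ (P : Subgroup G) :=
  good_aux hp (Nat.card G) G le_rfl hst P

end Cfsg.Agent.Lib.Helper2.PC
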