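/-
helper2: graphs of maps of a fusion system, as subgroups of `S × S`
(towards Park's theorem: every fusion system is realized inside a finite group).
-/
import Mathlib
import Cfsg.Prelude.Def_FusionSystem

set_option autoImplicit false

namespace Cfsg.Agent.Lib.Helper2.Park

open Cfsg

variable {Ω : Type*} [Group Ω] {S : Subgroup Ω} (F : FusionSystem S)

/-- restriction of a map of the system to a smaller subgroup -/
theorem restrict_mem {T T' : Subgroup Ω} {μ : T →* Ω} (hμ : μ ∈ F.Hom T) (h : T' ≤ T) :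
    μ.comp (Subgroup.inclusion h) ∈ F.Hom T' := by
  have hTS : T ≤ S := (F.le_of_mem hμ).1
  have h1 : conjHom T' (1 : Ω) ∈ F.Hom T' := F.conj_mem (h.trans hTS) S.one_mem
  have h2 : ∀ x : T', conjHom T' (1 : Ω) x ∈ T := by
    intro x
    have : conjHom T' (1 : Ω) x = (x : Ω) := by simp [conjHom]
    rw [this]
    exact h x.2
  have h3 := F.comp_mem h1 hμ h2
  have h4 : μ.comp ((conjHom T' (1 : Ω)).codRestrict T h2) = μ.comp (Subgroup.inclusion h) := by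
    ext x
    simp only [MonoidHom.comp_apply]
    congr 1
    apply Subtype.ext
    simp [conjHom]
  rw [← h4]
  exact h3

/-- `L ≤ S × S` is the graph of a map of the system -/
def IsFG (L : Subgroup (↥S × ↥S)) : Prop :=
  ∃ (T : Subgroup Ω) (μ : T →* Ω), μ ∈ F.Hom T ∧
    ∀ u v : ↥S, (u, v) ∈ L ↔ ∃ t : T, (t : Ω) = u ∧ μ t = v

/-- the diagonal subgroup -/
def diag (S : Subgroup Ω) : Subgroup (↥S × ↥S) :=
  (MonoidHom.prod (MonoidHom.id ↥S) (MonoidHom.id ↥S)).range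

theorem mem_diag {u v : ↥S} : (u, v) ∈ diag S ↔ u = v := by
  unfold diag
  rw [MonoidHom.mem_range]
  constructor
  · rintro ⟨x, hx⟩
    have h1 := congrArg Prod.fst hx
    have h2 := congrArg Prod.snd hx
    simp only [MonoidHom.prod_apply, MonoidHom.id_apply] at h1 h2
    rw [← h1, ← h2]
  · rintro rfl
    exact ⟨u, rfl⟩

theorem isFG_diag : IsFG F (diag S) := by
  refine ⟨S, conjHom S 1, F.conj_mem le_rfl S.one_mem, ?_⟩
  intro u v
  rw [mem_diag]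
  constructor
  · rintro rfl
    exact ⟨u, rfl, by simp [conjHom]⟩
  · rintro ⟨t, ht, hv⟩
    apply Subtype.ext
    rw [← ht, ← hv]
    simp [conjHom]

theorem isFG_of_le {L L' : Subgroup (↥S × ↥S)} (hLL : L ≤ L') (hL' : IsFG F L') : IsFG F L := by
  obtain ⟨T, μ, hμ, hchar⟩ := hL'
  -- the first projection of `L`, inside `Ω`
  let T' : Subgroup Ω := (L.map (MonoidHom.fst ↥S ↥S)).map S.subtype
  have hT' : ∀ t : Ω, t ∈ T' ↔ ∃ u v : ↥S, (u, v) ∈ L ∧ (u : Ω) = t := by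
    intro t
    constructor
    · rintro ⟨u, ⟨⟨u', v⟩, hmem, rfl⟩, rfl⟩
      exact ⟨u', v, hmem, rfl⟩
    · rintro ⟨u, v, hmem, rfl⟩
      exact ⟨u, ⟨(u, v), hmem, rfl⟩, rfl⟩
  have hT'T : T' ≤ T := by
    intro t ht
    obtain ⟨u, v, hmem, rfl⟩ := (hT' t).mp ht
    obtain ⟨t0, ht0, -⟩ := (hchar u v).mp (hLL hmem)
    rw [← ht0]
    exact t0.2
  refine ⟨T', μ.comp (Subgroup.inclusion hT'T), restrict_mem F hμ hT'T, ?_⟩
  intro u v
  constructor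
  · intro hmem
    obtain ⟨t0, ht0, hv⟩ := (hchar u v).mp (hLL hmem)
    refine ⟨⟨u, (hT' u).mpr ⟨u, v, hmem, rfl⟩⟩, rfl, ?_⟩
    rw [MonoidHom.comp_apply, ← hv]
    congr 1
    apply Subtype.ext
    exact ht0.symm
  · rintro ⟨t, ht, hv⟩
    obtain ⟨u', v', hmem, hu'⟩ := (hT' t).mp t.2
    have huu : u' = u := Subtype.ext (hu'.trans ht)
    rw [huu] at hmem
    obtain ⟨t0, ht0, hv'⟩ := (hchar u v').mp (hLL hmem)
    have hvv : v' = v := by
      apply Subtype.ext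
      rw [← hv', ← hv, MonoidHom.comp_apply]
      congr 1
      apply Subtype.ext
      exact ht0.trans ht.symm
    rw [← hvv]
    exact hmem

/-- conjugates of graphs are graphs -/
theorem isFG_conj {L : Subgroup (↥S × ↥S)} (hL : IsFG F L) (g : ↥S × ↥S) :
    IsFG F (L.map (MulAut.conj g).toMonoidHom) := by
  obtain ⟨T, μ, hμ, hchar⟩ := hL
  obtain ⟨a, b⟩ := g
  have hTS : T ≤ S := (F.le_of_mem hμ).1
  have hμS : ∀ x : T, μ x ∈ S := (F.le_of_mem hμ).2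
  let T'' : Subgroup Ω := T.map (MulAut.conj (a : Ω)).toMonoidHom
  have hT'' : ∀ x : Ω, x ∈ T'' ↔ (a : Ω)⁻¹ * x * a ∈ T := by
    intro x
    show x ∈ T.map (MulAut.conj (a : Ω)).toMonoidHom ↔ _
    rw [Subgroup.mem_map_equiv]
    simp [MulAut.conj_symm_apply]
  have hT''S : T'' ≤ S := by
    intro x hx
    have h1 := hTS ((hT'' x).mp hx)
    have : x = (a : Ω) * ((a : Ω)⁻¹ * x * a) * (a : Ω)⁻¹ := by group
    rw [this]
    exact S.mul_mem (S.mul_mem a.2 h1) (S.inv_mem a.2)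
  have h1 : conjHom T'' ((a : Ω)⁻¹) ∈ F.Hom T'' := F.conj_mem hT''S (S.inv_mem a.2)
  have h2 : ∀ x : T'', conjHom T'' ((a : Ω)⁻¹) x ∈ T := by
    intro x
    have : conjHom T'' ((a : Ω)⁻¹) x = (a : Ω)⁻¹ * x * a := by simp [conjHom]
    rw [this]
    exact (hT'' x).mp x.2
  have h3 := F.comp_mem h1 hμ h2
  have h4 : conjHom S (b : Ω) ∈ F.Hom S := F.conj_mem le_rfl b.2
  have h5 : ∀ x : T'', (μ.comp ((conjHom T'' ((a : Ω)⁻¹)).codRestrict T h2)) x ∈ S := by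
    intro x
    exact hμS _
  have h6 := F.comp_mem h3 h4 h5
  refine ⟨T'', _, h6, ?_⟩
  intro u v
  rw [Subgroup.mem_map_equiv]
  have hsymm : (MulAut.conj ((a, b) : ↥S × ↥S)).symm (u, v) = (a⁻¹ * u * a, b⁻¹ * v * b) := by
    rw [MulAut.conj_symm_apply]
    rfl
  rw [hsymm, hchar]
  constructor
  · rintro ⟨t, ht, hv⟩
    have htmem : (u : Ω) ∈ T'' := by
      rw [hT'', ← show ((a⁻¹ * u * a : ↥S) : Ω) = (a : Ω)⁻¹ * u * a from rfl, ← ht]
      exact t.2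
    refine ⟨⟨u, htmem⟩, rfl, ?_⟩
    simp only [MonoidHom.comp_apply]
    have e1 : (MonoidHom.codRestrict (conjHom T'' ((a : Ω)⁻¹)) T h2) ⟨(u : Ω), htmem⟩ = t := by
      apply Subtype.ext
      rw [ht]
      simp [conjHom]
    have e2 : (conjHom S (b : Ω)) ((MonoidHom.codRestrict
        (μ.comp (MonoidHom.codRestrict (conjHom T'' ((a : Ω)⁻¹)) T h2)) S h5) ⟨(u : Ω), htmem⟩) =
        (b : Ω) * μ ((MonoidHom.codRestrict (conjHom T'' ((a : Ω)⁻¹)) T h2) ⟨(u : Ω), htmem⟩) *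
          (b : Ω)⁻¹ := by
      simp [conjHom]
    rw [e2, e1, hv]
    rw [show ((b⁻¹ * v * b : ↥S) : Ω) = (b : Ω)⁻¹ * v * b from rfl]
    group
  · rintro ⟨t'', ht'', hv⟩
    refine ⟨(MonoidHom.codRestrict (conjHom T'' ((a : Ω)⁻¹)) T h2) t'', ?_, ?_⟩
    · simp [conjHom, ht'']
    · simp only [MonoidHom.comp_apply] at hv
      have e2 : (conjHom S (b : Ω)) ((MonoidHom.codRestrict
          (μ.comp (MonoidHom.codRestrict (conjHom T'' ((a : Ω)⁻¹)) T h2)) S h5) t'') =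
          (b : Ω) * μ ((MonoidHom.codRestrict (conjHom T'' ((a : Ω)⁻¹)) T h2) t'') * (b : Ω)⁻¹ := by
        simp [conjHom]
      rw [e2] at hv
      show μ _ = ((b⁻¹ * v * b : ↥S) : Ω)
      rw [show ((b⁻¹ * v * b : ↥S) : Ω) = (b : Ω)⁻¹ * v * b from rfl, ← hv]
      group

section transport

variable {F}
variable {P : Subgroup Ω}

/-- `(s, p) ↦ (s, p)` -/
def j1 (hP : P ≤ S) : ↥S × ↥P →* ↥S × ↥S :=
  MonoidHom.prodMap (MonoidHom.id ↥S) (Subgroup.inclusion hP)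

/-- `(s, p) ↦ (s, φ p)` -/
def j2 (φ : P →* Ω) (hφ : ∀ x : P, φ x ∈ S) : ↥S × ↥P →* ↥S × ↥S :=
  MonoidHom.prodMap (MonoidHom.id ↥S) (φ.codRestrict S hφ)

theorem j1_injective (hP : P ≤ S) : Function.Injective (j1 hP) := by
  rintro ⟨s, p⟩ ⟨s', p'⟩ h
  have h1 : s = s' := congrArg Prod.fst h
  have h2 : Subgroup.inclusion hP p = Subgroup.inclusion hP p' := congrArg Prod.snd h
  rw [h1, Subgroup.inclusion_injective hP h2]

theorem j2_injective (φ : P →* Ω) (hφ : ∀ x : P, φ x ∈ S) (hinj : Function.Injective φ) :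
    Function.Injective (j2 φ hφ) := by
  rintro ⟨s, p⟩ ⟨s', p'⟩ h
  have h1 : s = s' := congrArg Prod.fst h
  have h2 : φ.codRestrict S hφ p = φ.codRestrict S hφ p' := congrArg Prod.snd h
  have h3 : φ p = φ p' := congrArg Subtype.val h2
  rw [h1, hinj h3]

theorem mem_map_j1 (hP : P ≤ S) (K : Subgroup (↥S × ↥P)) (u v : ↥S) :
    (u, v) ∈ K.map (j1 hP) ↔ ∃ p : P, (p : Ω) = v ∧ (u, p) ∈ K := by
  constructor
  · rintro ⟨⟨s, p⟩, hK, h⟩
    have h1 : s = u := congrArg Prod.fst h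
    have h2 : Subgroup.inclusion hP p = v := congrArg Prod.snd h
    refine ⟨p, ?_, ?_⟩
    · rw [← h2]
      rfl
    · rw [← h1]
      exact hK
  · rintro ⟨p, hp, hK⟩
    refine ⟨(u, p), hK, ?_⟩
    show (u, Subgroup.inclusion hP p) = (u, v)
    congr 1
    exact Subtype.ext hp

theorem mem_map_j2 (φ : P →* Ω) (hφ : ∀ x : P, φ x ∈ S) (K : Subgroup (↥S × ↥P)) (u v : ↥S) :
    (u, v) ∈ K.map (j2 φ hφ) ↔ ∃ p : P, φ p = v ∧ (u, p) ∈ K := by
  constructor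
  · rintro ⟨⟨s, p⟩, hK, h⟩
    have h1 : s = u := congrArg Prod.fst h
    have h2 : φ.codRestrict S hφ p = v := congrArg Prod.snd h
    refine ⟨p, ?_, ?_⟩
    · rw [← h2]
      rfl
    · rw [← h1]
      exact hK
  · rintro ⟨p, hp, hK⟩
    refine ⟨(u, p), hK, ?_⟩
    show (u, φ.codRestrict S hφ p) = (u, v)
    congr 1
    exact Subtype.ext hp

/-- transport of graphs along a map of the system -/
theorem isFG_map_iff (hP : P ≤ S) (φ : P →* Ω) (hφ : ∀ x : P, φ x ∈ S) (hφF : φ ∈ F.Hom P)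
    (K : Subgroup (↥S × ↥P)) : IsFG F (K.map (j1 hP)) ↔ IsFG F (K.map (j2 φ hφ)) := by
  constructor
  · rintro ⟨T, μ, hμ, hchar⟩
    have hTS : T ≤ S := (F.le_of_mem hμ).1
    have hμS : ∀ x : T, μ x ∈ S := (F.le_of_mem hμ).2
    have hpt : ∀ t : T, ∃ p : P, (p : Ω) = μ t ∧ ((⟨t, hTS t.2⟩ : ↥S), p) ∈ K := by
      intro t
      have h1 := (hchar ⟨t, hTS t.2⟩ ⟨μ t, hμS t⟩).mpr ⟨t, rfl, rfl⟩
      exact (mem_map_j1 hP K _ _).mp h1
    have hμP : ∀ t : T, μ t ∈ P := by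
      intro t
      obtain ⟨p, hp, -⟩ := hpt t
      rw [← hp]
      exact p.2
    refine ⟨T, φ.comp (μ.codRestrict P hμP), F.comp_mem hμ hφF hμP, ?_⟩
    intro u v
    constructor
    · intro h
      obtain ⟨p, hp, hK⟩ := (mem_map_j2 φ hφ K u v).mp h
      have h1 : (u, (⟨p, hP p.2⟩ : ↥S)) ∈ K.map (j1 hP) :=
        (mem_map_j1 hP K _ _).mpr ⟨p, rfl, hK⟩
      obtain ⟨t, ht, hv⟩ := (hchar _ _).mp h1
      refine ⟨t, ht, ?_⟩
      have h2 : μ.codRestrict P hμP t = p := Subtype.ext hv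
      rw [MonoidHom.comp_apply, h2, hp]
    · rintro ⟨t, ht, hv⟩
      obtain ⟨p, hp, hK⟩ := hpt t
      have h2 : μ.codRestrict P hμP t = p := Subtype.ext hp.symm
      rw [MonoidHom.comp_apply, h2] at hv
      refine (mem_map_j2 φ hφ K u v).mpr ⟨p, hv, ?_⟩
      have h3 : u = ⟨t, hTS t.2⟩ := Subtype.ext ht.symm
      rw [h3]
      exact hK
  · rintro ⟨T, μ, hμ, hchar⟩
    have hTS : T ≤ S := (F.le_of_mem hμ).1
    have hμS : ∀ x : T, μ x ∈ S := (F.le_of_mem hμ).2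
    obtain ⟨ψ, hψ, hψinv⟩ := F.inv_mem hφF
    have hpt : ∀ t : T, ∃ p : P, φ p = μ t ∧ ((⟨t, hTS t.2⟩ : ↥S), p) ∈ K := by
      intro t
      have h1 := (hchar ⟨t, hTS t.2⟩ ⟨μ t, hμS t⟩).mpr ⟨t, rfl, rfl⟩
      exact (mem_map_j2 φ hφ K _ _).mp h1
    have hμR : ∀ t : T, μ t ∈ φ.range := by
      intro t
      obtain ⟨p, hp, -⟩ := hpt t
      exact ⟨p, hp⟩
    refine ⟨T, ψ.comp (μ.codRestrict φ.range hμR), F.comp_mem hμ hψ hμR, ?_⟩
    intro u v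
    constructor
    · intro h
      obtain ⟨p, hp, hK⟩ := (mem_map_j1 hP K u v).mp h
      have h1 : (u, (⟨φ p, hφ p⟩ : ↥S)) ∈ K.map (j2 φ hφ) :=
        (mem_map_j2 φ hφ K _ _).mpr ⟨p, rfl, hK⟩
      obtain ⟨t, ht, hv⟩ := (hchar _ _).mp h1
      refine ⟨t, ht, ?_⟩
      have h2 : μ.codRestrict φ.range hμR t = ⟨φ p, ⟨p, rfl⟩⟩ := Subtype.ext hv
      rw [MonoidHom.comp_apply, h2, hψinv, hp]
    · rintro ⟨t, ht, hv⟩
      obtain ⟨p, hp, hK⟩ := hpt t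
      have h2 : μ.codRestrict φ.range hμR t = ⟨φ p, ⟨p, rfl⟩⟩ := Subtype.ext hp.symm
      rw [MonoidHom.comp_apply, h2, hψinv] at hv
      refine (mem_map_j1 hP K u v).mpr ⟨p, hv, ?_⟩
      have h3 : u = ⟨t, hTS t.2⟩ := Subtype.ext ht.symm
      rw [h3]
      exact hK

/-- a homomorphism whose graph is a graph of the system is a map of the system -/
theorem mem_of_isFG_graph (hP : P ≤ S) (φ : P →* Ω) (hφ : ∀ x : P, φ x ∈ S)
    {E : Subgroup (↥S × ↥S)} (hE : IsFG F E)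
    (hchar : ∀ u v : ↥S, (u, v) ∈ E ↔ ∃ x : P, (x : Ω) = u ∧ φ x = v) : φ ∈ F.Hom P := by
  obtain ⟨T, μ, hμ, hc⟩ := hE
  have hTS : T ≤ S := (F.le_of_mem hμ).1
  have hμS : ∀ x : T, μ x ∈ S := (F.le_of_mem hμ).2
  have hTP : T = P := by
    ext t
    constructor
    · intro ht
      have h1 := (hc ⟨t, hTS ht⟩ ⟨μ ⟨t, ht⟩, hμS _⟩).mpr ⟨⟨t, ht⟩, rfl, rfl⟩
      obtain ⟨x, hx, -⟩ := (hchar _ _).mp h1
      have : (x : Ω) = t := hx
      rw [← this]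
      exact x.2
    · intro ht
      have h1 := (hchar ⟨t, hP ht⟩ ⟨φ ⟨t, ht⟩, hφ _⟩).mpr ⟨⟨t, ht⟩, rfl, rfl⟩
      obtain ⟨t', ht', -⟩ := (hc _ _).mp h1
      have : (t' : Ω) = t := ht'
      rw [← this]
      exact t'.2
  subst hTP
  have hμφ : μ = φ := by
    ext x
    have h1 := (hc ⟨x, hTS x.2⟩ ⟨μ x, hμS _⟩).mpr ⟨x, rfl, rfl⟩
    obtain ⟨x', hx', hv⟩ := (hchar _ _).mp h1
    have h2 : x' = x := Subtype.ext hx'
    rw [h2] at hv
    exact hv.symm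
  rw [← hμφ]
  exact hμ

end transport

end Cfsg.Agent.Lib.Helper2.Park
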