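/-
helper2: a finite `Γ`-set with prescribed marks (towards Park's theorem): for a family `𝒢` of
subgroups of a finite group `Γ` closed under conjugation and passage to subgroups there is a
finite `Γ`-set all of whose point stabilizers are in `𝒢`, in which every member of `𝒢` is a
point stabilizer, and in which the number of fixed points of a member of `𝒢` depends only
on its order.
-/
import Mathlib
import Cfsg.Agent.Lib.Helper2.Marks

set_option autoImplicit false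

namespace Cfsg.Agent.Lib.Helper2.Park

open Cfsg.Agent.Lib.Helper2.Marks

universe u

/-- the (classical) finiteness structure on the set of subgroups of a finite group -/
@[reducible] noncomputable def fintypeSubgroup (Γ : Type u) [Group Γ] [Finite Γ] :
    Fintype (Subgroup Γ) :=
  Fintype.ofFinite _

/-- the (classical) finiteness structure on a finite group -/
@[reducible] noncomputable def fintypeGroup (Γ : Type u) [Group Γ] [Finite Γ] : Fintype Γ :=
  Fintype.ofFinite _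

attribute [local instance] fintypeSubgroup fintypeGroup

section weights

variable {Γ : Type u} [Group Γ] [Finite Γ] (𝒢 : Subgroup Γ → Prop)

open scoped Classical in
/-- the weights -/
noncomputable def wt (L0 : Subgroup Γ) : ℕ :=
  1 + ∑ L : {L : Subgroup Γ // 𝒢 L ∧ Nat.card L0 < Nat.card L ∧ ¬ L0 ≤ L}, wt L.1
termination_by Nat.card Γ - Nat.card L0
decreasing_by
  have := L.2.2.1
  have := Subgroup.card_le_card_group L.1
  omega

open scoped Classical in
/-- the common number of marks of the members of `𝒢` of order `n` (up to the factor `|Γ|`) -/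
noncomputable def cc (n : ℕ) : ℕ :=
  1 + ∑ L ∈ Finset.univ.filter (fun L : Subgroup Γ => 𝒢 L ∧ n < Nat.card L), wt 𝒢 L

theorem wt_pos (L0 : Subgroup Γ) : 0 < wt 𝒢 L0 := by
  rw [wt]
  omega

open scoped Classical in
theorem wt_eq (L0 : Subgroup Γ) : wt 𝒢 L0 = 1 + ∑ L ∈ Finset.univ.filter
    (fun L : Subgroup Γ => 𝒢 L ∧ Nat.card L0 < Nat.card L ∧ ¬ L0 ≤ L), wt 𝒢 L := by
  rw [wt]
  congr 1
  symm
  apply Finset.sum_subtype
  intro L
  simp

open scoped Classical in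
theorem sum_wt_ge {L0 : Subgroup Γ} (hL0 : 𝒢 L0) :
    ∑ L ∈ Finset.univ.filter (fun L : Subgroup Γ => 𝒢 L ∧ L0 ≤ L), wt 𝒢 L =
      cc 𝒢 (Nat.card L0) := by
  have h1 : Finset.univ.filter (fun L : Subgroup Γ => 𝒢 L ∧ L0 ≤ L) =
      insert L0 (Finset.univ.filter
        (fun L : Subgroup Γ => (𝒢 L ∧ Nat.card L0 < Nat.card L) ∧ L0 ≤ L)) := by
    ext L
    simp only [Finset.mem_filter, Finset.mem_univ, true_and, Finset.mem_insert]
    constructor
    · rintro ⟨hL, hle⟩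
      by_cases hEq : L = L0
      · exact Or.inl hEq
      · right
        refine ⟨⟨hL, ?_⟩, hle⟩
        have h2 := Subgroup.card_le_of_le hle
        rcases Nat.lt_or_ge (Nat.card L0) (Nat.card L) with h3 | h3
        · exact h3
        · exact absurd (Subgroup.eq_of_le_of_card_ge hle h3).symm hEq
    · rintro (rfl | ⟨⟨hL, -⟩, hle⟩)
      · exact ⟨hL0, le_rfl⟩
      · exact ⟨hL, hle⟩
  have h2 : L0 ∉ Finset.univ.filter
        (fun L : Subgroup Γ => (𝒢 L ∧ Nat.card L0 < Nat.card L) ∧ L0 ≤ L) := by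
    simp
  rw [h1, Finset.sum_insert h2, wt_eq, cc]
  have h3 := Finset.sum_filter_add_sum_filter_not
    (Finset.univ.filter (fun L : Subgroup Γ => 𝒢 L ∧ Nat.card L0 < Nat.card L))
    (fun L => L0 ≤ L) (wt 𝒢)
  rw [Finset.filter_filter, Finset.filter_filter] at h3
  have h4 : Finset.univ.filter
      (fun L : Subgroup Γ => 𝒢 L ∧ Nat.card L0 < Nat.card L ∧ ¬ L0 ≤ L) =
      Finset.univ.filter
      (fun L : Subgroup Γ => (𝒢 L ∧ Nat.card L0 < Nat.card L) ∧ ¬ L0 ≤ L) := by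
    ext L
    simp [and_assoc]
  rw [h4, ← h3]
  ring

end weights

section gset

variable {Γ : Type u} [Group Γ] [Finite Γ] (𝒢 : Subgroup Γ → Prop)

/-- the index type of the orbits -/
abbrev Idx : Type u := Σ L : {L : Subgroup Γ // 𝒢 L}, Fin (Nat.card L.1 * wt 𝒢 L.1)

/-- the `Γ`-set -/
abbrev XX : Type u := Σ i : Idx 𝒢, Γ ⧸ i.1.1

omit [Finite Γ] in
theorem mem_fix_sigma {I : Type*} {A : I → Type*} [∀ i, MulAction Γ (A i)] (K : Subgroup Γ)
    (x : Σ i, A i) : x ∈ fix K (Σ i, A i) ↔ x.2 ∈ fix K (A x.1) := by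
  obtain ⟨i, a⟩ := x
  simp only [mem_fix]
  constructor
  · intro h k hk
    have h1 := h k hk
    rw [Sigma.smul_mk] at h1
    exact eq_of_heq (Sigma.mk.inj_iff.mp h1).2
  · intro h k hk
    rw [Sigma.smul_mk, h k hk]

/-- the conjugate `γ⁻¹ K γ` -/
abbrev cj (K : Subgroup Γ) (γ : Γ) : Subgroup Γ := K.map (MulAut.conj γ⁻¹).toMonoidHom

omit [Finite Γ] in
theorem cj_le_iff (K L : Subgroup Γ) (γ : Γ) : cj K γ ≤ L ↔ ∀ k ∈ K, γ⁻¹ * k * γ ∈ L := by
  constructor
  · intro h k hk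
    have : γ⁻¹ * k * γ = (MulAut.conj γ⁻¹).toMonoidHom k := by simp
    rw [this]
    exact h (Subgroup.mem_map_of_mem _ hk)
  · rintro h _ ⟨k, hk, rfl⟩
    have : (MulAut.conj γ⁻¹).toMonoidHom k = γ⁻¹ * k * γ := by simp
    rw [this]
    exact h k hk

omit [Finite Γ] in
theorem card_cj (K : Subgroup Γ) (γ : Γ) : Nat.card (cj K γ) = Nat.card K :=
  Subgroup.card_map_of_injective (MulAut.conj γ⁻¹).injective

omit [Finite Γ] in
theorem mem_preimage_fix (K L : Subgroup Γ) (γ : Γ) :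
    γ ∈ (QuotientGroup.mk : Γ → Γ ⧸ L) ⁻¹' (fix K (Γ ⧸ L)) ↔ cj K γ ≤ L := by
  rw [cj_le_iff, Set.mem_preimage, mem_fix]
  have key : ∀ k : Γ, k • (QuotientGroup.mk γ : Γ ⧸ L) = QuotientGroup.mk γ ↔
      γ⁻¹ * k * γ ∈ L := by
    intro k
    rw [MulAction.Quotient.smul_mk, QuotientGroup.eq, smul_eq_mul, ← Subgroup.inv_mem_iff]
    have : ((k * γ)⁻¹ * γ)⁻¹ = γ⁻¹ * k * γ := by group
    rw [this]
  constructor
  · intro h k hk
    exact (key k).mp (h k hk)
  · intro h k hk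
    exact (key k).mpr (h k hk)

open scoped Classical in
theorem card_fix_quotient (K L : Subgroup Γ) :
    Nat.card L * (fix K (Γ ⧸ L)).ncard =
      (Finset.univ.filter (fun γ : Γ => cj K γ ≤ L)).card := by
  rw [← Nat.card_coe_set_eq, ← QuotientGroup.card_preimage_mk, Nat.card_eq_fintype_card,
    ← Fintype.card_subtype]
  apply Fintype.card_congr
  exact Equiv.subtypeEquivRight (fun γ => mem_preimage_fix K L γ)

/-- the fixed points of a sigma type -/
def fixSigmaEquiv {I : Type*} {A : I → Type*} [∀ i, MulAction Γ (A i)] (K : Subgroup Γ) :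
    {x : Σ i, A i // x ∈ fix K (Σ i, A i)} ≃ Σ i, {a : A i // a ∈ fix K (A i)} where
  toFun x := ⟨x.1.1, ⟨x.1.2, (mem_fix_sigma K x.1).mp x.2⟩⟩
  invFun y := ⟨⟨y.1, y.2.1⟩, (mem_fix_sigma K ⟨y.1, y.2.1⟩).mpr y.2.2⟩
  left_inv x := by
    apply Subtype.ext
    rfl
  right_inv y := by
    rfl

open scoped Classical in
theorem ncard_fix_XX (K : Subgroup Γ) :
    (fix K (XX 𝒢)).ncard = ∑ γ : Γ, ∑ L ∈ Finset.univ.filter
      (fun L : Subgroup Γ => 𝒢 L ∧ cj K γ ≤ L), wt 𝒢 L := by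
  have h1 : (fix K (XX 𝒢)).ncard = ∑ i : Idx 𝒢, (fix K (Γ ⧸ i.1.1)).ncard := by
    rw [← Nat.card_coe_set_eq, Nat.card_congr (fixSigmaEquiv K), Nat.card_sigma]
    apply Finset.sum_congr rfl
    intro i _
    rw [← Nat.card_coe_set_eq]
  have h2 : ∑ i : Idx 𝒢, (fix K (Γ ⧸ i.1.1)).ncard =
      ∑ L : {L : Subgroup Γ // 𝒢 L}, wt 𝒢 L.1 * (Nat.card L.1 * (fix K (Γ ⧸ L.1)).ncard) := by
    rw [Fintype.sum_sigma]
    apply Finset.sum_congr rfl
    intro L _
    show ∑ _y : Fin (Nat.card L.1 * wt 𝒢 L.1), (fix K (Γ ⧸ L.1)).ncard = _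
    rw [Finset.sum_const, Finset.card_univ, Fintype.card_fin, smul_eq_mul]
    ring
  have h3 : ∀ L : {L : Subgroup Γ // 𝒢 L},
      wt 𝒢 L.1 * (Nat.card L.1 * (fix K (Γ ⧸ L.1)).ncard) =
      ∑ γ : Γ, if cj K γ ≤ L.1 then wt 𝒢 L.1 else 0 := by
    intro L
    rw [card_fix_quotient, Finset.card_filter, Finset.mul_sum]
    apply Finset.sum_congr rfl
    intro γ _
    split_ifs <;> simp
  rw [h1, h2, Finset.sum_congr rfl (fun L _ => h3 L), Finset.sum_comm]
  apply Finset.sum_congr rfl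
  intro γ _
  have h4 : ∑ L : {L : Subgroup Γ // 𝒢 L}, (if cj K γ ≤ L.1 then wt 𝒢 L.1 else 0) =
      ∑ L ∈ Finset.univ.filter (fun L : Subgroup Γ => 𝒢 L),
        (if cj K γ ≤ L then wt 𝒢 L else 0) := by
    symm
    apply Finset.sum_subtype
    intro L
    simp
  rw [h4, ← Finset.sum_filter, Finset.filter_filter]

open scoped Classical in
theorem ncard_fix_XX_of_mem (hconj : ∀ (L : Subgroup Γ) (g : Γ), 𝒢 L →
    𝒢 (L.map (MulAut.conj g).toMonoidHom)) {K : Subgroup Γ} (hK : 𝒢 K) :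
    (fix K (XX 𝒢)).ncard = Nat.card Γ * cc 𝒢 (Nat.card K) := by
  rw [ncard_fix_XX]
  have h1 : ∀ γ : Γ, ∑ L ∈ Finset.univ.filter
      (fun L : Subgroup Γ => 𝒢 L ∧ cj K γ ≤ L), wt 𝒢 L = cc 𝒢 (Nat.card K) := by
    intro γ
    rw [sum_wt_ge 𝒢 (hconj K γ⁻¹ hK), card_cj]
  rw [Finset.sum_congr rfl (fun γ _ => h1 γ), Finset.sum_const, Finset.card_univ, smul_eq_mul,
    ← Nat.card_eq_fintype_card]

omit [Finite Γ] in
theorem stabilizer_sigma {I : Type*} {A : I → Type*} [∀ i, MulAction Γ (A i)] (i : I) (a : A i) :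
    MulAction.stabilizer Γ (⟨i, a⟩ : Σ i, A i) = MulAction.stabilizer Γ a := by
  ext g
  rw [MulAction.mem_stabilizer_iff, MulAction.mem_stabilizer_iff, Sigma.smul_mk]
  constructor
  · intro h
    exact eq_of_heq (Sigma.mk.inj_iff.mp h).2
  · intro h
    rw [h]

omit [Finite Γ] in
theorem stabilizer_mk (L : Subgroup Γ) (γ : Γ) :
    MulAction.stabilizer Γ (QuotientGroup.mk γ : Γ ⧸ L) =
      L.map (MulAut.conj γ).toMonoidHom := by
  have h1 : (QuotientGroup.mk γ : Γ ⧸ L) = γ • (QuotientGroup.mk (1 : Γ) : Γ ⧸ L) := by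
    rw [MulAction.Quotient.smul_mk, smul_eq_mul, mul_one]
  rw [h1, MulAction.stabilizer_smul_eq_stabilizer_map_conj, MulAction.stabilizer_quotient]

theorem exists_gset (hsub : ∀ L L' : Subgroup Γ, L ≤ L' → 𝒢 L' → 𝒢 L)
    (hconj : ∀ (L : Subgroup Γ) (g : Γ), 𝒢 L → 𝒢 (L.map (MulAut.conj g).toMonoidHom)) :
    ∃ (X : Type u) (_ : MulAction Γ X) (_ : Finite X),
      (∀ x : X, 𝒢 (MulAction.stabilizer Γ x)) ∧
      (∀ L, 𝒢 L → ∃ x : X, MulAction.stabilizer Γ x = L) ∧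
      (∀ K₁ K₂ : Subgroup Γ, (𝒢 K₁ ↔ 𝒢 K₂) → Nat.card K₁ = Nat.card K₂ →
        (fix K₁ X).ncard = (fix K₂ X).ncard) := by
  have hstab : ∀ x : XX 𝒢, 𝒢 (MulAction.stabilizer Γ x) := by
    rintro ⟨i, q⟩
    rw [stabilizer_sigma]
    induction q using QuotientGroup.induction_on with
    | H γ =>
      rw [stabilizer_mk]
      exact hconj _ γ i.1.2
  refine ⟨XX 𝒢, inferInstance, inferInstance, hstab, ?_, ?_⟩
  · intro L hL
    have hpos : 0 < Nat.card L * wt 𝒢 L := Nat.mul_pos Nat.card_pos (wt_pos 𝒢 L)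
    refine ⟨⟨⟨⟨L, hL⟩, ⟨0, hpos⟩⟩, QuotientGroup.mk (1 : Γ)⟩, ?_⟩
    rw [stabilizer_sigma]
    exact MulAction.stabilizer_quotient L
  · intro K₁ K₂ hiff hcard
    by_cases h1 : 𝒢 K₁
    · rw [ncard_fix_XX_of_mem 𝒢 hconj h1, ncard_fix_XX_of_mem 𝒢 hconj (hiff.mp h1), hcard]
    · have hempty : ∀ K : Subgroup Γ, ¬ 𝒢 K → fix K (XX 𝒢) = ∅ := by
        intro K hK
        rw [Set.eq_empty_iff_forall_notMem]
        intro x hx
        apply hK
        apply hsub K _ _ (hstab x)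
        intro k hk
        rw [MulAction.mem_stabilizer_iff]
        exact hx k hk
      rw [hempty K₁ h1, hempty K₂ (fun h => h1 (hiff.mpr h))]

end gset

end Cfsg.Agent.Lib.Helper2.Park
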