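/-
helper2: Park's theorem: every fusion system over a finite `p`-group is realized inside a
finite group.
-/
import Mathlib
import Cfsg.Prelude.Def_FusionSystem
import Cfsg.Agent.Lib.Helper2.Marks
import Cfsg.Agent.Lib.Helper2.ParkA
import Cfsg.Agent.Lib.Helper2.ParkB

set_option autoImplicit false

namespace Cfsg.Agent.Lib.Helper2.Park

open Cfsg Cfsg.Agent.Lib.Helper2.Marks

universe u

theorem park {Ω : Type u} [Group Ω] {S : Subgroup Ω} [Finite S] (F : FusionSystem S) :
    ∃ (G : Type u) (_ : Group G) (_ : Finite G) (ι : ↥S →* G), F.IsRealizedBy ι := by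
  obtain ⟨X, instA, instF, hstab, hex, hmarks⟩ := exists_gset (Γ := ↥S × ↥S) (IsFG F)
    (fun L L' h h' => isFG_of_le F h h') (fun L g h => isFG_conj F h g)
  -- the action
  let act : ↥S × ↥S →* Equiv.Perm X := MulAction.toPermHom (↥S × ↥S) X
  have hact : ∀ (g : ↥S × ↥S) (x : X), act g x = g • x := fun g x => rfl
  let lft : ↥S →* Equiv.Perm X := act.comp (MonoidHom.inl ↥S ↥S)
  let rgt : ↥S →* Equiv.Perm X := act.comp (MonoidHom.inr ↥S ↥S)
  have hlft : ∀ s : ↥S, lft s = act (s, 1) := fun s => rfl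
  have hrgt : ∀ s : ↥S, rgt s = act (1, s) := fun s => rfl
  have hlr : ∀ u v : ↥S, lft u * rgt v = act (u, v) := by
    intro u v
    rw [hlft, hrgt, ← map_mul]
    congr 1
    simp
  have hrl : ∀ u v : ↥S, rgt v * lft u = act (u, v) := by
    intro u v
    rw [hlft, hrgt, ← map_mul]
    congr 1
    simp
  let G : Subgroup (Equiv.Perm X) := Subgroup.centralizer (lft.range : Set (Equiv.Perm X))
  have hG : ∀ g : Equiv.Perm X, g ∈ G ↔ ∀ s : ↥S, lft s * g = g * lft s := by
    intro g
    rw [Subgroup.mem_centralizer_iff]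
    constructor
    · intro h s
      exact h _ ⟨s, rfl⟩
    · rintro h _ ⟨s, rfl⟩
      exact h s
  have hrgtG : ∀ u : ↥S, rgt u ∈ G := by
    intro u
    rw [hG]
    intro s
    rw [hlr, hrl]
  let ι : ↥S →* G := rgt.codRestrict G hrgtG
  have hι : ∀ u : ↥S, ((ι u : G) : Equiv.Perm X) = rgt u := fun u => rfl
  obtain ⟨x0, hx0⟩ := hex (diag S) (isFG_diag F)
  refine ⟨G, inferInstance, inferInstance, ι, ?_, ?_⟩
  · -- injectivity
    rw [injective_iff_map_eq_one]
    intro u hu
    have h1 : rgt u = 1 := by rw [← hι, hu]; rfl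
    have h2 : ((1 : ↥S), u) ∈ MulAction.stabilizer (↥S × ↥S) x0 := by
      rw [MulAction.mem_stabilizer_iff, ← hact, ← hrgt, h1]
      rfl
    rw [hx0, mem_diag] at h2
    exact h2.symm
  · intro P hP φ hφ
    constructor
    · intro hφF
      have hinj : Function.Injective φ := F.injective_of_mem hφF
      have : Finite ↥P := Finite.of_injective (Subgroup.inclusion hP)
        (Subgroup.inclusion_injective hP)
      have hfix : ∀ (j : ↥S × ↥P →* ↥S × ↥S) (K : Subgroup (↥S × ↥P)),
          {x : X | ∀ k ∈ K, (act.comp j) k x = x} = fix (K.map j) X := by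
        intro j K
        ext x
        simp only [Set.mem_ofPred_eq, mem_fix]
        constructor
        · rintro h _ ⟨k, hk, rfl⟩
          exact h k hk
        · intro h k hk
          exact h (j k) (Subgroup.mem_map_of_mem j hk)
      obtain ⟨e, he⟩ := marks_hom (act.comp (j1 hP)) (act.comp (j2 φ hφ)) (by
        intro K
        rw [hfix, hfix]
        apply hmarks
        · exact isFG_map_iff hP φ hφ hφF K
        · rw [Subgroup.card_map_of_injective (j1_injective hP),
            Subgroup.card_map_of_injective (j2_injective φ hφ hinj)])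
      have heG : e ∈ G := by
        rw [hG]
        intro s
        ext z
        rw [Equiv.Perm.mul_apply, Equiv.Perm.mul_apply]
        have h1 := he (s, 1) z
        have h2 : (act.comp (j1 hP)) (s, 1) = lft s := by
          rw [hlft]
          show act (s, Subgroup.inclusion hP 1) = _
          rw [map_one]
        have h3 : (act.comp (j2 φ hφ)) (s, 1) = lft s := by
          rw [hlft]
          show act (s, φ.codRestrict S hφ 1) = _
          rw [map_one]
        rw [h2, h3] at h1
        exact h1.symm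
      refine ⟨⟨e, heG⟩, ?_⟩
      intro x
      apply Subtype.ext
      show rgt ⟨φ x, hφ x⟩ = e * rgt ⟨x, hP x.2⟩ * e⁻¹
      rw [eq_mul_inv_iff_mul_eq]
      ext z
      rw [Equiv.Perm.mul_apply, Equiv.Perm.mul_apply]
      exact (he (1, x) z).symm
    · rintro ⟨g, hg⟩
      have hgG : ∀ s : ↥S, lft s * (g : Equiv.Perm X) = g * lft s := (hG g).mp g.2
      have hg' : ∀ x : P, rgt ⟨φ x, hφ x⟩ =
          (g : Equiv.Perm X) * rgt ⟨x, hP x.2⟩ * (g : Equiv.Perm X)⁻¹ := by
        intro x
        exact congrArg Subtype.val (hg x)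
      let E : Subgroup (↥S × ↥S) := ((Subgroup.inclusion hP).prod (φ.codRestrict S hφ)).range
      have hEchar : ∀ u v : ↥S, (u, v) ∈ E ↔ ∃ x : P, (x : Ω) = u ∧ φ x = v := by
        intro u v
        constructor
        · rintro ⟨x, hx⟩
          have h1 : Subgroup.inclusion hP x = u := congrArg Prod.fst hx
          have h2 : φ.codRestrict S hφ x = v := congrArg Prod.snd hx
          exact ⟨x, by rw [← h1]; rfl, by rw [← h2]; rfl⟩
        · rintro ⟨x, hx, hv⟩
          refine ⟨x, ?_⟩
          show (Subgroup.inclusion hP x, φ.codRestrict S hφ x) = (u, v)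
          rw [Prod.mk.injEq]
          exact ⟨Subtype.ext hx, Subtype.ext hv⟩
      have hEle : E ≤ MulAction.stabilizer (↥S × ↥S) ((g : Equiv.Perm X) x0) := by
        rintro _ ⟨x, rfl⟩
        rw [MulAction.mem_stabilizer_iff, ← hact]
        show act (⟨x, hP x.2⟩, ⟨φ x, hφ x⟩) ((g : Equiv.Perm X) x0) = (g : Equiv.Perm X) x0
        have e1 : ∀ z : X, ((g : Equiv.Perm X)⁻¹) ((g : Equiv.Perm X) z) = z := fun z => by simp
        have e2 : ∀ (s : ↥S) (z : X), lft s ((g : Equiv.Perm X) z) =
            (g : Equiv.Perm X) (lft s z) := by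
          intro s z
          have := congrArg (fun f : Equiv.Perm X => f z) (hgG s)
          simpa using this
        have e3 : act ((⟨x, hP x.2⟩ : ↥S), (⟨x, hP x.2⟩ : ↥S)) x0 = x0 := by
          rw [hact]
          have : ((⟨x, hP x.2⟩ : ↥S), (⟨x, hP x.2⟩ : ↥S)) ∈
              MulAction.stabilizer (↥S × ↥S) x0 := by
            rw [hx0, mem_diag]
          exact MulAction.mem_stabilizer_iff.mp this
        calc act (⟨x, hP x.2⟩, ⟨φ x, hφ x⟩) ((g : Equiv.Perm X) x0)
            = (lft ⟨x, hP x.2⟩ * ((g : Equiv.Perm X) * rgt ⟨x, hP x.2⟩ *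
                (g : Equiv.Perm X)⁻¹)) ((g : Equiv.Perm X) x0) := by rw [← hlr, hg']
          _ = lft ⟨x, hP x.2⟩ ((g : Equiv.Perm X) (rgt ⟨x, hP x.2⟩
                (((g : Equiv.Perm X)⁻¹) ((g : Equiv.Perm X) x0)))) := rfl
          _ = lft ⟨x, hP x.2⟩ ((g : Equiv.Perm X) (rgt ⟨x, hP x.2⟩ x0)) := by rw [e1]
          _ = (g : Equiv.Perm X) (lft ⟨x, hP x.2⟩ (rgt ⟨x, hP x.2⟩ x0)) := e2 _ _
          _ = (g : Equiv.Perm X) ((lft ⟨x, hP x.2⟩ * rgt ⟨x, hP x.2⟩) x0) := rfl
          _ = (g : Equiv.Perm X) x0 := by rw [hlr, e3]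
      exact mem_of_isFG_graph hP φ hφ (isFG_of_le F hEle (hstab _)) hEchar

end Cfsg.Agent.Lib.Helper2.Park
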