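/-
helper2: centralizer algebra of a complex representation: multiplicity-freeness versus commutativity
(used for permutation characters, S0718 / S0717).
-/
import Mathlib
import Cfsg.Prelude.Def_Characters
import Cfsg.Prelude.Def_Perm
import Cfsg.Agent.Lib.Lead.CharEquiv

set_option autoImplicit false
open Representation Module
open scoped ComplexConjugate

namespace Cfsg.Agent.Lib.Helper2.PermCent
open Cfsg.Agent.CharLib

universe u v w

variable {G : Type u} [Group G] [Fintype G]

/-- Equivariant left inverse of an injective intertwining map (Maschke, by averaging). -/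
theorem exists_leftInverse {V : Type v} {W : Type w} [AddCommGroup V] [Module ℂ V]
    [AddCommGroup W] [Module ℂ W]
    (σ : Representation ℂ G W) (ρ : Representation ℂ G V) (f : IntertwiningMap σ ρ)
    (hf : Function.Injective f) : ∃ p : IntertwiningMap ρ σ, ∀ w, p (f w) = w := by
  classical
  have hG : (Nat.card G : ℂ) ≠ 0 := card_ne_zero_complex
  obtain ⟨p₀, hp₀⟩ := LinearMap.exists_leftInverse_of_injective f.toLinearMap
    (LinearMap.ker_eq_bot.mpr hf)
  have hp₀' : ∀ w, p₀ (f w) = w := fun w => LinearMap.congr_fun hp₀ w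
  let P : V →ₗ[ℂ] W := (Nat.card G : ℂ)⁻¹ • ∑ g : G, (σ g⁻¹) ∘ₗ p₀ ∘ₗ (ρ g)
  have hP : ∀ v, P v = (Nat.card G : ℂ)⁻¹ • ∑ g : G, σ g⁻¹ (p₀ (ρ g v)) := by
    intro v
    simp only [P, LinearMap.smul_apply, LinearMap.sum_apply, LinearMap.comp_apply]
  refine ⟨P.intertwiningMap_of_isIntertwiningMap ρ σ ?_, ?_⟩
  · intro h v
    rw [hP, hP, map_smul, map_sum]
    congr 1
    refine Fintype.sum_equiv (Equiv.mulRight h) _ _ ?_
    intro g
    simp only [Equiv.coe_mulRight, mul_inv_rev, map_mul, Module.End.mul_apply]
    rw [← Module.End.mul_apply (σ h), ← map_mul, mul_inv_cancel, map_one, Module.End.one_apply]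
  · intro w
    show P (f w) = w
    rw [hP]
    have : ∀ g : G, σ g⁻¹ (p₀ (ρ g (f w))) = w := by
      intro g
      rw [← f.isIntertwining, hp₀', ← Module.End.mul_apply, ← map_mul, inv_mul_cancel, map_one,
        Module.End.one_apply]
    rw [Finset.sum_congr rfl (fun g _ => this g), Finset.sum_const, Finset.card_univ,
      ← Nat.card_eq_fintype_card, ← Nat.cast_smul_eq_nsmul ℂ, smul_smul, inv_mul_cancel₀ hG, one_smul]


variable {V : Type v} [AddCommGroup V] [Module ℂ V] [FiniteDimensional ℂ V]

/-- If the centralizer algebra of `ρ` is commutative then `ρ` is multiplicity-free. -/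
theorem multFree_of_comm (ρ : Representation ℂ G V)
    (hcomm : ∀ S T : IntertwiningMap ρ ρ, ∀ v, S (T v) = T (S v))
    {χ : G → ℂ} (hχ : IsIrrCharacter G χ) :
    classInner ρ.character χ = 0 ∨ classInner ρ.character χ = 1 := by
  obtain ⟨n, σ, hirr, rfl⟩ := hχ
  have hfin := finrank_intertwiningMap σ ρ
  rw [← hfin]
  have hle : finrank ℂ (IntertwiningMap σ ρ) ≤ 1 := by
    by_cases h0 : ∀ f : IntertwiningMap σ ρ, f = 0
    · have : Subsingleton (IntertwiningMap σ ρ) := ⟨fun a b => by rw [h0 a, h0 b]⟩
      rw [finrank_zero_of_subsingleton]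
      omega
    · push Not at h0
      obtain ⟨f₁, hf₁⟩ := h0
      have := hirr
      have hinj : Function.Injective f₁ :=
        (IsIrreducible.injective_or_eq_zero f₁).resolve_right hf₁
      obtain ⟨p, hp⟩ := exists_leftInverse σ ρ f₁ hinj
      apply finrank_le_one f₁
      intro f₂
      obtain ⟨c, hc⟩ :=
        (IsIrreducible.algebraMap_intertwiningMap_bijective_of_isAlgClosed (ρ := σ)).2 (p.comp f₂)
      refine ⟨c, ?_⟩
      apply IntertwiningMap.ext
      apply LinearMap.ext
      intro w
      have h1 := hcomm (f₁.comp p) (f₂.comp p) (f₁ w)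
      simp only [IntertwiningMap.comp_apply, hp] at h1
      have h2 : p (f₂ w) = c • w := by
        have := congrArg (fun F : IntertwiningMap σ σ => F w) hc
        simpa using this.symm
      rw [h2, map_smul] at h1
      exact h1
  interval_cases h : finrank ℂ (IntertwiningMap σ ρ) <;> simp

/-- If `ρ` is multiplicity-free then its centralizer algebra is commutative. -/
theorem comm_of_multFree (ρ : Representation ℂ G V)
    (hmf : ∀ χ : G → ℂ, IsIrrCharacter G χ →
      classInner ρ.character χ = 0 ∨ classInner ρ.character χ = 1)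
    (S T : IntertwiningMap ρ ρ) (v : V) : S (T v) = T (S v) := by
  have key : ∀ (V' : Type v) [AddCommGroup V'] [Module ℂ V'] [FiniteDimensional ℂ V']
      (ρ' : Representation ℂ G V'),
      ∀ ι : IntertwiningMap ρ' ρ, ∀ v', S (T (ι v')) = T (S (ι v')) := by
    intro V' _ _ _ ρ'
    refine rep_induction (G := G) (fun V' _ _ _ ρ' =>
      ∀ ι : IntertwiningMap ρ' ρ, ∀ v', S (T (ι v')) = T (S (ι v'))) ?_ ?_ ?_ V' ρ'
    · intro V' _ _ _ ρ' hV' ι v'
      rw [Subsingleton.elim v' 0]
      simp only [map_zero]
    · intro V' _ _ _ ρ' hirr ι v'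
      have hχ := isIrrCharacter_of_rep ρ' hirr
      have hfin := finrank_intertwiningMap ρ' ρ
      have hle : finrank ℂ (IntertwiningMap ρ' ρ) ≤ 1 := by
        rcases hmf _ hχ with h | h
        · rw [h] at hfin
          have : finrank ℂ (IntertwiningMap ρ' ρ) = 0 := by exact_mod_cast hfin
          omega
        · rw [h] at hfin
          have : finrank ℂ (IntertwiningMap ρ' ρ) = 1 := by exact_mod_cast hfin
          omega
      obtain ⟨g₀, hg₀⟩ := finrank_le_one_iff.mp hle
      obtain ⟨c₀, hc₀⟩ := hg₀ ι
      obtain ⟨a, ha⟩ := hg₀ (S.comp ι)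
      obtain ⟨b, hb⟩ := hg₀ (T.comp ι)
      by_cases hc0 : c₀ = 0
      · have hι : ∀ x, ι x = 0 := by
          intro x
          rw [← hc₀, hc0, zero_smul]
          rfl
        rw [hι]
        simp only [map_zero]
      · have hg : ∀ x, g₀ x = c₀⁻¹ • ι x := by
          intro x
          rw [← hc₀, IntertwiningMap.smul_apply, smul_smul, inv_mul_cancel₀ hc0, one_smul]
        have hS : ∀ x, S (ι x) = (a * c₀⁻¹) • ι x := by
          intro x
          have : (S.comp ι) x = (a • g₀) x := by rw [ha]
          rw [IntertwiningMap.comp_apply, IntertwiningMap.smul_apply, hg, smul_smul] at this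
          exact this
        have hT : ∀ x, T (ι x) = (b * c₀⁻¹) • ι x := by
          intro x
          have : (T.comp ι) x = (b • g₀) x := by rw [hb]
          rw [IntertwiningMap.comp_apply, IntertwiningMap.smul_apply, hg, smul_smul] at this
          exact this
        rw [hT, map_smul, hS, map_smul, hT, smul_smul, smul_smul, mul_comm]
    · intro V' _ _ _ ρ' W W' hc ihW ihW' ι v'
      have hc' := subrep_isCompl_toSubmodule hc
      have hv' : v' ∈ W.toSubmodule ⊔ W'.toSubmodule := by
        rw [hc'.sup_eq_top]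
        trivial
      obtain ⟨w, hw, w', hw', rfl⟩ := Submodule.mem_sup.mp hv'
      let jW : IntertwiningMap W.toRepresentation ρ' := ⟨W.toSubmodule.subtype, fun g => rfl⟩
      let jW' : IntertwiningMap W'.toRepresentation ρ' := ⟨W'.toSubmodule.subtype, fun g => rfl⟩
      have h1 := ihW (ι.comp jW) ⟨w, hw⟩
      have h2 := ihW' (ι.comp jW') ⟨w', hw'⟩
      have e1 : (ι.comp jW) ⟨w, hw⟩ = ι w := rfl
      have e2 : (ι.comp jW') ⟨w', hw'⟩ = ι w' := rfl
      rw [e1] at h1
      rw [e2] at h2
      rw [map_add, map_add, map_add, map_add, map_add, h1, h2]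
  exact key V ρ (IntertwiningMap.id ρ) v


omit [Fintype G] in
/-- Membership in the invariants of `linHom ρ ρ` means commuting with the action. -/
theorem mem_invariants_linHom_iff {V : Type v} [AddCommGroup V] [Module ℂ V]
    (ρ : Representation ℂ G V) (S : V →ₗ[ℂ] V) :
    S ∈ (ρ.linHom ρ).invariants ↔ ∀ g, S ∘ₗ ρ g = ρ g ∘ₗ S := by
  rw [Representation.mem_invariants]
  constructor
  · intro h g
    have h1 := h g
    rw [Representation.linHom_apply] at h1
    apply LinearMap.ext
    intro x
    have h2 := LinearMap.congr_fun h1 (ρ g x)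
    simp only [LinearMap.comp_apply] at h2 ⊢
    rw [← h2, ← Module.End.mul_apply (ρ g⁻¹), ← map_mul, inv_mul_cancel, map_one,
      Module.End.one_apply]
  · intro h g
    rw [Representation.linHom_apply]
    apply LinearMap.ext
    intro x
    have h2 := LinearMap.congr_fun (h g) (ρ g⁻¹ x)
    simp only [LinearMap.comp_apply] at h2 ⊢
    rw [← h2, ← Module.End.mul_apply (ρ g), ← map_mul, mul_inv_cancel, map_one,
      Module.End.one_apply]

omit [Fintype G] in
/-- The character of the permutation representation on functions counts fixed points. -/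
theorem permRep_character {Ω : Type w} [Fintype Ω] [MulAction G Ω] (g : G) :
    (Cfsg.permRep ℂ G Ω).character g = (Nat.card (MulAction.fixedBy Ω g) : ℂ) := by
  classical
  unfold Representation.character
  rw [LinearMap.trace_eq_matrix_trace ℂ (Pi.basisFun ℂ Ω), Matrix.trace]
  have : ∀ x : Ω, (LinearMap.toMatrix (Pi.basisFun ℂ Ω) (Pi.basisFun ℂ Ω)
      (Cfsg.permRep ℂ G Ω g)).diag x = if g • x = x then 1 else 0 := by
    intro x
    rw [Matrix.diag_apply, LinearMap.toMatrix_apply, Pi.basisFun_apply, Pi.basisFun_repr]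
    show (Pi.single x (1 : ℂ) : Ω → ℂ) (g⁻¹ • x) = _
    rw [Pi.single_apply]
    by_cases h : g • x = x
    · rw [if_pos h, if_pos]
      rw [inv_smul_eq_iff, h]
    · rw [if_neg h, if_neg]
      intro h'
      apply h
      rw [inv_smul_eq_iff] at h'
      exact h'.symm
  rw [Finset.sum_congr rfl (fun x _ => this x), Finset.sum_boole, Nat.card_eq_fintype_card]
  congr 1
  rw [Fintype.card_subtype]
  rfl

end Cfsg.Agent.Lib.Helper2.PermCent
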