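/-
helper2: real structure on permutation modules; real antisymmetric centralizer elements vanish when the
permutation character is multiplicity-free with real constituents (towards S0717).
-/
import Mathlib
import Cfsg.Prelude.Def_Characters
import Cfsg.Prelude.Def_Perm
import Cfsg.Agent.Lib.Lead.CharEquiv
import Cfsg.Agent.Lib.Helper6.CliffordCorr
import Cfsg.Agent.Lib.Helper2.PermCent
import Cfsg.Agent.Lib.Lead.FrobSchur
import Cfsg.Agent.Lib.Helper6.CharExtra

set_option autoImplicit false
open Representation Module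
open scoped ComplexConjugate Matrix

namespace Cfsg.Agent.Lib.Helper2.PermReal
open Cfsg.Agent.CharLib Cfsg.Agent.Lib.Helper2.PermCent

universe u v w

/-- Complex conjugate of an endomorphism of a coordinate space. -/
noncomputable def conjLin {ι : Type*} (L : (ι → ℂ) →ₗ[ℂ] (ι → ℂ)) : (ι → ℂ) →ₗ[ℂ] (ι → ℂ) where
  toFun f := star (L (star f))
  map_add' f₁ f₂ := by rw [star_add, map_add, star_add]
  map_smul' c f := by
    rw [star_smul, map_smul, star_smul, star_star]
    rfl

theorem conjLin_apply {ι : Type*} (L : (ι → ℂ) →ₗ[ℂ] (ι → ℂ)) (f : ι → ℂ) :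
    conjLin L f = star (L (star f)) := rfl

theorem trace_conjLin {ι : Type*} [Fintype ι] (L : (ι → ℂ) →ₗ[ℂ] (ι → ℂ)) :
    LinearMap.trace ℂ (ι → ℂ) (conjLin L) = conj (LinearMap.trace ℂ (ι → ℂ) L) := by
  classical
  rw [LinearMap.trace_eq_matrix_trace ℂ (Pi.basisFun ℂ ι), LinearMap.trace_eq_matrix_trace ℂ (Pi.basisFun ℂ ι),
    Matrix.trace, Matrix.trace, map_sum]
  apply Finset.sum_congr rfl
  intro i _
  rw [Matrix.diag_apply, Matrix.diag_apply, LinearMap.toMatrix_apply, LinearMap.toMatrix_apply,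
    Pi.basisFun_apply, Pi.basisFun_repr, Pi.basisFun_repr, conjLin_apply]
  have : star (Pi.single i (1 : ℂ) : ι → ℂ) = Pi.single i 1 := by
    ext j
    rw [Pi.star_apply, Pi.single_apply]
    split_ifs <;> simp
  rw [this]
  rfl

/-- The complex conjugate representation on a coordinate space. -/
noncomputable def starRep {G : Type u} [Group G] {ι : Type*} (σ : Representation ℂ G (ι → ℂ)) :
    Representation ℂ G (ι → ℂ) where
  toFun g := conjLin (σ g)
  map_one' := by
    apply LinearMap.ext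
    intro f
    rw [conjLin_apply, map_one, Module.End.one_apply, Module.End.one_apply, star_star]
  map_mul' g h := by
    apply LinearMap.ext
    intro f
    rw [conjLin_apply, map_mul, Module.End.mul_apply, Module.End.mul_apply, conjLin_apply, conjLin_apply,
      star_star]

theorem starRep_apply {G : Type u} [Group G] {ι : Type*} (σ : Representation ℂ G (ι → ℂ)) (g : G)
    (f : ι → ℂ) : starRep σ g f = star (σ g (star f)) := rfl

theorem starRep_character {G : Type u} [Group G] {ι : Type*} [Fintype ι]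
    (σ : Representation ℂ G (ι → ℂ)) (g : G) :
    (starRep σ).character g = conj (σ.character g) := by
  unfold Representation.character
  exact trace_conjLin (σ g)


variable {G : Type u} [Group G] {Ω : Type w} [Fintype Ω] [MulAction G Ω]

/-- Eigenspaces of an equivariant matrix, as subrepresentations of the permutation module. -/
noncomputable def eigSub (M : Matrix Ω Ω ℂ)
    (hcomm : ∀ (g : G) (f : Ω → ℂ), M *ᵥ (permRep ℂ G Ω g f) = permRep ℂ G Ω g (M *ᵥ f)) (c : ℂ) :
    Subrepresentation (permRep ℂ G Ω) where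
  toSubmodule :=
    { carrier := {f | M *ᵥ f = c • f}
      add_mem' := by
        intro f₁ f₂ h₁ h₂
        change M *ᵥ f₁ = c • f₁ at h₁
        change M *ᵥ f₂ = c • f₂ at h₂
        change M *ᵥ (f₁ + f₂) = c • (f₁ + f₂)
        rw [Matrix.mulVec_add, h₁, h₂, smul_add]
      zero_mem' := by
        change M *ᵥ (0 : Ω → ℂ) = c • (0 : Ω → ℂ)
        rw [Matrix.mulVec_zero, smul_zero]
      smul_mem' := by
        intro a f hf
        change M *ᵥ f = c • f at hf
        change M *ᵥ (a • f) = c • (a • f)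
        rw [Matrix.mulVec_smul, hf, smul_comm] }
  apply_mem_toSubmodule g f hf := by
    change M *ᵥ f = c • f at hf
    change M *ᵥ (permRep ℂ G Ω g f) = c • permRep ℂ G Ω g f
    rw [hcomm, hf, map_smul]

theorem mem_eigSub (M : Matrix Ω Ω ℂ)
    (hcomm : ∀ (g : G) (f : Ω → ℂ), M *ᵥ (permRep ℂ G Ω g f) = permRep ℂ G Ω g (M *ᵥ f)) (c : ℂ)
    (f : Ω → ℂ) : f ∈ (eigSub M hcomm c).toSubmodule ↔ M *ᵥ f = c • f := Iff.rfl


omit [Fintype Ω] in
theorem permRep_star (g : G) (f : Ω → ℂ) :
    permRep ℂ G Ω g (star f) = star (permRep ℂ G Ω g f) := rfl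

/-- If the permutation character is multiplicity-free with real constituents, every real antisymmetric
matrix commuting with the group vanishes. -/
theorem antisymm_real_eq_zero [Fintype G]
    (H : ∀ χ : G → ℂ, IsIrrCharacter G χ → classInner (permRep ℂ G Ω).character χ ≠ 0 →
        classInner (permRep ℂ G Ω).character χ = 1 ∧ ∀ g, conj (χ g) = χ g)
    (M : Matrix Ω Ω ℂ) (hreal : ∀ x y, conj (M x y) = M x y) (hanti : ∀ x y, M y x = - M x y)
    (hinv : ∀ (g : G) x y, M (g • x) (g • y) = M x y) : M = 0 := by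
  classical
  by_contra hM
  have hcomm : ∀ (g : G) (f : Ω → ℂ), M *ᵥ (permRep ℂ G Ω g f) = permRep ℂ G Ω g (M *ᵥ f) := by
    intro g f
    funext x
    show ∑ y, M x y * f (g⁻¹ • y) = ∑ y, M (g⁻¹ • x) y * f y
    refine (Fintype.sum_equiv (MulAction.toPerm g⁻¹) _ _ ?_)
    intro y
    show M x y * f (g⁻¹ • y) = M (g⁻¹ • x) (g⁻¹ • y) * f (g⁻¹ • y)
    rw [hinv]
  have hstar : ∀ f : Ω → ℂ, M *ᵥ (star f) = star (M *ᵥ f) := by
    intro f
    funext x
    show ∑ y, M x y * star (f y) = star (∑ y, M x y * f y)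
    rw [star_sum]
    apply Finset.sum_congr rfl
    intro y _
    rw [star_mul', Complex.star_def, hreal]
  have hH : (Complex.I • M).IsHermitian := by
    apply Matrix.IsHermitian.ext
    intro x y
    rw [Matrix.smul_apply, Matrix.smul_apply, smul_eq_mul, smul_eq_mul, star_mul', Complex.star_def,
      Complex.conj_I, hreal, hanti x y]
    ring
  have hne : Complex.I • M ≠ 0 := by
    intro h
    apply hM
    rcases smul_eq_zero.mp h with h | h
    · exact absurd h Complex.I_ne_zero
    · exact h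
  obtain ⟨v, t, ht, hv, hvt⟩ := Matrix.IsHermitian.exists_eigenvector_of_ne_zero hH hne
  set lam : ℂ := -(Complex.I * t) with hlam
  have hlam0 : lam ≠ 0 := by
    rw [hlam, neg_ne_zero]
    exact mul_ne_zero Complex.I_ne_zero (by exact_mod_cast ht)
  have hlamc : conj lam = -lam := by
    rw [hlam, map_neg, map_mul, Complex.conj_I, Complex.conj_ofReal]
    ring
  have hMv : M *ᵥ v = lam • v := by
    have h1 : Complex.I • (M *ᵥ v) = (t : ℂ) • v := by
      rw [← Matrix.smul_mulVec, hvt]
      funext x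
      rw [Pi.smul_apply, Pi.smul_apply, Complex.real_smul, smul_eq_mul]
    have h2 : M *ᵥ v = (-Complex.I) • (Complex.I • (M *ᵥ v)) := by
      rw [smul_smul, neg_mul, Complex.I_mul_I, neg_neg, one_smul]
    rw [h2, h1, smul_smul, hlam]
    congr 1
    ring
  set Epos := eigSub M hcomm lam with hEpos
  set Eneg := eigSub M hcomm (-lam) with hEneg
  have hdisj : ∀ f : Ω → ℂ, f ∈ Epos.toSubmodule → f ∈ Eneg.toSubmodule → f = 0 := by
    intro f h1 h2
    rw [mem_eigSub] at h1 h2
    have h3 : (2 * lam) • f = 0 := by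
      rw [two_mul, add_smul]
      nth_rewrite 1 [← h1]
      rw [h2, neg_smul, neg_add_cancel]
    rcases smul_eq_zero.mp h3 with h | h
    · exfalso
      exact hlam0 (by simpa using h)
    · exact h
  have hstarmem : ∀ f : Ω → ℂ, f ∈ Epos.toSubmodule → star f ∈ Eneg.toSubmodule := by
    intro f h1
    rw [mem_eigSub] at h1 ⊢
    rw [hstar, h1, star_smul, Complex.star_def, hlamc]
  have hvmem : v ∈ Epos.toSubmodule := hMv
  -- the character of the eigenspace
  set σE := Epos.toRepresentation with hσE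
  have hψ : IsCharacter G σE.character := isCharacter_of_rep σE
  have hψ0 : σE.character ≠ 0 := by
    intro h0
    have h1 := congrFun h0 1
    rw [Representation.char_one, Pi.zero_apply] at h1
    have h2 : finrank ℂ Epos.toSubmodule = 0 := by exact_mod_cast h1
    have h3 : Epos.toSubmodule = ⊥ := Submodule.finrank_eq_zero.mp h2
    rw [h3, Submodule.mem_bot] at hvmem
    exact hv hvmem
  obtain ⟨χ, hχ, hχne⟩ := Cfsg.Agent.Lib.Helper6.IsCharacter.exists_constituent hψ hψ0
  obtain ⟨n, σ, hirr, rfl⟩ := hχ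
  have hfin1 := finrank_intertwiningMap σ σE
  have hpos1 : 0 < finrank ℂ (IntertwiningMap σ σE) := by
    rcases Nat.eq_zero_or_pos (finrank ℂ (IntertwiningMap σ σE)) with h | h
    · rw [h, Nat.cast_zero] at hfin1
      exact absurd hfin1.symm hχne
    · exact h
  obtain ⟨f₁, hf₁⟩ := (Module.finrank_pos_iff_exists_ne_zero (R := ℂ)
    (M := IntertwiningMap σ σE)).mp hpos1
  let jE : IntertwiningMap σE (permRep ℂ G Ω) := ⟨Epos.toSubmodule.subtype, fun g => rfl⟩
  set F₁ : IntertwiningMap σ (permRep ℂ G Ω) := jE.comp f₁ with hF₁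
  have hF₁mem : ∀ w, F₁ w ∈ Epos.toSubmodule := fun w => (f₁ w).2
  obtain ⟨w₀, hw₀⟩ : ∃ w, F₁ w ≠ 0 := by
    by_contra hcon
    push Not at hcon
    apply hf₁
    apply IntertwiningMap.ext
    apply LinearMap.ext
    intro w
    apply Subtype.ext
    exact hcon w
  have hF₁ne : F₁ ≠ 0 := by
    intro h0
    apply hw₀
    rw [h0]
    rfl
  have hfin2 := finrank_intertwiningMap σ (permRep ℂ G Ω)
  have hpos2 : 0 < finrank ℂ (IntertwiningMap σ (permRep ℂ G Ω)) :=
    (Module.finrank_pos_iff_exists_ne_zero (R := ℂ)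
      (M := IntertwiningMap σ (permRep ℂ G Ω))).mpr ⟨F₁, hF₁ne⟩
  have hne2 : classInner (permRep ℂ G Ω).character σ.character ≠ 0 := by
    rw [← hfin2]
    exact_mod_cast hpos2.ne'
  obtain ⟨hone, hσreal⟩ := H _ (⟨n, σ, hirr, rfl⟩) hne2
  have hfr1 : finrank ℂ (IntertwiningMap σ (permRep ℂ G Ω)) = 1 := by
    rw [hone] at hfin2
    exact_mod_cast hfin2
  -- the conjugate representation is equivalent to σ
  have hchar : σ.character = (starRep σ).character := by
    funext g
    rw [starRep_character, hσreal]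
  obtain ⟨e⟩ := nonempty_equiv_of_character_eq σ (starRep σ) hchar
  let F₂lin : (Fin n → ℂ) →ₗ[ℂ] (Ω → ℂ) :=
    { toFun := fun w => star (F₁ (star (e w)))
      map_add' := by
        intro a b
        rw [map_add, star_add, map_add, star_add]
      map_smul' := by
        intro c a
        rw [map_smul, star_smul, map_smul, star_smul, star_star]
        rfl }
  have hF₂int : ∀ (g : G) (w : Fin n → ℂ), F₂lin (σ g w) = permRep ℂ G Ω g (F₂lin w) := by
    intro g w
    show star (F₁ (star (e (σ g w)))) = permRep ℂ G Ω g (star (F₁ (star (e w))))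
    have h1 : e (σ g w) = starRep σ g (e w) :=
      IntertwiningMap.isIntertwining _ _ e.toIntertwiningMap g w
    rw [h1, starRep_apply, star_star, F₁.isIntertwining, permRep_star]
  let F₂ : IntertwiningMap σ (permRep ℂ G Ω) := F₂lin.intertwiningMap_of_isIntertwiningMap _ _ hF₂int
  obtain ⟨c, hc⟩ := (finrank_eq_one_iff_of_nonzero' F₁ hF₁ne).mp hfr1 F₂
  set w' : Fin n → ℂ := e.symm (star w₀) with hw'
  have h1 : F₂ w' = star (F₁ w₀) := by
    show star (F₁ (star (e (e.symm (star w₀))))) = star (F₁ w₀)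
    rw [Representation.Equiv.apply_symm_apply, star_star]
  have h2 : F₂ w' = c • F₁ w' := by
    rw [← hc]
    rfl
  have h3 : star (F₁ w₀) = 0 := by
    apply hdisj
    · rw [← h1, h2]
      exact Epos.toSubmodule.smul_mem c (hF₁mem w')
    · exact hstarmem _ (hF₁mem w₀)
  apply hw₀
  have := congrArg star h3
  rwa [star_star, star_zero] at this


theorem card_fixedBy_eq_sum [DecidableEq Ω] (g : G) :
    (Nat.card (MulAction.fixedBy Ω g) : ℂ) = ∑ a : Ω, if g • a = a then (1 : ℂ) else 0 := by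
  rw [Finset.sum_boole, Nat.card_eq_fintype_card, Fintype.card_subtype]
  rfl

/-- If every pair of points is interchanged by some group element then
`∑ π(g²) = ∑ π(g)²` for the permutation character `π`. -/
theorem sum_fixed_sq_of_generous [Fintype G]
    (hgt : ∀ a b : Ω, ∃ g : G, g • a = b ∧ g • b = a) :
    ∑ g : G, (Nat.card (MulAction.fixedBy Ω (g * g)) : ℂ) =
      ∑ g : G, (Nat.card (MulAction.fixedBy Ω g) : ℂ) * (Nat.card (MulAction.fixedBy Ω g) : ℂ) := by
  classical
  have hL : ∑ g : G, (Nat.card (MulAction.fixedBy Ω (g * g)) : ℂ) =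
      ∑ a : Ω, ∑ b : Ω, ∑ g : G, if g • a = b ∧ g • b = a then (1 : ℂ) else 0 := by
    have h1 : ∀ g : G, (Nat.card (MulAction.fixedBy Ω (g * g)) : ℂ) =
        ∑ a : Ω, ∑ b : Ω, if g • a = b ∧ g • b = a then (1 : ℂ) else 0 := by
      intro g
      rw [card_fixedBy_eq_sum]
      apply Finset.sum_congr rfl
      intro a _
      rw [Finset.sum_eq_single (g • a)]
      · rw [mul_smul]
        by_cases h : g • g • a = a
        · rw [if_pos h, if_pos ⟨rfl, h⟩]
        · rw [if_neg h, if_neg (fun h' => h h'.2)]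
      · intro b _ hb
        rw [if_neg (fun h' => hb h'.1.symm)]
      · intro h
        exact absurd (Finset.mem_univ _) h
    rw [Finset.sum_congr rfl (fun g _ => h1 g), Finset.sum_comm]
    apply Finset.sum_congr rfl
    intro a _
    rw [Finset.sum_comm]
  have hR : ∑ g : G, (Nat.card (MulAction.fixedBy Ω g) : ℂ) * (Nat.card (MulAction.fixedBy Ω g) : ℂ) =
      ∑ a : Ω, ∑ b : Ω, ∑ g : G, if g • a = a ∧ g • b = b then (1 : ℂ) else 0 := by
    have h1 : ∀ g : G, (Nat.card (MulAction.fixedBy Ω g) : ℂ) * (Nat.card (MulAction.fixedBy Ω g) : ℂ) =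
        ∑ a : Ω, ∑ b : Ω, if g • a = a ∧ g • b = b then (1 : ℂ) else 0 := by
      intro g
      rw [card_fixedBy_eq_sum, Finset.sum_mul_sum]
      apply Finset.sum_congr rfl
      intro a _
      apply Finset.sum_congr rfl
      intro b _
      by_cases ha : g • a = a <;> by_cases hb : g • b = b <;> simp [ha, hb]
    rw [Finset.sum_congr rfl (fun g _ => h1 g), Finset.sum_comm]
    apply Finset.sum_congr rfl
    intro a _
    rw [Finset.sum_comm]
  rw [hL, hR]
  apply Finset.sum_congr rfl
  intro a _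
  apply Finset.sum_congr rfl
  intro b _
  obtain ⟨g₀, h1, h2⟩ := hgt a b
  symm
  refine Fintype.sum_equiv (Equiv.mulLeft g₀) _ _ ?_
  intro g
  have e1 : (g₀ * g) • a = b ↔ g • a = a := by
    rw [mul_smul]
    constructor
    · intro h
      have : g₀ • g • a = g₀ • a := by rw [h, h1]
      exact smul_left_cancel g₀ this
    · intro h
      rw [h, h1]
  have e2 : (g₀ * g) • b = a ↔ g • b = b := by
    rw [mul_smul]
    constructor
    · intro h
      have : g₀ • g • b = g₀ • b := by rw [h, h2]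
      exact smul_left_cancel g₀ this
    · intro h
      rw [h, h2]
  show (if g • a = a ∧ g • b = b then (1 : ℂ) else 0) =
    if (g₀ * g) • a = b ∧ (g₀ * g) • b = a then (1 : ℂ) else 0
  rw [e1, e2]


/-- Generous transitivity forces the permutation character to be multiplicity-free with real
constituents (via Frobenius–Schur counting). -/
theorem multFree_real_of_generous [Fintype G]
    (hgt : ∀ a b : Ω, ∃ g : G, g • a = b ∧ g • b = a)
    {χ : G → ℂ} (hχ : IsIrrCharacter G χ) (hne : classInner (permRep ℂ G Ω).character χ ≠ 0) :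
    classInner (permRep ℂ G Ω).character χ = 1 ∧ ∀ g, conj (χ g) = χ g := by
  classical
  let _ := fintypeIrr G
  set π := (permRep ℂ G Ω).character with hπdef
  have hπfix : ∀ g, π g = (Nat.card (MulAction.fixedBy Ω g) : ℂ) := permRep_character
  have hπ : IsCharacter G π := isCharacter_of_rep _
  obtain ⟨m, hm, hcoef⟩ := Cfsg.Agent.Lib.Helper6.IsCharacter.exists_decomp_sum hπ
  have hG : (Nat.card G : ℂ) ≠ 0 := card_ne_zero_complex
  have hFS : ∀ ψ : IrrCharacter G, ∃ z : ℤ, (z = 0 ∨ z = 1 ∨ z = -1) ∧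
      (Nat.card G : ℂ)⁻¹ * ∑ s : G, (ψ : G → ℂ) (s * s) = z ∧
      (z ≠ 0 → ∀ s, ((ψ : G → ℂ) s).im = 0) := by
    intro ψ
    obtain ⟨n, σ, hirr, hσ⟩ := ψ.2
    have := hirr
    obtain ⟨h1, h2⟩ := frobenius_schur σ
    rw [hσ] at h1 h2
    rcases h1 with h | h | h
    · exact ⟨0, Or.inl rfl, by rw [h]; simp, fun h0 => absurd rfl h0⟩
    · refine ⟨1, Or.inr (Or.inl rfl), by rw [h]; simp, fun _ s => ?_⟩
      by_contra hs
      have h3 := h2.mpr ⟨s, hs⟩
      rw [h] at h3
      exact one_ne_zero h3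
    · refine ⟨-1, Or.inr (Or.inr rfl), by rw [h]; simp, fun _ s => ?_⟩
      by_contra hs
      have h3 := h2.mpr ⟨s, hs⟩
      rw [h] at h3
      exact (neg_ne_zero.mpr one_ne_zero) h3
  choose z hz01 hzν hzreal using hFS
  have hsq : (Nat.card G : ℂ)⁻¹ * ∑ g : G, π (g * g) = ∑ ψ : IrrCharacter G, (m ψ : ℂ) * z ψ := by
    have h1 : ∀ g : G, π (g * g) = ∑ ψ : IrrCharacter G, (m ψ : ℂ) * (ψ : G → ℂ) (g * g) := by
      intro g
      conv_lhs => rw [hm]
      rw [Finset.sum_apply]
      apply Finset.sum_congr rfl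
      intro ψ _
      rw [Pi.smul_apply, nsmul_eq_mul]
    rw [Finset.sum_congr rfl (fun g _ => h1 g), Finset.sum_comm, Finset.mul_sum]
    apply Finset.sum_congr rfl
    intro ψ _
    rw [← Finset.mul_sum, ← hzν ψ]
    ring
  have hinner : (Nat.card G : ℂ)⁻¹ * ∑ g : G, π g * π g =
      ∑ ψ : IrrCharacter G, (m ψ : ℂ) * m ψ := by
    have h1 : (Nat.card G : ℂ)⁻¹ * ∑ g : G, π g * π g = classInner π π := by
      unfold classInner
      congr 1
      apply Finset.sum_congr rfl
      intro g _
      rw [hπfix, Complex.conj_natCast]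
    have h2 : classInner π π = classInner (∑ ψ : IrrCharacter G, m ψ • (ψ : G → ℂ)) π := by
      rw [← hm]
    rw [h1, h2, classInner_sum_left]
    apply Finset.sum_congr rfl
    intro ψ _
    rw [← Nat.cast_smul_eq_nsmul ℂ, classInner_smul_left, ← classInner_conj_symm, hcoef,
      Complex.conj_natCast]
  have hkey : ∑ ψ : IrrCharacter G, (m ψ : ℂ) * z ψ = ∑ ψ : IrrCharacter G, (m ψ : ℂ) * m ψ := by
    rw [← hsq, ← hinner]
    congr 1
    simp_rw [hπfix]
    exact sum_fixed_sq_of_generous hgt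
  have hZ : ∑ ψ : IrrCharacter G, (m ψ : ℤ) * ((m ψ : ℤ) - z ψ) = 0 := by
    have h1 : ((∑ ψ : IrrCharacter G, (m ψ : ℤ) * ((m ψ : ℤ) - z ψ) : ℤ) : ℂ) = 0 := by
      push_cast
      simp_rw [mul_sub]
      rw [Finset.sum_sub_distrib, hkey, sub_self]
    exact_mod_cast h1
  have hnonneg : ∀ ψ ∈ (Finset.univ : Finset (IrrCharacter G)),
      0 ≤ (m ψ : ℤ) * ((m ψ : ℤ) - z ψ) := by
    intro ψ _
    rcases Nat.eq_zero_or_pos (m ψ) with h | h
    · rw [h]
      simp
    · apply mul_nonneg (by positivity)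
      rcases hz01 ψ with h' | h' | h' <;> rw [h'] <;> omega
  have hall := (Finset.sum_eq_zero_iff_of_nonneg hnonneg).mp hZ
  set ψ₀ : IrrCharacter G := ⟨χ, hχ⟩ with hψ₀
  have hc0 : classInner π χ = (m ψ₀ : ℂ) := hcoef ψ₀
  have hmne : m ψ₀ ≠ 0 := by
    intro h0
    apply hne
    rw [hc0, h0, Nat.cast_zero]
  have h0 := hall ψ₀ (Finset.mem_univ _)
  have hmz : (m ψ₀ : ℤ) = z ψ₀ := by
    rcases mul_eq_zero.mp h0 with h | h
    · exact absurd (by exact_mod_cast h) hmne
    · omega
  have hz1 : z ψ₀ = 1 := by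
    rcases hz01 ψ₀ with h | h | h
    · rw [h] at hmz
      exact absurd (by exact_mod_cast hmz) hmne
    · exact h
    · rw [h] at hmz
      omega
  refine ⟨?_, ?_⟩
  · rw [hc0]
    rw [hz1] at hmz
    exact_mod_cast hmz
  · intro g
    rw [Complex.conj_eq_iff_im]
    exact hzreal ψ₀ (by rw [hz1]; exact one_ne_zero) g

end Cfsg.Agent.Lib.Helper2.PermReal
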