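import Mathlib
import Cfsg.Agent.Lib.Helper2.FixProdB

/-!
# Twisted fixed-point counts for multiply transitive actions (helper2)

For a finite group `G` acting on a finite set `Ω`, `T Ω σ g` counts the injective `k`-tuples
`q` of `Ω` with `g • q i = q (σ i)` for all `i`.  Its sum over `G` is `|G|` when the action is
`k`-transitive.
-/

namespace Cfsg.Agent.Lib.Helper2.PermSq

open MulAction

variable {G : Type*} [Group G] (Ω : Type*) [MulAction G Ω] [Fintype Ω] [DecidableEq Ω]

open Classical in
/-- the number of injective `k`-tuples `q` with `g • q i = q (σ i)` -/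
noncomputable def T {k : ℕ} (σ : Equiv.Perm (Fin k)) (g : G) : ℕ :=
  (Finset.univ.filter fun q : Fin k ↪ Ω => ∀ i, g • q i = q (σ i)).card

open Classical in
/-- the number of fixed points -/
noncomputable def fx (g : G) : ℕ := (Finset.univ.filter fun w : Ω => g • w = w).card

theorem sum_T [Fintype G] {k : ℕ} [IsMultiplyPretransitive G Ω k] (hk : k ≤ Fintype.card Ω)
    (σ : Equiv.Perm (Fin k)) : ∑ g : G, T Ω σ g = Fintype.card G := by
  classical
  have hne : Nonempty (Fin k ↪ Ω) := by
    rw [Function.Embedding.nonempty_iff_card_le]; simpa using hk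
  have hX : 0 < Fintype.card (Fin k ↪ Ω) := Fintype.card_pos
  have h1 : ∑ g : G, T Ω σ g = ∑ q : Fin k ↪ Ω,
      (Finset.univ.filter fun g : G => g • q = σ.toEmbedding.trans q).card := by
    simp only [T, Finset.card_filter]
    rw [Finset.sum_comm]
    refine Finset.sum_congr rfl fun q _ => Finset.sum_congr rfl fun g _ => ?_
    have : (∀ i, g • q i = q (σ i)) ↔ g • q = σ.toEmbedding.trans q := by
      constructor
      · intro h
        ext i
        simpa using h i
      · intro h i
        have := congrArg (fun e : Fin k ↪ Ω => e i) h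
        simpa using this
    simp only [this]
  apply Nat.eq_of_mul_eq_mul_right hX
  rw [h1, Finset.sum_mul]
  rw [Finset.sum_congr rfl (fun q _ => FixProd.card_filter_smul_eq q _)]
  simp [mul_comm]

theorem T_one {k : ℕ} (g : G) : T Ω (1 : Equiv.Perm (Fin k)) g = (fx Ω g).descFactorial k := by
  classical
  unfold T fx
  rw [← Fintype.card_subtype, ← Fintype.card_subtype]
  have e : {q : Fin k ↪ Ω // ∀ i, g • q i = q ((1 : Equiv.Perm (Fin k)) i)} ≃
      (Fin k ↪ {w : Ω // g • w = w}) :=
    { toFun := fun q => ⟨fun i => ⟨q.1 i, q.2 i⟩, fun i j h => q.1.injective (by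
        have := congrArg Subtype.val h
        exact this)⟩
      invFun := fun e => ⟨e.trans (Function.Embedding.subtype _), fun i => (e i).2⟩
      left_inv := fun q => by
        apply Subtype.ext
        ext i
        rfl
      right_inv := fun e => by
        ext i
        rfl }
  rw [Fintype.card_congr e, Fintype.card_embedding_eq, Fintype.card_fin]

end Cfsg.Agent.Lib.Helper2.PermSq
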