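import Mathlib
import Cfsg.Agent.Lib.Helper2.PermSqA

/-!
# Product identities for twisted fixed-point counts (helper2)
-/

namespace Cfsg.Agent.Lib.Helper2.PermSq

open MulAction

section emb
variable {Ω : Type*}

/-- embedding of two distinct points -/
def e2 {x y : Ω} (h : x ≠ y) : Fin 2 ↪ Ω :=
  ⟨![x, y], by
    intro i j hij
    fin_cases i <;> fin_cases j <;> simp_all⟩

def e3 {x y z : Ω} (h1 : x ≠ y) (h2 : x ≠ z) (h3 : y ≠ z) : Fin 3 ↪ Ω :=
  ⟨![x, y, z], by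
    intro i j hij
    fin_cases i <;> fin_cases j <;> simp_all⟩

def e4 {x y z w : Ω} (h1 : x ≠ y) (h2 : x ≠ z) (h3 : x ≠ w) (h4 : y ≠ z) (h5 : y ≠ w)
    (h6 : z ≠ w) : Fin 4 ↪ Ω :=
  ⟨![x, y, z, w], by
    intro i j hij
    fin_cases i <;> fin_cases j <;> simp_all⟩

theorem e2_eta (p : Fin 2 ↪ Ω) (h : p 0 ≠ p 1) : e2 h = p := by
  ext i
  fin_cases i <;> rfl

theorem ne01 (p : Fin 2 ↪ Ω) : p 0 ≠ p 1 := fun h => by simpa using p.injective h

end emb

variable {G : Type*} [Group G] (Ω : Type*) [MulAction G Ω]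

theorem mem2 (g : G) (q : Fin 2 ↪ Ω) :
    (∀ i, g • q i = q ((Equiv.swap 0 1 : Equiv.Perm (Fin 2)) i)) ↔
      g • q 0 = q 1 ∧ g • q 1 = q 0 := by
  simp [Fin.forall_fin_succ]

theorem mem2_one (g : G) (q : Fin 2 ↪ Ω) :
    (∀ i, g • q i = q ((1 : Equiv.Perm (Fin 2)) i)) ↔ g • q 0 = q 0 ∧ g • q 1 = q 1 := by
  simp [Fin.forall_fin_succ]

theorem mem3 (g : G) (q : Fin 3 ↪ Ω) :
    (∀ i, g • q i = q ((Equiv.swap 0 1 : Equiv.Perm (Fin 3)) i)) ↔
      g • q 0 = q 1 ∧ g • q 1 = q 0 ∧ g • q 2 = q 2 := by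
  have h2 : (Equiv.swap 0 1 : Equiv.Perm (Fin 3)) 2 = 2 := by decide
  simp [Fin.forall_fin_succ, h2]

theorem mem4 (g : G) (q : Fin 4 ↪ Ω) :
    (∀ i, g • q i = q ((Equiv.swap 0 1 : Equiv.Perm (Fin 4)) i)) ↔
      g • q 0 = q 1 ∧ g • q 1 = q 0 ∧ g • q 2 = q 2 ∧ g • q 3 = q 3 := by
  have h2 : (Equiv.swap 0 1 : Equiv.Perm (Fin 4)) 2 = 2 := by decide
  have h3 : (Equiv.swap 0 1 : Equiv.Perm (Fin 4)) 3 = 3 := by decide
  simp [Fin.forall_fin_succ, h2, h3]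

theorem mem4' (g : G) (q : Fin 4 ↪ Ω) :
    (∀ i, g • q i = q ((Equiv.swap 0 1 * Equiv.swap 2 3 : Equiv.Perm (Fin 4)) i)) ↔
      g • q 0 = q 1 ∧ g • q 1 = q 0 ∧ g • q 2 = q 3 ∧ g • q 3 = q 2 := by
  generalize hσ : (Equiv.swap 0 1 * Equiv.swap 2 3 : Equiv.Perm (Fin 4)) = σ
  have h0 : σ 0 = 1 := by subst hσ; decide
  have h1 : σ 1 = 0 := by subst hσ; decide
  have h2 : σ 2 = 3 := by subst hσ; decide
  have h3 : σ 3 = 2 := by subst hσ; decide
  simp [Fin.forall_fin_succ, h0, h1, h2, h3]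

variable [Fintype Ω] [DecidableEq Ω]

/-- `s · f`: a swapped pair and a fixed point form an injective triple -/
theorem T3_eq (g : G) : T Ω (Equiv.swap 0 1 : Equiv.Perm (Fin 3)) g =
    T Ω (Equiv.swap 0 1 : Equiv.Perm (Fin 2)) g * fx Ω g := by
  classical
  unfold T fx
  rw [← Finset.card_product]
  apply Finset.card_bij (fun q _ => (e2 (x := q 0) (y := q 1) (q.injective.ne (by decide)), q 2))
  · intro q hq
    rw [Finset.mem_filter] at hq
    have h := (mem3 Ω g q).mp hq.2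
    rw [Finset.mem_product, Finset.mem_filter, Finset.mem_filter, mem2]
    exact ⟨⟨Finset.mem_univ _, h.1, h.2.1⟩, Finset.mem_univ _, h.2.2⟩
  · intro q1 _ q2 _ h
    simp only [Prod.mk.injEq] at h
    ext i
    fin_cases i
    · exact congrArg (fun e : Fin 2 ↪ Ω => e 0) h.1
    · exact congrArg (fun e : Fin 2 ↪ Ω => e 1) h.1
    · exact h.2
  · rintro ⟨p, w⟩ hpw
    rw [Finset.mem_product, Finset.mem_filter, Finset.mem_filter, mem2] at hpw
    obtain ⟨⟨-, hp0, hp1⟩, -, hw⟩ := hpw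
    have hne : p 0 ≠ p 1 := ne01 p
    have h0w : p 0 ≠ w := by
      intro h
      apply hne
      rw [← hp0, h, hw]
    have h1w : p 1 ≠ w := by
      intro h
      apply hne
      rw [← hp1, h, hw]
    refine ⟨e3 hne h0w h1w, ?_, ?_⟩
    · rw [Finset.mem_filter, mem3]
      exact ⟨Finset.mem_univ _, hp0, hp1, hw⟩
    · simp only [Prod.mk.injEq]
      exact ⟨e2_eta p _, rfl⟩

/-- `s · f(f-1)` -/
theorem T4_eq (g : G) : T Ω (Equiv.swap 0 1 : Equiv.Perm (Fin 4)) g =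
    T Ω (Equiv.swap 0 1 : Equiv.Perm (Fin 2)) g * T Ω (1 : Equiv.Perm (Fin 2)) g := by
  classical
  unfold T
  rw [← Finset.card_product]
  apply Finset.card_bij (fun q _ => (e2 (x := q 0) (y := q 1) (q.injective.ne (by decide)),
    e2 (x := q 2) (y := q 3) (q.injective.ne (by decide))))
  · intro q hq
    rw [Finset.mem_filter] at hq
    have h := (mem4 Ω g q).mp hq.2
    rw [Finset.mem_product, Finset.mem_filter, Finset.mem_filter, mem2, mem2_one]
    exact ⟨⟨Finset.mem_univ _, h.1, h.2.1⟩, Finset.mem_univ _, h.2.2.1, h.2.2.2⟩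
  · intro q1 _ q2 _ h
    simp only [Prod.mk.injEq] at h
    ext i
    fin_cases i
    · exact congrArg (fun e : Fin 2 ↪ Ω => e 0) h.1
    · exact congrArg (fun e : Fin 2 ↪ Ω => e 1) h.1
    · exact congrArg (fun e : Fin 2 ↪ Ω => e 0) h.2
    · exact congrArg (fun e : Fin 2 ↪ Ω => e 1) h.2
  · rintro ⟨p, r⟩ hpr
    rw [Finset.mem_product, Finset.mem_filter, Finset.mem_filter, mem2, mem2_one] at hpr
    obtain ⟨⟨-, hp0, hp1⟩, -, hr0, hr1⟩ := hpr
    have hne : p 0 ≠ p 1 := ne01 p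
    have hner : r 0 ≠ r 1 := ne01 r
    have h02 : p 0 ≠ r 0 := by
      intro h
      apply hne
      rw [← hp0, h, hr0]
    have h03 : p 0 ≠ r 1 := by
      intro h
      apply hne
      rw [← hp0, h, hr1]
    have h12 : p 1 ≠ r 0 := by
      intro h
      apply hne
      rw [← hp1, h, hr0]
    have h13 : p 1 ≠ r 1 := by
      intro h
      apply hne
      rw [← hp1, h, hr1]
    refine ⟨e4 hne h02 h03 h12 h13 hner, ?_, ?_⟩
    · rw [Finset.mem_filter, mem4]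
      exact ⟨Finset.mem_univ _, hp0, hp1, hr0, hr1⟩
    · simp only [Prod.mk.injEq]
      exact ⟨e2_eta p _, e2_eta r _⟩

end Cfsg.Agent.Lib.Helper2.PermSq
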