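import Mathlib
import Cfsg.Agent.Lib.Helper2.PermSqB

/-!
# More product identities: squares of swap counts, fixed 2-subsets (helper2)
-/

namespace Cfsg.Agent.Lib.Helper2.PermSq

open MulAction
open scoped Pointwise

variable {G : Type*} [Group G] (Ω : Type*) [MulAction G Ω] [Fintype Ω] [DecidableEq Ω]

/-- `s²  = T₄' + 2 s` -/
theorem T4'_eq (g : G) : T Ω (Equiv.swap 0 1 : Equiv.Perm (Fin 2)) g *
    T Ω (Equiv.swap 0 1 : Equiv.Perm (Fin 2)) g =
    T Ω (Equiv.swap 0 1 * Equiv.swap 2 3 : Equiv.Perm (Fin 4)) g +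
      2 * T Ω (Equiv.swap 0 1 : Equiv.Perm (Fin 2)) g := by
  classical
  unfold T
  set A := Finset.univ.filter fun q : Fin 2 ↪ Ω =>
    ∀ i, g • q i = q ((Equiv.swap 0 1 : Equiv.Perm (Fin 2)) i) with hA
  have memA : ∀ q, q ∈ A ↔ g • q 0 = q 1 ∧ g • q 1 = q 0 := by
    intro q
    rw [hA, Finset.mem_filter, mem2]
    simp
  rw [← Finset.card_product]
  -- split according to `r = p`
  rw [← Finset.card_filter_add_card_filter_not (s := A ×ˢ A) (fun pr => pr.2 = pr.1)]
  -- the diagonal part
  have h1 : ((A ×ˢ A).filter fun pr => pr.2 = pr.1).card = A.card := by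
    symm
    apply Finset.card_bij (fun p _ => (p, p))
    · intro p hp
      rw [Finset.mem_filter, Finset.mem_product]
      exact ⟨⟨hp, hp⟩, rfl⟩
    · intro p1 _ p2 _ h
      exact (Prod.mk.inj h).1
    · rintro ⟨p, r⟩ hpr
      rw [Finset.mem_filter, Finset.mem_product] at hpr
      obtain ⟨⟨hp, hr⟩, h⟩ := hpr
      simp only at h
      subst h
      exact ⟨r, hr, rfl⟩
  rw [← Finset.card_filter_add_card_filter_not
    (s := (A ×ˢ A).filter fun pr => ¬ pr.2 = pr.1) (fun pr => pr.2 0 = pr.1 1)]
  have h2 : (((A ×ˢ A).filter fun pr => ¬ pr.2 = pr.1).filter fun pr => pr.2 0 = pr.1 1).card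
      = A.card := by
    symm
    apply Finset.card_bij (fun p _ => (p, e2 (x := p 1) (y := p 0) (ne01 p).symm))
    · intro p hp
      rw [Finset.mem_filter, Finset.mem_filter, Finset.mem_product]
      have hp' := (memA p).mp hp
      refine ⟨⟨⟨hp, (memA _).mpr ⟨hp'.2, hp'.1⟩⟩, ?_⟩, rfl⟩
      intro h
      have := congrArg (fun e : Fin 2 ↪ Ω => e 0) h
      exact (ne01 p).symm this
    · intro p1 _ p2 _ h
      exact (Prod.mk.inj h).1
    · rintro ⟨p, r⟩ hpr
      rw [Finset.mem_filter, Finset.mem_filter, Finset.mem_product] at hpr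
      obtain ⟨⟨⟨hp, hr⟩, -⟩, h⟩ := hpr
      simp only at h
      have hp' := (memA p).mp hp
      have hr' := (memA r).mp hr
      refine ⟨p, hp, ?_⟩
      simp only [Prod.mk.injEq, true_and]
      ext i
      fin_cases i
      · exact h.symm
      · show p 0 = r 1
        rw [← hr'.1, h, hp'.2]
  have h3 : (((A ×ˢ A).filter fun pr => ¬ pr.2 = pr.1).filter fun pr => ¬ pr.2 0 = pr.1 1).card
      = (Finset.univ.filter fun q : Fin 4 ↪ Ω =>
        ∀ i, g • q i = q ((Equiv.swap 0 1 * Equiv.swap 2 3 : Equiv.Perm (Fin 4)) i)).card := by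
    symm
    apply Finset.card_bij (fun q _ => (e2 (x := q 0) (y := q 1) (q.injective.ne (by decide)),
      e2 (x := q 2) (y := q 3) (q.injective.ne (by decide))))
    · intro q hq
      rw [Finset.mem_filter] at hq
      have h := (mem4' Ω g q).mp hq.2
      rw [Finset.mem_filter, Finset.mem_filter, Finset.mem_product, memA, memA]
      refine ⟨⟨⟨⟨h.1, h.2.1⟩, h.2.2.1, h.2.2.2⟩, ?_⟩, ?_⟩
      · intro h'
        have := congrArg (fun e : Fin 2 ↪ Ω => e 0) h'
        exact q.injective.ne (by decide : (2 : Fin 4) ≠ 0) this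
      · intro h'
        exact q.injective.ne (by decide : (2 : Fin 4) ≠ 1) h'
    · intro q1 _ q2 _ h
      simp only [Prod.mk.injEq] at h
      ext i
      fin_cases i
      · exact congrArg (fun e : Fin 2 ↪ Ω => e 0) h.1
      · exact congrArg (fun e : Fin 2 ↪ Ω => e 1) h.1
      · exact congrArg (fun e : Fin 2 ↪ Ω => e 0) h.2
      · exact congrArg (fun e : Fin 2 ↪ Ω => e 1) h.2
    · rintro ⟨p, r⟩ hpr
      rw [Finset.mem_filter, Finset.mem_filter, Finset.mem_product, memA, memA] at hpr
      obtain ⟨⟨⟨⟨hp0, hp1⟩, hr0, hr1⟩, hne1⟩, hne2⟩ := hpr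
      simp only at hne1 hne2
      have hne : p 0 ≠ p 1 := ne01 p
      have hner : r 0 ≠ r 1 := ne01 r
      have h12 : p 1 ≠ r 0 := fun h => hne2 h.symm
      have h02 : p 0 ≠ r 0 := by
        intro h
        apply hne1
        ext i
        fin_cases i
        · exact h.symm
        · show r 1 = p 1
          rw [← hr0, ← h, hp0]
      have h03 : p 0 ≠ r 1 := by
        intro h
        apply hne2
        rw [← hr1, ← h, hp0]
      have h13 : p 1 ≠ r 1 := by
        intro h
        apply h02
        rw [← hp1, h, hr1]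
      refine ⟨e4 hne h02 h03 h12 h13 hner, ?_, ?_⟩
      · rw [Finset.mem_filter, mem4']
        exact ⟨Finset.mem_univ _, hp0, hp1, hr0, hr1⟩
      · simp only [Prod.mk.injEq]
        exact ⟨e2_eta p _, e2_eta r _⟩
  rw [h1, h2, h3]
  ring

omit [Fintype Ω] in
theorem finset_pair_eq_iff {a b c d : Ω} : ({a, b} : Finset Ω) = {c, d} ↔
    a = c ∧ b = d ∨ a = d ∧ b = c := by
  rw [← Finset.coe_inj]
  simp only [Finset.coe_insert, Finset.coe_singleton]
  exact Set.pair_eq_pair_iff

/-- the number of fixed 2-subsets, as a finset cardinality -/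
theorem card_fixed_pairs (g : G) :
    Nat.card (MulAction.fixedBy (Set.powersetCard Ω 2) g) =
      ((Finset.univ.powersetCard 2).filter fun A : Finset Ω => g • A = A).card := by
  classical
  rw [← Fintype.card_coe, ← Nat.card_eq_fintype_card]
  apply Nat.card_congr
  refine ⟨fun x => ⟨x.1.1, ?_⟩, fun A => ⟨⟨A.1, ?_⟩, ?_⟩, ?_, ?_⟩
  · rw [Finset.mem_filter, Finset.mem_powersetCard]
    refine ⟨⟨Finset.subset_univ _, x.1.2⟩, ?_⟩
    have := x.2
    rw [MulAction.mem_fixedBy] at this
    have h2 := congrArg Subtype.val this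
    rwa [Set.powersetCard.coe_smul] at h2
  · have := A.2
    rw [Finset.mem_filter, Finset.mem_powersetCard] at this
    exact this.1.2
  · have := A.2
    rw [Finset.mem_filter, Finset.mem_powersetCard] at this
    rw [MulAction.mem_fixedBy]
    apply Subtype.ext
    rw [Set.powersetCard.coe_smul]
    exact this.2
  · intro x; rfl
  · intro A; rfl

theorem two_mul_card_fixed_pairs (g : G) :
    2 * Nat.card (MulAction.fixedBy (Set.powersetCard Ω 2) g) =
      T Ω (1 : Equiv.Perm (Fin 2)) g + T Ω (Equiv.swap 0 1 : Equiv.Perm (Fin 2)) g := by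
  classical
  rw [card_fixed_pairs]
  set B := (Finset.univ.powersetCard 2).filter fun A : Finset Ω => g • A = A with hB
  set R := Finset.univ.filter fun q : Fin 2 ↪ Ω =>
    g • ({q 0, q 1} : Finset Ω) = {q 0, q 1} with hR
  have hsm : ∀ q : Fin 2 ↪ Ω, g • ({q 0, q 1} : Finset Ω) = {g • q 0, g • q 1} := by
    intro q
    simp [Finset.smul_finset_insert]
  -- fiberwise count
  have h1 : R.card = 2 * B.card := by
    have hmaps : ∀ q ∈ R, ({q 0, q 1} : Finset Ω) ∈ B := by
      intro q hq
      rw [hR, Finset.mem_filter] at hq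
      rw [hB, Finset.mem_filter, Finset.mem_powersetCard]
      exact ⟨⟨Finset.subset_univ _, Finset.card_pair (ne01 q)⟩, hq.2⟩
    rw [Finset.card_eq_sum_card_fiberwise hmaps]
    rw [Finset.sum_congr rfl (g := fun _ => 2), Finset.sum_const, smul_eq_mul, mul_comm]
    intro A hA
    rw [hB, Finset.mem_filter, Finset.mem_powersetCard] at hA
    obtain ⟨x, y, hxy, rfl⟩ := Finset.card_eq_two.mp hA.1.2
    have : (R.filter fun q : Fin 2 ↪ Ω => ({q 0, q 1} : Finset Ω) = {x, y}) =
        {e2 hxy, e2 hxy.symm} := by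
      ext q
      rw [Finset.mem_filter, Finset.mem_insert, Finset.mem_singleton]
      constructor
      · rintro ⟨-, h⟩
        rcases (finset_pair_eq_iff Ω).mp h with ⟨h0, h1⟩ | ⟨h0, h1⟩
        · left
          ext i
          fin_cases i
          · exact h0
          · exact h1
        · right
          ext i
          fin_cases i
          · exact h0
          · exact h1
      · rintro (rfl | rfl)
        · refine ⟨?_, rfl⟩
          rw [hR, Finset.mem_filter]
          exact ⟨Finset.mem_univ _, hA.2⟩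
        · have hyx : ({y, x} : Finset Ω) = {x, y} := Finset.pair_comm y x
          refine ⟨?_, hyx⟩
          rw [hR, Finset.mem_filter]
          refine ⟨Finset.mem_univ _, ?_⟩
          show g • ({y, x} : Finset Ω) = {y, x}
          rw [hyx]
          exact hA.2
    rw [this, Finset.card_pair]
    intro h
    have := congrArg (fun e : Fin 2 ↪ Ω => e 0) h
    exact hxy this
  -- the two kinds of fixed pairs
  have h2 : R.card = T Ω (1 : Equiv.Perm (Fin 2)) g +
      T Ω (Equiv.swap 0 1 : Equiv.Perm (Fin 2)) g := by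
    unfold T
    rw [← Finset.card_union_of_disjoint]
    · congr 1
      ext q
      rw [hR, Finset.mem_filter, Finset.mem_union, Finset.mem_filter, Finset.mem_filter, mem2,
        mem2_one, hsm, finset_pair_eq_iff]
      simp
    · rw [Finset.disjoint_left]
      intro q hq1 hq2
      rw [Finset.mem_filter, mem2_one] at hq1
      rw [Finset.mem_filter, mem2] at hq2
      exact ne01 q (hq1.2.1.symm.trans hq2.2.1)
  rw [← h1, h2]
end Cfsg.Agent.Lib.Helper2.PermSq
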