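import Mathlib
import Cfsg.Agent.Lib.Helper2.PermSqC
import Cfsg.Agent.Lib.Lead.PermChar
import Cfsg.Agent.Lib.Lead.CharDecomp
import Cfsg.Agent.Lib.Helper10.GenChar

/-!
# Moments of fixed-point counts of a 4-transitive group; two irreducible characters (helper2)
-/

namespace Cfsg.Agent.Lib.Helper2.PermSq

open MulAction Cfsg Cfsg.Agent.CharLib
open scoped Pointwise ComplexConjugate

theorem cast_df2 (f : ℕ) : ((f.descFactorial 2 : ℕ) : ℂ) = f * (f - 1) := by
  rcases f with _ | f
  · simp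
  · simp [Nat.descFactorial]
    ring

theorem cast_df3 (f : ℕ) : ((f.descFactorial 3 : ℕ) : ℂ) = f * (f - 1) * (f - 2) := by
  rcases f with _ | _ | f
  · simp
  · simp [Nat.descFactorial]
  · simp [Nat.descFactorial]
    ring

theorem cast_df4 (f : ℕ) : ((f.descFactorial 4 : ℕ) : ℂ) = f * (f - 1) * (f - 2) * (f - 3) := by
  rcases f with _ | _ | _ | f
  · simp
  · simp [Nat.descFactorial]
  · simp [Nat.descFactorial]
  · simp [Nat.descFactorial]
    ring

universe u v

variable {G : Type u} [Group G] [Fintype G] (Ω : Type v) [MulAction G Ω] [Fintype Ω] [DecidableEq Ω]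

/-- the swap count -/
noncomputable def sw (g : G) : ℕ := T Ω (Equiv.swap 0 1 : Equiv.Perm (Fin 2)) g

section sums
variable [IsMultiplyPretransitive G Ω 4] (h4 : 4 ≤ Fintype.card Ω)
include h4

theorem trans_le {k : ℕ} (hk : k ≤ 4) : IsMultiplyPretransitive G Ω k := by
  apply isMultiplyPretransitive_of_le (n := 4) hk
  rw [Nat.card_eq_fintype_card]
  exact h4

theorem sum_df (k : ℕ) (hk : k ≤ 4) : ∑ g : G, (fx Ω g).descFactorial k = Fintype.card G := by
  have := trans_le (G := G) Ω h4 hk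
  rw [← sum_T Ω (by omega) (1 : Equiv.Perm (Fin k))]
  exact Finset.sum_congr rfl fun g _ => (T_one Ω g).symm

theorem sum_fx : ∑ g : G, fx Ω g = Fintype.card G := by
  rw [← sum_df Ω h4 1 (by norm_num)]
  exact Finset.sum_congr rfl fun g _ => by simp

theorem sum_sw : ∑ g : G, sw Ω g = Fintype.card G := by
  have := trans_le (G := G) Ω h4 (k := 2) (by norm_num)
  exact sum_T Ω (by omega) _

theorem sum_sw_fx : ∑ g : G, sw Ω g * fx Ω g = Fintype.card G := by
  have := trans_le (G := G) Ω h4 (k := 3) (by norm_num)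
  rw [← sum_T Ω (by omega) (Equiv.swap 0 1 : Equiv.Perm (Fin 3))]
  exact Finset.sum_congr rfl fun g _ => (T3_eq Ω g).symm

theorem sum_sw_df2 : ∑ g : G, sw Ω g * (fx Ω g).descFactorial 2 = Fintype.card G := by
  rw [← sum_T Ω (by omega) (Equiv.swap 0 1 : Equiv.Perm (Fin 4))]
  refine Finset.sum_congr rfl fun g _ => ?_
  rw [T4_eq, T_one]
  rfl

theorem sum_sw_sw : ∑ g : G, sw Ω g * sw Ω g = 3 * Fintype.card G := by
  have h2 := trans_le (G := G) Ω h4 (k := 2) (by norm_num)
  have : ∀ g : G, sw Ω g * sw Ω g =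
      T Ω (Equiv.swap 0 1 * Equiv.swap 2 3 : Equiv.Perm (Fin 4)) g + 2 * sw Ω g :=
    fun g => T4'_eq Ω g
  rw [Finset.sum_congr rfl fun g _ => this g, Finset.sum_add_distrib, ← Finset.mul_sum,
    sum_T Ω (by omega), sum_sw Ω h4]
  ring

end sums

end Cfsg.Agent.Lib.Helper2.PermSq
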