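import Mathlib
import Cfsg.Agent.Lib.Helper2.PermSqD

/-!
# Two irreducible characters of a 4-transitive group (helper2)

`θS = π₂ - π` and `θL = π₍₂₎ - π₂ - π + 1`, where `π`, `π₂`, `π₍₂₎` are the permutation
characters on points, 2-subsets and ordered pairs of distinct points.
-/

namespace Cfsg.Agent.Lib.Helper2.PermSq

open MulAction Cfsg Cfsg.Agent.CharLib
open scoped Pointwise ComplexConjugate

universe u v

variable {G : Type u} [Group G] (Ω : Type v) [MulAction G Ω] [Fintype Ω] [DecidableEq Ω]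

theorem card_fixedBy_eq_fx (g : G) : Nat.card (fixedBy Ω g) = fx Ω g := by
  classical
  unfold fx
  rw [← Fintype.card_subtype, Nat.card_eq_fintype_card]
  apply Fintype.card_congr
  exact Equiv.subtypeEquivRight fun w => by rw [MulAction.mem_fixedBy]

theorem card_fixedBy_emb2 (g : G) :
    Nat.card (fixedBy (Fin 2 ↪ Ω) g) = (fx Ω g).descFactorial 2 := by
  classical
  rw [← T_one]
  unfold T
  rw [← Fintype.card_subtype, Nat.card_eq_fintype_card]
  apply Fintype.card_congr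
  refine Equiv.subtypeEquivRight fun q => ?_
  rw [MulAction.mem_fixedBy]
  constructor
  · intro h i
    have := congrArg (fun e : Fin 2 ↪ Ω => e i) h
    simpa using this
  · intro h
    ext i
    simpa using h i

/-- the three permutation characters -/
noncomputable def chA (g : G) : ℂ := (Nat.card (fixedBy Ω g) : ℂ)
noncomputable def chB (g : G) : ℂ := (Nat.card (fixedBy (Set.powersetCard Ω 2) g) : ℂ)
noncomputable def chC (g : G) : ℂ := (Nat.card (fixedBy (Fin 2 ↪ Ω) g) : ℂ)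

theorem chA_eq (g : G) : chA Ω g = (fx Ω g : ℂ) := by
  unfold chA
  rw [card_fixedBy_eq_fx]

theorem chC_eq (g : G) : chC Ω g = (fx Ω g : ℂ) * ((fx Ω g : ℂ) - 1) := by
  unfold chC
  rw [card_fixedBy_emb2, cast_df2]

theorem chB_eq (g : G) :
    chB Ω g = ((fx Ω g : ℂ) * ((fx Ω g : ℂ) - 1) + (sw Ω g : ℂ)) / 2 := by
  unfold chB
  have h := two_mul_card_fixed_pairs Ω g
  rw [T_one] at h
  have h' : (2 : ℂ) * (Nat.card (fixedBy (Set.powersetCard Ω 2) g) : ℂ) =
      ((fx Ω g).descFactorial 2 : ℕ) + (sw Ω g : ℂ) := by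
    unfold sw
    exact_mod_cast h
  rw [cast_df2] at h'
  rw [← h']
  ring

theorem isCharacter_chA : IsCharacter G (chA Ω) := isCharacter_card_fixedBy
theorem isCharacter_chB : IsCharacter G (chB Ω) := isCharacter_card_fixedBy
theorem isCharacter_chC : IsCharacter G (chC Ω) := isCharacter_card_fixedBy

/-- `π₂ - π` -/
noncomputable def thetaS (g : G) : ℂ := chB Ω g - chA Ω g
/-- `π₍₂₎ - π₂ - π + 1` -/
noncomputable def thetaL (g : G) : ℂ := chC Ω g - chB Ω g - chA Ω g + 1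

theorem thetaS_eq (g : G) : thetaS Ω g =
    ((fx Ω g : ℂ) * ((fx Ω g : ℂ) - 3) + (sw Ω g : ℂ)) / 2 := by
  unfold thetaS
  rw [chA_eq, chB_eq]
  ring

theorem thetaL_eq (g : G) : thetaL Ω g =
    (((fx Ω g : ℂ) - 1) * ((fx Ω g : ℂ) - 2) - (sw Ω g : ℂ)) / 2 := by
  unfold thetaL
  rw [chA_eq, chB_eq, chC_eq]
  ring

theorem isGenChar_thetaS : IsGeneralizedCharacter G (thetaS Ω) :=
  ⟨chB Ω, chA Ω, isCharacter_chB Ω, isCharacter_chA Ω, rfl⟩

theorem isGenChar_thetaL : IsGeneralizedCharacter G (thetaL Ω) :=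
  ⟨chC Ω + 1, chB Ω + chA Ω, IsCharacter.add (isCharacter_chC Ω) isCharacter_one,
    IsCharacter.add (isCharacter_chB Ω) (isCharacter_chA Ω), by
      funext g
      simp only [thetaL, Pi.sub_apply, Pi.add_apply, Pi.one_apply]
      ring⟩

section norms
variable [Fintype G] [IsMultiplyPretransitive G Ω 4] (h4 : 4 ≤ Fintype.card Ω)
include h4

theorem sums_cast :
    (∑ g : G, (fx Ω g : ℂ)) = Fintype.card G ∧
    (∑ g : G, (fx Ω g : ℂ) * ((fx Ω g : ℂ) - 1)) = Fintype.card G ∧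
    (∑ g : G, (fx Ω g : ℂ) * ((fx Ω g : ℂ) - 1) * ((fx Ω g : ℂ) - 2) * ((fx Ω g : ℂ) - 3))
      = Fintype.card G ∧
    (∑ g : G, (sw Ω g : ℂ)) = Fintype.card G ∧
    (∑ g : G, (sw Ω g : ℂ) * (fx Ω g : ℂ)) = Fintype.card G ∧
    (∑ g : G, (sw Ω g : ℂ) * ((fx Ω g : ℂ) * ((fx Ω g : ℂ) - 1))) = Fintype.card G ∧
    (∑ g : G, (sw Ω g : ℂ) * (sw Ω g : ℂ)) = 3 * Fintype.card G := by
  refine ⟨?_, ?_, ?_, ?_, ?_, ?_, ?_⟩
  · have := sum_fx (G := G) Ω h4
    exact_mod_cast this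
  · have := sum_df (G := G) Ω h4 2 (by norm_num)
    rw [← this]
    push_cast
    exact Finset.sum_congr rfl fun g _ => (cast_df2 _).symm
  · have := sum_df (G := G) Ω h4 4 (by norm_num)
    rw [← this]
    push_cast
    exact Finset.sum_congr rfl fun g _ => (cast_df4 _).symm
  · have := sum_sw (G := G) Ω h4
    exact_mod_cast this
  · have := sum_sw_fx (G := G) Ω h4
    exact_mod_cast this
  · have := sum_sw_df2 (G := G) Ω h4
    rw [← this]
    push_cast
    exact Finset.sum_congr rfl fun g _ => by rw [cast_df2]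
  · have := sum_sw_sw (G := G) Ω h4
    exact_mod_cast this

theorem norm_thetaS : classInner (thetaS (G := G) Ω) (thetaS Ω) = 1 := by
  obtain ⟨s1, s2, s4, ss, ssf, ssd, sss⟩ := sums_cast (G := G) Ω h4
  have hG : (Nat.card G : ℂ) ≠ 0 := card_ne_zero_complex
  unfold classInner
  have key : ∀ g : G, thetaS Ω g * conj (thetaS Ω g) = (1 / 4 : ℂ) *
      ((fx Ω g : ℂ) * ((fx Ω g : ℂ) - 1) * ((fx Ω g : ℂ) - 2) * ((fx Ω g : ℂ) - 3)
        - 2 * ((fx Ω g : ℂ) * ((fx Ω g : ℂ) - 1)) + 4 * (fx Ω g : ℂ)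
        + (sw Ω g : ℂ) * (sw Ω g : ℂ) + 2 * ((sw Ω g : ℂ) * ((fx Ω g : ℂ) * ((fx Ω g : ℂ) - 1)))
        - 4 * ((sw Ω g : ℂ) * (fx Ω g : ℂ))) := by
    intro g
    rw [thetaS_eq]
    simp only [map_div₀, map_add, map_mul, map_sub, Complex.conj_natCast, map_ofNat]
    ring
  rw [Finset.sum_congr rfl fun g _ => key g, ← Finset.mul_sum]
  simp only [Finset.sum_add_distrib, Finset.sum_sub_distrib, ← Finset.mul_sum]
  rw [s1, s2, s4, ssf, ssd, sss, Nat.card_eq_fintype_card]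
  rw [Nat.card_eq_fintype_card] at hG
  field_simp
  ring

theorem norm_thetaL : classInner (thetaL (G := G) Ω) (thetaL Ω) = 1 := by
  obtain ⟨s1, s2, s4, ss, ssf, ssd, sss⟩ := sums_cast (G := G) Ω h4
  have hG : (Nat.card G : ℂ) ≠ 0 := card_ne_zero_complex
  unfold classInner
  have key : ∀ g : G, thetaL Ω g * conj (thetaL Ω g) = (1 / 4 : ℂ) *
      ((fx Ω g : ℂ) * ((fx Ω g : ℂ) - 1) * ((fx Ω g : ℂ) - 2) * ((fx Ω g : ℂ) - 3)
        + 2 * ((fx Ω g : ℂ) * ((fx Ω g : ℂ) - 1)) - 4 * (fx Ω g : ℂ) + 4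
        + (sw Ω g : ℂ) * (sw Ω g : ℂ) - 2 * ((sw Ω g : ℂ) * ((fx Ω g : ℂ) * ((fx Ω g : ℂ) - 1)))
        + 4 * ((sw Ω g : ℂ) * (fx Ω g : ℂ)) - 4 * (sw Ω g : ℂ)) := by
    intro g
    rw [thetaL_eq]
    simp only [map_div₀, map_mul, map_sub, Complex.conj_natCast, map_ofNat, map_one]
    ring
  rw [Finset.sum_congr rfl fun g _ => key g, ← Finset.mul_sum]
  simp only [Finset.sum_add_distrib, Finset.sum_sub_distrib, ← Finset.mul_sum]
  rw [s1, s2, s4, ss, ssf, ssd, sss, Nat.card_eq_fintype_card]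
  rw [Nat.card_eq_fintype_card] at hG
  simp only [Finset.sum_const, Finset.card_univ, nsmul_eq_mul]
  field_simp
  ring

end norms

theorem irr_of_norm_one {H : Type u} [Group H] [Fintype H] {θ : H → ℂ}
    (hθ : IsGeneralizedCharacter H θ) (h1 : classInner θ θ = 1)
    {r : ℝ} (hr : 0 < r) (hθ1 : θ 1 = r) : IsIrrCharacter H θ := by
  obtain ⟨ε, hε | hε, hirr⟩ := Cfsg.Agent.Lib.Helper10.genChar_norm_one hθ h1
  · subst hε
    simpa using hirr
  · exfalso
    obtain ⟨n, hn, hval⟩ := IsIrrCharacter.apply_one_pos hirr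
    rw [hε] at hval
    simp only [Pi.smul_apply, smul_eq_mul, hθ1, neg_mul, one_mul] at hval
    have h2 : (-r : ℝ) = n := by exact_mod_cast hval
    have h3 : (0 : ℝ) < n := by exact_mod_cast hn
    linarith

theorem fx_one : fx Ω (1 : G) = Fintype.card Ω := by
  classical
  unfold fx
  simp

theorem sw_one : sw Ω (1 : G) = 0 := by
  classical
  unfold sw T
  rw [Finset.card_eq_zero, Finset.filter_eq_empty_iff]
  intro q _ h
  rw [mem2] at h
  rw [one_smul] at h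
  exact ne01 q h.1

section irr
variable [Fintype G] [IsMultiplyPretransitive G Ω 4] (h4 : 4 ≤ Fintype.card Ω)
include h4

theorem thetaS_irr : IsIrrCharacter G (thetaS Ω) := by
  have hn : (4 : ℝ) ≤ (Fintype.card Ω : ℝ) := by exact_mod_cast h4
  refine irr_of_norm_one (isGenChar_thetaS Ω) (norm_thetaS Ω h4)
    (r := ((Fintype.card Ω : ℝ) * ((Fintype.card Ω : ℝ) - 3)) / 2) ?_ ?_
  · have : (0 : ℝ) < (Fintype.card Ω : ℝ) * ((Fintype.card Ω : ℝ) - 3) := by nlinarith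
    linarith
  · rw [thetaS_eq, fx_one, sw_one]
    push_cast
    ring

theorem thetaL_irr : IsIrrCharacter G (thetaL Ω) := by
  have hn : (4 : ℝ) ≤ (Fintype.card Ω : ℝ) := by exact_mod_cast h4
  refine irr_of_norm_one (isGenChar_thetaL Ω) (norm_thetaL Ω h4)
    (r := (((Fintype.card Ω : ℝ) - 1) * ((Fintype.card Ω : ℝ) - 2)) / 2) ?_ ?_
  · have : (0 : ℝ) < ((Fintype.card Ω : ℝ) - 1) * ((Fintype.card Ω : ℝ) - 2) := by nlinarith
    linarith
  · rw [thetaL_eq, fx_one, sw_one]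
    push_cast
    ring

end irr

end Cfsg.Agent.Lib.Helper2.PermSq
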