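import Mathlib
import Cfsg.Agent.Lib.Helper2.PermSqE

/-!
# Fixed-point and swap counts of permutations from their cycle types (helper2)
-/

namespace Cfsg.Agent.Lib.Helper2.PermSq

open MulAction Equiv

variable {n : ℕ}

theorem fx_perm (σ : Perm (Fin n)) : fx (Fin n) σ = n - σ.cycleType.sum := by
  classical
  have h := Equiv.Perm.card_fixedPoints σ
  rw [Fintype.card_fin] at h
  rw [← h]
  unfold fx
  rw [← Fintype.card_subtype]
  apply Fintype.card_congr
  exact Equiv.subtypeEquivRight fun w => by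
    rw [Function.mem_fixedPoints, Function.IsFixedPt, Equiv.Perm.smul_def]

theorem sw_eq_zero_of_two_not_mem {σ : Perm (Fin n)} (h : 2 ∉ σ.cycleType) :
    sw (Fin n) σ = 0 := by
  classical
  unfold sw T
  rw [Finset.card_eq_zero, Finset.filter_eq_empty_iff]
  intro q _ hq
  rw [mem2] at hq
  obtain ⟨hq0, hq1⟩ := hq
  rw [Equiv.Perm.smul_def] at hq0 hq1
  apply h
  rw [Equiv.Perm.mem_cycleType_iff]
  refine ⟨Equiv.swap (q 0) (q 1), Equiv.swap (q 0) (q 1) * σ, ?_, ?_, ?_, ?_⟩
  · rw [← mul_assoc, Equiv.swap_mul_self, one_mul]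
  · intro z
    by_cases hz0 : z = q 0
    · right
      subst hz0
      rw [Equiv.Perm.mul_apply, hq0, Equiv.swap_apply_right]
    · by_cases hz1 : z = q 1
      · right
        subst hz1
        rw [Equiv.Perm.mul_apply, hq1, Equiv.swap_apply_left]
      · left
        exact Equiv.swap_apply_of_ne_of_ne hz0 hz1
  · exact Equiv.Perm.isCycle_swap (ne01 q)
  · exact Equiv.Perm.card_support_swap (ne01 q)

/-- the subgroup action has the same counts -/
theorem fx_alt (x : alternatingGroup (Fin n)) :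
    fx (Fin n) x = fx (Fin n) (x : Perm (Fin n)) := rfl

theorem sw_alt (x : alternatingGroup (Fin n)) :
    sw (Fin n) x = sw (Fin n) (x : Perm (Fin n)) := rfl

theorem thetaS_alt (x : alternatingGroup (Fin n)) :
    thetaS (Fin n) (x : Perm (Fin n)) = thetaS (Fin n) x := by
  rw [thetaS_eq, thetaS_eq, fx_alt, sw_alt]

theorem thetaL_alt (x : alternatingGroup (Fin n)) :
    thetaL (Fin n) (x : Perm (Fin n)) = thetaL (Fin n) x := by
  rw [thetaL_eq, thetaL_eq, fx_alt, sw_alt]

instance perm_four_trans : IsMultiplyPretransitive (Perm (Fin n)) (Fin n) 4 :=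
  Equiv.Perm.isMultiplyPretransitive (Fin n) 4

theorem alt_four_trans (hn : 6 ≤ n) :
    IsMultiplyPretransitive (alternatingGroup (Fin n)) (Fin n) 4 := by
  have h0 := alternatingGroup.isMultiplyPretransitive (Fin n)
  rw [Nat.card_eq_fintype_card, Fintype.card_fin] at h0
  exact isMultiplyPretransitive_of_le (n := n - 2) (by omega) (by simp)

/-- existence of an even permutation with prescribed cycle type -/
theorem exists_cycleType (M : Multiset ℕ) (hsum : M.sum ≤ n) (h2 : ∀ a ∈ M, 2 ≤ a)
    (heven : Even (M.sum + Multiset.card M)) :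
    ∃ x : alternatingGroup (Fin n), (x : Perm (Fin n)).cycleType = M := by
  obtain ⟨σ, hσ⟩ := (Equiv.Perm.exists_with_cycleType_iff (α := Fin n)).mpr
    ⟨by simpa using hsum, h2⟩
  refine ⟨⟨σ, ?_⟩, hσ⟩
  rw [Equiv.Perm.mem_alternatingGroup, Equiv.Perm.sign_of_cycleType, hσ]
  exact Even.neg_one_pow heven

end Cfsg.Agent.Lib.Helper2.PermSq
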