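/-
helper2: determinant of a representation at an element `y` of even order `m` on which the
character vanishes at all non-identity powers: every `m`-th root of unity is an eigenvalue with
the same multiplicity `q`, so `det ρ(y) = (-1)^q`.
-/
import Mathlib
import Cfsg.Prelude.Def_Characters
import Cfsg.Agent.Lib.Lead.CharBasic

set_option autoImplicit false

namespace Cfsg.Agent.Lib.Helper2.SelfCent

open Cfsg Cfsg.Agent.CharLib Module

/-- sum of the powers of an `m`-th root of unity -/
theorem geom_sum_root {z : ℂ} {m : ℕ} (hz : z ^ m = 1) :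
    ∑ k ∈ Finset.range m, z ^ k = if z = 1 then (m : ℂ) else 0 := by
  split_ifs with h
  · subst h
    simp
  · rw [geom_sum_eq h, hz, sub_self, zero_div]

theorem det_eq_neg_one {G : Type*} [Group G] [Finite G] {V : Type*} [AddCommGroup V] [Module ℂ V]
    [FiniteDimensional ℂ V] (ρ : Representation ℂ G V) (y : G) (m q : ℕ) (hm : orderOf y = m)
    (hmeven : Even m) (hq : Odd q) (hdim : finrank ℂ V = m * q)
    (hvan : ∀ j, 0 < j → j < m → ρ.character (y ^ j) = 0) :
    LinearMap.det (ρ y) = -1 := by
  classical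
  obtain ⟨ι, hι, b, μ, h1, h2, -, -⟩ := exists_eigenbasis ρ y
  rw [hm] at h1
  have hm0 : m ≠ 0 := by
    rw [← hm]
    exact (orderOf_pos y).ne'
  have hm0' : (m : ℂ) ≠ 0 := Nat.cast_ne_zero.mpr hm0
  have : NeZero m := ⟨hm0⟩
  -- determinant
  have hdet : LinearMap.det (ρ y) = ∏ i, μ i := by
    rw [← LinearMap.det_toMatrix b (ρ y)]
    have : LinearMap.toMatrix b b (ρ y) = Matrix.diagonal μ := by
      ext j k
      rw [LinearMap.toMatrix_apply, h2, map_smul, Finsupp.smul_apply, Basis.repr_self,
        Finsupp.single_apply, Matrix.diagonal_apply]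
      by_cases hjk : j = k
      · subst hjk; simp
      · rw [if_neg hjk, if_neg (Ne.symm hjk), smul_zero]
    rw [this, Matrix.det_diagonal]
  -- character values
  have hchar : ∀ k : ℕ, ρ.character (y ^ k) = ∑ i, μ i ^ k := by
    intro k
    have hk : ∀ i, ρ (y ^ k) (b i) = (μ i ^ k) • b i := by
      intro i
      induction k with
      | zero => simp
      | succ k ih =>
        rw [pow_succ, map_mul, Module.End.mul_apply, h2 i, map_smul, ih, smul_smul, pow_succ,
          mul_comm]
    unfold Representation.character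
    exact trace_eq_sum_of_eigenbasis b (ρ (y ^ k)) (fun i => μ i ^ k) hk
  have hcard : Fintype.card ι = m * q := by
    rw [← hdim]
    exact (Module.finrank_eq_card_basis b).symm
  -- a primitive root
  have hζ : IsPrimitiveRoot (Complex.exp (2 * Real.pi * Complex.I / m)) m :=
    Complex.isPrimitiveRoot_exp m hm0
  set ζ := Complex.exp (2 * Real.pi * Complex.I / m) with hζdef
  have hmpos : 0 < m := Nat.pos_of_ne_zero hm0
  have hexp : ∀ i, ∃ a, a < m ∧ ζ ^ a = μ i := fun i => hζ.eq_pow_of_pow_eq_one (h1 i)
  choose a ha1 ha2 using hexp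
  have hζ0 : ζ ≠ 0 := hζ.ne_zero hm0
  -- multiplicities
  have hmult : ∀ s, s < m → (Finset.univ.filter (fun i => a i = s)).card = q := by
    intro s hs
    have hsum : ∑ k ∈ Finset.range m, (ζ⁻¹ ^ s) ^ k * ρ.character (y ^ k) = (m : ℂ) * q := by
      rw [Finset.sum_eq_single_of_mem 0 (Finset.mem_range.mpr hmpos)]
      · rw [pow_zero, pow_zero, one_mul]
        have h3 : ρ.character 1 = (finrank ℂ V : ℂ) := by simp
        rw [h3, hdim]
        push_cast
        ring
      · intro k hk hk0
        rw [hvan k (Nat.pos_of_ne_zero hk0) (Finset.mem_range.mp hk), mul_zero]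
    have hsum2 : ∑ k ∈ Finset.range m, (ζ⁻¹ ^ s) ^ k * ρ.character (y ^ k) =
        (m : ℂ) * ((Finset.univ.filter (fun i => a i = s)).card : ℂ) := by
      simp_rw [hchar, Finset.mul_sum]
      rw [Finset.sum_comm]
      have hterm : ∀ i, ∑ k ∈ Finset.range m, (ζ⁻¹ ^ s) ^ k * μ i ^ k =
          if a i = s then (m : ℂ) else 0 := by
        intro i
        have hz : (ζ⁻¹ ^ s * μ i) ^ m = 1 := by
          rw [mul_pow, h1 i, mul_one, ← pow_mul, mul_comm s m, pow_mul, inv_pow, hζ.pow_eq_one,
            inv_one, one_pow]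
        simp_rw [← mul_pow]
        rw [geom_sum_root hz]
        have hiff : ζ⁻¹ ^ s * μ i = 1 ↔ a i = s := by
          rw [← ha2 i, inv_pow]
          constructor
          · intro h
            have h4 : ζ ^ a i = ζ ^ s := by
              have h5 : ζ ^ s ≠ 0 := pow_ne_zero _ hζ0
              field_simp at h
              exact h
            exact hζ.pow_inj (ha1 i) hs h4
          · intro h
            rw [h]
            have h5 : ζ ^ s ≠ 0 := pow_ne_zero _ hζ0
            field_simp
        by_cases h : a i = s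
        · rw [if_pos h, if_pos (hiff.mpr h)]
        · rw [if_neg h, if_neg (fun h' => h (hiff.mp h'))]
      simp_rw [hterm]
      rw [Finset.sum_ite, Finset.sum_const_zero, add_zero, Finset.sum_const, nsmul_eq_mul, mul_comm]
    rw [hsum] at hsum2
    have h6 := mul_left_cancel₀ hm0' hsum2
    exact_mod_cast h6.symm
  -- the product
  have hprod : ∏ i, μ i = ζ ^ (∑ i, a i) := by
    rw [← Finset.prod_pow_eq_pow_sum]
    apply Finset.prod_congr rfl
    intro i _
    exact (ha2 i).symm
  have hsuma : ∑ i, a i = q * ∑ s ∈ Finset.range m, s := by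
    have hmaps : ∀ i ∈ (Finset.univ : Finset ι), a i ∈ Finset.range m :=
      fun i _ => Finset.mem_range.mpr (ha1 i)
    rw [← Finset.sum_fiberwise_of_maps_to hmaps, Finset.mul_sum]
    apply Finset.sum_congr rfl
    intro s hs
    have h7 : ∀ i ∈ Finset.univ.filter (fun i => a i = s), a i = s := by
      intro i hi
      exact (Finset.mem_filter.mp hi).2
    rw [Finset.sum_congr rfl h7, Finset.sum_const, hmult s (Finset.mem_range.mp hs), smul_eq_mul]
  obtain ⟨m', hm'⟩ := hmeven
  have hm'pos : 0 < m' := by omega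
  have hhalf : ζ ^ m' = -1 := by
    have h8 : (ζ ^ m') * (ζ ^ m') = 1 := by
      rw [← pow_add, ← hm', hζ.pow_eq_one]
    rcases mul_self_eq_one_iff.mp h8 with h | h
    · exact absurd h (hζ.pow_ne_one_of_pos_of_lt hm'pos.ne' (by omega))
    · exact h
  have hsumrange : ∑ s ∈ Finset.range m, s = m' * (m - 1) := by
    have h9 := Finset.sum_range_id_mul_two m
    have h10 : m * (m - 1) = m' * (m - 1) * 2 := by rw [hm']; ring
    rw [h10] at h9
    exact Nat.eq_of_mul_eq_mul_right (by norm_num) h9
  rw [hdet, hprod, hsuma, hsumrange]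
  have h11 : q * (m' * (m - 1)) = m' * (q * (m - 1)) := by ring
  rw [h11, pow_mul, hhalf]
  have hodd : Odd (q * (m - 1)) := by
    apply Odd.mul hq
    rw [hm']
    exact ⟨m' - 1, by omega⟩
  exact hodd.neg_one_pow

end Cfsg.Agent.Lib.Helper2.SelfCent
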