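/-
helper2: a finite group with a faithful irreducible character of prime degree `p` whose order is
divisible by `p ^ 2` has a non-trivial centre.  (Burnside's coprimality lemma applied to the
centre of a Sylow `p`-subgroup.)
-/
import Mathlib
import Cfsg.Prelude.Def_Characters
import Cfsg.Agent.Lib.Lead.CharBurnside
import Cfsg.Agent.Lib.Lead.CharEquiv
import Cfsg.Agent.Lib.Helper6.Clifford
import Cfsg.Agent.Lib.Helper2.SelfCentC

set_option autoImplicit false

namespace Cfsg.Agent.Lib.Helper2.PrimeDeg

open Cfsg Cfsg.Agent.CharLib Module Cfsg.Agent.Lib.Helper6 Cfsg.Agent.Lib.Helper2.SelfCent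
open scoped ComplexConjugate

variable {G : Type*} [Group G]

/-- a representation with faithful character is injective -/
theorem eq_of_rep_eq {V : Type*} [AddCommGroup V] [Module ℂ V] [FiniteDimensional ℂ V]
    (ρ : Representation ℂ G V) (hfaith : ∀ g : G, ρ.character g = ρ.character 1 → g = 1)
    {a b : G} (h : ρ a = ρ b) : a = b := by
  have h1 : ρ (a⁻¹ * b) = 1 := by
    rw [map_mul, ← h, ← map_mul, inv_mul_cancel, map_one]
  have h2 : ρ.character (a⁻¹ * b) = ρ.character 1 := by
    unfold Representation.character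
    rw [h1, ← map_one ρ]
  exact inv_mul_eq_one.mp (hfaith _ h2)

/-- an element represented by a scalar is central -/
theorem mem_center_of_scalar {V : Type*} [AddCommGroup V] [Module ℂ V] [FiniteDimensional ℂ V]
    (ρ : Representation ℂ G V) (hfaith : ∀ g : G, ρ.character g = ρ.character 1 → g = 1)
    (x : G) (ω : ℂ) (hω : ρ x = ω • (LinearMap.id : V →ₗ[ℂ] V)) : x ∈ Subgroup.center G := by
  rw [Subgroup.mem_center_iff]
  intro g
  apply eq_of_rep_eq ρ hfaith
  rw [map_mul, map_mul, hω]
  ext v
  simp

/-- If the eigenvalues of `ρ z` in an eigenbasis are pairwise distinct, anything commuting with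
`z` is diagonal in that basis. -/
theorem diag_of_commute {V : Type*} [AddCommGroup V] [Module ℂ V]
    (ρ : Representation ℂ G V) {ι : Type*} (b : Basis ι ℂ V) (μ : ι → ℂ)
    (hμ : Function.Injective μ) (z : G) (hz : ∀ i, ρ z (b i) = μ i • b i)
    (g : G) (hg : g * z = z * g) (i : ι) : ρ g (b i) = (b.repr (ρ g (b i)) i) • b i := by
  classical
  set v := ρ g (b i) with hv
  have h1 : ρ z v = μ i • v := by
    rw [hv, ← Module.End.mul_apply, ← map_mul, ← hg, map_mul, Module.End.mul_apply, hz, map_smul]
  have hcoord : ∀ j, (b.coord j).comp (ρ z) = μ j • b.coord j := by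
    intro j
    apply b.ext
    intro l
    rw [LinearMap.comp_apply, hz, map_smul, LinearMap.smul_apply, Basis.coord_apply,
      Basis.repr_self, Finsupp.single_apply]
    by_cases hlj : l = j
    · subst hlj; simp
    · rw [if_neg hlj]; simp
  have h2 : ∀ j, j ≠ i → b.repr v j = 0 := by
    intro j hji
    have h3 : b.repr (ρ z v) j = μ j * b.repr v j := by
      have := congrArg (fun f => f v) (hcoord j)
      simpa [Basis.coord_apply] using this
    rw [h1, map_smul, Finsupp.smul_apply, smul_eq_mul] at h3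
    have h4 : (μ i - μ j) * b.repr v j = 0 := by rw [sub_mul, h3, sub_self]
    rcases mul_eq_zero.mp h4 with h | h
    · exact absurd (hμ (sub_eq_zero.mp h)).symm hji
    · exact h
  apply b.repr.injective
  ext j
  rw [map_smul, Basis.repr_self, Finsupp.smul_apply, Finsupp.single_apply, smul_eq_mul]
  by_cases hij : i = j
  · subst hij; simp
  · rw [if_neg hij, mul_zero]
    exact h2 j (Ne.symm hij)

/-- If the character vanishes at the non-trivial powers of `z` and the degree is the order of
`z`, the eigenvalues of `ρ z` are pairwise distinct. -/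
theorem injective_eigenvalues [Finite G] {V : Type*} [AddCommGroup V] [Module ℂ V]
    [FiniteDimensional ℂ V]
    (ρ : Representation ℂ G V) {ι : Type*} [Fintype ι] (b : Basis ι ℂ V) (μ : ι → ℂ) (z : G)
    (m : ℕ) (hm : 0 < m) (hdim : finrank ℂ V = m)
    (hμ1 : ∀ i, μ i ^ m = 1) (hz : ∀ i, ρ z (b i) = μ i • b i)
    (hvan : ∀ k, 0 < k → k < m → ρ.character (z ^ k) = 0) : Function.Injective μ := by
  classical
  have hm0' : (m : ℂ) ≠ 0 := Nat.cast_ne_zero.mpr hm.ne'
  have hchar : ∀ k : ℕ, ρ.character (z ^ k) = ∑ i, μ i ^ k := by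
    intro k
    have hk : ∀ i, ρ (z ^ k) (b i) = (μ i ^ k) • b i := by
      intro i
      induction k with
      | zero => simp
      | succ k ih =>
        rw [pow_succ, map_mul, Module.End.mul_apply, hz i, map_smul, ih, smul_smul, pow_succ,
          mul_comm]
    unfold Representation.character
    exact trace_eq_sum_of_eigenbasis b (ρ (z ^ k)) (fun i => μ i ^ k) hk
  intro i j hij
  by_contra hne
  have hμ0 : μ i ≠ 0 := by
    intro h0
    have := hμ1 i
    rw [h0, zero_pow hm.ne'] at this
    exact zero_ne_one this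
  have hsum : ∑ k ∈ Finset.range m, (μ i)⁻¹ ^ k * ρ.character (z ^ k) = (m : ℂ) := by
    rw [Finset.sum_eq_single_of_mem 0 (Finset.mem_range.mpr hm)]
    · rw [pow_zero, pow_zero, one_mul]
      have h3 : ρ.character 1 = (finrank ℂ V : ℂ) := by simp
      rw [h3, hdim]
    · intro k hk hk0
      rw [hvan k (Nat.pos_of_ne_zero hk0) (Finset.mem_range.mp hk), mul_zero]
  have hsum2 : ∑ k ∈ Finset.range m, (μ i)⁻¹ ^ k * ρ.character (z ^ k) =
      (m : ℂ) * ((Finset.univ.filter (fun l => μ l = μ i)).card : ℂ) := by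
    simp_rw [hchar, Finset.mul_sum]
    rw [Finset.sum_comm]
    have hterm : ∀ l, ∑ k ∈ Finset.range m, (μ i)⁻¹ ^ k * μ l ^ k =
        if μ l = μ i then (m : ℂ) else 0 := by
      intro l
      have hz' : ((μ i)⁻¹ * μ l) ^ m = 1 := by
        rw [mul_pow, hμ1 l, mul_one, inv_pow, hμ1 i, inv_one]
      simp_rw [← mul_pow]
      rw [geom_sum_root hz']
      have hiff : (μ i)⁻¹ * μ l = 1 ↔ μ l = μ i := by
        constructor
        · intro h
          field_simp at h
          exact h
        · intro h
          rw [h]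
          field_simp
      by_cases h : μ l = μ i
      · rw [if_pos h, if_pos (hiff.mpr h)]
      · rw [if_neg h, if_neg (fun h' => h (hiff.mp h'))]
    simp_rw [hterm]
    rw [Finset.sum_ite, Finset.sum_const_zero, add_zero, Finset.sum_const, nsmul_eq_mul, mul_comm]
  rw [hsum] at hsum2
  have h6 : ((Finset.univ.filter (fun l => μ l = μ i)).card : ℂ) = 1 := by
    have h7 : (m : ℂ) * 1 = (m : ℂ) * ((Finset.univ.filter (fun l => μ l = μ i)).card : ℂ) := by
      rw [mul_one]; exact hsum2
    exact (mul_left_cancel₀ hm0' h7).symm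
  have h8 : (Finset.univ.filter (fun l => μ l = μ i)).card = 1 := by exact_mod_cast h6
  have h9 : 1 < (Finset.univ.filter (fun l => μ l = μ i)).card := by
    rw [Finset.one_lt_card]
    exact ⟨i, Finset.mem_filter.mpr ⟨Finset.mem_univ _, rfl⟩, j,
      Finset.mem_filter.mpr ⟨Finset.mem_univ _, hij.symm⟩, hne⟩
  omega

/-- A finite group with a faithful irreducible representation of prime degree `p` and order
divisible by `p ^ 2` has non-trivial centre. -/
theorem center_ne_bot [Finite G] (p : ℕ) (hp : p.Prime) (ρ : Representation ℂ G (Fin p → ℂ))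
    (hirr : ρ.IsIrreducible)
    (hfaith : ∀ g : G, ρ.character g = ρ.character 1 → g = 1) (hdiv : p ^ 2 ∣ Nat.card G) :
    Subgroup.center G ≠ ⊥ := by
  classical
  have := Fact.mk hp
  intro hcen
  let P : Sylow p G := default
  have hPcard : p ^ 2 ∣ Nat.card P := P.pow_dvd_card_of_pow_dvd_card hdiv
  have hfin : finrank ℂ (Fin p → ℂ) = p := Module.finrank_fin_fun ℂ
  have hstar : ∀ x : G, x ≠ 1 → (∀ y ∈ (P : Subgroup G), y * x = x * y) →
      ρ.character x = 0 := by
    intro x hx1 hcomm
    have hle : (P : Subgroup G) ≤ Subgroup.centralizer ({x} : Set G) := by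
      intro y hy
      rw [Subgroup.mem_centralizer_iff]
      intro h hh
      rw [Set.mem_singleton_iff] at hh
      rw [hh]
      exact (hcomm y hy).symm
    have hdvd := Subgroup.index_dvd_of_le hle
    have hcop : Nat.Coprime (finrank ℂ (Fin p → ℂ))
        (Subgroup.centralizer ({x} : Set G)).index := by
      rw [hfin]
      apply (Nat.Prime.coprime_iff_not_dvd hp).mpr
      intro h
      exact P.not_dvd_index (dvd_trans h hdvd)
    rcases char_eq_zero_or_norm_eq_of_coprime ρ x hcop with h | h
    · exact h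
    · exfalso
      obtain ⟨ω, hω⟩ := exists_scalar_of_norm_char_eq ρ x h
      have := mem_center_of_scalar ρ hfaith x ω hω
      rw [hcen, Subgroup.mem_bot] at this
      exact hx1 this
  -- a central element of order `p` of the Sylow subgroup
  have hPG : IsPGroup p (P : Subgroup G) := P.isPGroup'
  have hp2 : 1 < p ^ 2 := Nat.one_lt_pow (by norm_num) hp.one_lt
  have hPpos : 0 < Nat.card (P : Subgroup G) := Nat.card_pos
  have hPlt : 1 < Nat.card (P : Subgroup G) := lt_of_lt_of_le hp2 (Nat.le_of_dvd hPpos hPcard)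
  have hPnt : Nontrivial (P : Subgroup G) := Finite.one_lt_card_iff_nontrivial.mp hPlt
  have hZnt := hPG.center_nontrivial
  have hZp : IsPGroup p (Subgroup.center (P : Subgroup G)) := hPG.to_subgroup _
  obtain ⟨k, hk0, hk⟩ := (hZp.nontrivial_iff_card).mp hZnt
  have hpZ : p ∣ Nat.card (Subgroup.center (P : Subgroup G)) := by
    rw [hk]; exact dvd_pow_self p hk0.ne'
  obtain ⟨z', hz'⟩ := exists_prime_orderOf_dvd_card' p hpZ
  set z : G := ((z' : ↥(P : Subgroup G)) : G) with hzdef
  have hzo : orderOf z = p := by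
    rw [← hz', hzdef, Subgroup.orderOf_coe, Subgroup.orderOf_coe]
  have hzc : ∀ y ∈ (P : Subgroup G), y * z = z * y := by
    intro y hy
    have := (Subgroup.mem_center_iff.mp z'.2) ⟨y, hy⟩
    exact congrArg Subtype.val this
  obtain ⟨ι, hι, b, μ, h1, h2, -, -⟩ := exists_eigenbasis ρ z
  rw [hzo] at h1
  have hvan : ∀ k, 0 < k → k < p → ρ.character (z ^ k) = 0 := by
    intro k hk0 hkp
    apply hstar
    · exact pow_ne_one_of_lt_orderOf hk0.ne' (by rw [hzo]; exact hkp)
    · intro y hy
      exact ((show Commute y z from hzc y hy).pow_right k).eq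
  have hinj := injective_eigenvalues ρ b μ z p hp.pos hfin h1 h2 hvan
  have hab : ∀ g ∈ (P : Subgroup G), ∀ h ∈ (P : Subgroup G), g * h = h * g := by
    intro g hg h hh
    apply eq_of_rep_eq ρ hfaith
    apply b.ext
    intro i
    obtain ⟨cg, hcg⟩ : ∃ c : ℂ, ρ g (b i) = c • b i :=
      ⟨_, diag_of_commute ρ b μ hinj z h2 g (hzc g hg) i⟩
    obtain ⟨ch, hch⟩ : ∃ c : ℂ, ρ h (b i) = c • b i :=
      ⟨_, diag_of_commute ρ b μ hinj z h2 h (hzc h hh) i⟩
    rw [map_mul, map_mul, Module.End.mul_apply, Module.End.mul_apply, hch, hcg, map_smul,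
      map_smul, hch, hcg, smul_smul, smul_smul, mul_comm]
  have hvanP : ∀ x ∈ (P : Subgroup G), x ≠ 1 → ρ.character x = 0 := by
    intro x hx hx1
    exact hstar x hx1 (fun y hy => hab y hy x hx)
  -- integrality of the multiplicity of the trivial character
  have := Fintype.ofFinite (P : Subgroup G)
  have hχ : IsCharacter G ρ.character := ⟨p, ρ, rfl⟩
  have hres := isCharacter_resFun (P : Subgroup G) hχ
  obtain ⟨m, hm⟩ := IsCharacter.classInner_nat hres
    (IsIrrCharacter.isCharacter (isIrrCharacter_one (G := ↥(P : Subgroup G))))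
  unfold classInner at hm
  have hsum : ∑ g : ↥(P : Subgroup G), resFun (P : Subgroup G) ρ.character g *
      conj ((1 : ↥(P : Subgroup G) → ℂ) g) = (p : ℂ) := by
    rw [Finset.sum_eq_single (1 : ↥(P : Subgroup G))]
    · rw [resFun_apply, Pi.one_apply, map_one, mul_one, Subgroup.coe_one]
      have h3 : ρ.character 1 = (finrank ℂ (Fin p → ℂ) : ℂ) := by simp
      rw [h3, hfin]
    · intro g _ hg1
      rw [resFun_apply, hvanP g g.2 (fun h => hg1 (Subtype.ext h)), zero_mul]
    · intro h
      exact absurd (Finset.mem_univ _) h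
  rw [hsum] at hm
  have hPne : (Nat.card (P : Subgroup G) : ℂ) ≠ 0 := Nat.cast_ne_zero.mpr hPpos.ne'
  have h5 : (p : ℂ) = ((m * Nat.card (P : Subgroup G) : ℕ) : ℂ) := by
    push_cast
    rw [← hm]
    field_simp
  have h6 : p = m * Nat.card (P : Subgroup G) := by exact_mod_cast h5
  have h7 : p ^ 2 ∣ p := dvd_trans hPcard (Dvd.intro_left m h6.symm)
  have h8 := Nat.le_of_dvd hp.pos h7
  have h9 : p < p ^ 2 := by
    have := hp.one_lt
    nlinarith
  omega

end Cfsg.Agent.Lib.Helper2.PrimeDeg
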