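import Mathlib
import Cfsg.Agent.Lib.Helper2.QuatSylow
import Cfsg.Agent.S0076

/-!
Sylow `2`-subgroups of the form `Q × R` with `Q` generalized quaternion and all involutions of `R`
central in `R`: the group has an isolated involution.
-/

set_option autoImplicit false
open scoped commutatorElement
namespace Cfsg.Agent.Lib.Helper2.QuatProd
universe u

variable {G : Type u} [Group G]

/-- internal direct product data -/
structure DP (Q R S : Subgroup G) : Prop where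
  hQ : Q ≤ S
  hR : R ≤ S
  comm : ∀ a ∈ Q, ∀ b ∈ R, a * b = b * a
  inf : Q ⊓ R = ⊥
  sup : Q ⊔ R = S

namespace DP
variable {Q R S : Subgroup G}

theorem exists_mul (h : DP Q R S) {s : G} (hs : s ∈ S) : ∃ q ∈ Q, ∃ r ∈ R, s = q * r := by
  have hle : Q ≤ Subgroup.normalizer (R : Set G) := by
    intro q hq
    rw [Subgroup.mem_normalizer_iff]
    intro x
    constructor
    · intro hx
      have : q * x * q⁻¹ = x := by rw [h.comm q hq x hx, mul_inv_cancel_right]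
      rw [this]; exact hx
    · intro hx
      have h1 := h.comm q hq _ hx
      have : x = q * x * q⁻¹ := by
        have h2 : q * (q * x * q⁻¹) = q * x := by rw [h1]; group
        have h3 := mul_left_cancel h2
        exact h3.symm
      rw [this]; exact hx
  have h1 : s ∈ ((Q ⊔ R : Subgroup G) : Set G) := by rw [h.sup]; exact hs
  rw [Subgroup.coe_mul_of_left_le_normalizer_right Q R hle] at h1
  obtain ⟨q, hq, r, hr, rfl⟩ := Set.mem_mul.mp h1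
  exact ⟨q, hq, r, hr, rfl⟩

theorem eq_one_of_mem (h : DP Q R S) {x : G} (hq : x ∈ Q) (hr : x ∈ R) : x = 1 := by
  have : x ∈ Q ⊓ R := ⟨hq, hr⟩
  rw [h.inf] at this
  exact Subgroup.mem_bot.mp this

/-- `Q` is normal in `S` -/
theorem conj_mem_left (h : DP Q R S) {s q : G} (hs : s ∈ S) (hq : q ∈ Q) : s * q * s⁻¹ ∈ Q := by
  obtain ⟨q₁, hq₁, r₁, hr₁, rfl⟩ := h.exists_mul hs
  have h1 : q₁ * r₁ * q * (q₁ * r₁)⁻¹ = q₁ * q * q₁⁻¹ := by
    have := h.comm q hq r₁ hr₁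
    calc q₁ * r₁ * q * (q₁ * r₁)⁻¹ = q₁ * (r₁ * q) * r₁⁻¹ * q₁⁻¹ := by group
      _ = q₁ * (q * r₁) * r₁⁻¹ * q₁⁻¹ := by rw [this]
      _ = q₁ * q * q₁⁻¹ := by group
  rw [h1]
  exact mul_mem (mul_mem hq₁ hq) (inv_mem hq₁)

/-- `R` is normal in `S` -/
theorem conj_mem_right (h : DP Q R S) {s r : G} (hs : s ∈ S) (hr : r ∈ R) : s * r * s⁻¹ ∈ R := by
  obtain ⟨q₁, hq₁, r₁, hr₁, rfl⟩ := h.exists_mul hs
  have h1 : q₁ * r₁ * r * (q₁ * r₁)⁻¹ = r₁ * r * r₁⁻¹ := by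
    have := h.comm q₁ hq₁ (r₁ * r * r₁⁻¹) (mul_mem (mul_mem hr₁ hr) (inv_mem hr₁))
    calc q₁ * r₁ * r * (q₁ * r₁)⁻¹ = q₁ * (r₁ * r * r₁⁻¹) * q₁⁻¹ := by group
      _ = (r₁ * r * r₁⁻¹) * q₁ * q₁⁻¹ := by rw [this]
      _ = r₁ * r * r₁⁻¹ := by group
  rw [h1]
  exact mul_mem (mul_mem hr₁ hr) (inv_mem hr₁)

/-- elements of square one are central, if this holds in both factors -/
theorem sq_one_central (h : DP Q R S)
    (hQc : ∀ q ∈ Q, q ^ 2 = 1 → ∀ t ∈ Q, q * t = t * q)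
    (hRc : ∀ r ∈ R, r ^ 2 = 1 → ∀ t ∈ R, r * t = t * r) :
    ∀ s ∈ S, s ^ 2 = 1 → ∀ t ∈ S, s * t = t * s := by
  intro s hs hs2 t ht
  obtain ⟨q, hq, r, hr, rfl⟩ := h.exists_mul hs
  obtain ⟨q', hq', r', hr', rfl⟩ := h.exists_mul ht
  have hqr := h.comm q hq r hr
  have h1 : (q * r) ^ 2 = q ^ 2 * r ^ 2 := by
    rw [pow_two, pow_two, pow_two]
    calc q * r * (q * r) = q * (r * q) * r := by group
      _ = q * (q * r) * r := by rw [hqr]
      _ = q * q * (r * r) := by group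
  rw [h1] at hs2
  have h2 : q ^ 2 = (r ^ 2)⁻¹ := eq_inv_of_mul_eq_one_left hs2
  have hq2 : q ^ 2 = 1 := h.eq_one_of_mem (pow_mem hq 2) (by rw [h2]; exact inv_mem (pow_mem hr 2))
  have hr2 : r ^ 2 = 1 := by rw [hq2, one_mul] at hs2; exact hs2
  have e1 := hQc q hq hq2 q' hq'
  have e2 := hRc r hr hr2 r' hr'
  have e3 := h.comm q' hq' r hr
  have e4 := h.comm q hq r' hr'
  calc q * r * (q' * r') = q * (r * q') * r' := by group
    _ = q * (q' * r) * r' := by rw [e3]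
    _ = (q * q') * (r * r') := by group
    _ = (q' * q) * (r' * r) := by rw [e1, e2]
    _ = q' * (q * r') * r := by group
    _ = q' * (r' * q) * r := by rw [e4]
    _ = q' * r' * (q * r) := by group

end DP

/-- a nontrivial element of a `2`-group has a power of order two -/
theorem exists_pow_orderOf_two {x : G} (hx : x ≠ 1) (k : ℕ) (hk : orderOf x = 2 ^ k) :
    ∃ j : ℕ, orderOf (x ^ j) = 2 := by
  have hk0 : k ≠ 0 := by
    rintro rfl
    rw [pow_zero, orderOf_eq_one_iff] at hk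
    exact hx hk
  obtain ⟨l, rfl⟩ := Nat.exists_eq_succ_of_ne_zero hk0
  refine ⟨2 ^ l, ?_⟩
  rw [orderOf_pow_of_dvd (by positivity) (by rw [hk]; exact pow_dvd_pow 2 (Nat.le_succ l)), hk,
    pow_succ, Nat.mul_div_cancel_left _ (by positivity)]

section key
variable {Q R S : Subgroup G} {m : ℕ} {a b : G}

/-- **Key lemma.** For `n` normalizing `S = Q × R`, the conjugate of the involution of `Q` is
either in `R` or equal to that involution. -/
theorem conj_invol_mem_or_eq (h : DP Q R S) (hS : IsPGroup 2 S)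
    (hq : Cfsg.Agent.Lib.Helper2.QuatData Q m a b) (k : ℕ) (hm : m = 2 ^ (k + 1))
    (n : G) (hn : n ∈ Subgroup.normalizer (S : Set G)) :
    n * a ^ m * n⁻¹ ∈ R ∨ n * a ^ m * n⁻¹ = a ^ m := by
  have hm0 : 0 < m := by rw [hm]; positivity
  by_cases hzR : n * a ^ m * n⁻¹ ∈ R
  · exact Or.inl hzR
  right
  have hnS : ∀ s, s ∈ S ↔ n * s * n⁻¹ ∈ S := fun s => (Subgroup.mem_normalizer_iff.mp hn) s
  have hnS' : ∀ s, s ∈ S → n⁻¹ * s * n ∈ S := by
    intro s hs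
    rw [hnS]
    have : n * (n⁻¹ * s * n) * n⁻¹ = s := by group
    rw [this]; exact hs
  -- step 1: the conjugate of `Q` meets `R` trivially
  have step1 : ∀ d ∈ Q, n * d * n⁻¹ ∈ R → d = 1 := by
    intro d hd hdR
    by_contra hd1
    obtain ⟨k', hk'⟩ := (IsPGroup.iff_orderOf.mp hS) ⟨d, h.hQ hd⟩
    rw [Subgroup.orderOf_mk] at hk'
    obtain ⟨j, hj⟩ := exists_pow_orderOf_two hd1 k' hk'
    have h1 : d ^ j = a ^ m := hq.unique_involution hm0 _ (pow_mem hd j) hj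
    apply hzR
    rw [← h1]
    have h2 : n * d ^ j * n⁻¹ = (n * d * n⁻¹) ^ j := by
      have := map_pow (MulAut.conj n) d j
      simp only [MulAut.conj_apply] at this
      exact this
    rw [h2]
    exact pow_mem hdR j
  -- step 2: the conjugate of `Q` centralizes `R`
  have step2 : ∀ d ∈ Q, ∀ r ∈ R, (n * d * n⁻¹) * r = r * (n * d * n⁻¹) := by
    intro d hd r hr
    have hd'S : n * d * n⁻¹ ∈ S := (hnS d).mp (h.hQ hd)
    have hcR : (n * d * n⁻¹) * r * (n * d * n⁻¹)⁻¹ * r⁻¹ ∈ R :=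
      mul_mem (h.conj_mem_right hd'S hr) (inv_mem hr)
    have hr' : n⁻¹ * r * n ∈ S := hnS' r (h.hR hr)
    have hd2 : d * ((n⁻¹ * r * n) * d⁻¹ * (n⁻¹ * r * n)⁻¹) ∈ Q :=
      mul_mem hd (h.conj_mem_left hr' (inv_mem hd))
    have he : (n * d * n⁻¹) * r * (n * d * n⁻¹)⁻¹ * r⁻¹ =
        n * (d * ((n⁻¹ * r * n) * d⁻¹ * (n⁻¹ * r * n)⁻¹)) * n⁻¹ := by group
    rw [he] at hcR
    have h1 := step1 _ hd2 hcR
    rw [h1, mul_one, mul_inv_cancel] at he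
    have h2 : (n * d * n⁻¹) * r = ((n * d * n⁻¹) * r * (n * d * n⁻¹)⁻¹ * r⁻¹) * (r * (n * d * n⁻¹)) := by
      group
    rw [h2, he, one_mul]
  -- step 3
  have hab : a * b * a⁻¹ * b⁻¹ = a ^ 2 := by
    have : a * b * a⁻¹ * b⁻¹ = a * (b * a * b⁻¹)⁻¹ := by group
    rw [this, hq.conj, inv_inv, pow_two]
  have hzpow : a ^ m = (a * b * a⁻¹ * b⁻¹) ^ (2 ^ k) := by
    rw [hab, ← pow_mul, hm, pow_succ, mul_comm]
  obtain ⟨q₁, hq₁, r₁, hr₁, ha'⟩ := h.exists_mul ((hnS a).mp (h.hQ hq.ha))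
  obtain ⟨q₂, hq₂, r₂, hr₂, hb'⟩ := h.exists_mul ((hnS b).mp (h.hQ hq.hb))
  have hcomm1 : (n * a * n⁻¹) * r₂ = r₂ * (n * a * n⁻¹) := step2 a hq.ha r₂ hr₂
  have hcomm2 : (n * a * n⁻¹) * q₂ * (n * a * n⁻¹)⁻¹ = q₁ * q₂ * q₁⁻¹ := by
    rw [ha']
    have := h.comm q₂ hq₂ r₁ hr₁
    calc q₁ * r₁ * q₂ * (q₁ * r₁)⁻¹ = q₁ * (r₁ * q₂) * r₁⁻¹ * q₁⁻¹ := by group
      _ = q₁ * (q₂ * r₁) * r₁⁻¹ * q₁⁻¹ := by rw [this]
      _ = q₁ * q₂ * q₁⁻¹ := by group
  have hcomm3 : r₂ * (n * a * n⁻¹)⁻¹ = (n * a * n⁻¹)⁻¹ * r₂ := by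
    have h3 : (n * a * n⁻¹)⁻¹ * ((n * a * n⁻¹) * r₂) * (n * a * n⁻¹)⁻¹ =
        (n * a * n⁻¹)⁻¹ * (r₂ * (n * a * n⁻¹)) * (n * a * n⁻¹)⁻¹ := by rw [hcomm1]
    have h4 : (n * a * n⁻¹)⁻¹ * ((n * a * n⁻¹) * r₂) * (n * a * n⁻¹)⁻¹ = r₂ * (n * a * n⁻¹)⁻¹ := by
      group
    have h5 : (n * a * n⁻¹)⁻¹ * (r₂ * (n * a * n⁻¹)) * (n * a * n⁻¹)⁻¹ = (n * a * n⁻¹)⁻¹ * r₂ := by
      group
    rw [← h4, h3, h5]
  have hcommQ : n * (a * b * a⁻¹ * b⁻¹) * n⁻¹ = q₁ * q₂ * q₁⁻¹ * q₂⁻¹ := by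
    have e1 : n * (a * b * a⁻¹ * b⁻¹) * n⁻¹ =
        (n * a * n⁻¹) * (n * b * n⁻¹) * (n * a * n⁻¹)⁻¹ * (n * b * n⁻¹)⁻¹ := by group
    rw [e1, hb']
    calc (n * a * n⁻¹) * (q₂ * r₂) * (n * a * n⁻¹)⁻¹ * (q₂ * r₂)⁻¹
        = (n * a * n⁻¹) * q₂ * (r₂ * (n * a * n⁻¹)⁻¹) * r₂⁻¹ * q₂⁻¹ := by group
      _ = (n * a * n⁻¹) * q₂ * ((n * a * n⁻¹)⁻¹ * r₂) * r₂⁻¹ * q₂⁻¹ := by rw [hcomm3]
      _ = ((n * a * n⁻¹) * q₂ * (n * a * n⁻¹)⁻¹) * q₂⁻¹ := by group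
      _ = q₁ * q₂ * q₁⁻¹ * q₂⁻¹ := by rw [hcomm2]
  have hzQ : n * a ^ m * n⁻¹ ∈ Q := by
    rw [hzpow]
    have h2 : n * (a * b * a⁻¹ * b⁻¹) ^ (2 ^ k) * n⁻¹ = (n * (a * b * a⁻¹ * b⁻¹) * n⁻¹) ^ (2 ^ k) := by
      have := map_pow (MulAut.conj n) (a * b * a⁻¹ * b⁻¹) (2 ^ k)
      simp only [MulAut.conj_apply] at this
      exact this
    rw [h2, hcommQ]
    exact pow_mem (mul_mem (mul_mem (mul_mem hq₁ hq₂) (inv_mem hq₁)) (inv_mem hq₂)) _
  apply hq.unique_involution hm0 _ hzQ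
  have : n * a ^ m * n⁻¹ = MulAut.conj n (a ^ m) := by simp [MulAut.conj_apply]
  rw [this, MulEquiv.orderOf_eq]
  exact hq.orderOf_pow_m hm0

end key

section isolated
variable [Finite G]

/-- From an involution `z` central in the Sylow `2`-subgroup `S` all of whose `N_G(S)`-conjugates
other than itself lie in a subgroup `R` not containing `z`, we obtain an isolated involution. -/
theorem exists_isolated (S : Sylow 2 G) (R : Subgroup G) (z : G)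
    (hzS : z ∈ (S : Subgroup G)) (hz2 : orderOf z = 2) (hzR : z ∉ R)
    (hcent : ∀ s ∈ (S : Subgroup G), s ^ 2 = 1 → ∀ t ∈ (S : Subgroup G), s * t = t * s)
    (hkey : ∀ n ∈ Subgroup.normalizer ((S : Subgroup G) : Set G),
      n * z * n⁻¹ ∈ R ∨ n * z * n⁻¹ = z) :
    ∃ w : G, orderOf w = 2 ∧ w ∈ (S : Subgroup G) ∧
      ∀ g : G, g * w * g⁻¹ ∈ (S : Subgroup G) → g * w * g⁻¹ = w := by
  classical
  set Sg : Subgroup G := (S : Subgroup G) with hSg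
  set N : Subgroup G := Subgroup.normalizer (Sg : Set G) with hN
  set ZS : Subgroup G := Sg ⊓ Subgroup.centralizer (Sg : Set G) with hZS
  let _ : CommGroup ↥ZS :=
    { (inferInstance : Group ↥ZS) with
      mul_comm := fun x y => Subtype.ext (by
        have := (Subgroup.mem_centralizer_iff.mp x.2.2) y.1 y.2.1
        exact this.symm) }
  let _ : Fintype ↥N := Fintype.ofFinite _
  have hnS : ∀ n ∈ N, ∀ s, s ∈ Sg ↔ n * s * n⁻¹ ∈ Sg := fun n hn s =>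
    (Subgroup.mem_normalizer_iff.mp hn) s
  have hnS' : ∀ n ∈ N, ∀ s, s ∈ Sg → n⁻¹ * s * n ∈ Sg := by
    intro n hn s hs
    rw [hnS n hn]
    have : n * (n⁻¹ * s * n) * n⁻¹ = s := by group
    rw [this]; exact hs
  have hconj : ∀ n ∈ N, ∀ x ∈ ZS, n * x * n⁻¹ ∈ ZS := by
    intro n hn x hx
    refine Subgroup.mem_inf.mpr ⟨(hnS n hn x).mp hx.1, ?_⟩
    rw [Subgroup.mem_centralizer_iff]
    intro s hs
    have h1 := (Subgroup.mem_centralizer_iff.mp hx.2) (n⁻¹ * s * n) (hnS' n hn s hs)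
    calc s * (n * x * n⁻¹) = n * ((n⁻¹ * s * n) * x) * n⁻¹ := by group
      _ = n * (x * (n⁻¹ * s * n)) * n⁻¹ := by rw [h1]
      _ = n * x * n⁻¹ * s := by group
  let ψ : ↥N → (↥ZS →* ↥ZS) := fun n =>
    ((MulAut.conj (n : G)).toMonoidHom.comp ZS.subtype).codRestrict ZS
      (fun x => hconj n n.2 x x.2)
  have hψ : ∀ (n : ↥N) (x : ↥ZS), ((ψ n x : ↥ZS) : G) = (n : G) * x * (n : G)⁻¹ := fun n x => rfl
  have hz_sq : z ^ 2 = 1 := by rw [← hz2]; exact pow_orderOf_eq_one z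
  have hzZ : z ∈ ZS := by
    refine Subgroup.mem_inf.mpr ⟨hzS, ?_⟩
    rw [Subgroup.mem_centralizer_iff]
    intro s hs
    exact (hcent z hzS hz_sq s hs).symm
  let z₀ : ↥ZS := ⟨z, hzZ⟩
  let O : Finset ↥ZS := (Finset.univ : Finset ↥N).image (fun n => ψ n z₀)
  let w : ↥ZS := ∏ o ∈ O, o
  have hz₀O : z₀ ∈ O := by
    refine Finset.mem_image.mpr ⟨1, Finset.mem_univ _, ?_⟩
    apply Subtype.ext
    rw [hψ]
    simp
  have hO2 : ∀ o ∈ O, o ^ 2 = 1 := by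
    intro o ho
    obtain ⟨n, -, rfl⟩ := Finset.mem_image.mp ho
    rw [← map_pow]
    have : z₀ ^ 2 = 1 := Subtype.ext (by simpa using hz_sq)
    rw [this, map_one]
  have hOR : ∀ o ∈ O.erase z₀, o ∈ R.subgroupOf ZS := by
    intro o ho
    obtain ⟨hne, ho⟩ := Finset.mem_erase.mp ho
    obtain ⟨n, -, rfl⟩ := Finset.mem_image.mp ho
    rw [Subgroup.mem_subgroupOf, hψ]
    rcases hkey n n.2 with h1 | h1
    · exact h1
    · exfalso
      apply hne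
      apply Subtype.ext
      rw [hψ]
      exact h1
  have hw2 : w ^ 2 = 1 := by
    change (∏ o ∈ O, o) ^ 2 = 1
    rw [← Finset.prod_pow]
    exact Finset.prod_eq_one hO2
  have hw_eq : w = z₀ * ∏ o ∈ O.erase z₀, o := (Finset.mul_prod_erase O (fun o => o) hz₀O).symm
  have hw1 : w ≠ 1 := by
    intro h1
    rw [hw_eq] at h1
    have h2 : (∏ o ∈ O.erase z₀, o) ∈ R.subgroupOf ZS := Subgroup.prod_mem _ hOR
    have h3 : z₀ = (∏ o ∈ O.erase z₀, o)⁻¹ := eq_inv_of_mul_eq_one_left h1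
    have h4 : z₀ ∈ R.subgroupOf ZS := by rw [h3]; exact inv_mem h2
    exact hzR (Subgroup.mem_subgroupOf.mp h4)
  have hψmul : ∀ (n n' : ↥N) (x : ↥ZS), ψ (n * n') x = ψ n (ψ n' x) := by
    intro n n' x
    apply Subtype.ext
    rw [hψ, hψ, hψ]
    simp only [Subgroup.coe_mul]
    group
  have hψinj : ∀ n : ↥N, Function.Injective (ψ n) := by
    intro n x y hxy
    have h1 := congrArg (fun t : ↥ZS => (t : G)) hxy
    simp only [hψ] at h1
    apply Subtype.ext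
    have h2 := mul_right_cancel h1
    exact mul_left_cancel h2
  have himg : ∀ n : ↥N, O.image (ψ n) = O := by
    intro n
    ext o
    constructor
    · intro ho
      obtain ⟨o', ho', rfl⟩ := Finset.mem_image.mp ho
      obtain ⟨n', -, rfl⟩ := Finset.mem_image.mp ho'
      exact Finset.mem_image.mpr ⟨n * n', Finset.mem_univ _, hψmul n n' z₀⟩
    · intro ho
      obtain ⟨n', -, rfl⟩ := Finset.mem_image.mp ho
      refine Finset.mem_image.mpr ⟨ψ (n⁻¹ * n') z₀, Finset.mem_image.mpr ⟨_, Finset.mem_univ _, rfl⟩, ?_⟩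
      rw [← hψmul, mul_inv_cancel_left]
  have hfix : ∀ n : ↥N, ψ n w = w := by
    intro n
    change ψ n (∏ o ∈ O, o) = ∏ o ∈ O, o
    rw [map_prod]
    conv_rhs => rw [← himg n]
    rw [Finset.prod_image (fun x _ y _ hxy => hψinj n hxy)]
  have hwS : (w : G) ∈ Sg := w.2.1
  have hworder : orderOf (w : G) = 2 := by
    apply orderOf_eq_prime
    · have := congrArg (fun t : ↥ZS => (t : G)) hw2
      simpa using this
    · intro h1
      exact hw1 (Subtype.ext h1)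
  refine ⟨(w : G), hworder, hwS, ?_⟩
  intro g hg
  -- Burnside's fusion lemma
  have hcw : ∀ x ∈ Sg, x * (w : G) * x⁻¹ = w := by
    intro x hx
    have := (Subgroup.mem_centralizer_iff.mp w.2.2) x hx
    rw [this, mul_inv_cancel_right]
  have hg2 : (g * (w : G) * g⁻¹) ^ 2 = 1 := by
    have h1 : (g * (w : G) * g⁻¹) ^ 2 = g * (w : G) ^ 2 * g⁻¹ := by
      rw [pow_two, pow_two]; group
    rw [h1, ← hworder, pow_orderOf_eq_one]; group
  have hcg : ∀ x ∈ Sg, x * (g * (w : G) * g⁻¹) * x⁻¹ = g * (w : G) * g⁻¹ := by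
    intro x hx
    have := hcent _ hg hg2 x hx
    rw [← this, mul_inv_cancel_right]
  obtain ⟨n, hn, hn'⟩ := Cfsg.Agent.S0076.result S {(w : G)} {g * (w : G) * g⁻¹}
    (by intro x hx; rw [Set.mem_singleton_iff] at hx; rw [hx]; exact hwS)
    (by intro x hx; rw [Set.mem_singleton_iff] at hx; rw [hx]; exact hg)
    (by intro x hx; rw [Set.image_singleton, hcw x hx])
    (by intro x hx; rw [Set.image_singleton, hcg x hx])
    g (by rw [Set.image_singleton])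
  rw [Set.image_singleton, Set.singleton_eq_singleton_iff] at hn'
  rw [← hn']
  have := congrArg (fun t : ↥ZS => (t : G)) (hfix ⟨n, hn⟩)
  simpa [hψ] using this

end isolated

end Cfsg.Agent.Lib.Helper2.QuatProd
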