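import Mathlib
import Cfsg.Prelude.Def_Transfer
import Cfsg.Prelude.Def_Solvable
import Cfsg.Prelude.Def_Local
import Cfsg.Agent.Lib.Helper13.R3Defs
import Cfsg.Agent.Lib.Helper1.Hall

/-!
# S4404-BRIDGE (helper2): `bridge_of`

S4404 from the abstract main theorem: a Hall `2'`-subgroup `H₀ ≥ Q` of `S` (helper1 `Hall`), acting
on `↥M` by conjugation; `x` a generator of `Q`; `⁅Q, M⁆` is the image of `cSub ↥M x`.
-/

set_option autoImplicit false

namespace Cfsg.Agent.Lib.Helper2.R3BRIDGE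

open Pointwise Cfsg.Agent.Lib.Helper13.R3

open scoped commutatorElement

universe u

/-- Transport of "elementary abelian" along an isomorphism of subgroups. -/
theorem isElementaryAbelian_of_equiv {P P' : Type*} [Group P] [Group P'] {p : ℕ}
    {A : Subgroup P} {B : Subgroup P'} (e : A ≃* B) (hA : Cfsg.IsElementaryAbelian p A) :
    Cfsg.IsElementaryAbelian p B := by
  refine ⟨⟨⟨fun a b => ?_⟩⟩, fun b hb => ?_⟩
  · have h := hA.1.is_comm.comm (e.symm a) (e.symm b)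
    apply e.symm.injective
    rw [map_mul, map_mul]
    exact h
  · have h1 : ((e.symm ⟨b, hb⟩ : A) : P) ^ p = 1 := hA.2 _ (e.symm ⟨b, hb⟩).2
    have h2 : (e.symm ⟨b, hb⟩) ^ p = 1 := Subtype.ext (by rw [Subgroup.coe_pow]; exact h1)
    have h3 : (⟨b, hb⟩ : B) ^ p = 1 := by
      have := congrArg e h2
      rwa [map_pow, e.apply_symm_apply, map_one] at this
    have h4 := congrArg Subtype.val h3
    rwa [Subgroup.coe_pow] at h4

/-- The commutative group structure on an abelian subgroup. -/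
@[reducible] def cg {S : Type*} [Group S] (M : Subgroup S) (h : IsMulCommutative M) :
    CommGroup M :=
  { (inferInstance : Group M) with mul_comm := fun a b => h.is_comm.comm a b }

/-- The conjugation action of a subgroup `H₀` on an abelian normal subgroup `M`. -/
@[reducible] def act {S : Type*} [Group S] (H₀ M : Subgroup S) [hn : M.Normal]
    (h : IsMulCommutative M) : @MulDistribMulAction H₀ M _ (cg M h).toMonoid :=
  letI := cg M h
  { smul := fun a m => ⟨(a : S) * m * (a : S)⁻¹, hn.conj_mem m m.2 a⟩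
    one_smul := fun m => Subtype.ext (by
      show ((1 : H₀) : S) * m * ((1 : H₀) : S)⁻¹ = m
      simp)
    mul_smul := fun a b m => Subtype.ext (by
      show ((a * b : H₀) : S) * m * ((a * b : H₀) : S)⁻¹ = (a : S) * ((b : S) * m * (b : S)⁻¹) * (a : S)⁻¹
      simp [mul_assoc])
    smul_mul := fun a m n => Subtype.ext (by
      show (a : S) * ((m * n : M) : S) * (a : S)⁻¹
        = ((a : S) * m * (a : S)⁻¹) * ((a : S) * n * (a : S)⁻¹)
      simp [mul_assoc])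
    smul_one := fun a => Subtype.ext (by
      show (a : S) * ((1 : M) : S) * (a : S)⁻¹ = ((1 : M) : S)
      simp) }

/-- BRIDGE `bridge_of`. -/
theorem bridge_of
    (hmain : ∀ (H : Type u) [Group H] [Finite H] (M : Type u) [CommGroup M] [Finite M]
      [MulDistribMulAction H M], Odd (Nat.card H) → Group.IsSolvable H → (∀ m : M, m ^ 2 = 1) →
      ∀ x : H, IsRoot M x → (∃ k : ℕ, x ^ 3 ^ k = 1) → ∀ p : ℕ, p.Prime → p ≠ 2 → ∀ E : Subgroup H,
      Cfsg.IsElementaryAbelian p E → Nat.card E = p ^ 3 →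
      ∃ (r : ℕ) (F : Subgroup H), r.Prime ∧ r ≠ 2 ∧ Cfsg.IsElementaryAbelian r F ∧
        Nat.card F = r ^ 3 ∧ ¬ IsCyclic ↥(F ⊓ fixer (cSub M x)))
    {S : Type u} [Group S] [Finite S]
    [Group.IsSolvable S] (M : Subgroup S) [M.Normal] (hM : Cfsg.IsElementaryAbelian 2 M)
    (p : ℕ) (hp : p.Prime) (hp2 : p ≠ 2) (E : Subgroup S) (hE : Cfsg.IsElementaryAbelian p E) (hE3 : Nat.card ↥E = p ^ 3)
    (Q : Subgroup S) (hQc : IsCyclic ↥Q) (hQ3 : IsPGroup 3 ↥Q)
    (hQ1 : ∀ x ∈ Q, x ^ 3 ∈ Subgroup.centralizer (M : Set S)) (hQM : Nat.card ↥⁅Q, M⁆ = 4) :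
    ∃ (r : ℕ) (F : Subgroup S), r.Prime ∧ r ≠ 2 ∧ Cfsg.IsElementaryAbelian r F ∧ Nat.card ↥F = r ^ 3 ∧
      ¬ IsCyclic ↥(F ⊓ Subgroup.centralizer ((⁅Q, M⁆ : Subgroup S) : Set S)) := by
  classical
  have : Fact (Nat.Prime 3) := ⟨by norm_num⟩
  -- the Hall 2'-subgroup
  have hN0 : Nat.card S ≠ 0 := Nat.card_pos.ne'
  obtain ⟨n, hn⟩ : ∃ n, n = 2 ^ (Nat.card S).factorization 2 := ⟨_, rfl⟩
  obtain ⟨m, hm⟩ : ∃ m, m = Nat.card S / 2 ^ (Nat.card S).factorization 2 := ⟨_, rfl⟩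
  have hmn : Nat.card S = m * n := by
    rw [hm, hn, mul_comm]
    exact (Nat.ordProj_mul_ordCompl_eq_self (Nat.card S) 2).symm
  have h2m : Nat.Coprime 2 m := by
    rw [hm]
    exact Nat.coprime_ordCompl Nat.prime_two hN0
  have hcop : m.Coprime n := by
    rw [hn]
    exact (Nat.Coprime.pow_left _ h2m).symm
  have hQcop : (Nat.card Q).Coprime n := by
    obtain ⟨a, ha⟩ := IsPGroup.iff_card.1 hQ3
    rw [ha, hn]
    exact Nat.Coprime.pow _ _ (by norm_num)
  obtain ⟨H₀, hH₀card, hQH₀⟩ := Cfsg.Agent.Lib.Helper1.hall_exists_ge m n hmn hcop Q hQcop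
  have hm0 : 0 < m := by
    rcases Nat.eq_zero_or_pos m with h | h
    · rw [h, zero_mul] at hmn
      exact absurd hmn hN0
    · exact h
  have hidx : H₀.index = n := by
    have := H₀.card_mul_index
    rw [hH₀card, hmn] at this
    exact Nat.eq_of_mul_eq_mul_left hm0 this
  have hEcop : (Nat.card E).Coprime H₀.index := by
    rw [hE3, hidx, hn]
    exact Nat.Coprime.pow _ _ ((Nat.coprime_primes hp Nat.prime_two).2 hp2)
  obtain ⟨g, hg⟩ := Cfsg.Agent.Lib.Helper1.hall_dominance _ S rfl H₀ E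
    (by rw [hH₀card, hidx]; exact hcop) hEcop
  have hodd : Odd (Nat.card ↥H₀) := by
    rw [hH₀card]
    exact Nat.Coprime.odd_of_left h2m
  -- the generator of Q
  obtain ⟨gq, hgq⟩ := hQc.exists_generator
  obtain ⟨x₀, hx₀⟩ : ∃ x₀ : S, x₀ = (gq : S) := ⟨_, rfl⟩
  have hx₀Q : x₀ ∈ Q := by rw [hx₀]; exact gq.2
  have hgen : ∀ q ∈ Q, ∃ k : ℕ, x₀ ^ k = q := by
    intro q hq
    have h1 : (⟨q, hq⟩ : Q) ∈ Subgroup.zpowers gq := hgq _
    rw [← mem_powers_iff_mem_zpowers] at h1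
    obtain ⟨k, hk⟩ := h1
    refine ⟨k, ?_⟩
    have := congrArg Subtype.val hk
    rw [hx₀]
    simpa using this
  -- the instances
  let iCG : CommGroup ↥M := cg M hM.1
  let iAct : MulDistribMulAction ↥H₀ ↥M := act H₀ M hM.1
  have hsm : ∀ (a : ↥H₀) (v : ↥M), ((a • v : ↥M) : S) = (a : S) * v * (a : S)⁻¹ := fun a v => rfl
  have hdiv : ∀ (v w : ↥M), ((v / w : ↥M) : S) = (v : S) / (w : S) := fun v w => rfl
  obtain ⟨x, hx⟩ : ∃ x : ↥H₀, x = ⟨x₀, hQH₀ hx₀Q⟩ := ⟨_, rfl⟩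
  have hxc : (x : S) = x₀ := by rw [hx]
  have hM2 : ∀ v : ↥M, v ^ 2 = 1 := by
    intro v
    apply Subtype.ext
    have := hM.2 v v.2
    show ((v ^ 2 : ↥M) : S) = 1
    rw [Subgroup.coe_pow]
    exact this
  -- powers of x
  have hpowmem : ∀ (k : ℕ) (v : ↥M), ((x ^ k) • v) / v ∈ cSub ↥M x := by
    intro k
    induction k with
    | zero =>
      intro v
      rw [pow_zero, one_smul, div_self']
      exact (cSub ↥M x).one_mem
    | succ k ih =>
      intro v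
      have h1 : ((x ^ (k + 1)) • v) / v
          = ((x • ((x ^ k) • v)) / ((x ^ k) • v)) * (((x ^ k) • v) / v) := by
        rw [pow_succ', mul_smul, div_mul_div_cancel]
      rw [h1]
      exact (cSub ↥M x).mul_mem (mem_cSub.2 ⟨_, rfl⟩) (ih v)
  have hle : ⁅Q, M⁆ ≤ (cSub ↥M x).map M.subtype := by
    rw [Subgroup.commutator_le]
    intro q hq v hv
    obtain ⟨k, hk⟩ := hgen q hq
    refine ⟨((x ^ k) • (⟨v, hv⟩ : ↥M)) / ⟨v, hv⟩, hpowmem k ⟨v, hv⟩, ?_⟩
    show ((((x ^ k) • (⟨v, hv⟩ : ↥M)) / ⟨v, hv⟩ : ↥M) : S) = ⁅q, v⁆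
    rw [hdiv, hsm, Subgroup.coe_pow, hxc, hk, commutatorElement_def, div_eq_mul_inv]
  have hge : (cSub ↥M x).map M.subtype ≤ ⁅Q, M⁆ := by
    rintro _ ⟨w, hw, rfl⟩
    obtain ⟨v, rfl⟩ := mem_cSub.1 hw
    show (((x • v) / v : ↥M) : S) ∈ ⁅Q, M⁆
    rw [hdiv, hsm, hxc, div_eq_mul_inv]
    have := Subgroup.commutator_mem_commutator hx₀Q v.2
    rwa [commutatorElement_def] at this
  have heq : (cSub ↥M x).map M.subtype = ⁅Q, M⁆ := le_antisymm hge hle
  have hroot : IsRoot ↥M x := by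
    refine ⟨fun v => ?_, ?_⟩
    · apply Subtype.ext
      rw [hsm, Subgroup.coe_pow, hxc]
      have h1 := hQ1 x₀ hx₀Q
      rw [Subgroup.mem_centralizer_iff] at h1
      rw [← h1 v v.2, mul_assoc, mul_inv_cancel, mul_one]
    · rw [← hQM, ← heq]
      exact (Subgroup.card_map_of_injective M.subtype_injective).symm
  have hx3 : ∃ k : ℕ, x ^ 3 ^ k = 1 := by
    obtain ⟨a, ha⟩ := IsPGroup.iff_card.1 hQ3
    refine ⟨a, ?_⟩
    apply Subtype.ext
    rw [Subgroup.coe_pow, hxc, ← ha]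
    have h1 : (⟨x₀, hx₀Q⟩ : Q) ^ Nat.card Q = 1 := pow_card_eq_one'
    have h2 := congrArg Subtype.val h1
    rwa [Subgroup.coe_pow] at h2
  -- the conjugate of E inside H₀
  have hEle : MulAut.conj g⁻¹ • E ≤ H₀ := by
    rw [map_inv, Subgroup.pointwise_smul_subset_iff, inv_inv]
    exact hg
  obtain ⟨E', hE'⟩ : ∃ E' : Subgroup ↥H₀, E' = (MulAut.conj g⁻¹ • E).subgroupOf H₀ := ⟨_, rfl⟩
  have eE : ↥E ≃* ↥E' := by
    rw [hE']
    exact (Subgroup.equivSMul (MulAut.conj g⁻¹) E).trans (Subgroup.subgroupOfEquivOfLe hEle).symm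
  have hE'ea : Cfsg.IsElementaryAbelian p E' := isElementaryAbelian_of_equiv eE hE
  have hE'3 : Nat.card ↥E' = p ^ 3 := by
    rw [← hE3]
    exact Nat.card_congr eE.symm.toEquiv
  obtain ⟨r, F, hr, hr2, hFea, hF3, hncyc⟩ :=
    hmain ↥H₀ ↥M hodd inferInstance hM2 x hroot hx3 p hp hp2 E' hE'ea hE'3
  refine ⟨r, F.map H₀.subtype, hr, hr2, ?_, ?_, ?_⟩
  · exact isElementaryAbelian_of_equiv (Subgroup.equivMapOfInjective F H₀.subtype
      H₀.subtype_injective) hFea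
  · rw [← hF3]
    exact Subgroup.card_map_of_injective H₀.subtype_injective
  · intro hcyc
    apply hncyc
    have hmemc : ∀ f : ↥(F ⊓ fixer (cSub ↥M x)),
        (H₀.subtype.comp (F ⊓ fixer (cSub ↥M x)).subtype) f
          ∈ F.map H₀.subtype ⊓ Subgroup.centralizer ((⁅Q, M⁆ : Subgroup S) : Set S) := by
      intro f
      refine Subgroup.mem_inf.2 ⟨⟨f.1, f.2.1, rfl⟩, ?_⟩
      rw [Subgroup.mem_centralizer_iff]
      intro v hv
      rw [← heq] at hv
      obtain ⟨w, hw, rfl⟩ := hv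
      have h1 : (f.1 : ↥H₀) • w = w := f.2.2 w hw
      have h2 := congrArg Subtype.val h1
      rw [hsm] at h2
      have h3 : ((f.1 : ↥H₀) : S) * (w : S) = (w : S) * ((f.1 : ↥H₀) : S) := by
        have := congrArg (· * ((f.1 : ↥H₀) : S)) h2
        simpa [mul_assoc] using this
      exact h3.symm
    let φ : ↥(F ⊓ fixer (cSub ↥M x)) →*
        ↥(F.map H₀.subtype ⊓ Subgroup.centralizer ((⁅Q, M⁆ : Subgroup S) : Set S)) :=
      MonoidHom.codRestrict (H₀.subtype.comp (F ⊓ fixer (cSub ↥M x)).subtype) _ hmemc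
    refine isCyclic_of_injective φ ?_
    intro a b hab
    have h1 := congrArg Subtype.val hab
    exact Subtype.ext (Subtype.ext h1)

end Cfsg.Agent.Lib.Helper2.R3BRIDGE
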