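import Mathlib
import Cfsg.Prelude.Def_CaseTheorems
import Cfsg.Prelude.Def_OddOrderLocal
import Cfsg.Agent.Lib.Helper26.EssChain
import Cfsg.Agent.Lib.Helper26.R5Defs
import Cfsg.Agent.Lib.Helper26.OrderPCubeA
import Cfsg.Agent.Lib.Helper1.OmegaRankTwo
import Cfsg.Agent.Lib.Helper8.R5C
import Cfsg.Agent.Lib.Helper24.R5A
import Cfsg.Agent.Lib.Helper1.R5E
import Cfsg.Agent.Lib.Helper20.R5G
/-!
helper2: leaf R5H of S5289 (`global_analysis`, the global analysis of the extraspecial case),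
see `notes/S5289_plan.md` / `notes/S5289_wave2.lean`.  Built on helper24 R5A (`pgroup_eq_zpowers`),
helper1 R5E (`beta_engine`), helper20 R5G (`engine_two`), helper8 R5C, helper1 OmegaRankTwo and
helper26 OrderPCubeA.
-/
set_option autoImplicit false
open scoped commutatorElement
open Cfsg.Agent.Lib.Helper26 Cfsg.Agent.Lib.Helper26.R5

namespace Cfsg.Agent.Lib.Helper2.R5Leaf


/-- elements of the closure of two commuting elements of exponent `p`. -/
theorem exists_pow_of_mem_closure_pair' {p : ℕ} [Fact p.Prime] {Q : Type*} [Group Q] {u v : Q}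
    (huv : u * v = v * u) (hu : u ^ p = 1) (hv : v ^ p = 1) {z : Q}
    (hz : z ∈ Subgroup.closure ({u, v} : Set Q)) : ∃ i j : ℕ, z = u ^ i * v ^ j := by
  have hc : Commute u v := huv
  have hp1 : 1 ≤ p := (Fact.out : p.Prime).one_lt.le
  induction hz using Subgroup.closure_induction with
  | mem x hx =>
    rcases hx with rfl | rfl
    · exact ⟨1, 0, by simp⟩
    · exact ⟨0, 1, by simp⟩
  | one => exact ⟨0, 0, by simp⟩
  | mul x y _ _ hx hy =>
    obtain ⟨i, j, rfl⟩ := hx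
    obtain ⟨i', j', rfl⟩ := hy
    refine ⟨i + i', j + j', ?_⟩
    have h1 : Commute (v ^ j) (u ^ i') := (hc.pow_pow i' j).symm
    calc u ^ i * v ^ j * (u ^ i' * v ^ j') = u ^ i * (v ^ j * u ^ i') * v ^ j' := by group
      _ = u ^ i * (u ^ i' * v ^ j) * v ^ j' := by rw [h1.eq]
      _ = u ^ (i + i') * v ^ (j + j') := by rw [pow_add, pow_add]; group
  | inv x _ hx =>
    obtain ⟨i, j, rfl⟩ := hx
    refine ⟨(p - 1) * i, (p - 1) * j, ?_⟩
    have hinv : ∀ (w : Q), w ^ p = 1 → ∀ n : ℕ, (w ^ n)⁻¹ = w ^ ((p - 1) * n) := by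
      intro w hw n
      rw [inv_eq_iff_mul_eq_one, ← pow_add]
      have : n + (p - 1) * n = p * n := by
        have : n + (p - 1) * n = (1 + (p - 1)) * n := by ring
        rw [this]; congr 1; omega
      rw [this, pow_mul, hw, one_pow]
    rw [mul_inv_rev, hinv u hu i, hinv v hv j]
    exact ((hc.pow_pow _ _).symm).eq

/-- commutators are insensitive to central factors -/
theorem commutator_mul_central {G : Type*} [Group G] (a b z1 z2 : G) (h1 : ∀ g : G, g * z1 = z1 * g)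
    (h2 : ∀ g : G, g * z2 = z2 * g) : ⁅a * z1, b * z2⁆ = ⁅a, b⁆ := by
  have hx : ∀ y : G, (a * z1) * y * (a * z1)⁻¹ = a * y * a⁻¹ := by
    intro y
    have : z1 * y = y * z1 := (h1 y).symm
    calc (a * z1) * y * (a * z1)⁻¹ = a * (z1 * y) * z1⁻¹ * a⁻¹ := by group
      _ = a * (y * z1) * z1⁻¹ * a⁻¹ := by rw [this]
      _ = a * y * a⁻¹ := by group
  calc ⁅a * z1, b * z2⁆ = (a * z1) * (b * z2) * (a * z1)⁻¹ * (b * z2)⁻¹ := rfl
    _ = a * (b * z2) * a⁻¹ * (b * z2)⁻¹ := by rw [hx]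
    _ = a * b * (z2 * a⁻¹) * z2⁻¹ * b⁻¹ := by group
    _ = a * b * (a⁻¹ * z2) * z2⁻¹ * b⁻¹ := by rw [← h2 a⁻¹]
    _ = ⁅a, b⁆ := by rw [commutatorElement_def]; group

/-- the facts on a nonabelian group `T` of order `p³` and exponent `p` with respect to `rhoHom`. -/
theorem rho_eq_one_iff {T : Type*} [Group T] {p : ℕ} (hexp : ∀ t : T, t ^ p = 1) (γ : MulAut T) :
    rhoHom p T γ = 1 ↔ ∀ t : T, t⁻¹ * γ t ∈ Subgroup.center T := by
  have hDtop : ∀ t : T, t ∈ omegaSub p T := fun t => mem_omegaSub_of_pow (hexp t)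
  have hcen : ∀ z : ↥(omegaSub p T), z ∈ Subgroup.center ↥(omegaSub p T) ↔ (z : T) ∈ Subgroup.center T := by
    intro z
    rw [Subgroup.mem_center_iff, Subgroup.mem_center_iff]
    constructor
    · intro h t
      have := h ⟨t, hDtop t⟩
      exact congrArg Subtype.val this
    · intro h d
      apply Subtype.ext
      exact h (d : T)
  rw [rhoHom_eq_one_iff]
  constructor
  · intro h t
    have := (hcen _).mp (h ⟨t, hDtop t⟩)
    simpa [coe_characteristic_apply] using this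
  · intro h d
    rw [hcen]
    have := h (d : T)
    simpa [coe_characteristic_apply] using this


/-- (H) the global analysis: `T = 𝕋` of order `p³`, exponent `p`, inside `S' = N_S(T) ≠ T`. -/
theorem global_analysis {T S' : Type*} [Group T] [Group S'] [Finite S'] {p : ℕ} [Fact p.Prime] (hp : 3 < p)
    (hS' : IsPGroup p S') (hrk : Cfsg.PRankLE p 2 S')
    (ι : T →* S') (hι : Function.Injective ι)
    (hne : ∃ s : S', s ∉ ι.range)
    (hcard : Nat.card T = p ^ 3) (hexp : ∀ t : T, t ^ p = 1)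
    (Y : Subgroup (MulAut T))
    (c : S' →* MulAut T) (hc : ∀ s t, ι (c s t) = s * ι t * s⁻¹) (hcY : ∀ s, c s ∈ Y)
    (hsyl : ∀ N : Subgroup Y, N.Normal → IsPGroup p N → ∀ γ ∈ N, ∃ s : S', (γ : MulAut T) = c s)
    (hext : ∀ τ ∈ Y, (∀ s, ∃ s', τ * c s * τ⁻¹ = c s') → ∃ σ : MulAut S', ∀ t, σ (ι t) = ι (τ t))
    (w₁ w₂ : T) (hw₁ : w₁ ≠ 1) (hw₁c : ∀ t : T, t * w₁ = w₁ * t) (hw₂c : ∃ t : T, t * w₂ ≠ w₂ * t)
    (hN : ∀ s : S', (∃ i j : ℕ, s * ι w₁ * s⁻¹ = ι (w₁ ^ i * w₂ ^ j)) →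
      (∃ i j : ℕ, s * ι w₂ * s⁻¹ = ι (w₁ ^ i * w₂ ^ j)) → s ∈ ι.range)
    (τ' : MulAut T) (hτ' : τ' ∈ Y) (hτ₁ : τ' w₁ = w₁ ^ 2) (hτ₂ : τ' w₂ = w₂ ^ ((p + 1) / 2)) : False := by
  classical
  have hpp : p.Prime := Fact.out
  have hfinT : Finite T := Finite.of_injective ι hι
  -- T is nonabelian
  obtain ⟨t₀, ht₀⟩ := hw₂c
  have hna : ¬ ∀ a b : T, a * b = b * a := fun h => ht₀ (h t₀ w₂)
  have hZcard : Nat.card (Subgroup.center T) = p := card_center_of_cube hcard hna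
  obtain ⟨hcommZ, _, _⟩ := cube_structure hcard hna
  have hw₁Z : w₁ ∈ Subgroup.center T := Subgroup.mem_center_iff.mpr (fun t => hw₁c t)
  have hw₁ord : orderOf w₁ = p := orderOf_eq_prime (hexp w₁) hw₁
  have hZeq : Subgroup.zpowers w₁ = Subgroup.center T := by
    apply Subgroup.eq_of_le_of_card_ge (Subgroup.zpowers_le.mpr hw₁Z)
    rw [Nat.card_zpowers, hw₁ord, hZcard]
  have hZpow : ∀ z ∈ Subgroup.center T, ∃ i : ℕ, z = w₁ ^ i := by
    intro z hz
    rw [← hZeq] at hz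
    have hfin : IsOfFinOrder w₁ := isOfFinOrder_of_finite w₁
    rw [← hfin.mem_powers_iff_mem_zpowers, Submonoid.mem_powers_iff] at hz
    obtain ⟨i, hi⟩ := hz
    exact ⟨i, hi.symm⟩
  -- automorphisms preserve the centre
  have hautZ : ∀ (γ : MulAut T) (z : T), z ∈ Subgroup.center T → γ z ∈ Subgroup.center T := by
    intro γ z hz
    rw [Subgroup.mem_center_iff] at hz ⊢
    intro g
    have h1 := hz (γ⁻¹ g)
    have h2 := congrArg γ h1
    rw [map_mul, map_mul, MulAut.apply_inv_self] at h2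
    exact h2
  set ρ := rhoHom p T with hρ
  have hρ1 : ∀ γ : MulAut T, ρ γ = 1 ↔ ∀ t : T, t⁻¹ * γ t ∈ Subgroup.center T :=
    fun γ => rho_eq_one_iff hexp γ
  -- (2a) inner automorphisms
  have hcι : ∀ t : T, c (ι t) = MulAut.conj t := by
    intro t
    ext e
    apply hι
    rw [hc, MulAut.conj_apply, map_mul, map_mul, map_inv]
  have hρι : ∀ t : T, ρ (c (ι t)) = 1 := by
    intro t
    rw [hcι, hρ1]
    intro e
    have : e⁻¹ * (MulAut.conj t) e = ⁅e⁻¹, t⁆ := by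
      rw [MulAut.conj_apply, commutatorElement_def]; group
    rw [this]
    exact hcommZ _ _
  -- (2b)
  have hρker : ∀ s : S', ρ (c s) = 1 → s ∈ ι.range := by
    intro s hs
    rw [hρ1] at hs
    apply hN s
    · obtain ⟨i, hi⟩ := hZpow _ (hautZ (c s) w₁ hw₁Z)
      exact ⟨i, 0, by rw [← hc, hi, pow_zero, mul_one]⟩
    · obtain ⟨i, hi⟩ := hZpow _ (hs w₂)
      refine ⟨i, 1, ?_⟩
      rw [← hc, pow_one]
      congr 1
      have h1 : c s w₂ = w₂ * w₁ ^ i := by rw [← hi]; group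
      rw [h1]
      have h2 : w₂ * w₁ ^ i = w₁ ^ i * w₂ := by
        have := Subgroup.mem_center_iff.mp (Subgroup.pow_mem _ hw₁Z i) w₂
        exact this
      exact h2
  -- the quotient W
  have hDtop : ∀ t : T, t ∈ omegaSub p T := fun t => mem_omegaSub_of_pow (hexp t)
  have hDeq : omegaSub p T = ⊤ := eq_top_iff.mpr (fun t _ => hDtop t)
  have hDcard : Nat.card ↥(omegaSub p T) = p ^ 3 := by
    rw [(Subgroup.card_eq_iff_eq_top _).mpr hDeq, hcard]
  have hnaD : ¬ ∀ a b : ↥(omegaSub p T), a * b = b * a := by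
    intro h
    apply ht₀
    have := h ⟨t₀, hDtop t₀⟩ ⟨w₂, hDtop w₂⟩
    exact congrArg Subtype.val this
  have hZDcard : Nat.card (Subgroup.center ↥(omegaSub p T)) = p := card_center_of_cube hDcard hnaD
  have hWcard : Nat.card (↥(omegaSub p T) ⧸ Subgroup.center ↥(omegaSub p T)) = p ^ 2 := by
    have h1 := Subgroup.card_eq_card_quotient_mul_card_subgroup (Subgroup.center ↥(omegaSub p T))
    rw [hDcard, hZDcard] at h1
    have h2 : p ^ 3 = p ^ 2 * p := by ring
    rw [h2] at h1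
    exact (Nat.eq_of_mul_eq_mul_right hpp.pos h1).symm
  have hWcomm : ∀ x y : (↥(omegaSub p T) ⧸ Subgroup.center ↥(omegaSub p T)), x * y = y * x := by
    have := IsPGroup.isMulCommutative_of_card_eq_prime_sq hWcard
    exact fun x y => isMulCommutative_iff.mp this x y
  have hWexp : ∀ w : (↥(omegaSub p T) ⧸ Subgroup.center ↥(omegaSub p T)), w ^ p = 1 := by
    intro w
    induction w using QuotientGroup.induction_on with
    | H d =>
      rw [← QuotientGroup.mk_pow]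
      have : d ^ p = 1 := by
        apply Subtype.ext
        rw [Subgroup.coe_pow]
        exact hexp _
      rw [this]; rfl
  -- (3)
  set ψ : S' →* MulAut (↥(omegaSub p T) ⧸ Subgroup.center ↥(omegaSub p T)) := ρ.comp c with hψ
  have hψker : ∀ s, ψ s = 1 ↔ s ∈ ι.range := by
    intro s
    constructor
    · exact hρker s
    · rintro ⟨t, rfl⟩
      exact hρι t
  obtain ⟨r, hr⟩ := hne
  have ha1 : ψ r ≠ 1 := fun h => hr ((hψker r).mp h)
  have hRp : IsPGroup p ψ.range := hS'.of_surjective ψ.rangeRestrict ψ.rangeRestrict_surjective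
  have hRg : ψ.range = Subgroup.zpowers (ψ r) :=
    Cfsg.Agent.Lib.Helper24.R5Leaf.pgroup_eq_zpowers hWcomm hWcard hWexp ψ.range hRp ⟨r, rfl⟩ ha1
  have hap : (ψ r) ^ p = 1 := by
    by_contra hne1
    have h1 : ψ.range = Subgroup.zpowers ((ψ r) ^ p) :=
      Cfsg.Agent.Lib.Helper24.R5Leaf.pgroup_eq_zpowers hWcomm hWcard hWexp ψ.range hRp ⟨r ^ p, map_pow ψ r p⟩ hne1
    have h2 : ψ r ∈ Subgroup.zpowers ((ψ r) ^ p) := h1 ▸ ⟨r, rfl⟩
    obtain ⟨k, hk⟩ := Subgroup.mem_zpowers_iff.mp h2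
    have h3 : (ψ r) ^ ((p : ℤ) * k - 1) = 1 := by
      rw [zpow_sub, zpow_mul, zpow_natCast, hk, zpow_one, mul_inv_cancel]
    have h4 : (orderOf (ψ r) : ℤ) ∣ (p : ℤ) * k - 1 := orderOf_dvd_iff_zpow_eq_one.mpr h3
    obtain ⟨j, hj⟩ := hS' r
    have h5 : (ψ r) ^ (p ^ j) = 1 := by rw [← map_pow, hj, map_one]
    obtain ⟨i, _, hi⟩ := (Nat.dvd_prime_pow hpp).mp (orderOf_dvd_of_pow_eq_one h5)
    have hi0 : i ≠ 0 := by
      rintro rfl
      rw [pow_zero, orderOf_eq_one_iff] at hi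
      exact ha1 hi
    have h6 : (p : ℤ) ∣ (orderOf (ψ r) : ℤ) := by
      rw [hi]; push_cast; exact dvd_pow_self _ hi0
    have h7 : (p : ℤ) ∣ (p : ℤ) * k - 1 := h6.trans h4
    have h8 : (p : ℤ) ∣ 1 := by
      have := dvd_sub (dvd_mul_right (p : ℤ) k) h7
      simpa using this
    have h9 : p ∣ 1 := by exact_mod_cast h8
    exact hpp.one_lt.ne' (Nat.dvd_one.mp h9)
  have haord : orderOf (ψ r) = p := orderOf_eq_prime hap ha1
  have hrp : r ^ p ∈ ι.range := (hψker _).mp (by rw [map_pow, hap])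
  have hkr : ψ.ker = ι.range := by
    ext s
    rw [MonoidHom.mem_ker]
    exact hψker s
  have hιcard : Nat.card ι.range = p ^ 3 := by
    rw [← hcard]
    exact (Nat.card_congr (MonoidHom.ofInjective hι).toEquiv).symm
  have hS'card : Nat.card S' = p ^ 4 := by
    have h1 := Subgroup.card_eq_card_quotient_mul_card_subgroup ψ.ker
    rw [Nat.card_congr (QuotientGroup.quotientKerEquivRange ψ).toEquiv, hRg, Nat.card_zpowers,
      haord, hkr, hιcard] at h1
    rw [h1]; ring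
  -- (1) elements of order dividing p lie in ι.range
  have hΩ : ∀ x : S', x ^ p = 1 → x ∈ ι.range := by
    set O : Subgroup S' := Subgroup.closure {x : S' | x ^ p = 1} with hO
    have hOexp : ∀ g ∈ O, g ^ p = 1 := fun g hg =>
      Cfsg.Agent.Lib.Helper1.omega_exponent_of_rank_two hp hS' hrk g hg
    have hOexp' : ∀ x : ↥O, x ^ p = 1 := by
      intro x
      apply Subtype.ext
      rw [Subgroup.coe_pow]
      exact hOexp _ x.2
    have hrkO : Cfsg.PRankLE p 2 ↥O := by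
      intro A hA hAe
      have h1 := hrk (A.map O.subtype) (by
        constructor
        constructor
        rintro ⟨_, a, ha, rfl⟩ ⟨_, b, hb, rfl⟩
        apply Subtype.ext
        show O.subtype a * O.subtype b = O.subtype b * O.subtype a
        rw [← map_mul, ← map_mul]
        have := hA.is_comm.comm ⟨a, ha⟩ ⟨b, hb⟩
        exact congrArg O.subtype (congrArg Subtype.val this)) (by
        rintro _ ⟨a, ha, rfl⟩
        rw [← map_pow, hAe a ha, map_one])
      rwa [Subgroup.card_map_of_injective O.subtype_injective] at h1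
    have hOcard : Nat.card ↥O ≤ p ^ 3 :=
      Cfsg.Agent.Lib.Helper8.R5Leaf.card_le_of_exp_rank_two hOexp' hrkO
    have hle : ι.range ≤ O := by
      rintro _ ⟨t, rfl⟩
      apply Subgroup.subset_closure
      show (ι t) ^ p = 1
      rw [← map_pow, hexp, map_one]
    have heq : ι.range = O := Subgroup.eq_of_le_of_card_ge hle (by rw [hιcard]; exact hOcard)
    intro x hx
    rw [heq]
    exact Subgroup.subset_closure hx
  -- (4) automorphisms trivial on T/Z(T) have order dividing p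
  have htool : ∀ γ : MulAut T, ρ γ = 1 → γ ^ p = 1 := by
    intro γ hγ
    rw [hρ1] at hγ
    -- γ fixes the centre pointwise
    have hk₀Z : ⁅t₀, w₂⁆ ∈ Subgroup.center T := hcommZ _ _
    have hk₀1 : ⁅t₀, w₂⁆ ≠ 1 := by
      intro h
      exact ht₀ (commutatorElement_eq_one_iff_mul_comm.mp h)
    have hγk₀ : γ ⁅t₀, w₂⁆ = ⁅t₀, w₂⁆ := by
      have hz1 := hγ t₀
      have hz2 := hγ w₂
      have e1 : γ t₀ = t₀ * (t₀⁻¹ * γ t₀) := by group
      have e2 : γ w₂ = w₂ * (w₂⁻¹ * γ w₂) := by group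
      rw [map_commutatorElement, e1, e2]
      exact commutator_mul_central _ _ _ _ (fun g => Subgroup.mem_center_iff.mp hz1 g)
        (fun g => Subgroup.mem_center_iff.mp hz2 g)
    have hk₀ord : orderOf ⁅t₀, w₂⁆ = p := orderOf_eq_prime (hexp _) hk₀1
    have hk₀eq : Subgroup.zpowers ⁅t₀, w₂⁆ = Subgroup.center T := by
      apply Subgroup.eq_of_le_of_card_ge (Subgroup.zpowers_le.mpr hk₀Z)
      rw [Nat.card_zpowers, hk₀ord, hZcard]
    have hγw₁ : γ w₁ = w₁ := by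
      have : w₁ ∈ Subgroup.zpowers ⁅t₀, w₂⁆ := hk₀eq ▸ hw₁Z
      obtain ⟨j, hj⟩ := Subgroup.mem_zpowers_iff.mp this
      rw [← hj, map_zpow, hγk₀]
    have hγZ : ∀ z ∈ Subgroup.center T, γ z = z := by
      intro z hz
      obtain ⟨i, rfl⟩ := hZpow z hz
      rw [map_pow, hγw₁]
    have hpow : ∀ (n : ℕ) (t : T), (γ ^ n) t = t * (t⁻¹ * γ t) ^ n := by
      intro n
      induction n with
      | zero => intro t; simp
      | succ n ih =>
        intro t
        have e : γ t = t * (t⁻¹ * γ t) := by group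
        rw [pow_succ', MulAut.mul_apply, ih, map_mul, map_pow, hγZ _ (hγ t), pow_succ', ← mul_assoc, ← e]
    ext t
    rw [hpow, hexp, mul_one, MulAut.one_apply]
  -- the kernel of ρ on Y consists of elements `c s`
  have hker : ∀ γ ∈ Y, ρ γ = 1 → ∃ s : S', γ = c s := by
    intro γ hγY hγ
    set Nn : Subgroup ↥Y := (ρ.comp Y.subtype).ker with hNn
    have hNp : IsPGroup p ↥Nn := by
      rintro ⟨⟨δ, hδY⟩, hδ⟩
      refine ⟨1, ?_⟩
      rw [pow_one]
      have hδ' : ρ δ = 1 := hδ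
      have := htool δ hδ'
      apply Subtype.ext
      apply Subtype.ext
      simpa using this
    exact hsyl Nn (MonoidHom.normal_ker _) hNp ⟨γ, hγY⟩ hγ
  have hpp2 : p ≠ 2 := by omega
  have ha1' : ρ (c r) ≠ 1 := ha1
  by_cases hcase : ∃ β ∈ Y, (∃ j : ℕ, β ^ p ^ j = 1) ∧ ρ β ∉ Subgroup.zpowers (ρ (c r))
  · obtain ⟨β, hβY, hβp, hβ⟩ := hcase
    exact Cfsg.Agent.Lib.Helper20.R5Leaf.engine_two hp hS' hrk ι hι
      ⟨t₀, w₂, hexp t₀, hexp w₂, ht₀⟩ Y c hc hcY hker r ha1' hrp β hβY hβp hβ hext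
  · push Not at hcase
    have hnorm : ∀ s, ∃ s', τ' * c s * τ'⁻¹ = c s' := by
      intro s
      have hβY : τ' * c s * τ'⁻¹ ∈ Y := Y.mul_mem (Y.mul_mem hτ' (hcY s)) (Y.inv_mem hτ')
      have hβp : ∃ j : ℕ, (τ' * c s * τ'⁻¹) ^ p ^ j = 1 := by
        obtain ⟨j, hj⟩ := hS' s
        refine ⟨j, ?_⟩
        rw [conj_pow, ← map_pow, hj, map_one, mul_one, mul_inv_cancel]
      have h1 := hcase _ hβY hβp
      obtain ⟨k, hk⟩ := Subgroup.mem_zpowers_iff.mp h1
      have h2 : ρ ((τ' * c s * τ'⁻¹) * (c (r ^ k))⁻¹) = 1 := by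
        rw [map_mul ρ, map_inv, map_zpow, map_zpow, hk, mul_inv_cancel]
      obtain ⟨s'', hs''⟩ := hker _ (Y.mul_mem hβY (Y.inv_mem (hcY _))) h2
      refine ⟨s'' * r ^ k, ?_⟩
      rw [map_mul, ← hs'']; group
    obtain ⟨σ, hσ⟩ := hext τ' hτ' hnorm
    have hN' : ∀ s : S', s * ι w₂ * s⁻¹ ∈ Subgroup.closure ({ι w₁, ι w₂} : Set S') →
        s ∈ ι.range := by
      intro s hs
      apply hN s
      · obtain ⟨i, hi⟩ := hZpow _ (hautZ (c s) w₁ hw₁Z)
        exact ⟨i, 0, by rw [← hc, hi, pow_zero, mul_one]⟩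
      · have huv : ι w₁ * ι w₂ = ι w₂ * ι w₁ := by
          rw [← map_mul, ← map_mul, hw₁c w₂]
        obtain ⟨i, j, hij⟩ := exists_pow_of_mem_closure_pair' (p := p) huv
          (by rw [← map_pow, hexp, map_one]) (by rw [← map_pow, hexp, map_one]) hs
        exact ⟨i, j, by rw [hij, map_mul, map_pow, map_pow]⟩
    have hodd : p % 2 = 1 := hpp.eq_two_or_odd.resolve_left hpp2
    have huu : 2 * ((p + 1) / 2) ≡ 1 [MOD p] := by
      have h2 : 2 * ((p + 1) / 2) = p + 1 := by omega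
      rw [h2]
      simp [Nat.ModEq]
    have h := Cfsg.Agent.Lib.Helper1.R5Leaf.beta_engine hp hS'card ι.range hιcard
      (by rintro _ ⟨t, rfl⟩; rw [← map_pow, hexp, map_one]) hΩ (ι w₁) (ι w₂) ⟨w₁, rfl⟩ ⟨w₂, rfl⟩
      (by intro h; apply hw₁; apply hι; rw [h, map_one])
      (by rintro _ ⟨t, rfl⟩; rw [← map_mul, ← map_mul, hw₁c])
      ⟨ι t₀, ⟨t₀, rfl⟩, by intro h; apply ht₀; apply hι; rw [map_mul, map_mul, h]⟩
      hN' σ 2 ((p + 1) / 2) huu (by rw [hσ, hτ₁, map_pow]) (by rw [hσ, hτ₂, map_pow])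
    have h3 : p ∣ 3 := by
      have := (Nat.modEq_iff_dvd' (by norm_num : 1 ≤ 2 * 2)).mp h.symm
      simpa using this
    have := Nat.le_of_dvd (by norm_num) h3
    omega

end Cfsg.Agent.Lib.Helper2.R5Leaf
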