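/-
helper2: S4581 leaf (T2TOP): in a 2-group `G = P` with `x² ∈ P'` for all `x`, every irreducible
character of odd degree is linear, hence real.
-/
import Mathlib
import Cfsg.Prelude.Def_Blocks
import Cfsg.Agent.Lib.Helper5.RODefs
import Cfsg.Agent.Lib.Helper6.LinChar
import Cfsg.Agent.Lib.Helper24.IrrFacts

set_option autoImplicit false

namespace Cfsg.Agent.Lib.Helper2.RO

open Cfsg Cfsg.Agent.Lib.Helper5.RO Cfsg.Agent.Lib.Helper6 Cfsg.Agent.CharLib

universe u

/-- (T2TOP) a 2-group with `P/P'` elementary abelian: odd degree ⟹ linear ⟹ real. -/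
theorem allOddReal_of_top {G : Type u} [Group G] [Finite G] (P : Sylow 2 G)
    (hP : (P : Subgroup G) = ⊤) (hsq : SqComm (P : Subgroup G)) : AllOddReal G := by
  intro χ hodd g
  -- `|G|` is a power of two
  have hG : IsPGroup 2 G := by
    have h := P.2
    intro x
    obtain ⟨k, hk⟩ := h ⟨x, by rw [hP]; trivial⟩
    refine ⟨k, ?_⟩
    have := congrArg Subtype.val hk
    simpa using this
  obtain ⟨n, hn⟩ := hG.exists_card_eq
  -- the degree is one
  have hdvd := Cfsg.Agent.Lib.Helper24.irr_charDegree_dvd_card χ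
  rw [hn] at hdvd
  obtain ⟨m, -, hm⟩ := (Nat.dvd_prime_pow Nat.prime_two).mp hdvd
  have hdeg : charDegree (χ : G → ℂ) = 1 := by
    rcases Nat.eq_zero_or_pos m with h0 | hpos
    · rw [hm, h0, pow_zero]
    · exfalso
      rw [hm] at hodd
      have : Even (2 ^ m) := (Nat.even_pow' hpos.ne').mpr even_two
      exact (Nat.not_even_iff_odd.mpr hodd) this
  have h1 : (χ : G → ℂ) 1 = 1 := by
    rw [Cfsg.Agent.Lib.Helper24.irr_apply_one, hdeg, Nat.cast_one]
  -- `χ` is a homomorphism to the units, trivial on commutators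
  let φ : G →* ℂˣ := linCharUnitsHom (IsIrrCharacter.isCharacter χ.2) h1
  have hφ : ∀ x : G, ((φ x : ℂˣ) : ℂ) = (χ : G → ℂ) x := fun x => rfl
  have hsqg : g ^ 2 ∈ ⁅(P : Subgroup G), (P : Subgroup G)⁆ := hsq g (by rw [hP]; trivial)
  have hker : ∀ y ∈ ⁅(P : Subgroup G), (P : Subgroup G)⁆, φ y = 1 := by
    intro y hy
    have hle : ⁅(P : Subgroup G), (P : Subgroup G)⁆ ≤ φ.ker := by
      rw [Subgroup.commutator_le]
      intro a _ b _
      rw [MonoidHom.mem_ker, commutatorElement_def, map_mul, map_mul, map_mul, map_inv, map_inv]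
      rw [mul_comm (φ a) (φ b), mul_assoc, mul_assoc, mul_inv_cancel_left, mul_inv_cancel]
    exact MonoidHom.mem_ker.mp (hle hy)
  have h2 : (φ g) ^ 2 = 1 := by rw [← map_pow]; exact hker _ hsqg
  have h3 : ((χ : G → ℂ) g) ^ 2 = 1 := by
    rw [← hφ g, ← Units.val_pow_eq_pow_val, h2, Units.val_one]
  have h4 : (χ : G → ℂ) g = 1 ∨ (χ : G → ℂ) g = -1 := sq_eq_one_iff.mp h3
  rcases h4 with h | h <;> rw [h] <;> simp

end Cfsg.Agent.Lib.Helper2.RO
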