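/-
helper2: real characters in the principal `p`-block, `p` odd (for S4860).

Let `r` be the indicator function of the `p`-regular elements, `ν(χ) = |G|⁻¹ ∑ χ(g²)` the
Frobenius–Schur indicator and `wt χ = ⟨r, χ⟩ ν(χ)`.  Expanding `r` in irreducible characters and
averaging over the squares (for `p` odd, `g²` is `p`-regular iff `g` is) gives
`∑_χ wt χ = wt 1`.  `wt χ ≠ 0` exactly for the real characters in the principal block, and `wt`
is constant on Galois orbits.
-/
import Mathlib
import Cfsg.Agent.Lib.Helper6.ThirdMain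
import Cfsg.Agent.Lib.Lead.FrobSchur
import Cfsg.Agent.Lib.Lead.CharMain
import Cfsg.Agent.Lib.Helper23.PConjA

set_option autoImplicit false

namespace Cfsg.Agent.Lib.Helper2.RealB0

open Cfsg Cfsg.Agent.CharLib Cfsg.Agent.Lib.Helper6 Cfsg.Agent.Lib.Helper24
open scoped ComplexConjugate

universe u
variable {G : Type u} [Group G]

/-- The Frobenius–Schur indicator. -/
noncomputable def nu [Fintype G] (χ : G → ℂ) : ℂ := (Nat.card G : ℂ)⁻¹ * ∑ s : G, χ (s * s)

/-- The weight `⟨r, χ⟩ ν(χ)`. -/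
noncomputable def wt [Fintype G] (p : ℕ) (χ : G → ℂ) : ℂ := classInner (pRegInd p) χ * nu χ

theorem pRegInd_conj (p : ℕ) (g : G) : conj (pRegInd p g : ℂ) = pRegInd p g := by
  classical
  unfold pRegInd
  split_ifs <;> simp

theorem pRegInd_sq (p : ℕ) [hpp : Fact p.Prime] (hp : p ≠ 2) (g : G) :
    (pRegInd p (g * g) : ℂ) = pRegInd p g := by
  classical
  have hiff : p ∣ orderOf (g * g) ↔ p ∣ orderOf g := by
    rw [← pow_two]
    constructor
    · intro h
      exact h.trans (orderOf_pow_dvd 2)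
    · intro h
      have h1 : orderOf g = orderOf (g ^ 2) * Nat.gcd (orderOf g) 2 := by
        rw [orderOf_pow' g two_ne_zero]
        exact (Nat.div_mul_cancel (Nat.gcd_dvd_left _ _)).symm
      rw [h1] at h
      rcases (Nat.Prime.dvd_mul hpp.out).mp h with h2 | h2
      · exact h2
      · exfalso
        have h3 : p ∣ 2 := h2.trans (Nat.gcd_dvd_right _ _)
        exact hp ((Nat.prime_dvd_prime_iff_eq hpp.out Nat.prime_two).mp h3)
  unfold pRegInd
  simp only [hiff]

theorem pRegInd_pow (p : ℕ) (g : G) (k : ℕ) (hk : (orderOf g).Coprime k) :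
    (pRegInd p (g ^ k) : ℂ) = pRegInd p g := by
  unfold pRegInd
  rw [Nat.Coprime.orderOf_pow hk]

theorem nu_one [Fintype G] : nu (1 : G → ℂ) = 1 := by
  unfold nu
  simp only [Pi.one_apply, Finset.sum_const, Finset.card_univ, nsmul_eq_mul, mul_one]
  rw [Nat.card_eq_fintype_card]
  exact inv_mul_cancel₀ (by exact_mod_cast Fintype.card_ne_zero)

/-- The key identity: `∑_χ wt χ = wt 1`. -/
theorem sum_wt [Fintype G] [Fintype (IrrCharacter G)] (p : ℕ) [Fact p.Prime] (hp : p ≠ 2) :
    ∑ χ : IrrCharacter G, wt p (χ : G → ℂ) = wt p (1 : G → ℂ) := by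
  classical
  have hexp := classFunction_eq_sum (pRegInd_isClassFunction (G := G) p)
  have h1 : ∀ g : G, (pRegInd p (g * g) : ℂ) =
      ∑ χ : IrrCharacter G, classInner (pRegInd p) (χ : G → ℂ) * (χ : G → ℂ) (g * g) := by
    intro g
    have := congrFun hexp (g * g)
    simp only [Finset.sum_apply, Pi.smul_apply, smul_eq_mul] at this
    exact this
  have h2 : (Nat.card G : ℂ)⁻¹ * ∑ g : G, (pRegInd p (g * g) : ℂ) =
      ∑ χ : IrrCharacter G, wt p (χ : G → ℂ) := by
    simp only [h1]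
    rw [Finset.sum_comm, Finset.mul_sum]
    apply Finset.sum_congr rfl
    intro χ _
    unfold wt nu
    rw [← Finset.mul_sum]
    ring
  rw [← h2]
  unfold wt
  rw [nu_one, mul_one]
  unfold classInner
  congr 1
  apply Finset.sum_congr rfl
  intro g _
  rw [pRegInd_sq p hp g]
  simp

theorem classInner_pRegInd_eq [Fintype G] (p : ℕ) (χ : G → ℂ) :
    classInner (pRegInd p) χ = (Nat.card G : ℂ)⁻¹ * conj (∑ g : G, pRegInd p g * χ g) := by
  unfold classInner
  congr 1
  rw [map_sum]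
  apply Finset.sum_congr rfl
  intro g _
  rw [map_mul, pRegInd_conj]

theorem classInner_pRegInd_eq_zero_iff [Fintype G] (p : ℕ) (χ : IrrCharacter G) :
    classInner (pRegInd p) (χ : G → ℂ) = 0 ↔ omegaFun (χ : G → ℂ) (pRegInd p) = 0 := by
  have hG : (Nat.card G : ℂ) ≠ 0 := card_ne_zero_complex
  have h1 : (χ : G → ℂ) 1 ≠ 0 := irr_apply_one_ne_zero χ
  rw [classInner_pRegInd_eq]
  unfold omegaFun
  rw [mul_eq_zero, div_eq_zero_iff]
  constructor
  · rintro (h | h)
    · exact absurd (inv_eq_zero.mp h) hG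
    · left
      exact (map_eq_zero _).mp h
  · rintro (h | h)
    · right
      rw [h, map_zero]
    · exact absurd h h1

theorem wt_eq_zero_of_not_mem [Fintype G] {M : Ideal AlgInt} {p : ℕ} [Fact p.Prime]
    (hM : IsPModular p M) (χ : IrrCharacter G) (hχ : χ ∉ principalBlock M G) :
    wt p (χ : G → ℂ) = 0 := by
  unfold wt
  rw [(classInner_pRegInd_eq_zero_iff p χ).mpr (omegaFun_pRegInd_eq_zero hM χ hχ), zero_mul]

theorem nu_cases [Fintype G] (χ : IrrCharacter G) :
    (nu (χ : G → ℂ) = 0 ∨ nu (χ : G → ℂ) = 1 ∨ nu (χ : G → ℂ) = -1) ∧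
      (nu (χ : G → ℂ) = 0 ↔ ∃ s : G, ((χ : G → ℂ) s).im ≠ 0) := by
  obtain ⟨n, ρ, hirr, hρ⟩ := χ.2
  have := frobenius_schur ρ
  rw [hρ] at this
  exact this

theorem wt_eq_zero_of_not_real [Fintype G] (p : ℕ) (χ : IrrCharacter G)
    (h : ∃ s : G, ((χ : G → ℂ) s).im ≠ 0) : wt p (χ : G → ℂ) = 0 := by
  unfold wt
  rw [(nu_cases χ).2.mpr h, mul_zero]

theorem wt_ne_zero [Fintype G] {M : Ideal AlgInt} {p : ℕ} [Fact p.Prime]
    (hM : IsPModular p M) (χ : IrrCharacter G) (hχ : χ ∈ principalBlock M G)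
    (hreal : ∀ s : G, ((χ : G → ℂ) s).im = 0) : wt p (χ : G → ℂ) ≠ 0 := by
  have hprime : M.IsPrime := isPrime_of_isPModular hM
  unfold wt
  apply mul_ne_zero
  · intro h0
    have h1 := (classInner_pRegInd_eq_zero_iff p χ).mp h0
    have h2 := (mem_principalBlock_iff hM χ).mp hχ
    apply h2
    rw [h1]
    exact memLocalIdeal_zero hprime.one_notMem
  · intro h0
    obtain ⟨s, hs⟩ := (nu_cases χ).2.mp h0
    exact hs (hreal s)

/-- The weight is constant on Galois orbits. -/
theorem wt_galois [Fintype G] (p : ℕ) (α β : IrrCharacter G) (σ : ℂ ≃+* ℂ)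
    (h : (β : G → ℂ) = (σ : ℂ → ℂ) ∘ (α : G → ℂ)) : wt p (β : G → ℂ) = wt p (α : G → ℂ) := by
  classical
  haveI : NeZero (Nat.card G) := ⟨Nat.card_pos.ne'⟩
  have hβ : ∀ g : G, (β : G → ℂ) g = σ ((α : G → ℂ) g) := fun g => congrFun h g
  -- the indicator is fixed by `σ`
  have hν : nu (β : G → ℂ) = nu (α : G → ℂ) := by
    have h1 : nu (β : G → ℂ) = σ (nu (α : G → ℂ)) := by
      unfold nu
      rw [map_mul, map_inv₀, map_natCast, map_sum]
      congr 1
      apply Finset.sum_congr rfl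
      intro s _
      exact hβ (s * s)
    rw [h1]
    rcases (nu_cases α).1 with h2 | h2 | h2
    · rw [h2, map_zero]
    · rw [h2, map_one]
    · rw [h2, map_neg, map_one]
  obtain ⟨k, -, hk, hσ⟩ := Cfsg.Agent.Lib.Helper23.PConj.exists_pow_of_ringEquiv σ (Nat.card G)
  have hchar : ∀ g : G, (β : G → ℂ) g = (α : G → ℂ) (g ^ k) := by
    intro g
    rw [hβ g]
    exact Cfsg.Agent.Lib.Helper23.PConj.ringEquiv_apply_char (IsIrrCharacter.isCharacter α.2)
      σ k hσ g
  have hinner : classInner (pRegInd p) (β : G → ℂ) = classInner (pRegInd p) (α : G → ℂ) := by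
    unfold classInner
    congr 1
    have hcop : (Nat.card G).Coprime k := hk.symm
    rw [← Equiv.sum_comp (powCoprime hcop)
      (fun y => (pRegInd p y : ℂ) * conj ((α : G → ℂ) y))]
    apply Finset.sum_congr rfl
    intro g _
    rw [powCoprime_apply, hchar g]
    congr 1
    symm
    apply pRegInd_pow
    exact Nat.Coprime.coprime_dvd_left (orderOf_dvd_natCard g) hcop
  unfold wt
  rw [hν, hinner]

end Cfsg.Agent.Lib.Helper2.RealB0
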