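/-
helper2: the LIFT leaf for S4937 (relative central characters; planner helper23).

Let `r : G → ℂ` be "multiplicative modulo the local ideal" on a subgroup `C` with `N ⊔ C = ⊤`,
with local-integer values and `r ≡ 1` on `C ⊓ N`.  Then there is a linear character
`β : G →* ℂˣ`, trivial on `N`, with `β(c) r(c) ≡ 1` modulo the local ideal for all `c ∈ C`
(the Teichmüller lift of the inverse of `r mod M`).
-/
import Mathlib
import Cfsg.Prelude.Def_Blocks
import Cfsg.Agent.Lib.Helper24.LocalRing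
import Cfsg.Agent.Lib.Helper24.AlpDadeL2

set_option autoImplicit false

namespace Cfsg.Agent.Lib.Helper2.RelCentLift

open Cfsg Cfsg.Agent.Lib.Helper24

universe u

variable {M : Ideal AlgInt}

/-- If `a / b` (with `b ∉ M`) lies in the local ideal then `a ∈ M`. -/
theorem mem_of_memLocalIdeal_div [hp : M.IsPrime] {a b : AlgInt} (hb : b ∉ M)
    (h : MemLocalIdeal M ((a : ℂ) / (b : ℂ))) : a ∈ M := by
  have hbR : MemLocalRing M (b : ℂ) := memLocalRing_of_algInt b hp.one_notMem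
  have h1 := memLocalIdeal_mul_right h hbR
  have hb0 := coe_ne_zero_of_not_mem hb
  rw [div_mul_cancel₀ _ hb0] at h1
  exact (memLocalIdeal_coe_iff a).mp h1

/-- The local ideal is a prime ideal of the local ring. -/
theorem memLocalIdeal_or_of_mul [hp : M.IsPrime] {z w : ℂ} (hz : MemLocalRing M z)
    (hw : MemLocalRing M w) (h : MemLocalIdeal M (z * w)) :
    MemLocalIdeal M z ∨ MemLocalIdeal M w := by
  obtain ⟨a, b, hb, rfl⟩ := hz
  obtain ⟨a', b', hb', rfl⟩ := hw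
  have hbb : b * b' ∉ M := fun hm => (hp.mem_or_mem hm).elim hb hb'
  have h1 : ((a * a' : AlgInt) : ℂ) / ((b * b' : AlgInt) : ℂ)
      = (a : ℂ) / (b : ℂ) * ((a' : ℂ) / (b' : ℂ)) := by
    push_cast
    rw [div_mul_div_comm]
  rw [← h1] at h
  have h2 := mem_of_memLocalIdeal_div hbb h
  rcases hp.mem_or_mem h2 with h3 | h3
  · left
    exact ⟨a, b, h3, hb, rfl⟩
  · right
    exact ⟨a', b', h3, hb', rfl⟩

theorem memLocalRing_one [hp : M.IsPrime] : MemLocalRing M (1 : ℂ) :=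
  ⟨1, 1, hp.one_notMem, by simp⟩

theorem memLocalRing_pow [hp : M.IsPrime] {z : ℂ} (hz : MemLocalRing M z) (k : ℕ) :
    MemLocalRing M (z ^ k) := by
  induction k with
  | zero => rw [pow_zero]; exact memLocalRing_one
  | succ k ih => rw [pow_succ]; exact memLocalRing_mul ih hz

theorem prod_memLocalRing [hp : M.IsPrime] {ι : Type*} (s : Finset ι) (f : ι → ℂ)
    (h : ∀ i ∈ s, MemLocalRing M (f i)) : MemLocalRing M (∏ i ∈ s, f i) := by
  classical
  induction s using Finset.induction_on with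
  | empty =>
    rw [Finset.prod_empty]
    exact memLocalRing_one
  | insert i s hi ih =>
    rw [Finset.prod_insert hi]
    exact memLocalRing_mul (h i (Finset.mem_insert_self i s))
      (ih fun j hj => h j (Finset.mem_insert_of_mem hj))

/-- A product of local integers lying in the local ideal has a factor in the local ideal. -/
theorem exists_memLocalIdeal_of_prod [hp : M.IsPrime] {ι : Type*} (s : Finset ι) (f : ι → ℂ)
    (hf : ∀ i ∈ s, MemLocalRing M (f i)) (h : MemLocalIdeal M (∏ i ∈ s, f i)) :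
    ∃ i ∈ s, MemLocalIdeal M (f i) := by
  classical
  induction s using Finset.induction_on with
  | empty =>
    rw [Finset.prod_empty] at h
    exact absurd h not_memLocalIdeal_one
  | insert i s hi ih =>
    rw [Finset.prod_insert hi] at h
    have hprodR : MemLocalRing M (∏ j ∈ s, f j) :=
      prod_memLocalRing s f fun j hj => hf j (Finset.mem_insert_of_mem hj)
    rcases memLocalIdeal_or_of_mul (hf i (Finset.mem_insert_self i s)) hprodR h with h1 | h1
    · exact ⟨i, Finset.mem_insert_self i s, h1⟩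
    · obtain ⟨j, hj, hj'⟩ := ih (fun j hj => hf j (Finset.mem_insert_of_mem hj)) h1
      exact ⟨j, Finset.mem_insert_of_mem hj, hj'⟩

/-- "Freshman's dream" in the residue field: `z^(p^a) ≡ 1` forces `z ≡ 1`. -/
theorem memLocalIdeal_sub_one_of_pow_prime_pow {p : ℕ} [hpp : Fact p.Prime]
    (hM : IsPModular p M) {z : ℂ} (hz : MemLocalRing M z) (a : ℕ)
    (h : MemLocalIdeal M (z ^ (p ^ a) - 1)) : MemLocalIdeal M (z - 1) := by
  have hp : M.IsPrime := isPrime_of_isPModular hM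
  have hmax : M.IsMaximal := hM.2.1
  obtain ⟨x, y, hy, rfl⟩ := hz
  have hy0 := coe_ne_zero_of_not_mem hy
  have hyp : y ^ (p ^ a) ∉ M := fun hm => hy (hp.mem_of_pow_mem _ hm)
  have h1 : ((x ^ (p ^ a) - y ^ (p ^ a) : AlgInt) : ℂ) / ((y ^ (p ^ a) : AlgInt) : ℂ)
      = ((x : ℂ) / (y : ℂ)) ^ (p ^ a) - 1 := by
    push_cast
    rw [div_pow, sub_div, div_self (pow_ne_zero _ hy0)]
  rw [← h1] at h
  have h2 : x ^ (p ^ a) - y ^ (p ^ a) ∈ M := mem_of_memLocalIdeal_div hyp h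
  -- pass to the residue field
  have : Nontrivial (AlgInt ⧸ M) := Ideal.Quotient.nontrivial_iff.mpr hmax.ne_top
  have hp0 : ((p : ℕ) : AlgInt ⧸ M) = 0 := by
    have : (Ideal.Quotient.mk M) ((p : ℕ) : AlgInt) = 0 := Ideal.Quotient.eq_zero_iff_mem.mpr hM.2.2
    simpa using this
  have : CharP (AlgInt ⧸ M) p := (CharP.charP_iff_prime_eq_zero hpp.out).mpr hp0
  have h3 : (Ideal.Quotient.mk M x - Ideal.Quotient.mk M y) ^ (p ^ a) = 0 := by
    rw [sub_pow_char_pow, ← map_pow, ← map_pow, ← map_sub]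
    exact Ideal.Quotient.eq_zero_iff_mem.mpr h2
  have : IsDomain (AlgInt ⧸ M) := (Ideal.Quotient.isDomain_iff_prime M).mpr hp
  have h4 : Ideal.Quotient.mk M x - Ideal.Quotient.mk M y = 0 := (pow_eq_zero_iff (pow_ne_zero a hpp.out.ne_zero)).mp h3
  have h5 : x - y ∈ M := by
    rw [← map_sub] at h4
    exact Ideal.Quotient.eq_zero_iff_mem.mp h4
  refine ⟨x - y, y, h5, hy, ?_⟩
  push_cast
  rw [sub_div, div_self hy0]

/-- Existence of the Teichmüller lift: a local integer with `z^m ≡ 1` is congruent to an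
`m`-th root of unity. -/
theorem exists_root_of_unity_lift [hp : M.IsPrime] {z : ℂ} (hz : MemLocalRing M z) {m : ℕ}
    (hm : 0 < m) (h : MemLocalIdeal M (z ^ m - 1)) :
    ∃ ζ : ℂ, ζ ^ m = 1 ∧ MemLocalIdeal M (z - ζ) := by
  classical
  have hprim := Complex.isPrimitiveRoot_exp m hm.ne'
  have hfac := Polynomial.X_pow_sub_one_eq_prod hm hprim
  have heval : z ^ m - 1 = ∏ ζ ∈ Polynomial.nthRootsFinset m (1 : ℂ), (z - ζ) := by
    have := congrArg (Polynomial.eval z) hfac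
    simpa [Polynomial.eval_prod] using this
  rw [heval] at h
  have hroot : ∀ ζ ∈ Polynomial.nthRootsFinset m (1 : ℂ), ζ ^ m = 1 := fun ζ hζ =>
    (Polynomial.mem_nthRootsFinset hm (1 : ℂ)).mp hζ
  have hloc : ∀ ζ ∈ Polynomial.nthRootsFinset m (1 : ℂ), MemLocalRing M (z - ζ) := by
    intro ζ hζ
    have hint : IsIntegral ℤ ζ := by
      apply IsIntegral.of_pow hm
      rw [hroot ζ hζ]
      exact isIntegral_one
    exact memLocalRing_sub hz (memLocalRing_of_algInt (M := M) ⟨ζ, hint⟩ hp.one_notMem)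
  obtain ⟨ζ, hζ, hζ'⟩ := exists_memLocalIdeal_of_prod _ _ hloc h
  exact ⟨ζ, hroot ζ hζ, hζ'⟩

/-- Uniqueness of the lift: two `m`-th roots of unity (`p ∤ m`) congruent modulo the local ideal
are equal. -/
theorem root_of_unity_unique {p : ℕ} [Fact p.Prime] (hM : IsPModular p M) {m : ℕ} (hm : ¬ p ∣ m)
    {ζ ζ' : ℂ} (hζ : ζ ^ m = 1) (hζ' : ζ' ^ m = 1) (h : MemLocalIdeal M (ζ - ζ')) : ζ = ζ' := by
  have hp : M.IsPrime := isPrime_of_isPModular hM
  have hm0 : 0 < m := by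
    rcases Nat.eq_zero_or_pos m with h0 | h0
    · exact absurd (h0 ▸ dvd_zero p) hm
    · exact h0
  have hζ0 : ζ ≠ 0 := by
    intro h0
    rw [h0, zero_pow hm0.ne'] at hζ
    exact zero_ne_one hζ
  -- η = ζ' / ζ = ζ' * ζ^(m-1)
  have hinv : ζ⁻¹ = ζ ^ (m - 1) := by
    have : ζ ^ (m - 1) * ζ = 1 := by
      rw [← pow_succ, Nat.sub_add_cancel hm0, hζ]
    exact (eq_inv_of_mul_eq_one_left this).symm
  have hintζ : IsIntegral ℤ ζ := by
    apply IsIntegral.of_pow hm0
    rw [hζ]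
    exact isIntegral_one
  have hinvR : MemLocalRing M (ζ⁻¹) := by
    rw [hinv]
    exact memLocalRing_of_algInt (M := M) ⟨_, hintζ.pow (m - 1)⟩ hp.one_notMem
  have h1 : MemLocalIdeal M (1 - ζ' * ζ⁻¹) := by
    have h2 := memLocalIdeal_mul_right h hinvR
    have h3 : (ζ - ζ') * ζ⁻¹ = 1 - ζ' * ζ⁻¹ := by
      rw [sub_mul, mul_inv_cancel₀ hζ0]
    rwa [h3] at h2
  have h4 : (ζ' * ζ⁻¹) ^ m = 1 := by
    rw [mul_pow, inv_pow, hζ, hζ', inv_one, mul_one]
  have h5 := Cfsg.Agent.Lib.Helper24.AlpDade.eq_one_of_memLocalIdeal_one_sub p M hM _ m hm h4 h1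
  have h6 : ζ' = ζ := by
    have := congrArg (· * ζ) h5
    simpa [mul_assoc, inv_mul_cancel₀ hζ0] using this
  exact h6.symm

section lift

variable {G : Type u} [Group G] [Finite G]

omit [Finite G] in
/-- `r(c)^k ≡ r(c^k)` for `c ∈ C`. -/
theorem pow_congr [hp : M.IsPrime] (N C : Subgroup G) (r : G → ℂ)
    (hloc : ∀ c ∈ C, MemLocalRing M (r c))
    (hmul : ∀ c ∈ C, ∀ c' ∈ C, MemLocalIdeal M (r c * r c' - r (c * c')))
    (hone : ∀ d ∈ C ⊓ N, MemLocalIdeal M (r d - 1)) (c : G) (hc : c ∈ C) (k : ℕ) :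
    MemLocalIdeal M (r c ^ k - r (c ^ k)) := by
  induction k with
  | zero =>
    rw [pow_zero, pow_zero]
    have h1 := hone 1 (Subgroup.one_mem _)
    have h2 := memLocalIdeal_neg h1
    rwa [neg_sub] at h2
  | succ k ih =>
    have h1 : r c ^ (k + 1) - r (c ^ (k + 1))
        = (r c ^ k - r (c ^ k)) * r c + (r (c ^ k) * r c - r (c ^ k * c)) := by
      rw [pow_succ, pow_succ]
      ring
    rw [h1]
    exact memLocalIdeal_add (memLocalIdeal_mul_right ih (hloc c hc))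
      (hmul (c ^ k) (C.pow_mem hc k) c hc)

/-- The LIFT leaf: a function on `G` that is multiplicative modulo the local ideal on a subgroup
`C` with `N ⊔ C = ⊤`, and `≡ 1` on `C ⊓ N`, is inverted modulo the local ideal on `C` by a linear
character of `G` that is trivial on `N`. -/
theorem exists_linear_lift (p : ℕ) [hpp : Fact p.Prime] (M : Ideal AlgInt) (hM : IsPModular p M)
    (N C : Subgroup G) [N.Normal] (hsup : N ⊔ C = ⊤) (r : G → ℂ)
    (hloc : ∀ c ∈ C, MemLocalRing M (r c))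
    (hmul : ∀ c ∈ C, ∀ c' ∈ C, MemLocalIdeal M (r c * r c' - r (c * c')))
    (hone : ∀ d ∈ C ⊓ N, MemLocalIdeal M (r d - 1)) :
    ∃ β : G →* ℂˣ, (∀ n ∈ N, β n = 1) ∧
      ∀ c ∈ C, MemLocalIdeal M (((β c : ℂˣ) : ℂ) * r c - 1) := by
  classical
  have hp : M.IsPrime := isPrime_of_isPModular hM
  -- the exponent
  have hidx : N.index ≠ 0 := Subgroup.index_ne_zero_of_finite
  obtain ⟨a, m, hpm, hem⟩ := Nat.exists_eq_pow_mul_and_not_dvd hidx p hpp.out.ne_one
  have hm0 : 0 < m := by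
    rcases Nat.eq_zero_or_pos m with h0 | h0
    · exact absurd (h0 ▸ dvd_zero p) hpm
    · exact h0
  -- r(c)^m ≡ 1 on C
  have hrm : ∀ c ∈ C, MemLocalIdeal M (r c ^ m - 1) := by
    intro c hc
    have h1 : MemLocalIdeal M (r c ^ N.index - r (c ^ N.index)) :=
      pow_congr N C r hloc hmul hone c hc N.index
    have h2 : MemLocalIdeal M (r (c ^ N.index) - 1) :=
      hone _ ⟨C.pow_mem hc _, N.pow_index_mem c⟩
    have h3 : MemLocalIdeal M (r c ^ N.index - 1) := by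
      have := memLocalIdeal_add h1 h2
      rwa [sub_add_sub_cancel] at this
    have h4 : r c ^ N.index = (r c ^ m) ^ (p ^ a) := by
      rw [hem, ← pow_mul, mul_comm]
    rw [h4] at h3
    have h5 := memLocalIdeal_sub_one_of_pow_prime_pow hM (memLocalRing_pow (hloc c hc) m) a h3
    exact h5
  -- r(1) ≡ 1
  have hr1 : MemLocalIdeal M (r 1 - 1) := hone 1 (Subgroup.one_mem _)
  -- representatives
  have hrep : ∀ g : G, ∃ c ∈ C, c⁻¹ * g ∈ N := by
    intro g
    have hg : g ∈ C ⊔ N := by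
      rw [sup_comm, hsup]
      exact Subgroup.mem_top g
    have hset : (g : G) ∈ ((C ⊔ N : Subgroup G) : Set G) := hg
    rw [Subgroup.mul_normal C N] at hset
    obtain ⟨c, hc, n, hn, rfl⟩ := hset
    refine ⟨c, hc, ?_⟩
    rw [inv_mul_cancel_left]
    exact hn
  -- the lift of `r(c⁻¹)`
  have hlift : ∀ c ∈ C, ∃ ζ : ℂ, ζ ^ m = 1 ∧ MemLocalIdeal M (r c⁻¹ - ζ) := fun c hc =>
    exists_root_of_unity_lift (hloc c⁻¹ (C.inv_mem hc)) hm0 (hrm c⁻¹ (C.inv_mem hc))
  choose! cg hcgC hcgN using hrep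
  choose! ζ hζm hζr using hlift
  let b : G → ℂ := fun g => ζ (cg g)
  have hbm : ∀ g, b g ^ m = 1 := fun g => hζm (cg g) (hcgC g)
  -- key property: `b g ≡ r c⁻¹` for any representative `c`
  have hkey : ∀ g : G, ∀ c ∈ C, c⁻¹ * g ∈ N → MemLocalIdeal M (b g - r c⁻¹) := by
    intro g c hc hcN
    have hd : c⁻¹ * cg g ∈ C ⊓ N := by
      refine ⟨C.mul_mem (C.inv_mem hc) (hcgC g), ?_⟩
      have h1 : c⁻¹ * cg g = (c⁻¹ * g) * ((cg g)⁻¹ * g)⁻¹ := by group
      rw [h1]
      exact N.mul_mem hcN (N.inv_mem (hcgN g))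
    have h1 : MemLocalIdeal M (r (c⁻¹ * cg g) - 1) := hone _ hd
    have h2 : MemLocalIdeal M (r (c⁻¹ * cg g) * r (cg g)⁻¹ - r (c⁻¹ * cg g * (cg g)⁻¹)) :=
      hmul _ hd.1 _ (C.inv_mem (hcgC g))
    rw [mul_inv_cancel_right] at h2
    have h3 : MemLocalIdeal M ((r (c⁻¹ * cg g) - 1) * r (cg g)⁻¹) :=
      memLocalIdeal_mul_right h1 (hloc _ (C.inv_mem (hcgC g)))
    have h4 : MemLocalIdeal M (r (cg g)⁻¹ - b g) := hζr (cg g) (hcgC g)
    -- b g - r c⁻¹ = -(r cg⁻¹ - b g) - (r d - 1) r cg⁻¹ + (r d r cg⁻¹ - r c⁻¹)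
    have h5 : b g - r c⁻¹ = -(r (cg g)⁻¹ - b g) - (r (c⁻¹ * cg g) - 1) * r (cg g)⁻¹
        + (r (c⁻¹ * cg g) * r (cg g)⁻¹ - r c⁻¹) := by ring
    rw [h5]
    exact memLocalIdeal_add (memLocalIdeal_sub (memLocalIdeal_neg h4) h3) h2
  have hbR : ∀ g, MemLocalRing M (b g) := by
    intro g
    have hint : IsIntegral ℤ (b g) := by
      apply IsIntegral.of_pow hm0
      rw [hbm g]
      exact isIntegral_one
    exact memLocalRing_of_algInt (M := M) ⟨_, hint⟩ hp.one_notMem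
  -- multiplicativity
  have hbmul : ∀ g h : G, b (g * h) = b g * b h := by
    intro g h
    apply root_of_unity_unique hM hpm (hbm _) (by rw [mul_pow, hbm, hbm, one_mul])
    -- representative of g*h : cg g * cg h
    have hc : cg g * cg h ∈ C := C.mul_mem (hcgC g) (hcgC h)
    have hcN : (cg g * cg h)⁻¹ * (g * h) ∈ N := by
      have h1 : (cg g * cg h)⁻¹ * (g * h)
          = ((cg h)⁻¹ * ((cg g)⁻¹ * g) * ((cg h)⁻¹)⁻¹) * ((cg h)⁻¹ * h) := by group
      rw [h1]
      exact N.mul_mem (‹N.Normal›.conj_mem _ (hcgN g) _) (hcgN h)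
    have h1 := hkey (g * h) _ hc hcN
    rw [mul_inv_rev] at h1
    have h2 : MemLocalIdeal M (r (cg h)⁻¹ * r (cg g)⁻¹ - r ((cg h)⁻¹ * (cg g)⁻¹)) :=
      hmul _ (C.inv_mem (hcgC h)) _ (C.inv_mem (hcgC g))
    have h3 : MemLocalIdeal M (r (cg g)⁻¹ - b g) := hζr (cg g) (hcgC g)
    have h4 : MemLocalIdeal M (r (cg h)⁻¹ - b h) := hζr (cg h) (hcgC h)
    have h5 : b (g * h) - b g * b h = (b (g * h) - r ((cg h)⁻¹ * (cg g)⁻¹))
        - (r (cg h)⁻¹ * r (cg g)⁻¹ - r ((cg h)⁻¹ * (cg g)⁻¹))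
        + (r (cg h)⁻¹ - b h) * r (cg g)⁻¹ + b h * (r (cg g)⁻¹ - b g) := by ring
    rw [h5]
    exact memLocalIdeal_add (memLocalIdeal_add (memLocalIdeal_sub h1 h2)
      (memLocalIdeal_mul_right h4 (hloc _ (C.inv_mem (hcgC g)))))
      (memLocalIdeal_mul_left (hbR h) h3)
  have hb0 : ∀ g, b g ≠ 0 := by
    intro g h0
    have := hbm g
    rw [h0, zero_pow hm0.ne'] at this
    exact zero_ne_one this
  let β : G →* ℂˣ := MonoidHom.mk' (fun g => Units.mk0 (b g) (hb0 g)) (by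
    intro g h
    apply Units.ext
    show b (g * h) = b g * b h
    exact hbmul g h)
  have hβ : ∀ g, ((β g : ℂˣ) : ℂ) = b g := fun g => rfl
  refine ⟨β, ?_, ?_⟩
  · intro n hn
    apply Units.ext
    rw [hβ]
    show b n = 1
    apply root_of_unity_unique hM hpm (hbm n) (one_pow m)
    have h1 := hkey n 1 (Subgroup.one_mem _) (by simpa using hn)
    rw [inv_one] at h1
    have := memLocalIdeal_add h1 hr1
    rwa [sub_add_sub_cancel] at this
  · intro c hc
    rw [hβ]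
    have h1 := hkey c c hc (by simp)
    have h2 : MemLocalIdeal M (r c⁻¹ * r c - r (c⁻¹ * c)) := hmul _ (C.inv_mem hc) _ hc
    rw [inv_mul_cancel] at h2
    have h3 : b c * r c - 1 = (b c - r c⁻¹) * r c + (r c⁻¹ * r c - r 1) + (r 1 - 1) := by ring
    rw [h3]
    exact memLocalIdeal_add (memLocalIdeal_add (memLocalIdeal_mul_right h1 (hloc c hc)) h2) hr1

end lift

end Cfsg.Agent.Lib.Helper2.RelCentLift
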