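/-
helper2: leaf (B) of S4580 (planner helper4): twisting an irreducible character by a function
`ν` with `ν 1 = 1` and `ν(g)^(2^k) = 1` does not change the 2-block.
`ω_(νχ)(g) = ν(g) ω_χ(g)`, `ν(g) - 1` lies in the local ideal (freshman's dream in the residue
field of characteristic 2) and `ω_χ(g)` is an algebraic integer.
-/
import Mathlib
import Cfsg.Prelude.Def_Blocks
import Cfsg.Agent.Lib.Helper4.RealExtDefs
import Cfsg.Agent.Lib.Helper6.DefectOrder
import Cfsg.Agent.Lib.Helper24.LocalRing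
import Cfsg.Agent.Lib.Helper2.RelCentLift

set_option autoImplicit false

namespace Cfsg.Agent.Lib.Helper2.RealExt

open Cfsg Cfsg.Agent.CharLib Cfsg.Agent.Lib.Helper24 Cfsg.Agent.Lib.Helper2.RelCentLift

universe u
variable {G : Type u} [Group G] [Finite G]

theorem sameBlock_of_twist (M : Ideal AlgInt) (hM : IsPModular 2 M) (χ χ' : IrrCharacter G)
    (ν : G → ℂ) (k : ℕ) (hν1 : ν 1 = 1) (hν : ∀ g, ν g ^ 2 ^ k = 1)
    (h : ∀ g, (χ' : G → ℂ) g = ν g * (χ : G → ℂ) g) :
    SameBlock M (χ : G → ℂ) (χ' : G → ℂ) := by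
  classical
  haveI : Fact (Nat.Prime 2) := ⟨Nat.prime_two⟩
  haveI hprime : M.IsPrime := isPrime_of_isPModular hM
  cases nonempty_fintype G
  intro g
  -- `ν g` is an algebraic integer
  have hνint : IsIntegral ℤ (ν g) := by
    refine ⟨Polynomial.X ^ (2 ^ k) - 1, Polynomial.monic_X_pow_sub_C (1 : ℤ) (by positivity), ?_⟩
    simp [hν g]
  have hνR : MemLocalRing M (ν g) :=
    memLocalRing_of_algInt (⟨ν g, hνint⟩ : AlgInt) hprime.one_notMem
  have hν1' : MemLocalIdeal M (ν g - 1) := by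
    apply memLocalIdeal_sub_one_of_pow_prime_pow hM hνR k
    rw [hν g, sub_self]
    exact memLocalIdeal_zero hprime.one_notMem
  have hωR : MemLocalRing M (centralChar (χ : G → ℂ) g) :=
    memLocalRing_of_algInt (⟨_, Cfsg.Agent.Lib.Helper6.isIntegral_centralChar χ g⟩ : AlgInt)
      hprime.one_notMem
  have hkey : centralChar (χ : G → ℂ) g - centralChar (χ' : G → ℂ) g
      = -(centralChar (χ : G → ℂ) g * (ν g - 1)) := by
    unfold centralChar
    rw [h g, h 1, hν1, one_mul]
    ring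
  rw [hkey]
  exact memLocalIdeal_neg (memLocalIdeal_mul_left hωR hν1')

end Cfsg.Agent.Lib.Helper2.RealExt
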