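/-
helper2: shared vocabulary for S4865 (Isaacs–Navarro Theorem C: the real McKay bijection
`Irr_ℝ(G) → Irr_{ℝ,p'}(N_G(P))` when all real irreducible characters have `p'`-degree and
`O^{p'}(G)` is solvable).
-/
import Mathlib
import Cfsg.Prelude.Def_Blocks
import Cfsg.Prelude.Def_BlockLocal
import Cfsg.Agent.Lib.Helper2.GlaubReal
import Cfsg.Agent.Lib.Helper12.RealPDefs
import Cfsg.Agent.Lib.Helper12.RealNDefs

set_option autoImplicit false

namespace Cfsg.Agent.Lib.Helper2.RealM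

open Cfsg
open scoped ComplexConjugate

universe u

/-- `Fintype`-free version of `classInner`. -/
noncomputable def ip {A : Type u} [Group A] (f g : A → ℂ) : ℂ :=
  (Nat.card A : ℂ)⁻¹ * ∑ᶠ a : A, f a * conj (g a)

theorem ip_eq_classInner {A : Type u} [Group A] [Fintype A] (f g : A → ℂ) :
    ip f g = classInner f g := by
  unfold ip classInner
  rw [finsum_eq_sum_of_fintype]

/-- A real-valued function. -/
def IsReal {A : Type u} (f : A → ℂ) : Prop := ∀ a : A, (f a).im = 0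

/-- `ψ` (a function on `B`) lies over `φ` (a function on `A`) along `ι : A →* B`:
`[ψ ∘ ι, φ] ≠ 0`. -/
def Over {A B : Type u} [Group A] [Group B] (ι : A →* B) (ψ : B → ℂ) (φ : A → ℂ) : Prop :=
  ip (fun a : A => ψ (ι a)) φ ≠ 0

/-- `φ'` is the conjugate of `φ` by `b : B`, along `ι : A →* B` (meant for `ι` injective with
normal range): `φ' a' = φ a` whenever `ι a' = b * ι a * b⁻¹`. -/
def ConjBy {A B : Type u} [Group A] [Group B] (ι : A →* B) (b : B) (φ φ' : A → ℂ) : Prop :=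
  ∀ a a' : A, ι a' = b * ι a * b⁻¹ → φ' a' = φ a

theorem conjBy_one {A B : Type u} [Group A] [Group B] (ι : A →* B) (hι : Function.Injective ι)
    (φ : A → ℂ) : ConjBy ι 1 φ φ := by
  intro a a' h
  rw [one_mul, inv_one, mul_one] at h
  rw [hι h]

theorem ConjBy.mul {A B : Type u} [Group A] [Group B] {ι : A →* B} (hn : ι.range.Normal)
    {b₁ b₂ : B} {φ φ' φ'' : A → ℂ} (h₂ : ConjBy ι b₂ φ φ') (h₁ : ConjBy ι b₁ φ' φ'') :
    ConjBy ι (b₁ * b₂) φ φ'' := by
  intro a a' h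
  obtain ⟨a₀, ha₀⟩ : b₂ * ι a * b₂⁻¹ ∈ ι.range := hn.conj_mem _ ⟨a, rfl⟩ b₂
  rw [h₁ a₀ a' (by rw [h, ha₀]; group), h₂ a a₀ ha₀]

theorem ConjBy.inv {A B : Type u} [Group A] [Group B] {ι : A →* B}
    {b : B} {φ φ' : A → ℂ} (h : ConjBy ι b φ φ') : ConjBy ι b⁻¹ φ' φ := by
  intro a a' h'
  rw [h a' a (by rw [h']; group)]

/-- The stabilizer in `B` of a function on `A` (for `ι` injective with normal range). -/
def stabH {A B : Type u} [Group A] [Group B] (ι : A →* B) (hι : Function.Injective ι)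
    (hn : ι.range.Normal) (φ : A → ℂ) : Subgroup B where
  carrier := {b | ConjBy ι b φ φ}
  one_mem' := conjBy_one ι hι φ
  mul_mem' := fun h₁ h₂ => ConjBy.mul hn h₂ h₁
  inv_mem' := fun h => ConjBy.inv h

theorem mem_stabH {A B : Type u} [Group A] [Group B] (ι : A →* B) (hι : Function.Injective ι)
    (hn : ι.range.Normal) (φ : A → ℂ) (b : B) : b ∈ stabH ι hι hn φ ↔ ConjBy ι b φ φ := Iff.rfl

variable {G : Type u} [Group G]

/-- Along `K.subtype`, `ConjBy` is the prelude's `IsConjCharOf`. -/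
theorem conjBy_subtype_iff (K : Subgroup G) (g : G) (θ θ' : ↥K → ℂ) :
    ConjBy K.subtype g θ θ' ↔ IsConjCharOf K g θ θ' := Iff.rfl

/-- Along `Subgroup.inclusion`, `ConjBy` is the prelude's `IsConjCharOf`. -/
theorem conjBy_inclusion_iff {C N : Subgroup G} (h : C ≤ N) (n : ↥N) (φ φ' : ↥C → ℂ) :
    ConjBy (Subgroup.inclusion h) n φ φ' ↔ IsConjCharOf C (n : G) φ φ' := by
  constructor
  · intro H c c' hc
    apply H c c'
    apply Subtype.ext
    simp only [Subgroup.coe_inclusion, Subgroup.coe_mul, Subgroup.coe_inv]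
    exact hc
  · intro H c c' hc
    apply H c c'
    have := congrArg Subtype.val hc
    simpa only [Subgroup.coe_inclusion, Subgroup.coe_mul, Subgroup.coe_inv] using this

/-- The multiplicity of `φ` (a function on `C ≤ K`) in the restriction of `θ` is a natural
number prime to `p`. -/
def PMult (p : ℕ) {K C : Subgroup G} (hCK : C ≤ K) (θ : ↥K → ℂ) (φ : ↥C → ℂ) : Prop :=
  ∃ m : ℕ, ip (fun c : ↥C => θ ⟨c, hCK c.2⟩) φ = (m : ℂ) ∧ ¬ p ∣ m

/-- `InvUnder` in terms of `IsConjCharOf`. -/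
theorem invUnder_iff (K P : Subgroup G) (θ : ↥K → ℂ) :
    Cfsg.Agent.Lib.Helper2.Glaub.InvUnder K P θ ↔ ∀ t ∈ P, IsConjCharOf K t θ θ := Iff.rfl

end Cfsg.Agent.Lib.Helper2.RealM
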