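import Mathlib
import Cfsg.Prelude.Def_ClassicalGeometry
import Cfsg.Agent.Lib.Helper14.SpPerfect

set_option autoImplicit false

/-!
# `Sp₄(2^f)`, `f ≥ 2`, is generated by three conjugate regular unipotent elements

Core (3') of S2281.  We work in Mathlib's `Matrix.symplecticGroup (Fin 2) F` with `CharP F 2`.
The regular unipotent is the permutation matrix `c` of the 4-cycle `e₁ → e₂ → f₁ → f₂ → e₁`, which
normalises the diagonal torus.  See `notes/S2281_core3p.md`.
-/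

namespace Cfsg.Agent.Lib.Helper2.RegUniSp4

open Matrix Cfsg.Agent.Lib.Helper5 Cfsg.Agent.Lib.Helper14.SpPerfect

variable {F : Type*} [Field F]

/-- four by four matrices in block form -/
abbrev M4 (F : Type*) := Matrix (Fin 2 ⊕ Fin 2) (Fin 2 ⊕ Fin 2) F

/-- vectors of length four in block form -/
def v4 (a b c d : F) : Fin 2 ⊕ Fin 2 → F := Sum.elim ![a, b] ![c, d]

theorem v4_eta (v : Fin 2 ⊕ Fin 2 → F) :
    v = v4 (v (Sum.inl 0)) (v (Sum.inl 1)) (v (Sum.inr 0)) (v (Sum.inr 1)) := by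
  ext i; rcases i with i | i <;> fin_cases i <;> rfl

theorem smul_v4 (k a b c d : F) : k • v4 a b c d = v4 (k * a) (k * b) (k * c) (k * d) := by
  ext i; rcases i with i | i <;> fin_cases i <;> simp [v4]

theorem v4_add (a b c d a' b' c' d' : F) :
    v4 a b c d + v4 a' b' c' d' = v4 (a + a') (b + b') (c + c') (d + d') := by
  ext i; rcases i with i | i <;> fin_cases i <;> simp [v4]

theorem fb_mulVec (a11 a12 a21 a22 b11 b12 b21 b22 c11 c12 c21 c22 d11 d12 d21 d22 a b c d : F) :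
    (fromBlocks !![a11, a12; a21, a22] !![b11, b12; b21, b22] !![c11, c12; c21, c22]
      !![d11, d12; d21, d22] : M4 F) *ᵥ v4 a b c d =
      v4 (a11 * a + a12 * b + (b11 * c + b12 * d)) (a21 * a + a22 * b + (b21 * c + b22 * d))
        (c11 * a + c12 * b + (d11 * c + d12 * d)) (c21 * a + c22 * b + (d21 * c + d22 * d)) := by
  unfold v4
  rw [fromBlocks_mulVec, Sum.elim_comp_inl, Sum.elim_comp_inr]
  ext i; rcases i with i | i <;> fin_cases i <;>
    simp <;> ring

theorem tr2 (a b c d : F) : (!![a, b; c, d] : Matrix (Fin 2) (Fin 2) F)ᵀ = !![a, c; b, d] := by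
  ext i j; fin_cases i <;> fin_cases j <;> rfl

theorem sympForm_v4 (a b c d a' b' c' d' : F) :
    Cfsg.sympForm 2 F (v4 a b c d) (v4 a' b' c' d') = c * a' - a * c' + (d * b' - b * d') := by
  rw [sympForm_eq_sum, Fin.sum_univ_two]
  simp [v4]

/-! ### The matrices -/

/-- the 4-cycle `e₁ → e₂ → f₁ → f₂ → e₁` -/
def cM : M4 F := fromBlocks !![0, 0; 1, 0] !![0, 1; 0, 0] !![0, 1; 0, 0] !![0, 0; 1, 0]

/-- the diagonal torus -/
def dM (s1 s2 : Fˣ) : M4 F :=
  fromBlocks !![(s1 : F), 0; 0, (s2 : F)] !![0, 0; 0, 0] !![0, 0; 0, 0]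
    !![((s1⁻¹ : Fˣ) : F), 0; 0, ((s2⁻¹ : Fˣ) : F)]

/-- `g = x_{2e₂}(1) x_{e₁+e₂}(1)` -/
def gM : M4 F := fromBlocks !![1, 0; 0, 1] !![0, 1; 1, 1] !![0, 0; 0, 0] !![1, 0; 0, 1]

/-- `y = g c g⁻¹ c⁻¹` -/
def yM : M4 F := fromBlocks !![1, 0; 0, 1] !![0, 1; 1, 0] !![1, 0; 0, 0] !![1, 1; 0, 1]

/-- `t y t⁻¹` for `t = d(1,s)` -/
def ypM (s : F) : M4 F := fromBlocks !![1, 0; 0, 1] !![0, s; s, 0] !![1, 0; 0, 0] !![1, s; 0, 1]

/-- `x_{-e₁+e₂}(p) x_{2e₂}(q)` -/
def zM (p q : F) : M4 F := fromBlocks !![1, 0; p, 1] !![0, 0; 0, q] !![0, 0; 0, 0] !![1, p; 0, 1]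

theorem J_eq [CharP F 2] :
    (Matrix.J (Fin 2) F) = fromBlocks !![0, 0; 0, 0] !![1, 0; 0, 1] !![1, 0; 0, 1] !![0, 0; 0, 0] := by
  unfold Matrix.J
  congr 1 <;> (ext i j; fin_cases i <;> fin_cases j <;> simp [CharTwo.neg_eq])

theorem cM_mem [CharP F 2] : (cM : M4 F) ∈ symplecticGroup (Fin 2) F := by
  rw [SymplecticGroup.mem_iff, J_eq]
  unfold cM
  simp only [fromBlocks_transpose, tr2, fromBlocks_multiply, Matrix.mul_fin_two]
  congr 1 <;> (ext i j; fin_cases i <;> fin_cases j <;> simp)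


theorem dM_mem [CharP F 2] (s1 s2 : Fˣ) : (dM s1 s2 : M4 F) ∈ symplecticGroup (Fin 2) F := by
  rw [SymplecticGroup.mem_iff, J_eq]
  unfold dM
  simp only [fromBlocks_transpose, tr2, fromBlocks_multiply, Matrix.mul_fin_two]
  congr 1 <;> (ext i j; fin_cases i <;> fin_cases j <;> simp)

theorem gM_mem [CharP F 2] : (gM : M4 F) ∈ symplecticGroup (Fin 2) F := by
  rw [SymplecticGroup.mem_iff, J_eq]
  unfold gM
  simp only [fromBlocks_transpose, tr2, fromBlocks_multiply, Matrix.mul_fin_two]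
  congr 1 <;> (ext i j; fin_cases i <;> fin_cases j <;> simp <;> grind)

theorem yM_mem [CharP F 2] : (yM : M4 F) ∈ symplecticGroup (Fin 2) F := by
  rw [SymplecticGroup.mem_iff, J_eq]
  unfold yM
  simp only [fromBlocks_transpose, tr2, fromBlocks_multiply, Matrix.mul_fin_two]
  congr 1 <;> (ext i j; fin_cases i <;> fin_cases j <;> simp <;> grind)

section Elements

variable [CharP F 2]

/-- the regular unipotent element -/
def cS : symplecticGroup (Fin 2) F := ⟨cM, cM_mem⟩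
/-- the torus -/
def dS (s1 s2 : Fˣ) : symplecticGroup (Fin 2) F := ⟨dM s1 s2, dM_mem s1 s2⟩
/-- the unipotent conjugator -/
def gS : symplecticGroup (Fin 2) F := ⟨gM, gM_mem⟩
/-- the element `y = g c g⁻¹ c⁻¹` -/
def yS : symplecticGroup (Fin 2) F := ⟨yM, yM_mem⟩

theorem coe_mul' (A B : symplecticGroup (Fin 2) F) : ((A * B : symplecticGroup (Fin 2) F) : M4 F)
    = (A : M4 F) * (B : M4 F) := rfl

theorem coe_mul_inv (A : symplecticGroup (Fin 2) F) :
    (A : M4 F) * ((A⁻¹ : symplecticGroup (Fin 2) F) : M4 F) = 1 := by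
  rw [← coe_mul', mul_inv_cancel]; rfl

/-- if `A B = C A` as matrices then `A B A⁻¹ = C` -/
theorem coe_conj_eq {A B : symplecticGroup (Fin 2) F} {B' C : M4 F} (hB : (B : M4 F) = B')
    (h : (A : M4 F) * B' = C * (A : M4 F)) :
    ((A * B * A⁻¹ : symplecticGroup (Fin 2) F) : M4 F) = C := by
  rw [coe_mul', coe_mul', hB, h, Matrix.mul_assoc, coe_mul_inv, Matrix.mul_one]

/-- if `C B A = A B` as matrices then `A B A⁻¹ B⁻¹ = C` -/
theorem coe_comm_eq {A B : symplecticGroup (Fin 2) F} {A' B' C : M4 F} (hA : (A : M4 F) = A')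
    (hB : (B : M4 F) = B') (h : C * B' * A' = A' * B') :
    ((A * B * A⁻¹ * B⁻¹ : symplecticGroup (Fin 2) F) : M4 F) = C := by
  rw [coe_mul', coe_mul', coe_mul', hA, hB, ← h, ← hA, ← hB, Matrix.mul_assoc (C * (B : M4 F)),
    coe_mul_inv, Matrix.mul_one, Matrix.mul_assoc, coe_mul_inv, Matrix.mul_one]

theorem g_c_eq : (gS : symplecticGroup (Fin 2) F) * cS = yS * cS * gS := by
  apply Subtype.ext
  change (gM : M4 F) * cM = yM * cM * gM
  unfold gM cM yM
  simp only [fromBlocks_multiply, Matrix.mul_fin_two]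
  congr 1 <;> (ext i j; fin_cases i <;> fin_cases j <;> simp <;> grind)

theorem yS_eq : (yS : symplecticGroup (Fin 2) F) = gS * cS * gS⁻¹ * cS⁻¹ := by
  rw [g_c_eq]; group

theorem c_d_eq (s1 s2 : Fˣ) : (cS : symplecticGroup (Fin 2) F) * dS s1 s2 = dS s2⁻¹ s1 * cS := by
  apply Subtype.ext
  change (cM : M4 F) * dM s1 s2 = dM s2⁻¹ s1 * cM
  unfold cM dM
  simp only [fromBlocks_multiply, Matrix.mul_fin_two]
  congr 1 <;> (ext i j; fin_cases i <;> fin_cases j <;> simp)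

theorem c_conj_d (s1 s2 : Fˣ) :
    (cS : symplecticGroup (Fin 2) F) * dS s1 s2 * cS⁻¹ = dS s2⁻¹ s1 := by
  rw [c_d_eq]; group

theorem dS_mul (a b a' b' : Fˣ) :
    (dS a b : symplecticGroup (Fin 2) F) * dS a' b' = dS (a * a') (b * b') := by
  apply Subtype.ext
  change (dM a b : M4 F) * dM a' b' = dM (a * a') (b * b')
  unfold dM
  simp only [fromBlocks_multiply, Matrix.mul_fin_two]
  congr 1 <;> (ext i j; fin_cases i <;> fin_cases j <;> simp [mul_comm])

theorem dS_one : (dS 1 1 : symplecticGroup (Fin 2) F) = 1 := by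
  apply Subtype.ext
  change (dM 1 1 : M4 F) = 1
  unfold dM
  rw [← fromBlocks_one]
  congr 1 <;> (ext i j; fin_cases i <;> fin_cases j <;> simp)

theorem dS_inv (a b : Fˣ) : (dS a b : symplecticGroup (Fin 2) F)⁻¹ = dS a⁻¹ b⁻¹ := by
  rw [inv_eq_iff_mul_eq_one, dS_mul, mul_inv_cancel, mul_inv_cancel, dS_one]


/-! ### Extraction of a long root element -/

theorem d_y_eq (s : Fˣ) : (dM 1 s : M4 F) * yM = ypM (s : F) * dM 1 s := by
  unfold dM yM ypM
  simp only [fromBlocks_multiply, Matrix.mul_fin_two]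
  congr 1 <;> (ext i j; fin_cases i <;> fin_cases j <;> simp)

theorem z_identity (s : F) :
    (zM (1 + s) ((1 + s) ^ 2) : M4 F) * ypM s * yM = yM * ypM s := by
  unfold zM ypM yM
  simp only [fromBlocks_multiply, Matrix.mul_fin_two]
  congr 1 <;> (ext i j; fin_cases i <;> fin_cases j <;> simp <;> grind)

theorem d_z_eq (s : Fˣ) (p q : F) :
    (dM s s : M4 F) * zM p q = zM p (q * (s : F) ^ 2) * dM s s := by
  unfold dM zM
  simp only [fromBlocks_multiply, Matrix.mul_fin_two]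
  congr 1 <;> (ext i j; fin_cases i <;> fin_cases j <;> simp <;> grind)

theorem z_mul_z (p q q' : F) :
    (zM p q : M4 F) * zM p q' = zM 0 (q + q') := by
  unfold zM
  simp only [fromBlocks_multiply, Matrix.mul_fin_two]
  congr 1 <;> (ext i j; fin_cases i <;> fin_cases j <;> simp <;> grind)

omit [CharP F 2] in
theorem transv_e2 (m : F) : Cfsg.sympTransvection 2 (v4 (0 : F) 1 0 0) m = zM 0 m := by
  unfold Cfsg.sympTransvection zM
  ext i j
  rw [Matrix.add_apply, Matrix.smul_apply, Matrix.vecMulVec_apply, smul_eq_mul]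
  rcases i with i | i <;> rcases j with j | j
  · rw [J_mulVec_inl, fromBlocks_apply₁₁]
    fin_cases i <;> fin_cases j <;> simp [v4, Matrix.one_apply]
  · rw [J_mulVec_inr, fromBlocks_apply₁₂]
    fin_cases i <;> fin_cases j <;> simp [v4]
  · rw [J_mulVec_inl, fromBlocks_apply₂₁]
    fin_cases i <;> fin_cases j <;> simp [v4]
  · rw [J_mulVec_inr, fromBlocks_apply₂₂]
    fin_cases i <;> fin_cases j <;> simp [v4, Matrix.one_apply]

/-- the word in `y` and torus elements that is a long root element -/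
theorem long_word (s : Fˣ) :
    (yS * (dS 1 s * yS * (dS 1 s)⁻¹) * yS⁻¹ * (dS 1 s * yS * (dS 1 s)⁻¹)⁻¹) *
      (dS s s * (yS * (dS 1 s * yS * (dS 1 s)⁻¹) * yS⁻¹ * (dS 1 s * yS * (dS 1 s)⁻¹)⁻¹) *
        (dS s s)⁻¹) = (Tr (v4 (0 : F) 1 0 0) ((1 + (s : F)) ^ 4) : symplecticGroup (Fin 2) F) := by
  have h1 : ((dS 1 s * yS * (dS 1 s)⁻¹ : symplecticGroup (Fin 2) F) : M4 F) = ypM (s : F) :=
    coe_conj_eq (B' := yM) rfl (d_y_eq s)
  have h2 : ((yS * (dS 1 s * yS * (dS 1 s)⁻¹) * yS⁻¹ * (dS 1 s * yS * (dS 1 s)⁻¹)⁻¹ :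
      symplecticGroup (Fin 2) F) : M4 F) = zM (1 + (s : F)) ((1 + (s : F)) ^ 2) :=
    coe_comm_eq (A' := yM) rfl h1 (z_identity _)
  have h3 : ((dS s s * (yS * (dS 1 s * yS * (dS 1 s)⁻¹) * yS⁻¹ * (dS 1 s * yS * (dS 1 s)⁻¹)⁻¹) *
      (dS s s)⁻¹ : symplecticGroup (Fin 2) F) : M4 F)
      = zM (1 + (s : F)) ((1 + (s : F)) ^ 2 * (s : F) ^ 2) :=
    coe_conj_eq h2 (d_z_eq s _ _)
  apply Subtype.ext
  rw [coe_mul', h2, h3, z_mul_z]
  change _ = Cfsg.sympTransvection 2 (v4 (0 : F) 1 0 0) ((1 + (s : F)) ^ 4)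
  rw [transv_e2]
  congr 1
  grind


/-! ### Actions on vectors -/

theorem c_mulVec (a b c d : F) : (cM : M4 F) *ᵥ v4 a b c d = v4 d a b c := by
  unfold cM; rw [fb_mulVec]; congr 1 <;> ring

theorem d_mulVec (s1 s2 : Fˣ) (a b c d : F) :
    (dM s1 s2 : M4 F) *ᵥ v4 a b c d =
      v4 ((s1 : F) * a) ((s2 : F) * b) (((s1⁻¹ : Fˣ) : F) * c) (((s2⁻¹ : Fˣ) : F) * d) := by
  unfold dM; rw [fb_mulVec]; congr 1 <;> ring

theorem y_mulVec (a b c d : F) : (yM : M4 F) *ᵥ v4 a b c d = v4 (a + d) (b + c) (a + (c + d)) d := by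
  unfold yM; rw [fb_mulVec]; congr 1 <;> ring

/-! ### Regular unipotency of `c` -/

/-- `c - 1` -/
def nM : M4 F := fromBlocks !![1, 0; 1, 1] !![0, 1; 0, 0] !![0, 1; 0, 0] !![1, 0; 1, 1]

theorem cM_sub_one : (cM : M4 F) - 1 = nM := by
  rw [sub_eq_iff_eq_add]
  unfold cM nM
  rw [← fromBlocks_one, fromBlocks_add]
  congr 1 <;> (ext i j; fin_cases i <;> fin_cases j <;> simp <;> grind)

theorem nM_sq : (nM : M4 F) * nM =
    fromBlocks !![1, 0; 0, 1] !![1, 0; 0, 1] !![1, 0; 0, 1] !![1, 0; 0, 1] := by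
  unfold nM
  simp only [fromBlocks_multiply, Matrix.mul_fin_two]
  congr 1 <;> (ext i j; fin_cases i <;> fin_cases j <;> simp <;> grind)

theorem nM_cube : (nM : M4 F) ^ 3 =
    fromBlocks !![1, 1; 1, 1] !![1, 1; 1, 1] !![1, 1; 1, 1] !![1, 1; 1, 1] := by
  rw [pow_succ, pow_two, nM_sq]
  unfold nM
  simp only [fromBlocks_multiply, Matrix.mul_fin_two]
  congr 1 <;> (ext i j; fin_cases i <;> fin_cases j <;> simp <;> grind)

theorem nM_four : (nM : M4 F) ^ 4 = 0 := by
  have : (nM : M4 F) ^ 4 = (nM * nM) * (nM * nM) := by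
    simp only [pow_succ, pow_zero, one_mul, Matrix.mul_assoc]
  rw [this, nM_sq]
  simp only [fromBlocks_multiply, Matrix.mul_fin_two]
  rw [← fromBlocks_zero]
  congr 1 <;> (ext i j; fin_cases i <;> fin_cases j <;> simp <;> grind)

theorem c_nilpotent : IsNilpotent (((cS : symplecticGroup (Fin 2) F) : M4 F) - 1) :=
  ⟨4, by change ((cM : M4 F) - 1) ^ 4 = 0; rw [cM_sub_one, nM_four]⟩

theorem c_regular : (((cS : symplecticGroup (Fin 2) F) : M4 F) - 1) ^ (2 * 2 - 1) ≠ 0 := by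
  change ((cM : M4 F) - 1) ^ 3 ≠ 0
  rw [cM_sub_one, nM_cube]
  intro h
  have := congrFun (congrFun h (Sum.inl 0)) (Sum.inl 0)
  simp at this

end Elements

/-! ### The set of centres of transvections in a subgroup -/

section Centres

/-- `v` is a full centre for `X`: all transvections with centre `v` lie in `X` -/
def InS (X : Subgroup (symplecticGroup (Fin 2) F)) (v : Fin 2 ⊕ Fin 2 → F) : Prop :=
  ∀ a : F, (Tr v a : symplecticGroup (Fin 2) F) ∈ X

variable {X : Subgroup (symplecticGroup (Fin 2) F)}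

theorem InS_smul {v : Fin 2 ⊕ Fin 2 → F} (h : InS X v) (k : F) : InS X (k • v) := by
  intro a
  rw [Tr_smul]
  exact h _

theorem InS_act {g : symplecticGroup (Fin 2) F} (hg : g ∈ X) {v : Fin 2 ⊕ Fin 2 → F}
    (h : InS X v) : InS X ((g : M4 F) *ᵥ v) := by
  intro a
  rw [← conj_Tr]
  exact mul_mem (mul_mem hg (h a)) (inv_mem hg)

theorem InS_hyp {v w : Fin 2 ⊕ Fin 2 → F} (hv : InS X v) (hw : InS X w)
    (hf : Cfsg.sympForm 2 F v w ≠ 0) (μ : F) : InS X (v + μ • w) := by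
  have h := InS_act (hw (μ / Cfsg.sympForm 2 F v w)) hv
  rw [Tr_mulVec, div_mul_cancel₀ _ hf] at h
  exact h

end Centres

/-! ### The main argument -/

section Main

variable [CharP F 2]

/-- everything follows from: `c`, the torus, `y` and one long root element lie in `X` -/
theorem all_InS [Finite F] {X : Subgroup (symplecticGroup (Fin 2) F)}
    (hc : (cS : symplecticGroup (Fin 2) F) ∈ X)
    (hd : ∀ a b : Fˣ, (dS a b : symplecticGroup (Fin 2) F) ∈ X)
    (hy : (yS : symplecticGroup (Fin 2) F) ∈ X) {m : F} (hm0 : m ≠ 0)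
    (hm : (Tr (v4 (0 : F) 1 0 0) m : symplecticGroup (Fin 2) F) ∈ X)
    (v : Fin 2 ⊕ Fin 2 → F) : InS X v := by
  have hsq : ∀ a : F, IsSquare a := FiniteField.isSquare_of_char_two (ringChar.eq F 2)
  -- `e₂`
  have he2 : InS X (v4 (0 : F) 1 0 0) := by
    intro a
    by_cases ha : a = 0
    · rw [ha, Tr_zero]; exact one_mem _
    · obtain ⟨b, hb⟩ := hsq (a / m)
      have hb0 : b ≠ 0 := by
        rintro rfl
        rw [mul_zero, div_eq_zero_iff] at hb
        tauto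
      have h1 : a = b ^ 2 * m := by
        rw [pow_two, ← hb, div_mul_cancel₀ _ hm0]
      have h2 : ((dS 1 (Units.mk0 b hb0) : symplecticGroup (Fin 2) F) : M4 F) *ᵥ v4 (0 : F) 1 0 0
          = b • v4 (0 : F) 1 0 0 := by
        change (dM 1 (Units.mk0 b hb0) : M4 F) *ᵥ v4 (0 : F) 1 0 0 = _
        rw [d_mulVec, smul_v4]
        congr 1 <;> simp
      rw [h1, ← Tr_smul, ← h2, ← conj_Tr]
      exact mul_mem (mul_mem (hd _ _) hm) (inv_mem (hd _ _))
  have cact : ∀ a b c d : F, InS X (v4 a b c d) → InS X (v4 d a b c) := by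
    intro a b c d h
    have := InS_act hc h
    change InS X ((cM : M4 F) *ᵥ v4 a b c d) at this
    rwa [c_mulVec] at this
  have hf1 : InS X (v4 (0 : F) 0 1 0) := cact _ _ _ _ he2
  have hf2 : InS X (v4 (0 : F) 0 0 1) := cact _ _ _ _ hf1
  -- the Lagrangian coordinate planes
  have P1 : ∀ b c : F, InS X (v4 0 b c 0) := by
    intro b c
    by_cases hb : b = 0
    · have := InS_smul hf1 c
      rw [smul_v4] at this
      convert this using 2 <;> simp [hb]
    by_cases hc0 : c = 0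
    · have := InS_smul he2 b
      rw [smul_v4] at this
      convert this using 2 <;> simp [hc0]
    have h1 : InS X (v4 (0 : F) 1 1 0) := by
      have := InS_act hy hf1
      change InS X ((yM : M4 F) *ᵥ v4 (0 : F) 0 1 0) at this
      rw [y_mulVec] at this
      convert this using 2 <;> simp
    have := InS_act (hd (Units.mk0 c hc0)⁻¹ (Units.mk0 b hb)) h1
    change InS X ((dM (Units.mk0 c hc0)⁻¹ (Units.mk0 b hb) : M4 F) *ᵥ v4 (0 : F) 1 1 0) at this
    rw [d_mulVec] at this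
    convert this using 2 <;> simp
  have P2 : ∀ b c : F, InS X (v4 0 0 b c) := fun b c => cact _ _ _ _ (P1 b c)
  have P3 : ∀ b c : F, InS X (v4 c 0 0 b) := fun b c => cact _ _ _ _ (P2 b c)
  have P4 : ∀ b c : F, InS X (v4 b c 0 0) := fun b c => cact _ _ _ _ (P3 b c)
  -- support three
  have A : ∀ a b c : F, InS X (v4 a b c 0) := by
    intro a b c
    by_cases ha : a = 0
    · rw [ha]; exact P1 b c
    have := InS_hyp (P4 a b) hf1 (by rw [sympForm_v4]; simpa using ha) c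
    rw [smul_v4, v4_add] at this
    convert this using 2 <;> simp
  have A' : ∀ a c d : F, InS X (v4 a 0 c d) := by
    intro a c d
    by_cases ha : a = 0
    · rw [ha]; exact P2 c d
    have := InS_hyp (P3 d a) hf1 (by rw [sympForm_v4]; simpa using ha) c
    rw [smul_v4, v4_add] at this
    convert this using 2 <;> simp
  -- everything
  rw [v4_eta v]
  generalize v (Sum.inl 0) = a
  generalize v (Sum.inl 1) = b
  generalize v (Sum.inr 0) = c
  generalize v (Sum.inr 1) = d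
  by_cases hb : b = 0
  · rw [hb]; exact A' a c d
  have := InS_hyp (A a b c) hf2 (by rw [sympForm_v4]; simpa using hb) d
  rw [smul_v4, v4_add] at this
  convert this using 2 <;> simp


/-- the subgroup generated by the three conjugates `c`, `g c g⁻¹`, `h c h⁻¹`, `h = d(r,r)` -/
def XX (r : Fˣ) : Subgroup (symplecticGroup (Fin 2) F) :=
  Subgroup.closure {cS, gS * cS * gS⁻¹, dS r r * cS * (dS r r)⁻¹}

theorem c_mem_XX (r : Fˣ) : (cS : symplecticGroup (Fin 2) F) ∈ XX r :=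
  Subgroup.subset_closure (by simp)

theorem y_mem_XX (r : Fˣ) : (yS : symplecticGroup (Fin 2) F) ∈ XX r := by
  rw [yS_eq]
  exact mul_mem (Subgroup.subset_closure (by simp)) (inv_mem (c_mem_XX r))

theorem t0_mem_XX (r : Fˣ) : (dS (r * r) 1 : symplecticGroup (Fin 2) F) ∈ XX r := by
  have h : (dS (r * r) 1 : symplecticGroup (Fin 2) F) = (dS r r * cS * (dS r r)⁻¹) * cS⁻¹ := by
    have h1 : (dS r r * cS * (dS r r)⁻¹) * cS⁻¹
        = dS r r * ((cS : symplecticGroup (Fin 2) F) * (dS r r)⁻¹ * cS⁻¹) := by group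
    rw [h1, dS_inv, c_conj_d, inv_inv, dS_mul, mul_inv_cancel]
  rw [h]
  exact mul_mem (Subgroup.subset_closure (by simp)) (inv_mem (c_mem_XX r))

/-- the torus as a homomorphism -/
def dHom : Fˣ × Fˣ →* symplecticGroup (Fin 2) F where
  toFun p := dS p.1 p.2
  map_one' := dS_one
  map_mul' p q := (dS_mul p.1 p.2 q.1 q.2).symm

theorem torus_mem_XX [Finite F] (r : Fˣ) (hr : ∀ x : Fˣ, x ∈ Subgroup.zpowers r) (a b : Fˣ) :
    (dS a b : symplecticGroup (Fin 2) F) ∈ XX r := by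
  have hsq : ∀ a : F, IsSquare a := FiniteField.isSquare_of_char_two (ringChar.eq F 2)
  have h1 : ∀ a : Fˣ, (dS a 1 : symplecticGroup (Fin 2) F) ∈ XX r := by
    intro a
    obtain ⟨b, hb⟩ := hsq (a : F)
    have hb0 : b ≠ 0 := by
      rintro rfl
      rw [mul_zero] at hb
      exact a.ne_zero hb
    obtain ⟨k, hk⟩ := Subgroup.mem_zpowers_iff.mp (hr (Units.mk0 b hb0))
    have ha : a = (r * r) ^ k := by
      rw [mul_zpow, hk]
      apply Units.ext
      rw [hb]; rfl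
    have h2 : (dS a 1 : symplecticGroup (Fin 2) F) = (dS (r * r) 1) ^ k := by
      change dHom (a, 1) = (dHom (r * r, 1)) ^ k
      rw [← map_zpow, Prod.pow_mk, _root_.one_zpow, ha]
    rw [h2]
    exact zpow_mem (t0_mem_XX r) k
  have h2 : ∀ a : Fˣ, (dS 1 a : symplecticGroup (Fin 2) F) ∈ XX r := by
    intro a
    have := c_conj_d (F := F) a 1
    rw [inv_one] at this
    rw [← this]
    exact mul_mem (mul_mem (c_mem_XX r) (h1 a)) (inv_mem (c_mem_XX r))
  have := mul_mem (h1 a) (h2 b)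
  rwa [dS_mul, mul_one, one_mul] at this

theorem XX_eq_top [Finite F] (r : Fˣ) (hr : ∀ x : Fˣ, x ∈ Subgroup.zpowers r) (s : Fˣ)
    (hs : s ≠ 1) : XX r = ⊤ := by
  have hd := torus_mem_XX r hr
  have hy := y_mem_XX r
  have hc := c_mem_XX r
  have hm0 : (1 + (s : F)) ^ 4 ≠ 0 := by
    apply pow_ne_zero
    intro h
    apply hs
    apply Units.ext
    have : (s : F) = -1 := by linear_combination h
    rw [this, CharTwo.neg_eq]; rfl
  have hm : (Tr (v4 (0 : F) 1 0 0) ((1 + (s : F)) ^ 4) : symplecticGroup (Fin 2) F) ∈ XX r := by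
    rw [← long_word s]
    have hy' : dS 1 s * yS * (dS 1 s)⁻¹ ∈ XX r := mul_mem (mul_mem (hd _ _) hy) (inv_mem (hd _ _))
    have hz : yS * (dS 1 s * yS * (dS 1 s)⁻¹) * yS⁻¹ * (dS 1 s * yS * (dS 1 s)⁻¹)⁻¹ ∈ XX r :=
      mul_mem (mul_mem (mul_mem hy hy') (inv_mem hy)) (inv_mem hy')
    exact mul_mem hz (mul_mem (mul_mem (hd _ _) hz) (inv_mem (hd _ _)))
  have hall := all_InS hc hd hy hm0 hm
  rw [eq_top_iff, ← transvGroup_eq_top]
  unfold transvGroup
  rw [Subgroup.closure_le]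
  rintro A ⟨w, c, hA⟩
  have hA' : A = Tr w c := Subtype.ext hA
  rw [hA']
  exact hall w c

/-- **Core (3') of S2281**: over a finite field of characteristic two with more than two elements,
`Sp₄(F)` is generated by three conjugate regular unipotent elements. -/
theorem sp4_even [Fintype F] (hq : Fintype.card F ≠ 2) :
    ∃ u g h : Matrix.symplecticGroup (Fin 2) F,
      IsNilpotent ((u : Matrix (Fin 2 ⊕ Fin 2) (Fin 2 ⊕ Fin 2) F) - 1) ∧
      ((u : Matrix (Fin 2 ⊕ Fin 2) (Fin 2 ⊕ Fin 2) F) - 1) ^ (2 * 2 - 1) ≠ 0 ∧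
      Subgroup.closure ({u, g * u * g⁻¹, h * u * h⁻¹} : Set (Matrix.symplecticGroup (Fin 2) F))
        = ⊤ := by
  obtain ⟨r, hr⟩ := IsCyclic.exists_generator (α := Fˣ)
  have hex : ∃ s : F, s ≠ 0 ∧ s ≠ 1 := by
    classical
    by_contra hcon
    push Not at hcon
    apply hq
    have hsub : (Finset.univ : Finset F) ⊆ {0, 1} := by
      intro x _
      by_cases hx : x = 0
      · simp [hx]
      · simp [hcon x hx]
    have h1 : Fintype.card F ≤ 2 := by
      calc Fintype.card F = (Finset.univ : Finset F).card := rfl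
        _ ≤ ({0, 1} : Finset F).card := Finset.card_le_card hsub
        _ ≤ 2 := Finset.card_le_two
    have h2 : 1 < Fintype.card F := Fintype.one_lt_card
    omega
  obtain ⟨s, hs0, hs1⟩ := hex
  refine ⟨cS, gS, dS r r, c_nilpotent, c_regular, ?_⟩
  have hs : Units.mk0 s hs0 ≠ 1 := by
    intro h
    apply hs1
    have := congrArg Units.val h
    simpa using this
  exact XX_eq_top r hr (Units.mk0 s hs0) hs

end Main

/-- the same with the hypothesis `(2 : F) = 0` instead of a `CharP` instance -/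
theorem sp4_even' [Fintype F] (h2 : (2 : F) = 0) (hq : Fintype.card F ≠ 2) :
    ∃ u g h : Matrix.symplecticGroup (Fin 2) F,
      IsNilpotent ((u : Matrix (Fin 2 ⊕ Fin 2) (Fin 2 ⊕ Fin 2) F) - 1) ∧
      ((u : Matrix (Fin 2 ⊕ Fin 2) (Fin 2 ⊕ Fin 2) F) - 1) ^ (2 * 2 - 1) ≠ 0 ∧
      Subgroup.closure ({u, g * u * g⁻¹, h * u * h⁻¹} : Set (Matrix.symplecticGroup (Fin 2) F))
        = ⊤ := by
  haveI : CharP F 2 := CharTwo.of_one_ne_zero_of_two_eq_zero one_ne_zero h2
  exact sp4_even hq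

end Cfsg.Agent.Lib.Helper2.RegUniSp4
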