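import Mathlib
import Cfsg.Prelude.Def_ClassicalGeometry
import Cfsg.Agent.Lib.Helper14.SpPerfect
import Cfsg.Agent.Lib.Helper6.SpGenB
import Cfsg.Agent.Lib.Helper25.SpRegCalc
import Cfsg.Agent.Lib.Helper2.RegUniSp4

set_option autoImplicit false

/-!
# `Sp₄(q)`, `q` odd, is generated by three conjugate regular unipotent elements

The case `n = 2`, `q` odd of S2281, in Mathlib's `Matrix.symplecticGroup (Fin 2) F`
(helper25's odd core at `m = 2`, with explicit matrices).  `u` is the upper regular unipotent,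
`w = J u J⁻¹` its opposite, the third conjugate is `D u D⁻¹` with `D = diag(d, 1, d⁻¹, 1)`.
-/

namespace Cfsg.Agent.Lib.Helper2.RegUniSp4Odd

open Matrix Cfsg.Agent.Lib.Helper5 Cfsg.Agent.Lib.Helper14.SpPerfect
open Cfsg.Agent.Lib.Helper6.SpGen Cfsg.Agent.Lib.Helper25.SpReg
open Cfsg.Agent.Lib.Helper2.RegUniSp4 (M4 v4 v4_eta smul_v4 v4_add fb_mulVec tr2 sympForm_v4)

variable {F : Type*} [Field F]

/-! ### The matrices -/

/-- the upper regular unipotent: `e₀ ↦ e₀`, `e₁ ↦ e₀ + e₁`, `f₀ ↦ f₀ - f₁`, `f₁ ↦ f₁ + e₀ + e₁` -/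
def uM : M4 F := fromBlocks !![1, 1; 0, 1] !![0, 1; 0, 1] !![0, 0; 0, 0] !![1, 0; -1, 1]

/-- the opposite regular unipotent `J u J⁻¹` -/
def wM : M4 F := fromBlocks !![1, 0; -1, 1] !![0, 0; 0, 0] !![0, -1; 0, -1] !![1, 1; 0, 1]

/-- the matrix `J` in explicit form -/
def jM : M4 F := fromBlocks !![0, 0; 0, 0] !![-1, 0; 0, -1] !![1, 0; 0, 1] !![0, 0; 0, 0]

/-- the torus element `diag(d, 1, d⁻¹, 1)` -/
def dM (d : Fˣ) : M4 F :=
  fromBlocks !![(d : F), 0; 0, 1] !![0, 0; 0, 0] !![0, 0; 0, 0] !![((d⁻¹ : Fˣ) : F), 0; 0, 1]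

/-- the short root element `x_{e₀-e₁}(z)` -/
def sM (z : F) : M4 F := fromBlocks !![1, z; 0, 1] !![0, 0; 0, 0] !![0, 0; 0, 0] !![1, 0; -z, 1]

/-- `[s, u]` -/
def kM (z : F) : M4 F :=
  fromBlocks !![1, 0; 0, 1] !![z ^ 2 + 2 * z, z; z, 0] !![0, 0; 0, 0] !![1, 0; 0, 1]

/-- the transvection with centre `e₀` -/
def tM (a : F) : M4 F := fromBlocks !![1, 0; 0, 1] !![a, 0; 0, 0] !![0, 0; 0, 0] !![1, 0; 0, 1]

theorem jM_eq : (Matrix.J (Fin 2) F) = jM := by
  unfold Matrix.J jM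
  congr 1 <;> (ext i j; fin_cases i <;> fin_cases j <;> simp)

theorem uM_mem : (uM : M4 F) ∈ symplecticGroup (Fin 2) F := by
  rw [SymplecticGroup.mem_iff, jM_eq]
  unfold uM jM
  simp only [fromBlocks_transpose, tr2, fromBlocks_multiply, Matrix.mul_fin_two]
  congr 1 <;> (ext i j; fin_cases i <;> fin_cases j <;> simp)

theorem dM_mem (d : Fˣ) : (dM d : M4 F) ∈ symplecticGroup (Fin 2) F := by
  rw [SymplecticGroup.mem_iff, jM_eq]
  unfold dM jM
  simp only [fromBlocks_transpose, tr2, fromBlocks_multiply, Matrix.mul_fin_two]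
  congr 1 <;> (ext i j; fin_cases i <;> fin_cases j <;> simp)

/-- the regular unipotent element -/
def uS : symplecticGroup (Fin 2) F := ⟨uM, uM_mem⟩
/-- `J` -/
def jS : symplecticGroup (Fin 2) F := ⟨Matrix.J (Fin 2) F, SymplecticGroup.J_mem _ _⟩
/-- the torus element -/
def dS (d : Fˣ) : symplecticGroup (Fin 2) F := ⟨dM d, dM_mem d⟩

theorem coe_mulo (A B : symplecticGroup (Fin 2) F) : ((A * B : symplecticGroup (Fin 2) F) : M4 F)
    = (A : M4 F) * (B : M4 F) := rfl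

theorem coe_mul_invo (A : symplecticGroup (Fin 2) F) :
    (A : M4 F) * ((A⁻¹ : symplecticGroup (Fin 2) F) : M4 F) = 1 := by
  rw [← coe_mulo, mul_inv_cancel]; rfl

/-- if `A B = C A` as matrices then `A B A⁻¹ = C` -/
theorem coe_conj_eqo {A B : symplecticGroup (Fin 2) F} {A' B' C : M4 F} (hA : (A : M4 F) = A')
    (hB : (B : M4 F) = B') (h : A' * B' = C * A') :
    ((A * B * A⁻¹ : symplecticGroup (Fin 2) F) : M4 F) = C := by
  rw [coe_mulo, coe_mulo, hB, hA, h, ← hA, Matrix.mul_assoc, coe_mul_invo, Matrix.mul_one]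

/-- if `C B A = A B` as matrices then `A B A⁻¹ B⁻¹ = C` -/
theorem coe_comm_eqo {A B : symplecticGroup (Fin 2) F} {A' B' C : M4 F} (hA : (A : M4 F) = A')
    (hB : (B : M4 F) = B') (h : C * B' * A' = A' * B') :
    ((A * B * A⁻¹ * B⁻¹ : symplecticGroup (Fin 2) F) : M4 F) = C := by
  rw [coe_mulo, coe_mulo, coe_mulo, hA, hB, ← h, ← hA, ← hB, Matrix.mul_assoc (C * (B : M4 F)),
    coe_mul_invo, Matrix.mul_one, Matrix.mul_assoc, coe_mul_invo, Matrix.mul_one]

/-! ### The matrix identities -/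

theorem j_u_eq : (jM : M4 F) * uM = wM * jM := by
  unfold jM uM wM
  simp only [fromBlocks_multiply, Matrix.mul_fin_two]
  congr 1 <;> (ext i j; fin_cases i <;> fin_cases j <;> simp)

theorem d_u_eq (d : Fˣ) : (sM ((d : F) - 1) : M4 F) * uM * dM d = dM d * uM := by
  have hd : (d : F) ≠ 0 := d.ne_zero
  unfold sM uM dM
  simp only [fromBlocks_multiply, Matrix.mul_fin_two]
  congr 1 <;> (ext i j; fin_cases i <;> fin_cases j <;> simp <;>
    first | ring1 | (field_simp; ring1) | field_simp)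

theorem k_eq (z : F) : (kM z : M4 F) * uM * sM z = sM z * uM := by
  unfold sM uM kM
  simp only [fromBlocks_multiply, Matrix.mul_fin_two]
  congr 1 <;> (ext i j; fin_cases i <;> fin_cases j <;> simp <;> ring)

theorem t_eq (z : F) : (tM (2 * z ^ 2) : M4 F) * kM z * sM z = sM z * kM z := by
  unfold sM tM kM
  simp only [fromBlocks_multiply, Matrix.mul_fin_two]
  congr 1 <;> (ext i j; fin_cases i <;> fin_cases j <;> simp <;> ring)

theorem transv_e0 (a : F) : Cfsg.sympTransvection 2 (v4 (1 : F) 0 0 0) a = tM a := by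
  unfold Cfsg.sympTransvection tM
  ext i j
  rw [Matrix.add_apply, Matrix.smul_apply, Matrix.vecMulVec_apply, smul_eq_mul]
  rcases i with i | i <;> rcases j with j | j
  · rw [J_mulVec_inl, fromBlocks_apply₁₁]
    fin_cases i <;> fin_cases j <;> simp [v4, Matrix.one_apply]
  · rw [J_mulVec_inr, fromBlocks_apply₁₂]
    fin_cases i <;> fin_cases j <;> simp [v4]
  · rw [J_mulVec_inl, fromBlocks_apply₂₁]
    fin_cases i <;> fin_cases j <;> simp [v4]
  · rw [J_mulVec_inr, fromBlocks_apply₂₂]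
    fin_cases i <;> fin_cases j <;> simp [v4, Matrix.one_apply]


/-! ### Actions on vectors -/

theorem u_mulVec (a b c d : F) : (uM : M4 F) *ᵥ v4 a b c d = v4 (a + b + d) (b + d) c (-c + d) := by
  unfold uM; rw [fb_mulVec]; congr 1 <;> ring

theorem w_mulVec (a b c d : F) :
    (wM : M4 F) *ᵥ v4 a b c d = v4 a (-a + b) (-b + c + d) (-b + d) := by
  unfold wM; rw [fb_mulVec]; congr 1 <;> ring

theorem s_mulVec (z a b c d : F) :
    (sM z : M4 F) *ᵥ v4 a b c d = v4 (a + z * b) b c (-(z * c) + d) := by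
  unfold sM; rw [fb_mulVec]; congr 1 <;> ring

theorem eV0 : (eV 0 : Fin 2 ⊕ Fin 2 → F) = v4 1 0 0 0 := by
  ext i; rcases i with i | i <;> fin_cases i <;> simp [eV, v4]

theorem eV1 : (eV 1 : Fin 2 ⊕ Fin 2 → F) = v4 0 1 0 0 := by
  ext i; rcases i with i | i <;> fin_cases i <;> simp [eV, v4]

theorem fV0 : (fV 0 : Fin 2 ⊕ Fin 2 → F) = v4 0 0 1 0 := by
  ext i; rcases i with i | i <;> fin_cases i <;> simp [fV, v4]

theorem fV1 : (fV 1 : Fin 2 ⊕ Fin 2 → F) = v4 0 0 0 1 := by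
  ext i; rcases i with i | i <;> fin_cases i <;> simp [fV, v4]

/-! ### Regular unipotency of `u` -/

/-- `u - 1` -/
def nM : M4 F := fromBlocks !![0, 1; 0, 0] !![0, 1; 0, 1] !![0, 0; 0, 0] !![0, 0; -1, 0]

theorem uM_sub_one : (uM : M4 F) - 1 = nM := by
  rw [sub_eq_iff_eq_add]
  unfold uM nM
  rw [← fromBlocks_one, fromBlocks_add]
  congr 1 <;> (ext i j; fin_cases i <;> fin_cases j <;> simp)

theorem nM_sq : (nM : M4 F) * nM =
    fromBlocks !![0, 0; 0, 0] !![-1, 1; -1, 0] !![0, 0; 0, 0] !![0, 0; 0, 0] := by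
  unfold nM
  simp only [fromBlocks_multiply, Matrix.mul_fin_two]
  congr 1 <;> (ext i j; fin_cases i <;> fin_cases j <;> simp)

theorem nM_cube : (nM : M4 F) ^ 3 =
    fromBlocks !![0, 0; 0, 0] !![-1, 0; 0, 0] !![0, 0; 0, 0] !![0, 0; 0, 0] := by
  rw [pow_succ, pow_two, nM_sq]
  unfold nM
  simp only [fromBlocks_multiply, Matrix.mul_fin_two]
  congr 1 <;> (ext i j; fin_cases i <;> fin_cases j <;> simp)

theorem nM_four : (nM : M4 F) ^ 4 = 0 := by
  have : (nM : M4 F) ^ 4 = (nM * nM) * (nM * nM) := by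
    simp only [pow_succ, pow_zero, one_mul, Matrix.mul_assoc]
  rw [this, nM_sq]
  simp only [fromBlocks_multiply, Matrix.mul_fin_two]
  rw [← fromBlocks_zero]
  congr 1 <;> (ext i j; fin_cases i <;> fin_cases j <;> simp)

theorem u_nilpotent : IsNilpotent (((uS : symplecticGroup (Fin 2) F) : M4 F) - 1) :=
  ⟨4, by change ((uM : M4 F) - 1) ^ 4 = 0; rw [uM_sub_one, nM_four]⟩

theorem u_regular : (((uS : symplecticGroup (Fin 2) F) : M4 F) - 1) ^ (2 * 2 - 1) ≠ 0 := by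
  change ((uM : M4 F) - 1) ^ 3 ≠ 0
  rw [uM_sub_one, nM_cube]
  intro h
  have := congrFun (congrFun h (Sum.inl 0)) (Sum.inr 0)
  simp at this


/-! ### Field lemmas -/

section FieldLemmas

variable [Fintype F]

theorem ringChar_ne_two (h2 : (2 : F) ≠ 0) : ringChar F ≠ 2 := by
  intro h
  apply h2
  have := (ringChar.spec F 2).mpr (by rw [h])
  simpa using this

/-- every element of a finite field of odd characteristic is a sum of two squares -/
theorem sq_add_sq_ff (h2 : (2 : F) ≠ 0) (x : F) : ∃ a b : F, a ^ 2 + b ^ 2 = x := by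
  classical
  let f : Polynomial F := Polynomial.X ^ 2
  let g : Polynomial F := Polynomial.X ^ 2 - Polynomial.C x
  obtain ⟨a, b, hab⟩ : ∃ a b, f.eval a + g.eval b = 0 :=
    FiniteField.exists_root_sum_quadratic (f := f) (g := g) (Polynomial.degree_X_pow 2)
      (Polynomial.degree_X_pow_sub_C (by decide) _)
      (FiniteField.odd_card_of_char_ne_two (ringChar_ne_two h2))
  refine ⟨a, b, ?_⟩
  rw [← sub_eq_zero]
  simpa only [f, g, Polynomial.eval_C, Polynomial.eval_X, Polynomial.eval_pow, Polynomial.eval_sub,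
    ← add_sub_assoc] using hab

/-- an additive subgroup is closed under halving -/
theorem half_mem (h2 : (2 : F) ≠ 0) (A : AddSubgroup F) {g : F} (hg : g ∈ A) : g / 2 ∈ A := by
  have hcp := ringChar.charP F
  have hp : (ringChar F).Prime := CharP.char_is_prime F (ringChar F)
  have hodd : ringChar F % 2 = 1 := by
    rcases hp.eq_two_or_odd with h | h
    · exact absurd h (ringChar_ne_two h2)
    · exact h
  obtain ⟨k, hk⟩ : ∃ k, ringChar F = 2 * k + 1 := ⟨ringChar F / 2, by omega⟩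
  have h1 : (k + 1) • g ∈ A := A.nsmul_mem hg (k + 1)
  have h3 : (2 : F) * ((k + 1 : ℕ) : F) = 1 := by
    have : ((2 * (k + 1) : ℕ) : F) = ((ringChar F : ℕ) : F) + 1 := by
      rw [hk]; push_cast; ring
    rw [CharP.cast_eq_zero F (ringChar F), zero_add] at this
    rw [← this]; push_cast; ring
  have h4 : (k + 1) • g = g / 2 := by
    rw [nsmul_eq_mul, eq_div_iff h2]
    linear_combination g * h3
  rwa [h4] at h1

/-- an additive subgroup containing a nonzero element and closed under multiplication by squares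
is everything -/
theorem addSubgroup_eq_top_of_sq (h2 : (2 : F) ≠ 0) (A : AddSubgroup F) {a0 : F} (ha0 : a0 ∈ A)
    (hne : a0 ≠ 0) (hsq : ∀ g ∈ A, ∀ x : F, x ^ 2 * g ∈ A) : A = ⊤ := by
  rw [eq_top_iff]
  intro t _
  obtain ⟨a, b, hab⟩ := sq_add_sq_ff h2 (t / a0)
  have : t = a ^ 2 * a0 + b ^ 2 * a0 := by
    rw [← add_mul, hab, div_mul_cancel₀ _ hne]
  rw [this]
  exact A.add_mem (hsq _ ha0 a) (hsq _ ha0 b)

/-- closure under `2 z²` for a suitable `z` gives closure under all squares -/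
theorem sq_closed (h2 : (2 : F) ≠ 0) (z : Fˣ) (hz : ∀ x : Fˣ, ∃ i : ℕ, x ^ 2 = (z ^ 2) ^ i)
    (A : AddSubgroup F) (hA : ∀ g ∈ A, 2 * (z : F) ^ 2 * g ∈ A) :
    ∀ g ∈ A, ∀ x : F, x ^ 2 * g ∈ A := by
  have hA' : ∀ g ∈ A, (z : F) ^ 2 * g ∈ A := by
    intro g hg
    have := hA _ (half_mem h2 A hg)
    have e : 2 * (z : F) ^ 2 * (g / 2) = (z : F) ^ 2 * g := by field_simp
    rwa [e] at this
  have hpow : ∀ i : ℕ, ∀ g ∈ A, ((z : F) ^ 2) ^ i * g ∈ A := by
    intro i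
    induction i with
    | zero => intro g hg; simpa using hg
    | succ i ih =>
      intro g hg
      have := ih _ (hA' g hg)
      rw [pow_succ, mul_assoc]
      exact this
  intro g hg x
  by_cases hx : x = 0
  · rw [hx]; simp
  · obtain ⟨i, hi⟩ := hz (Units.mk0 x hx)
    have : x ^ 2 = ((z : F) ^ 2) ^ i := by
      have := congrArg Units.val hi
      simpa using this
    rw [this]
    exact hpow i g hg

/-- a unit `z ≠ -1` whose square generates the squares -/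
theorem exists_good_unit (h2 : (2 : F) ≠ 0) :
    ∃ z : Fˣ, (z : F) + 1 ≠ 0 ∧ ∀ x : Fˣ, ∃ i : ℕ, x ^ 2 = (z ^ 2) ^ i := by
  obtain ⟨r, hr⟩ := IsCyclic.exists_monoid_generator (α := Fˣ)
  by_cases h : (r : F) + 1 = 0
  · refine ⟨1, by simpa [one_add_one_eq_two] using h2, ?_⟩
    intro x
    refine ⟨0, ?_⟩
    obtain ⟨i, hi⟩ := (Submonoid.mem_powers_iff _ _).mp (hr x)
    have hr2 : r ^ 2 = 1 := by
      apply Units.ext
      have : (r : F) = -1 := by linear_combination h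
      simp [this]
    rw [← hi, ← pow_mul, mul_comm, pow_mul, hr2, one_pow, pow_zero]
  · refine ⟨r, h, ?_⟩
    intro x
    obtain ⟨i, hi⟩ := (Submonoid.mem_powers_iff _ _).mp (hr x)
    exact ⟨i, by rw [← hi, ← pow_mul, ← pow_mul, mul_comm]⟩

end FieldLemmas


/-! ### The main argument -/

/-- the subgroup generated by the three conjugates -/
def XX (d : Fˣ) : Subgroup (symplecticGroup (Fin 2) F) :=
  Subgroup.closure {uS, jS * uS * jS⁻¹, dS d * uS * (dS d)⁻¹}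

/-- the opposite regular unipotent -/
def wS : symplecticGroup (Fin 2) F := jS * uS * jS⁻¹

/-- the short root element -/
def sS (d : Fˣ) : symplecticGroup (Fin 2) F := dS d * uS * (dS d)⁻¹ * uS⁻¹

theorem coe_wS : ((wS : symplecticGroup (Fin 2) F) : M4 F) = wM :=
  coe_conj_eqo (A' := jM) (B' := uM) jM_eq rfl j_u_eq

theorem coe_sS (d : Fˣ) : ((sS d : symplecticGroup (Fin 2) F) : M4 F) = sM ((d : F) - 1) :=
  coe_comm_eqo (A' := dM d) (B' := uM) rfl rfl (d_u_eq d)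

theorem u_mem_XX (d : Fˣ) : (uS : symplecticGroup (Fin 2) F) ∈ XX d :=
  Subgroup.subset_closure (by simp)

theorem w_mem_XX (d : Fˣ) : (wS : symplecticGroup (Fin 2) F) ∈ XX d :=
  Subgroup.subset_closure (by simp [wS])

theorem s_mem_XX (d : Fˣ) : (sS d : symplecticGroup (Fin 2) F) ∈ XX d :=
  mul_mem (Subgroup.subset_closure (by simp)) (inv_mem (u_mem_XX d))

theorem ap_uS (a b c e : F) :
    ap (uS : symplecticGroup (Fin 2) F) (v4 a b c e) = v4 (a + b + e) (b + e) c (-c + e) :=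
  u_mulVec a b c e

theorem ap_wS (a b c e : F) :
    ap (wS : symplecticGroup (Fin 2) F) (v4 a b c e) = v4 a (-a + b) (-b + c + e) (-b + e) := by
  change ((wS : symplecticGroup (Fin 2) F) : M4 F) *ᵥ v4 a b c e = _
  rw [coe_wS, w_mulVec]

theorem ap_sS (d : Fˣ) (a b c e : F) :
    ap (sS d : symplecticGroup (Fin 2) F) (v4 a b c e)
      = v4 (a + ((d : F) - 1) * b) b c (-(((d : F) - 1) * c) + e) := by
  change ((sS d : symplecticGroup (Fin 2) F) : M4 F) *ᵥ v4 a b c e = _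
  rw [coe_sS, s_mulVec]

/-- the starting long root element -/
theorem start_mem (d : Fˣ) :
    (Tr (v4 (1 : F) 0 0 0) (2 * ((d : F) - 1) ^ 2) : symplecticGroup (Fin 2) F) ∈ XX d := by
  have hk : ((sS d * uS * (sS d)⁻¹ * uS⁻¹ : symplecticGroup (Fin 2) F) : M4 F)
      = kM ((d : F) - 1) :=
    coe_comm_eqo (B' := uM) (coe_sS d) rfl (k_eq _)
  have ht : ((sS d * (sS d * uS * (sS d)⁻¹ * uS⁻¹) * (sS d)⁻¹ * (sS d * uS * (sS d)⁻¹ * uS⁻¹)⁻¹ :
      symplecticGroup (Fin 2) F) : M4 F) = tM (2 * ((d : F) - 1) ^ 2) :=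
    coe_comm_eqo (coe_sS d) hk (t_eq _)
  have hmem : sS d * uS * (sS d)⁻¹ * uS⁻¹ ∈ XX d :=
    mul_mem (mul_mem (mul_mem (s_mem_XX d) (u_mem_XX d)) (inv_mem (s_mem_XX d)))
      (inv_mem (u_mem_XX d))
  have hmem2 : sS d * (sS d * uS * (sS d)⁻¹ * uS⁻¹) * (sS d)⁻¹ * (sS d * uS * (sS d)⁻¹ * uS⁻¹)⁻¹
      ∈ XX d :=
    mul_mem (mul_mem (mul_mem (s_mem_XX d) hmem) (inv_mem (s_mem_XX d))) (inv_mem hmem)
  have : (Tr (v4 (1 : F) 0 0 0) (2 * ((d : F) - 1) ^ 2) : symplecticGroup (Fin 2) F)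
      = sS d * (sS d * uS * (sS d)⁻¹ * uS⁻¹) * (sS d)⁻¹ * (sS d * uS * (sS d)⁻¹ * uS⁻¹)⁻¹ := by
    apply Subtype.ext
    rw [ht]
    exact transv_e0 _
  rw [this]
  exact hmem2

/-- the loop: `γ ↦ 2 z² γ` -/
theorem loop_mem (d : Fˣ) {γ : F}
    (hγ : (Tr (v4 (1 : F) 0 0 0) γ : symplecticGroup (Fin 2) F) ∈ XX d) :
    (Tr (v4 (1 : F) 0 0 0) (2 * ((d : F) - 1) ^ 2 * γ) : symplecticGroup (Fin 2) F) ∈ XX d := by
  set z : F := (d : F) - 1 with hz
  -- move to `e₁`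
  have h1 : (Tr (v4 (0 : F) 1 0 0) γ : symplecticGroup (Fin 2) F) ∈ XX d := by
    have := mul_mem (mul_mem (mul_mem (u_mem_XX d) (w_mem_XX d)) hγ)
      (inv_mem (mul_mem (u_mem_XX d) (w_mem_XX d)))
    rw [conj_Tr', ap_mul, ap_wS, ap_uS] at this
    have e : v4 (1 + (-1 + 0) + (-0 + 0)) (-1 + 0 + (-0 + 0)) (-0 + 0 + 0) (-(-0 + 0 + 0) + (-0 + 0))
        = (-1 : F) • v4 (0 : F) 1 0 0 := by
      rw [smul_v4]; congr 1 <;> ring
    rw [e, Tr_smul] at this
    convert this using 2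
    ring
  -- conjugate by `s` and `s⁻¹`
  have h2 : (Tr (v4 (0 : F) 1 0 0 + z • v4 (1 : F) 0 0 0) γ : symplecticGroup (Fin 2) F) ∈ XX d := by
    have := mul_mem (mul_mem (s_mem_XX d) h1) (inv_mem (s_mem_XX d))
    rw [conj_Tr', ap_sS] at this
    convert this using 3
    rw [smul_v4, v4_add]; congr 1 <;> ring
  have h3 : (Tr (v4 (0 : F) 1 0 0 - z • v4 (1 : F) 0 0 0) γ : symplecticGroup (Fin 2) F) ∈ XX d := by
    have := mul_mem (mul_mem (inv_mem (s_mem_XX d)) h1) (inv_mem (inv_mem (s_mem_XX d)))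
    have e : ap (sS d)⁻¹ (v4 (0 : F) 1 0 0) = v4 (0 : F) 1 0 0 - z • v4 (1 : F) 0 0 0 := by
      apply ap_inv_eq
      rw [smul_v4, sub_eq_add_neg, ← neg_one_smul F (v4 _ _ _ _), smul_v4, v4_add, ap_sS]
      congr 1 <;> ring
    rw [conj_Tr', e] at this
    exact this
  have hpm := Tr_pm (v4 (0 : F) 1 0 0) (v4 (1 : F) 0 0 0) z γ (by rw [sympForm_v4]; ring)
  have h4 : (Tr (v4 (0 : F) 1 0 0) (2 * γ) : symplecticGroup (Fin 2) F) ∈ XX d := by
    rw [two_mul, ← Tr_mul]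
    exact mul_mem h1 h1
  have h5 : (Tr (v4 (1 : F) 0 0 0) (2 * z ^ 2 * γ) : symplecticGroup (Fin 2) F)
      = (Tr (v4 (0 : F) 1 0 0) (2 * γ))⁻¹ *
        (Tr (v4 (0 : F) 1 0 0 + z • v4 (1 : F) 0 0 0) γ *
          Tr (v4 (0 : F) 1 0 0 - z • v4 (1 : F) 0 0 0) γ) := by
    rw [hpm]; group
  rw [h5]
  exact mul_mem (inv_mem h4) (mul_mem h2 h3)

/-- the parameters of the long root elements with centre `e₀` in `X` -/
def AA (d : Fˣ) : AddSubgroup F where
  carrier := {γ | (Tr (v4 (1 : F) 0 0 0) γ : symplecticGroup (Fin 2) F) ∈ XX d}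
  zero_mem' := by
    change (Tr (v4 (1 : F) 0 0 0) 0 : symplecticGroup (Fin 2) F) ∈ XX d
    rw [Tr_zero]; exact one_mem _
  add_mem' := by
    intro a b ha hb
    change (Tr (v4 (1 : F) 0 0 0) (a + b) : symplecticGroup (Fin 2) F) ∈ XX d
    rw [← Tr_mul]; exact mul_mem ha hb
  neg_mem' := by
    intro a ha
    change (Tr (v4 (1 : F) 0 0 0) (-a) : symplecticGroup (Fin 2) F) ∈ XX d
    rw [Tr_neg]; exact inv_mem ha

theorem XX_eq_top [Fintype F] (h2 : (2 : F) ≠ 0) (z : Fˣ) (hz1 : (z : F) + 1 ≠ 0)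
    (hz : ∀ x : Fˣ, ∃ i : ℕ, x ^ 2 = (z ^ 2) ^ i) :
    XX (Units.mk0 ((z : F) + 1) hz1) = ⊤ := by
  set d : Fˣ := Units.mk0 ((z : F) + 1) hz1 with hd
  have hdz : (d : F) - 1 = (z : F) := by rw [hd, Units.val_mk0]; ring
  have hA : AA d = ⊤ := by
    apply addSubgroup_eq_top_of_sq h2 (AA d) (a0 := 2 * (z : F) ^ 2)
    · have := start_mem d
      rw [hdz] at this
      exact this
    · exact mul_ne_zero h2 (pow_ne_zero _ z.ne_zero)
    · apply sq_closed h2 z hz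
      intro g hg
      have := loop_mem d hg
      rw [hdz] at this
      exact this
  have he0 : (eV 0 : Fin 2 ⊕ Fin 2 → F) ∈ Rt (XX d) := by
    intro γ
    rw [eV0]
    have : γ ∈ AA d := by rw [hA]; trivial
    exact this
  have hu := u_mem_XX d
  have hw := w_mem_XX d
  -- `e₁ = -θ e₀`
  have he1 : (eV 1 : Fin 2 ⊕ Fin 2 → F) ∈ Rt (XX d) := by
    have := Rt_neg (Rt_ap hu (Rt_ap hw he0))
    rw [eV0, ap_wS, ap_uS] at this
    rw [eV1]
    convert this using 1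
    ext i; rcases i with i | i <;> fin_cases i <;> simp [v4]
  -- `f₀ = -θ e₁`
  have hf0 : (fV 0 : Fin 2 ⊕ Fin 2 → F) ∈ Rt (XX d) := by
    have := Rt_neg (Rt_ap hu (Rt_ap hw he1))
    rw [eV1, ap_wS, ap_uS] at this
    rw [fV0]
    convert this using 1
    ext i; rcases i with i | i <;> fin_cases i <;> simp [v4]
  -- `f₁ = -w (u f₀)`
  have hf1 : (fV 1 : Fin 2 ⊕ Fin 2 → F) ∈ Rt (XX d) := by
    have := Rt_neg (Rt_ap hw (Rt_ap hu hf0))
    rw [fV0, ap_uS, ap_wS] at this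
    rw [fV1]
    convert this using 1
    ext i; rcases i with i | i <;> fin_cases i <;> simp [v4]
  have hL : Long (XX d) := by
    intro i
    fin_cases i
    · exact ⟨he0, hf0⟩
    · exact ⟨he1, hf1⟩
  apply eq_top_of_long_pairs (by norm_num) hL
  intro j k hjk
  have hj : j = 0 := by
    apply Fin.ext
    have := k.2
    simp only [Fin.val_zero]
    omega
  have hk : k = 1 := by
    apply Fin.ext
    rw [hjk, hj]; rfl
  rw [hj, hk]
  -- `e₀ + e₁ = u e₁`
  have := Rt_ap hu he1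
  rw [eV1, ap_uS] at this
  rw [eV0, eV1, v4_add]
  convert this using 1
  congr 1 <;> ring

/-- **S2281 for `n = 2`, `q` odd**: over a finite field of odd characteristic, `Sp₄(F)` is
generated by three conjugate regular unipotent elements. -/
theorem sp4_odd [Fintype F] (h2 : (2 : F) ≠ 0) :
    ∃ u g h : Matrix.symplecticGroup (Fin 2) F,
      IsNilpotent ((u : Matrix (Fin 2 ⊕ Fin 2) (Fin 2 ⊕ Fin 2) F) - 1) ∧
      ((u : Matrix (Fin 2 ⊕ Fin 2) (Fin 2 ⊕ Fin 2) F) - 1) ^ (2 * 2 - 1) ≠ 0 ∧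
      Subgroup.closure ({u, g * u * g⁻¹, h * u * h⁻¹} : Set (Matrix.symplecticGroup (Fin 2) F))
        = ⊤ := by
  obtain ⟨z, hz1, hz⟩ := exists_good_unit h2
  exact ⟨uS, jS, dS (Units.mk0 ((z : F) + 1) hz1), u_nilpotent, u_regular, XX_eq_top h2 z hz1 hz⟩

/-- **S2281 for `n = 2`**, every finite field with more than two elements. -/
theorem sp4_all [Fintype F] (hq : Fintype.card F ≠ 2) :
    ∃ u g h : Matrix.symplecticGroup (Fin 2) F,
      IsNilpotent ((u : Matrix (Fin 2 ⊕ Fin 2) (Fin 2 ⊕ Fin 2) F) - 1) ∧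
      ((u : Matrix (Fin 2 ⊕ Fin 2) (Fin 2 ⊕ Fin 2) F) - 1) ^ (2 * 2 - 1) ≠ 0 ∧
      Subgroup.closure ({u, g * u * g⁻¹, h * u * h⁻¹} : Set (Matrix.symplecticGroup (Fin 2) F))
        = ⊤ := by
  by_cases h2 : (2 : F) = 0
  · exact Cfsg.Agent.Lib.Helper2.RegUniSp4.sp4_even' h2 hq
  · exact sp4_odd h2

end Cfsg.Agent.Lib.Helper2.RegUniSp4Odd
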