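import Mathlib
import Cfsg.Agent.Lib.Helper2.SOTDefs
import Cfsg.Agent.Lib.Helper28.SOTBDefs
import Cfsg.Agent.Lib.Helper25.SpTK
import Cfsg.Agent.Lib.Helper2.SOTA4a

set_option autoImplicit false
set_option linter.unusedSectionVars false
set_option linter.unusedVariables false

namespace Cfsg.Agent.Lib.Helper2.SOTBLeaf
open Matrix
open Cfsg.Agent.Lib.Helper25.Tens Cfsg.Agent.Lib.Helper25.SpT
open Cfsg.Agent.Lib.Helper19.OSub
open Cfsg.Agent.Lib.Helper2.SOT Cfsg.Agent.Lib.Helper28.SOTB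
open scoped Kronecker

variable {F : Type*} [Field F] [Fintype F] {b : ℕ} {G : Matrix (Fin b) (Fin b) F}
  {M : Subgroup (GL (Idx 2 b) F)} {o o' : Fin b}

/-- `(η - 1) y` -/
def etaN (G : Matrix (Fin b) (Fin b) F) (z v y : Fin b → F) : Fin b → F :=
  fB G y z • v - fB G y v • z - (fB G v v / 2 * fB G y z) • z

lemma etaN_etaN (hG : Gᵀ = G) {z v : Fin b → F} (hz : fB G z z = 0) (hzv : fB G z v = 0)
    (y : Fin b → F) : etaN G z v (etaN G z v y) = (-(fB G v v * fB G y z)) • z := by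
  have hvz : fB G v z = 0 := by rw [fB_comm G hG, hzv]
  unfold etaN
  simp only [sub_eq_add_neg, ← neg_smul, fB_add_left, fB_smul_left, hz, hzv, hvz]
  match_scalars <;> ring

/-- `(k - 1)(x ⊗ y) = x ⊗ (η - 1) y` -/
lemma kE_sub_one_pt {a : ℕ} (hG : Gᵀ = G) (h2 : (2 : F) ≠ 0) {z v : Fin b → F} (hz : fB G z z = 0)
    (hzv : fB G z v = 0) (x : Fin a → F) (y : Fin b → F) :
    ((kE G z v : GL (Idx a b) F).1 - 1) *ᵥ pt x y = pt x (etaN G z v y) := by
  have h1 := mv_kE_pt (a := a) hG h2 hz hzv x y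
  unfold mv at h1
  rw [Matrix.sub_mulVec, Matrix.one_mulVec, h1]
  unfold etaN
  have e : y + fB G y z • v - fB G y v • z - (fB G v v / 2 * fB G y z) • z =
      y + (fB G y z • v - fB G y v • z - (fB G v v / 2 * fB G y z) • z) := by abel
  rw [e, pt_add_right, add_sub_cancel_left]

/-- `(k - 1)² w ∈ A ⊗ z` -/
lemma kE_sq_mem {a : ℕ} (hG : Gᵀ = G) (h2 : (2 : F) ≠ 0) {z v : Fin b → F} (hz : fB G z z = 0)
    (hzv : fB G z v = 0) (w : Idx a b → F) :
    ∃ x'' : Fin a → F, (((kE G z v : GL (Idx a b) F).1 - 1) *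
      ((kE G z v : GL (Idx a b) F).1 - 1)) *ᵥ w = pt x'' z := by
  revert w
  apply pt_induction
  · exact ⟨0, by rw [Matrix.mulVec_zero, pt_zero_left]⟩
  · rintro u w ⟨x₁, h₁⟩ ⟨x₂, h₂⟩
    exact ⟨x₁ + x₂, by rw [Matrix.mulVec_add, h₁, h₂, pt_add_left]⟩
  · intro x y
    refine ⟨(-(fB G v v * fB G y z)) • x, ?_⟩
    rw [← Matrix.mulVec_mulVec, kE_sub_one_pt hG h2 hz hzv, kE_sub_one_pt hG h2 hz hzv,
      etaN_etaN hG hz hzv, pt_smul_right, pt_smul_left]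

/-- (F2) -/
theorem exists_zprime (h : MCtx 2 b G M) {z v : Fin b → F} (hz0 : z ≠ 0) (hz : fB G z z = 0)
    (hzv : fB G z v = 0) (hvv : fB G v v ≠ 0) (m : GL (Idx 2 b) F) (hm : m ∈ M)
    (α : GL (Fin 2) F) (β : GL (Fin b) F) (hk : m⁻¹ * kE G z v * m = kel α β)
    (c : F) (hc : α.1 = c • (1 : Matrix (Fin 2) (Fin 2) F)) :
    ∃ z' : Fin b → F, z' ≠ 0 ∧ fB G z' z' = 0 ∧
      ∀ x : Fin 2 → F, ∃ x' : Fin 2 → F, mv m (pt x z') = pt x' z := by
  classical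
  have hG := h.symm
  have h2 := h.two
  set D : Matrix (Idx 2 b) (Idx 2 b) F := (kE G z v : GL (Idx 2 b) F).1 - 1 with hD
  set D' : Matrix (Idx 2 b) (Idx 2 b) F := (kel α β : GL (Idx 2 b) F).1 - 1 with hD'
  set B1 : Matrix (Fin b) (Fin b) F := c • β.1 - 1 with hB1
  -- intertwining
  have hmD : m.1 * D' = D * m.1 := by
    have e1 : m.1 * (m⁻¹).1 = 1 := by rw [← Units.val_mul, mul_inv_cancel, Units.val_one]
    rw [hD', hD, ← hk, Units.val_mul, Units.val_mul, mul_sub, sub_mul, mul_one, one_mul,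
      ← mul_assoc, ← mul_assoc, e1, one_mul]
  have hmDD : m.1 * (D' * D') = (D * D) * m.1 := by
    rw [← mul_assoc, hmD, mul_assoc, hmD, ← mul_assoc]
  -- D' on pure tensors
  have hD'pt : ∀ (x : Fin 2 → F) (y : Fin b → F), D' *ᵥ pt x y = pt x (B1 *ᵥ y) := by
    intro x y
    rw [hD', Matrix.sub_mulVec, Matrix.one_mulVec, kel_mulVec_pt, hc, Matrix.smul_mulVec,
      Matrix.one_mulVec, pt_smul_left, ← pt_smul_right, hB1, Matrix.sub_mulVec, Matrix.one_mulVec,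
      Matrix.smul_mulVec]
    ext ⟨i, k⟩
    simp only [pt, Pi.sub_apply]
    ring
  have hD'D'pt : ∀ (x : Fin 2 → F) (y : Fin b → F),
      (D' * D') *ᵥ pt x y = pt x (B1 *ᵥ (B1 *ᵥ y)) := by
    intro x y
    rw [← Matrix.mulVec_mulVec, hD'pt, hD'pt]
  -- the key relation
  have hkey : ∀ (x : Fin 2 → F) (y : Fin b → F), ∃ x'' : Fin 2 → F,
      mv m (pt x (B1 *ᵥ (B1 *ᵥ y))) = pt x'' z := by
    intro x y
    obtain ⟨x'', hx''⟩ := kE_sq_mem (a := 2) hG h2 hz hzv (m.1 *ᵥ pt x y)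
    refine ⟨x'', ?_⟩
    unfold mv
    rw [← hD'D'pt, Matrix.mulVec_mulVec, hmDD, ← Matrix.mulVec_mulVec]
    exact hx''
  -- some z' ≠ 0
  have hex : ∃ y : Fin b → F, B1 *ᵥ (B1 *ᵥ y) ≠ 0 := by
    by_contra hcon
    push Not at hcon
    have hD'0 : D' * D' = 0 := by
      apply Matrix.mulVec_injective
      funext w
      rw [Matrix.zero_mulVec]
      revert w
      apply pt_induction
      · rw [Matrix.mulVec_zero]
      · intro u w hu hw
        rw [Matrix.mulVec_add, hu, hw, add_zero]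
      · intro x y
        rw [hD'D'pt, hcon, pt_zero_right]
    have hDD0 : D * D = 0 := by
      have e1 : m.1 * (m⁻¹).1 = 1 := by rw [← Units.val_mul, mul_inv_cancel, Units.val_one]
      have : D * D = (D * D) * m.1 * (m⁻¹).1 := by rw [mul_assoc, e1, mul_one]
      rw [this, ← hmDD, hD'0, mul_zero, zero_mul]
    -- but `D * D ≠ 0`
    have hGz : G *ᵥ z ≠ 0 := by
      intro h0
      exact hz0 (Matrix.eq_zero_of_mulVec_eq_zero h.nd h0)
    obtain ⟨l, hl⟩ := Function.ne_iff.mp hGz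
    have hl' : fB G (Pi.single l 1) z ≠ 0 := by
      rw [fB_single_left]
      exact hl
    have hx0 : (Pi.single (0 : Fin 2) (1 : F) : Fin 2 → F) ≠ 0 := by
      intro h0
      have := congrFun h0 0
      simp at this
    have h3 : (D * D) *ᵥ pt (Pi.single (0 : Fin 2) (1 : F)) (Pi.single l (1 : F)) =
        pt (Pi.single (0 : Fin 2) (1 : F))
          ((-(fB G v v * fB G (Pi.single l 1) z)) • z) := by
      rw [← Matrix.mulVec_mulVec, hD, kE_sub_one_pt hG h2 hz hzv, kE_sub_one_pt hG h2 hz hzv,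
        etaN_etaN hG hz hzv]
    rw [hDD0, Matrix.zero_mulVec] at h3
    have h4 : (-(fB G v v * fB G (Pi.single l 1) z)) • z = 0 := by
      apply Cfsg.Agent.Lib.Helper2.SOTA4.pt_right_injective hx0
      rw [← h3, pt_zero_right]
    rcases smul_eq_zero.mp h4 with h5 | h5
    · exact (mul_ne_zero hvv hl') (neg_eq_zero.mp h5)
    · exact hz0 h5
  obtain ⟨y, hy⟩ := hex
  refine ⟨B1 *ᵥ (B1 *ᵥ y), hy, ?_, fun x => hkey x y⟩
  -- singular
  obtain ⟨x₁, hx₁⟩ := hkey (Pi.single 0 1) y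
  obtain ⟨x₂, hx₂⟩ := hkey (Pi.single 1 1) y
  have h5 := mem_SpV.mp (h.le_sp hm) (pt (Pi.single 0 1) (B1 *ᵥ (B1 *ᵥ y)))
    (pt (Pi.single 1 1) (B1 *ᵥ (B1 *ᵥ y)))
  have hsf : sf (Pi.single (0 : Fin 2) (1 : F)) (Pi.single (1 : Fin 2) (1 : F)) = 1 := by
    rw [sf_two]
    simp
  rw [hx₁, hx₂, fV_pt, fV_pt, hz, mul_zero, hsf, one_mul] at h5
  exact h5.symm

end Cfsg.Agent.Lib.Helper2.SOTBLeaf
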