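import Cfsg.Agent.Lib.Helper18.SPDec
import Cfsg.Agent.Lib.Helper18.SPHom

/-!
# S3713 (planner helper18), leaves STEPN and STEPY in `_of` form (helper2)

`K = insert o (insert r J')`, `A = GJ (insert o J')`, `L = GJ (insert r J')`, `Ph = PhJ K o`.
Every `g ∈ Ph` is `t * m⁻¹ * q' * k` (`t ∈ TT o`, `m, k ∈ L`, `q' = qH o w' c`); `nW o * g * z` is brought to the form
`t' * m⁻¹ * x * tail` with `x ∈ A`, `tail ∈ Ph` (`reduce`), and `x = a₁ * s * a₂`, `s ∈ {1, y, n}`, by the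
decomposition GDEC of `A` (`tail_core`).  The leaves GDEC `GJ_decomp`, `yE_eq_conj`, PAIR `pair_orth` and
IDENT `yE_conj_E` enter as hypotheses.
-/

set_option autoImplicit false

namespace Cfsg.Agent.Lib.Helper2.SPSTEPOf

open Matrix Cfsg.Agent.Lib.Helper5 Cfsg.Agent.Lib.Helper14.SpPerfect Cfsg.Agent.Lib.Helper18.SP

variable {F : Type*} [Field F] {n : ℕ} {H : Type*} [Group H]

/-- the data of the inductive step (a verbatim copy of `StepHyp` of `notes/S3713_leaves.lean`) -/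
structure StepHyp (J' : Set (Fin n)) (o r p q : Fin n) (φA φL φPh : Sp n F → H) : Prop where
  ho : o ∉ J'
  hr : r ∉ J'
  hor : o ≠ r
  hp : p ∈ J'
  hq : q ∈ insert r J'
  hqp : q ≠ p
  homA : HomOn (GJ n F (insert o J')) φA
  homL : HomOn (GJ n F (insert r J')) φL
  homPh : HomOn (PhJ n F (insert o (insert r J')) o) φPh
  PhL : ∀ l ∈ GJ n F (insert r J'), φPh l = φL l
  PhA : ∀ g ∈ PhJ n F (insert o J') o, φPh g = φA g
  comm : ∀ s ∈ SS n F o, ∀ l ∈ GJ n F (insert r J'), Commute (φA s) (φL l)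
  hC : ∀ l ∈ PJ n F (insert r J') p, Commute (φL l) (φA (E (eV n F o) (eV n F p)))
  hR3 : (φA (yE n F o p))⁻¹ * φPh (E (eV n F o) (eV n F q)) * φA (yE n F o p)
      = φPh (E (eV n F o) (eV n F q)) * φL (E (eV n F p) (eV n F q))

/-- the statement of the leaf GDEC `GJ_decomp` at `J := J'` -/
def GDec (n : ℕ) (F : Type*) [Field F] (J' : Set (Fin n)) (o p : Fin n) : Prop :=
  ∀ x ∈ GJ n F (insert o J'),
    ∃ a₁ ∈ PhJ n F (insert o J') o, ∃ a₂ ∈ PhJ n F (insert o J') o,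
      x = a₁ * a₂ ∨ x = a₁ * yE n F o p * a₂ ∨ x = a₁ * nW n F o * a₂

section
variable {J' : Set (Fin n)} {o r p q : Fin n} {φA φL φPh : Sp n F → H}

theorem o_not_mem (D : StepHyp J' o r p q φA φL φPh) : o ∉ insert r J' := by
  intro h
  rcases Set.mem_insert_iff.mp h with h | h
  · exact D.hor h
  · exact D.ho h

theorem disj (D : StepHyp J' o r p q φA φL φPh) : Disjoint ({o} : Set (Fin n)) (insert r J') := by
  rw [Set.disjoint_singleton_left]
  exact o_not_mem D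

theorem L_le_PJ (D : StepHyp J' o r p q φA φL φPh) :
    GJ n F (insert r J') ≤ PJ n F (insert o (insert r J')) o :=
  GJ_le_PJ (Set.subset_insert o _) (o_not_mem D)

theorem L_le_Ph (D : StepHyp J' o r p q φA φL φPh) :
    GJ n F (insert r J') ≤ PhJ n F (insert o (insert r J')) o :=
  (L_le_PJ D).trans (PJ_le_PhJ _ _)

theorem sub_K (J' : Set (Fin n)) (o r : Fin n) : insert o J' ⊆ insert o (insert r J') :=
  Set.insert_subset_insert (Set.subset_insert r J')

theorem PhA_le_Ph (J' : Set (Fin n)) (o r : Fin n) :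
    PhJ n F (insert o J') o ≤ PhJ n F (insert o (insert r J')) o := PhJ_mono (sub_K J' o r) o

theorem SS_le_A (J' : Set (Fin n)) (o : Fin n) : SS n F o ≤ GJ n F (insert o J') :=
  SS_le_GJ (Set.mem_insert o J')

theorem TT_le_PhA (J' : Set (Fin n)) (o : Fin n) : TT n F o ≤ PhJ n F (insert o J') o :=
  TT_le_PhJ (Set.mem_insert o J')

theorem yE_mem_A (D : StepHyp J' o r p q φA φL φPh) : yE n F o p ∈ GJ n F (insert o J') := by
  unfold yE
  exact E_mem_GJ (fV_mem_VJ (Set.mem_insert o J')) (eV_mem_VJ (Set.mem_insert_of_mem o D.hp))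

/-- the shared ending: `t' * m⁻¹ * x * tail` with `x ∈ A` decomposed by GDEC -/
theorem tail_core (D : StepHyp J' o r p q φA φL φPh) (w y : Sp n F)
    (hwA : w ∈ GJ n F (insert o J')) (hyA : y ∈ GJ n F (insert o J'))
    (hG : ∀ x ∈ GJ n F (insert o J'),
      ∃ a₁ ∈ PhJ n F (insert o J') o, ∃ a₂ ∈ PhJ n F (insert o J') o,
        x = a₁ * a₂ ∨ x = a₁ * y * a₂ ∨ x = a₁ * w * a₂)
    (t' m x tail : Sp n F) (ht' : t' ∈ TT n F o) (hm : m ∈ GJ n F (insert r J'))
    (hx : x ∈ GJ n F (insert o J')) (htail : tail ∈ PhJ n F (insert o (insert r J')) o) :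
    ∃ p₁ ∈ PhJ n F (insert o (insert r J')) o, ∃ p₂ ∈ PhJ n F (insert o (insert r J')) o,
      (t' * m⁻¹ * x * tail = p₁ * p₂ ∧
        φA t' * (φL m)⁻¹ * φA x * φPh tail = φPh p₁ * φPh p₂) ∨
      (t' * m⁻¹ * x * tail = p₁ * y * p₂ ∧
        φA t' * (φL m)⁻¹ * φA x * φPh tail = φPh p₁ * φA y * φPh p₂) ∨
      (t' * m⁻¹ * x * tail = p₁ * w * p₂ ∧
        φA t' * (φL m)⁻¹ * φA x * φPh tail = φPh p₁ * φA w * φPh p₂) := by
  obtain ⟨a₁, ha₁, a₂, ha₂, hxd⟩ := hG x hx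
  have ha₁A : a₁ ∈ GJ n F (insert o J') := ha₁.1
  have ha₂A : a₂ ∈ GJ n F (insert o J') := ha₂.1
  have ht'PhA : t' ∈ PhJ n F (insert o J') o := TT_le_PhA J' o ht'
  have hminv : m⁻¹ ∈ GJ n F (insert r J') := inv_mem hm
  have Pt' : t' ∈ PhJ n F (insert o (insert r J')) o := PhA_le_Ph J' o r ht'PhA
  have Pminv : m⁻¹ ∈ PhJ n F (insert o (insert r J')) o := L_le_Ph D hminv
  have Pa₁ : a₁ ∈ PhJ n F (insert o (insert r J')) o := PhA_le_Ph J' o r ha₁
  have Pa₂ : a₂ ∈ PhJ n F (insert o (insert r J')) o := PhA_le_Ph J' o r ha₂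
  have Pp₁ : t' * m⁻¹ * a₁ ∈ PhJ n F (insert o (insert r J')) o := mul_mem (mul_mem Pt' Pminv) Pa₁
  have Pp₂ : a₂ * tail ∈ PhJ n F (insert o (insert r J')) o := mul_mem Pa₂ htail
  have vPh_p₁ : φPh (t' * m⁻¹ * a₁) = φA t' * (φL m)⁻¹ * φA a₁ := by
    rw [D.homPh.map_mul (mul_mem Pt' Pminv) Pa₁, D.homPh.map_mul Pt' Pminv,
      D.PhA _ ht'PhA, D.PhL m⁻¹ hminv, D.PhA a₁ ha₁, D.homL.map_inv hm]
  have vPh_p₂ : φPh (a₂ * tail) = φA a₂ * φPh tail := by
    rw [D.homPh.map_mul Pa₂ htail, D.PhA a₂ ha₂]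
  refine ⟨t' * m⁻¹ * a₁, Pp₁, a₂ * tail, Pp₂, ?_⟩
  rcases hxd with hxd | hxd | hxd
  · left
    refine ⟨?_, ?_⟩
    · rw [hxd]; group
    · rw [hxd, D.homA.map_mul ha₁A ha₂A, vPh_p₁, vPh_p₂]; group
  · right; left
    refine ⟨?_, ?_⟩
    · rw [hxd]; group
    · rw [hxd, D.homA.map_mul (mul_mem ha₁A hyA) ha₂A, D.homA.map_mul ha₁A hyA, vPh_p₁, vPh_p₂]
      group
  · right; right
    refine ⟨?_, ?_⟩
    · rw [hxd]; group
    · rw [hxd, D.homA.map_mul (mul_mem ha₁A hwA) ha₂A, D.homA.map_mul ha₁A hwA, vPh_p₁, vPh_p₂]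
      group

/-- the reduction: `w * (t * m⁻¹ * q' * k) * z = (w t w⁻¹) * m⁻¹ * x * tail` on both sides, from the identity
`w * q' * k * z = x * tail` on both sides -/
theorem reduce (D : StepHyp J' o r p q φA φL φPh) (w z : Sp n F) (hwS : w ∈ SS n F o)
    (hwT : ∀ t ∈ TT n F o, w * t * w⁻¹ ∈ TT n F o)
    (t m q' k x tail : Sp n F) (ht : t ∈ TT n F o) (hm : m ∈ GJ n F (insert r J'))
    (hq' : q' ∈ PhJ n F (insert o (insert r J')) o) (hk : k ∈ GJ n F (insert r J'))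
    (hgrp : w * q' * k * z = x * tail)
    (hHs : φA w * φPh q' * φL k * φA z = φA x * φPh tail) :
    w * (t * m⁻¹ * q' * k) * z = (w * t * w⁻¹) * m⁻¹ * x * tail ∧
    φA w * φPh (t * m⁻¹ * q' * k) * φA z = φA (w * t * w⁻¹) * (φL m)⁻¹ * φA x * φPh tail := by
  have hwA : w ∈ GJ n F (insert o J') := SS_le_A J' o hwS
  have htS : t ∈ SS n F o := TT_le_SS o ht
  have htA : t ∈ GJ n F (insert o J') := SS_le_A J' o htS
  have ht'A : w * t * w⁻¹ ∈ GJ n F (insert o J') := SS_le_A J' o (TT_le_SS o (hwT t ht))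
  have htPhA : t ∈ PhJ n F (insert o J') o := TT_le_PhA J' o ht
  have hminv : m⁻¹ ∈ GJ n F (insert r J') := inv_mem hm
  have Pt : t ∈ PhJ n F (insert o (insert r J')) o := PhA_le_Ph J' o r htPhA
  have Pminv : m⁻¹ ∈ PhJ n F (insert o (insert r J')) o := L_le_Ph D hminv
  have Pk : k ∈ PhJ n F (insert o (insert r J')) o := L_le_Ph D hk
  have cwminv : w * m⁻¹ = m⁻¹ * w := (GJ_commute (disj D) hwS hminv).eq
  have cWm : φA w * (φL m)⁻¹ = (φL m)⁻¹ * φA w := ((D.comm w hwS m hm).inv_right).eq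
  have hwt : φA w * φA t = φA (w * t * w⁻¹) * φA w := by
    rw [← D.homA.map_mul hwA htA, ← D.homA.map_mul ht'A hwA]
    congr 1
    group
  have vPh_g : φPh (t * m⁻¹ * q' * k) = φA t * (φL m)⁻¹ * φPh q' * φL k := by
    rw [D.homPh.map_mul (mul_mem (mul_mem Pt Pminv) hq') Pk, D.homPh.map_mul (mul_mem Pt Pminv) hq',
      D.homPh.map_mul Pt Pminv, D.PhA t htPhA, D.PhL m⁻¹ hminv, D.PhL k hk, D.homL.map_inv hm]
  constructor
  · calc w * (t * m⁻¹ * q' * k) * z
        = w * t * w⁻¹ * (w * m⁻¹) * (q' * k * z) := by group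
      _ = w * t * w⁻¹ * (m⁻¹ * w) * (q' * k * z) := by rw [cwminv]
      _ = w * t * w⁻¹ * m⁻¹ * (w * q' * k * z) := by group
      _ = _ := by rw [hgrp]; group
  · rw [vPh_g]
    calc φA w * (φA t * (φL m)⁻¹ * φPh q' * φL k) * φA z
        = (φA w * φA t) * (φL m)⁻¹ * (φPh q' * φL k * φA z) := by group
      _ = φA (w * t * w⁻¹) * (φA w * (φL m)⁻¹) * (φPh q' * φL k * φA z) := by rw [hwt]; group
      _ = φA (w * t * w⁻¹) * ((φL m)⁻¹ * φA w) * (φPh q' * φL k * φA z) := by rw [cWm]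
      _ = φA (w * t * w⁻¹) * (φL m)⁻¹ * (φA w * φPh q' * φL k * φA z) := by group
      _ = _ := by rw [hHs]; group

/-- `reduce` + `tail_core` -/
theorem step_gen (D : StepHyp J' o r p q φA φL φPh) (hG : GDec n F J' o p) (z : Sp n F)
    (t m q' k x tail : Sp n F) (ht : t ∈ TT n F o) (hm : m ∈ GJ n F (insert r J'))
    (hq' : q' ∈ PhJ n F (insert o (insert r J')) o) (hk : k ∈ GJ n F (insert r J'))
    (hx : x ∈ GJ n F (insert o J')) (htail : tail ∈ PhJ n F (insert o (insert r J')) o)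
    (hgrp : nW n F o * q' * k * z = x * tail)
    (hHs : φA (nW n F o) * φPh q' * φL k * φA z = φA x * φPh tail) :
    ∃ p₁ ∈ PhJ n F (insert o (insert r J')) o, ∃ p₂ ∈ PhJ n F (insert o (insert r J')) o,
      (nW n F o * (t * m⁻¹ * q' * k) * z = p₁ * p₂ ∧
        φA (nW n F o) * φPh (t * m⁻¹ * q' * k) * φA z = φPh p₁ * φPh p₂) ∨
      (nW n F o * (t * m⁻¹ * q' * k) * z = p₁ * yE n F o p * p₂ ∧
        φA (nW n F o) * φPh (t * m⁻¹ * q' * k) * φA z = φPh p₁ * φA (yE n F o p) * φPh p₂) ∨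
      (nW n F o * (t * m⁻¹ * q' * k) * z = p₁ * nW n F o * p₂ ∧
        φA (nW n F o) * φPh (t * m⁻¹ * q' * k) * φA z = φPh p₁ * φA (nW n F o) * φPh p₂) := by
  obtain ⟨h1, h2⟩ := reduce D (nW n F o) z (nW_mem_SS o) (fun _ ht => nW_conj_TT ht) t m q' k x tail ht hm hq'
    hk hgrp hHs
  rw [h1, h2]
  exact tail_core D (nW n F o) (yE n F o p) (SS_le_A J' o (nW_mem_SS o)) (yE_mem_A D) hG _ m x tail
    (nW_conj_TT ht) hm hx htail

/-! ### STEPN -/

/-- every element of the point stabiliser is `t * m⁻¹ * q' * k` with `q' = qH o w c`, `w ∈ {0, e_p}` -/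
theorem exists_form (D : StepHyp J' o r p q φA φL φPh) {g : Sp n F}
    (hg : g ∈ PhJ n F (insert o (insert r J')) o) :
    ∃ t ∈ TT n F o, ∃ m ∈ GJ n F (insert r J'), ∃ k ∈ GJ n F (insert r J'),
      ∃ q' ∈ PJ n F (insert o J') o, g = t * m⁻¹ * q' * k := by
  obtain ⟨t, ht, pp, hpp, hgt⟩ := PhJ_decomp (Set.mem_insert o _) hg
  obtain ⟨u, hu, c, l, hl, hppq⟩ := PJ_decomp (o_not_mem D) hpp
  by_cases hu0 : u = 0
  · refine ⟨t, ht, 1, one_mem _, l, hl, qH o (0 : V n F) c, qH_mem_PJ D.ho (Submodule.zero_mem _) c, ?_⟩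
    rw [hgt, hppq, hu0]
    group
  · have hep : eV n F p ∈ VJ n F (insert r J') := eV_mem_VJ (Set.mem_insert_of_mem r D.hp)
    obtain ⟨m, hm, hmu⟩ := GJ_trans (insert r J') hu hep hu0 (eV_ne_zero p)
    have hconj := conj_qH (o_not_mem D) hm u c
    rw [hmu] at hconj
    refine ⟨t, ht, m, hm, m * l, mul_mem hm hl, qH o (eV n F p) c, qH_mem_PJ D.ho (eV_mem_VJ D.hp) c, ?_⟩
    rw [hgt, hppq, ← hconj]
    group

/-- **STEPN** over the decomposition GDEC of `A` -/
theorem step_n_of (D : StepHyp J' o r p q φA φL φPh) (hG : GDec n F J' o p) :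
    ∀ g ∈ PhJ n F (insert o (insert r J')) o,
      ∃ p₁ ∈ PhJ n F (insert o (insert r J')) o, ∃ p₂ ∈ PhJ n F (insert o (insert r J')) o,
      (nW n F o * g * nW n F o = p₁ * p₂ ∧ φA (nW n F o) * φPh g * φA (nW n F o) = φPh p₁ * φPh p₂) ∨
      (nW n F o * g * nW n F o = p₁ * yE n F o p * p₂ ∧
        φA (nW n F o) * φPh g * φA (nW n F o) = φPh p₁ * φA (yE n F o p) * φPh p₂) ∨
      (nW n F o * g * nW n F o = p₁ * nW n F o * p₂ ∧
        φA (nW n F o) * φPh g * φA (nW n F o) = φPh p₁ * φA (nW n F o) * φPh p₂) := by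
  intro g hg
  obtain ⟨t, ht, m, hm, k, hk, q', hq', rfl⟩ := exists_form D hg
  have hwS : nW n F o ∈ SS n F o := nW_mem_SS o
  have hwA : nW n F o ∈ GJ n F (insert o J') := SS_le_A J' o hwS
  have hq'A : q' ∈ GJ n F (insert o J') := hq'.1
  have hq'PhA : q' ∈ PhJ n F (insert o J') o := PJ_le_PhJ _ _ hq'
  have ckw : k * nW n F o = nW n F o * k := ((GJ_commute (disj D) hwS hk).eq).symm
  have cKW : φL k * φA (nW n F o) = φA (nW n F o) * φL k := ((D.comm _ hwS k hk).eq).symm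
  refine step_gen D hG (nW n F o) t m q' k (nW n F o * q' * nW n F o) k ht hm
    (PhA_le_Ph J' o r hq'PhA) hk (mul_mem (mul_mem hwA hq'A) hwA) (L_le_Ph D hk) ?_ ?_
  · rw [mul_assoc (nW n F o * q'), ckw]; group
  · rw [D.PhA q' hq'PhA, D.PhL k hk, D.homA.map_mul (mul_mem hwA hq'A) hwA, D.homA.map_mul hwA hq'A,
      mul_assoc (φA (nW n F o) * φA q'), cKW]
    group

/-! ### STEPY -/

/-- elements of `PJ L p` commute with `y = E(f_o, e_p)` -/
theorem commute_yE (D : StepHyp J' o r p q φA φL φPh) {k : Sp n F} (hk : k ∈ PJ n F (insert r J') p) :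
    k * yE n F o p = yE n F o p * k := by
  have h := conj_E k (fV n F o) (eV n F p)
  rw [(hk.1 o (o_not_mem D)).2, hk.2] at h
  unfold yE
  calc k * E (fV n F o) (eV n F p) = (k * E (fV n F o) (eV n F p) * k⁻¹) * k := by group
    _ = _ := by rw [h]

/-- the images of `PJ L p` commute with `φA y` -/
theorem commute_yE_image (D : StepHyp J' o r p q φA φL φPh)
    (hyconj : yE n F o p = nW n F o * (E (eV n F o) (eV n F p))⁻¹ * (nW n F o)⁻¹)
    {k : Sp n F} (hk : k ∈ PJ n F (insert r J') p) :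
    φL k * φA (yE n F o p) = φA (yE n F o p) * φL k := by
  have hwS : nW n F o ∈ SS n F o := nW_mem_SS o
  have hwA : nW n F o ∈ GJ n F (insert o J') := SS_le_A J' o hwS
  have hEA : E (eV n F o) (eV n F p) ∈ GJ n F (insert o J') :=
    E_mem_GJ (eV_mem_VJ (Set.mem_insert o J')) (eV_mem_VJ (Set.mem_insert_of_mem o D.hp))
  have h1 : φA (yE n F o p) = φA (nW n F o) * (φA (E (eV n F o) (eV n F p)))⁻¹ * (φA (nW n F o))⁻¹ := by
    conv_lhs => rw [hyconj]
    rw [D.homA.map_mul (mul_mem hwA (inv_mem hEA)) (inv_mem hwA), D.homA.map_mul hwA (inv_mem hEA),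
      D.homA.map_inv hEA, D.homA.map_inv hwA]
  have c1 : Commute (φL k) (φA (nW n F o)) := (D.comm _ hwS k hk.1).symm
  have c2 : Commute (φL k) (φA (E (eV n F o) (eV n F p))) := D.hC k hk
  rw [h1]
  exact ((c1.mul_right c2.inv_right).mul_right c1.inv_right).eq

theorem act_ne_zero (g : Sp n F) {v : V n F} (hv : v ≠ 0) : act g v ≠ 0 := by
  intro h
  apply hv
  have := act_inv_act g v
  rw [h, act_zero] at this
  exact this.symm

/-- **STEPY** over GDEC, `yE_eq_conj`, PAIR and IDENT `yE_conj_E` -/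
theorem step_y_of (D : StepHyp J' o r p q φA φL φPh) (hG : GDec n F J' o p)
    (hyconj : yE n F o p = nW n F o * (E (eV n F o) (eV n F p))⁻¹ * (nW n F o)⁻¹)
    (hpair : ∀ u u' : V n F, u ∈ VJ n F (insert r J') → u' ∈ VJ n F (insert r J') → ω n F u u' = 0 →
      u' ≠ 0 → (∀ α : F, u ≠ α • u') →
      ∃ m ∈ GJ n F (insert r J'), act m u' = eV n F p ∧ act m u = eV n F q)
    (hyE : (yE n F o p)⁻¹ * E (eV n F o) (eV n F q) * yE n F o p
      = E (eV n F o) (eV n F q) * E (eV n F p) (eV n F q)) :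
    ∀ g ∈ PhJ n F (insert o (insert r J')) o,
      ∃ p₁ ∈ PhJ n F (insert o (insert r J')) o, ∃ p₂ ∈ PhJ n F (insert o (insert r J')) o,
      (nW n F o * g * yE n F o p = p₁ * p₂ ∧ φA (nW n F o) * φPh g * φA (yE n F o p) = φPh p₁ * φPh p₂) ∨
      (nW n F o * g * yE n F o p = p₁ * yE n F o p * p₂ ∧
        φA (nW n F o) * φPh g * φA (yE n F o p) = φPh p₁ * φA (yE n F o p) * φPh p₂) ∨
      (nW n F o * g * yE n F o p = p₁ * nW n F o * p₂ ∧
        φA (nW n F o) * φPh g * φA (yE n F o p) = φPh p₁ * φA (nW n F o) * φPh p₂) := by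
  intro g hg
  have hoL := o_not_mem D
  have hpL : p ∈ insert r J' := Set.mem_insert_of_mem r D.hp
  have hwS : nW n F o ∈ SS n F o := nW_mem_SS o
  have hwA : nW n F o ∈ GJ n F (insert o J') := SS_le_A J' o hwS
  have hyA := yE_mem_A D
  obtain ⟨t, ht, pp, hpp, hgt⟩ := PhJ_decomp (Set.mem_insert o _) hg
  obtain ⟨u, hu, c, l, hl, hppq⟩ := PJ_decomp hoL hpp
  have hep : eV n F p ∈ VJ n F (insert r J') := eV_mem_VJ hpL
  have hfp : fV n F p ∈ VJ n F (insert r J') := fV_mem_VJ hpL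
  obtain ⟨u', hu'def⟩ : ∃ u', u' = act l (eV n F p) := ⟨_, rfl⟩
  have hu' : u' ∈ VJ n F (insert r J') := by rw [hu'def]; exact act_mem_VJ hl hep
  have hu'0 : u' ≠ 0 := by rw [hu'def]; exact act_ne_zero l (eV_ne_zero p)
  -- the choice of `m`
  have key : ∃ m ∈ GJ n F (insert r J'), act m u' = eV n F p ∧
      (act m u ∈ VJ n F {p} ∨ act m u = eV n F q) := by
    by_cases h0 : ω n F u u' = 0
    · by_cases hdep : ∃ α : F, u = α • u'
      · obtain ⟨α, hα⟩ := hdep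
        obtain ⟨m, hm, hmu'⟩ := GJ_trans (insert r J') hu' hep hu'0 (eV_ne_zero p)
        refine ⟨m, hm, hmu', Or.inl ?_⟩
        rw [hα, act_smul, hmu']
        exact (VJ n F {p}).smul_mem α (eV_mem_VJ rfl)
      · push_neg at hdep
        obtain ⟨m, hm, h1, h2⟩ := hpair u u' hu hu' h0 hu'0 hdep
        exact ⟨m, hm, h1, Or.inr h2⟩
    · obtain ⟨m, hm, h1, h2⟩ := GJ_trans_pair (insert r J')
        ((VJ n F (insert r J')).smul_mem (ω n F u u')⁻¹ hu) hu' hfp hep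
        (by rw [ω_smul_left, inv_mul_cancel₀ h0]) (by rw [ω_fV_eV, if_pos rfl])
      refine ⟨m, hm, h2, Or.inl ?_⟩
      have : act m u = ω n F u u' • fV n F p := by
        rw [← h1, act_smul, smul_smul, mul_inv_cancel₀ h0, one_smul]
      rw [this]
      exact (VJ n F {p}).smul_mem _ (fV_mem_VJ rfl)
  obtain ⟨m, hm, hmu', hcase⟩ := key
  -- `k = m * l ∈ PJ L p`
  have hkL : m * l ∈ GJ n F (insert r J') := mul_mem hm hl
  have hkP : m * l ∈ PJ n F (insert r J') p := ⟨hkL, by rw [act_mul, ← hu'def, hmu']⟩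
  have hconj := conj_qH hoL hm u c
  have hgform : g = t * m⁻¹ * qH o (act m u) c * (m * l) := by
    rw [hgt, hppq, ← hconj]
    group
  have cky := commute_yE D hkP
  have cKY := commute_yE_image D hyconj hkP
  rw [hgform]
  rcases hcase with hw' | hw'
  · -- cases (a), (b): everything in `A`
    have hw'J : act m u ∈ VJ n F J' := VJ_mono (Set.singleton_subset_iff.mpr D.hp) hw'
    have hq' : qH o (act m u) c ∈ PJ n F (insert o J') o := qH_mem_PJ D.ho hw'J c
    have hq'A : qH o (act m u) c ∈ GJ n F (insert o J') := hq'.1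
    have hq'PhA : qH o (act m u) c ∈ PhJ n F (insert o J') o := PJ_le_PhJ _ _ hq'
    refine step_gen D hG (yE n F o p) t m (qH o (act m u) c) (m * l)
      (nW n F o * qH o (act m u) c * yE n F o p) (m * l) ht hm (PhA_le_Ph J' o r hq'PhA) hkL
      (mul_mem (mul_mem hwA hq'A) hyA) (L_le_Ph D hkL) ?_ ?_
    · rw [mul_assoc (nW n F o * qH o (act m u) c), cky]; group
    · rw [D.PhA _ hq'PhA, D.PhL _ hkL, D.homA.map_mul (mul_mem hwA hq'A) hyA, D.homA.map_mul hwA hq'A,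
        mul_assoc (φA (nW n F o) * φA (qH o (act m u) c)), cKY]
      group
  · -- case (c): `act m u = e_q`
    rw [hw']
    have hqL : q ∈ insert r J' := D.hq
    have heq : eV n F q ∈ VJ n F (insert r J') := eV_mem_VJ hqL
    have hoq : ω n F (eV n F o) (eV n F q) = 0 := ω_eV_of_not_mem hoL heq
    -- the pieces
    have hTrA : Tr (eV n F o) c ∈ GJ n F (insert o J') := Tr_mem_GJ (eV_mem_VJ (Set.mem_insert o J')) c
    have hTrPhA : Tr (eV n F o) c ∈ PhJ n F (insert o J') o :=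
      PJ_le_PhJ _ _ (Tr_eV_mem_PJ (Set.mem_insert o J') c)
    have hEoq : E (eV n F o) (eV n F q) ∈ PJ n F (insert o (insert r J')) o := E_eV_mem_PJ hoL heq
    have PEoq : E (eV n F o) (eV n F q) ∈ PhJ n F (insert o (insert r J')) o := PJ_le_PhJ _ _ hEoq
    have hEpq : E (eV n F p) (eV n F q) ∈ GJ n F (insert r J') := E_mem_GJ hep heq
    have PEpq := L_le_Ph D hEpq
    have PTr : Tr (eV n F o) c ∈ PhJ n F (insert o (insert r J')) o := PhA_le_Ph J' o r hTrPhA
    have Pk := L_le_Ph D hkL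
    have hq'P : qH o (eV n F q) c ∈ PhJ n F (insert o (insert r J')) o :=
      PJ_le_PhJ _ _ (qH_mem_PJ hoL heq c)
    have hcomm : E (eV n F o) (eV n F q) * Tr (eV n F o) c = Tr (eV n F o) c * E (eV n F o) (eV n F q) :=
      (E_commute_Tr (eV n F o) (eV n F q) c hoq).eq
    have hyE' : E (eV n F o) (eV n F q) * yE n F o p
        = yE n F o p * (E (eV n F o) (eV n F q) * E (eV n F p) (eV n F q)) := by
      rw [← hyE]; group
    have hR3' : φPh (E (eV n F o) (eV n F q)) * φA (yE n F o p)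
        = φA (yE n F o p) * (φPh (E (eV n F o) (eV n F q)) * φL (E (eV n F p) (eV n F q))) := by
      rw [← D.hR3]; group
    refine step_gen D hG (yE n F o p) t m (qH o (eV n F q) c) (m * l)
      (nW n F o * Tr (eV n F o) c * yE n F o p)
      (E (eV n F o) (eV n F q) * E (eV n F p) (eV n F q) * (m * l)) ht hm hq'P hkL
      (mul_mem (mul_mem hwA hTrA) hyA) (mul_mem (mul_mem PEoq PEpq) Pk) ?_ ?_
    · unfold qH
      calc nW n F o * (E (eV n F o) (eV n F q) * Tr (eV n F o) c) * (m * l) * yE n F o p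
          = nW n F o * (E (eV n F o) (eV n F q) * Tr (eV n F o) c) * ((m * l) * yE n F o p) := by group
        _ = nW n F o * (Tr (eV n F o) c * E (eV n F o) (eV n F q)) * (yE n F o p * (m * l)) := by
            rw [hcomm, cky]
        _ = nW n F o * Tr (eV n F o) c * (E (eV n F o) (eV n F q) * yE n F o p) * (m * l) := by group
        _ = _ := by rw [hyE']; group
    · have v1 : φPh (qH o (eV n F q) c) = φA (Tr (eV n F o) c) * φPh (E (eV n F o) (eV n F q)) := by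
        unfold qH
        rw [hcomm, D.homPh.map_mul PTr PEoq, D.PhA _ hTrPhA]
      have v2 : φPh (E (eV n F o) (eV n F q) * E (eV n F p) (eV n F q) * (m * l))
          = φPh (E (eV n F o) (eV n F q)) * φL (E (eV n F p) (eV n F q)) * φL (m * l) := by
        rw [D.homPh.map_mul (mul_mem PEoq PEpq) Pk, D.homPh.map_mul PEoq PEpq, D.PhL _ hEpq, D.PhL _ hkL]
      rw [v1, v2, D.homA.map_mul (mul_mem hwA hTrA) hyA, D.homA.map_mul hwA hTrA]
      calc φA (nW n F o) * (φA (Tr (eV n F o) c) * φPh (E (eV n F o) (eV n F q))) * φL (m * l)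
            * φA (yE n F o p)
          = φA (nW n F o) * φA (Tr (eV n F o) c) * φPh (E (eV n F o) (eV n F q))
            * (φL (m * l) * φA (yE n F o p)) := by group
        _ = φA (nW n F o) * φA (Tr (eV n F o) c) * (φPh (E (eV n F o) (eV n F q)) * φA (yE n F o p))
            * φL (m * l) := by rw [cKY]; group
        _ = _ := by rw [hR3']; group

end

end Cfsg.Agent.Lib.Helper2.SPSTEPOf
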