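import Mathlib
import Cfsg.Agent.Lib.Helper9.Om7SK1b

set_option autoImplicit false

/-!
# S2282, n = 3, q odd: the Dickson start

In the basis `(e, d, f)` of the antidiagonal model of the 3-dimensional unitary space over
`K = F_{q²}`, the central root elements are `T_e(c) = 1 + c E_{e,f}` and `T_f(c) = 1 + c E_{f,e}`
with `c^q = -c`.  We show: there is a skew `c₀ ≠ 0` such that any subgroup of `SL₃(K)` containing
`T_e(c₀)` and `T_f(c₀)` contains BOTH full root groups `T_e(c)`, `T_f(c)`, `c^q = -c`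
(Dickson's lemma, in the form `Helper9.Om7SLeaf.k1b_dickson`, applied to `δ = c₀²`, a generator of
`F_q^×`; the exceptional branch `δ² = -1` only occurs for `q = 5`, a prime field).
-/

namespace Cfsg.Agent.Lib.Helper2.SU3Odd

open Matrix Cfsg.Agent.Lib.Helper13

variable {K : Type*} [Field K]

/-- `T_e(c)` in the basis `(e, d, f)` -/
def TeM (c : K) : SpecialLinearGroup (Fin 3) K :=
  ⟨!![1, 0, c; 0, 1, 0; 0, 0, 1], by simp [det_fin_three]⟩

/-- `T_f(c)` in the basis `(e, d, f)` -/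
def TfM (c : K) : SpecialLinearGroup (Fin 3) K :=
  ⟨!![1, 0, 0; 0, 1, 0; c, 0, 1], by simp [det_fin_three]⟩

/-- the matrix of the embedding of `SL₂` on the plane `⟨e, f⟩`, scaled by `c₀` -/
def phiM (c0 : K) (M : Matrix (Fin 2) (Fin 2) K) : Matrix (Fin 3) (Fin 3) K :=
  !![M 0 0, 0, M 0 1 / c0; 0, 1, 0; M 1 0 * c0, 0, M 1 1]

theorem phiM_det (c0 : K) (hc0 : c0 ≠ 0) (M : Matrix (Fin 2) (Fin 2) K) :
    (phiM c0 M).det = M.det := by
  unfold phiM
  rw [det_fin_three, det_fin_two]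
  simp
  field_simp

theorem phiM_one (c0 : K) : phiM c0 (1 : Matrix (Fin 2) (Fin 2) K) = 1 := by
  unfold phiM
  ext i j
  fin_cases i <;> fin_cases j <;> simp

theorem phiM_mul (c0 : K) (hc0 : c0 ≠ 0) (A B : Matrix (Fin 2) (Fin 2) K) :
    phiM c0 (A * B) = phiM c0 A * phiM c0 B := by
  unfold phiM
  ext i j
  fin_cases i <;> fin_cases j <;>
    simp [Matrix.mul_apply, Fin.sum_univ_two, Fin.sum_univ_three] <;> field_simp

/-- the embedding of `SL₂` on the plane `⟨e, f⟩`, scaled by `c₀` -/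
def phi (c0 : K) (hc0 : c0 ≠ 0) : SpecialLinearGroup (Fin 2) K →* SpecialLinearGroup (Fin 3) K where
  toFun M := ⟨phiM c0 M.1, by rw [phiM_det c0 hc0]; exact M.2⟩
  map_one' := Subtype.ext (phiM_one c0)
  map_mul' A B := Subtype.ext (phiM_mul c0 hc0 A.1 B.1)

/-- the matrix of the same embedding with the roles of `e` and `f` exchanged -/
def phiM' (c0 : K) (M : Matrix (Fin 2) (Fin 2) K) : Matrix (Fin 3) (Fin 3) K :=
  !![M 1 1, 0, M 1 0 * c0; 0, 1, 0; M 0 1 / c0, 0, M 0 0]

theorem phiM'_det (c0 : K) (hc0 : c0 ≠ 0) (M : Matrix (Fin 2) (Fin 2) K) :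
    (phiM' c0 M).det = M.det := by
  unfold phiM'
  rw [det_fin_three, det_fin_two]
  simp
  field_simp

theorem phiM'_one (c0 : K) : phiM' c0 (1 : Matrix (Fin 2) (Fin 2) K) = 1 := by
  unfold phiM'
  ext i j
  fin_cases i <;> fin_cases j <;> simp

theorem phiM'_mul (c0 : K) (hc0 : c0 ≠ 0) (A B : Matrix (Fin 2) (Fin 2) K) :
    phiM' c0 (A * B) = phiM' c0 A * phiM' c0 B := by
  unfold phiM'
  ext i j
  fin_cases i <;> fin_cases j <;>
    simp [Matrix.mul_apply, Fin.sum_univ_two, Fin.sum_univ_three] <;> field_simp <;> ring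

/-- the same with the roles of `e` and `f` exchanged -/
def phi' (c0 : K) (hc0 : c0 ≠ 0) : SpecialLinearGroup (Fin 2) K →* SpecialLinearGroup (Fin 3) K where
  toFun M := ⟨phiM' c0 M.1, by rw [phiM'_det c0 hc0]; exact M.2⟩
  map_one' := Subtype.ext (phiM'_one c0)
  map_mul' A B := Subtype.ext (phiM'_mul c0 hc0 A.1 B.1)

theorem phi_lSL (c0 : K) (hc0 : c0 ≠ 0) (s : K) : phi c0 hc0 (lSL s) = TfM (s * c0) := by
  apply Subtype.ext
  change phiM c0 (lSL s).1 = (TfM (s * c0)).1
  ext i j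
  fin_cases i <;> fin_cases j <;> simp [phi, phiM, TfM, lSL]

theorem phi_tSL (c0 : K) (hc0 : c0 ≠ 0) (t : K) : phi c0 hc0 (tSL t) = TeM (t / c0) := by
  apply Subtype.ext
  change phiM c0 (tSL t).1 = (TeM (t / c0)).1
  ext i j
  fin_cases i <;> fin_cases j <;> simp [phi, phiM, TeM, tSL]

theorem phi'_lSL (c0 : K) (hc0 : c0 ≠ 0) (s : K) : phi' c0 hc0 (lSL s) = TeM (s * c0) := by
  apply Subtype.ext
  change phiM' c0 (lSL s).1 = (TeM (s * c0)).1
  ext i j
  fin_cases i <;> fin_cases j <;> simp [phi', phiM', TeM, lSL]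

theorem phi'_tSL (c0 : K) (hc0 : c0 ≠ 0) (t : K) : phi' c0 hc0 (tSL t) = TfM (t / c0) := by
  apply Subtype.ext
  change phiM' c0 (tSL t).1 = (TfM (t / c0)).1
  ext i j
  fin_cases i <;> fin_cases j <;> simp [phi', phiM', TfM, tSL]

theorem lSL_mul' (s t : K) : lSL s * lSL t = lSL (s + t) := by
  apply Subtype.ext
  change (lSL s).1 * (lSL t).1 = (lSL (s + t)).1
  change (!![1, 0; s, 1] : Matrix (Fin 2) (Fin 2) K) * !![1, 0; t, 1] = !![1, 0; s + t, 1]
  rw [Matrix.mul_fin_two]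
  ext i j
  fin_cases i <;> fin_cases j <;> simp [add_comm]

theorem lSL_natCast (n : ℕ) : lSL ((n : K)) = (lSL (1 : K)) ^ n := by
  induction n with
  | zero =>
    rw [pow_zero]
    apply Subtype.ext
    ext i j
    fin_cases i <;> fin_cases j <;> simp [lSL]
  | succ n ih =>
    rw [pow_succ, ← ih, lSL_mul']
    push_cast
    rfl


section Main

variable [Fintype K]

theorem ringChar_ne_two' (h2 : (2 : K) ≠ 0) : ringChar K ≠ 2 := by
  intro h
  apply h2
  have := (ringChar.spec K 2).mpr (by rw [h])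
  simpa using this

/-- arithmetic facts about `q` from `|K| = q²`, `2 ≠ 0` -/
theorem q_facts (q : ℕ) (hK : Fintype.card K = q ^ 2) (h2 : (2 : K) ≠ 0) :
    q % 2 = 1 ∧ 3 ≤ q := by
  have hodd : Fintype.card K % 2 = 1 := FiniteField.odd_card_of_char_ne_two (ringChar_ne_two' h2)
  rw [hK] at hodd
  have hq : q % 2 = 1 := by
    rcases Nat.mod_two_eq_zero_or_one q with h | h
    · exfalso
      have : q ^ 2 % 2 = 0 := by
        rw [pow_two, Nat.mul_mod, h]
      omega
    · exact h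
  have h1 : 1 < Fintype.card K := Fintype.one_lt_card
  rw [hK] at h1
  have hq1 : q ≠ 1 := by
    rintro rfl
    simp at h1
  have hq0 : q ≠ 0 := by
    rintro rfl
    simp at h1
  exact ⟨hq, by omega⟩

/-- a generator of `Kˣ` together with its order -/
theorem exists_gen (q : ℕ) (hK : Fintype.card K = q ^ 2) :
    ∃ ρ : Kˣ, orderOf ρ = q ^ 2 - 1 ∧ ∀ x : Kˣ, ∃ k : ℕ, ρ ^ k = x := by
  classical
  obtain ⟨ρ, hρ⟩ := IsCyclic.exists_monoid_generator (α := Kˣ)
  refine ⟨ρ, ?_, fun x => (Submonoid.mem_powers_iff _ _).mp (hρ x)⟩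
  have h1 : orderOf ρ = Nat.card Kˣ := by
    apply orderOf_eq_card_of_forall_mem_zpowers
    intro x
    obtain ⟨k, hk⟩ := (Submonoid.mem_powers_iff _ _).mp (hρ x)
    exact Subgroup.mem_zpowers_iff.mpr ⟨k, by simpa using hk⟩
  rw [h1, Nat.card_eq_fintype_card, Fintype.card_units, hK]


theorem sq_sub_one (q : ℕ) (hq : 1 ≤ q) : q ^ 2 - 1 = (q + 1) * (q - 1) := by
  obtain ⟨t, rfl⟩ : ∃ t, q = t + 1 := ⟨q - 1, by omega⟩
  simp only [Nat.add_sub_cancel]
  have : (t + 1) ^ 2 = (t + 1 + 1) * t + 1 := by ring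
  omega

/-- **The Dickson start**: a skew `c₀ ≠ 0` such that `T_e(c₀)`, `T_f(c₀)` generate (at least) both
full root groups of the chord `⟨e, f⟩`. -/
theorem full_root_groups (q : ℕ) (hK : Fintype.card K = q ^ 2) (h2 : (2 : K) ≠ 0) :
    ∃ c0 : K, c0 ≠ 0 ∧ c0 ^ q = -c0 ∧
      ∀ X : Subgroup (SpecialLinearGroup (Fin 3) K), TeM c0 ∈ X → TfM c0 ∈ X →
        ∀ c : K, c ^ q = -c → TeM c ∈ X ∧ TfM c ∈ X := by
  classical
  obtain ⟨hq2, hq3⟩ := q_facts q hK h2
  obtain ⟨ρ, hord, hgen⟩ := exists_gen q hK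
  obtain ⟨m, hm⟩ : ∃ m, q + 1 = 2 * m := ⟨(q + 1) / 2, by omega⟩
  have hq21 := sq_sub_one q (by omega)
  have hρpow : ∀ k : ℕ, ((ρ ^ k : Kˣ) : K) = (ρ : K) ^ k := fun k => Units.val_pow_eq_pow_val ρ k
  have hρone : ∀ k : ℕ, (ρ : K) ^ k = 1 → q ^ 2 - 1 ∣ k := by
    intro k hk
    rw [← hord]
    apply orderOf_dvd_of_pow_eq_one
    apply Units.ext
    rw [hρpow, hk]; rfl
  have hρord : (ρ : K) ^ (q ^ 2 - 1) = 1 := by
    rw [← hρpow, ← hord, pow_orderOf_eq_one]; rfl
  -- `c₀`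
  obtain ⟨c0, hc0def⟩ : ∃ c0 : K, c0 = (ρ : K) ^ m := ⟨_, rfl⟩
  have hc0 : c0 ≠ 0 := by rw [hc0def]; exact pow_ne_zero _ ρ.ne_zero
  have hmq : m * (q - 1) * 2 = q ^ 2 - 1 := by
    rw [hq21, hm]; ring
  have hr : (ρ : K) ^ (m * (q - 1)) = -1 := by
    have hsq : (ρ : K) ^ (m * (q - 1)) * (ρ : K) ^ (m * (q - 1)) = 1 := by
      rw [← pow_add, ← two_mul, mul_comm 2, hmq, hρord]
    rcases mul_self_eq_one_iff.mp hsq with h | h
    · exfalso
      have hd := hρone _ h
      have hpos : 0 < m * (q - 1) := by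
        apply Nat.mul_pos <;> omega
      have := Nat.le_of_dvd hpos hd
      omega
    · exact h
  have hskew : c0 ^ q = -c0 := by
    have : c0 ^ q = c0 ^ (q - 1) * c0 := by
      rw [← pow_succ]; congr 1; omega
    rw [this, hc0def, ← pow_mul, hr]; ring
  -- `ζ = c₀²` generates the fixed field
  obtain ⟨ζ, hζ⟩ : ∃ ζ : K, ζ = c0 ^ 2 := ⟨_, rfl⟩
  have hζρ : ζ = (ρ : K) ^ (q + 1) := by rw [hζ, hc0def, ← pow_mul, hm, mul_comm]
  have hζ0 : ζ ≠ 0 := by rw [hζ]; exact pow_ne_zero _ hc0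
  have hfix : ∀ c : K, c ^ q = c → c = 0 ∨ ∃ j : ℕ, c = ζ ^ j := by
    intro c hc
    by_cases h0 : c = 0
    · left; exact h0
    right
    obtain ⟨k, hk⟩ := hgen (Units.mk0 c h0)
    have hck : c = (ρ : K) ^ k := by
      have := congrArg Units.val hk
      rw [hρpow, Units.val_mk0] at this
      exact this.symm
    have h1 : c ^ (q - 1) = 1 := by
      have : c ^ (q - 1) * c = 1 * c := by
        rw [← pow_succ, show q - 1 + 1 = q by omega, one_mul]; exact hc
      exact mul_right_cancel₀ h0 this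
    have hdvd : q ^ 2 - 1 ∣ k * (q - 1) := by
      apply hρone
      rw [pow_mul, ← hck, h1]
    rw [hq21] at hdvd
    have hdvd' : q + 1 ∣ k := Nat.dvd_of_mul_dvd_mul_right (by omega : 0 < q - 1) hdvd
    obtain ⟨j, hj⟩ := hdvd'
    exact ⟨j, by rw [hck, hj, hζρ, pow_mul]⟩
  -- Dickson
  have hH : ∀ c : K, c ^ q = c →
      lSL c ∈ Subgroup.closure ({lSL 1, tSL ζ} : Set (SpecialLinearGroup (Fin 2) K)) := by
    intro c hc
    rcases Cfsg.Agent.Lib.Helper9.Om7SLeaf.k1b_dickson h2 hζ0 with hD | ⟨hsq, -⟩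
    · apply hD
      rcases hfix c hc with rfl | ⟨j, rfl⟩
      · exact (Subfield.closure ({ζ} : Set K)).zero_mem
      · exact (Subfield.closure ({ζ} : Set K)).pow_mem
          (Subfield.subset_closure (Set.mem_singleton ζ)) j
    · -- `ζ² = -1` forces `q = 5`, a prime field
      have h4 : (ρ : K) ^ ((q + 1) * 4) = 1 := by
        rw [pow_mul, ← hζρ, show (4 : ℕ) = 2 * 2 by norm_num, pow_mul, hsq]; norm_num
      have hd := hρone _ h4
      rw [hq21] at hd
      have hd' : q - 1 ∣ 4 := Nat.dvd_of_mul_dvd_mul_left (by omega : 0 < q + 1) hd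
      have hle : q - 1 ≤ 4 := Nat.le_of_dvd (by norm_num) hd'
      have hq5 : q = 5 := by
        have hq35 : q = 3 ∨ q = 5 := by omega
        rcases hq35 with h | h
        · exfalso
          subst h
          have : ζ ^ 2 = 1 := by
            rw [hζρ, ← pow_mul]; exact hρord
          rw [hsq] at this
          apply h2
          linear_combination (-1 : K) * this
        · exact h
      subst hq5
      have h5 : (5 : K) = 0 := by
        have := FiniteField.cast_card_eq_zero K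
        rw [hK] at this
        have h25 : (5 : K) * 5 = 0 := by
          have : ((5 ^ 2 : ℕ) : K) = 0 := this
          push_cast at this
          linear_combination this
        rcases mul_self_eq_zero.mp h25 with h
        exact h
      have hζ23 : ζ = ((2 : ℕ) : K) ∨ ζ = ((3 : ℕ) : K) := by
        have : (ζ - 2) * (ζ - 3) = 0 := by
          linear_combination hsq + (1 - ζ) * h5
        rcases mul_eq_zero.mp this with h | h
        · left; push_cast; linear_combination h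
        · right; push_cast; linear_combination h
      have hnat : ∃ n : ℕ, c = (n : K) := by
        rcases hfix c hc with rfl | ⟨j, rfl⟩
        · exact ⟨0, by simp⟩
        · rcases hζ23 with h | h
          · exact ⟨2 ^ j, by rw [h]; push_cast; rfl⟩
          · exact ⟨3 ^ j, by rw [h]; push_cast; rfl⟩
      obtain ⟨n, rfl⟩ := hnat
      rw [lSL_natCast]
      exact pow_mem (Subgroup.subset_closure (Set.mem_insert _ _)) n
  refine ⟨c0, hc0, hskew, ?_⟩
  intro X hXe hXf c hc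
  have hc' : (c / c0) ^ q = c / c0 := by
    rw [div_pow, hc, hskew, neg_div_neg_eq]
  have hmem := hH (c / c0) hc'
  have hζc0 : ζ / c0 = c0 := by
    rw [hζ, pow_two, mul_div_assoc, div_self hc0, mul_one]
  constructor
  · have hle : (Subgroup.closure ({lSL 1, tSL ζ} : Set (SpecialLinearGroup (Fin 2) K))).map
        (phi' c0 hc0) ≤ X := by
      rw [MonoidHom.map_closure, Subgroup.closure_le]
      rintro _ ⟨g, hg, rfl⟩
      rcases hg with rfl | hg
      · change phi' c0 hc0 (lSL 1) ∈ X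
        rw [phi'_lSL, one_mul]; exact hXe
      · rw [Set.mem_singleton_iff] at hg
        subst hg
        change phi' c0 hc0 (tSL ζ) ∈ X
        rw [phi'_tSL, hζc0]; exact hXf
    have := hle (Subgroup.mem_map_of_mem _ hmem)
    rw [phi'_lSL, div_mul_cancel₀ _ hc0] at this
    exact this
  · have hle : (Subgroup.closure ({lSL 1, tSL ζ} : Set (SpecialLinearGroup (Fin 2) K))).map
        (phi c0 hc0) ≤ X := by
      rw [MonoidHom.map_closure, Subgroup.closure_le]
      rintro _ ⟨g, hg, rfl⟩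
      rcases hg with rfl | hg
      · change phi c0 hc0 (lSL 1) ∈ X
        rw [phi_lSL, one_mul]; exact hXf
      · rw [Set.mem_singleton_iff] at hg
        subst hg
        change phi c0 hc0 (tSL ζ) ∈ X
        rw [phi_tSL, hζc0]; exact hXe
    have := hle (Subgroup.mem_map_of_mem _ hmem)
    rw [phi_lSL, div_mul_cancel₀ _ hc0] at this
    exact this

end Main

end Cfsg.Agent.Lib.Helper2.SU3Odd
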