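import Mathlib
import Cfsg.Agent.Lib.Helper2.SU3OddDickson
import Cfsg.Agent.Lib.Helper4.SU3End
import Cfsg.Agent.Lib.Helper8.SUField
import Cfsg.Agent.Lib.Helper16.FusSUM
import Cfsg.Agent.Lib.Helper23.SUBridge2

set_option autoImplicit false

/-!
# S2282, n = 3, q odd: the core in the antidiagonal model `UJ σ 3`

Basis `(e, d, f)`, `h(e,f) = h(d,d) = 1`.  `x(a,c) : e ↦ e, d ↦ d + a e, f ↦ f - σ a d + c e`
(`c + σ c + a σ a = 0`), `J : e ↔ f, d ↦ -d`.  With `u = x(a,1)`, `a σ a = -2`, `w = J u J⁻¹` one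
has `(u w) e = f`; the third conjugate `x(τ a, -τ²) u x(τ a, -τ²)⁻¹ = T_e(4 τ) u` (`σ τ = -τ`).
So `T_e(c₀), T_f(c₀) ∈ X`, the Dickson start gives both full root groups of `⟨e,f⟩`, and
helper4's endgame (with the two points `f` and `u f`) gives every isotropic vector.
-/

namespace Cfsg.Agent.Lib.Helper2.SU3OddC

open Matrix Cfsg.Agent.Lib.Helper16.FusSU Cfsg.Agent.Lib.Helper4.SU3
open Cfsg.Agent.Lib.Helper2.SU3Odd

variable {K : Type*} [Field K]

/-- `x(a,c)` in the basis `(e, d, f)` -/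
def xU (σ : K →+* K) (a c : K) : SpecialLinearGroup (Fin 3) K :=
  ⟨!![1, a, c; 0, 1, -σ a; 0, 0, 1], by simp [det_fin_three]⟩

/-- `J : e ↔ f, d ↦ -d` -/
def Jm : SpecialLinearGroup (Fin 3) K :=
  ⟨!![0, 0, 1; 0, -1, 0; 1, 0, 0], by simp [det_fin_three]⟩

theorem sl_ext {A B : SpecialLinearGroup (Fin 3) K}
    (h : (A : Matrix (Fin 3) (Fin 3) K) = (B : Matrix (Fin 3) (Fin 3) K)) : A = B :=
  Subtype.ext h

theorem rev0 : (0 : Fin 3).rev = 2 := rfl
theorem rev1 : (1 : Fin 3).rev = 1 := rfl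
theorem rev2 : (2 : Fin 3).rev = 0 := rfl

theorem xU_mem {σ : K →+* K} (hσ : ∀ x, σ (σ x) = x) (a c : K) (h : c + σ c + a * σ a = 0) :
    xU σ a c ∈ UJ σ 3 := by
  rw [mem_UJ]
  ext i j
  fin_cases i <;> fin_cases j <;>
    simp [xU, Matrix.mul_apply, Fin.sum_univ_three, adj_apply, rev1, rev2, hσ]
  linear_combination h

theorem Jm_mem (σ : K →+* K) : (Jm : SpecialLinearGroup (Fin 3) K) ∈ UJ σ 3 := by
  rw [mem_UJ]
  ext i j
  fin_cases i <;> fin_cases j <;>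
    simp [Jm, Matrix.mul_apply, Fin.sum_univ_three, adj_apply, rev1, rev2]

theorem Jm_inv : (Jm : SpecialLinearGroup (Fin 3) K)⁻¹ = Jm := by
  apply inv_eq_of_mul_eq_one_right
  apply sl_ext
  rw [Matrix.SpecialLinearGroup.coe_mul]
  ext i j
  fin_cases i <;> fin_cases j <;> simp [Jm, Matrix.mul_apply, Fin.sum_univ_three]

/-- the commutator formula in `U`, without inverses -/
theorem xU_comm (σ : K →+* K) (a c a' c' : K) :
    xU σ a' c' * xU σ a c = TeM (a * σ a' - a' * σ a) * (xU σ a c * xU σ a' c') := by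
  apply sl_ext
  rw [Matrix.SpecialLinearGroup.coe_mul, Matrix.SpecialLinearGroup.coe_mul,
    Matrix.SpecialLinearGroup.coe_mul]
  ext i j
  fin_cases i <;> fin_cases j <;>
    simp [xU, TeM, Matrix.mul_apply, Fin.sum_univ_three] <;> ring

/-- `θ = u w` maps `e` to `f`, hence conjugates `T_e(c)` to `T_f(c)` -/
theorem uw_Te (σ : K →+* K) (a : K) (ha : a * σ a = -2) (c : K) :
    (xU σ a 1 * (Jm * xU σ a 1 * Jm)) * TeM c = TfM c * (xU σ a 1 * (Jm * xU σ a 1 * Jm)) := by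
  apply sl_ext
  simp only [Matrix.SpecialLinearGroup.coe_mul]
  ext i j
  fin_cases i <;> fin_cases j <;>
    simp [xU, Jm, TeM, TfM, Matrix.mul_apply, Fin.sum_univ_three] <;> grind

theorem TJm_apply (σ : K →+* K) (v : Fin 3 → K) (c : K) (i j : Fin 3) :
    TJm σ v c i j = (1 : Matrix (Fin 3) (Fin 3) K) i j + c * (v i * σ (v j.rev)) := by
  unfold TJm
  rw [Matrix.add_apply, Matrix.smul_apply, vecMulVec_apply, sh_apply, smul_eq_mul]

theorem TeM_eq_TJm (σ : K →+* K) (c : K) :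
    ((TeM c : SpecialLinearGroup (Fin 3) K) : Matrix (Fin 3) (Fin 3) K) =
      TJm σ (eV : Fin 3 → K) c := by
  ext i j
  rw [TJm_apply]
  fin_cases i <;> fin_cases j <;> simp [TeM, eV, rev1, rev2]

theorem TfM_eq_TJm (σ : K →+* K) (c : K) :
    ((TfM c : SpecialLinearGroup (Fin 3) K) : Matrix (Fin 3) (Fin 3) K) =
      TJm σ (Pt σ 0 0) c := by
  ext i j
  rw [TJm_apply]
  fin_cases i <;> fin_cases j <;> simp [TfM, Pt, rev1, rev2]

theorem xU_mulVec_f (σ : K →+* K) (a c : K) :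
    ((xU σ a c : SpecialLinearGroup (Fin 3) K) : Matrix (Fin 3) (Fin 3) K) *ᵥ Pt σ 0 0 =
      Pt σ (-a) c := by
  ext i
  fin_cases i <;> simp [xU, Pt, Matrix.mulVec, dotProduct, Fin.sum_univ_three]

/-- `u = x(a,1)` is regular unipotent -/
theorem xU_reg (σ : K →+* K) (h2 : (2 : K) ≠ 0) (a : K) (ha : a * σ a = -2) :
    IsNilpotent (((xU σ a 1 : SpecialLinearGroup (Fin 3) K) : Matrix (Fin 3) (Fin 3) K) - 1) ∧
      (((xU σ a 1 : SpecialLinearGroup (Fin 3) K) : Matrix (Fin 3) (Fin 3) K) - 1) ^ (3 - 1) ≠ 0 := by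
  have hN : ((xU σ a 1 : SpecialLinearGroup (Fin 3) K) : Matrix (Fin 3) (Fin 3) K) - 1 =
      !![0, a, 1; 0, 0, -σ a; 0, 0, 0] := by
    ext i j
    fin_cases i <;> fin_cases j <;> simp [xU]
  have hsq : (!![0, a, 1; 0, 0, -σ a; 0, 0, 0] : Matrix (Fin 3) (Fin 3) K) ^ 2 =
      !![0, 0, 2; 0, 0, 0; 0, 0, 0] := by
    rw [pow_two]
    ext i j
    fin_cases i <;> fin_cases j <;> simp [Matrix.mul_apply, Fin.sum_univ_three]
    linear_combination -ha
  rw [hN]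
  refine ⟨⟨3, ?_⟩, ?_⟩
  · rw [pow_succ, hsq]
    ext i j
    fin_cases i <;> fin_cases j <;> simp [Matrix.mul_apply, Fin.sum_univ_three]
  · show (!![0, a, 1; 0, 0, -σ a; 0, 0, 0] : Matrix (Fin 3) (Fin 3) K) ^ 2 ≠ 0
    rw [hsq]
    intro h
    have := congrFun (congrFun h 0) 2
    simp at this
    exact h2 this

section main

variable {σ : K →+* K}

/-- **the odd core in `SL₃`**: the three conjugates put every isotropic vector in `Rt X` -/
theorem all_Rt (hσ : ∀ x, σ (σ x) = x) (h2 : (2 : K) ≠ 0) (a c0 : K) (ha : a * σ a = -2)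
    (hc0 : σ c0 = -c0) (hc00 : c0 ≠ 0)
    (hfull : ∀ X : Subgroup (SpecialLinearGroup (Fin 3) K), TeM c0 ∈ X → TfM c0 ∈ X →
        ∀ c : K, σ c = -c → TeM c ∈ X ∧ TfM c ∈ X)
    (v : Fin 3 → K) (hv : hJ σ v v = 0) :
    v ∈ Rt (σ := σ) (Subgroup.closure ({xU σ a 1, Jm * xU σ a 1 * Jm⁻¹,
      xU σ (c0 / 4 * a) (-(c0 / 4) ^ 2) * xU σ a 1 * (xU σ (c0 / 4 * a) (-(c0 / 4) ^ 2))⁻¹} :
      Set (SpecialLinearGroup (Fin 3) K))) := by
  have h4 : (4 : K) ≠ 0 := by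
    have : (4 : K) = 2 * 2 := by norm_num
    rw [this]
    exact mul_ne_zero h2 h2
  set τ : K := c0 / 4 with hτd
  have hτ : σ τ = -τ := by
    rw [hτd, map_div₀, hc0, map_ofNat, neg_div]
  set u := xU σ a 1 with hu_def
  set h := xU σ (τ * a) (-τ ^ 2) with hh_def
  set X := Subgroup.closure ({u, Jm * u * Jm⁻¹, h * u * h⁻¹} :
    Set (SpecialLinearGroup (Fin 3) K)) with hXd
  have hu : u ∈ X := Subgroup.subset_closure (by simp)
  have hw : Jm * u * Jm⁻¹ ∈ X := Subgroup.subset_closure (by simp)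
  have h3 : h * u * h⁻¹ ∈ X := Subgroup.subset_closure (by simp)
  have huU : u ∈ UJ σ 3 := by
    apply xU_mem hσ
    rw [map_one]
    linear_combination ha
  have hhU : h ∈ UJ σ 3 := by
    apply xU_mem hσ
    rw [map_neg, map_pow, map_mul, hτ]
    linear_combination (-τ ^ 2) * ha
  have hJU : (Jm : SpecialLinearGroup (Fin 3) K) ∈ UJ σ 3 := Jm_mem σ
  have hX : X ≤ UJ σ 3 := by
    rw [hXd, Subgroup.closure_le]
    rintro x (rfl | rfl | rfl)
    · exact huU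
    · exact (UJ σ 3).mul_mem ((UJ σ 3).mul_mem hJU huU) ((UJ σ 3).inv_mem hJU)
    · exact (UJ σ 3).mul_mem ((UJ σ 3).mul_mem hhU huU) ((UJ σ 3).inv_mem hhU)
  -- `T_e(c₀) ∈ X`
  have hζ : a * σ (τ * a) - τ * a * σ a = c0 := by
    have h4τ : 4 * τ = c0 := by
      rw [hτd]
      field_simp
    rw [map_mul, hτ]
    linear_combination (-2 * τ) * ha + h4τ
  have hTe : TeM c0 ∈ X := by
    have e1 : h * u = TeM c0 * (u * h) := by
      rw [hh_def, hu_def, xU_comm, hζ]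
    have e2 : TeM c0 = h * u * h⁻¹ * u⁻¹ := by
      rw [e1]; group
    rw [e2]
    exact X.mul_mem h3 (X.inv_mem hu)
  -- `T_f(c₀) ∈ X`
  rw [Jm_inv] at hw
  have hTf : TfM c0 ∈ X := by
    have e1 := uw_Te σ a ha c0
    have e2 : TfM c0 = (u * (Jm * u * Jm)) * TeM c0 * (u * (Jm * u * Jm))⁻¹ := by
      rw [hu_def, e1]; group
    rw [e2]
    exact X.mul_mem (X.mul_mem (X.mul_mem hu hw) hTe) (X.inv_mem (X.mul_mem hu hw))
  have full := hfull X hTe hTf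
  have he : (eV : Fin 3 → K) ∈ Rt (σ := σ) X := by
    refine ⟨?_, fun c hc => ⟨TeM c, (full c hc).1, TeM_eq_TJm σ c⟩⟩
    rw [hJ_three]
    simp [eV]
  have hf : Pt σ 0 0 ∈ Rt (σ := σ) X := by
    refine ⟨?_, fun c hc => ⟨TfM c, (full c hc).2, TfM_eq_TJm σ c⟩⟩
    rw [hJ_Pt_Pt _ _ _ _ hσ]
    simp
  have huf : Pt σ (-a) 1 ∈ Rt (σ := σ) X := by
    have := Rt_ap hX hu hf
    rwa [hu_def, xU_mulVec_f] at this
  have hne : ∃ z, σ z ≠ z := by
    refine ⟨c0, ?_⟩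
    rw [hc0]
    intro h
    have : 2 * c0 = 0 := by linear_combination -h
    rcases mul_eq_zero.1 this with h' | h'
    · exact h2 h'
    · exact hc00 h'
  have ha0 : (0 : K) ≠ -a := by
    intro h
    have : a = 0 := by linear_combination h
    rw [this, zero_mul] at ha
    exact h2 (by linear_combination ha)
  exact endgame3 hσ hX hne he hf huf ha0 v hv

end main

section final

open Cfsg.Agent.Lib.Helper5.HermBridge (frobHom)

variable [Fintype K]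

/-- **S2282, `n = 3`, `q` odd**: three conjugate regular unipotent generators of
`UJ (frobHom hK) 3` (the hypothesis shape of helper23's `SUBridge.frozen_of_UJ`). -/
theorem core3_odd (q : ℕ) (hK : Fintype.card K = q ^ 2) (h2 : (2 : K) ≠ 0) :
    ∃ u g h : ↥(UJ (frobHom hK) 3),
      (IsNilpotent (((u : SpecialLinearGroup (Fin 3) K) : Matrix (Fin 3) (Fin 3) K) - 1) ∧
        (((u : SpecialLinearGroup (Fin 3) K) : Matrix (Fin 3) (Fin 3) K) - 1) ^ (3 - 1) ≠ 0) ∧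
      Subgroup.closure ({u, g * u * g⁻¹, h * u * h⁻¹} : Set ↥(UJ (frobHom hK) 3)) = ⊤ := by
  have hσ : ∀ x, frobHom hK (frobHom hK x) = x := frob_invol hK
  obtain ⟨c0, hc00, hc0, hfull⟩ := full_root_groups q hK h2
  have hm2 : (-2 : K) ^ q = -2 := by
    rw [Cfsg.Agent.Lib.Helper8.SUField.neg_pow_q hK, Cfsg.Agent.Lib.Helper8.SUField.two_pow_q hK]
  obtain ⟨a, ha⟩ := Cfsg.Agent.Lib.Helper8.SUField.exists_norm_eq_fixed hK (-2) hm2
  have ha' : a * frobHom hK a = -2 := ha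
  have hc0' : frobHom hK c0 = -c0 := hc0
  have h4 : (4 : K) ≠ 0 := by
    have : (4 : K) = 2 * 2 := by norm_num
    rw [this]
    exact mul_ne_zero h2 h2
  have hτ : frobHom hK (c0 / 4) = -(c0 / 4) := by
    rw [map_div₀, hc0', map_ofNat, neg_div]
  have huU : xU (frobHom hK) a 1 ∈ UJ (frobHom hK) 3 := by
    apply xU_mem hσ
    rw [map_one]
    linear_combination ha'
  have hhU : xU (frobHom hK) (c0 / 4 * a) (-(c0 / 4) ^ 2) ∈ UJ (frobHom hK) 3 := by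
    apply xU_mem hσ
    rw [map_neg, map_pow, map_mul, hτ]
    linear_combination (-(c0 / 4) ^ 2) * ha'
  have h32 : ¬ (3 = 3 ∧ q = 2) := by
    rintro ⟨-, rfl⟩
    exact h2 (Cfsg.Agent.Lib.Helper8.SUField.two_eq_zero_of_q_even hK ⟨1, rfl⟩)
  refine ⟨⟨_, huU⟩, ⟨Jm, Jm_mem _⟩, ⟨_, hhU⟩, xU_reg _ h2 a ha', ?_⟩
  apply Cfsg.Agent.Lib.Helper23.SUBridge.closure_eq_top_of_Rt_all hK le_rfl h32
  intro v hv
  rw [MonoidHom.map_closure]
  have himg : (⇑(UJ (frobHom hK) 3).subtype '' ({⟨_, huU⟩, ⟨Jm, Jm_mem _⟩ * ⟨_, huU⟩ *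
      (⟨Jm, Jm_mem _⟩ : ↥(UJ (frobHom hK) 3))⁻¹, ⟨_, hhU⟩ * ⟨_, huU⟩ *
      (⟨_, hhU⟩ : ↥(UJ (frobHom hK) 3))⁻¹} : Set ↥(UJ (frobHom hK) 3))) =
      ({xU (frobHom hK) a 1, Jm * xU (frobHom hK) a 1 * Jm⁻¹,
        xU (frobHom hK) (c0 / 4 * a) (-(c0 / 4) ^ 2) * xU (frobHom hK) a 1 *
          (xU (frobHom hK) (c0 / 4 * a) (-(c0 / 4) ^ 2))⁻¹} :
        Set (SpecialLinearGroup (Fin 3) K)) := by
    rw [Set.image_insert_eq, Set.image_insert_eq, Set.image_singleton]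
    rfl
  rw [himg]
  exact all_Rt hσ h2 a c0 ha' hc0' hc00 (fun X h1 h2' c hc => hfull X h1 h2' c hc) v hv

end final

end Cfsg.Agent.Lib.Helper2.SU3OddC
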