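import Mathlib
import Cfsg.Prelude.Def_LieClassical
import Cfsg.Agent.Lib.Helper4.SU6FDefs
import Cfsg.Agent.Lib.Helper27.AschKF3
import Cfsg.Agent.Lib.Helper1.AFAdj
import Cfsg.Agent.Lib.Helper1.SU6FHyp

/-!
# SUnMax sub-market SU6F (planner helper4), leaf (F6) `form_rational` + `form_alternating` (taker helper2)

On `V₀ = E₀ u + E₀ w` the standard hermitian form of `F_4^6` takes values in `F_2` and is alternating.
On helper1's `coords` (F4) and toolkit (`Cfsg.Agent.Lib.Helper1.SU6FHForm`, `SU6FHyp`).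
-/

set_option autoImplicit false
set_option linter.unusedSectionVars false
set_option linter.unusedVariables false

namespace Cfsg.Agent.Lib.Helper2.SU6FLeaf
open Matrix Cfsg.Agent.Lib.Helper4.SU6F

universe u
variable {F : Type u} [Field F] [Fintype F]

variable {E : Type*} [Field E] [Algebra F E] {ρ : E →ₐ[F] Matrix (Fin 6) (Fin 6) F}
  {h : (Fin 6 → F) → (Fin 6 → F) → E} {u w : Fin 6 → F}

/-- `h v v'` in the coordinates of `v'` -/
theorem h_coords (hc : FCtx ρ) (hh : HForm ρ h) (hy : Hyp h u w) (v v' : Fin 6 → F) :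
    h v v' = h v' w ^ 8 * h v u + h v' u ^ 8 * h v w := by
  conv_lhs => rw [Cfsg.Agent.Lib.Helper1.SU6FLeaf.coords hc hh hy v']
  rw [Cfsg.Agent.Lib.Helper1.SU6FLeaf.hh_add_right hc hh, Cfsg.Agent.Lib.Helper1.SU6FLeaf.hh_smul_right hh,
    Cfsg.Agent.Lib.Helper1.SU6FLeaf.hh_smul_right hh]

/-- the form is the trace of `h` -/
theorem form_eq_trace (hh : HForm ρ h) (v v' : Fin 6 → F) :
    Cfsg.hermForm 6 F 2 v v' = Algebra.trace F E (h v v') := by
  have := hh.tr 1 v v'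
  rwa [map_one, Matrix.one_mulVec, one_mul] at this

/-- (F6) `f` IS `F_2`-VALUED ON `V₀` -/
theorem form_rational (hc : FCtx ρ) (hh : HForm ρ h) (hy : Hyp h u w) (v v' : Fin 6 → F)
    (hv : V0 h u w v) (hv' : V0 h u w v') :
    Cfsg.hermForm 6 F 2 v v' ^ 2 = Cfsg.hermForm 6 F 2 v v' := by
  have hcF := hc.cardF
  have hcE := hc.cardE
  have he : h v v' ^ 8 = h v v' := by
    rw [h_coords hc hh hy v v', hv'.1, hv'.2, Cfsg.Agent.Lib.Helper1.SU6FLeaf.add_pow8_E hcF, mul_pow, mul_pow,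
      hv'.1, hv'.2, hv.1, hv.2]
  rw [form_eq_trace hh, Cfsg.Agent.Lib.Helper1.SU6FLeaf.trace_sq hcF hcE]
  apply (algebraMap F E).injective
  rw [Cfsg.Agent.Lib.Helper1.SU6FLeaf.algebraMap_trace hcF hcE, Cfsg.Agent.Lib.Helper1.SU6FLeaf.algebraMap_trace hcF hcE]
  have e16 : h v v' ^ 16 = h v v' ^ 2 := by
    calc h v v' ^ 16 = (h v v' ^ 8) ^ 2 := by rw [← pow_mul]
      _ = h v v' ^ 2 := by rw [he]
  have e2_4 : (h v v' ^ 2) ^ 4 = h v v' := by
    rw [← pow_mul]; exact he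
  have e2_16 : (h v v' ^ 2) ^ 16 = h v v' ^ 4 := by
    calc (h v v' ^ 2) ^ 16 = (h v v' ^ 8) ^ 4 := by rw [← pow_mul, ← pow_mul]
      _ = h v v' ^ 4 := by rw [he]
  rw [e2_4, e2_16, e16]
  ring

/-- (F6) `f` IS ALTERNATING ON `V₀` -/
theorem form_alternating (hc : FCtx ρ) (hh : HForm ρ h) (hy : Hyp h u w) (v : Fin 6 → F)
    (hv : V0 h u w v) : Cfsg.hermForm 6 F 2 v v = 0 := by
  have hcF := hc.cardF
  have h0 : h v v = 0 := by
    rw [h_coords hc hh hy v v, hv.1, hv.2, mul_comm (h v u) (h v w), ← two_mul,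
      Cfsg.Agent.Lib.Helper1.SU6FLeaf.two_eq_zero_E hcF, zero_mul]
  rw [form_eq_trace hh, h0, map_zero]

end Cfsg.Agent.Lib.Helper2.SU6FLeaf
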