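/-
helper2: Hopf-level transfer for Schur multipliers, part A.
For `R ⊴ F`, `K = range ι` of finite index containing `R`:
`res : (R ∩ F')/[F,R] → (R₀ ∩ K₀')/[K₀,R₀]` and `cor` the other way, with `cor ∘ res = (·)^|F:K|`.
-/
import Mathlib

set_option autoImplicit false

namespace Cfsg.Agent.Lib.Helper2.SchurSylow

open Subgroup
open scoped commutatorElement

section Gen

variable {X : Type*} [Group X] (N : Subgroup X) [N.Normal]

/-- `[X, N]` -/
abbrev cXN : Subgroup X := ⁅(⊤ : Subgroup X), N⁆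

theorem cXN_le : cXN N ≤ N := Subgroup.commutator_le_right _ _

/-- image of `N` in `X/[X,N]` -/
def ZZ : Subgroup (X ⧸ cXN N) := N.map (QuotientGroup.mk' (cXN N))

/-- `(N ∩ X')/[X,N]` -/
def MM : Subgroup (X ⧸ cXN N) := ZZ N ⊓ commutator (X ⧸ cXN N)

theorem mk_mem_ZZ {n : X} (hn : n ∈ N) : (QuotientGroup.mk n : X ⧸ cXN N) ∈ ZZ N :=
  ⟨n, hn, rfl⟩

theorem ZZ_le_center : ZZ N ≤ center (X ⧸ cXN N) := by
  rintro _ ⟨n, hn, rfl⟩
  rw [mem_center_iff]
  intro y
  obtain ⟨x, rfl⟩ := QuotientGroup.mk_surjective y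
  show (QuotientGroup.mk x : X ⧸ cXN N) * QuotientGroup.mk n = QuotientGroup.mk n * QuotientGroup.mk x
  rw [← QuotientGroup.mk_mul, ← QuotientGroup.mk_mul, QuotientGroup.eq]
  have h := Subgroup.commutator_mem_commutator (inv_mem hn) (mem_top x⁻¹)
  rw [Subgroup.commutator_comm] at h
  have e : (x * n)⁻¹ * (n * x) = ⁅n⁻¹, x⁻¹⁆ := by
    rw [commutatorElement_def]; group
  rw [e]; exact h

theorem mk_conj_eq {n : X} (hn : n ∈ N) (f : X) :
    (QuotientGroup.mk (f⁻¹ * n * f) : X ⧸ cXN N) = QuotientGroup.mk n := by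
  have hc := ZZ_le_center N (mk_mem_ZZ N hn)
  rw [mem_center_iff] at hc
  rw [QuotientGroup.mk_mul, QuotientGroup.mk_mul, mul_assoc, ← hc, ← mul_assoc,
    ← QuotientGroup.mk_mul, inv_mul_cancel, QuotientGroup.mk_one, one_mul]

/-- every element of `MM N` is the class of an element of `N ∩ X'` -/
theorem exists_rep_of_mem_MM {x : X ⧸ cXN N} (hx : x ∈ MM N) :
    ∃ c : X, c ∈ N ∧ c ∈ commutator X ∧ (QuotientGroup.mk c : X ⧸ cXN N) = x := by
  obtain ⟨⟨n, hn, rfl⟩, hx2⟩ := hx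
  have hmap : commutator (X ⧸ cXN N) = (commutator X).map (QuotientGroup.mk' (cXN N)) := by
    rw [_root_.commutator_def, _root_.commutator_def, Subgroup.map_commutator,
      ← MonoidHom.range_eq_map, MonoidHom.range_eq_top.mpr (QuotientGroup.mk'_surjective _)]
  rw [hmap] at hx2
  obtain ⟨c, hc, hcn⟩ := hx2
  refine ⟨c, ?_, hc, hcn⟩
  have h1 : c⁻¹ * n ∈ cXN N := by
    rw [← QuotientGroup.eq]; exact hcn
  have h2 : c⁻¹ * n ∈ N := cXN_le N h1
  have h3 : c⁻¹ ∈ N := by
    have := N.mul_mem h2 (inv_mem hn)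
    rwa [mul_assoc, mul_inv_cancel, mul_one] at this
  simpa using inv_mem h3

theorem mk_mem_MM {c : X} (hc : c ∈ N) (hc' : c ∈ commutator X) :
    (QuotientGroup.mk c : X ⧸ cXN N) ∈ MM N := by
  refine ⟨mk_mem_ZZ N hc, ?_⟩
  have : (commutator X).map (QuotientGroup.mk' (cXN N)) ≤ commutator (X ⧸ cXN N) := by
    rw [_root_.commutator_def, _root_.commutator_def, Subgroup.map_commutator]
    exact Subgroup.commutator_mono le_top le_top
  exact this ⟨c, hc', rfl⟩

end Gen

theorem map_prod_eq_pow {A H κ : Type*} [CommGroup A] [Group H] (g : A →* H) (s : Finset κ)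
    (f : κ → A) (y : H) (h : ∀ i ∈ s, g (f i) = y) : g (∏ i ∈ s, f i) = y ^ s.card := by
  classical
  induction s using Finset.induction_on with
  | empty => simp
  | insert a s ha ih =>
    rw [Finset.prod_insert ha, map_mul, Finset.card_insert_of_notMem ha, pow_succ',
      h a (Finset.mem_insert_self _ _), ih (fun i hi => h i (Finset.mem_insert_of_mem hi))]

end Cfsg.Agent.Lib.Helper2.SchurSylow
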