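/-
helper2: Hopf-level transfer for Schur multipliers, part B: the restriction map.
-/
import Cfsg.Agent.Lib.Helper2.SchurSylowA

set_option autoImplicit false

namespace Cfsg.Agent.Lib.Helper2.SchurSylow

open Subgroup
open scoped commutatorElement
open scoped IsMulCommutative

section Transfer

variable {F : Type*} [Group F] {K₀ : Type*} [Group K₀] (ι : K₀ →* F) (hι : Function.Injective ι)
  (R : Subgroup F) [R.Normal] (hRK : R ≤ ι.range)

/-- `ι⁻¹ (f⁻¹ r f)` -/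
noncomputable def pre (f : F) : ↥R →* K₀ :=
  (MonoidHom.ofInjective hι).symm.toMonoidHom.comp
    ((Subgroup.inclusion hRK).comp (MulAut.conjNormal f⁻¹ : ↥R ≃* ↥R).toMonoidHom)

theorem ι_pre (f : F) (r : ↥R) : ι (pre ι hι R hRK f r) = f⁻¹ * (r : F) * f := by
  unfold pre
  have h := (MonoidHom.ofInjective hι).apply_symm_apply
    ((Subgroup.inclusion hRK) ((MulAut.conjNormal f⁻¹ : ↥R ≃* ↥R) r))
  have h2 := congrArg Subtype.val h
  rw [MonoidHom.ofInjective_apply] at h2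
  simp only [MonoidHom.coe_comp, MulEquiv.coe_toMonoidHom, Function.comp_apply]
  rw [h2]
  simp

theorem pre_mem (f : F) (r : ↥R) : pre ι hι R hRK f r ∈ R.comap ι := by
  show ι _ ∈ R
  rw [ι_pre]
  have := (inferInstance : R.Normal).conj_mem r r.2 f⁻¹
  simpa using this

theorem pre_mul_ι (f : F) (k : K₀) (r : ↥R) :
    pre ι hι R hRK (f * ι k) r = k⁻¹ * pre ι hι R hRK f r * k := by
  apply hι
  rw [ι_pre, map_mul, map_mul, ι_pre, map_inv]
  group

theorem pre_conj (g f : F) (r : ↥R) (hr : f * (r : F) * f⁻¹ ∈ R) :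
    pre ι hι R hRK g ⟨f * (r : F) * f⁻¹, hr⟩ = pre ι hι R hRK (f⁻¹ * g) r := by
  apply hι
  rw [ι_pre, ι_pre]
  simp only [mul_inv_rev, inv_inv]
  group

/-- the class of `ι⁻¹ (f⁻¹ r f)` in `K₀/[K₀,R₀]`, as an element of the center -/
noncomputable def cjc (f : F) : ↥R →* ↥(center (K₀ ⧸ cXN (R.comap ι))) :=
  ((QuotientGroup.mk' (cXN (R.comap ι))).comp (pre ι hι R hRK f)).codRestrict _ (fun r =>
    ZZ_le_center (R.comap ι) (mk_mem_ZZ (R.comap ι) (pre_mem ι hι R hRK f r)))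

theorem cjc_coe (f : F) (r : ↥R) :
    ((cjc ι hι R hRK f r : ↥(center (K₀ ⧸ cXN (R.comap ι)))) : K₀ ⧸ cXN (R.comap ι)) =
      QuotientGroup.mk (pre ι hι R hRK f r) := rfl

theorem cjc_mul_ι (f : F) (k : K₀) (r : ↥R) :
    cjc ι hι R hRK (f * ι k) r = cjc ι hι R hRK f r := by
  apply Subtype.ext
  rw [cjc_coe, cjc_coe, pre_mul_ι]
  exact mk_conj_eq (R.comap ι) (pre_mem ι hι R hRK f r) k

theorem cjc_conj (g f : F) (r : ↥R) (hr : f * (r : F) * f⁻¹ ∈ R) :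
    cjc ι hι R hRK g ⟨f * (r : F) * f⁻¹, hr⟩ = cjc ι hι R hRK (f⁻¹ * g) r := by
  apply Subtype.ext
  rw [cjc_coe, cjc_coe, pre_conj]

variable [ι.range.FiniteIndex] (T : ι.range.LeftTransversal)

/-- the restriction (transfer) map on `R`, w.r.t. a transversal `T` -/
noncomputable def res₀ : ↥R →* ↥(center (K₀ ⧸ cXN (R.comap ι))) :=
  letI := ι.range.fintypeQuotientOfFiniteIndex
  ∏ q : F ⧸ ι.range, cjc ι hι R hRK (T.2.leftQuotientEquiv q : F)

theorem res₀_apply (r : ↥R) :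
    letI := ι.range.fintypeQuotientOfFiniteIndex
    res₀ ι hι R hRK T r = ∏ q : F ⧸ ι.range, cjc ι hι R hRK (T.2.leftQuotientEquiv q : F) r := by
  unfold res₀
  rw [MonoidHom.finsetProd_apply]

/-- invariance under conjugation -/
theorem res₀_conj (f : F) (r : ↥R) (hr : f * (r : F) * f⁻¹ ∈ R) :
    res₀ ι hι R hRK T ⟨f * (r : F) * f⁻¹, hr⟩ = res₀ ι hι R hRK T r := by
  letI := ι.range.fintypeQuotientOfFiniteIndex
  rw [res₀_apply, res₀_apply]
  refine Fintype.prod_equiv (MulAction.toPerm f⁻¹) _ _ (fun q => ?_)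
  rw [cjc_conj]
  -- `f⁻¹ * t q` and `t (f⁻¹ • q)` lie in the same coset
  have h1 : ((f⁻¹ * (T.2.leftQuotientEquiv q : F) : F) : F ⧸ ι.range) = f⁻¹ • q := by
    conv_rhs => rw [← T.2.quotientGroupMk_leftQuotientEquiv q]
    rfl
  have h2 : (((T.2.leftQuotientEquiv (f⁻¹ • q) : F)) : F ⧸ ι.range) = f⁻¹ • q :=
    T.2.quotientGroupMk_leftQuotientEquiv (f⁻¹ • q)
  have h3 : ((T.2.leftQuotientEquiv (f⁻¹ • q) : F))⁻¹ * (f⁻¹ * (T.2.leftQuotientEquiv q : F)) ∈ ι.range := by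
    rw [← QuotientGroup.eq, h1]; exact h2
  obtain ⟨k, hk⟩ := h3
  have h4 : f⁻¹ * (T.2.leftQuotientEquiv q : F) = (T.2.leftQuotientEquiv (f⁻¹ • q) : F) * ι k := by
    rw [hk]; group
  rw [h4, cjc_mul_ι]
  rfl

end Transfer

end Cfsg.Agent.Lib.Helper2.SchurSylow
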