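/-
helper2: Hopf-level transfer for Schur multipliers, part C: properties of the restriction map.
-/
import Cfsg.Agent.Lib.Helper2.SchurSylowB

set_option autoImplicit false

namespace Cfsg.Agent.Lib.Helper2.SchurSylow

open Subgroup
open scoped commutatorElement
open scoped IsMulCommutative

section Transfer

variable {F : Type*} [Group F] {K₀ : Type*} [Group K₀] (ι : K₀ →* F) (hι : Function.Injective ι)
  (R : Subgroup F) [R.Normal] (hRK : R ≤ ι.range)
  [ι.range.FiniteIndex] (T : ι.range.LeftTransversal)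

omit [ι.range.FiniteIndex] [R.Normal] in
theorem ι_ofInjective_symm (x : ↥ι.range) : ι ((MonoidHom.ofInjective hι).symm x) = x := by
  have h := (MonoidHom.ofInjective hι).apply_symm_apply x
  have h2 := congrArg Subtype.val h
  rwa [MonoidHom.ofInjective_apply] at h2

include hRK in
omit [ι.range.FiniteIndex] in
theorem smul_inv_eq_self {r : F} (hr : r ∈ R) (q : F ⧸ ι.range) : r⁻¹ • q = q := by
  obtain ⟨x, rfl⟩ := QuotientGroup.mk_surjective q
  show ((r⁻¹ * x : F) : F ⧸ ι.range) = x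
  rw [QuotientGroup.eq]
  apply hRK
  have := (inferInstance : R.Normal).conj_mem r hr x⁻¹
  simpa [mul_assoc] using this

/-- `res₀` kills `[F,R]` -/
theorem res₀_eq_one_of_mem (r : ↥R) (hr : (r : F) ∈ cXN R) : res₀ ι hι R hRK T r = 1 := by
  have key : cXN R ≤ (res₀ ι hι R hRK T).ker.map R.subtype := by
    unfold cXN
    rw [Subgroup.commutator_le]
    intro f _ r hr
    have hfr : f * r * f⁻¹ ∈ R := (inferInstance : R.Normal).conj_mem r hr f
    have h1 : ⁅f, r⁆ = (⟨f * r * f⁻¹, hfr⟩ * (⟨r, hr⟩ : ↥R)⁻¹ : ↥R) := by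
      rw [commutatorElement_def]; rfl
    rw [h1]
    refine ⟨⟨f * r * f⁻¹, hfr⟩ * (⟨r, hr⟩ : ↥R)⁻¹, ?_, rfl⟩
    rw [SetLike.mem_coe, MonoidHom.mem_ker, map_mul, map_inv]
    have := res₀_conj ι hι R hRK T f ⟨r, hr⟩ hfr
    rw [this, mul_inv_cancel]
  obtain ⟨r', hr', hrr'⟩ := key hr
  have : r' = r := Subtype.ext hrr'
  rw [← this]; exact hr'

/-- `res₀ r` lies in the image of `R₀` -/
theorem res₀_mem_ZZ (r : ↥R) :
    ((res₀ ι hι R hRK T r : ↥(center (K₀ ⧸ cXN (R.comap ι)))) : K₀ ⧸ cXN (R.comap ι)) ∈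
      ZZ (R.comap ι) := by
  letI := ι.range.fintypeQuotientOfFiniteIndex
  rw [res₀_apply]
  have : (∏ q : F ⧸ ι.range, cjc ι hι R hRK (T.2.leftQuotientEquiv q : F) r) ∈
      (ZZ (R.comap ι)).subgroupOf (center (K₀ ⧸ cXN (R.comap ι))) := by
    apply Subgroup.prod_mem
    intro q _
    rw [Subgroup.mem_subgroupOf, cjc_coe]
    exact mk_mem_ZZ _ (pre_mem ι hι R hRK _ r)
  exact this

/-- the comparison with Mathlib's transfer into the abelianization -/
theorem of_res₀_eq_transfer (r : ↥R) :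
    Abelianization.of ((res₀ ι hι R hRK T r : ↥(center (K₀ ⧸ cXN (R.comap ι)))) :
        K₀ ⧸ cXN (R.comap ι)) =
      MonoidHom.transfer (Abelianization.of.comp ((QuotientGroup.mk' (cXN (R.comap ι))).comp
        (MonoidHom.ofInjective hι).symm.toMonoidHom)) (r : F) := by
  letI := ι.range.fintypeQuotientOfFiniteIndex
  rw [MonoidHom.transfer_def _ T, res₀_apply]
  unfold Subgroup.leftTransversals.diff
  have hmp := map_prod ((Abelianization.of (G := K₀ ⧸ cXN (R.comap ι))).comp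
    (center (K₀ ⧸ cXN (R.comap ι))).subtype)
    (fun q : F ⧸ ι.range => cjc ι hι R hRK (T.2.leftQuotientEquiv q : F) r) Finset.univ
  simp only [MonoidHom.coe_comp, Function.comp_apply, Subgroup.coe_subtype] at hmp
  rw [hmp]
  refine Finset.prod_congr rfl (fun q _ => ?_)
  simp only [MonoidHom.coe_comp, Function.comp_apply, MulEquiv.coe_toMonoidHom,
    QuotientGroup.mk'_apply, cjc_coe]
  congr 2
  apply hι
  rw [ι_pre, ι_ofInjective_symm]
  show _ = ((T.2.leftQuotientEquiv q : F))⁻¹ * (((r : F) • T).2.leftQuotientEquiv q : F)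
  rw [Subgroup.smul_apply_eq_smul_apply_inv_smul, smul_inv_eq_self ι R hRK r.2 q, smul_eq_mul, mul_assoc]

/-- `res₀` maps `R ∩ F'` into the commutator subgroup -/
theorem res₀_mem_commutator (r : ↥R) (hr : (r : F) ∈ commutator F) :
    ((res₀ ι hι R hRK T r : ↥(center (K₀ ⧸ cXN (R.comap ι)))) : K₀ ⧸ cXN (R.comap ι)) ∈
      commutator (K₀ ⧸ cXN (R.comap ι)) := by
  rw [← Abelianization.ker_of, MonoidHom.mem_ker, of_res₀_eq_transfer]
  exact Abelianization.commutator_subset_ker _ hr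

theorem res₀_mem_MM (r : ↥R) (hr : (r : F) ∈ commutator F) :
    ((res₀ ι hι R hRK T r : ↥(center (K₀ ⧸ cXN (R.comap ι)))) : K₀ ⧸ cXN (R.comap ι)) ∈
      MM (R.comap ι) :=
  ⟨res₀_mem_ZZ ι hι R hRK T r, res₀_mem_commutator ι hι R hRK T r hr⟩

/-- corestriction on the Hopf groups -/
def corH : K₀ ⧸ cXN (R.comap ι) →* F ⧸ cXN R :=
  QuotientGroup.map (cXN (R.comap ι)) (cXN R) ι (by
    unfold cXN
    rw [Subgroup.commutator_le]
    intro a _ b hb
    show ι ⁅a, b⁆ ∈ ⁅(⊤ : Subgroup F), R⁆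
    rw [map_commutatorElement]
    exact Subgroup.commutator_mem_commutator (mem_top _) hb)

omit [ι.range.FiniteIndex] in
theorem corH_mk (x : K₀) : corH ι R (QuotientGroup.mk x) = QuotientGroup.mk (ι x) := rfl

omit [ι.range.FiniteIndex] in
theorem corH_mem_MM {x : K₀ ⧸ cXN (R.comap ι)} (hx : x ∈ MM (R.comap ι)) :
    corH ι R x ∈ MM R := by
  obtain ⟨c, hc, hc', rfl⟩ := exists_rep_of_mem_MM _ hx
  rw [corH_mk]
  refine mk_mem_MM R hc ?_
  have : (commutator K₀).map ι ≤ commutator F := by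
    rw [_root_.commutator_def, _root_.commutator_def, Subgroup.map_commutator]
    exact Subgroup.commutator_mono le_top le_top
  exact this ⟨c, hc', rfl⟩

theorem corH_res₀ (r : ↥R) :
    corH ι R ((res₀ ι hι R hRK T r : ↥(center (K₀ ⧸ cXN (R.comap ι)))) : K₀ ⧸ cXN (R.comap ι)) =
      (QuotientGroup.mk (r : F) : F ⧸ cXN R) ^ ι.range.index := by
  letI := ι.range.fintypeQuotientOfFiniteIndex
  rw [res₀_apply]
  have h := map_prod_eq_pow ((corH ι R).comp (center (K₀ ⧸ cXN (R.comap ι))).subtype) Finset.univ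
    (fun q : F ⧸ ι.range => cjc ι hι R hRK (T.2.leftQuotientEquiv q : F) r)
    (QuotientGroup.mk (r : F) : F ⧸ cXN R) (by
      intro q _
      simp only [MonoidHom.coe_comp, Function.comp_apply, Subgroup.coe_subtype, cjc_coe, corH_mk,
        ι_pre]
      exact mk_conj_eq R r.2 _)
  simp only [MonoidHom.coe_comp, Function.comp_apply, Subgroup.coe_subtype] at h
  rw [h, Finset.card_univ, Subgroup.index_eq_card, Nat.card_eq_fintype_card]

include hι hRK in
/-- **Restriction and corestriction on the Hopf multipliers**, with `cor ∘ res = (·)^index`. -/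
theorem exists_res_cor :
    ∃ (res : ↥(MM R) →* ↥(MM (R.comap ι))) (cor : ↥(MM (R.comap ι)) →* ↥(MM R)),
      ∀ a, cor (res a) = a ^ ι.range.index := by
  classical
  let T : ι.range.LeftTransversal := default
  let S : Subgroup F := R ⊓ commutator F
  let s : ↥S →* ↥(MM R) :=
    ((QuotientGroup.mk' (cXN R)).comp S.subtype).codRestrict (MM R)
      (fun c => mk_mem_MM R c.2.1 c.2.2)
  have hs : Function.Surjective s := by
    rintro ⟨x, hx⟩
    obtain ⟨c, hc, hc', rfl⟩ := exists_rep_of_mem_MM R hx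
    exact ⟨⟨c, hc, hc'⟩, rfl⟩
  let res₁ : ↥S →* ↥(MM (R.comap ι)) :=
    (((center (K₀ ⧸ cXN (R.comap ι))).subtype.comp (res₀ ι hι R hRK T)).comp
      (Subgroup.inclusion (inf_le_left : S ≤ R))).codRestrict (MM (R.comap ι))
      (fun c => res₀_mem_MM ι hι R hRK T ⟨c, c.2.1⟩ c.2.2)
  have hker : s.ker ≤ res₁.ker := by
    intro c hc
    rw [MonoidHom.mem_ker] at hc ⊢
    have h1 : (QuotientGroup.mk (c : F) : F ⧸ cXN R) = 1 := congrArg Subtype.val hc
    rw [QuotientGroup.eq_one_iff] at h1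
    apply Subtype.ext
    show ((res₀ ι hι R hRK T ⟨c, c.2.1⟩ : ↥(center (K₀ ⧸ cXN (R.comap ι)))) :
      K₀ ⧸ cXN (R.comap ι)) = 1
    rw [res₀_eq_one_of_mem ι hι R hRK T ⟨c, c.2.1⟩ h1]
    rfl
  let res : ↥(MM R) →* ↥(MM (R.comap ι)) := s.liftOfSurjective hs ⟨res₁, hker⟩
  have hres : ∀ c, res (s c) = res₁ c := fun c =>
    MonoidHom.liftOfRightInverse_comp_apply _ _ _ ⟨res₁, hker⟩ c
  let cor : ↥(MM (R.comap ι)) →* ↥(MM R) :=
    ((corH ι R).comp (MM (R.comap ι)).subtype).codRestrict (MM R)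
      (fun x => corH_mem_MM ι R x.2)
  refine ⟨res, cor, ?_⟩
  intro a
  obtain ⟨c, rfl⟩ := hs a
  rw [hres]
  apply Subtype.ext
  rw [Subgroup.coe_pow]
  exact corH_res₀ ι hι R hRK T ⟨c, c.2.1⟩

end Transfer

end Cfsg.Agent.Lib.Helper2.SchurSylow
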