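/-
helper2: Hopf-level transfer for Schur multipliers, part D: abelian direct factor lemma and
finiteness of free generators.
-/
import Cfsg.Agent.Lib.Helper2.SchurSylowC

set_option autoImplicit false

namespace Cfsg.Agent.Lib.Helper2.SchurSylow

open Subgroup

/-- If `cor ∘ res = (·)^n` with `n` prime to `p` and `B` a `p`-group, then the `p`-primary component of
`A` is isomorphic to a direct factor of `B`. -/
theorem exists_direct_factor {A B : Type*} [CommGroup A] [CommGroup B] (p : ℕ) [hp : Fact p.Prime]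
    (n : ℕ) (hn : ¬ p ∣ n) (hB : IsPGroup p B) (res : A →* B) (cor : B →* A)
    (h : ∀ a, cor (res a) = a ^ n) :
    ∃ C D : Subgroup B, C ⊓ D = ⊥ ∧ C ⊔ D = ⊤ ∧ Nonempty (CommGroup.primaryComponent A p ≃* C) := by
  have hcop : ∀ k : ℕ, Nat.Coprime n (p ^ k) := fun k =>
    Nat.Coprime.pow_right k ((Nat.Prime.coprime_iff_not_dvd hp.out).mpr hn).symm
  -- elements of `A_p` killed by `n` are trivial
  have htriv : ∀ a ∈ CommGroup.primaryComponent A p, a ^ n = 1 → a = 1 := by
    intro a ha han
    obtain ⟨k, hk⟩ := ha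
    have h1 : orderOf a ∣ n := orderOf_dvd_of_pow_eq_one han
    have h2 : orderOf a ∣ p ^ k := orderOf_dvd_of_pow_eq_one hk
    have h3 : orderOf a = 1 := Nat.eq_one_of_dvd_coprimes (hcop k) h1 h2
    exact orderOf_eq_one_iff.mp h3
  -- `cor` lands in `A_p`
  have hcor : ∀ b, cor b ∈ CommGroup.primaryComponent A p := by
    intro b
    obtain ⟨k, hk⟩ := hB b
    exact ⟨k, by rw [← map_pow, hk, map_one]⟩
  let resp : ↥(CommGroup.primaryComponent A p) →* B := res.comp (Subgroup.subtype _)
  have hinj : Function.Injective resp := by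
    rw [injective_iff_map_eq_one]
    intro a ha
    apply Subtype.ext
    apply htriv _ a.2
    rw [← h]
    show cor (resp a) = 1
    rw [ha, map_one]
  refine ⟨resp.range, cor.ker, ?_, ?_, ⟨MonoidHom.ofInjective hinj⟩⟩
  · rw [eq_bot_iff]
    rintro x ⟨⟨a, rfl⟩, hx⟩
    have hx : cor (resp a) = 1 := hx
    have : (a : A) = 1 := htriv _ a.2 (by rw [← h]; exact hx)
    rw [Subgroup.mem_bot]
    show res (a : A) = 1
    rw [this, map_one]
  · rw [eq_top_iff]
    intro b _
    obtain ⟨k, hk⟩ := hcor b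
    obtain ⟨m, hm⟩ := exists_pow_eq_self_of_coprime (x := cor b) (n := n)
      (Nat.Coprime.coprime_dvd_right (orderOf_dvd_of_pow_eq_one hk) (hcop k))
    have ha : (cor b) ^ m ∈ CommGroup.primaryComponent A p := Subgroup.pow_mem _ (hcor b) m
    rw [Subgroup.mem_sup]
    refine ⟨resp ⟨_, ha⟩, ⟨_, rfl⟩, (resp ⟨_, ha⟩)⁻¹ * b, ?_, by rw [mul_inv_cancel_left]⟩
    rw [MonoidHom.mem_ker, map_mul, map_inv]
    show (cor (res ((cor b) ^ m)))⁻¹ * cor b = 1
    rw [h, ← pow_mul, mul_comm m n, pow_mul, hm, inv_mul_cancel]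

/-- variant of `exists_res_cor` for a subgroup propositionally equal to `R.comap ι` -/
theorem exists_res_cor' {F : Type*} [Group F] {K₀ : Type*} [Group K₀] (ι : K₀ →* F)
    (hι : Function.Injective ι) (R : Subgroup F) [R.Normal] (hRK : R ≤ ι.range)
    [ι.range.FiniteIndex] (N₀ : Subgroup K₀) [N₀.Normal] (hN : N₀ = R.comap ι) :
    ∃ (res : ↥(MM R) →* ↥(MM N₀)) (cor : ↥(MM N₀) →* ↥(MM R)),
      ∀ a, cor (res a) = a ^ ι.range.index := by
  subst hN
  exact exists_res_cor ι hι R hRK

/-- a free group which is finitely generated has finitely many free generators -/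
theorem finite_of_fg_freeGroup (β : Type*) [hfg : Group.FG (FreeGroup β)] : Finite β := by
  have h1 : Group.FG (Abelianization (FreeGroup β)) :=
    Group.fg_of_surjective (f := Abelianization.of)
      (fun x => QuotientGroup.induction_on x (fun g => ⟨g, rfl⟩))
  have h2 : AddGroup.FG (FreeAbelianGroup β) := by
    rw [AddGroup.fg_iff_mul_fg]
    exact h1
  have h3 : Module.Finite ℤ (FreeAbelianGroup β) := Module.Finite.iff_addGroup_fg.mpr h2
  exact Module.Finite.finite_basis (FreeAbelianGroup.basis β)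

end Cfsg.Agent.Lib.Helper2.SchurSylow
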