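/-
helper2: groups with a self-centralizing element `x` of prime order `p` (continuing
helper10's `SelfCentP`): exact count of the classes of elements of order `p`, and the quotient
`N(P)/P` is cyclic; elements of 2-power order in `N(P)` meeting `P` trivially.
-/
import Mathlib
import Cfsg.Agent.Lib.Helper10.SelfCentP

set_option autoImplicit false

namespace Cfsg.Agent.Lib.Helper2.SelfCent

open Subgroup Cfsg.Agent.Lib.Helper10

variable {G : Type*} [Group G] [Finite G] {p : ℕ} {x : G}

/-- `p - 1 ≤ t * e` -/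
theorem le_card_classes_mul (hp : p.Prime) (hx : orderOf x = p)
    (hC : centralizer ({x} : Set G) = zpowers x) :
    p - 1 ≤ Nat.card {C : ConjClasses G // ∃ g ∈ C.carrier, orderOf g = p} *
      (zpowers x).relIndex (normalizer (zpowers x : Set G)) := by
  classical
  have hrep : ∀ ω : {C : ConjClasses G // ∃ g ∈ C.carrier, orderOf g = p},
      ∃ y : G, y ∈ zpowers x ∧ y ≠ 1 ∧ ConjClasses.mk y = ω.1 := by
    rintro ⟨C, g, hg, hgo⟩
    obtain ⟨a, ha⟩ := scp_exists_conj_mem hp hx hC hgo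
    refine ⟨a * g * a⁻¹, ha, ?_, ?_⟩
    · intro h
      have hg1 : g = 1 := by
        have : g = a⁻¹ * (a * g * a⁻¹) * a := by group
        rw [this, h]
        group
      rw [hg1, orderOf_one] at hgo
      exact hp.one_lt.ne' hgo.symm
    · show ConjClasses.mk (a * g * a⁻¹) = C
      rw [← ConjClasses.mem_carrier_iff_mk_eq.mp hg, ConjClasses.mk_eq_mk_iff_isConj, isConj_comm,
        isConj_iff]
      exact ⟨a, rfl⟩
  choose rep hrep1 hrep2 hrep3 using hrep
  set N : Subgroup G := normalizer (zpowers x : Set G) with hN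
  let cls : ↥((zpowers x : Set G) \ {1}) → {C : ConjClasses G // ∃ g ∈ C.carrier, orderOf g = p} :=
    fun y => ⟨ConjClasses.mk (y : G), (y : G), ConjClasses.mem_carrier_mk,
      scp_orderOf hp hx y.2.1 (fun h => y.2.2 (Set.mem_singleton_iff.mpr h))⟩
  have hconj : ∀ y : ↥((zpowers x : Set G) \ {1}), ∃ g : G, g ∈ N ∧ g * rep (cls y) * g⁻¹ = (y : G) := by
    intro y
    have h1 : ConjClasses.mk (rep (cls y)) = ConjClasses.mk (y : G) := hrep3 (cls y)
    rw [ConjClasses.mk_eq_mk_iff_isConj, isConj_iff] at h1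
    obtain ⟨g, hg⟩ := h1
    refine ⟨g, ?_, hg⟩
    exact scp_mem_normalizer hp hx (hrep1 _) (hrep2 _) (hg ▸ y.2.1)
  choose cg hcg1 hcg2 using hconj
  let Ψ : ↥((zpowers x : Set G) \ {1}) →
      {C : ConjClasses G // ∃ g ∈ C.carrier, orderOf g = p} × (↥N ⧸ (zpowers x).subgroupOf N) :=
    fun y => (cls y, QuotientGroup.mk ⟨cg y, hcg1 y⟩)
  have hΨ : Function.Injective Ψ := by
    intro y y' h
    have h1 : cls y = cls y' := congrArg Prod.fst h
    have h2 : (QuotientGroup.mk ⟨cg y, hcg1 y⟩ : ↥N ⧸ (zpowers x).subgroupOf N) =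
        QuotientGroup.mk ⟨cg y', hcg1 y'⟩ := congrArg Prod.snd h
    rw [QuotientGroup.eq, mem_subgroupOf] at h2
    have h3 : (cg y)⁻¹ * cg y' ∈ zpowers x := by simpa using h2
    have h4 : rep (cls y) ∈ zpowers x := hrep1 _
    have hcomm : (cg y)⁻¹ * cg y' * rep (cls y) = rep (cls y) * ((cg y)⁻¹ * cg y') := by
      obtain ⟨k, hk⟩ := h3
      obtain ⟨l, hl⟩ := h4
      rw [← hk, ← hl]
      exact ((Commute.refl x).zpow_zpow k l).eq
    apply Subtype.ext
    rw [← hcg2 y, ← hcg2 y', ← h1]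
    have h5 : cg y' * rep (cls y) * (cg y')⁻¹ =
        cg y * ((cg y)⁻¹ * cg y' * rep (cls y)) * (cg y')⁻¹ := by group
    rw [h5, hcomm]
    group
  have h6 := Nat.card_le_card_of_injective Ψ hΨ
  rw [Nat.card_prod, scp_card_diff hx] at h6
  exact h6

/-- `t * e = p - 1` -/
theorem card_classes_mul_eq (hp : p.Prime) (hx : orderOf x = p)
    (hC : centralizer ({x} : Set G) = zpowers x) :
    Nat.card {C : ConjClasses G // ∃ g ∈ C.carrier, orderOf g = p} *
      (zpowers x).relIndex (normalizer (zpowers x : Set G)) = p - 1 :=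
  le_antisymm (scp_card_classes_mul_le hp hx hC) (le_card_classes_mul hp hx hC)

omit [Finite G] in
/-- The quotient `N(P)/P` is cyclic. -/
theorem isCyclic_quotient (hp : p.Prime) (hx : orderOf x = p)
    (hC : centralizer ({x} : Set G) = zpowers x) :
    IsCyclic (↥(normalizer (zpowers x : Set G)) ⧸
      (zpowers x).subgroupOf (normalizer (zpowers x : Set G))) := by
  set N : Subgroup G := normalizer (zpowers x : Set G) with hN
  set Pn : Subgroup ↥N := (zpowers x).subgroupOf N with hPn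
  have hPnN : Pn.Normal := inferInstance
  have hcard : Nat.card Pn = p := by
    rw [hPn, Nat.card_congr (Subgroup.subgroupOfEquivOfLe Subgroup.le_normalizer).toEquiv,
      Nat.card_zpowers, hx]
  have hcyc : IsCyclic Pn := isCyclic_of_prime_card (hp := ⟨hp⟩) hcard
  have : Fact (Nat.card Pn).Prime := ⟨hcard.symm ▸ hp⟩
  have hcycA : IsCyclic (MulAut Pn) :=
    isCyclic_of_injective (IsCyclic.mulAutMulEquiv Pn).toMonoidHom (IsCyclic.mulAutMulEquiv Pn).injective
  let f : ↥N →* MulAut Pn := MulAut.conjNormal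
  have hker : ∀ n : ↥N, n ∈ Pn → f n = 1 := by
    intro n hn
    ext k
    rw [MulAut.conjNormal_apply, MulAut.one_apply]
    rw [hPn, mem_subgroupOf] at hn
    have hk : ((k : ↥N) : G) ∈ zpowers x := mem_subgroupOf.mp k.2
    obtain ⟨i, hi⟩ := hn
    obtain ⟨j, hj⟩ := hk
    have h1 : ((n * (k : ↥N) * n⁻¹ : ↥N) : G) = ((k : ↥N) : G) := by
      push_cast
      rw [← hi, ← hj]
      have := ((Commute.refl x).zpow_zpow i j).eq
      rw [this]
      group
    exact h1
  let F : ↥N ⧸ Pn →* MulAut Pn := QuotientGroup.lift Pn f hker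
  have hF : Function.Injective F := by
    rw [injective_iff_map_eq_one]
    intro q hq
    obtain ⟨n, rfl⟩ := QuotientGroup.mk_surjective q
    rw [QuotientGroup.eq_one_iff]
    have h1 : f n = 1 := hq
    have hxN : x ∈ N := Subgroup.le_normalizer (mem_zpowers x)
    have hxPn : (⟨x, hxN⟩ : ↥N) ∈ Pn := mem_subgroupOf.mpr (mem_zpowers x)
    have h2 := congrArg (fun φ : MulAut Pn => ((φ ⟨⟨x, hxN⟩, hxPn⟩ : Pn) : ↥N)) h1
    simp only [MulAut.one_apply] at h2
    rw [MulAut.conjNormal_apply] at h2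
    have h3 : (n : G) * x * (n : G)⁻¹ = x := by
      have := congrArg (fun z : ↥N => (z : G)) h2
      simpa using this
    rw [hPn, mem_subgroupOf, ← hC, mem_centralizer_iff]
    intro z hz
    rw [Set.mem_singleton_iff] at hz
    subst hz
    calc z * (n : G) = ((n : G) * z * (n : G)⁻¹) * (n : G) := by rw [h3]
      _ = (n : G) * z := by group
  exact isCyclic_of_injective F hF

/-- an element of `N(P)` of order `2 ^ a` none of whose non-identity powers lies in `P` -/
theorem exists_two_pow_element (hp : p.Prime) (hp2 : p ≠ 2) (hx : orderOf x = p)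
    (hC : centralizer ({x} : Set G) = zpowers x) (a : ℕ)
    (ha : 2 ^ a ∣ (zpowers x).relIndex (normalizer (zpowers x : Set G))) :
    ∃ y : G, y ∈ normalizer (zpowers x : Set G) ∧ orderOf y = 2 ^ a ∧
      ∀ j, 0 < j → j < 2 ^ a → y ^ j ∉ zpowers x := by
  set N : Subgroup G := normalizer (zpowers x : Set G) with hN
  set Pn : Subgroup ↥N := (zpowers x).subgroupOf N with hPn
  have hcyc := isCyclic_quotient hp hx hC
  obtain ⟨q, hq⟩ := hcyc.exists_generator
  have hoq : orderOf q = Pn.index := by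
    rw [orderOf_eq_card_of_forall_mem_zpowers hq]
    exact (Subgroup.index_eq_card Pn).symm
  have hidx : Pn.index = (zpowers x).relIndex N := rfl
  have hoq0 : orderOf q ≠ 0 := (orderOf_pos q).ne'
  have ha' : 2 ^ a ∣ orderOf q := by rw [hoq, hidx]; exact ha
  have h1 : orderOf (q ^ (orderOf q / 2 ^ a)) = 2 ^ a := orderOf_pow_orderOf_div hoq0 ha'
  set q' := q ^ (orderOf q / 2 ^ a) with hq'
  obtain ⟨n, hn⟩ := QuotientGroup.mk_surjective q'
  have hcop : Nat.Coprime (2 ^ a) p := by
    apply Nat.Coprime.pow_left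
    rw [Nat.coprime_primes Nat.prime_two hp]
    exact fun h => hp2 h.symm
  have hcard : Nat.card Pn = p := by
    rw [hPn, Nat.card_congr (Subgroup.subgroupOfEquivOfLe Subgroup.le_normalizer).toEquiv,
      Nat.card_zpowers, hx]
  -- y = n ^ p
  have h2 : orderOf ((QuotientGroup.mk (n ^ p) : ↥N ⧸ Pn)) = 2 ^ a := by
    rw [QuotientGroup.mk_pow, hn]
    have h3 : Nat.Coprime (orderOf q') p := by rw [h1]; exact hcop
    rw [h3.orderOf_pow, h1]
  have h4 : (n ^ p) ^ (2 ^ a) = 1 := by
    have h5 : n ^ (2 ^ a) ∈ Pn := by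
      rw [← QuotientGroup.eq_one_iff, QuotientGroup.mk_pow, hn, ← h1, pow_orderOf_eq_one]
    have h6 : (⟨n ^ (2 ^ a), h5⟩ : Pn) ^ p = 1 := by
      rw [← hcard]
      exact pow_card_eq_one'
    have h7 := congrArg (fun z : Pn => (z : ↥N)) h6
    simp only [SubgroupClass.coe_pow, OneMemClass.coe_one] at h7
    rw [← pow_mul, mul_comm, pow_mul]
    exact h7
  have h8 : orderOf (n ^ p) = 2 ^ a := by
    apply Nat.dvd_antisymm (orderOf_dvd_of_pow_eq_one h4)
    rw [← h2]
    exact orderOf_map_dvd (QuotientGroup.mk' Pn) (n ^ p)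
  refine ⟨((n ^ p : ↥N) : G), (n ^ p).2, ?_, ?_⟩
  · rw [Subgroup.orderOf_coe, h8]
  · intro j hj0 hj hmem
    have h9 : (n ^ p) ^ j ∈ Pn := by
      rw [hPn, mem_subgroupOf]
      simpa using hmem
    rw [← QuotientGroup.eq_one_iff, QuotientGroup.mk_pow] at h9
    have h10 := orderOf_dvd_of_pow_eq_one h9
    rw [h2] at h10
    exact absurd (Nat.le_of_dvd hj0 h10) (by omega)

end Cfsg.Agent.Lib.Helper2.SelfCent
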