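/-
helper2: T.I. abelian subgroup `K` with Frobenius normalizer `N` of index `e ≥ 2` over `K`:
an irreducible character of `G` of degree `|K| - 1` vanishes on `N ∖ K`.
(Norm estimate for `Ind (1_K^N - τ)`, `τ` a relevant irreducible character of `N`.)
-/
import Mathlib
import Cfsg.Prelude.Def_Characters
import Cfsg.Agent.Lib.Helper2.TIFrob
import Cfsg.Agent.Lib.Helper2.TIInd
import Cfsg.Agent.Lib.Helper10.Coherence
import Cfsg.Agent.Lib.Lead.CharMain
import Cfsg.Agent.Lib.Lead.CharEquiv

set_option autoImplicit false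

namespace Cfsg.Agent.Lib.Helper2.SelfCent

universe u
open Cfsg Cfsg.Agent.CharLib Cfsg.Agent.Lib.Helper6
open scoped ComplexConjugate

/-- Bessel inequality for two orthonormal class functions, real coefficients -/
theorem bessel_two {H : Type u} [Group H] [Fintype H] (f ψ₁ ψ₂ : H → ℂ)
    (h11 : classInner ψ₁ ψ₁ = 1) (h22 : classInner ψ₂ ψ₂ = 1) (h12 : classInner ψ₁ ψ₂ = 0)
    (a b n : ℝ) (ha : classInner f ψ₁ = a) (hb : classInner f ψ₂ = b)
    (hn : classInner f f = n) : a ^ 2 + b ^ 2 ≤ n := by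
  have h21 : classInner ψ₂ ψ₁ = 0 := by
    rw [Cfsg.Agent.Lib.Helper10.classInner_conj_symm, h12, map_zero]
  have ha' : classInner ψ₁ f = a := by
    rw [Cfsg.Agent.Lib.Helper10.classInner_conj_symm, ha, Complex.conj_ofReal]
  have hb' : classInner ψ₂ f = b := by
    rw [Cfsg.Agent.Lib.Helper10.classInner_conj_symm, hb, Complex.conj_ofReal]
  obtain ⟨r, hr0, hr⟩ := Cfsg.Agent.Lib.Helper10.classInner_self_nonneg
    (f - (a : ℂ) • ψ₁ - (b : ℂ) • ψ₂)
  have hexp : classInner (f - (a : ℂ) • ψ₁ - (b : ℂ) • ψ₂) (f - (a : ℂ) • ψ₁ - (b : ℂ) • ψ₂) =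
      ((n - a ^ 2 - b ^ 2 : ℝ) : ℂ) := by
    simp only [Cfsg.Agent.Lib.Helper10.classInner_sub_left,
      Cfsg.Agent.Lib.Helper10.classInner_sub_right, Cfsg.Agent.Lib.Helper10.classInner_smul_left,
      Cfsg.Agent.Lib.Helper10.classInner_smul_right, Complex.conj_ofReal, h11, h22, h12, h21, ha, hb,
      ha', hb', hn]
    push_cast
    ring
  rw [hexp] at hr
  have : n - a ^ 2 - b ^ 2 = r := by exact_mod_cast hr
  linarith

section main
variable {G : Type u} [Group G] [Fintype G] (K : Subgroup G)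
  [Fintype ↥(Subgroup.normalizer (K : Set G))]

/-- the permutation character of `N` on the cosets of `K` -/
noncomputable def sig : ↥(Subgroup.normalizer (K : Set G)) → ℂ :=
  indFun (K.subgroupOf (Subgroup.normalizer (K : Set G))) (fun _ => 1)

omit [Fintype G] in
theorem sig_isCharacter : IsCharacter ↥(Subgroup.normalizer (K : Set G)) (sig K) := by
  apply IsCharacter.indFun
  exact IsIrrCharacter.isCharacter isIrrCharacter_one

omit [Fintype G] in
theorem sig_apply_one : sig K 1 =
    (Nat.card ↥(K.subgroupOf (Subgroup.normalizer (K : Set G))) : ℂ)⁻¹ *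
      (Nat.card ↥(Subgroup.normalizer (K : Set G)) : ℂ) := by
  unfold sig
  rw [Cfsg.Agent.Lib.Helper10.indFun_apply_one, mul_one]

omit [Fintype G] in
theorem sig_apply_not_mem (x : ↥(Subgroup.normalizer (K : Set G))) (hx : (x : G) ∉ K) :
    sig K x = 0 := by
  unfold sig
  apply indFun_apply_of_forall_not_mem
  intro y hy
  apply hx
  have h1 : (Subgroup.subgroupOf K (Subgroup.normalizer (K : Set G))).Normal := inferInstance
  have h2 := h1.conj_mem _ hy y
  have h3 : y * (y⁻¹ * x * y) * y⁻¹ = x := by group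
  rw [h3] at h2
  exact Subgroup.mem_subgroupOf.mp h2

omit [Fintype G] in
/-- `⟨φ, σ⟩` is the average of `φ` over `K` -/
theorem classInner_sig (φ : ↥(Subgroup.normalizer (K : Set G)) → ℂ)
    (hφ : IsClassFunction ↥(Subgroup.normalizer (K : Set G)) φ)
    [Fintype ↥(K.subgroupOf (Subgroup.normalizer (K : Set G)))] :
    classInner φ (sig K) =
      (Nat.card ↥(K.subgroupOf (Subgroup.normalizer (K : Set G))) : ℂ)⁻¹ *
        ∑ k : ↥(K.subgroupOf (Subgroup.normalizer (K : Set G))), φ k := by
  unfold sig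
  rw [Cfsg.Agent.Lib.Helper10.classInner_indFun_right _ _ φ hφ]
  simp

/-- relevant irreducible characters are orthogonal to `σ` -/
theorem classInner_sig_of_rel
    (hC : ∀ k ∈ K, k ≠ 1 → Subgroup.centralizer ({k} : Set G) ≤ K)
    (τ : ↥(Subgroup.normalizer (K : Set G)) → ℂ)
    (hτ : IsIrrCharacter ↥(Subgroup.normalizer (K : Set G)) τ)
    (hrel : ∃ k : ↥(Subgroup.normalizer (K : Set G)), (k : G) ∈ K ∧ τ k ≠ τ 1) :
    classInner τ (sig K) = 0 := by
  classical
  let _ : Fintype ↥(K.subgroupOf (Subgroup.normalizer (K : Set G))) := Fintype.ofFinite _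
  obtain ⟨lam, hlam, hlam1, rfl⟩ := tifrob_exists_induced K hC τ hτ hrel
  rw [classInner_sig K _ (IsCharacter.isClassFunction (IsIrrCharacter.isCharacter hτ))]
  have h1 := classInner_resFun_indFun (K.subgroupOf (Subgroup.normalizer (K : Set G))) lam
    (fun _ => (1 : ℂ))
  have h2 : classInner (resFun (K.subgroupOf (Subgroup.normalizer (K : Set G)))
      (indFun (K.subgroupOf (Subgroup.normalizer (K : Set G))) lam)) (fun _ => (1 : ℂ)) =
      (Nat.card ↥(K.subgroupOf (Subgroup.normalizer (K : Set G))) : ℂ)⁻¹ *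
        ∑ k : ↥(K.subgroupOf (Subgroup.normalizer (K : Set G))),
          indFun (K.subgroupOf (Subgroup.normalizer (K : Set G))) lam k := by
    unfold classInner
    simp [resFun_apply]
  rw [← h2, h1]
  have h3 : ∀ x : ↥(Subgroup.normalizer (K : Set G)),
      classInner (Cfsg.Agent.Lib.Helper6.conjFun (K.subgroupOf (Subgroup.normalizer (K : Set G))) x lam)
        (fun _ => (1 : ℂ)) = 0 := by
    intro x
    have h4 := classInner_irr (isIrrCharacter_conjFun
      (K.subgroupOf (Subgroup.normalizer (K : Set G))) hlam x)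
      (isIrrCharacter_one (G := ↥(K.subgroupOf (Subgroup.normalizer (K : Set G)))))
    rw [if_neg] at h4
    · exact h4
    · intro h5
      apply hlam1
      have h6 := congrArg (Cfsg.Agent.Lib.Helper6.conjFun (K.subgroupOf (Subgroup.normalizer (K : Set G))) x⁻¹) h5
      rw [conjFun_inv_conjFun] at h6
      rw [h6]
      funext k
      rfl
  simp only [h3, Finset.sum_const_zero, mul_zero]

/-- irrelevant irreducible characters -/
theorem classInner_sig_of_not_rel
    (τ : ↥(Subgroup.normalizer (K : Set G)) → ℂ)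
    (hτ : IsIrrCharacter ↥(Subgroup.normalizer (K : Set G)) τ)
    (hrel : ¬ ∃ k : ↥(Subgroup.normalizer (K : Set G)), (k : G) ∈ K ∧ τ k ≠ τ 1) :
    classInner τ (sig K) = τ 1 := by
  classical
  let _ : Fintype ↥(K.subgroupOf (Subgroup.normalizer (K : Set G))) := Fintype.ofFinite _
  rw [classInner_sig K _ (IsCharacter.isClassFunction (IsIrrCharacter.isCharacter hτ))]
  push Not at hrel
  have h1 : ∀ k : ↥(K.subgroupOf (Subgroup.normalizer (K : Set G))),
      τ (k : ↥(Subgroup.normalizer (K : Set G))) = τ 1 :=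
    fun k => hrel _ (Subgroup.mem_subgroupOf.mp k.2)
  simp only [h1, Finset.sum_const, Finset.card_univ, nsmul_eq_mul]
  rw [← Nat.card_eq_fintype_card]
  have h0 : (Nat.card ↥(K.subgroupOf (Subgroup.normalizer (K : Set G))) : ℂ) ≠ 0 :=
    Nat.cast_ne_zero.mpr Nat.card_pos.ne'
  field_simp

/-- `⟨σ, σ⟩ = e` -/
theorem classInner_sig_sig : classInner (sig K) (sig K) = sig K 1 := by
  classical
  let _ : Fintype ↥(K.subgroupOf (Subgroup.normalizer (K : Set G))) := Fintype.ofFinite _
  rw [classInner_sig K _ (IsCharacter.isClassFunction (sig_isCharacter K))]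
  have h1 : ∀ k : ↥(K.subgroupOf (Subgroup.normalizer (K : Set G))),
      sig K (k : ↥(Subgroup.normalizer (K : Set G))) = sig K 1 := by
    intro k
    rw [sig_apply_one]
    unfold sig
    rw [Cfsg.Agent.Lib.Helper10.indFun_apply_of_normal]
    simp only [Finset.sum_const, Finset.card_univ, nsmul_eq_mul, mul_one]
    rw [← Nat.card_eq_fintype_card]
  simp only [h1, Finset.sum_const, Finset.card_univ, nsmul_eq_mul]
  rw [← Nat.card_eq_fintype_card]
  have h0 : (Nat.card ↥(K.subgroupOf (Subgroup.normalizer (K : Set G))) : ℂ) ≠ 0 :=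
    Nat.cast_ne_zero.mpr Nat.card_pos.ne'
  field_simp

omit [Fintype G] in
theorem sig_apply_one' : sig K 1 =
    ((K.subgroupOf (Subgroup.normalizer (K : Set G))).index : ℂ) := by
  rw [sig_apply_one]
  have h1 := Subgroup.card_mul_index (K.subgroupOf (Subgroup.normalizer (K : Set G)))
  have h0 : (Nat.card ↥(K.subgroupOf (Subgroup.normalizer (K : Set G))) : ℂ) ≠ 0 :=
    Nat.cast_ne_zero.mpr Nat.card_pos.ne'
  rw [← h1]
  push_cast
  field_simp

/-- relevance of an irreducible character of `N` -/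
def Rel (τ : IrrCharacter ↥(Subgroup.normalizer (K : Set G))) : Prop :=
  ∃ k : ↥(Subgroup.normalizer (K : Set G)), (k : G) ∈ K ∧
    (τ : ↥(Subgroup.normalizer (K : Set G)) → ℂ) k ≠ (τ : ↥(Subgroup.normalizer (K : Set G)) → ℂ) 1

/-- degree formula: `ψ(1) = e * Σ_{τ relevant} ⟨ψ, τ⟩ + ⟨ψ, σ⟩` -/
theorem apply_one_eq
    (hC : ∀ k ∈ K, k ≠ 1 → Subgroup.centralizer ({k} : Set G) ≤ K)
    (hab : ∀ a ∈ K, ∀ b ∈ K, a * b = b * a)
    [Fintype (IrrCharacter ↥(Subgroup.normalizer (K : Set G)))] [DecidablePred (Rel K)]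
    (ψ : ↥(Subgroup.normalizer (K : Set G)) → ℂ)
    (hψ : IsClassFunction ↥(Subgroup.normalizer (K : Set G)) ψ) :
    ψ 1 = sig K 1 * ∑ τ ∈ Finset.univ.filter (Rel K),
        classInner ψ (τ : ↥(Subgroup.normalizer (K : Set G)) → ℂ) + classInner ψ (sig K) := by
  have hdec := classFunction_eq_sum hψ
  have h1 : ψ 1 = ∑ τ : IrrCharacter ↥(Subgroup.normalizer (K : Set G)),
      classInner ψ (τ : ↥(Subgroup.normalizer (K : Set G)) → ℂ) *
        (τ : ↥(Subgroup.normalizer (K : Set G)) → ℂ) 1 := by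
    have := congrFun hdec 1
    rw [Finset.sum_apply] at this
    simpa only [Pi.smul_apply, smul_eq_mul] using this
  have h2 : classInner ψ (sig K) = ∑ τ : IrrCharacter ↥(Subgroup.normalizer (K : Set G)),
      classInner ψ (τ : ↥(Subgroup.normalizer (K : Set G)) → ℂ) *
        classInner (τ : ↥(Subgroup.normalizer (K : Set G)) → ℂ) (sig K) := by
    conv_lhs => rw [hdec]
    rw [Cfsg.Agent.Lib.Helper10.classInner_sum_left]
    apply Finset.sum_congr rfl
    intro τ _
    rw [Cfsg.Agent.Lib.Helper10.classInner_smul_left]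
  rw [h1, h2, ← Finset.sum_filter_add_sum_filter_not Finset.univ (Rel K)
      (fun τ => classInner ψ (τ : ↥(Subgroup.normalizer (K : Set G)) → ℂ) *
        (τ : ↥(Subgroup.normalizer (K : Set G)) → ℂ) 1),
    ← Finset.sum_filter_add_sum_filter_not Finset.univ (Rel K)
      (fun τ => classInner ψ (τ : ↥(Subgroup.normalizer (K : Set G)) → ℂ) *
        classInner (τ : ↥(Subgroup.normalizer (K : Set G)) → ℂ) (sig K))]
  have e1 : ∑ τ ∈ Finset.univ.filter (Rel K),
      classInner ψ (τ : ↥(Subgroup.normalizer (K : Set G)) → ℂ) *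
        (τ : ↥(Subgroup.normalizer (K : Set G)) → ℂ) 1 =
      sig K 1 * ∑ τ ∈ Finset.univ.filter (Rel K),
        classInner ψ (τ : ↥(Subgroup.normalizer (K : Set G)) → ℂ) := by
    rw [Finset.mul_sum]
    apply Finset.sum_congr rfl
    intro τ hτ
    have hrel : Rel K τ := (Finset.mem_filter.mp hτ).2
    rw [tifrob_degree_of_comm K hC hab _ τ.2 hrel, sig_apply_one, mul_comm]
  have e2 : ∑ τ ∈ Finset.univ.filter (Rel K),
      classInner ψ (τ : ↥(Subgroup.normalizer (K : Set G)) → ℂ) *
        classInner (τ : ↥(Subgroup.normalizer (K : Set G)) → ℂ) (sig K) = 0 := by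
    apply Finset.sum_eq_zero
    intro τ hτ
    have hrel : Rel K τ := (Finset.mem_filter.mp hτ).2
    rw [classInner_sig_of_rel K hC _ τ.2 hrel, mul_zero]
  have e3 : ∑ τ ∈ Finset.univ.filter (fun τ => ¬ Rel K τ),
      classInner ψ (τ : ↥(Subgroup.normalizer (K : Set G)) → ℂ) *
        classInner (τ : ↥(Subgroup.normalizer (K : Set G)) → ℂ) (sig K) =
      ∑ τ ∈ Finset.univ.filter (fun τ => ¬ Rel K τ),
      classInner ψ (τ : ↥(Subgroup.normalizer (K : Set G)) → ℂ) *
        (τ : ↥(Subgroup.normalizer (K : Set G)) → ℂ) 1 := by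
    apply Finset.sum_congr rfl
    intro τ hτ
    have hrel : ¬ Rel K τ := (Finset.mem_filter.mp hτ).2
    rw [classInner_sig_of_not_rel K _ τ.2 hrel]
  rw [e1, e2, e3, zero_add]

/-- the number of relevant irreducible characters -/
theorem card_rel
    (hC : ∀ k ∈ K, k ≠ 1 → Subgroup.centralizer ({k} : Set G) ≤ K)
    (hab : ∀ a ∈ K, ∀ b ∈ K, a * b = b * a)
    [Fintype (IrrCharacter ↥(Subgroup.normalizer (K : Set G)))] [DecidablePred (Rel K)] :
    Nat.card K = (K.subgroupOf (Subgroup.normalizer (K : Set G))).index *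
      (Finset.univ.filter (Rel K)).card + 1 := by
  classical
  have hreg : IsCharacter ↥(Subgroup.normalizer (K : Set G))
      (Representation.leftRegular ℂ ↥(Subgroup.normalizer (K : Set G))).character :=
    isCharacter_of_rep _
  have hL := apply_one_eq K hC hab _ (IsCharacter.isClassFunction hreg)
  rw [classInner_leftRegular (sig_isCharacter K), leftRegular_character, if_pos rfl] at hL
  have h1 : ∑ τ ∈ Finset.univ.filter (Rel K),
      classInner (Representation.leftRegular ℂ ↥(Subgroup.normalizer (K : Set G))).character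
        (τ : ↥(Subgroup.normalizer (K : Set G)) → ℂ) =
      ((Finset.univ.filter (Rel K)).card : ℂ) * sig K 1 := by
    rw [← nsmul_eq_mul, ← Finset.sum_const]
    apply Finset.sum_congr rfl
    intro τ hτ
    have hrel : Rel K τ := (Finset.mem_filter.mp hτ).2
    rw [classInner_leftRegular (IsIrrCharacter.isCharacter τ.2),
      tifrob_degree_of_comm K hC hab _ τ.2 hrel, sig_apply_one]
  rw [h1, sig_apply_one'] at hL
  have h2 := Subgroup.card_mul_index (K.subgroupOf (Subgroup.normalizer (K : Set G)))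
  have hcard : Nat.card (K.subgroupOf (Subgroup.normalizer (K : Set G))) = Nat.card K :=
    Nat.card_congr (Subgroup.subgroupOfEquivOfLe Subgroup.le_normalizer).toEquiv
  rw [hcard] at h2
  have he0 : (K.subgroupOf (Subgroup.normalizer (K : Set G))).index ≠ 0 :=
    Subgroup.index_ne_zero_of_finite
  have h3 : Nat.card K * (K.subgroupOf (Subgroup.normalizer (K : Set G))).index =
      ((K.subgroupOf (Subgroup.normalizer (K : Set G))).index *
        (Finset.univ.filter (Rel K)).card + 1) *
        (K.subgroupOf (Subgroup.normalizer (K : Set G))).index := by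
    have h4 : ((Nat.card K * (K.subgroupOf (Subgroup.normalizer (K : Set G))).index : ℕ) : ℂ) =
        ((((K.subgroupOf (Subgroup.normalizer (K : Set G))).index *
        (Finset.univ.filter (Rel K)).card + 1) *
        (K.subgroupOf (Subgroup.normalizer (K : Set G))).index : ℕ) : ℂ) := by
      rw [h2, hL]
      push_cast
      ring
    exact_mod_cast h4
  exact Nat.eq_of_mul_eq_mul_right (Nat.pos_of_ne_zero he0) h3

/-- the norm bound for a relevant character -/
theorem rel_bound
    (hC : ∀ k ∈ K, k ≠ 1 → Subgroup.centralizer ({k} : Set G) ≤ K)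
    (hTI : ∀ g : G, g ∉ Subgroup.normalizer (K : Set G) → ∀ k ∈ K, g * k * g⁻¹ ∈ K → k = 1)
    (hab : ∀ a ∈ K, ∀ b ∈ K, a * b = b * a)
    {χ : G → ℂ} (hχ : IsIrrCharacter G χ) (hχ1 : χ ≠ 1)
    (τ : ↥(Subgroup.normalizer (K : Set G)) → ℂ)
    (hτ : IsIrrCharacter ↥(Subgroup.normalizer (K : Set G)) τ)
    (hrel : ∃ k : ↥(Subgroup.normalizer (K : Set G)), (k : G) ∈ K ∧ τ k ≠ τ 1)
    (r m : ℕ)
    (hr : classInner (fun n : ↥(Subgroup.normalizer (K : Set G)) => χ n) (sig K) = r)
    (hm : classInner (fun n : ↥(Subgroup.normalizer (K : Set G)) => χ n) τ = m) :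
    ((r : ℝ) - m) ^ 2 ≤ (K.subgroupOf (Subgroup.normalizer (K : Set G))).index := by
  classical
  have hτc := IsCharacter.isClassFunction (IsIrrCharacter.isCharacter hτ)
  have hσc := IsCharacter.isClassFunction (sig_isCharacter K)
  have hαc : IsClassFunction ↥(Subgroup.normalizer (K : Set G)) (sig K - τ) :=
    IsClassFunction.sub hσc hτc
  have hαv : ∀ x : ↥(Subgroup.normalizer (K : Set G)), (x : G) ∉ ((K : Subgroup G) : Set G) →
      (sig K - τ) x = 0 := by
    intro x hx
    rw [Pi.sub_apply, sig_apply_not_mem K x hx, tifrob_vanish K hC τ hτ hrel x hx, sub_zero]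
  have hα1 : (sig K - τ) 1 = 0 := by
    rw [Pi.sub_apply, tifrob_degree_of_comm K hC hab τ hτ hrel, sig_apply_one, sub_self]
  have hnorm := classInner_indFun_ti ((K : Subgroup G) : Set G) hTI (sig K - τ) (sig K - τ) hαc
    hαv hαv hα1
  have hστ : classInner (sig K) τ = 0 := by
    rw [Cfsg.Agent.Lib.Helper10.classInner_conj_symm, classInner_sig_of_rel K hC τ hτ hrel, map_zero]
  have hnorm2 : classInner (sig K - τ) (sig K - τ) =
      (((K.subgroupOf (Subgroup.normalizer (K : Set G))).index + 1 : ℝ) : ℂ) := by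
    simp only [Cfsg.Agent.Lib.Helper10.classInner_sub_left,
      Cfsg.Agent.Lib.Helper10.classInner_sub_right]
    rw [classInner_sig_sig, sig_apply_one', hστ, classInner_sig_of_rel K hC τ hτ hrel,
      Cfsg.Agent.Lib.Helper10.classInner_irr_self hτ]
    push_cast
    ring
  -- inner product with the principal character
  have h1N : IsIrrCharacter ↥(Subgroup.normalizer (K : Set G))
      (1 : ↥(Subgroup.normalizer (K : Set G)) → ℂ) := isIrrCharacter_one
  have hone : classInner (indFun (Subgroup.normalizer ((K : Subgroup G) : Set G)) (sig K - τ))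
      (1 : G → ℂ) = ((1 : ℝ) : ℂ) := by
    rw [frobenius_reciprocity _ _ (IsCharacter.isClassFunction
      (IsIrrCharacter.isCharacter (isIrrCharacter_one (G := G))))]
    have h2 : (fun h : ↥(Subgroup.normalizer ((K : Subgroup G) : Set G)) => (1 : G → ℂ) h) =
        (1 : ↥(Subgroup.normalizer (K : Set G)) → ℂ) := rfl
    rw [h2, Cfsg.Agent.Lib.Helper10.classInner_sub_left]
    have h3 : classInner (sig K) (1 : ↥(Subgroup.normalizer (K : Set G)) → ℂ) = 1 := by
      rw [Cfsg.Agent.Lib.Helper10.classInner_conj_symm, classInner_sig_of_not_rel K _ h1N]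
      · simp
      · rintro ⟨k, -, hk⟩
        exact hk rfl
    have h4 : classInner τ (1 : ↥(Subgroup.normalizer (K : Set G)) → ℂ) = 0 := by
      rw [classInner_irr hτ h1N, if_neg]
      intro h5
      obtain ⟨k, -, hk⟩ := hrel
      apply hk
      rw [h5]
      rfl
    rw [h3, h4]
    simp
  have hchi : classInner (indFun (Subgroup.normalizer ((K : Subgroup G) : Set G)) (sig K - τ))
      χ = (((r : ℝ) - m : ℝ) : ℂ) := by
    rw [frobenius_reciprocity _ _ (IsCharacter.isClassFunction (IsIrrCharacter.isCharacter hχ)),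
      Cfsg.Agent.Lib.Helper10.classInner_sub_left]
    have h6 : classInner (sig K) (fun h : ↥(Subgroup.normalizer ((K : Subgroup G) : Set G)) => χ h) =
        r := by
      rw [Cfsg.Agent.Lib.Helper10.classInner_conj_symm, hr, Complex.conj_natCast]
    have h7 : classInner τ (fun h : ↥(Subgroup.normalizer ((K : Subgroup G) : Set G)) => χ h) =
        m := by
      rw [Cfsg.Agent.Lib.Helper10.classInner_conj_symm, hm, Complex.conj_natCast]
    rw [h6, h7]
    push_cast
    ring
  have h11 : classInner (1 : G → ℂ) (1 : G → ℂ) = 1 :=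
    Cfsg.Agent.Lib.Helper10.classInner_irr_self isIrrCharacter_one
  have h22 : classInner χ χ = 1 := Cfsg.Agent.Lib.Helper10.classInner_irr_self hχ
  have h12 : classInner (1 : G → ℂ) χ = 0 := by
    rw [classInner_irr isIrrCharacter_one hχ, if_neg]
    exact fun h => hχ1 h.symm
  have hb := bessel_two _ (1 : G → ℂ) χ h11 h22 h12 1 ((r : ℝ) - m)
    (((K.subgroupOf (Subgroup.normalizer (K : Set G))).index : ℝ) + 1) hone hchi
    (by rw [hnorm, hnorm2])
  linarith

/-- `⟨ψ, σ⟩` in terms of the irrelevant constituents -/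
theorem classInner_sig_eq
    (hC : ∀ k ∈ K, k ≠ 1 → Subgroup.centralizer ({k} : Set G) ≤ K)
    [Fintype (IrrCharacter ↥(Subgroup.normalizer (K : Set G)))] [DecidablePred (Rel K)]
    (ψ : ↥(Subgroup.normalizer (K : Set G)) → ℂ)
    (hψ : IsClassFunction ↥(Subgroup.normalizer (K : Set G)) ψ) :
    classInner ψ (sig K) = ∑ τ ∈ Finset.univ.filter (fun τ => ¬ Rel K τ),
      classInner ψ (τ : ↥(Subgroup.normalizer (K : Set G)) → ℂ) *
        (τ : ↥(Subgroup.normalizer (K : Set G)) → ℂ) 1 := by
  have hdec := classFunction_eq_sum hψ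
  have h2 : classInner ψ (sig K) = ∑ τ : IrrCharacter ↥(Subgroup.normalizer (K : Set G)),
      classInner ψ (τ : ↥(Subgroup.normalizer (K : Set G)) → ℂ) *
        classInner (τ : ↥(Subgroup.normalizer (K : Set G)) → ℂ) (sig K) := by
    conv_lhs => rw [hdec]
    rw [Cfsg.Agent.Lib.Helper10.classInner_sum_left]
    apply Finset.sum_congr rfl
    intro τ _
    rw [Cfsg.Agent.Lib.Helper10.classInner_smul_left]
  rw [h2, ← Finset.sum_filter_add_sum_filter_not Finset.univ (Rel K)
      (fun τ => classInner ψ (τ : ↥(Subgroup.normalizer (K : Set G)) → ℂ) *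
        classInner (τ : ↥(Subgroup.normalizer (K : Set G)) → ℂ) (sig K))]
  have e2 : ∑ τ ∈ Finset.univ.filter (Rel K),
      classInner ψ (τ : ↥(Subgroup.normalizer (K : Set G)) → ℂ) *
        classInner (τ : ↥(Subgroup.normalizer (K : Set G)) → ℂ) (sig K) = 0 := by
    apply Finset.sum_eq_zero
    intro τ hτ
    have hrel : Rel K τ := (Finset.mem_filter.mp hτ).2
    rw [classInner_sig_of_rel K hC _ τ.2 hrel, mul_zero]
  rw [e2, zero_add]
  apply Finset.sum_congr rfl
  intro τ hτ
  have hrel : ¬ Rel K τ := (Finset.mem_filter.mp hτ).2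
  rw [classInner_sig_of_not_rel K _ τ.2 hrel]

/-- **Main result**: an irreducible character of degree `|K| - 1` vanishes on `N ∖ K`. -/
theorem vanish_off
    (hC : ∀ k ∈ K, k ≠ 1 → Subgroup.centralizer ({k} : Set G) ≤ K)
    (hTI : ∀ g : G, g ∉ Subgroup.normalizer (K : Set G) → ∀ k ∈ K, g * k * g⁻¹ ∈ K → k = 1)
    (hab : ∀ a ∈ K, ∀ b ∈ K, a * b = b * a)
    (he : 2 ≤ (K.subgroupOf (Subgroup.normalizer (K : Set G))).index)
    {χ : G → ℂ} (hχ : IsIrrCharacter G χ) (hχ1 : χ ≠ 1) (d : ℕ) (hd : χ 1 = d)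
    (hdK : d + 1 = Nat.card K)
    (n : ↥(Subgroup.normalizer (K : Set G))) (hn : (n : G) ∉ K) : χ n = 0 := by
  classical
  let _ := fintypeIrr ↥(Subgroup.normalizer (K : Set G))
  set e := (K.subgroupOf (Subgroup.normalizer (K : Set G))).index with he_def
  have hξ : IsCharacter ↥(Subgroup.normalizer (K : Set G))
      (fun n : ↥(Subgroup.normalizer (K : Set G)) => χ n) :=
    isCharacter_resFun (Subgroup.normalizer (K : Set G)) (IsIrrCharacter.isCharacter hχ)
  have hξc := IsCharacter.isClassFunction hξ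
  obtain ⟨r, hr⟩ := IsCharacter.classInner_nat hξ (sig_isCharacter K)
  have hm : ∀ τ : IrrCharacter ↥(Subgroup.normalizer (K : Set G)), ∃ m : ℕ,
      classInner (fun n : ↥(Subgroup.normalizer (K : Set G)) => χ n)
        (τ : ↥(Subgroup.normalizer (K : Set G)) → ℂ) = m :=
    fun τ => IsCharacter.classInner_nat hξ (IsIrrCharacter.isCharacter τ.2)
  choose m hm using hm
  have hdeg : ∀ τ : IrrCharacter ↥(Subgroup.normalizer (K : Set G)), ∃ dτ : ℕ, 0 < dτ ∧
      (τ : ↥(Subgroup.normalizer (K : Set G)) → ℂ) 1 = dτ :=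
    fun τ => IsIrrCharacter.apply_one_pos τ.2
  choose dτ hdτ0 hdτ using hdeg
  -- the degree equation
  have hL := apply_one_eq K hC hab _ hξc
  have hL' : d = e * ∑ τ ∈ Finset.univ.filter (Rel K), m τ + r := by
    have h1 : ((d : ℕ) : ℂ) = ((e * ∑ τ ∈ Finset.univ.filter (Rel K), m τ + r : ℕ) : ℂ) := by
      have h2 : χ ((1 : ↥(Subgroup.normalizer (K : Set G))) : G) = d := hd
      rw [h2, hr, sig_apply_one'] at hL
      rw [hL]
      push_cast
      congr 2
      apply Finset.sum_congr rfl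
      intro τ _
      exact hm τ
    exact_mod_cast h1
  have hcard := card_rel K hC hab
  rw [← hdK, ← he_def] at hcard
  have hkey : e * (Finset.univ.filter (Rel K)).card =
      e * ∑ τ ∈ Finset.univ.filter (Rel K), m τ + r := by omega
  -- `r = 0`
  have hr0 : r = 0 := by
    by_contra hrne
    have hrpos : 0 < r := Nat.pos_of_ne_zero hrne
    have hdvd : e ∣ r := by
      have h1 : e ∣ e * ∑ τ ∈ Finset.univ.filter (Rel K), m τ + r := by
        rw [← hkey]
        exact dvd_mul_right _ _
      exact (Nat.dvd_add_right (dvd_mul_right _ _)).mp h1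
    have her : e ≤ r := Nat.le_of_dvd hrpos hdvd
    have hall : ∀ τ ∈ Finset.univ.filter (Rel K), 1 ≤ m τ := by
      intro τ hτ
      have hrel : Rel K τ := (Finset.mem_filter.mp hτ).2
      by_contra hlt
      have hm0 : m τ = 0 := by omega
      have hb := rel_bound K hC hTI hab hχ hχ1 _ τ.2 hrel r (m τ) hr (hm τ)
      rw [hm0] at hb
      have h2 : ((r : ℝ)) ^ 2 ≤ r := by
        have h3 : (e : ℝ) ≤ r := by exact_mod_cast her
        have h4 : ((r : ℝ) - ((0 : ℕ) : ℝ)) ^ 2 = (r : ℝ) ^ 2 := by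
          simp
        rw [h4] at hb
        linarith
      have h5 : r ^ 2 ≤ r := by exact_mod_cast h2
      have h6 : r ≤ 1 := by nlinarith
      omega
    have hsum : (Finset.univ.filter (Rel K)).card ≤ ∑ τ ∈ Finset.univ.filter (Rel K), m τ := by
      have := Finset.card_nsmul_le_sum (Finset.univ.filter (Rel K)) m 1 hall
      simpa using this
    have := Nat.mul_le_mul_left e hsum
    omega
  -- the irrelevant multiplicities vanish
  have hirr : ∀ τ : IrrCharacter ↥(Subgroup.normalizer (K : Set G)), ¬ Rel K τ → m τ = 0 := by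
    have hs := classInner_sig_eq K hC _ hξc
    rw [hr, hr0] at hs
    have hs' : ∑ τ ∈ Finset.univ.filter (fun τ => ¬ Rel K τ), m τ * dτ τ = 0 := by
      have h1 : ((∑ τ ∈ Finset.univ.filter (fun τ => ¬ Rel K τ), m τ * dτ τ : ℕ) : ℂ) =
          ((0 : ℕ) : ℂ) := by
        rw [hs]
        push_cast
        apply Finset.sum_congr rfl
        intro τ _
        rw [hm τ, hdτ τ]
      exact_mod_cast h1
    intro τ hτ
    have h2 := (Finset.sum_eq_zero_iff.mp hs') τ (Finset.mem_filter.mpr ⟨Finset.mem_univ _, hτ⟩)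
    rcases Nat.mul_eq_zero.mp h2 with h | h
    · exact h
    · exact absurd h (hdτ0 τ).ne'
  -- conclusion
  have hdec := congrFun (classFunction_eq_sum hξc) n
  rw [Finset.sum_apply] at hdec
  rw [hdec]
  apply Finset.sum_eq_zero
  intro τ _
  rw [Pi.smul_apply, smul_eq_mul]
  by_cases hrel : Rel K τ
  · rw [tifrob_vanish K hC _ τ.2 hrel n hn, mul_zero]
  · rw [hm τ, hirr τ hrel]
    simp

end main

end Cfsg.Agent.Lib.Helper2.SelfCent
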