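import Cfsg.Agent.Lib.Helper26.FSCyclicExt
import Cfsg.Agent.Lib.Helper26.FSInvariantFrattini
import Cfsg.Agent.Lib.Helper27.FSSubgroupSat

/-!
helper2: a normal subgroup `N` of a finite group `G` realizing a fusion system `F` (through `ι : S →* G`, image Sylow)
gives a normal subsystem of `F` over the preimage of `N` (the transported form of S5118). Part A: the subsystem, its
saturation, invariance.
-/

set_option autoImplicit false
set_option linter.unusedSectionVars false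
set_option linter.unusedVariables false

namespace Cfsg.Agent.Lib.Helper2.SimpleReal

open Cfsg Cfsg.FusionSystem Cfsg.Agent.Lib.Helper26 Cfsg.Agent.Lib.Helper27

variable {Ω : Type*} [Group Ω] {S : Subgroup Ω} {G : Type*} [Group G]

/-! ### Pulling back a conjugation of `G` to a homomorphism into `Ω` -/

section PullHom

variable (ι : S →* G) (hinj : Function.Injective ι)

/-- For `P ≤ S` and `m : G` conjugating `ι(P)` into `ι(S)`, the homomorphism `P →* Ω` that reads through `ι` as conjugation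
by `m`. -/
noncomputable def pullHom {P : Subgroup Ω} (hP : P ≤ S) (m : G)
    (h : ∀ x : P, m * ι ⟨x, hP x.2⟩ * m⁻¹ ∈ ι.range) : P →* Ω :=
  (realInv ι hinj).comp
    (((MulAut.conj m).toMonoidHom.comp (ι.comp (Subgroup.inclusion hP))).codRestrict ι.range h)

theorem pullHom_mem {P : Subgroup Ω} (hP : P ≤ S) (m : G)
    (h : ∀ x : P, m * ι ⟨x, hP x.2⟩ * m⁻¹ ∈ ι.range) (x : P) : pullHom ι hinj hP m h x ∈ S :=
  realInv_mem ι hinj _

theorem ι_pullHom {P : Subgroup Ω} (hP : P ≤ S) (m : G)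
    (h : ∀ x : P, m * ι ⟨x, hP x.2⟩ * m⁻¹ ∈ ι.range) (x : P) :
    ι ⟨pullHom ι hinj hP m h x, pullHom_mem ι hinj hP m h x⟩ = m * ι ⟨x, hP x.2⟩ * m⁻¹ :=
  ι_realInv ι hinj _

end PullHom

/-! ### The subsystem of a subgroup -/

section SubSys

variable (ι : S →* G) (hinj : Function.Injective ι) (N : Subgroup G)

/-- `ι` restricted to the preimage of `N`, with values in `N`. -/
def subι : ↥(pullSub ι N) →* ↥N :=
  MonoidHom.codRestrict (ι.comp (Subgroup.inclusion (pullSub_le ι N))) N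
    (fun y => (mem_pullSub ι N ⟨y, pullSub_le ι N y.2⟩).mp y.2)

theorem subι_coe (y : ↥(pullSub ι N)) : ((subι ι N y : ↥N) : G) = ι ⟨y, pullSub_le ι N y.2⟩ := rfl

include hinj in
theorem subι_injective : Function.Injective (subι ι N) := by
  intro a b hab
  have h1 : ι ⟨a, pullSub_le ι N a.2⟩ = ι ⟨b, pullSub_le ι N b.2⟩ := congrArg Subtype.val hab
  have h2 := hinj h1
  exact Subtype.ext (Subtype.mk_eq_mk.mp h2)

/-- The fusion system over the preimage of `N` in `S` whose maps are the conjugations by elements of `N`. -/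
noncomputable def subSys : FusionSystem (pullSub ι N) := realizedSystem (subι ι N) (subι_injective ι hinj N)

theorem mem_subSys_iff {P : Subgroup Ω} (φ : P →* Ω) :
    φ ∈ (subSys ι hinj N).Hom P ↔ ∃ (hP : P ≤ pullSub ι N) (hφ : ∀ x : P, φ x ∈ pullSub ι N), ∃ n ∈ N,
      ∀ x : P, ι ⟨φ x, pullSub_le ι N (hφ x)⟩ = n * ι ⟨x, pullSub_le ι N (hP x.2)⟩ * n⁻¹ := by
  constructor
  · rintro ⟨hP, hφ, n, hn⟩
    refine ⟨hP, hφ, n, n.2, fun x => ?_⟩
    have := congrArg Subtype.val (hn x)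
    exact this
  · rintro ⟨hP, hφ, n, hnN, hn⟩
    refine ⟨hP, hφ, ⟨n, hnN⟩, fun x => Subtype.ext ?_⟩
    exact hn x

theorem subSys_isRealizedBy : (subSys ι hinj N).IsRealizedBy (subι ι N) :=
  realizedSystem_isRealizedBy _ _

theorem subι_range : (subι ι N).range = (ι.range ⊓ N).subgroupOf N := by
  ext ⟨y, hy⟩
  rw [Subgroup.mem_subgroupOf]
  constructor
  · rintro ⟨s, hs⟩
    have h1 : ι ⟨s, pullSub_le ι N s.2⟩ = y := congrArg Subtype.val hs
    exact ⟨⟨_, h1⟩, hy⟩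
  · rintro ⟨⟨s, hs⟩, -⟩
    have hs' : (s : Ω) ∈ pullSub ι N := (mem_pullSub ι N s).mpr (by rw [hs]; exact hy)
    exact ⟨⟨s, hs'⟩, Subtype.ext hs⟩

theorem subSys_saturated [Finite S] [Finite G] (p : ℕ) [Fact p.Prime] [N.Normal] (T : Sylow p G)
    (hT : (T : Subgroup G) = ι.range) : (subSys ι hinj N).IsSaturated p := by
  obtain ⟨R, hR⟩ := sylowIn_inf_of_normal T N
  have : Finite ↥(pullSub ι N) := Finite.of_injective (Subgroup.inclusion (pullSub_le ι N))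
    (Subgroup.inclusion_injective _)
  refine realizedSystem_saturated p (subι ι N) (subι_injective ι hinj N) R ?_
  rw [hR, hT, subι_range]

theorem subSys_isSubsystemOf (F : FusionSystem S) (hreal : F.IsRealizedBy ι) :
    (subSys ι hinj N).IsSubsystemOf F := by
  intro P φ hφ
  obtain ⟨hP, hφT, n, -, hn⟩ := (mem_subSys_iff ι hinj N φ).mp hφ
  exact (hreal.2 P (hP.trans (pullSub_le ι N)) φ (fun x => pullSub_le ι N (hφT x))).mpr ⟨n, hn⟩

theorem pullSub_stronglyClosed (F : FusionSystem S) (hreal : F.IsRealizedBy ι) [hN : N.Normal] :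
    F.StronglyClosed (pullSub ι N) := by
  refine ⟨pullSub_le ι N, fun R hR φ hφ x => ?_⟩
  have hRS : R ≤ S := hR.trans (pullSub_le ι N)
  have hφS : ∀ x : R, φ x ∈ S := fun x => hom_apply_mem F hφ x
  obtain ⟨g, hg⟩ := (hreal.2 R hRS φ hφS).mp hφ
  refine (mem_pullSub ι N ⟨φ x, hφS x⟩).mpr ?_
  rw [hg x]
  exact hN.conj_mem _ ((mem_pullSub ι N ⟨x, hRS x.2⟩).mp (hR x.2)) g

theorem subSys_strongInv (F : FusionSystem S) (hreal : F.IsRealizedBy ι) [hN : N.Normal] :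
    StrongInv (subSys ι hinj N) F := by
  intro P Q hPQ hQT φ hφ hφQ ψ hψ
  have hTS := pullSub_le ι N
  have hQS : Q ≤ S := hQT.trans hTS
  have hPS : P ≤ S := hPQ.trans hQS
  have hψS : ∀ y : Q, ψ y ∈ S := fun y => hom_apply_mem F hψ y
  obtain ⟨g, hg⟩ := (hreal.2 Q hQS ψ hψS).mp hψ
  obtain ⟨hP, hφT, n, hnN, hn⟩ := (mem_subSys_iff ι hinj N φ).mp hφ
  have hSC := pullSub_stronglyClosed ι N F hreal
  -- the image `ψ(P)`
  have hP'T : (P.subgroupOf Q).map ψ ≤ pullSub ι N := by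
    rintro _ ⟨y, -, rfl⟩
    exact hSC.2 Q hQT ψ hψ y
  have hP'S : (P.subgroupOf Q).map ψ ≤ S := hP'T.trans hTS
  have hsurj : ∀ z : ((P.subgroupOf Q).map ψ : Subgroup Ω), ∃ x : P, ψ (Subgroup.inclusion hPQ x) = z := by
    rintro ⟨_, y, hy, rfl⟩
    exact ⟨⟨y, hy⟩, rfl⟩
  have key : ∀ x : P, (g * n * g⁻¹) * ι ⟨ψ (Subgroup.inclusion hPQ x), hψS _⟩ * (g * n * g⁻¹)⁻¹ =
      ι ⟨ψ ⟨φ x, hφQ x⟩, hψS _⟩ := by
    intro x
    rw [hg, hg]
    have h1 : (⟨((⟨φ x, hφQ x⟩ : Q) : Ω), hQS (hφQ x)⟩ : S) = ⟨φ x, hTS (hφT x)⟩ := rfl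
    have h2 : (⟨((Subgroup.inclusion hPQ x : Q) : Ω), hQS (Subgroup.inclusion hPQ x).2⟩ : S) =
        ⟨x, hTS (hP x.2)⟩ := rfl
    rw [h1, h2, hn]
    group
  have hm : ∀ z : ((P.subgroupOf Q).map ψ : Subgroup Ω),
      (g * n * g⁻¹) * ι ⟨z, hP'S z.2⟩ * (g * n * g⁻¹)⁻¹ ∈ ι.range := by
    intro z
    obtain ⟨x, hx⟩ := hsurj z
    have h1 : (⟨(z : Ω), hP'S z.2⟩ : S) = ⟨ψ (Subgroup.inclusion hPQ x), hψS _⟩ := Subtype.ext hx.symm
    rw [h1, key x]
    exact ⟨_, rfl⟩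
  refine ⟨pullHom ι hinj hP'S (g * n * g⁻¹) hm, ?_, ?_⟩
  · rw [mem_subSys_iff]
    have hval : ∀ z : ((P.subgroupOf Q).map ψ : Subgroup Ω),
        pullHom ι hinj hP'S (g * n * g⁻¹) hm z ∈ pullSub ι N := by
      intro z
      refine (mem_pullSub ι N ⟨_, pullHom_mem ι hinj hP'S _ hm z⟩).mpr ?_
      rw [ι_pullHom]
      have h1 : ι ⟨z, hP'S z.2⟩ ∈ N := (mem_pullSub ι N ⟨z, hP'S z.2⟩).mp (hP'T z.2)
      exact hN.conj_mem _ h1 _
    refine ⟨hP'T, hval, g * n * g⁻¹, hN.conj_mem n hnN g, fun z => ?_⟩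
    exact ι_pullHom ι hinj hP'S _ hm z
  · intro x hx
    have h1 : ι ⟨pullHom ι hinj hP'S (g * n * g⁻¹) hm ⟨ψ (Subgroup.inclusion hPQ x), hx⟩,
        pullHom_mem ι hinj hP'S _ hm _⟩ = ι ⟨ψ ⟨φ x, hφQ x⟩, hψS _⟩ := by
      rw [ι_pullHom]
      exact key x
    exact congrArg Subtype.val (hreal.1 h1)

theorem subSys_isInvariantIn [Finite S] (p : ℕ) [Fact p.Prime] (hS : IsPGroup p S) (F : FusionSystem S)
    (hF : F.IsSaturated p) (hreal : F.IsRealizedBy ι) [hN : N.Normal] :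
    (subSys ι hinj N).IsInvariantIn F :=
  (isInvariantIn_iff_strongInv p hS F hF (subSys ι hinj N) (subSys_isSubsystemOf ι hinj N F hreal)
    (pullSub_stronglyClosed ι N F hreal)).mpr (subSys_strongInv ι hinj N F hreal)

end SubSys

end Cfsg.Agent.Lib.Helper2.SimpleReal
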