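import Cfsg.Agent.Lib.Helper2.SimpleRealA

/-!
helper2: normal subgroup gives normal subsystem, part B: the extension condition.
-/

set_option autoImplicit false
set_option linter.unusedSectionVars false
set_option linter.unusedVariables false

namespace Cfsg.Agent.Lib.Helper2.SimpleReal

open Cfsg Cfsg.FusionSystem Cfsg.Agent.Lib.Helper26 Cfsg.Agent.Lib.Helper27

open scoped Pointwise

section Core

variable {G : Type*} [Group G]

theorem conj_mem_centralizer_of_mem_normalizer {Q : Subgroup G} {y c : G}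
    (hy : y ∈ Subgroup.normalizer (Q : Set G)) (hc : c ∈ Subgroup.centralizer (Q : Set G)) :
    y * c * y⁻¹ ∈ Subgroup.centralizer (Q : Set G) :=
  (Subgroup.mem_normalizer_iff.mp (normalizer_le_normalizer_centralizer Q hy) c).mp hc

theorem le_normalizer_inf_normal (S0 N : Subgroup G) [hN : N.Normal] :
    S0 ≤ Subgroup.normalizer ((S0 ⊓ N : Subgroup G) : Set G) := by
  intro s hs
  rw [Subgroup.mem_normalizer_iff]
  intro x
  constructor
  · rintro ⟨hx1, hx2⟩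
    exact ⟨S0.mul_mem (S0.mul_mem hs hx1) (S0.inv_mem hs), hN.conj_mem x hx2 s⟩
  · rintro ⟨hx1, hx2⟩
    refine ⟨?_, ?_⟩
    · have := S0.mul_mem (S0.mul_mem (S0.inv_mem hs) hx1) hs
      simpa [mul_assoc] using this
    · have := hN.conj_mem _ hx2 s⁻¹
      simpa [mul_assoc] using this

/-- The group-theoretic core of the extension condition. -/
theorem exists_adjust [Finite G] {p : ℕ} [Fact p.Prime] (S0 N : Subgroup G) [hN : N.Normal]
    (hS0p : IsPGroup p S0) (hSyl : ∀ B : Subgroup G, IsPGroup p B → Nat.card B ≤ Nat.card S0)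
    (n : G) (hnN : n ∈ N) (hn : n ∈ Subgroup.normalizer ((S0 ⊓ N : Subgroup G) : Set G)) :
    ∃ a ∈ N ⊓ Subgroup.centralizer ((S0 ⊓ N : Subgroup G) : Set G),
      ∀ d ∈ S0 ⊓ Subgroup.centralizer ((S0 ⊓ N : Subgroup G) : Set G),
        (a * n) * d * (a * n)⁻¹ ∈ S0 ⊓ Subgroup.centralizer ((S0 ⊓ N : Subgroup G) : Set G) := by
  set T : Subgroup G := S0 ⊓ N with hT
  set C : Subgroup G := Subgroup.centralizer (T : Set G) with hC
  set A : Subgroup G := N ⊓ C with hA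
  set D : Subgroup G := S0 ⊓ C with hD
  set X : Subgroup G := S0 ⊔ A with hX
  have hS0T : S0 ≤ Subgroup.normalizer (T : Set G) := le_normalizer_inf_normal S0 N
  have hCT : C ≤ Subgroup.normalizer (T : Set G) := by
    intro c hc
    rw [Subgroup.mem_normalizer_iff]
    intro x
    constructor
    · intro hx
      have := (Subgroup.mem_centralizer_iff.mp hc) x hx
      rw [← this, mul_inv_cancel_right]
      exact hx
    · intro hx
      have h1 := (Subgroup.mem_centralizer_iff.mp hc) _ hx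
      have h2 : c * x * c⁻¹ * c = c * (c * x * c⁻¹) := h1
      have h3 : x = c * x * c⁻¹ := by
        have : c * x = c * (c * x * c⁻¹) := by rw [← h2]; group
        exact mul_left_cancel this
      rw [h3]
      exact hx
  have hXT : X ≤ Subgroup.normalizer (T : Set G) := sup_le hS0T (inf_le_right.trans hCT)
  -- `S0` normalizes `A`
  have hS0A : S0 ≤ Subgroup.normalizer (A : Set G) := by
    intro s hs
    apply mem_normalizer_of_conj_mem_finite
    rintro y ⟨hy1, hy2⟩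
    exact ⟨hN.conj_mem y hy1 s, conj_mem_centralizer_of_mem_normalizer (hS0T hs) hy2⟩
  have hXmul : ∀ x ∈ X, ∃ s ∈ S0, ∃ a ∈ A, x = s * a := by
    intro x hx
    have h1 : x ∈ ((S0 ⊔ A : Subgroup G) : Set G) := hx
    rw [Subgroup.coe_mul_of_left_le_normalizer_right S0 A hS0A] at h1
    obtain ⟨s, hs, a, ha, rfl⟩ := h1
    exact ⟨s, hs, a, ha, rfl⟩
  -- `S0` is Sylow in `X`
  have hSX : ∃ Q : Sylow p ↥X, (Q : Subgroup ↥X) = S0.subgroupOf X := by
    rw [sylowIn_iff_card (le_sup_left : S0 ≤ X)]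
    exact ⟨hS0p, fun B _ hB => hSyl B hB⟩
  -- the conjugate of `D`
  have hDp : IsPGroup p D := hS0p.to_le inf_le_left
  have hBp : IsPGroup p (D.map (MulAut.conj n).toMonoidHom) := isPGroup_map_conj hDp n
  have hcomm : ∀ d ∈ D, n * d * n⁻¹ * d⁻¹ ∈ A := by
    rintro d ⟨hd1, hd2⟩
    refine ⟨?_, ?_⟩
    · have h1 : d * n⁻¹ * d⁻¹ ∈ N := hN.conj_mem _ (N.inv_mem hnN) d
      have h2 := N.mul_mem hnN h1
      have h3 : n * (d * n⁻¹ * d⁻¹) = n * d * n⁻¹ * d⁻¹ := by group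
      rwa [h3] at h2
    · exact C.mul_mem (conj_mem_centralizer_of_mem_normalizer hn hd2) (C.inv_mem hd2)
  have hBX : D.map (MulAut.conj n).toMonoidHom ≤ X := by
    rintro _ ⟨d, hd, rfl⟩
    show n * d * n⁻¹ ∈ X
    have h1 : n * d * n⁻¹ = (n * d * n⁻¹ * d⁻¹) * d := by group
    rw [h1]
    exact X.mul_mem (Subgroup.mem_sup_right (hcomm d hd)) (Subgroup.mem_sup_left hd.1)
  have hBC : D.map (MulAut.conj n).toMonoidHom ≤ C := by
    rintro _ ⟨d, hd, rfl⟩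
    exact conj_mem_centralizer_of_mem_normalizer hn hd.2
  obtain ⟨x, hxX, hx⟩ := exists_conj_le_of_sylowIn hSX hBX hBp
  obtain ⟨s, hs, a, ha, rfl⟩ := hXmul x hxX
  refine ⟨a, ha, fun d hd => ?_⟩
  have h1 : (s * a) * (n * d * n⁻¹) * (s * a)⁻¹ ∈ S0 := hx ⟨_, ⟨d, hd, rfl⟩, rfl⟩
  have h2 : a * n * d * (a * n)⁻¹ = s⁻¹ * ((s * a) * (n * d * n⁻¹) * (s * a)⁻¹) * s := by group
  refine ⟨?_, ?_⟩
  · rw [h2]
    exact S0.mul_mem (S0.mul_mem (S0.inv_mem hs) h1) hs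
  · have h3 : a * n * d * (a * n)⁻¹ = a * (n * d * n⁻¹) * a⁻¹ := by group
    rw [h3]
    exact C.mul_mem (C.mul_mem ha.2 (conj_mem_centralizer_of_mem_normalizer hn hd.2)) (C.inv_mem ha.2)

end Core

section Ext

variable {Ω : Type*} [Group Ω] {S : Subgroup Ω} {G : Type*} [Group G]

/-- An element of `G` normalizing the image of `R ≤ S` induces an automorphism of `R` in the realized system. -/
theorem exists_aut_of_conj (F : FusionSystem S) (ι : S →* G) (hreal : F.IsRealizedBy ι) {R : Subgroup Ω} (hR : R ≤ S)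
    [Finite R] (g : G) (hg : ∀ x : R, g * ι ⟨x, hR x.2⟩ * g⁻¹ ∈ (R.subgroupOf S).map ι) :
    ∃ β ∈ F.autGroup R, ∀ x : R, ι ⟨((β x : R) : Ω), hR (β x).2⟩ = g * ι ⟨x, hR x.2⟩ * g⁻¹ := by
  have hinj := hreal.1
  have hm : ∀ x : R, g * ι ⟨x, hR x.2⟩ * g⁻¹ ∈ ι.range := by
    intro x
    obtain ⟨s, -, hs⟩ := hg x
    exact ⟨s, hs⟩
  set ψ : R →* Ω := pullHom ι hinj hR g hm with hψ
  have hψS : ∀ x : R, ψ x ∈ S := fun x => pullHom_mem ι hinj hR g hm x
  have hψι : ∀ x : R, ι ⟨ψ x, hψS x⟩ = g * ι ⟨x, hR x.2⟩ * g⁻¹ := fun x => ι_pullHom ι hinj hR g hm x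
  have hψR : ∀ x : R, ψ x ∈ R := by
    intro x
    obtain ⟨s, hs, hsx⟩ := hg x
    rw [← hψι x] at hsx
    have h1 := hinj hsx
    have h2 : (s : Ω) = ψ x := congrArg Subtype.val h1
    rw [← h2]
    exact hs
  have hinjψ : Function.Injective (ψ.codRestrict R hψR) := by
    intro x y hxy
    have h1 : ψ x = ψ y := congrArg (fun z : R => (z : Ω)) hxy
    have h2 : ι ⟨ψ x, hψS x⟩ = ι ⟨ψ y, hψS y⟩ := by
      congr 1
      exact Subtype.ext h1
    rw [hψι, hψι] at h2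
    have h3 : ι ⟨x, hR x.2⟩ = ι ⟨y, hR y.2⟩ := mul_left_cancel (mul_right_cancel h2)
    exact Subtype.ext (Subtype.mk_eq_mk.mp (hinj h3))
  have hbij : Function.Bijective (ψ.codRestrict R hψR) :=
    ⟨hinjψ, Finite.injective_iff_surjective.mp hinjψ⟩
  refine ⟨MulEquiv.ofBijective (ψ.codRestrict R hψR) hbij, ?_, fun x => hψι x⟩
  rw [mem_autGroup_iff F hR]
  exact (hreal.2 R hR _ (fun x => hψS x)).mpr ⟨g, fun x => hψι x⟩

variable (ι : S →* G) (hinj : Function.Injective ι) (N : Subgroup G)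

local notation "TT" => pullSub ι N

theorem subSys_extension [Finite S] [Finite G] (p : ℕ) [Fact p.Prime] [hN : N.Normal] (T₀ : Sylow p G)
    (hT₀ : (T₀ : Subgroup G) = ι.range) (F : FusionSystem S) (hreal : F.IsRealizedBy ι)
    (α : MulAut ↥(pullSub ι N)) (hα : α ∈ (subSys ι hinj N).autGroup (pullSub ι N)) :
    ∃ β ∈ F.autGroup (pullSub ι N ⊔ centralizerIn S (pullSub ι N)),
      (∀ x : ↥(pullSub ι N),
        ((β (Subgroup.inclusion le_sup_left x) : ↥(pullSub ι N ⊔ centralizerIn S (pullSub ι N))) : Ω) =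
          ((α x : ↥(pullSub ι N)) : Ω)) ∧
      ∀ c : ↥(pullSub ι N ⊔ centralizerIn S (pullSub ι N)), (c : Ω) ∈ centralizerIn S (pullSub ι N) →
        (c : Ω)⁻¹ * ((β c : ↥(pullSub ι N ⊔ centralizerIn S (pullSub ι N))) : Ω) ∈
          pullSub ι N ⊓ Subgroup.centralizer ((pullSub ι N : Subgroup Ω) : Set Ω) := by
  have hTS : pullSub ι N ≤ S := pullSub_le ι N
  set R : Subgroup Ω := TT ⊔ centralizerIn S TT with hRdef
  have hCS : centralizerIn S TT ≤ S := inf_le_left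
  have hRS : R ≤ S := sup_le hTS hCS
  -- `α` is conjugation by some `n ∈ N`
  rw [mem_autGroup_iff _ le_rfl, mem_subSys_iff] at hα
  obtain ⟨hαP, hαTT, n, hnN, hn⟩ := hα
  have hn' : ∀ x : TT, ι ⟨((α x : TT) : Ω), hTS (α x).2⟩ = n * ι ⟨x, hTS x.2⟩ * n⁻¹ := fun x => hn x
  -- translation between `TT` and `ι.range ⊓ N`
  have hmemT : ∀ y ∈ ι.range ⊓ N, ∃ t : TT, ι ⟨t, hTS t.2⟩ = y := by
    rintro y ⟨⟨s, rfl⟩, hy2⟩
    exact ⟨⟨s, (mem_pullSub ι N s).mpr hy2⟩, rfl⟩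
  have hTmem : ∀ t : TT, ι ⟨t, hTS t.2⟩ ∈ ι.range ⊓ N := fun t =>
    ⟨⟨_, rfl⟩, (mem_pullSub ι N ⟨t, hTS t.2⟩).mp t.2⟩
  have hnT : n ∈ Subgroup.normalizer ((ι.range ⊓ N : Subgroup G) : Set G) := by
    apply mem_normalizer_of_conj_mem_finite
    intro y hy
    obtain ⟨t, rfl⟩ := hmemT y hy
    rw [← hn' t]
    exact hTmem (α t)
  have hSyl : ∀ B : Subgroup G, IsPGroup p B → Nat.card B ≤ Nat.card ι.range := by
    intro B hB
    obtain ⟨x, hx⟩ := exists_conj_le_sylow T₀ hB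
    rw [← card_map_conj B x, ← hT₀]
    exact Subgroup.card_le_of_le hx
  have hrp : IsPGroup p ι.range := hT₀ ▸ T₀.isPGroup'
  obtain ⟨a, ha, had⟩ := exists_adjust ι.range N hrp hSyl n hnN hnT
  -- `g = a n` acts on `TT` as `n`
  have hgT : ∀ t : TT, (a * n) * ι ⟨t, hTS t.2⟩ * (a * n)⁻¹ = ι ⟨((α t : TT) : Ω), hTS (α t).2⟩ := by
    intro t
    have h1 : (a * n) * ι ⟨t, hTS t.2⟩ * (a * n)⁻¹ = a * (n * ι ⟨t, hTS t.2⟩ * n⁻¹) * a⁻¹ := by group
    rw [h1, ← hn' t]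
    have h2 := (Subgroup.mem_centralizer_iff.mp ha.2) _ (hTmem (α t))
    rw [← h2, mul_inv_cancel_right]
  -- centralizer translation
  have hCmem : ∀ (c : Ω) (hc : c ∈ centralizerIn S TT),
      ι ⟨c, hCS hc⟩ ∈ ι.range ⊓ Subgroup.centralizer ((ι.range ⊓ N : Subgroup G) : Set G) := by
    intro c hc
    refine Subgroup.mem_inf.mpr ⟨⟨_, rfl⟩, ?_⟩
    rw [Subgroup.mem_centralizer_iff]
    intro y hy
    obtain ⟨t, rfl⟩ := hmemT y hy
    have h1 : (t : Ω) * c = c * t := (Subgroup.mem_centralizer_iff.mp hc.2) t t.2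
    rw [← map_mul, ← map_mul]
    congr 1
    exact Subtype.ext h1
  have hmemC : ∀ (s : S), ι s ∈ Subgroup.centralizer ((ι.range ⊓ N : Subgroup G) : Set G) →
      (s : Ω) ∈ centralizerIn S TT := by
    intro s hs
    refine Subgroup.mem_inf.mpr ⟨s.2, ?_⟩
    rw [Subgroup.mem_centralizer_iff]
    intro t ht
    have h1 := (Subgroup.mem_centralizer_iff.mp hs) _ (hTmem ⟨t, ht⟩)
    rw [← map_mul, ← map_mul] at h1
    have h2 := hinj h1
    exact congrArg Subtype.val h2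
  have hgC : ∀ (c : Ω) (hc : c ∈ centralizerIn S TT), ∃ (c' : Ω) (hc' : c' ∈ centralizerIn S TT),
      ι ⟨c', hCS hc'⟩ = (a * n) * ι ⟨c, hCS hc⟩ * (a * n)⁻¹ := by
    intro c hc
    obtain ⟨⟨s, hs⟩, h2⟩ := had _ (hCmem c hc)
    have hsC : (s : Ω) ∈ centralizerIn S TT := hmemC s (by rw [hs]; exact h2)
    exact ⟨s, hsC, hs⟩
  -- `g` normalizes the image of `R`
  have hle : R ≤ pullSub ι (((R.subgroupOf S).map ι).comap (MulAut.conj (a * n)).toMonoidHom) := by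
    apply sup_le
    · intro t ht
      refine (mem_pullSub ι _ ⟨t, hTS ht⟩).mpr ?_
      show (a * n) * ι ⟨t, hTS ht⟩ * (a * n)⁻¹ ∈ (R.subgroupOf S).map ι
      rw [hgT ⟨t, ht⟩]
      exact ⟨_, Subgroup.mem_subgroupOf.mpr (Subgroup.mem_sup_left (α ⟨t, ht⟩).2), rfl⟩
    · intro c hc
      refine (mem_pullSub ι _ ⟨c, hCS hc⟩).mpr ?_
      show (a * n) * ι ⟨c, hCS hc⟩ * (a * n)⁻¹ ∈ (R.subgroupOf S).map ι
      obtain ⟨c', hc', hcc'⟩ := hgC c hc
      rw [← hcc']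
      exact ⟨_, Subgroup.mem_subgroupOf.mpr (Subgroup.mem_sup_right hc'), rfl⟩
  have hgR : ∀ x : R, (a * n) * ι ⟨x, hRS x.2⟩ * (a * n)⁻¹ ∈ (R.subgroupOf S).map ι := fun x =>
    (mem_pullSub ι _ ⟨x, hRS x.2⟩).mp (hle x.2)
  have : Finite R := Finite.of_injective (Subgroup.inclusion hRS) (Subgroup.inclusion_injective _)
  obtain ⟨β, hβF, hβ⟩ := exists_aut_of_conj F ι hreal hRS (a * n) hgR
  refine ⟨β, hβF, fun x => ?_, fun c hc => ?_⟩
  · have h1 := hβ (Subgroup.inclusion le_sup_left x)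
    have h2 : (⟨((Subgroup.inclusion (le_sup_left : TT ≤ R) x : R) : Ω),
        hRS (Subgroup.inclusion (le_sup_left : TT ≤ R) x).2⟩ : S) = ⟨x, hTS x.2⟩ := rfl
    rw [h2, hgT x] at h1
    exact congrArg Subtype.val (hinj h1)
  · obtain ⟨c', hc', hcc'⟩ := hgC c hc
    have h1 := hβ c
    have h2 : (⟨((c : R) : Ω), hRS c.2⟩ : S) = ⟨c, hCS hc⟩ := rfl
    rw [h2, ← hcc'] at h1
    have h3 : ((β c : R) : Ω) = c' := congrArg Subtype.val (hinj h1)
    rw [h3]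
    have hanN : a * n ∈ N := N.mul_mem ha.1 hnN
    refine ⟨?_, Subgroup.mul_mem _ (Subgroup.inv_mem _ hc.2) hc'.2⟩
    have hcS : (c : Ω)⁻¹ * c' ∈ S := S.mul_mem (S.inv_mem (hCS hc)) (hCS hc')
    refine (mem_pullSub ι N ⟨(c : Ω)⁻¹ * c', hcS⟩).mpr ?_
    have h4 : (⟨(c : Ω)⁻¹ * c', hcS⟩ : S) = (⟨c, hCS hc⟩ : S)⁻¹ * ⟨c', hCS hc'⟩ := rfl
    rw [h4, map_mul, map_inv, hcc']
    have h5 : (ι ⟨c, hCS hc⟩)⁻¹ * ((a * n) * ι ⟨c, hCS hc⟩ * (a * n)⁻¹) =
        ((ι ⟨c, hCS hc⟩)⁻¹ * (a * n) * (ι ⟨c, hCS hc⟩)⁻¹⁻¹) * (a * n)⁻¹ := by group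
    rw [h5]
    exact N.mul_mem (hN.conj_mem _ hanN _) (N.inv_mem hanN)

/-- The subsystem of a normal subgroup is a normal subsystem. -/
theorem subSys_isNormalIn [Finite S] [Finite G] (p : ℕ) [Fact p.Prime] (hS : IsPGroup p S) [hN : N.Normal]
    (T₀ : Sylow p G) (hT₀ : (T₀ : Subgroup G) = ι.range) (F : FusionSystem S) (hreal : F.IsRealizedBy ι) :
    (subSys ι hinj N).IsNormalIn F p := by
  have hF : F.IsSaturated p := saturated_of_realized p F ι hreal T₀ hT₀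
  exact ⟨⟨subSys_saturated ι hinj N p T₀ hT₀, hF, subSys_isInvariantIn ι hinj N p hS F hF hreal⟩,
    fun α hα => subSys_extension ι hinj N p T₀ hT₀ F hreal α hα⟩

end Ext

end Cfsg.Agent.Lib.Helper2.SimpleReal
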