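import Cfsg.Agent.Lib.Helper2.SimpleRealB
import Cfsg.Agent.Lib.Helper27.RealQuot

/-!
helper2: a simple realizable fusion system is realized by a finite simple group (S5343): a realization of
least order is simple.
-/

set_option autoImplicit false
set_option linter.unusedSectionVars false
set_option linter.unusedVariables false

namespace Cfsg.Agent.Lib.Helper2.SimpleReal

open Cfsg Cfsg.FusionSystem Cfsg.Agent.Lib.Helper26 Cfsg.Agent.Lib.Helper27

universe u

variable {Ω : Type u} [Group Ω] {S : Subgroup Ω}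

/-- Case 1: the preimage of `N` is trivial; then `N` has order prime to `p` and the quotient realizes `F`. -/
theorem quotient_realizes [Finite S] (p : ℕ) [Fact p.Prime] (hS : IsPGroup p S) (F : FusionSystem S)
    {G : Type u} [Group G] [Finite G] (ι : S →* G) (hreal : F.IsRealizedBy ι) (T₀ : Sylow p G)
    (hT₀ : (T₀ : Subgroup G) = ι.range) (N : Subgroup G) [hN : N.Normal] (hbot : pullSub ι N = ⊥) :
    F.IsRealizedBy ((QuotientGroup.mk' N).comp ι) ∧
      ∃ T : Sylow p (G ⧸ N), (T : Subgroup (G ⧸ N)) = ((QuotientGroup.mk' N).comp ι).range := by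
  have hinf : ι.range ⊓ N = ⊥ := by
    rw [eq_bot_iff]
    rintro y ⟨⟨s, rfl⟩, hy⟩
    have h1 : (s : Ω) ∈ pullSub ι N := (mem_pullSub ι N s).mpr hy
    rw [hbot, Subgroup.mem_bot] at h1
    have h2 : s = 1 := Subtype.ext h1
    rw [h2, map_one]
    exact Subgroup.mem_bot.mpr rfl
  obtain ⟨R, hR⟩ := sylowIn_inf_of_normal T₀ N
  rw [hT₀, hinf] at hR
  have hRbot : (R : Subgroup N) = ⊥ := by
    rw [hR]
    exact Subgroup.bot_subgroupOf N
  have hcop : (Nat.card N).Coprime p := by
    rw [Nat.coprime_comm, Nat.Prime.coprime_iff_not_dvd Fact.out]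
    intro hdvd
    exact R.ne_bot_of_dvd_card hdvd hRbot
  refine ⟨ModelQuot.realized_quotient_of_coprime p hS F ι hreal N hcop, ?_⟩
  refine ⟨T₀.mapSurjective (QuotientGroup.mk'_surjective N), ?_⟩
  rw [Sylow.coe_mapSurjective, hT₀, MonoidHom.range_comp]

/-- Case 2: the subsystem of `N` is everything; then `N` realizes `F`. -/
theorem subgroup_realizes [Finite S] (p : ℕ) [Fact p.Prime] (F : FusionSystem S)
    {G : Type u} [Group G] [Finite G] (ι : S →* G) (hreal : F.IsRealizedBy ι) (T₀ : Sylow p G)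
    (hT₀ : (T₀ : Subgroup G) = ι.range) (N : Subgroup G) [hN : N.Normal] (htop : pullSub ι N = S)
    (hhom : ∀ P : Subgroup Ω, (subSys ι hreal.1 N).Hom P = F.Hom P) :
    ∃ ι' : S →* N, F.IsRealizedBy ι' ∧ ∃ T : Sylow p N, (T : Subgroup N) = ι'.range := by
  have hinj := hreal.1
  have hmem : ∀ s : S, ι s ∈ N := fun s => (mem_pullSub ι N s).mp (by rw [htop]; exact s.2)
  refine ⟨ι.codRestrict N hmem, ⟨?_, ?_⟩, ?_⟩
  · intro a b hab
    exact hinj (congrArg Subtype.val hab)
  · intro P hP φ hφ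
    rw [← hhom P, mem_subSys_iff]
    constructor
    · rintro ⟨hP', hφ', n, hnN, hn⟩
      exact ⟨⟨n, hnN⟩, fun x => Subtype.ext (hn x)⟩
    · rintro ⟨n, hn⟩
      refine ⟨hP.trans htop.ge, fun x => htop.ge (hφ x), n, n.2, fun x => ?_⟩
      exact congrArg Subtype.val (hn x)
  · obtain ⟨R, hR⟩ := sylowIn_inf_of_normal T₀ N
    refine ⟨R, ?_⟩
    rw [hR, hT₀]
    ext ⟨y, hy⟩
    rw [Subgroup.mem_subgroupOf]
    constructor
    · rintro ⟨⟨s, hs⟩, -⟩
      exact ⟨s, Subtype.ext hs⟩
    · rintro ⟨s, hs⟩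
      have h1 : ι s = y := congrArg Subtype.val hs
      exact ⟨⟨s, h1⟩, hy⟩

theorem exists_simple_of_card [Finite S] (p : ℕ) [Fact p.Prime] (hS : IsPGroup p S) (F : FusionSystem S)
    (hsimple : F.IsSimple p) :
    ∀ (n : ℕ) (G : Type u) (_ : Group G) (_ : Finite G) (ι : S →* G), Nat.card G = n → F.IsRealizedBy ι →
      (∃ T : Sylow p G, (T : Subgroup G) = ι.range) →
      ∃ (G : Type u) (_ : Group G) (_ : Finite G) (_ : IsSimpleGroup G) (ι : S →* G),
        F.IsRealizedBy ι ∧ ∃ T : Sylow p G, (T : Subgroup G) = ι.range := by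
  intro n
  induction n using Nat.strong_induction_on with
  | _ n ih =>
    intro G _ _ ι hcard hreal hsyl
    obtain ⟨T₀, hT₀⟩ := hsyl
    by_cases hsim : IsSimpleGroup G
    · exact ⟨G, inferInstance, inferInstance, hsim, ι, hreal, T₀, hT₀⟩
    -- `G` is nontrivial
    have hnt : Nontrivial G := by
      obtain ⟨x, hx⟩ : ∃ x : S, x ≠ 1 := by
        by_contra h
        push Not at h
        apply hsimple.2.1
        rw [eq_bot_iff]
        intro y hy
        have := h ⟨y, hy⟩
        exact Subgroup.mem_bot.mpr (congrArg Subtype.val this)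
      refine ⟨ι x, 1, fun h => hx ?_⟩
      apply hreal.1
      rw [h, map_one]
    obtain ⟨N, hN, hNbot, hNtop⟩ : ∃ N : Subgroup G, N.Normal ∧ N ≠ ⊥ ∧ N ≠ ⊤ := by
      by_contra h
      push Not at h
      apply hsim
      refine ⟨fun H hH => ?_⟩
      by_cases hb : H = ⊥
      · exact Or.inl hb
      · exact Or.inr (h H hH hb)
    have hnorm := subSys_isNormalIn ι hreal.1 N p hS T₀ hT₀ F hreal
    rcases hsimple.2.2 _ _ hnorm with hbot | ⟨htop, hhom⟩
    · obtain ⟨hq, hqs⟩ := quotient_realizes p hS F ι hreal T₀ hT₀ N hbot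
      refine ih (Nat.card (G ⧸ N)) ?_ (G ⧸ N) inferInstance inferInstance _ rfl hq hqs
      rw [← hcard, Subgroup.card_eq_card_quotient_mul_card_subgroup N]
      have h1 : 1 < Nat.card N := by
        rw [Subgroup.one_lt_card_iff_ne_bot]
        exact hNbot
      have h2 : 0 < Nat.card (G ⧸ N) := Nat.card_pos
      nlinarith
    · obtain ⟨ι', hr', hs'⟩ := subgroup_realizes p F ι hreal T₀ hT₀ N htop hhom
      refine ih (Nat.card N) ?_ N inferInstance inferInstance ι' rfl hr' hs'
      rw [← hcard]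
      have h1 : Nat.card N ≤ Nat.card G := Subgroup.card_le_card_group N
      rcases h1.lt_or_eq with h | h
      · exact h
      · exact absurd (Subgroup.card_eq_iff_eq_top N |>.mp h) hNtop

/-- S5343. -/
theorem exists_simple_realization [Finite S] (p : ℕ) [Fact p.Prime] (hS : IsPGroup p S) (F : FusionSystem S)
    (hsimple : F.IsSimple p) (hreal : F.IsRealizable p) :
    ∃ (G : Type u) (_ : Group G) (_ : Finite G) (_ : IsSimpleGroup G) (ι : S →* G),
      F.IsRealizedBy ι ∧ ∃ T : Sylow p G, (T : Subgroup G) = ι.range := by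
  obtain ⟨G, hG, hfin, ι, hr, hs⟩ := hreal
  exact exists_simple_of_card p hS F hsimple (Nat.card G) G hG hfin ι rfl hr hs

end Cfsg.Agent.Lib.Helper2.SimpleReal
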