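import Mathlib

/-!
SpnMax stage 2 (helper27), leaf S4b `c3u_three_not_maximal` (taker helper2), part Z: the explicit matrices
(five pairwise anticommuting involutions of `Sp_4(3)`, the element `g0`, the element `t`) as integer matrices and
their identities over `ZMod 3` by `decide`.
-/

set_option autoImplicit false

namespace Cfsg.Agent.Lib.Helper2.SpMS4b
open Matrix

/-- the index type -/
abbrev I4 : Type := Fin 2 ⊕ Fin 2

/-- cast an integer matrix into a commutative ring -/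
def cI (R : Type*) [CommRing R] (T : Matrix I4 I4 ℤ) : Matrix I4 I4 R := T.map (Int.castRingHom R)

def epsI : Matrix (Fin 2) (Fin 2) ℤ := !![0, 1; -1, 0]
def dzI : Matrix (Fin 2) (Fin 2) ℤ := !![1, 0; 0, -1]
def sxI : Matrix (Fin 2) (Fin 2) ℤ := !![0, 1; 1, 0]

/-- the five pairwise anticommuting involutions (mod 3), as integer matrices -/
def xsI : Fin 5 → Matrix I4 I4 ℤ
  | 0 => fromBlocks dzI 0 0 dzI
  | 1 => fromBlocks sxI 0 0 sxI
  | 2 => fromBlocks 0 (-epsI) epsI 0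
  | 3 => fromBlocks epsI (-epsI) (-epsI) (-epsI)
  | 4 => fromBlocks (-epsI) (-epsI) (-epsI) epsI

def g0I : Matrix I4 I4 ℤ :=
  fromBlocks !![0, -1; -1, -1] !![-1, -1; 0, 1] !![-1, 0; -1, 1] !![-1, 1; 1, 0]
def g0iI : Matrix I4 I4 ℤ :=
  fromBlocks !![-1, 1; 1, 0] !![1, 0; 1, -1] !![1, 1; 0, -1] !![0, -1; -1, -1]
def tI : Matrix I4 I4 ℤ := fromBlocks 1 sxI 0 1
def tiI : Matrix I4 I4 ℤ := fromBlocks 1 (-sxI) 0 1
def JI : Matrix I4 I4 ℤ := fromBlocks 0 (-1) 1 0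

abbrev Z3 := ZMod 3
abbrev xz (c : Fin 5) : Matrix I4 I4 Z3 := cI Z3 (xsI c)
abbrev Jz : Matrix I4 I4 Z3 := cI Z3 JI

set_option maxRecDepth 1000000 in
theorem z_sq : ∀ c : Fin 5, xz c * xz c = 1 := by decide

set_option maxRecDepth 1000000 in
theorem z_symp : ∀ c : Fin 5, (xz c)ᵀ * Jz * xz c = Jz := by decide

set_option maxRecDepth 1000000 in
theorem z_pm : ∀ c : Fin 5, xz c * Jz = Jz * xz c ∨ xz c * Jz = -(Jz * xz c) := by decide

set_option maxRecDepth 1000000 in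
theorem z_ne : ∀ c : Fin 5, xz c ≠ 1 ∧ xz c ≠ -1 := by decide


/-- the shape of a symmetric matrix commuting with `J` -/
def shapeC {R : Type*} [CommRing R] (a00 a01 a10 a11 b00 b01 b10 b11 : R) : Matrix I4 I4 R :=
  fromBlocks !![a00, a01; a10, a11] !![b00, b01; b10, b11] !![-b00, -b01; -b10, -b11] !![a00, a01; a10, a11]

/-- the shape of an antisymmetric matrix anticommuting with `J` -/
def shapeA {R : Type*} [CommRing R] (a00 a01 a10 a11 b00 b01 b10 b11 : R) : Matrix I4 I4 R :=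
  fromBlocks !![a00, a01; a10, a11] !![b00, b01; b10, b11] !![b00, b01; b10, b11] !![-a00, -a01; -a10, -a11]

set_option synthInstance.maxSize 4096 in
set_option synthInstance.maxHeartbeats 400000 in
set_option maxRecDepth 1000000 in
theorem z_clC : ∀ p b r f : Z3,
    shapeC p b b r 0 f (-f) 0 * shapeC p b b r 0 f (-f) 0 = 1 →
    shapeC p b b r 0 f (-f) 0 ≠ 1 → shapeC p b b r 0 f (-f) 0 ≠ -1 →
    ∃ c : Fin 5, shapeC p b b r 0 f (-f) 0 = xz c ∨ shapeC p b b r 0 f (-f) 0 = -xz c := by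
  decide

set_option maxRecDepth 1000000 in
theorem z_clA : ∀ a b : Z3,
    shapeA 0 a (-a) 0 0 b (-b) 0 * shapeA 0 a (-a) 0 0 b (-b) 0 = 1 →
    ∃ c : Fin 5, shapeA 0 a (-a) 0 0 b (-b) 0 = xz c ∨ shapeA 0 a (-a) 0 0 b (-b) 0 = -xz c := by
  decide

abbrev g0z : Matrix I4 I4 Z3 := cI Z3 g0I
abbrev g0iz : Matrix I4 I4 Z3 := cI Z3 g0iI
abbrev tz : Matrix I4 I4 Z3 := cI Z3 tI
abbrev tiz : Matrix I4 I4 Z3 := cI Z3 tiI

set_option maxRecDepth 1000000 in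
theorem z_g0 : g0z * g0iz = 1 ∧ g0iz * g0z = 1 ∧ g0zᵀ * Jz * g0z = Jz ∧
    (∀ c : Fin 5, ∃ c' : Fin 5, g0z * xz c = xz c' * g0z ∨ g0z * xz c = -(xz c') * g0z) ∧
    (∀ c : Fin 5, ∃ c' : Fin 5, g0iz * xz c = xz c' * g0iz ∨ g0iz * xz c = -(xz c') * g0iz) ∧
    g0z * Jz ≠ Jz * g0z ∧ g0z * Jz ≠ -(Jz * g0z) := by decide

set_option maxRecDepth 1000000 in
theorem z_t : tz * tiz = 1 ∧ tiz * tz = 1 ∧ tzᵀ * Jz * tz = Jz ∧
    (∀ c' : Fin 5, tz * xz 0 ≠ xz c' * tz ∧ tz * xz 0 ≠ -(xz c') * tz) := by decide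

end Cfsg.Agent.Lib.Helper2.SpMS4b
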