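import Mathlib
import Cfsg.Prelude.Def_GeometricClasses
import Cfsg.Agent.Lib.Helper29.SpAschTools
import Cfsg.Agent.Lib.Helper2.SpMS4bZ

/-!
SpnMax stage 2 (helper27), leaf S4b `c3u_three_not_maximal` (taker helper2), part B: over a field `F` with three elements,
`X0 F` = the ten matrices `± x_c` (transported from `ZMod 3`);
(CL) a symplectic involution `≠ ± 1` commuting or anticommuting with `J` is one of them;
(B1) a symplectic `g` commuting or anticommuting with `J` normalises `X0`; (B2) the element `g0` normalises `X0` but neither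
commutes nor anticommutes with `J`; (B3) the element `t` of `Sp` does not normalise `X0`.
-/

set_option autoImplicit false
set_option linter.unusedSectionVars false
set_option linter.unusedVariables false

namespace Cfsg.Agent.Lib.Helper2.SpMS4b
open Matrix Cfsg Cfsg.Geo Cfsg.Agent.Lib.Helper29.SpAsch

variable {F : Type*} [Field F] [Fintype F]

/-! ### transport along ring homs -/

lemma cI_map {R S : Type*} [CommRing R] [CommRing S] (φ : R →+* S) (T : Matrix I4 I4 ℤ) :
    (cI R T).map φ = cI S T := by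
  ext i j
  simp [cI]

lemma cI_J (R : Type*) [CommRing R] : cI R JI = Matrix.J (Fin 2) R := by
  unfold cI JI Matrix.J
  rw [fromBlocks_map]
  have h0 : (0 : Matrix (Fin 2) (Fin 2) ℤ).map (Int.castRingHom R) = 0 := by
    rw [← RingHom.mapMatrix_apply, map_zero]
  have h1 : (1 : Matrix (Fin 2) (Fin 2) ℤ).map (Int.castRingHom R) = 1 := by
    rw [← RingHom.mapMatrix_apply, map_one]
  have h2 : (-1 : Matrix (Fin 2) (Fin 2) ℤ).map (Int.castRingHom R) = -1 := by
    rw [← RingHom.mapMatrix_apply, map_neg, map_one]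
  rw [h0, h1, h2]

lemma map_J {R S : Type*} [CommRing R] [CommRing S] (φ : R →+* S) :
    (Matrix.J (Fin 2) R).map φ = Matrix.J (Fin 2) S := by
  rw [← cI_J, cI_map, cI_J]

/-- the ring isomorphism `ZMod 3 ≃ F` -/
noncomputable def psi (hq : Fintype.card F = 3) : ZMod 3 ≃+* F := ZMod.ringEquivOfPrime F Nat.prime_three hq

lemma map_inj {R S : Type*} [CommRing R] [CommRing S] (φ : R →+* S) (hφ : Function.Injective φ)
    {M N : Matrix I4 I4 R} (h : M.map φ = N.map φ) : M = N :=
  Matrix.map_injective hφ h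


/-! ### the explicit matrices over a ring of characteristic 3 -/

section char3
variable {R : Type*} [CommRing R] (ψ : ZMod 3 →+* R)

lemma mm_mul (M N : Matrix I4 I4 (ZMod 3)) : (M * N).map ψ = M.map ψ * N.map ψ := Matrix.map_mul

lemma mm_one : (1 : Matrix I4 I4 (ZMod 3)).map ψ = 1 := by
  rw [← RingHom.mapMatrix_apply, map_one]

lemma mm_neg (M : Matrix I4 I4 (ZMod 3)) : (-M).map ψ = -(M.map ψ) := by
  rw [← RingHom.mapMatrix_apply, map_neg, RingHom.mapMatrix_apply]

lemma mm_tr (M : Matrix I4 I4 (ZMod 3)) : (Mᵀ).map ψ = (M.map ψ)ᵀ := Matrix.transpose_map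

include ψ in
lemma xs_sq (c : Fin 5) : cI R (xsI c) * cI R (xsI c) = 1 := by
  have := congrArg (fun M => M.map ψ) (z_sq c)
  simp only [mm_mul, mm_one, cI_map] at this
  exact this

include ψ in
lemma xs_symp (c : Fin 5) : (cI R (xsI c))ᵀ * Matrix.J (Fin 2) R * cI R (xsI c) = Matrix.J (Fin 2) R := by
  have := congrArg (fun M => M.map ψ) (z_symp c)
  simp only [mm_mul, mm_tr, cI_map, cI_J, map_J] at this
  exact this

include ψ in
lemma xs_pm (c : Fin 5) : cI R (xsI c) * Matrix.J (Fin 2) R = Matrix.J (Fin 2) R * cI R (xsI c) ∨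
    cI R (xsI c) * Matrix.J (Fin 2) R = -(Matrix.J (Fin 2) R * cI R (xsI c)) := by
  rcases z_pm c with h | h
  · left
    have := congrArg (fun M => M.map ψ) h
    simp only [mm_mul, cI_map, cI_J, map_J] at this
    exact this
  · right
    have := congrArg (fun M => M.map ψ) h
    simp only [mm_mul, mm_neg, cI_map, cI_J, map_J] at this
    exact this

include ψ in
lemma xs_ne (hψ : Function.Injective ψ) (c : Fin 5) : cI R (xsI c) ≠ 1 ∧ cI R (xsI c) ≠ -1 := by
  constructor
  · intro h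
    apply (z_ne c).1
    apply Matrix.map_injective hψ
    show (xz c).map ψ = (1 : Matrix I4 I4 (ZMod 3)).map ψ
    rw [cI_map, mm_one, h]
  · intro h
    apply (z_ne c).2
    apply Matrix.map_injective hψ
    show (xz c).map ψ = (-1 : Matrix I4 I4 (ZMod 3)).map ψ
    rw [cI_map, mm_neg, mm_one, h]

end char3


/-! ### the classification of the involutions (CL) -/

lemma shapeC_map {R S : Type*} [CommRing R] [CommRing S] (φ : R →+* S) (a00 a01 a10 a11 b00 b01 b10 b11 : R) :
    (shapeC a00 a01 a10 a11 b00 b01 b10 b11).map φ =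
      shapeC (φ a00) (φ a01) (φ a10) (φ a11) (φ b00) (φ b01) (φ b10) (φ b11) := by
  unfold shapeC
  rw [fromBlocks_map]
  congr 1 <;> (ext i j; fin_cases i <;> fin_cases j <;> simp)

lemma shapeA_map {R S : Type*} [CommRing R] [CommRing S] (φ : R →+* S) (a00 a01 a10 a11 b00 b01 b10 b11 : R) :
    (shapeA a00 a01 a10 a11 b00 b01 b10 b11).map φ =
      shapeA (φ a00) (φ a01) (φ a10) (φ a11) (φ b00) (φ b01) (φ b10) (φ b11) := by
  unfold shapeA
  rw [fromBlocks_map]
  congr 1 <;> (ext i j; fin_cases i <;> fin_cases j <;> simp)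

lemma two_ne_zero3 (hq : Fintype.card F = 3) : (2 : F) ≠ 0 := by
  have h3 : ((3 : ℕ) : F) = 0 := by rw [← hq]; exact Nat.cast_card_eq_zero F
  intro h2
  have e : ((3 : ℕ) : F) = 2 + 1 := by norm_num
  rw [e, h2, zero_add] at h3
  exact one_ne_zero h3

lemma eq_zero_of_eq_neg3 (hq : Fintype.card F = 3) {a : F} (h : a = -a) : a = 0 := by
  have h2 : (2 : F) * a = 0 := by
    rw [two_mul]
    nth_rewrite 2 [h]
    exact add_neg_cancel a
  rcases mul_eq_zero.1 h2 with h | h
  · exact absurd h (two_ne_zero3 hq)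
  · exact h

theorem CL (hq : Fintype.card F = 3) (y : Matrix I4 I4 F)
    (h1 : yᵀ * Matrix.J (Fin 2) F * y = Matrix.J (Fin 2) F) (h2 : y * y = 1)
    (h3 : y * Matrix.J (Fin 2) F = Matrix.J (Fin 2) F * y ∨ y * Matrix.J (Fin 2) F = -(Matrix.J (Fin 2) F * y))
    (h4 : y ≠ 1) (h5 : y ≠ -1) :
    ∃ c : Fin 5, y = cI F (xsI c) ∨ y = -cI F (xsI c) := by
  have hJy : yᵀ * Matrix.J (Fin 2) F = Matrix.J (Fin 2) F * y := by
    calc yᵀ * Matrix.J (Fin 2) F = yᵀ * Matrix.J (Fin 2) F * (y * y) := by rw [h2, mul_one]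
      _ = (yᵀ * Matrix.J (Fin 2) F * y) * y := by rw [← mul_assoc]
      _ = Matrix.J (Fin 2) F * y := by rw [h1]
  have hJJ : Matrix.J (Fin 2) F * Matrix.J (Fin 2) F = -1 := Matrix.J_squared _ _
  have hcancel : ∀ M N : Matrix I4 I4 F, M * Matrix.J (Fin 2) F = N * Matrix.J (Fin 2) F → M = N := by
    intro M N h
    have := congrArg (fun X => X * (-Matrix.J (Fin 2) F)) h
    simp only [mul_neg, mul_assoc, hJJ, neg_neg, mul_one] at this
    exact this
  let ψ : ZMod 3 →+* F := ((psi hq : ZMod 3 ≃+* F) : ZMod 3 →+* F)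
  let φ : F →+* ZMod 3 := (((psi hq).symm : F ≃+* ZMod 3) : F →+* ZMod 3)
  have hψφ : ∀ a : F, ψ (φ a) = a := fun a => (psi hq).apply_symm_apply a
  have hback : ∀ M : Matrix I4 I4 F, (M.map φ).map ψ = M := by
    intro M
    ext i j
    simp only [Matrix.map_apply]
    exact hψφ _
  -- conclusion from the `ZMod 3` side
  have hfin : (∃ c : Fin 5, y.map φ = xz c ∨ y.map φ = -xz c) →
      ∃ c : Fin 5, y = cI F (xsI c) ∨ y = -cI F (xsI c) := by
    rintro ⟨c, h | h⟩
    · refine ⟨c, Or.inl ?_⟩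
      rw [← hback y, h, cI_map]
    · refine ⟨c, Or.inr ?_⟩
      rw [← hback y, h, mm_neg, cI_map]
  have hφ1 : (1 : Matrix I4 I4 F).map φ = 1 := by rw [← RingHom.mapMatrix_apply, map_one]
  have hφneg : ∀ M : Matrix I4 I4 F, (-M).map φ = -(M.map φ) := by
    intro M
    rw [← RingHom.mapMatrix_apply, map_neg, RingHom.mapMatrix_apply]
  have hφinj : Function.Injective φ := ((psi hq).symm).injective
  have hy2 : y.map φ * y.map φ = 1 := by rw [← Matrix.map_mul, h2, hφ1]
  have hy4 : y.map φ ≠ 1 := by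
    intro h
    apply h4
    apply Matrix.map_injective hφinj
    show y.map φ = (1 : Matrix I4 I4 F).map φ
    rw [h, hφ1]
  have hy5 : y.map φ ≠ -1 := by
    intro h
    apply h5
    apply Matrix.map_injective hφinj
    show y.map φ = (-1 : Matrix I4 I4 F).map φ
    rw [h, hφneg, hφ1]
  obtain ⟨A, B, C, D, rfl⟩ : ∃ A B C D, y = fromBlocks A B C D :=
    ⟨_, _, _, _, (fromBlocks_toBlocks y).symm⟩
  apply hfin
  rcases h3 with hc | hc
  · -- symmetric, commuting with `J`
    have hsym : (fromBlocks A B C D)ᵀ = fromBlocks A B C D := hcancel _ _ (hJy.trans hc.symm)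
    rw [fromBlocks_transpose, fromBlocks_inj] at hsym
    obtain ⟨s1, s2, s3, s4⟩ := hsym
    unfold Matrix.J at hc
    rw [fromBlocks_multiply, fromBlocks_multiply] at hc
    simp only [mul_zero, mul_one, zero_add, mul_neg, add_zero, zero_mul, neg_mul, one_mul] at hc
    rw [fromBlocks_inj] at hc
    obtain ⟨c1, c2, c3, c4⟩ := hc
    -- `C = -B`, `D = A`
    have hC : C = -B := by rw [c1, neg_neg]
    have hB : Bᵀ = -B := by rw [s3, hC]
    have e10 : A 1 0 = A 0 1 := by
      have := congrFun (congrFun s1 0) 1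
      rwa [Matrix.transpose_apply] at this
    have b00 : B 0 0 = 0 := by
      have := congrFun (congrFun hB 0) 0
      rw [Matrix.transpose_apply, Matrix.neg_apply] at this
      exact eq_zero_of_eq_neg3 hq this
    have b11 : B 1 1 = 0 := by
      have := congrFun (congrFun hB 1) 1
      rw [Matrix.transpose_apply, Matrix.neg_apply] at this
      exact eq_zero_of_eq_neg3 hq this
    have b10 : B 1 0 = -B 0 1 := by
      have := congrFun (congrFun hB 0) 1
      rw [Matrix.transpose_apply, Matrix.neg_apply] at this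
      exact this
    have hshape : fromBlocks A B C D = shapeC (A 0 0) (A 0 1) (A 0 1) (A 1 1) 0 (B 0 1) (-B 0 1) 0 := by
      unfold shapeC
      rw [fromBlocks_inj, c3, hC]
      refine ⟨?_, ?_, ?_, ?_⟩
      · ext i j; fin_cases i <;> fin_cases j <;> simp [e10]
      · ext i j; fin_cases i <;> fin_cases j <;> simp [b00, b11, b10]
      · ext i j; fin_cases i <;> fin_cases j <;> simp [b00, b11, b10]
      · ext i j; fin_cases i <;> fin_cases j <;> simp [e10]
    rw [hshape, shapeC_map] at hy2 hy4 hy5 ⊢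
    simp only [map_zero, map_neg] at hy2 hy4 hy5 ⊢
    exact z_clC _ _ _ _ hy2 hy4 hy5
  · -- antisymmetric, anticommuting with `J`
    have hasym : (fromBlocks A B C D)ᵀ = -fromBlocks A B C D := by
      apply hcancel
      rw [hJy, neg_mul, hc, neg_neg]
    rw [fromBlocks_transpose, fromBlocks_neg, fromBlocks_inj] at hasym
    obtain ⟨s1, s2, s3, s4⟩ := hasym
    unfold Matrix.J at hc
    rw [fromBlocks_multiply, fromBlocks_multiply, fromBlocks_neg] at hc
    simp only [mul_zero, mul_one, zero_add, mul_neg, add_zero, zero_mul, neg_mul, one_mul, neg_neg] at hc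
    rw [fromBlocks_inj] at hc
    obtain ⟨c1, c2, c3, c4⟩ := hc
    have hC : C = B := c1.symm
    have hB : Bᵀ = -B := by rw [s3, hC]
    have a00 : A 0 0 = 0 := by
      have := congrFun (congrFun s1 0) 0
      rw [Matrix.transpose_apply, Matrix.neg_apply] at this
      exact eq_zero_of_eq_neg3 hq this
    have a11 : A 1 1 = 0 := by
      have := congrFun (congrFun s1 1) 1
      rw [Matrix.transpose_apply, Matrix.neg_apply] at this
      exact eq_zero_of_eq_neg3 hq this
    have a10 : A 1 0 = -A 0 1 := by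
      have := congrFun (congrFun s1 0) 1
      rw [Matrix.transpose_apply, Matrix.neg_apply] at this
      exact this
    have b00 : B 0 0 = 0 := by
      have := congrFun (congrFun hB 0) 0
      rw [Matrix.transpose_apply, Matrix.neg_apply] at this
      exact eq_zero_of_eq_neg3 hq this
    have b11 : B 1 1 = 0 := by
      have := congrFun (congrFun hB 1) 1
      rw [Matrix.transpose_apply, Matrix.neg_apply] at this
      exact eq_zero_of_eq_neg3 hq this
    have b10 : B 1 0 = -B 0 1 := by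
      have := congrFun (congrFun hB 0) 1
      rw [Matrix.transpose_apply, Matrix.neg_apply] at this
      exact this
    have hshape : fromBlocks A B C D = shapeA 0 (A 0 1) (-A 0 1) 0 0 (B 0 1) (-B 0 1) 0 := by
      unfold shapeA
      rw [fromBlocks_inj, c3, hC]
      refine ⟨?_, ?_, ?_, ?_⟩
      · ext i j; fin_cases i <;> fin_cases j <;> simp [a00, a11, a10]
      · ext i j; fin_cases i <;> fin_cases j <;> simp [b00, b11, b10]
      · ext i j; fin_cases i <;> fin_cases j <;> simp [b00, b11, b10]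
      · ext i j; fin_cases i <;> fin_cases j <;> simp [a00, a11, a10]
    rw [hshape, shapeA_map] at hy2 ⊢
    simp only [map_zero, map_neg] at hy2 ⊢
    exact z_clA _ _ hy2


/-! ### the set `X0` and the three facts (B1), (B2), (B3) -/

/-- the ten non-central involutions `± x_c` -/
def X0 (F : Type*) [Field F] : Set (Matrix I4 I4 F) := {y | ∃ c : Fin 5, y = cI F (xsI c) ∨ y = -cI F (xsI c)}

lemma X0_neg {y : Matrix I4 I4 F} (h : y ∈ X0 F) : -y ∈ X0 F := by
  obtain ⟨c, h | h⟩ := h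
  · exact ⟨c, Or.inr (by rw [h])⟩
  · exact ⟨c, Or.inl (by rw [h, neg_neg])⟩

/-- commuting or anticommuting with `J` -/
def PM (a : Matrix I4 I4 F) : Prop :=
  a * Matrix.J (Fin 2) F = Matrix.J (Fin 2) F * a ∨ a * Matrix.J (Fin 2) F = -(Matrix.J (Fin 2) F * a)

lemma PM_mul {a b : Matrix I4 I4 F} (ha : PM a) (hb : PM b) : PM (a * b) := by
  unfold PM at *
  rcases ha with ha | ha <;> rcases hb with hb | hb
  · left; rw [mul_assoc, hb, ← mul_assoc, ha, mul_assoc]
  · right; rw [mul_assoc, hb, mul_neg, ← mul_assoc, ha, mul_assoc]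
  · right; rw [mul_assoc, hb, ← mul_assoc, ha, neg_mul, mul_assoc]
  · left; rw [mul_assoc, hb, mul_neg, ← mul_assoc, ha, neg_mul, neg_neg, mul_assoc]

lemma PM_inv {a b : Matrix I4 I4 F} (hab : a * b = 1) (hba : b * a = 1) (ha : PM a) : PM b := by
  unfold PM at *
  rcases ha with ha | ha
  · left
    calc b * Matrix.J (Fin 2) F = b * Matrix.J (Fin 2) F * (a * b) := by rw [hab, mul_one]
      _ = b * (Matrix.J (Fin 2) F * a) * b := by simp only [mul_assoc]
      _ = b * (a * Matrix.J (Fin 2) F) * b := by rw [ha]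
      _ = (b * a) * Matrix.J (Fin 2) F * b := by simp only [mul_assoc]
      _ = Matrix.J (Fin 2) F * b := by rw [hba, one_mul]
  · right
    calc b * Matrix.J (Fin 2) F = b * Matrix.J (Fin 2) F * (a * b) := by rw [hab, mul_one]
      _ = b * (Matrix.J (Fin 2) F * a) * b := by simp only [mul_assoc]
      _ = b * (-(a * Matrix.J (Fin 2) F)) * b := by rw [ha, neg_neg]
      _ = -((b * a) * Matrix.J (Fin 2) F * b) := by simp only [mul_assoc, mul_neg, neg_mul]
      _ = -(Matrix.J (Fin 2) F * b) := by rw [hba, one_mul]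

lemma mem_spGL_iff (g : GL I4 F) :
    g ∈ spGL 2 F ↔ (g : Matrix I4 I4 F)ᵀ * Matrix.J (Fin 2) F * (g : Matrix I4 I4 F) = Matrix.J (Fin 2) F :=
  mem_isoG_iff (J := Matrix.J (Fin 2) F) g

lemma val_mul_inv (g : GL I4 F) : (g : Matrix I4 I4 F) * ((g⁻¹ : GL I4 F) : Matrix I4 I4 F) = 1 := by
  rw [← Units.val_mul, mul_inv_cancel, Units.val_one]

lemma val_inv_mul (g : GL I4 F) : ((g⁻¹ : GL I4 F) : Matrix I4 I4 F) * (g : Matrix I4 I4 F) = 1 := by
  rw [← Units.val_mul, inv_mul_cancel, Units.val_one]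

/-- (B1) -/
theorem B1 (hq : Fintype.card F = 3) (g : GL I4 F) (hg : g ∈ spGL 2 F) (hpm : PM (g : Matrix I4 I4 F))
    (x : Matrix I4 I4 F) (hx : x ∈ X0 F) :
    (g : Matrix I4 I4 F) * x * ((g⁻¹ : GL I4 F) : Matrix I4 I4 F) ∈ X0 F := by
  let ψ : ZMod 3 →+* F := ((psi hq : ZMod 3 ≃+* F) : ZMod 3 →+* F)
  have hψ : Function.Injective ψ := (psi hq).injective
  have key : ∀ c : Fin 5, (g : Matrix I4 I4 F) * cI F (xsI c) * ((g⁻¹ : GL I4 F) : Matrix I4 I4 F) ∈ X0 F := by
    intro c
    let xU : GL I4 F := ⟨cI F (xsI c), cI F (xsI c), xs_sq ψ c, xs_sq ψ c⟩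
    have hxU : xU ∈ spGL 2 F := (mem_spGL_iff xU).2 (xs_symp ψ c)
    have hyU : g * xU * g⁻¹ ∈ spGL 2 F :=
      (spGL 2 F).mul_mem ((spGL 2 F).mul_mem hg hxU) ((spGL 2 F).inv_mem hg)
    have h1 := (mem_spGL_iff _).1 hyU
    have hval : ((g * xU * g⁻¹ : GL I4 F) : Matrix I4 I4 F) =
        (g : Matrix I4 I4 F) * cI F (xsI c) * ((g⁻¹ : GL I4 F) : Matrix I4 I4 F) := rfl
    rw [hval] at h1
    apply CL hq _ h1
    · calc (g : Matrix I4 I4 F) * cI F (xsI c) * ((g⁻¹ : GL I4 F) : Matrix I4 I4 F) *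
            ((g : Matrix I4 I4 F) * cI F (xsI c) * ((g⁻¹ : GL I4 F) : Matrix I4 I4 F))
          = (g : Matrix I4 I4 F) * cI F (xsI c) * (((g⁻¹ : GL I4 F) : Matrix I4 I4 F) * (g : Matrix I4 I4 F)) *
              cI F (xsI c) * ((g⁻¹ : GL I4 F) : Matrix I4 I4 F) := by simp only [mul_assoc]
        _ = (g : Matrix I4 I4 F) * (cI F (xsI c) * cI F (xsI c)) * ((g⁻¹ : GL I4 F) : Matrix I4 I4 F) := by
            rw [val_inv_mul, mul_one]; simp only [mul_assoc]
        _ = 1 := by rw [xs_sq ψ c, mul_one, val_mul_inv]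
    · exact PM_mul (PM_mul hpm (xs_pm ψ c)) (PM_inv (val_mul_inv g) (val_inv_mul g) hpm)
    · intro h
      apply (xs_ne ψ hψ c).1
      calc cI F (xsI c) = (((g⁻¹ : GL I4 F) : Matrix I4 I4 F) * (g : Matrix I4 I4 F)) * cI F (xsI c) *
            (((g⁻¹ : GL I4 F) : Matrix I4 I4 F) * (g : Matrix I4 I4 F)) := by rw [val_inv_mul, one_mul, mul_one]
        _ = ((g⁻¹ : GL I4 F) : Matrix I4 I4 F) * ((g : Matrix I4 I4 F) * cI F (xsI c) *
            ((g⁻¹ : GL I4 F) : Matrix I4 I4 F)) * (g : Matrix I4 I4 F) := by simp only [mul_assoc]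
        _ = 1 := by rw [h, mul_one, val_inv_mul]
    · intro h
      apply (xs_ne ψ hψ c).2
      calc cI F (xsI c) = (((g⁻¹ : GL I4 F) : Matrix I4 I4 F) * (g : Matrix I4 I4 F)) * cI F (xsI c) *
            (((g⁻¹ : GL I4 F) : Matrix I4 I4 F) * (g : Matrix I4 I4 F)) := by rw [val_inv_mul, one_mul, mul_one]
        _ = ((g⁻¹ : GL I4 F) : Matrix I4 I4 F) * ((g : Matrix I4 I4 F) * cI F (xsI c) *
            ((g⁻¹ : GL I4 F) : Matrix I4 I4 F)) * (g : Matrix I4 I4 F) := by simp only [mul_assoc]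
        _ = -1 := by rw [h, mul_neg, mul_one, neg_mul, val_inv_mul]
  obtain ⟨c, h | h⟩ := hx
  · rw [h]; exact key c
  · rw [h, mul_neg, neg_mul]; exact X0_neg (key c)


/-- conjugating `x_c` by a matrix `G` with `G x_c = ± x_c' G` -/
lemma conj_mem_X0 {G Gi : Matrix I4 I4 F} (hGi : G * Gi = 1)
    (h : ∀ c : Fin 5, ∃ c' : Fin 5, G * cI F (xsI c) = cI F (xsI c') * G ∨ G * cI F (xsI c) = -cI F (xsI c') * G)
    (x : Matrix I4 I4 F) (hx : x ∈ X0 F) : G * x * Gi ∈ X0 F := by
  have key : ∀ c : Fin 5, G * cI F (xsI c) * Gi ∈ X0 F := by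
    intro c
    obtain ⟨c', h | h⟩ := h c
    · refine ⟨c', Or.inl ?_⟩
      rw [h, mul_assoc, hGi, mul_one]
    · refine ⟨c', Or.inr ?_⟩
      rw [h, mul_assoc, hGi, mul_one]
  obtain ⟨c, h | h⟩ := hx
  · rw [h]; exact key c
  · rw [h, mul_neg, neg_mul]; exact X0_neg (key c)

/-- (B2) -/
theorem B2 (hq : Fintype.card F = 3) :
    ∃ g0 : GL I4 F, g0 ∈ spGL 2 F ∧
      (∀ x ∈ X0 F, (g0 : Matrix I4 I4 F) * x * ((g0⁻¹ : GL I4 F) : Matrix I4 I4 F) ∈ X0 F) ∧
      (∀ x ∈ X0 F, ((g0⁻¹ : GL I4 F) : Matrix I4 I4 F) * x * (g0 : Matrix I4 I4 F) ∈ X0 F) ∧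
      ¬ PM (g0 : Matrix I4 I4 F) := by
  let ψ : ZMod 3 →+* F := ((psi hq : ZMod 3 ≃+* F) : ZMod 3 →+* F)
  have hψ : Function.Injective ψ := (psi hq).injective
  obtain ⟨z1, z2, z3, z4, z5, z6, z7⟩ := z_g0
  have e1 : cI F g0I * cI F g0iI = 1 := by
    have := congrArg (fun M => M.map ψ) z1
    simp only [mm_mul, mm_one, cI_map] at this
    exact this
  have e2 : cI F g0iI * cI F g0I = 1 := by
    have := congrArg (fun M => M.map ψ) z2
    simp only [mm_mul, mm_one, cI_map] at this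
    exact this
  have e3 : (cI F g0I)ᵀ * Matrix.J (Fin 2) F * cI F g0I = Matrix.J (Fin 2) F := by
    have := congrArg (fun M => M.map ψ) z3
    simp only [mm_mul, mm_tr, cI_map, cI_J, map_J] at this
    exact this
  have e4 : ∀ c : Fin 5, ∃ c' : Fin 5, cI F g0I * cI F (xsI c) = cI F (xsI c') * cI F g0I ∨
      cI F g0I * cI F (xsI c) = -cI F (xsI c') * cI F g0I := by
    intro c
    obtain ⟨c', h | h⟩ := z4 c
    · refine ⟨c', Or.inl ?_⟩
      have := congrArg (fun M => M.map ψ) h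
      simp only [mm_mul, cI_map] at this
      exact this
    · refine ⟨c', Or.inr ?_⟩
      have := congrArg (fun M => M.map ψ) h
      simp only [mm_mul, mm_neg, cI_map] at this
      exact this
  have e5 : ∀ c : Fin 5, ∃ c' : Fin 5, cI F g0iI * cI F (xsI c) = cI F (xsI c') * cI F g0iI ∨
      cI F g0iI * cI F (xsI c) = -cI F (xsI c') * cI F g0iI := by
    intro c
    obtain ⟨c', h | h⟩ := z5 c
    · refine ⟨c', Or.inl ?_⟩
      have := congrArg (fun M => M.map ψ) h
      simp only [mm_mul, cI_map] at this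
      exact this
    · refine ⟨c', Or.inr ?_⟩
      have := congrArg (fun M => M.map ψ) h
      simp only [mm_mul, mm_neg, cI_map] at this
      exact this
  let g0 : GL I4 F := ⟨cI F g0I, cI F g0iI, e1, e2⟩
  refine ⟨g0, (mem_spGL_iff g0).2 e3, ?_, ?_, ?_⟩
  · intro x hx
    exact conj_mem_X0 e1 e4 x hx
  · intro x hx
    exact conj_mem_X0 e2 e5 x hx
  · rintro (h | h)
    · apply z6
      apply Matrix.map_injective hψ
      show (g0z * Jz).map ψ = (Jz * g0z).map ψ
      simp only [mm_mul, cI_map, cI_J, map_J]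
      exact h
    · apply z7
      apply Matrix.map_injective hψ
      show (g0z * Jz).map ψ = (-(Jz * g0z)).map ψ
      simp only [mm_mul, mm_neg, cI_map, cI_J, map_J]
      exact h

/-- (B3) -/
theorem B3 (hq : Fintype.card F = 3) :
    ∃ t : GL I4 F, t ∈ spGL 2 F ∧
      ∃ x ∈ X0 F, (t : Matrix I4 I4 F) * x * ((t⁻¹ : GL I4 F) : Matrix I4 I4 F) ∉ X0 F := by
  let ψ : ZMod 3 →+* F := ((psi hq : ZMod 3 ≃+* F) : ZMod 3 →+* F)
  have hψ : Function.Injective ψ := (psi hq).injective
  obtain ⟨z1, z2, z3, z4⟩ := z_t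
  have e1 : cI F tI * cI F tiI = 1 := by
    have := congrArg (fun M => M.map ψ) z1
    simp only [mm_mul, mm_one, cI_map] at this
    exact this
  have e2 : cI F tiI * cI F tI = 1 := by
    have := congrArg (fun M => M.map ψ) z2
    simp only [mm_mul, mm_one, cI_map] at this
    exact this
  have e3 : (cI F tI)ᵀ * Matrix.J (Fin 2) F * cI F tI = Matrix.J (Fin 2) F := by
    have := congrArg (fun M => M.map ψ) z3
    simp only [mm_mul, mm_tr, cI_map, cI_J, map_J] at this
    exact this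
  let t : GL I4 F := ⟨cI F tI, cI F tiI, e1, e2⟩
  refine ⟨t, (mem_spGL_iff t).2 e3, cI F (xsI 0), ⟨0, Or.inl rfl⟩, ?_⟩
  rintro ⟨c', h | h⟩
  · apply (z4 c').1
    apply Matrix.map_injective hψ
    show (tz * xz 0).map ψ = (xz c' * tz).map ψ
    simp only [mm_mul, cI_map]
    have h' : cI F tI * cI F (xsI 0) * cI F tiI = cI F (xsI c') := h
    calc cI F tI * cI F (xsI 0) = cI F tI * cI F (xsI 0) * (cI F tiI * cI F tI) := by rw [e2, mul_one]
      _ = (cI F tI * cI F (xsI 0) * cI F tiI) * cI F tI := by simp only [mul_assoc]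
      _ = cI F (xsI c') * cI F tI := by rw [h']
  · apply (z4 c').2
    apply Matrix.map_injective hψ
    show (tz * xz 0).map ψ = (-(xz c') * tz).map ψ
    simp only [mm_mul, mm_neg, cI_map]
    have h' : cI F tI * cI F (xsI 0) * cI F tiI = -cI F (xsI c') := h
    calc cI F tI * cI F (xsI 0) = cI F tI * cI F (xsI 0) * (cI F tiI * cI F tI) := by rw [e2, mul_one]
      _ = (cI F tI * cI F (xsI 0) * cI F tiI) * cI F tI := by simp only [mul_assoc]
      _ = -cI F (xsI c') * cI F tI := by rw [h']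

end Cfsg.Agent.Lib.Helper2.SpMS4b
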