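import Mathlib
import Cfsg.Prelude.Def_GeometricClasses
import Cfsg.Agent.Lib.Helper5.Symp
import Cfsg.Agent.Lib.Helper29.SpAschTools
import Cfsg.Agent.Lib.Helper2.SpMS4bB

/-!
SpnMax stage 2 (helper27), leaf S4b `c3u_three_not_maximal` (taker helper2), part A: the normal form.
For `F` with three elements and `K` a field subalgebra of degree 2 of `M_4(F)`, adjoint-closed and not self-adjoint for `sympForm 2 F`:
(A1) `exists_i`: `K = F[i]`, `i * i = -1`; (A2) `adj_i`: the adjoint of `i` is `-i` (`iᵀ J = -(J i)`);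
(A3) `exists_onb` (a `K`-orthonormal basis `v1, v2`) and `exists_P`: some `P ∈ Sp_4(F)` with `i P = P (-J)`.
-/

set_option autoImplicit false
set_option linter.unusedSectionVars false
set_option linter.unusedVariables false

namespace Cfsg.Agent.Lib.Helper2.SpMS4b
open Matrix Cfsg Cfsg.Geo Cfsg.Agent.Lib.Helper29.SpAsch

variable {F : Type*} [Field F] [Fintype F]

/-! ### the field with three elements -/

lemma tri3 (hq : Fintype.card F = 3) (a : F) : a = 0 ∨ a = 1 ∨ a = -1 := by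
  obtain ⟨z, rfl⟩ := (psi hq).surjective a
  have h : ∀ z : ZMod 3, z = 0 ∨ z = 1 ∨ z = -1 := by decide
  rcases h z with h | h | h
  · left; rw [h, map_zero]
  · right; left; rw [h, map_one]
  · right; right; rw [h, map_neg, map_one]

lemma sq_ne_neg_one3 (hq : Fintype.card F = 3) (a : F) : a * a ≠ -1 := by
  obtain ⟨z, rfl⟩ := (psi hq).surjective a
  have h : ∀ z : ZMod 3, z * z ≠ -1 := by decide
  intro h'
  apply h z
  apply (psi hq).injective
  rw [map_mul, h', map_neg, map_one]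

lemma three_eq_zero3 (hq : Fintype.card F = 3) : (3 : F) = 0 := by
  have h3 : ((3 : ℕ) : F) = 0 := by rw [← hq]; exact Nat.cast_card_eq_zero F
  exact_mod_cast h3

lemma add_add_self3 (hq : Fintype.card F = 3) (a : F) : a + a + a = 0 := by
  have := three_eq_zero3 hq
  linear_combination a * this

/-! ### (A1) the element `i` of `K` -/

theorem exists_i (hq : Fintype.card F = 3) {K : Subalgebra F (Matrix I4 I4 F)} (hK : IsFieldSubalgebra 2 K) :
    ∃ i ∈ K, i * i = -1 ∧ ∀ x ∈ K, ∃ a b : F, x = a • 1 + b • i := by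
  -- a non-scalar element
  obtain ⟨k, hkK, hk⟩ : ∃ k ∈ K, ∀ a : F, k ≠ a • 1 := by
    by_contra hcon
    push Not at hcon
    have hle : Subalgebra.toSubmodule K ≤ Submodule.span F {(1 : Matrix I4 I4 F)} := by
      intro x hx
      obtain ⟨a, ha⟩ := hcon x hx
      rw [ha]
      exact Submodule.smul_mem _ _ (Submodule.subset_span rfl)
    have h1 := Submodule.finrank_mono hle
    have h2 : Module.finrank F (Submodule.span F {(1 : Matrix I4 I4 F)}) ≤ 1 := by
      have := finrank_span_le_card (R := F) ({(1 : Matrix I4 I4 F)} : Set (Matrix I4 I4 F))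
      simpa using this
    have h3 : Module.finrank F (Subalgebra.toSubmodule K) = 2 := hK.finrank_eq
    omega
  have h1K : (1 : Matrix I4 I4 F) ∈ K := K.one_mem
  have h1ne : (1 : Matrix I4 I4 F) ≠ 0 := one_ne_zero
  -- `1, k` span `K`
  have hli : LinearIndependent F ![(1 : Matrix I4 I4 F), k] := by
    rw [LinearIndependent.pair_iff]
    intro s t hst
    have ht : t = 0 := by
      by_contra ht
      apply hk (-(s / t))
      have : t • k = -(s • (1 : Matrix I4 I4 F)) := eq_neg_of_add_eq_zero_right hst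
      calc k = (t⁻¹ * t) • k := by rw [inv_mul_cancel₀ ht, one_smul]
        _ = t⁻¹ • (t • k) := by rw [mul_smul]
        _ = t⁻¹ • (-(s • (1 : Matrix I4 I4 F))) := by rw [this]
        _ = (-(s / t)) • 1 := by rw [smul_neg, smul_smul, neg_smul, div_eq_inv_mul]
    refine ⟨?_, ht⟩
    rw [ht, zero_smul, add_zero] at hst
    rcases smul_eq_zero.1 hst with h | h
    · exact h
    · exact absurd h h1ne
  have hspan : Submodule.span F (Set.range ![(1 : Matrix I4 I4 F), k]) = Subalgebra.toSubmodule K := by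
    apply Submodule.eq_of_le_of_finrank_eq
    · rw [Submodule.span_le]
      rintro x ⟨j, rfl⟩
      fin_cases j
      · exact h1K
      · exact hkK
    · rw [finrank_span_eq_card hli]
      have h3 : Module.finrank F (Subalgebra.toSubmodule K) = 2 := hK.finrank_eq
      rw [h3]
      rfl
  have hrep : ∀ x ∈ K, ∃ a b : F, x = a • 1 + b • k := by
    intro x hx
    have hx' : x ∈ Submodule.span F (Set.range ![(1 : Matrix I4 I4 F), k]) := by
      rw [hspan]; exact hx
    have hr : Set.range ![(1 : Matrix I4 I4 F), k] = {1, k} := by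
      ext z
      simp only [Set.mem_range, Set.mem_insert_iff, Set.mem_singleton_iff]
      constructor
      · rintro ⟨j, rfl⟩
        fin_cases j
        · left; rfl
        · right; rfl
      · rintro (h | h)
        · exact ⟨0, h.symm⟩
        · exact ⟨1, h.symm⟩
    rw [hr, Submodule.mem_span_pair] at hx'
    obtain ⟨a, b, h⟩ := hx'
    exact ⟨a, b, h.symm⟩
  obtain ⟨β, α, hkk⟩ := hrep (k * k) (K.mul_mem hkK hkK)
  -- complete the square
  have hiK : k + α • (1 : Matrix I4 I4 F) ∈ K := K.add_mem hkK (K.smul_mem h1K α)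
  have hns : ∀ a : F, k + α • (1 : Matrix I4 I4 F) ≠ a • 1 := by
    intro a h
    apply hk (a - α)
    rw [sub_smul, ← h, add_sub_cancel_right]
  have hii : (k + α • (1 : Matrix I4 I4 F)) * (k + α • (1 : Matrix I4 I4 F)) = (β + α * α) • 1 := by
    rw [add_mul, mul_add, mul_add, hkk, Matrix.mul_smul, Matrix.smul_mul, Matrix.smul_mul, Matrix.mul_smul, mul_one,
      one_mul, mul_one, smul_smul, add_smul]
    have h3 : α • k + α • k + α • k = 0 := by
      rw [← add_smul, ← add_smul, add_add_self3 hq, zero_smul]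
    calc β • (1 : Matrix I4 I4 F) + α • k + α • k + (α • k + (α * α) • 1)
        = β • (1 : Matrix I4 I4 F) + (α * α) • 1 + (α • k + α • k + α • k) := by abel
      _ = β • (1 : Matrix I4 I4 F) + (α * α) • 1 := by rw [h3, add_zero]
  set i := k + α • (1 : Matrix I4 I4 F) with hi
  clear_value i
  have hine : i ≠ 0 := by
    intro h
    apply hns 0
    rw [h, zero_smul]
  have hrep' : ∀ x ∈ K, ∃ a b : F, x = a • 1 + b • i := by
    intro x hx
    obtain ⟨a, b, h⟩ := hrep x hx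
    refine ⟨a - b * α, b, ?_⟩
    rw [h, hi, smul_add, smul_smul, sub_smul]
    abel
  rcases tri3 hq (β + α * α) with hδ | hδ | hδ
  · -- `i * i = 0`
    exfalso
    rw [hδ, zero_smul] at hii
    obtain ⟨j, hjK, hj⟩ := hK.inv i hiK hine
    apply hine
    calc i = i * (i * j) := by rw [hj, mul_one]
      _ = 0 := by rw [← mul_assoc, hii, zero_mul]
  · -- `i * i = 1`
    exfalso
    rw [hδ, one_smul] at hii
    have hm1 : i - 1 ≠ 0 := by
      intro h
      apply hns 1
      rw [one_smul]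
      exact sub_eq_zero.1 h
    have hm1K : i - 1 ∈ K := K.sub_mem hiK h1K
    obtain ⟨j, hjK, hj⟩ := hK.inv (i - 1) hm1K hm1
    have hj' : j * (i - 1) = 1 := by rw [hK.comm j hjK (i - 1) hm1K, hj]
    have hprod : (i - 1) * (i + 1) = 0 := by
      rw [sub_mul, mul_add, mul_add, hii, mul_one, one_mul, one_mul]
      abel
    apply hns (-1)
    have : i + 1 = 0 := by
      calc i + 1 = (j * (i - 1)) * (i + 1) := by rw [hj', one_mul]
        _ = 0 := by rw [mul_assoc, hprod, mul_zero]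
    rw [neg_smul, one_smul]
    exact eq_neg_of_add_eq_zero_left this
  · exact ⟨i, hiK, by rw [hii, hδ, neg_smul, one_smul], hrep'⟩


/-! ### (A2) the adjoint of `i` is `-i` -/

lemma indep_one_i (hq : Fintype.card F = 3) {i : Matrix I4 I4 F} (hii : i * i = -1) (s t : F)
    (h : s • (1 : Matrix I4 I4 F) + t • i = 0) : s = 0 ∧ t = 0 := by
  have h1ne : (1 : Matrix I4 I4 F) ≠ 0 := one_ne_zero
  have ht : t = 0 := by
    by_contra ht
    have e : t • i = -(s • (1 : Matrix I4 I4 F)) := eq_neg_of_add_eq_zero_right h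
    have hi : i = (-(s / t)) • 1 := by
      calc i = (t⁻¹ * t) • i := by rw [inv_mul_cancel₀ ht, one_smul]
        _ = t⁻¹ • (t • i) := by rw [mul_smul]
        _ = t⁻¹ • (-(s • (1 : Matrix I4 I4 F))) := by rw [e]
        _ = (-(s / t)) • 1 := by rw [smul_neg, smul_smul, neg_smul, div_eq_inv_mul]
    rw [hi, Matrix.smul_mul, Matrix.mul_smul, mul_one, smul_smul] at hii
    have h2 : ((-(s / t)) * (-(s / t))) • (1 : Matrix I4 I4 F) = (-1 : F) • 1 := by
      rw [hii, neg_smul, one_smul]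
    have h3 : (-(s / t)) * (-(s / t)) = -1 := by
      have := congrFun (congrFun h2 (Sum.inl 0)) (Sum.inl 0)
      simpa using this
    exact sq_ne_neg_one3 hq _ h3
  refine ⟨?_, ht⟩
  rw [ht, zero_smul, add_zero] at h
  rcases smul_eq_zero.1 h with h | h
  · exact h
  · exact absurd h h1ne

lemma pm_of_sq (hq : Fintype.card F = 3) {i : Matrix I4 I4 F} (hii : i * i = -1) (a b : F)
    (h : (a • (1 : Matrix I4 I4 F) + b • i) * (a • (1 : Matrix I4 I4 F) + b • i) = -1) :
    a = 0 ∧ (b = 1 ∨ b = -1) := by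
  have hexp : (a • (1 : Matrix I4 I4 F) + b • i) * (a • (1 : Matrix I4 I4 F) + b • i) =
      (a * a - b * b) • 1 + (2 * (a * b)) • i := by
    rw [add_mul, mul_add, mul_add, Matrix.smul_mul, Matrix.smul_mul, Matrix.mul_smul, Matrix.mul_smul,
      Matrix.smul_mul, Matrix.mul_smul, Matrix.smul_mul, Matrix.mul_smul, one_mul, mul_one, one_mul, hii,
      smul_smul, smul_smul, smul_smul, smul_smul, sub_smul, two_mul, add_smul, mul_comm b a]
    rw [smul_neg]
    abel
  have hrel : (a * a - b * b + 1) • (1 : Matrix I4 I4 F) + (2 * (a * b)) • i = 0 := by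
    rw [add_smul, one_smul, add_right_comm, ← hexp, h]
    exact neg_add_cancel 1
  obtain ⟨r1, r2⟩ := indep_one_i hq hii _ _ hrel
  have hab0 : a * b = 0 := by
    rcases mul_eq_zero.1 r2 with h | h
    · exact absurd h (two_ne_zero3 hq)
    · exact h
  have ha : a = 0 := by
    rcases mul_eq_zero.1 hab0 with h | h
    · exact h
    · exfalso
      rw [h, mul_zero, sub_zero] at r1
      exact sq_ne_neg_one3 hq a (eq_neg_of_add_eq_zero_left r1)
  rw [ha, mul_zero, zero_sub] at r1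
  have hbb : b * b = 1 := by linear_combination -r1
  refine ⟨ha, ?_⟩
  rcases tri3 hq b with hb | hb | hb
  · rw [hb, mul_zero] at hbb
    exact absurd hbb.symm one_ne_zero
  · left; exact hb
  · right; exact hb

theorem adj_i (hq : Fintype.card F = 3) {K : Subalgebra F (Matrix I4 I4 F)}
    (hac : IsAdjointClosedFor (sympForm 2 F) K) (hnsa : ¬ IsSelfAdjointFor (sympForm 2 F) K)
    (i : Matrix I4 I4 F) (hiK : i ∈ K) (hii : i * i = -1)
    (hrep : ∀ x ∈ K, ∃ a b : F, x = a • 1 + b • i) :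
    iᵀ * Matrix.J (Fin 2) F = -(Matrix.J (Fin 2) F * i) := by
  obtain ⟨i', hi'K, hadj⟩ := hac i hiK
  have e : iᵀ * Matrix.J (Fin 2) F = Matrix.J (Fin 2) F * i' := by
    apply bfm_injective
    intro u v
    rw [← bfm_mulVec_left, ← bfm_mulVec_right]
    exact hadj u v
  have hJJ : Matrix.J (Fin 2) F * Matrix.J (Fin 2) F = -1 := Matrix.J_squared _ _
  have hi'i' : i' * i' = -1 := by
    have h1 : Matrix.J (Fin 2) F * (i' * i') = -Matrix.J (Fin 2) F := by
      calc Matrix.J (Fin 2) F * (i' * i') = (Matrix.J (Fin 2) F * i') * i' := by rw [mul_assoc]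
        _ = (iᵀ * Matrix.J (Fin 2) F) * i' := by rw [e]
        _ = iᵀ * (Matrix.J (Fin 2) F * i') := by rw [mul_assoc]
        _ = iᵀ * (iᵀ * Matrix.J (Fin 2) F) := by rw [e]
        _ = (iᵀ * iᵀ) * Matrix.J (Fin 2) F := by rw [mul_assoc]
        _ = -Matrix.J (Fin 2) F := by
          rw [← Matrix.transpose_mul, hii, Matrix.transpose_neg, Matrix.transpose_one, neg_mul, one_mul]
    calc i' * i' = (-(Matrix.J (Fin 2) F * Matrix.J (Fin 2) F)) * (i' * i') := by rw [hJJ, neg_neg, one_mul]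
      _ = -(Matrix.J (Fin 2) F * (Matrix.J (Fin 2) F * (i' * i'))) := by rw [neg_mul, mul_assoc]
      _ = -1 := by rw [h1, mul_neg, hJJ, neg_neg]
  obtain ⟨a, b, hab⟩ := hrep i' hi'K
  rw [hab] at hi'i'
  obtain ⟨ha, hb⟩ := pm_of_sq hq hii a b hi'i'
  rw [ha, zero_smul, zero_add] at hab
  rcases hb with hb | hb
  · -- `i' = i`: `K` would be self-adjoint
    exfalso
    rw [hb, one_smul] at hab
    rw [hab] at hadj
    apply hnsa
    intro x hx u v
    obtain ⟨c, d, hcd⟩ := hrep x hx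
    rw [hcd, Matrix.add_mulVec, Matrix.add_mulVec, Matrix.smul_mulVec, Matrix.smul_mulVec, Matrix.smul_mulVec,
      Matrix.smul_mulVec, Matrix.one_mulVec, Matrix.one_mulVec,
      Cfsg.Agent.Lib.Helper5.sympForm_add_left, Cfsg.Agent.Lib.Helper5.sympForm_add_right,
      Cfsg.Agent.Lib.Helper5.sympForm_smul_left, Cfsg.Agent.Lib.Helper5.sympForm_smul_left,
      Cfsg.Agent.Lib.Helper5.sympForm_smul_right, Cfsg.Agent.Lib.Helper5.sympForm_smul_right, hadj u v]
  · rw [e, hab, hb, neg_smul, one_smul, mul_neg]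


/-! ### (A3) a `K`-orthonormal basis -/

section ortho
variable {i : Matrix I4 I4 F} (hii : i * i = -1)
  (hadj : iᵀ * Matrix.J (Fin 2) F = -(Matrix.J (Fin 2) F * i))

local notation "ff" => Cfsg.sympForm 2 F

include hii in
lemma i_i (v : I4 → F) : i *ᵥ (i *ᵥ v) = -v := by
  rw [Matrix.mulVec_mulVec, hii, Matrix.neg_mulVec, Matrix.one_mulVec]

include hadj in
lemma f_i_left (u v : I4 → F) : ff (i *ᵥ u) v = -ff u (i *ᵥ v) := by
  show bfm (Matrix.J (Fin 2) F) (i *ᵥ u) v = -bfm (Matrix.J (Fin 2) F) u (i *ᵥ v)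
  rw [bfm_mulVec_left, bfm_mulVec_right, hadj]
  unfold bfm
  rw [Matrix.neg_mulVec, dotProduct_neg]

include hii hadj in
lemma f_i_i (u v : I4 → F) : ff (i *ᵥ u) (i *ᵥ v) = ff u v := by
  rw [f_i_left hadj, i_i hii, Cfsg.Agent.Lib.Helper5.sympForm_neg_right, neg_neg]

include hadj in
/-- `s(u, v) = f(u, i v)` is symmetric -/
lemma s_symm (u v : I4 → F) : ff u (i *ᵥ v) = ff v (i *ᵥ u) := by
  rw [Cfsg.Agent.Lib.Helper5.sympForm_swap 2 u (i *ᵥ v), f_i_left hadj v u, neg_neg]

include hadj in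
lemma nu_add (u w : I4 → F) :
    ff (u + w) (i *ᵥ (u + w)) = ff u (i *ᵥ u) + ff w (i *ᵥ w) + 2 * ff u (i *ᵥ w) := by
  rw [Matrix.mulVec_add, Cfsg.Agent.Lib.Helper5.sympForm_add_left, Cfsg.Agent.Lib.Helper5.sympForm_add_right,
    Cfsg.Agent.Lib.Helper5.sympForm_add_right, s_symm hadj w u]
  ring

include hii hadj in
lemma nu_i (v : I4 → F) : ff (i *ᵥ v) (i *ᵥ (i *ᵥ v)) = ff v (i *ᵥ v) := f_i_i hii hadj v (i *ᵥ v)

include hii in
lemma s_self_i (v : I4 → F) : ff v (i *ᵥ (i *ᵥ v)) = 0 := by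
  rw [i_i hii, Cfsg.Agent.Lib.Helper5.sympForm_neg_right, Cfsg.Agent.Lib.Helper5.sympForm_self, neg_zero]

include hii hadj in
lemma nu_add_i (v : I4 → F) : ff (v + i *ᵥ v) (i *ᵥ (v + i *ᵥ v)) = 2 * ff v (i *ᵥ v) := by
  rw [nu_add hadj, nu_i hii hadj, s_self_i hii]
  ring

include hii hadj in
lemma norm1 (hq : Fintype.card F = 3) (v : I4 → F) (hv : ff v (i *ᵥ v) ≠ 0) :
    ff v (i *ᵥ v) = 1 ∨ ff (v + i *ᵥ v) (i *ᵥ (v + i *ᵥ v)) = 1 := by
  rcases tri3 hq (ff v (i *ᵥ v)) with h | h | h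
  · exact absurd h hv
  · left; exact h
  · right
    rw [nu_add_i hii hadj, h]
    have := three_eq_zero3 hq
    linear_combination -this

include hii hadj in
/-- the existence lemma: a "projection" all of whose values are `ν`-isotropic vanishes -/
lemma ex_lemma (hq : Fintype.card F = 3) (π : (I4 → F) → (I4 → F)) (hadd : ∀ u u', π (u + u') = π u + π u')
    (hperp : ∀ u u', ff (π u) (i *ᵥ u') = ff (π u) (i *ᵥ π u'))
    (h0 : ∀ u, ff (π u) (i *ᵥ π u) = 0) : ∀ u, π u = 0 := by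
  intro u
  by_contra hne
  obtain ⟨w, hw⟩ := Cfsg.Agent.Lib.Helper5.sympForm_nondeg (π u) hne
  apply hw
  have hs : ∀ u', ff (π u) (i *ᵥ π u') = 0 := by
    intro u'
    have h1 := nu_add hadj (π u) (π u')
    rw [← hadd, h0, h0, h0, zero_add, zero_add] at h1
    rcases mul_eq_zero.1 h1.symm with h | h
    · exact absurd h (two_ne_zero3 hq)
    · exact h
  have hw' : w = i *ᵥ (-(i *ᵥ w)) := by
    rw [Matrix.mulVec_neg, i_i hii, neg_neg]
  rw [hw', hperp, hs]

include hii hadj in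
theorem exists_onb (hq : Fintype.card F = 3) :
    ∃ v1 v2 : I4 → F, ff v1 (i *ᵥ v1) = 1 ∧ ff v2 (i *ᵥ v2) = 1 ∧ ff v2 v1 = 0 ∧ ff v2 (i *ᵥ v1) = 0 := by
  -- the first vector
  obtain ⟨u1, hu1⟩ : ∃ u, ff u (i *ᵥ u) ≠ 0 := by
    by_contra hcon
    push Not at hcon
    have := ex_lemma hii hadj hq id (fun _ _ => rfl) (fun _ _ => rfl) hcon (Pi.single (Sum.inl 0) 1)
    have h1 := congrFun this (Sum.inl 0)
    simp at h1
  obtain ⟨v1, hv1⟩ : ∃ v1, ff v1 (i *ᵥ v1) = 1 := by
    rcases norm1 hii hadj hq u1 hu1 with h | h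
    · exact ⟨_, h⟩
    · exact ⟨_, h⟩
  have hv1' : ff (i *ᵥ v1) v1 = -1 := by rw [f_i_left hadj, hv1]
  -- the projection onto the orthogonal complement of `K v1`
  let π : (I4 → F) → (I4 → F) := fun u => u - ff u (i *ᵥ v1) • v1 + ff u v1 • (i *ᵥ v1)
  have hπ : ∀ u, π u = u - ff u (i *ᵥ v1) • v1 + ff u v1 • (i *ᵥ v1) := fun u => rfl
  have hπ1 : ∀ u, ff (π u) v1 = 0 := by
    intro u
    rw [hπ, Cfsg.Agent.Lib.Helper5.sympForm_add_left, Cfsg.Agent.Lib.Helper5.sympForm_sub_left,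
      Cfsg.Agent.Lib.Helper5.sympForm_smul_left, Cfsg.Agent.Lib.Helper5.sympForm_smul_left,
      Cfsg.Agent.Lib.Helper5.sympForm_self, hv1']
    ring
  have hπ2 : ∀ u, ff (π u) (i *ᵥ v1) = 0 := by
    intro u
    rw [hπ, Cfsg.Agent.Lib.Helper5.sympForm_add_left, Cfsg.Agent.Lib.Helper5.sympForm_sub_left,
      Cfsg.Agent.Lib.Helper5.sympForm_smul_left, Cfsg.Agent.Lib.Helper5.sympForm_smul_left,
      Cfsg.Agent.Lib.Helper5.sympForm_self, hv1]
    ring
  have hadd : ∀ u u', π (u + u') = π u + π u' := by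
    intro u u'
    rw [hπ, hπ, hπ, Cfsg.Agent.Lib.Helper5.sympForm_add_left, Cfsg.Agent.Lib.Helper5.sympForm_add_left, add_smul,
      add_smul]
    abel
  have hperp : ∀ u u', ff (π u) (i *ᵥ u') = ff (π u) (i *ᵥ π u') := by
    intro u u'
    rw [hπ u', Matrix.mulVec_add, Matrix.mulVec_sub, Matrix.mulVec_smul, Matrix.mulVec_smul, i_i hii,
      Cfsg.Agent.Lib.Helper5.sympForm_add_right, Cfsg.Agent.Lib.Helper5.sympForm_sub_right,
      Cfsg.Agent.Lib.Helper5.sympForm_smul_right, Cfsg.Agent.Lib.Helper5.sympForm_smul_right,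
      Cfsg.Agent.Lib.Helper5.sympForm_neg_right, hπ1, hπ2]
    ring
  obtain ⟨u2, hu2⟩ : ∃ u, ff (π u) (i *ᵥ π u) ≠ 0 := by
    by_contra hcon
    push Not at hcon
    have hz := ex_lemma hii hadj hq π hadd hperp hcon
    have hle : (⊤ : Submodule F (I4 → F)) ≤ Submodule.span F (Set.range ![v1, i *ᵥ v1]) := by
      intro u _
      have h := hz u
      rw [hπ] at h
      have hu : u = ff u (i *ᵥ v1) • v1 - ff u v1 • (i *ᵥ v1) := by
        have h' := congrArg (fun z => z + ff u (i *ᵥ v1) • v1 - ff u v1 • (i *ᵥ v1)) h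
        simp only [zero_add] at h'
        rw [← h']
        abel
      rw [hu]
      apply Submodule.sub_mem
      · exact Submodule.smul_mem _ _ (Submodule.subset_span ⟨0, rfl⟩)
      · exact Submodule.smul_mem _ _ (Submodule.subset_span ⟨1, rfl⟩)
    have h1 := Submodule.finrank_mono hle
    rw [finrank_top, Module.finrank_fintype_fun_eq_card] at h1
    have h2 : Module.finrank F (Submodule.span F (Set.range ![v1, i *ᵥ v1])) ≤ 2 := by
      have := finrank_range_le_card (R := F) ![v1, i *ᵥ v1]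
      rw [Fintype.card_fin] at this
      exact this
    have h3 : Fintype.card I4 = 4 := by simp
    rw [h3] at h1
    exact absurd (h1.trans h2) (by norm_num)
  rcases norm1 hii hadj hq (π u2) hu2 with h | h
  · exact ⟨v1, π u2, hv1, h, hπ1 u2, hπ2 u2⟩
  · refine ⟨v1, π u2 + i *ᵥ π u2, hv1, h, ?_, ?_⟩
    · rw [Cfsg.Agent.Lib.Helper5.sympForm_add_left, hπ1, f_i_left hadj, hπ2, neg_zero, add_zero]
    · rw [Cfsg.Agent.Lib.Helper5.sympForm_add_left, hπ2, f_i_i hii hadj, hπ1, add_zero]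

lemma J_single_inl (a : Fin 2) :
    Matrix.J (Fin 2) F *ᵥ Pi.single (Sum.inl a) 1 = Pi.single (Sum.inr a) 1 := by
  funext x
  rcases x with c | c
  · rw [Cfsg.Agent.Lib.Helper5.J_mulVec_inl]
    simp
  · rw [Cfsg.Agent.Lib.Helper5.J_mulVec_inr]
    simp [Pi.single_apply]

lemma J_single_inr (a : Fin 2) :
    Matrix.J (Fin 2) F *ᵥ Pi.single (Sum.inr a) 1 = -Pi.single (Sum.inl a) 1 := by
  funext x
  rcases x with c | c
  · rw [Cfsg.Agent.Lib.Helper5.J_mulVec_inl]
    simp [Pi.single_apply]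
  · rw [Cfsg.Agent.Lib.Helper5.J_mulVec_inr]
    simp

include hii hadj in
theorem exists_P (hq : Fintype.card F = 3) :
    ∃ P : GL I4 F, P ∈ spGL 2 F ∧
      i * (P : Matrix I4 I4 F) = (P : Matrix I4 I4 F) * (-Matrix.J (Fin 2) F) := by
  obtain ⟨v1, v2, hv1, hv2, h3, h4⟩ := exists_onb hii hadj hq
  have G01 : ff v1 v2 = 0 := by rw [Cfsg.Agent.Lib.Helper5.sympForm_swap, h3, neg_zero]
  have H01 : ff v1 (i *ᵥ v2) = 0 := by rw [s_symm hadj, h4]
  let b : I4 → (I4 → F) := Sum.elim ![i *ᵥ v1, i *ᵥ v2] ![v1, v2]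
  let Pm : Matrix I4 I4 F := Matrix.of fun x y => b y x
  have hcol : ∀ y, Pm *ᵥ Pi.single y 1 = b y := by
    intro y
    rw [Matrix.mulVec_single_one]
    rfl
  have hgram : ∀ x y, ff (b x) (b y) = Matrix.J (Fin 2) F x y := by
    intro x y
    rcases x with a | a <;> rcases y with c | c <;> fin_cases a <;> fin_cases c <;>
      simp [b, Matrix.J, f_i_i hii hadj, f_i_left hadj, Cfsg.Agent.Lib.Helper5.sympForm_self, hv1, hv2, h3, h4,
        G01, H01]
  have hsymp : Pmᵀ * Matrix.J (Fin 2) F * Pm = Matrix.J (Fin 2) F := by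
    ext x y
    have h := bfm_mulVec (J := Matrix.J (Fin 2) F) Pm Pm (Pi.single x 1) (Pi.single y 1)
    rw [bfm_entry, hcol, hcol] at h
    rw [← h]
    exact hgram x y
  have hJJ : Matrix.J (Fin 2) F * Matrix.J (Fin 2) F = -1 := Matrix.J_squared _ _
  have hinv : (-Matrix.J (Fin 2) F * Pmᵀ * Matrix.J (Fin 2) F) * Pm = 1 := by
    calc (-Matrix.J (Fin 2) F * Pmᵀ * Matrix.J (Fin 2) F) * Pm
        = -(Matrix.J (Fin 2) F * (Pmᵀ * Matrix.J (Fin 2) F * Pm)) := by simp only [neg_mul, mul_assoc]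
      _ = 1 := by rw [hsymp, hJJ, neg_neg]
  let P : GL I4 F := ⟨Pm, -Matrix.J (Fin 2) F * Pmᵀ * Matrix.J (Fin 2) F, mul_eq_one_comm.1 hinv, hinv⟩
  refine ⟨P, (mem_spGL_iff P).2 hsymp, ?_⟩
  show i * Pm = Pm * (-Matrix.J (Fin 2) F)
  apply Matrix.ext_of_mulVec_single
  intro y
  rw [← Matrix.mulVec_mulVec, ← Matrix.mulVec_mulVec, hcol, Matrix.neg_mulVec]
  rcases y with a | a
  · rw [J_single_inl, Matrix.mulVec_neg, hcol]
    fin_cases a
    · show i *ᵥ (i *ᵥ v1) = -v1
      exact i_i hii v1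
    · show i *ᵥ (i *ᵥ v2) = -v2
      exact i_i hii v2
  · rw [J_single_inr, neg_neg, hcol]
    fin_cases a <;> rfl

end ortho

end Cfsg.Agent.Lib.Helper2.SpMS4b
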