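import Mathlib
import Cfsg.Agent.Lib.Helper27.SpMDefs
import Cfsg.Agent.Lib.Helper2.SpMS4bA

/-!
SpnMax stage 2 (helper27), leaf S4b `c3u_three_not_maximal` (taker helper2): `GU_2(3).2 < 2^{1+4}_-.A_5 < Sp_4(3)`.
EXACT signature of `notes/SpnMax_stage2_leaves.lean` (`Cfsg.Agent.Lib.Helper2.SpMLeaf.c3u_three_not_maximal`).
Proof: `K = F[i]`, `i² = -1`, adjoint of `i` is `-i` (SpMS4bA); a `K`-orthonormal basis gives `P ∈ Sp` with `P⁻¹ i P = -J`;
`M'' := N_Sp(P X0 P⁻¹)`, `X0` the ten involutions `± x_c` of SpMS4bZ; `N(K) ∩ Sp ≤ M''` by the classification (CL) of the symplectic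
involutions commuting or anticommuting with `J` (SpMS4bB); `P g0 P⁻¹ ∈ M'' \ N(K)`, `P t P⁻¹ ∈ Sp \ M''`.
-/

set_option autoImplicit false
set_option linter.unusedSectionVars false
set_option linter.unusedVariables false

namespace Cfsg.Agent.Lib.Helper2.SpMS4b
open Matrix Cfsg Cfsg.Geo Cfsg.Agent.Lib.Helper29.SpAsch

variable {F : Type*} [Field F] [Fintype F]

/-- conjugation of a matrix by a unit -/
def cj (g : GL I4 F) (x : Matrix I4 I4 F) : Matrix I4 I4 F :=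
  (g : Matrix I4 I4 F) * x * ((g⁻¹ : GL I4 F) : Matrix I4 I4 F)

lemma cj_mul (g h : GL I4 F) (x : Matrix I4 I4 F) : cj (g * h) x = cj g (cj h x) := by
  unfold cj
  rw [_root_.mul_inv_rev, Units.val_mul, Units.val_mul]
  simp only [mul_assoc]

lemma cj_one (x : Matrix I4 I4 F) : cj (1 : GL I4 F) x = x := by
  unfold cj
  rw [inv_one, Units.val_one, one_mul, mul_one]

lemma cj_inv_cj (g : GL I4 F) (x : Matrix I4 I4 F) : cj g⁻¹ (cj g x) = x := by
  rw [← cj_mul, inv_mul_cancel, cj_one]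

lemma cj_cj_inv (g : GL I4 F) (x : Matrix I4 I4 F) : cj g (cj g⁻¹ x) = x := by
  rw [← cj_mul, mul_inv_cancel, cj_one]

lemma cj_mul_mat (g : GL I4 F) (x y : Matrix I4 I4 F) : cj g (x * y) = cj g x * cj g y := by
  unfold cj
  calc (g : Matrix I4 I4 F) * (x * y) * ((g⁻¹ : GL I4 F) : Matrix I4 I4 F)
      = (g : Matrix I4 I4 F) * x * (((g⁻¹ : GL I4 F) : Matrix I4 I4 F) * (g : Matrix I4 I4 F)) * y *
          ((g⁻¹ : GL I4 F) : Matrix I4 I4 F) := by rw [val_inv_mul, mul_one]; simp only [mul_assoc]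
    _ = _ := by simp only [mul_assoc]

lemma cj_neg_one (g : GL I4 F) : cj g (-1) = -1 := by
  unfold cj
  rw [mul_neg, mul_one, neg_mul, val_mul_inv]

lemma cj_mul_val (g : GL I4 F) (x : Matrix I4 I4 F) : cj g x * (g : Matrix I4 I4 F) = (g : Matrix I4 I4 F) * x := by
  unfold cj
  rw [mul_assoc, val_inv_mul, mul_one]

/-- the normaliser of a set of matrices -/
def setNormalizer (X : Set (Matrix I4 I4 F)) : Subgroup (GL I4 F) where
  carrier := {g | ∀ x, x ∈ X ↔ cj g x ∈ X}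
  mul_mem' {a b} ha hb := by
    intro x
    rw [cj_mul]
    exact (hb x).trans (ha _)
  one_mem' := by
    intro x
    rw [cj_one]
  inv_mem' {a} ha := by
    intro x
    have := ha (cj a⁻¹ x)
    rw [cj_cj_inv] at this
    exact this.symm

lemma mem_setNormalizer (X : Set (Matrix I4 I4 F)) (g : GL I4 F) :
    g ∈ setNormalizer X ↔ ∀ x, x ∈ X ↔ cj g x ∈ X := Iff.rfl

lemma mem_setNormalizer_of (X : Set (Matrix I4 I4 F)) (g : GL I4 F) (h1 : ∀ x ∈ X, cj g x ∈ X)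
    (h2 : ∀ x ∈ X, cj g⁻¹ x ∈ X) : g ∈ setNormalizer X := by
  intro x
  constructor
  · exact h1 x
  · intro h
    have := h2 _ h
    rwa [cj_inv_cj] at this

/-- S4b -/
theorem main_S4b (hq : Fintype.card F = 3) {K : Subalgebra F (Matrix (Fin 2 ⊕ Fin 2) (Fin 2 ⊕ Fin 2) F)}
    (hK : IsFieldSubalgebra 2 K) (hac : IsAdjointClosedFor (sympForm 2 F) K)
    (hnsa : ¬ IsSelfAdjointFor (sympForm 2 F) K) :
    ∃ M'' : Subgroup (GL (Fin 2 ⊕ Fin 2) F), subalgebraNormalizer K ⊓ spGL 2 F < M'' ∧ M'' < spGL 2 F := by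
  obtain ⟨i, hiK, hii, hrep⟩ := exists_i hq hK
  have hadj := adj_i hq hac hnsa i hiK hii hrep
  obtain ⟨P, hP, hiP⟩ := exists_P hii hadj hq
  -- `P⁻¹ i = -J P⁻¹`
  have hPi : ((P⁻¹ : GL I4 F) : Matrix I4 I4 F) * i = -Matrix.J (Fin 2) F * ((P⁻¹ : GL I4 F) : Matrix I4 I4 F) := by
    calc ((P⁻¹ : GL I4 F) : Matrix I4 I4 F) * i
        = ((P⁻¹ : GL I4 F) : Matrix I4 I4 F) * i * ((P : Matrix I4 I4 F) * ((P⁻¹ : GL I4 F) : Matrix I4 I4 F)) := by
          rw [val_mul_inv, mul_one]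
      _ = ((P⁻¹ : GL I4 F) : Matrix I4 I4 F) * (i * (P : Matrix I4 I4 F)) * ((P⁻¹ : GL I4 F) : Matrix I4 I4 F) := by
          simp only [mul_assoc]
      _ = (((P⁻¹ : GL I4 F) : Matrix I4 I4 F) * (P : Matrix I4 I4 F)) * (-Matrix.J (Fin 2) F) *
            ((P⁻¹ : GL I4 F) : Matrix I4 I4 F) := by rw [hiP]; simp only [mul_assoc]
      _ = _ := by rw [val_inv_mul, one_mul]
  -- elements of `N(K)` commute or anticommute with `J` after conjugation by `P`
  have hNK : ∀ g : GL I4 F, g ∈ subalgebraNormalizer K → PM ((P⁻¹ * g * P : GL I4 F) : Matrix I4 I4 F) := by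
    intro g hg
    have h1 : cj g i ∈ K := (hg i).1 hiK
    obtain ⟨a, b, hab⟩ := hrep _ h1
    have h2 : cj g i * cj g i = -1 := by rw [← cj_mul_mat, hii, cj_neg_one]
    rw [hab] at h2
    obtain ⟨ha, hb⟩ := pm_of_sq hq hii a b h2
    rw [ha, zero_smul, zero_add] at hab
    have h3 := cj_mul_val g i
    have hval : ((P⁻¹ * g * P : GL I4 F) : Matrix I4 I4 F) =
        ((P⁻¹ : GL I4 F) : Matrix I4 I4 F) * (g : Matrix I4 I4 F) * (P : Matrix I4 I4 F) := rfl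
    have hPJ : (P : Matrix I4 I4 F) * Matrix.J (Fin 2) F = -(i * (P : Matrix I4 I4 F)) := by
      rw [hiP, mul_neg, neg_neg]
    rw [hval]
    rcases hb with hb | hb
    · left
      rw [hb, one_smul] at hab
      rw [hab] at h3
      -- `i g = g i`
      calc ((P⁻¹ : GL I4 F) : Matrix I4 I4 F) * (g : Matrix I4 I4 F) * (P : Matrix I4 I4 F) * Matrix.J (Fin 2) F
          = ((P⁻¹ : GL I4 F) : Matrix I4 I4 F) * (g : Matrix I4 I4 F) * ((P : Matrix I4 I4 F) * Matrix.J (Fin 2) F) := by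
            simp only [mul_assoc]
        _ = -(((P⁻¹ : GL I4 F) : Matrix I4 I4 F) * ((g : Matrix I4 I4 F) * i) * (P : Matrix I4 I4 F)) := by
            rw [hPJ]; simp only [mul_assoc, mul_neg]
        _ = -((((P⁻¹ : GL I4 F) : Matrix I4 I4 F) * i) * (g : Matrix I4 I4 F) * (P : Matrix I4 I4 F)) := by
            rw [← h3]; simp only [mul_assoc]
        _ = Matrix.J (Fin 2) F * (((P⁻¹ : GL I4 F) : Matrix I4 I4 F) * (g : Matrix I4 I4 F) * (P : Matrix I4 I4 F)) := by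
            rw [hPi]; simp only [mul_assoc, neg_mul, neg_neg]
    · right
      rw [hb, neg_smul, one_smul] at hab
      rw [hab] at h3
      -- `-i g = g i`
      calc ((P⁻¹ : GL I4 F) : Matrix I4 I4 F) * (g : Matrix I4 I4 F) * (P : Matrix I4 I4 F) * Matrix.J (Fin 2) F
          = ((P⁻¹ : GL I4 F) : Matrix I4 I4 F) * (g : Matrix I4 I4 F) * ((P : Matrix I4 I4 F) * Matrix.J (Fin 2) F) := by
            simp only [mul_assoc]
        _ = -(((P⁻¹ : GL I4 F) : Matrix I4 I4 F) * ((g : Matrix I4 I4 F) * i) * (P : Matrix I4 I4 F)) := by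
            rw [hPJ]; simp only [mul_assoc, mul_neg]
        _ = ((((P⁻¹ : GL I4 F) : Matrix I4 I4 F) * i) * (g : Matrix I4 I4 F) * (P : Matrix I4 I4 F)) := by
            rw [← h3]; simp only [mul_assoc, neg_mul, mul_neg, neg_neg]
        _ = -(Matrix.J (Fin 2) F * (((P⁻¹ : GL I4 F) : Matrix I4 I4 F) * (g : Matrix I4 I4 F) * (P : Matrix I4 I4 F))) := by
            rw [hPi]; simp only [mul_assoc, neg_mul]
  -- the set `X' = P X0 P⁻¹` and the overgroup
  let X' : Set (Matrix I4 I4 F) := {x | cj P⁻¹ x ∈ X0 F}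
  have hX' : ∀ x, x ∈ X' ↔ cj P⁻¹ x ∈ X0 F := fun x => Iff.rfl
  have hconj : ∀ (g : GL I4 F) (x : Matrix I4 I4 F), cj P⁻¹ (cj g x) = cj (P⁻¹ * g * P) (cj P⁻¹ x) := by
    intro g x
    rw [← cj_mul, ← cj_mul]
    congr 1
    group
  have hSpconj : ∀ g : GL I4 F, g ∈ spGL 2 F → P⁻¹ * g * P ∈ spGL 2 F := fun g hg =>
    (spGL 2 F).mul_mem ((spGL 2 F).mul_mem ((spGL 2 F).inv_mem hP) hg) hP
  have hfwd : ∀ g : GL I4 F, g ∈ subalgebraNormalizer K ⊓ spGL 2 F → ∀ x ∈ X', cj g x ∈ X' := by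
    intro g hg x hx
    rw [hX'] at hx ⊢
    rw [hconj]
    exact B1 hq (P⁻¹ * g * P) (hSpconj g hg.2) (hNK g hg.1) _ hx
  refine ⟨setNormalizer X' ⊓ spGL 2 F, ?_, ?_⟩
  · -- `M < M''`
    rw [SetLike.lt_iff_le_and_exists]
    constructor
    · intro g hg
      refine ⟨mem_setNormalizer_of X' g (hfwd g hg) (hfwd g⁻¹ (Subgroup.inv_mem _ hg)), hg.2⟩
    · obtain ⟨g0, hg0Sp, hg0a, hg0b, hg0c⟩ := B2 hq
      refine ⟨P * g0 * P⁻¹, ⟨?_, ?_⟩, ?_⟩
      · have e1 : P⁻¹ * (P * g0 * P⁻¹) * P = g0 := by group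
        have e2 : P⁻¹ * (P * g0 * P⁻¹)⁻¹ * P = g0⁻¹ := by group
        apply mem_setNormalizer_of
        · intro x hx
          rw [hX'] at hx ⊢
          rw [hconj, e1]
          exact hg0a _ hx
        · intro x hx
          rw [hX'] at hx ⊢
          rw [hconj, e2]
          have := hg0b _ hx
          unfold cj
          rwa [inv_inv]
      · exact (spGL 2 F).mul_mem ((spGL 2 F).mul_mem hP hg0Sp) ((spGL 2 F).inv_mem hP)
      · intro hmem
        apply hg0c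
        have := hNK _ hmem.1
        have e1 : P⁻¹ * (P * g0 * P⁻¹) * P = g0 := by group
        rwa [e1] at this
  · -- `M'' < Sp`
    rw [SetLike.lt_iff_le_and_exists]
    refine ⟨inf_le_right, ?_⟩
    obtain ⟨t, htSp, x, hx, hnot⟩ := B3 hq
    refine ⟨P * t * P⁻¹, (spGL 2 F).mul_mem ((spGL 2 F).mul_mem hP htSp) ((spGL 2 F).inv_mem hP), ?_⟩
    intro hmem
    apply hnot
    have hxX' : cj P x ∈ X' := by
      rw [hX', cj_inv_cj]
      exact hx
    have h1 := (hmem.1 (cj P x)).1 hxX'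
    rw [hX', hconj, cj_inv_cj] at h1
    have e1 : P⁻¹ * (P * t * P⁻¹) * P = t := by group
    rw [e1] at h1
    exact h1

end Cfsg.Agent.Lib.Helper2.SpMS4b

namespace Cfsg.Agent.Lib.Helper2.SpMLeaf

open Cfsg Cfsg.Geo Matrix Module Cfsg.Agent.Lib.Helper27.SpM
open scoped Kronecker

variable {F : Type*} [Field F] [Fintype F]

/-- S4b (XL).  `GU_2(3).2 < 2^{1+4}_-.A_5 < Sp_4(3)`. -/
theorem c3u_three_not_maximal (hq : Fintype.card F = 3) {K : Subalgebra F (Matrix (Fin 2 ⊕ Fin 2) (Fin 2 ⊕ Fin 2) F)}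
    (hK : IsFieldSubalgebra 2 K) (hac : IsAdjointClosedFor (sympForm 2 F) K)
    (hnsa : ¬ IsSelfAdjointFor (sympForm 2 F) K) :
    ∃ M'' : Subgroup (GL (Fin 2 ⊕ Fin 2) F), subalgebraNormalizer K ⊓ spGL 2 F < M'' ∧ M'' < spGL 2 F :=
  Cfsg.Agent.Lib.Helper2.SpMS4b.main_S4b hq hK hac hnsa

end Cfsg.Agent.Lib.Helper2.SpMLeaf
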