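import Mathlib
import Cfsg.Prelude.Def_Transfer
import Cfsg.Agent.Lib.Helper1.Zipper
import Cfsg.Agent.Lib.Helper4.ChainStab

/-!
# Subnormal subgroups acting irreducibly on their commutator modules (basics)

`V` an elementary abelian `p`-subgroup of `G`, `E ≤ N_G(V)` acting faithfully, without nontrivial
subnormal `p`-subgroups. `Good V E X`: `X` subnormal in `E`, irreducible on `⁅V, X⁆`, `|X| > 2`.
-/

set_option autoImplicit false
open scoped commutatorElement Pointwise

namespace Cfsg.Agent.Lib.Helper2.SubnIrr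

open Cfsg.Agent.Lib.Helper1 Cfsg.Agent.Lib.Helper4

universe u
variable {G : Type u} [Group G]

/-- the conjugate subgroup `g A g⁻¹`. -/
abbrev cj (g : G) (A : Subgroup G) : Subgroup G := MulAut.conj g • A

theorem mem_cj (g : G) (A : Subgroup G) (x : G) : x ∈ cj g A ↔ g⁻¹ * x * g ∈ A :=
  mem_conj_smul_iff A g x

theorem conj_mem_cj (g : G) {A : Subgroup G} {a : G} (ha : a ∈ A) : g * a * g⁻¹ ∈ cj g A := by
  rw [mem_cj]
  have : g⁻¹ * (g * a * g⁻¹) * g = a := by group
  rwa [this]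

theorem cj_mul (g h : G) (A : Subgroup G) : cj (g * h) A = cj g (cj h A) := by
  ext x
  simp only [mem_cj]
  have : (g * h)⁻¹ * x * (g * h) = h⁻¹ * (g⁻¹ * x * g) * h := by group
  rw [this]

theorem cj_one (A : Subgroup G) : cj 1 A = A := by
  ext x
  simp [mem_cj]

theorem cj_inv_cj (g : G) (A : Subgroup G) : cj g⁻¹ (cj g A) = A := by
  rw [← cj_mul]; simp [cj_one]

theorem cj_cj_inv (g : G) (A : Subgroup G) : cj g (cj g⁻¹ A) = A := by
  rw [← cj_mul]; simp [cj_one]

theorem cj_mono (g : G) {A B : Subgroup G} (h : A ≤ B) : cj g A ≤ cj g B := by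
  intro x hx
  rw [mem_cj] at hx ⊢
  exact h hx

theorem cj_le_iff (g : G) {A B : Subgroup G} : cj g A ≤ cj g B ↔ A ≤ B := by
  refine ⟨fun h => ?_, cj_mono g⟩
  have := cj_mono g⁻¹ h
  rwa [cj_inv_cj, cj_inv_cj] at this

theorem cj_injective (g : G) {A B : Subgroup G} (h : cj g A = cj g B) : A = B :=
  le_antisymm ((cj_le_iff g).mp h.le) ((cj_le_iff g).mp h.ge)

theorem cj_bot (g : G) : cj g (⊥ : Subgroup G) = ⊥ := by
  ext x
  simp only [mem_cj, Subgroup.mem_bot]
  constructor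
  · intro h
    have : x = g * (g⁻¹ * x * g) * g⁻¹ := by group
    rw [this, h]; group
  · rintro rfl; group

theorem cj_inf (g : G) (A B : Subgroup G) : cj g (A ⊓ B) = cj g A ⊓ cj g B := by
  ext x
  simp only [mem_cj, Subgroup.mem_inf]

theorem cj_commutator (g : G) (A B : Subgroup G) : cj g ⁅A, B⁆ = ⁅cj g A, cj g B⁆ := by
  show (⁅A, B⁆).map _ = ⁅A.map _, B.map _⁆
  exact Subgroup.map_commutator A B _

theorem cj_eq_self_of_mem_normalizer {g : G} {A : Subgroup G}
    (hg : g ∈ Subgroup.normalizer (A : Set G)) : cj g A = A := by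
  ext x
  rw [mem_cj]
  have h1 := (Subgroup.mem_normalizer_iff.mp (Subgroup.inv_mem _ hg)) x
  rw [inv_inv] at h1
  exact h1.symm

theorem mem_normalizer_of_cj_eq {g : G} {A : Subgroup G} (h : cj g A = A) :
    g ∈ Subgroup.normalizer (A : Set G) := by
  rw [Subgroup.mem_normalizer_iff]
  intro x
  constructor
  · intro hx
    have := conj_mem_cj g hx
    rwa [h] at this
  · intro hx
    rw [← h, mem_cj] at hx
    have e : g⁻¹ * (g * x * g⁻¹) * g = x := by group
    rwa [e] at hx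

theorem card_cj [Finite G] (g : G) (A : Subgroup G) : Nat.card (cj g A) = Nat.card A := by
  show Nat.card (A.map (MulAut.conj g).toMonoidHom) = Nat.card A
  exact Nat.card_congr (A.equivMapOfInjective _ (MulAut.conj g).injective).symm.toEquiv

theorem cj_eq_of_le_of_card [Finite G] {g : G} {A : Subgroup G} (h : A ≤ cj g A) :
    cj g A = A :=
  (Subgroup.eq_of_le_of_card_ge h (card_cj g A).le).symm

theorem cj_eq_of_ge_of_card [Finite G] {g : G} {A : Subgroup G} (h : cj g A ≤ A) :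
    cj g A = A :=
  Subgroup.eq_of_le_of_card_ge h (card_cj g A).ge

/-- The standing hypotheses. -/
structure Setup (p : ℕ) (V E : Subgroup G) : Prop where
  comm : ∀ a ∈ V, ∀ b ∈ V, a * b = b * a
  exp : ∀ a ∈ V, a ^ p = 1
  norm : E ≤ Subgroup.normalizer (V : Set G)
  faith : E ⊓ Subgroup.centralizer (V : Set G) = ⊥
  core : ∀ Y : Subgroup G, SubIn Y E → (∀ y ∈ Y, y ^ p = 1) → Y = ⊥

namespace Setup

variable {p : ℕ} {V E : Subgroup G}

theorem conj_mem (S : Setup p V E) {e : G} (he : e ∈ E) {v : G} (hv : v ∈ V) :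
    e * v * e⁻¹ ∈ V :=
  (Subgroup.mem_normalizer_iff.mp (S.norm he) v).mp hv

theorem cj_V (S : Setup p V E) {e : G} (he : e ∈ E) : cj e V = V :=
  cj_eq_self_of_mem_normalizer (S.norm he)

theorem comm_mem (_S : Setup p V E) {X : Subgroup G} {x v : G} (hx : x ∈ X) (hv : v ∈ V) :
    x * v * x⁻¹ * v⁻¹ ∈ ⁅V, X⁆ := by
  have h3 : ⁅x, v⁆ ∈ ⁅X, V⁆ := Subgroup.commutator_mem_commutator hx hv
  rw [Subgroup.commutator_comm] at h3
  rwa [commutatorElement_def] at h3

theorem W_le (S : Setup p V E) {X : Subgroup G} (hX : X ≤ E) : ⁅V, X⁆ ≤ V := by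
  rw [Subgroup.commutator_le]
  intro v hv e he
  have h3 : e * v⁻¹ * e⁻¹ ∈ V := S.conj_mem (hX he) (V.inv_mem hv)
  have e1 : ⁅v, e⁆ = v * (e * v⁻¹ * e⁻¹) := by simp only [commutatorElement_def]; group
  rw [e1]; exact V.mul_mem hv h3

theorem cj_W (S : Setup p V E) {e : G} (he : e ∈ E) (X : Subgroup G) :
    cj e ⁅V, X⁆ = ⁅V, cj e X⁆ := by
  rw [cj_commutator, S.cj_V he]

theorem cj_E (_S : Setup p V E) {e : G} (he : e ∈ E) : cj e E = E :=
  Subgroup.conj_smul_eq_self_of_mem he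

theorem cj_le (S : Setup p V E) {e : G} (he : e ∈ E) {X : Subgroup G} (hX : X ≤ E) :
    cj e X ≤ E := by
  have := cj_mono e hX
  rwa [S.cj_E he] at this

/-- `X` normalizes `⁅V, X⁆`. -/
theorem self_conj_W (S : Setup p V E) {X : Subgroup G} (hX : X ≤ E) {x : G} (hx : x ∈ X) :
    cj x ⁅V, X⁆ = ⁅V, X⁆ := by
  have h1 : cj x X = X := Subgroup.conj_smul_eq_self_of_mem hx
  rw [S.cj_W (hX hx), h1]

theorem self_conj_mem_W (S : Setup p V E) {X : Subgroup G} (hX : X ≤ E) {x : G} (hx : x ∈ X)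
    {w : G} (hw : w ∈ ⁅V, X⁆) : x * w * x⁻¹ ∈ ⁅V, X⁆ := by
  have := conj_mem_cj x hw
  rwa [S.self_conj_W hX hx] at this

/-- A subnormal subgroup of `E` stabilizing a chain `V ≥ W ≥ 1` is trivial. -/
theorem eq_bot_of_chainStab (S : Setup p V E) {Y W : Subgroup G} (hY : SubIn Y E)
    (hW : W ≤ V) (hst : Y ≤ chainStab V W) : Y = ⊥ := by
  apply S.core Y hY
  intro y hy
  exact chainStab_pow_eq_one V W E (fun w hw => S.exp w (hW hw)) S.faith (hst hy) (hY.1 hy)

/-- restriction of the setup to a subnormal subgroup. -/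
theorem restrict (S : Setup p V E) {L : Subgroup G} (hL : SubIn L E) : Setup p V L where
  comm := S.comm
  exp := S.exp
  norm := hL.1.trans S.norm
  faith := by
    rw [eq_bot_iff]
    intro x hx
    rw [← S.faith]
    exact ⟨hL.1 hx.1, hx.2⟩
  core := fun Y hY hp => S.core Y (hY.trans hL) hp

end Setup

/-- `X` is subnormal in `E`, acts irreducibly on `⁅V, X⁆` and has more than two elements. -/
structure Good (V E X : Subgroup G) : Prop where
  sub : SubIn X E
  irr : ∀ U : Subgroup G, U ≤ ⁅V, X⁆ → X ≤ Subgroup.normalizer (U : Set G) → U = ⊥ ∨ U = ⁅V, X⁆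
  big : 2 < Nat.card X

namespace Good

variable {p : ℕ} {V E X : Subgroup G}

theorem le (h : Good V E X) : X ≤ E := h.sub.1

/-- the only element of `⁅V, X⁆` centralized by `X` is `1`. -/
theorem fixed_eq_one [Finite G] (h : Good V E X) (S : Setup p V E) {w : G} (hw : w ∈ ⁅V, X⁆)
    (hfix : ∀ x ∈ X, x * w * x⁻¹ = w) : w = 1 := by
  -- the subgroup of fixed points
  let C : Subgroup G := ⁅V, X⁆ ⊓ Subgroup.centralizer (X : Set G)
  have hCle : C ≤ ⁅V, X⁆ := inf_le_left
  have hCn : X ≤ Subgroup.normalizer (C : Set G) := by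
    intro x hx
    apply mem_normalizer_of_cj_eq
    apply cj_eq_of_ge_of_card
    intro y hy
    rw [mem_cj] at hy
    have e : y = x * (x⁻¹ * y * x) * x⁻¹ := by group
    rw [e]
    have hy' := Subgroup.mem_inf.mp hy
    refine Subgroup.mem_inf.mpr ⟨S.self_conj_mem_W h.le hx hy'.1, ?_⟩
    rw [Subgroup.mem_centralizer_iff]
    intro z hz
    have h2 := (Subgroup.mem_centralizer_iff.mp hy'.2) (x⁻¹ * z * x)
      (X.mul_mem (X.mul_mem (X.inv_mem hx) hz) hx)
    -- (x⁻¹ z x) * c = c * (x⁻¹ z x)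
    calc z * (x * (x⁻¹ * y * x) * x⁻¹)
        = x * ((x⁻¹ * z * x) * (x⁻¹ * y * x)) * x⁻¹ := by group
      _ = x * ((x⁻¹ * y * x) * (x⁻¹ * z * x)) * x⁻¹ := by rw [h2]
      _ = x * (x⁻¹ * y * x) * x⁻¹ * z := by group
  have hwC : w ∈ C := by
    refine Subgroup.mem_inf.mpr ⟨hw, ?_⟩
    rw [Subgroup.mem_centralizer_iff]
    intro x hx
    have := hfix x hx
    calc x * w = (x * w * x⁻¹) * x := by group
      _ = w * x := by rw [this]
  rcases h.irr C hCle hCn with hC | hC
  · rw [hC] at hwC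
    exact Subgroup.mem_bot.mp hwC
  · exfalso
    -- then `X` centralizes `⁅V, X⁆`, so stabilizes the chain
    have hst : X ≤ chainStab V ⁅V, X⁆ := by
      intro x hx
      refine ⟨fun w' hw' => ?_, fun v hv => S.comm_mem hx hv⟩
      have : w' ∈ C := by rw [hC]; exact hw'
      have h2 := (Subgroup.mem_centralizer_iff.mp (Subgroup.mem_inf.mp this).2) x hx
      calc x * w' * x⁻¹ = (w' * x) * x⁻¹ := by rw [h2]
        _ = w' := by group
    have hX := S.eq_bot_of_chainStab h.sub (S.W_le h.le) hst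
    have := h.big
    rw [hX] at this
    simp at this

/-- `X` acts faithfully on `⁅V, X⁆`. -/
theorem faithful (h : Good V E X) (S : Setup p V E) {x : G} (hx : x ∈ X)
    (hfix : ∀ w ∈ ⁅V, X⁆, x * w * x⁻¹ = w) : x = 1 := by
  let K : Subgroup G := X ⊓ Subgroup.centralizer ((⁅V, X⁆ : Subgroup G) : Set G)
  have hKX : K ≤ X := inf_le_left
  have hKn : X ≤ Subgroup.normalizer (K : Set G) := by
    intro y hy
    rw [Subgroup.mem_normalizer_iff]
    have key : ∀ y ∈ X, ∀ k ∈ K, y * k * y⁻¹ ∈ K := by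
      intro y hy k hk
      have hk := Subgroup.mem_inf.mp hk
      refine Subgroup.mem_inf.mpr ⟨X.mul_mem (X.mul_mem hy hk.1) (X.inv_mem hy), ?_⟩
      rw [Subgroup.mem_centralizer_iff]
      intro w hw
      have hw' : y⁻¹ * w * y⁻¹⁻¹ ∈ ⁅V, X⁆ := S.self_conj_mem_W h.le (X.inv_mem hy) hw
      have h2 := (Subgroup.mem_centralizer_iff.mp hk.2) _ hw'
      calc w * (y * k * y⁻¹) = y * ((y⁻¹ * w * y⁻¹⁻¹) * k) * y⁻¹ := by group
        _ = y * (k * (y⁻¹ * w * y⁻¹⁻¹)) * y⁻¹ := by rw [h2]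
        _ = y * k * y⁻¹ * w := by group
    intro k
    constructor
    · exact key y hy k
    · intro hk
      have := key y⁻¹ (X.inv_mem hy) _ hk
      have e : y⁻¹ * (y * k * y⁻¹) * y⁻¹⁻¹ = k := by group
      rwa [e] at this
  have hKsub : SubIn K E := (SubIn.of_le_normalizer hKX hKn).trans h.sub
  have hst : K ≤ chainStab V ⁅V, X⁆ := by
    intro k hk
    have hk := Subgroup.mem_inf.mp hk
    refine ⟨fun w hw => ?_, fun v hv => S.comm_mem hk.1 hv⟩
    have h2 := (Subgroup.mem_centralizer_iff.mp hk.2) w hw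
    calc k * w * k⁻¹ = (w * k) * k⁻¹ := by rw [h2]
      _ = w := by group
  have hK := S.eq_bot_of_chainStab hKsub (S.W_le h.le) hst
  have hxK : x ∈ K := by
    refine Subgroup.mem_inf.mpr ⟨hx, ?_⟩
    rw [Subgroup.mem_centralizer_iff]
    intro w hw
    have := hfix w hw
    calc w * x = (x * w * x⁻¹) * x := by rw [this]
      _ = x * w := by group
  rw [hK] at hxK
  exact Subgroup.mem_bot.mp hxK

theorem W_ne_bot [Finite G] (h : Good V E X) (S : Setup p V E) : ⁅V, X⁆ ≠ ⊥ := by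
  intro hW
  -- X centralizes V, so X = ⊥
  have hX : X = ⊥ := by
    rw [eq_bot_iff]
    intro x hx
    rw [Subgroup.mem_bot]
    apply h.faithful S hx
    intro w hw
    rw [hW, Subgroup.mem_bot] at hw
    rw [hw]; group
  have := h.big
  rw [hX] at this
  simp at this

/-- conjugates of good subgroups are good. -/
theorem conj (h : Good V E X) (S : Setup p V E) [Finite G] {e : G} (he : e ∈ E) :
    Good V E (cj e X) where
  sub := by
    have h1 : SubIn (cj e X) (cj e E) := h.sub.conj e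
    rwa [S.cj_E he] at h1
  irr := by
    intro U hU hn
    rw [← S.cj_W he] at hU ⊢
    have h1 : cj e⁻¹ U ≤ ⁅V, X⁆ := by
      have := cj_mono e⁻¹ hU
      rwa [cj_inv_cj] at this
    have h2 : X ≤ Subgroup.normalizer ((cj e⁻¹ U : Subgroup G) : Set G) := by
      intro x hx
      apply mem_normalizer_of_cj_eq
      have hx' : e * x * e⁻¹ ∈ cj e X := conj_mem_cj e hx
      have h3 := cj_eq_self_of_mem_normalizer (hn hx')
      -- cj x (cj e⁻¹ U) = cj e⁻¹ (cj (e x e⁻¹) U)
      have e1 : x * e⁻¹ = e⁻¹ * (e * x * e⁻¹) := by group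
      rw [← cj_mul, e1, cj_mul, h3]
    rcases h.irr _ h1 h2 with h3 | h3
    · left
      have := congrArg (cj e) h3
      rwa [cj_cj_inv, cj_bot] at this
    · right
      have := congrArg (cj e) h3
      rwa [cj_cj_inv] at this
  big := by
    rw [card_cj]; exact h.big

end Good

end Cfsg.Agent.Lib.Helper2.SubnIrr
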