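import Mathlib
import Cfsg.Agent.Lib.Helper2.SubnIrrA
import Cfsg.Agent.Lib.Helper4.ChainStab2

/-!
# Subnormal subgroups acting irreducibly on incomparable commutator modules commute
-/

set_option autoImplicit false
open scoped commutatorElement Pointwise

namespace Cfsg.Agent.Lib.Helper2.SubnIrr

open Cfsg.Agent.Lib.Helper1 Cfsg.Agent.Lib.Helper4

universe u
variable {G : Type u} [Group G]

/-- the conclusion for a pair. -/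
def Concl (V X₁ X₂ : Subgroup G) : Prop := ⁅X₁, X₂⁆ = ⊥ ∧ ⁅V, X₁⁆ ⊓ ⁅V, X₂⁆ = ⊥

/-- distinct conjugates of a good subgroup commute and have independent commutator modules. -/
def HasA (V E : Subgroup G) : Prop :=
  ∀ X, Good V E X → X ≠ E → ∀ g ∈ E, cj g ⁅V, X⁆ ≠ ⁅V, X⁆ →
    ⁅X, cj g X⁆ = ⊥ ∧ ⁅V, X⁆ ⊓ cj g ⁅V, X⁆ = ⊥

theorem hasA_of_ih [Finite G] {p : ℕ} {V E : Subgroup G} (S : Setup p V E)
    (ih : ∀ L : Subgroup G, Nat.card L < Nat.card E → Setup p V L → ∀ X₁ X₂,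
      Good V L X₁ → Good V L X₂ → ¬ ⁅V, X₁⁆ ≤ ⁅V, X₂⁆ → ¬ ⁅V, X₂⁆ ≤ ⁅V, X₁⁆ → Concl V X₁ X₂) :
    HasA V E := by
  intro X h hne g hg hmv
  obtain ⟨L, hXL, hLE, hLne, hEL⟩ := h.sub.exists_normal hne
  have hLsub : SubIn L E := SubIn.of_le_normalizer hLE hEL
  have SL : Setup p V L := S.restrict hLsub
  have hg1 : Good V L X := ⟨h.sub.restrict hXL hLE, h.irr, h.big⟩
  have hcjL : cj g X ≤ L := by
    have h1 : cj g L = L := cj_eq_self_of_mem_normalizer (hEL hg)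
    have := cj_mono g hXL
    rwa [h1] at this
  have hgc := h.conj S hg
  have hg2 : Good V L (cj g X) := ⟨hgc.sub.restrict hcjL hLE, hgc.irr, hgc.big⟩
  have hW : ⁅V, cj g X⁆ = cj g ⁅V, X⁆ := (S.cj_W hg X).symm
  have hcard : Nat.card L < Nat.card E := card_lt_card_of_le_of_ne hLE hLne
  have n12 : ¬ ⁅V, X⁆ ≤ ⁅V, cj g X⁆ := by
    rw [hW]
    intro hle
    exact hmv (cj_eq_of_le_of_card hle)
  have n21 : ¬ ⁅V, cj g X⁆ ≤ ⁅V, X⁆ := by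
    rw [hW]
    intro hle
    exact hmv (cj_eq_of_ge_of_card hle)
  have := ih L hcard SL X (cj g X) hg1 hg2 n12 n21
  rw [Concl, hW] at this
  exact this

section consequences

variable {p : ℕ} {V E X : Subgroup G}

theorem Good.ne_of_not_le {X' : Subgroup G} (_h : Good V E X) (h' : Good V E X')
    (hn : ¬ ⁅V, X'⁆ ≤ ⁅V, X⁆) : X ≠ E := by
  rintro rfl
  exact hn (Subgroup.commutator_mono le_rfl h'.le)

theorem comm_of_commutator_eq_bot {A B : Subgroup G} (h : ⁅A, B⁆ = ⊥) {a b : G} (ha : a ∈ A)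
    (hb : b ∈ B) : a * b = b * a := by
  have h1 : ⁅a, b⁆ ∈ ⁅A, B⁆ := Subgroup.commutator_mem_commutator ha hb
  rw [h, Subgroup.mem_bot, commutatorElement_def] at h1
  calc a * b = (a * b * a⁻¹ * b⁻¹) * (b * a) := by group
    _ = b * a := by rw [h1, one_mul]

theorem cj_eq_self_of_centralizes {A : Subgroup G} {y : G} (h : ∀ a ∈ A, y * a = a * y) :
    cj y A = A := by
  apply le_antisymm
  · intro x hx
    rw [mem_cj] at hx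
    have h1 := h _ hx
    have e : x = y * (y⁻¹ * x * y) * y⁻¹ := by group
    rw [e, h1]
    have e2 : y⁻¹ * x * y * y * y⁻¹ = y⁻¹ * x * y := by group
    rw [e2]; exact hx
  · intro x hx
    rw [mem_cj]
    have h1 := h _ hx
    have e : y⁻¹ * x * y = y⁻¹ * (x * y) := by group
    rw [e, ← h1]
    have e2 : y⁻¹ * (y * x) = x := by group
    rw [e2]; exact hx

theorem eq_of_mul_inv_mem_bot {a b : G} {A B : Subgroup G} (h : A ⊓ B = ⊥) (ha : a * b⁻¹ ∈ A)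
    (hb : a * b⁻¹ ∈ B) : a = b := by
  have : a * b⁻¹ ∈ A ⊓ B := ⟨ha, hb⟩
  rw [h, Subgroup.mem_bot] at this
  exact mul_inv_eq_one.mp this

/-- If `g` moves `W = ⁅V, X⁆` then `gXg⁻¹` centralizes `W` and `X` centralizes `gWg⁻¹`. -/
theorem centralizes_of_moved [Finite G] (S : Setup p V E) (hA : HasA V E) (h : Good V E X)
    (hne : X ≠ E) {g : G} (hg : g ∈ E) (hmv : cj g ⁅V, X⁆ ≠ ⁅V, X⁆) :
    (∀ y ∈ cj g X, ∀ w ∈ ⁅V, X⁆, y * w * y⁻¹ = w) ∧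
      (∀ x ∈ X, ∀ u ∈ cj g ⁅V, X⁆, x * u * x⁻¹ = u) := by
  obtain ⟨hc, hi⟩ := hA X h hne g hg hmv
  have hcjE : cj g X ≤ E := S.cj_le hg h.le
  constructor
  · intro y hy w hw
    have hyE : y ∈ E := hcjE hy
    have h1 : cj y X = X :=
      cj_eq_self_of_centralizes (fun a ha => (comm_of_commutator_eq_bot hc ha hy).symm)
    have h2 : cj y ⁅V, X⁆ = ⁅V, X⁆ := by rw [S.cj_W hyE, h1]
    have h3 : y * w * y⁻¹ ∈ ⁅V, X⁆ := by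
      have := conj_mem_cj y hw
      rwa [h2] at this
    have h4 : y * w * y⁻¹ * w⁻¹ ∈ cj g ⁅V, X⁆ := by
      rw [S.cj_W hg]
      exact S.comm_mem hy (S.W_le h.le hw)
    exact eq_of_mul_inv_mem_bot hi (Subgroup.mul_mem _ h3 (Subgroup.inv_mem _ hw)) h4
  · intro x hx u hu
    have hxE : x ∈ E := h.le hx
    have h1 : cj x (cj g X) = cj g X :=
      cj_eq_self_of_centralizes (fun a ha => comm_of_commutator_eq_bot hc hx ha)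
    have h2 : cj x (cj g ⁅V, X⁆) = cj g ⁅V, X⁆ := by
      rw [S.cj_W hg, S.cj_W hxE, h1]
    have h3 : x * u * x⁻¹ ∈ cj g ⁅V, X⁆ := by
      have := conj_mem_cj x hu
      rwa [h2] at this
    have huV : u ∈ V := by
      have : cj g ⁅V, X⁆ ≤ V := by
        rw [S.cj_W hg]; exact S.W_le hcjE
      exact this hu
    have h4 : x * u * x⁻¹ * u⁻¹ ∈ ⁅V, X⁆ := S.comm_mem hx huV
    have hi' : cj g ⁅V, X⁆ ⊓ ⁅V, X⁆ = ⊥ := by rw [inf_comm]; exact hi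
    exact eq_of_mul_inv_mem_bot hi' (Subgroup.mul_mem _ h3 (Subgroup.inv_mem _ hu)) h4

/-- independence of three distinct conjugates. -/
theorem indep3 [Finite G] (S : Setup p V E) (hA : HasA V E) (h : Good V E X)
    (hne : X ≠ E) {g k : G} (hg : g ∈ E) (hk : k ∈ E) (h1 : cj g ⁅V, X⁆ ≠ ⁅V, X⁆)
    (h2 : cj k ⁅V, X⁆ ≠ ⁅V, X⁆) (h3 : cj g ⁅V, X⁆ ≠ cj k ⁅V, X⁆) {w₁ w₂ u u' : G}
    (hw₁ : w₁ ∈ ⁅V, X⁆) (hw₂ : w₂ ∈ ⁅V, X⁆) (hu : u ∈ cj g ⁅V, X⁆) (hu' : u' ∈ cj k ⁅V, X⁆)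
    (heq : w₁ * u = w₂ * u') : u = 1 := by
  have hz : w₂⁻¹ * w₁ = u' * u⁻¹ := by
    calc w₂⁻¹ * w₁ = w₂⁻¹ * (w₁ * u) * u⁻¹ := by group
      _ = w₂⁻¹ * (w₂ * u') * u⁻¹ := by rw [heq]
      _ = u' * u⁻¹ := by group
  have hzW : w₂⁻¹ * w₁ ∈ ⁅V, X⁆ := Subgroup.mul_mem _ (Subgroup.inv_mem _ hw₂) hw₁
  have c1 := (centralizes_of_moved S hA h hne hg h1).2
  have c2 := (centralizes_of_moved S hA h hne hk h2).2
  have hfix : ∀ x ∈ X, x * (w₂⁻¹ * w₁) * x⁻¹ = w₂⁻¹ * w₁ := by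
    intro x hx
    rw [hz]
    calc x * (u' * u⁻¹) * x⁻¹ = (x * u' * x⁻¹) * (x * u * x⁻¹)⁻¹ := by group
      _ = u' * u⁻¹ := by rw [c1 x hx u hu, c2 x hx u' hu']
  have hz1 := h.fixed_eq_one S hzW hfix
  have huu : u' = u := by
    rw [hz1] at hz
    exact (mul_inv_eq_one.mp hz.symm)
  -- now `u` lies in two distinct conjugates
  have hgc := h.conj S hg
  have hne' : cj g X ≠ E := by
    intro he
    apply hne
    have := congrArg (cj g⁻¹) he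
    rwa [cj_inv_cj, S.cj_E (E.inv_mem hg)] at this
  have hkg : k * g⁻¹ ∈ E := E.mul_mem hk (E.inv_mem hg)
  have hW : ⁅V, cj g X⁆ = cj g ⁅V, X⁆ := (S.cj_W hg X).symm
  have hmv : cj (k * g⁻¹) ⁅V, cj g X⁆ ≠ ⁅V, cj g X⁆ := by
    rw [hW, cj_mul, cj_inv_cj]
    exact fun hh => h3 hh.symm
  have := (hA (cj g X) hgc hne' (k * g⁻¹) hkg hmv).2
  rw [hW, cj_mul, cj_inv_cj] at this
  have hmem : u ∈ cj g ⁅V, X⁆ ⊓ cj k ⁅V, X⁆ := ⟨hu, huu ▸ hu'⟩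
  rw [this] at hmem
  exact Subgroup.mem_bot.mp hmem

end consequences

/-- the hypotheses on a pair. -/
structure Pair (p : ℕ) (V E X₁ X₂ : Subgroup G) : Prop where
  S : Setup p V E
  hA : HasA V E
  g₁ : Good V E X₁
  g₂ : Good V E X₂
  n12 : ¬ ⁅V, X₁⁆ ≤ ⁅V, X₂⁆
  n21 : ¬ ⁅V, X₂⁆ ≤ ⁅V, X₁⁆

namespace Pair

variable {p : ℕ} {V E X₁ X₂ : Subgroup G}

theorem symm (P : Pair p V E X₁ X₂) : Pair p V E X₂ X₁ :=
  ⟨P.S, P.hA, P.g₂, P.g₁, P.n21, P.n12⟩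

theorem ne₁ (P : Pair p V E X₁ X₂) : X₁ ≠ E := P.g₁.ne_of_not_le P.g₂ P.n21

theorem ne₂ (P : Pair p V E X₁ X₂) : X₂ ≠ E := P.symm.ne₁

theorem conj_left [Finite G] (P : Pair p V E X₁ X₂) {t : G} (ht : t ∈ X₂) :
    Pair p V E (cj t X₁) X₂ := by
  have htE : t ∈ E := P.g₂.le ht
  have hW : ⁅V, cj t X₁⁆ = cj t ⁅V, X₁⁆ := (P.S.cj_W htE X₁).symm
  have h2 : cj t ⁅V, X₂⁆ = ⁅V, X₂⁆ := P.S.self_conj_W P.g₂.le ht
  refine ⟨P.S, P.hA, P.g₁.conj P.S htE, P.g₂, ?_, ?_⟩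
  · rw [hW, ← h2, cj_le_iff]; exact P.n12
  · rw [hW, ← h2, cj_le_iff]; exact P.n21

/-- the map `w ↦ t w t⁻¹ w⁻¹` is injective on `W₁` when `t` moves `W₁`. -/
theorem comm_inj [Finite G] (P : Pair p V E X₁ X₂) {t : G} (ht : t ∈ X₂)
    (hmv : cj t ⁅V, X₁⁆ ≠ ⁅V, X₁⁆) {w w' : G} (hw : w ∈ ⁅V, X₁⁆) (hw' : w' ∈ ⁅V, X₁⁆)
    (heq : t * w * t⁻¹ * w⁻¹ = t * w' * t⁻¹ * w'⁻¹) : w = w' := by
  have hi := (P.hA X₁ P.g₁ P.ne₁ t (P.g₂.le ht) hmv).2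
  -- (t w' t⁻¹)⁻¹ (t w t⁻¹) = w'⁻¹ w
  have h1 : t * (w'⁻¹ * w) * t⁻¹ = w'⁻¹ * w := by
    calc t * (w'⁻¹ * w) * t⁻¹ = (t * w' * t⁻¹)⁻¹ * (t * w * t⁻¹ * w⁻¹) * w := by group
      _ = (t * w' * t⁻¹)⁻¹ * (t * w' * t⁻¹ * w'⁻¹) * w := by rw [heq]
      _ = w'⁻¹ * w := by group
  have h2 : w'⁻¹ * w ∈ ⁅V, X₁⁆ := Subgroup.mul_mem _ (Subgroup.inv_mem _ hw') hw
  have h3 : w'⁻¹ * w ∈ cj t ⁅V, X₁⁆ := by
    rw [← h1]; exact conj_mem_cj t h2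
  have : w'⁻¹ * w ∈ ⁅V, X₁⁆ ⊓ cj t ⁅V, X₁⁆ := ⟨h2, h3⟩
  rw [hi, Subgroup.mem_bot] at this
  exact (inv_mul_eq_one.mp this).symm

theorem card_le [Finite G] (P : Pair p V E X₁ X₂) {t : G} (ht : t ∈ X₂)
    (hmv : cj t ⁅V, X₁⁆ ≠ ⁅V, X₁⁆) :
    Nat.card (⁅V, X₁⁆ : Subgroup G) ≤ Nat.card (⁅V, X₂⁆ : Subgroup G) := by
  let f : (⁅V, X₁⁆ : Subgroup G) → (⁅V, X₂⁆ : Subgroup G) := fun w =>
    ⟨t * w.1 * t⁻¹ * w.1⁻¹, P.S.comm_mem ht (P.S.W_le P.g₁.le w.2)⟩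
  have hf : Function.Injective f := by
    intro w w' h
    apply Subtype.ext
    exact P.comm_inj ht hmv w.2 w'.2 (congrArg Subtype.val h)
  exact Nat.card_le_card_of_injective f hf

theorem surj [Finite G] (P : Pair p V E X₁ X₂) {t : G} (ht : t ∈ X₂)
    (hmv : cj t ⁅V, X₁⁆ ≠ ⁅V, X₁⁆) {a : G} (ha : a ∈ X₁) (hmva : cj a ⁅V, X₂⁆ ≠ ⁅V, X₂⁆)
    {z : G} (hz : z ∈ ⁅V, X₂⁆) : ∃ w ∈ ⁅V, X₁⁆, z = t * w * t⁻¹ * w⁻¹ := by
  let f : (⁅V, X₁⁆ : Subgroup G) → (⁅V, X₂⁆ : Subgroup G) := fun w =>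
    ⟨t * w.1 * t⁻¹ * w.1⁻¹, P.S.comm_mem ht (P.S.W_le P.g₁.le w.2)⟩
  have hf : Function.Injective f := by
    intro w w' h
    apply Subtype.ext
    exact P.comm_inj ht hmv w.2 w'.2 (congrArg Subtype.val h)
  have hcard : Nat.card (⁅V, X₂⁆ : Subgroup G) ≤ Nat.card (⁅V, X₁⁆ : Subgroup G) :=
    P.symm.card_le ha hmva
  have hb : Function.Bijective f := hf.bijective_of_nat_card_le hcard
  obtain ⟨w, hw⟩ := hb.2 ⟨z, hz⟩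
  exact ⟨w.1, w.2, (congrArg Subtype.val hw).symm⟩

/-- elements of `X₂` stabilizing `W₁` centralize it (when both move). -/
theorem stab_centralizes [Finite G] (P : Pair p V E X₁ X₂) {t : G} (ht : t ∈ X₂)
    (hmv : cj t ⁅V, X₁⁆ ≠ ⁅V, X₁⁆) {a : G} (ha : a ∈ X₁) (hmva : cj a ⁅V, X₂⁆ ≠ ⁅V, X₂⁆)
    {s : G} (hs : s ∈ X₂) (hst : cj s ⁅V, X₁⁆ = ⁅V, X₁⁆) {w : G} (hw : w ∈ ⁅V, X₁⁆) :
    s * w * s⁻¹ = w := by
  have hts : t * s ∈ X₂ := X₂.mul_mem ht hs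
  have hsw : s * w * s⁻¹ ∈ ⁅V, X₁⁆ := by
    have := conj_mem_cj s hw
    rwa [hst] at this
  have hz : (t * s) * w * (t * s)⁻¹ * w⁻¹ ∈ ⁅V, X₂⁆ := P.S.comm_mem hts (P.S.W_le P.g₁.le hw)
  obtain ⟨w', hw', he⟩ := P.surj ht hmv ha hmva hz
  have hi := (P.hA X₁ P.g₁ P.ne₁ t (P.g₂.le ht) hmv).2
  -- b⁻¹ a = w'⁻¹ w with a = t (s w s⁻¹) t⁻¹, b = t w' t⁻¹
  have h1 : t * (w'⁻¹ * (s * w * s⁻¹)) * t⁻¹ = w'⁻¹ * w := by
    calc t * (w'⁻¹ * (s * w * s⁻¹)) * t⁻¹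
        = (t * w' * t⁻¹)⁻¹ * ((t * s) * w * (t * s)⁻¹ * w⁻¹) * w := by group
      _ = (t * w' * t⁻¹)⁻¹ * (t * w' * t⁻¹ * w'⁻¹) * w := by rw [he]
      _ = w'⁻¹ * w := by group
  have h2 : w'⁻¹ * w ∈ ⁅V, X₁⁆ := Subgroup.mul_mem _ (Subgroup.inv_mem _ hw') hw
  have h3 : w'⁻¹ * w ∈ cj t ⁅V, X₁⁆ := by
    rw [← h1]
    exact conj_mem_cj t (Subgroup.mul_mem _ (Subgroup.inv_mem _ hw') hsw)
  have h4 : w'⁻¹ * w ∈ ⁅V, X₁⁆ ⊓ cj t ⁅V, X₁⁆ := ⟨h2, h3⟩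
  rw [hi, Subgroup.mem_bot] at h4
  have hww : w = w' := (inv_mul_eq_one.mp h4).symm
  -- then a = b
  rw [h4] at h1
  have h5 : w'⁻¹ * (s * w * s⁻¹) = 1 := by
    have : w'⁻¹ * (s * w * s⁻¹) = t⁻¹ * (t * (w'⁻¹ * (s * w * s⁻¹)) * t⁻¹) * t := by group
    rw [this, h1]; group
  rw [← hww] at h5
  exact (inv_mul_eq_one.mp h5).symm

/-- the orbit of `W₁` under `X₂` has at most two members (when both move). -/
theorem orbit_le_two [Finite G] (P : Pair p V E X₁ X₂) {t t' : G} (ht : t ∈ X₂)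
    (hmv : cj t ⁅V, X₁⁆ ≠ ⁅V, X₁⁆) (ht' : t' ∈ X₂) (hmv' : cj t' ⁅V, X₁⁆ ≠ ⁅V, X₁⁆)
    {a : G} (ha : a ∈ X₁) (hmva : cj a ⁅V, X₂⁆ ≠ ⁅V, X₂⁆) :
    cj t ⁅V, X₁⁆ = cj t' ⁅V, X₁⁆ := by
  by_contra h3
  have hne := P.g₂.W_ne_bot P.S
  obtain ⟨z, hz, hz1⟩ : ∃ z ∈ ⁅V, X₂⁆, z ≠ 1 := by
    by_contra hcon
    push Not at hcon
    apply hne
    rw [eq_bot_iff]
    intro z hz
    exact Subgroup.mem_bot.mpr (hcon z hz)
  obtain ⟨w, hw, he⟩ := P.surj ht hmv ha hmva hz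
  obtain ⟨w', hw', he'⟩ := P.surj ht' hmv' ha hmva hz
  have hwV : w ∈ V := P.S.W_le P.g₁.le hw
  have hw'V : w' ∈ V := P.S.W_le P.g₁.le hw'
  have htE := P.g₂.le ht
  have ht'E := P.g₂.le ht'
  have c1 : t * w * t⁻¹ * w⁻¹ = w⁻¹ * (t * w * t⁻¹) :=
    P.S.comm _ (P.S.conj_mem htE hwV) _ (V.inv_mem hwV)
  have c2 : t' * w' * t'⁻¹ * w'⁻¹ = w'⁻¹ * (t' * w' * t'⁻¹) :=
    P.S.comm _ (P.S.conj_mem ht'E hw'V) _ (V.inv_mem hw'V)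
  have heq : w⁻¹ * (t * w * t⁻¹) = w'⁻¹ * (t' * w' * t'⁻¹) := by
    rw [← c1, ← c2, ← he, ← he']
  have hu := indep3 P.S P.hA P.g₁ P.ne₁ htE ht'E hmv hmv' h3 (Subgroup.inv_mem _ hw)
    (Subgroup.inv_mem _ hw') (conj_mem_cj t hw) (conj_mem_cj t' hw') heq
  have hw1 : w = 1 := by
    have : w = t⁻¹ * (t * w * t⁻¹) * t := by group
    rw [this, hu]; group
  apply hz1
  rw [he, hw1]; group

/-- both moving is impossible. -/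
theorem false_of_both [Finite G] (P : Pair p V E X₁ X₂) {t : G} (ht : t ∈ X₂)
    (hmv : cj t ⁅V, X₁⁆ ≠ ⁅V, X₁⁆) {a : G} (ha : a ∈ X₁) (hmva : cj a ⁅V, X₂⁆ ≠ ⁅V, X₂⁆) :
    False := by
  have htE := P.g₂.le ht
  -- the conjugated pair
  have P' := P.conj_left ht
  have hW' : ⁅V, cj t X₁⁆ = cj t ⁅V, X₁⁆ := (P.S.cj_W htE X₁).symm
  have ht' : t⁻¹ ∈ X₂ := X₂.inv_mem ht
  have hmv' : cj t⁻¹ ⁅V, cj t X₁⁆ ≠ ⁅V, cj t X₁⁆ := by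
    rw [hW', cj_inv_cj]
    exact fun h => hmv h.symm
  have ha' : t * a * t⁻¹ ∈ cj t X₁ := conj_mem_cj t ha
  have hmva' : cj (t * a * t⁻¹) ⁅V, X₂⁆ ≠ ⁅V, X₂⁆ := by
    have h2 : cj t ⁅V, X₂⁆ = ⁅V, X₂⁆ := P.S.self_conj_W P.g₂.le ht
    have h2' : cj t⁻¹ ⁅V, X₂⁆ = ⁅V, X₂⁆ := P.S.self_conj_W P.g₂.le ht'
    rw [cj_mul, cj_mul, h2']
    intro h
    apply hmva
    have := congrArg (cj t⁻¹) h
    rwa [cj_inv_cj, h2'] at this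
  -- stabilizer elements are trivial
  have hstab : ∀ s ∈ X₂, cj s ⁅V, X₁⁆ = ⁅V, X₁⁆ → s = 1 := by
    intro s hs hst
    have hst2 : cj s (cj t ⁅V, X₁⁆) = cj t ⁅V, X₁⁆ := by
      rw [← cj_mul]
      have hmvst : cj (s * t) ⁅V, X₁⁆ ≠ ⁅V, X₁⁆ := by
        rw [cj_mul]
        intro h
        apply hmv
        have := congrArg (cj s⁻¹) h
        rw [cj_inv_cj] at this
        rw [this]
        have := congrArg (cj s⁻¹) hst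
        rw [cj_inv_cj] at this
        exact this.symm
      exact P.orbit_le_two (X₂.mul_mem hs ht) hmvst ht hmv ha hmva
    apply P.g₂.faithful P.S hs
    intro z hz
    obtain ⟨w, hw, he⟩ := P.surj ht hmv ha hmva hz
    have c1 : s * w * s⁻¹ = w := P.stab_centralizes ht hmv ha hmva hs hst hw
    have c2 : s * (t * w * t⁻¹) * s⁻¹ = t * w * t⁻¹ := by
      have hst2' : cj s ⁅V, cj t X₁⁆ = ⁅V, cj t X₁⁆ := by rw [hW']; exact hst2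
      have hmem : t * w * t⁻¹ ∈ ⁅V, cj t X₁⁆ := by rw [hW']; exact conj_mem_cj t hw
      exact P'.stab_centralizes ht' hmv' ha' hmva' hs hst2' hmem
    rw [he]
    calc s * (t * w * t⁻¹ * w⁻¹) * s⁻¹ = (s * (t * w * t⁻¹) * s⁻¹) * (s * w * s⁻¹)⁻¹ := by group
      _ = t * w * t⁻¹ * w⁻¹ := by rw [c1, c2]
  -- every element of X₂ is 1 or t
  have hall : ∀ x ∈ X₂, x = 1 ∨ x = t := by
    intro x hx
    by_cases hxs : cj x ⁅V, X₁⁆ = ⁅V, X₁⁆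
    · left; exact hstab x hx hxs
    · right
      have h1 := P.orbit_le_two hx hxs ht hmv ha hmva
      have h2 : cj (t⁻¹ * x) ⁅V, X₁⁆ = ⁅V, X₁⁆ := by
        rw [cj_mul, h1, cj_inv_cj]
      have h3 := hstab (t⁻¹ * x) (X₂.mul_mem ht' hx) h2
      calc x = t * (t⁻¹ * x) := by group
        _ = t := by rw [h3, mul_one]
  have hcard : Nat.card X₂ ≤ 2 := by
    have hsub : (X₂ : Set G) ⊆ ({1, t} : Set G) := by
      intro x hx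
      rcases hall x hx with h | h
      · left; exact h
      · right; exact h
    have h1 : Nat.card X₂ = (X₂ : Set G).ncard := Nat.card_coe_set_eq (X₂ : Set G)
    calc Nat.card X₂ = (X₂ : Set G).ncard := h1
      _ ≤ ({1, t} : Set G).ncard := Set.ncard_le_ncard hsub (Set.toFinite _)
      _ ≤ 2 := Set.ncard_insert_le _ _ |>.trans (by simp)
  have := P.g₂.big
  omega

/-- `X₂` stabilizes `W₁` but `X₁` moves `W₂`: impossible. -/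
theorem false_of_one [Finite G] (P : Pair p V E X₁ X₂)
    (hstab : ∀ t ∈ X₂, cj t ⁅V, X₁⁆ = ⁅V, X₁⁆) {a : G} (ha : a ∈ X₁)
    (hmva : cj a ⁅V, X₂⁆ ≠ ⁅V, X₂⁆) : False := by
  -- T = W₁ ⊓ W₂ is X₂-invariant
  have hT : ⁅V, X₁⁆ ⊓ ⁅V, X₂⁆ = ⊥ := by
    have hn : X₂ ≤ Subgroup.normalizer ((⁅V, X₁⁆ ⊓ ⁅V, X₂⁆ : Subgroup G) : Set G) := by
      intro t ht
      apply mem_normalizer_of_cj_eq
      rw [cj_inf, hstab t ht, P.S.self_conj_W P.g₂.le ht]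
    rcases P.g₂.irr _ inf_le_right hn with h | h
    · exact h
    · exfalso
      apply P.n21
      rw [← h]; exact inf_le_left
  have hcent : ∀ t ∈ X₂, ∀ w ∈ ⁅V, X₁⁆, t * w * t⁻¹ = w := by
    intro t ht w hw
    have h1 : t * w * t⁻¹ ∈ ⁅V, X₁⁆ := by
      have := conj_mem_cj t hw
      rwa [hstab t ht] at this
    have h2 : t * w * t⁻¹ * w⁻¹ ∈ ⁅V, X₂⁆ := P.S.comm_mem ht (P.S.W_le P.g₁.le hw)
    exact eq_of_mul_inv_mem_bot hT (Subgroup.mul_mem _ h1 (Subgroup.inv_mem _ hw)) h2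
  have haE := P.g₁.le ha
  have c2 := (centralizes_of_moved P.S P.hA P.g₂ P.ne₂ haE hmva).2
  apply P.g₂.W_ne_bot P.S
  rw [eq_bot_iff]
  intro w hw
  rw [Subgroup.mem_bot]
  apply P.g₂.fixed_eq_one P.S hw
  intro t ht
  have hz : a * w * a⁻¹ * w⁻¹ ∈ ⁅V, X₁⁆ := P.S.comm_mem ha (P.S.W_le P.g₂.le hw)
  have h1 := hcent t ht _ hz
  have h2 := c2 t ht _ (conj_mem_cj a hw)
  calc t * w * t⁻¹ = (t * (a * w * a⁻¹ * w⁻¹) * t⁻¹)⁻¹ * (t * (a * w * a⁻¹) * t⁻¹) := by group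
    _ = (a * w * a⁻¹ * w⁻¹)⁻¹ * (a * w * a⁻¹) := by rw [h1, h2]
    _ = w := by group

/-- nobody moves: the conclusion holds. -/
theorem concl_of_none [Finite G] (P : Pair p V E X₁ X₂)
    (h₁ : ∀ t ∈ X₂, cj t ⁅V, X₁⁆ = ⁅V, X₁⁆) (_h₂ : ∀ a ∈ X₁, cj a ⁅V, X₂⁆ = ⁅V, X₂⁆) :
    Concl V X₁ X₂ := by
  have hT : ⁅V, X₁⁆ ⊓ ⁅V, X₂⁆ = ⊥ := by
    have hn : X₂ ≤ Subgroup.normalizer ((⁅V, X₁⁆ ⊓ ⁅V, X₂⁆ : Subgroup G) : Set G) := by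
      intro t ht
      apply mem_normalizer_of_cj_eq
      rw [cj_inf, h₁ t ht, P.S.self_conj_W P.g₂.le ht]
    rcases P.g₂.irr _ inf_le_right hn with h | h
    · exact h
    · exfalso
      apply P.n21
      rw [← h]; exact inf_le_left
  refine ⟨?_, hT⟩
  have hc : ⁅⁅V, X₁⁆, X₂⁆ = ⊥ := by
    rw [eq_bot_iff, Subgroup.commutator_le]
    intro w hw t ht
    rw [Subgroup.mem_bot, commutatorElement_def]
    have h1 : t * w * t⁻¹ ∈ ⁅V, X₁⁆ := by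
      have := conj_mem_cj t hw
      rwa [h₁ t ht] at this
    have h2 : t * w * t⁻¹ * w⁻¹ ∈ ⁅V, X₂⁆ := P.S.comm_mem ht (P.S.W_le P.g₁.le hw)
    have h3 : t * w * t⁻¹ = w :=
      eq_of_mul_inv_mem_bot hT (Subgroup.mul_mem _ h1 (Subgroup.inv_mem _ hw)) h2
    calc w * t * w⁻¹ * t⁻¹ = w * (t * w * t⁻¹)⁻¹ := by group
      _ = 1 := by rw [h3]; group
  have hst := commutator_le_chainStab V E P.S.norm X₁ X₂ P.g₁.le P.g₂.le hc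
  have hsub : SubIn ⁅X₁, X₂⁆ E := by
    have h3 : SubIn (X₁ ⊔ X₂) E := P.g₁.sub.sup P.g₂.sub
    have h4 : ⁅X₁, X₂⁆ ≤ X₁ ⊔ X₂ :=
      (Subgroup.commutator_mono le_sup_left le_sup_right).trans (Subgroup.commutator_le_self _)
    exact (SubIn.of_le_normalizer h4 (commutator_normal_in_sup X₁ X₂)).trans h3
  exact P.S.eq_bot_of_chainStab hsub (P.S.W_le P.g₁.le) hst

theorem concl [Finite G] (P : Pair p V E X₁ X₂) : Concl V X₁ X₂ := by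
  by_cases h₁ : ∀ t ∈ X₂, cj t ⁅V, X₁⁆ = ⁅V, X₁⁆
  · by_cases h₂ : ∀ a ∈ X₁, cj a ⁅V, X₂⁆ = ⁅V, X₂⁆
    · exact P.concl_of_none h₁ h₂
    · exfalso
      push Not at h₂
      obtain ⟨a, ha, hmva⟩ := h₂
      exact P.false_of_one h₁ ha hmva
  · exfalso
    push Not at h₁
    obtain ⟨t, ht, hmv⟩ := h₁
    by_cases h₂ : ∀ a ∈ X₁, cj a ⁅V, X₂⁆ = ⁅V, X₂⁆
    · exact P.symm.false_of_one h₂ ht hmv
    · push Not at h₂
      obtain ⟨a, ha, hmva⟩ := h₂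
      exact P.false_of_both ht hmv ha hmva

end Pair

/-- **Main theorem**: two good subgroups with incomparable commutator modules commute, and the
modules meet trivially. -/
theorem main [Finite G] (p : ℕ) (V : Subgroup G) :
    ∀ (n : ℕ) (E : Subgroup G), Nat.card E = n → Setup p V E → ∀ X₁ X₂ : Subgroup G,
      Good V E X₁ → Good V E X₂ → ¬ ⁅V, X₁⁆ ≤ ⁅V, X₂⁆ → ¬ ⁅V, X₂⁆ ≤ ⁅V, X₁⁆ → Concl V X₁ X₂ := by
  intro n
  induction n using Nat.strong_induction_on with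
  | _ n ih =>
    intro E hn S X₁ X₂ g₁ g₂ n12 n21
    have hA : HasA V E := by
      apply hasA_of_ih S
      intro L hL SL Y₁ Y₂ k₁ k₂ m12 m21
      exact ih (Nat.card L) (hn ▸ hL) L rfl SL Y₁ Y₂ k₁ k₂ m12 m21
    exact (Pair.mk S hA g₁ g₂ n12 n21).concl

section final

variable {p : ℕ} {V E X₁ X₂ : Subgroup G}

theorem cj_sup (g : G) (A B : Subgroup G) : cj g (A ⊔ B) = cj g A ⊔ cj g B := by
  show (A ⊔ B).map _ = A.map _ ⊔ B.map _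
  exact Subgroup.map_sup A B _

/-- from the conclusion: `X₂` centralizes `⁅V, X₁⁆`. -/
theorem centralizes_of_concl (S : Setup p V E) (hX₁ : X₁ ≤ E) (hX₂ : X₂ ≤ E)
    (hc : Concl V X₁ X₂) : ∀ t ∈ X₂, ∀ w ∈ ⁅V, X₁⁆, t * w * t⁻¹ = w := by
  intro t ht w hw
  have h1 : cj t X₁ = X₁ :=
    cj_eq_self_of_centralizes (fun a ha => (comm_of_commutator_eq_bot hc.1 ha ht).symm)
  have h2 : cj t ⁅V, X₁⁆ = ⁅V, X₁⁆ := by rw [S.cj_W (hX₂ ht), h1]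
  have h3 : t * w * t⁻¹ ∈ ⁅V, X₁⁆ := by
    have := conj_mem_cj t hw
    rwa [h2] at this
  have h4 : t * w * t⁻¹ * w⁻¹ ∈ ⁅V, X₂⁆ := S.comm_mem ht (S.W_le hX₁ hw)
  exact eq_of_mul_inv_mem_bot hc.2 (Subgroup.mul_mem _ h3 (Subgroup.inv_mem _ hw)) h4

theorem Concl.symm (hc : Concl V X₁ X₂) : Concl V X₂ X₁ := by
  refine ⟨?_, ?_⟩
  · rw [Subgroup.commutator_comm]; exact hc.1
  · rw [inf_comm]; exact hc.2

/-- the elements acting on `V` with commutators in `M` and normalizing `M`. -/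
def commStab (V M : Subgroup G) : Subgroup G where
  carrier := {e | e ∈ Subgroup.normalizer (V : Set G) ⊓ Subgroup.normalizer (M : Set G) ∧
    ∀ v ∈ V, e * v * e⁻¹ * v⁻¹ ∈ M}
  one_mem' := ⟨Subgroup.one_mem _, fun v _ => by simp⟩
  mul_mem' := by
    rintro e e' ⟨he, hce⟩ ⟨he', hce'⟩
    refine ⟨Subgroup.mul_mem _ he he', fun v hv => ?_⟩
    have h1 := hce' v hv
    have h2 : e * (e' * v * e'⁻¹ * v⁻¹) * e⁻¹ ∈ M :=
      (Subgroup.mem_normalizer_iff.mp (Subgroup.mem_inf.mp he).2 _).mp h1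
    have e1 : e * e' * v * (e * e')⁻¹ * v⁻¹
        = (e * (e' * v * e'⁻¹ * v⁻¹) * e⁻¹) * (e * v * e⁻¹ * v⁻¹) := by group
    rw [e1]
    exact M.mul_mem h2 (hce v hv)
  inv_mem' := by
    rintro e ⟨he, hce⟩
    refine ⟨Subgroup.inv_mem _ he, fun v hv => ?_⟩
    have hv' : e⁻¹ * v * e⁻¹⁻¹ ∈ V :=
      (Subgroup.mem_normalizer_iff.mp (Subgroup.inv_mem _ (Subgroup.mem_inf.mp he).1) v).mp hv
    have h1 := hce _ hv'
    have e1 : e⁻¹ * v * e⁻¹⁻¹ * v⁻¹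
        = (e * (e⁻¹ * v * e⁻¹⁻¹) * e⁻¹ * (e⁻¹ * v * e⁻¹⁻¹)⁻¹)⁻¹ := by group
    rw [e1]
    exact M.inv_mem h1

theorem commutator_sup_eq (S : Setup p V E) (hE : E = X₁ ⊔ X₂)
    (hc₁₂ : ∀ t ∈ X₂, ∀ w ∈ ⁅V, X₁⁆, t * w * t⁻¹ = w)
    (hc₂₁ : ∀ a ∈ X₁, ∀ w ∈ ⁅V, X₂⁆, a * w * a⁻¹ = w) :
    ⁅V, E⁆ = ⁅V, X₁⁆ ⊔ ⁅V, X₂⁆ := by
  have hX₁ : X₁ ≤ E := hE ▸ le_sup_left
  have hX₂ : X₂ ≤ E := hE ▸ le_sup_right
  apply le_antisymm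
  · have key : ∀ (Y Z : Subgroup G), Y ≤ E → Z ≤ E →
        (∀ a ∈ Y, ∀ w ∈ ⁅V, Z⁆, a * w * a⁻¹ = w) →
        Y ≤ commStab V (⁅V, Y⁆ ⊔ ⁅V, Z⁆) := by
      intro Y Z hY hZ hcent a ha
      have h1 : cj a ⁅V, Y⁆ = ⁅V, Y⁆ := S.self_conj_W hY ha
      have h2 : cj a ⁅V, Z⁆ = ⁅V, Z⁆ :=
        cj_eq_self_of_centralizes (fun w hw => by
          have := hcent a ha w hw
          calc a * w = (a * w * a⁻¹) * a := by group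
            _ = w * a := by rw [this])
      refine ⟨Subgroup.mem_inf.mpr ⟨S.norm (hY ha), ?_⟩, fun v hv => ?_⟩
      · apply mem_normalizer_of_cj_eq
        rw [cj_sup, h1, h2]
      · exact (le_sup_left : ⁅V, Y⁆ ≤ ⁅V, Y⁆ ⊔ ⁅V, Z⁆) (S.comm_mem ha hv)
    have k1 := key X₁ X₂ hX₁ hX₂ hc₂₁
    have k2 := key X₂ X₁ hX₂ hX₁ hc₁₂
    rw [sup_comm] at k2
    have hED : E ≤ commStab V (⁅V, X₁⁆ ⊔ ⁅V, X₂⁆) := by
      rw [hE]; exact sup_le k1 k2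
    rw [Subgroup.commutator_le]
    intro v hv e he
    have h1 := (hED he).2 v hv
    have e1 : ⁅v, e⁆ = (e * v * e⁻¹ * v⁻¹)⁻¹ := by
      simp only [commutatorElement_def]; group
    rw [e1]
    exact Subgroup.inv_mem _ h1
  · exact sup_le (Subgroup.commutator_mono le_rfl hX₁) (Subgroup.commutator_mono le_rfl hX₂)

/-- the intersection of two subgroups with the conclusion is trivial. -/
theorem inf_eq_bot_of_concl (S : Setup p V E) (h₁ : SubIn X₁ E) (h₂ : SubIn X₂ E)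
    (hc : Concl V X₁ X₂) : X₁ ⊓ X₂ = ⊥ := by
  have hsub : SubIn (X₁ ⊓ X₂) E := by
    refine ⟨inf_le_left.trans h₁.1, ?_⟩
    have : (X₁ ⊓ X₂).subgroupOf E = X₁.subgroupOf E ⊓ X₂.subgroupOf E := by
      ext x; simp [Subgroup.mem_subgroupOf]
    rw [this]
    exact h₁.2.inf h₂.2
  have hcent := centralizes_of_concl S h₁.1 h₂.1 hc
  apply S.eq_bot_of_chainStab hsub (S.W_le h₁.1) (W := ⁅V, X₁⁆)
  intro k hk
  exact ⟨fun w hw => hcent k hk.2 w hw, fun v hv => S.comm_mem hk.1 hv⟩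

end final

end Cfsg.Agent.Lib.Helper2.SubnIrr
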