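/-
helper2: the conjugation action on Sylow subgroups and its permutation character:
if every irreducible character degree is smaller than `p` then the Sylow `p`-subgroup is normal.
-/
import Mathlib
import Cfsg.Agent.Lib.Lead.PermChar
import Cfsg.Agent.Lib.Lead.CharMore
import Cfsg.Agent.Lib.Helper6.CharExtra
import Cfsg.Agent.Lib.Helper24.IrrFacts
import Cfsg.Agent.Lib.Helper10.SylowInduced
import Cfsg.Agent.Lib.Helper6.Clifford
import Cfsg.Agent.Lib.Helper6.CliffordCorr

set_option autoImplicit false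

namespace Cfsg.Agent.Lib.Helper2.SylowPerm

open Cfsg Cfsg.Agent.CharLib MulAction
open scoped ComplexConjugate

universe u

section count
variable {G : Type u} [Group G] {Y : Type*} [MulAction G Y]

/-- Double counting of the pairs `(g, y)` with `g • y = y`. -/
theorem sum_card_fixedBy_eq_sum_card_stabilizer [Fintype G] [Fintype Y] :
    ∑ g : G, Nat.card (fixedBy Y g) = ∑ y : Y, Nat.card (stabilizer G y) := by
  classical
  have h1 : ∀ g : G, Nat.card (fixedBy Y g) = ∑ y : Y, if g • y = y then 1 else 0 := by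
    intro g
    rw [Nat.card_eq_fintype_card, Fintype.card_subtype, Finset.card_filter]
    rfl
  have h2 : ∀ y : Y, Nat.card (stabilizer G y) = ∑ g : G, if g • y = y then 1 else 0 := by
    intro y
    rw [Nat.card_eq_fintype_card, Fintype.card_subtype, Finset.card_filter]
    rfl
  rw [Finset.sum_congr rfl (fun g _ => h1 g), Finset.sum_congr rfl (fun y _ => h2 y)]
  exact Finset.sum_comm

end count

section sylow
variable {G : Type u} [Group G] [Finite G] {p : ℕ} [hp : Fact p.Prime]

/-- Two distinct Sylow subgroups: the joint normalizer has index at least `p` in each normalizer. -/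
theorem card_inf_stabilizer_le {Q Q' : Sylow p G} (hne : Q ≠ Q') :
    p * Nat.card (stabilizer G Q ⊓ stabilizer G Q' : Subgroup G) ≤ Nat.card (stabilizer G Q) := by
  set N := stabilizer G Q with hN
  set N' := stabilizer G Q' with hN'
  have hQN : (Q : Subgroup G) ≤ N := by
    rw [hN, Sylow.stabilizer_eq_normalizer]
    exact Subgroup.le_normalizer
  -- the index of `N'` in `Q`
  have h1 : N'.relIndex (Q : Subgroup G) ≤ N'.relIndex N :=
    Subgroup.relIndex_le_of_le_right hQN (by
      unfold Subgroup.relIndex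
      exact Subgroup.index_ne_zero_of_finite)
  have h2 : N'.relIndex (Q : Subgroup G) ≠ 1 := by
    intro h
    rw [Subgroup.relIndex_eq_one] at h
    have h3 : (Q : Subgroup G) ⊓ N' = (Q : Subgroup G) ⊓ (Q' : Subgroup G) := by
      rw [hN', Sylow.stabilizer_eq_normalizer]
      exact IsPGroup.inf_normalizer_sylow Q.2 Q'
    have h4 : (Q : Subgroup G) ≤ (Q' : Subgroup G) := by
      have : (Q : Subgroup G) ⊓ N' = (Q : Subgroup G) := inf_eq_left.mpr h
      rw [this] at h3
      exact inf_eq_left.mp h3.symm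
    apply hne
    apply Sylow.ext
    exact (Q.3 Q'.2 h4).symm
  have h5 : ∃ k : ℕ, N'.relIndex (Q : Subgroup G) = p ^ k := by
    have := IsPGroup.index Q.2 (N'.subgroupOf (Q : Subgroup G))
    exact this
  obtain ⟨k, hk⟩ := h5
  have h6 : p ≤ N'.relIndex (Q : Subgroup G) := by
    rw [hk]
    rcases k with _ | k
    · exfalso; apply h2; rw [hk, pow_zero]
    · calc p = p ^ 1 := (pow_one p).symm
        _ ≤ p ^ (k + 1) := Nat.pow_le_pow_right hp.out.pos (by omega)
  have h7 : (N ⊓ N').relIndex N = N'.relIndex N := by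
    rw [inf_comm]
    exact Subgroup.inf_relIndex_right N' N
  have h8 := Subgroup.relIndex_mul_relIndex ⊥ (N ⊓ N') N bot_le inf_le_left
  rw [Subgroup.relIndex_bot_left, Subgroup.relIndex_bot_left, h7] at h8
  calc p * Nat.card (N ⊓ N' : Subgroup G) ≤ N'.relIndex N * Nat.card (N ⊓ N' : Subgroup G) :=
        Nat.mul_le_mul_right _ (h6.trans h1)
    _ = Nat.card N := by rw [mul_comm]; exact h8

end sylow

section main
variable {G : Type u} [Group G] [Finite G] {p : ℕ} [hp : Fact p.Prime]

/-- If all irreducible character degrees are smaller than `p`, there is only one Sylow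
`p`-subgroup. -/
theorem card_sylow_eq_one_of_degrees_lt
    (hb : ∀ χ : IrrCharacter G, charDegree (χ : G → ℂ) < p) : Nat.card (Sylow p G) = 1 := by
  classical
  let _ := Fintype.ofFinite G
  let _ := fintypeIrr G
  let _ : Fintype (Sylow p G) := Fintype.ofFinite _
  have hG0 : (Nat.card G : ℂ) ≠ 0 := by exact_mod_cast (Nat.card_pos (α := G)).ne'
  set n := Nat.card (Sylow p G) with hn
  have hn1 : 1 ≤ n := Nat.card_pos
  set π : G → ℂ := fun g => (Nat.card (fixedBy (Sylow p G) g) : ℂ) with hπdef
  have hπ : IsCharacter G π := isCharacter_card_fixedBy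
  obtain ⟨m, hdec, hm⟩ := Cfsg.Agent.Lib.Helper6.IsCharacter.exists_decomp_sum hπ
  -- the trivial character
  let χ₀ : IrrCharacter G := ⟨1, isIrrCharacter_one⟩
  have horb1 : Nat.card (MulAction.orbitRel.Quotient G (Sylow p G)) = 1 := by
    have : Unique (MulAction.orbitRel.Quotient G (Sylow p G)) :=
      (MulAction.pretransitive_iff_unique_quotient_of_nonempty G (Sylow p G)).mp
        Sylow.isPretransitive_of_finite |>.some
    exact Nat.card_unique
  have hm0 : m χ₀ = 1 := by
    have h1 := hm χ₀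
    have h2 : classInner π (χ₀ : G → ℂ) = 1 := by
      unfold classInner
      have : ∀ g : G, π g * conj ((χ₀ : G → ℂ) g) = π g := by
        intro g
        show π g * conj ((1 : G → ℂ) g) = π g
        rw [Pi.one_apply, map_one, mul_one]
      rw [Finset.sum_congr rfl (fun g _ => this g), sum_card_fixedBy, horb1]
      rw [Nat.cast_one, one_mul, inv_mul_cancel₀ hG0]
    rw [h2] at h1
    exact_mod_cast h1.symm
  -- degrees
  have hdeg : n = ∑ ψ : IrrCharacter G, m ψ * charDegree (ψ : G → ℂ) := by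
    have h1 := congrFun hdec 1
    have h2 : π 1 = (n : ℂ) := by
      rw [hπdef]
      show (Nat.card (fixedBy (Sylow p G) (1 : G)) : ℂ) = (n : ℂ)
      have hu : fixedBy (Sylow p G) (1 : G) = Set.univ := by
        ext x; simp
      rw [hu, Nat.card_congr (Equiv.Set.univ _)]
    rw [h2, Finset.sum_apply] at h1
    have h3 : ∀ ψ : IrrCharacter G, (m ψ • (ψ : G → ℂ)) 1 =
        ((m ψ * charDegree (ψ : G → ℂ) : ℕ) : ℂ) := by
      intro ψ
      rw [Pi.smul_apply, Cfsg.Agent.Lib.Helper24.irr_apply_one, nsmul_eq_mul, Nat.cast_mul]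
    rw [Finset.sum_congr rfl (fun ψ _ => h3 ψ), ← Nat.cast_sum] at h1
    exact_mod_cast h1
  -- norm
  have hnorm : classInner π π = ((∑ ψ : IrrCharacter G, m ψ * m ψ : ℕ) : ℂ) := by
    conv_lhs => rw [hdec]
    rw [classInner_sum_left, Nat.cast_sum]
    apply Finset.sum_congr rfl
    intro ψ _
    rw [← Nat.cast_smul_eq_nsmul ℂ, classInner_smul_left, ← hdec, ← classInner_conj_symm, hm ψ,
      Complex.conj_natCast, Nat.cast_mul]
  -- double counting
  have hcount : ∑ g : G, Nat.card (fixedBy (Sylow p G) g) * Nat.card (fixedBy (Sylow p G) g) =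
      ∑ y : Sylow p G × Sylow p G, Nat.card (stabilizer G y) := by
    rw [← sum_card_fixedBy_eq_sum_card_stabilizer]
    apply Finset.sum_congr rfl
    intro g _
    rw [card_fixedBy_prod]
  -- the inner product in terms of stabilizers
  have hnorm2 : classInner π π =
      (Nat.card G : ℂ)⁻¹ * ((∑ y : Sylow p G × Sylow p G, Nat.card (stabilizer G y) : ℕ) : ℂ) := by
    unfold classInner
    congr 1
    rw [← hcount, Nat.cast_sum]
    apply Finset.sum_congr rfl
    intro g _
    rw [hπdef]
    simp only [Complex.conj_natCast, Nat.cast_mul]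
  have hR : Nat.card G * ∑ ψ : IrrCharacter G, m ψ * m ψ =
      ∑ y : Sylow p G × Sylow p G, Nat.card (stabilizer G y) := by
    have h1 := hnorm.symm.trans hnorm2
    have h2 : (Nat.card G : ℂ) * ((∑ ψ : IrrCharacter G, m ψ * m ψ : ℕ) : ℂ) =
        ((∑ y : Sylow p G × Sylow p G, Nat.card (stabilizer G y) : ℕ) : ℂ) := by
      rw [h1, ← mul_assoc, mul_inv_cancel₀ hG0, one_mul]
    exact_mod_cast h2
  -- sizes of stabilizers
  have hstab : ∀ Q : Sylow p G, n * Nat.card (stabilizer G Q) = Nat.card G := by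
    intro Q
    have h1 := Subgroup.card_mul_index (stabilizer G Q)
    have : MulAction.IsPretransitive G (Sylow p G) := Sylow.isPretransitive_of_finite
    rw [MulAction.index_stabilizer_of_transitive G Q] at h1
    rw [mul_comm]
    exact h1
  have hpair : ∀ Q Q' : Sylow p G, stabilizer G ((Q, Q') : Sylow p G × Sylow p G) =
      stabilizer G Q ⊓ stabilizer G Q' := by
    intro Q Q'
    ext g
    rw [Subgroup.mem_inf, MulAction.mem_stabilizer_iff, MulAction.mem_stabilizer_iff,
      MulAction.mem_stabilizer_iff, Prod.smul_mk, Prod.mk.injEq]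
  -- the bound for a fixed first coordinate
  have hrow : ∀ Q : Sylow p G, p * ∑ Q' : Sylow p G,
      Nat.card (stabilizer G ((Q, Q') : Sylow p G × Sylow p G)) ≤
        (p + (n - 1)) * Nat.card (stabilizer G Q) := by
    intro Q
    rw [← Finset.add_sum_erase Finset.univ _ (Finset.mem_univ Q), mul_add, add_mul]
    apply add_le_add
    · rw [hpair, inf_idem]
    · rw [Finset.mul_sum]
      calc ∑ Q' ∈ Finset.univ.erase Q, p * Nat.card (stabilizer G ((Q, Q') : Sylow p G × Sylow p G))
          ≤ ∑ Q' ∈ Finset.univ.erase Q, Nat.card (stabilizer G Q) := by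
            apply Finset.sum_le_sum
            intro Q' hQ'
            rw [hpair]
            exact card_inf_stabilizer_le (Finset.ne_of_mem_erase hQ').symm
        _ = (n - 1) * Nat.card (stabilizer G Q) := by
            rw [Finset.sum_const, Finset.card_erase_of_mem (Finset.mem_univ Q), Finset.card_univ,
              smul_eq_mul, hn]
            simp only [Nat.card_eq_fintype_card]
  have htotal : p * (n * ∑ y : Sylow p G × Sylow p G, Nat.card (stabilizer G y)) ≤
      n * ((p + (n - 1)) * Nat.card G) := by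
    rw [Fintype.sum_prod_type]
    calc p * (n * ∑ Q : Sylow p G, ∑ Q' : Sylow p G,
          Nat.card (stabilizer G ((Q, Q') : Sylow p G × Sylow p G)))
        = n * ∑ Q : Sylow p G, p * ∑ Q' : Sylow p G,
          Nat.card (stabilizer G ((Q, Q') : Sylow p G × Sylow p G)) := by
          rw [Finset.mul_sum, Finset.mul_sum, Finset.mul_sum]
          apply Finset.sum_congr rfl
          intro Q _
          ring
      _ ≤ n * ∑ Q : Sylow p G, (p + (n - 1)) * Nat.card (stabilizer G Q) :=
          Nat.mul_le_mul_left _ (Finset.sum_le_sum (fun Q _ => hrow Q))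
      _ = ∑ Q : Sylow p G, (p + (n - 1)) * (n * Nat.card (stabilizer G Q)) := by
          rw [Finset.mul_sum]
          apply Finset.sum_congr rfl
          intro Q _
          ring
      _ = ∑ Q : Sylow p G, (p + (n - 1)) * Nat.card G := by
          apply Finset.sum_congr rfl
          intro Q _
          rw [hstab Q]
      _ = n * ((p + (n - 1)) * Nat.card G) := by
          rw [Finset.sum_const, Finset.card_univ, smul_eq_mul, hn, Nat.card_eq_fintype_card]
  have hGpos : 0 < Nat.card G := Nat.card_pos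
  have hkey : p * ∑ ψ : IrrCharacter G, m ψ * m ψ ≤ p + (n - 1) := by
    rw [← hR] at htotal
    have h1 : (n * Nat.card G) * (p * ∑ ψ : IrrCharacter G, m ψ * m ψ) ≤
        (n * Nat.card G) * (p + (n - 1)) := by
      calc (n * Nat.card G) * (p * ∑ ψ : IrrCharacter G, m ψ * m ψ)
          = p * (n * (Nat.card G * ∑ ψ : IrrCharacter G, m ψ * m ψ)) := by ring
        _ ≤ n * ((p + (n - 1)) * Nat.card G) := htotal
        _ = (n * Nat.card G) * (p + (n - 1)) := by ring
    exact Nat.le_of_mul_le_mul_left h1 (Nat.mul_pos hn1 hGpos)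
  -- split off the trivial character
  have hdeg0 : charDegree ((χ₀ : IrrCharacter G) : G → ℂ) = 1 := by
    have h1 := Cfsg.Agent.Lib.Helper24.irr_apply_one χ₀
    have h2 : ((χ₀ : IrrCharacter G) : G → ℂ) 1 = 1 := rfl
    rw [h2] at h1
    exact_mod_cast h1.symm
  have hA := Finset.add_sum_erase Finset.univ (fun ψ : IrrCharacter G => m ψ * charDegree (ψ : G → ℂ))
    (Finset.mem_univ χ₀)
  have hB := Finset.add_sum_erase Finset.univ (fun ψ : IrrCharacter G => m ψ * m ψ)
    (Finset.mem_univ χ₀)
  simp only [hm0, hdeg0, one_mul] at hA hB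
  have hAB : ∑ ψ ∈ Finset.univ.erase χ₀, m ψ * charDegree (ψ : G → ℂ) ≤
      (p - 1) * ∑ ψ ∈ Finset.univ.erase χ₀, m ψ * m ψ := by
    rw [Finset.mul_sum]
    apply Finset.sum_le_sum
    intro ψ _
    have h1 : charDegree (ψ : G → ℂ) ≤ p - 1 := Nat.le_sub_one_of_lt (hb ψ)
    rcases Nat.eq_zero_or_pos (m ψ) with h0 | h0
    · rw [h0]; simp
    · calc m ψ * charDegree (ψ : G → ℂ) ≤ m ψ * (p - 1) := Nat.mul_le_mul_left _ h1
        _ ≤ (m ψ * m ψ) * (p - 1) := Nat.mul_le_mul_right _ (Nat.le_mul_self _)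
        _ = (p - 1) * (m ψ * m ψ) := mul_comm _ _
  set A := ∑ ψ ∈ Finset.univ.erase χ₀, m ψ * charDegree (ψ : G → ℂ) with hAdef
  set B := ∑ ψ ∈ Finset.univ.erase χ₀, m ψ * m ψ with hBdef
  rw [← hB] at hkey
  rw [← hA] at hdeg
  have hp1 : 1 ≤ p := hp.out.pos
  -- p + p B ≤ p + A, A ≤ (p-1) B
  have h1 : p * B ≤ A := by
    have : p * (1 + B) ≤ p + (n - 1) := hkey
    rw [hdeg] at this
    have h2 : 1 + A - 1 = A := by omega
    rw [h2, mul_add, mul_one] at this
    omega
  have h2 : p * B ≤ (p - 1) * B := h1.trans hAB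
  have hB0 : B = 0 := by
    by_contra hne
    have hBpos : 0 < B := Nat.pos_of_ne_zero hne
    have : (p - 1) * B < p * B := Nat.mul_lt_mul_of_pos_right (by omega) hBpos
    omega
  have hA0 : A = 0 := by
    rw [hB0, mul_zero] at hAB
    omega
  rw [hdeg, hA0]

/-- The degree of an irreducible character of a subgroup is at most the degree of some
irreducible character of the group. -/
theorem exists_irr_degree_ge (H : Subgroup G) (ψ : IrrCharacter H) :
    ∃ χ : IrrCharacter G, charDegree (ψ : H → ℂ) ≤ charDegree (χ : G → ℂ) := by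
  classical
  let _ := Fintype.ofFinite G
  let _ : Fintype H := Fintype.ofFinite H
  have hψc : IsCharacter H (ψ : H → ℂ) := IsIrrCharacter.isCharacter ψ.2
  have hind : IsCharacter G (indFun H (ψ : H → ℂ)) := IsCharacter.indFun H hψc
  have hψ1 : (ψ : H → ℂ) 1 ≠ 0 := Cfsg.Agent.Lib.Helper24.irr_apply_one_ne_zero ψ
  have hne : indFun H (ψ : H → ℂ) ≠ 0 := by
    intro h0
    have h1 := congrFun h0 1
    rw [Cfsg.Agent.Lib.Helper6.indFun_apply_one] at h1
    have hH : (Nat.card H : ℂ) ≠ 0 := by
      have : 0 < Nat.card H := Nat.card_pos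
      exact_mod_cast this.ne'
    have hG : (Nat.card G : ℂ) ≠ 0 := by
      have : 0 < Nat.card G := Nat.card_pos
      exact_mod_cast this.ne'
    have : (Nat.card H : ℂ)⁻¹ * (Nat.card G : ℂ) * (ψ : H → ℂ) 1 ≠ 0 :=
      mul_ne_zero (mul_ne_zero (inv_ne_zero hH) hG) hψ1
    exact this h1
  obtain ⟨χ, hχ, hχne⟩ := Cfsg.Agent.Lib.Helper6.IsCharacter.exists_constituent hind hne
  have hχc : IsCharacter G χ := IsIrrCharacter.isCharacter hχ
  have hcls : IsClassFunction G χ := IsCharacter.isClassFunction hχc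
  rw [frobenius_reciprocity H (ψ : H → ℂ) hcls] at hχne
  have hne2 : classInner (Cfsg.Agent.Lib.Helper6.resFun H χ) (ψ : H → ℂ) ≠ 0 := by
    intro h0
    apply hχne
    rw [← classInner_conj_symm]
    have : classInner (fun h : H => χ h) (ψ : H → ℂ) = 0 := h0
    rw [this, map_zero]
  refine ⟨⟨χ, hχ⟩, ?_⟩
  apply Cfsg.Agent.Lib.Helper10.irr_apply_one_le (Cfsg.Agent.Lib.Helper6.isCharacter_resFun H hχc) ψ.2 hne2
  · rw [Cfsg.Agent.Lib.Helper6.resFun_apply]
    exact Cfsg.Agent.Lib.Helper24.irr_apply_one ⟨χ, hχ⟩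
  · exact Cfsg.Agent.Lib.Helper24.irr_apply_one ψ

/-- If all irreducible character degrees are smaller than `p`, the Sylow `p`-subgroups are abelian. -/
theorem sylow_comm_of_degrees_lt
    (hb : ∀ χ : IrrCharacter G, charDegree (χ : G → ℂ) < p) (P : Sylow p G) :
    ∀ x ∈ (P : Subgroup G), ∀ y ∈ (P : Subgroup G), x * y = y * x := by
  have hcomm : ∀ a b : (P : Subgroup G), a * b = b * a := by
    rw [comm_iff_forall_irr_apply_one]
    intro ψ
    rw [Cfsg.Agent.Lib.Helper24.irr_apply_one]
    obtain ⟨χ, hχ⟩ := exists_irr_degree_ge (P : Subgroup G) ψ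
    have h1 : charDegree (ψ : ↥(P : Subgroup G) → ℂ) < p := lt_of_le_of_lt hχ (hb χ)
    have h2 := Cfsg.Agent.Lib.Helper24.irr_charDegree_dvd_card ψ
    obtain ⟨k, hk⟩ := IsPGroup.iff_card.mp P.2
    rw [hk] at h2
    obtain ⟨j, -, hj⟩ := (Nat.dvd_prime_pow hp.out).mp h2
    rcases j with _ | j
    · rw [hj, pow_zero, Nat.cast_one]
    · exfalso
      rw [hj] at h1
      have : p ^ 1 ≤ p ^ (j + 1) := Nat.pow_le_pow_right hp.out.pos (by omega)
      rw [pow_one] at this
      omega
  intro x hx y hy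
  have := hcomm ⟨x, hx⟩ ⟨y, hy⟩
  exact congrArg Subtype.val this

/-- **b(G) < p implies a normal abelian Sylow `p`-subgroup.** -/
theorem exists_normal_abelian_sylow
    (hb : ∀ χ : IrrCharacter G, charDegree (χ : G → ℂ) < p) :
    ∃ P : Subgroup G, P.Normal ∧ (∀ x ∈ P, ∀ y ∈ P, x * y = y * x) ∧ IsPGroup p P ∧
      ¬ p ∣ P.index := by
  obtain ⟨P⟩ : Nonempty (Sylow p G) := inferInstance
  have h1 := card_sylow_eq_one_of_degrees_lt hb
  have hsub : Subsingleton (Sylow p G) := (Nat.card_eq_one_iff_unique.mp h1).1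
  exact ⟨P, Sylow.normal_of_subsingleton P, sylow_comm_of_degrees_lt hb P, P.2, Sylow.not_dvd_index P⟩

end main

end Cfsg.Agent.Lib.Helper2.SylowPerm
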