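import Mathlib
import Cfsg.Agent.Lib.Helper2.StronglyEmbedded

/-!
# Sylow subgroups of a subgroup, seen inside the ambient group (helper2 library)
-/

set_option autoImplicit false

namespace Cfsg.Agent.Lib.Helper2

section SylowSub

variable {G : Type*} [Group G]

/-- the conjugate subgroup `g K g⁻¹` -/
def conjSub (g : G) (K : Subgroup G) : Subgroup G := K.map (MulAut.conj g).toMonoidHom

theorem mem_conjSub {g x : G} {K : Subgroup G} : x ∈ conjSub g K ↔ g⁻¹ * x * g ∈ K :=
  mem_map_conj

theorem conj_mem_conjSub {g x : G} {K : Subgroup G} (hx : x ∈ K) : g * x * g⁻¹ ∈ conjSub g K := by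
  rw [mem_conjSub]
  have : g⁻¹ * (g * x * g⁻¹) * g = x := by group
  rw [this]; exact hx

theorem card_conjSub (g : G) (K : Subgroup G) : Nat.card (conjSub g K) = Nat.card K :=
  Subgroup.card_map_of_injective (MulAut.conj g).injective

theorem conjSub_mono {g : G} {K L : Subgroup G} (h : K ≤ L) : conjSub g K ≤ conjSub g L :=
  Subgroup.map_mono h

theorem conjSub_conjSub (g h : G) (K : Subgroup G) :
    conjSub g (conjSub h K) = conjSub (g * h) K := by
  ext x
  simp only [mem_conjSub]
  have : h⁻¹ * (g⁻¹ * x * g) * h = (g * h)⁻¹ * x * (g * h) := by group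
  rw [this]

theorem conjSub_one (K : Subgroup G) : conjSub 1 K = K := by
  ext x
  rw [mem_conjSub]
  simp

theorem conjSub_of_mem {g : G} {K : Subgroup G} (hg : g ∈ K) : conjSub g K = K := by
  ext x
  rw [mem_conjSub]
  constructor
  · intro h
    have : x = g * (g⁻¹ * x * g) * g⁻¹ := by group
    rw [this]
    exact K.mul_mem (K.mul_mem hg h) (K.inv_mem hg)
  · intro h
    exact K.mul_mem (K.mul_mem (K.inv_mem hg) h) hg

theorem isPGroup_conjSub {p : ℕ} (g : G) {K : Subgroup G} (hK : IsPGroup p K) :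
    IsPGroup p (conjSub g K) := hK.map _

theorem mem_normalizer_iff_conjSub {g : G} {K : Subgroup G} :
    g ∈ Subgroup.normalizer (K : Set G) ↔ conjSub g K = K := by
  rw [Subgroup.mem_normalizer_iff_map_conj_eq]
  rfl

/-- maximality of (the image of) a Sylow subgroup of a subgroup -/
theorem sylow_sub_maximal {p : ℕ} (K : Subgroup G) (S : Sylow p K) (R : Subgroup G) (hRK : R ≤ K)
    (hR : IsPGroup p R) (hSR : (S : Subgroup K).map K.subtype ≤ R) :
    R = (S : Subgroup K).map K.subtype := by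
  have h1 : R.subgroupOf K = S := by
    apply S.is_maximal'
    · exact hR.comap_of_injective K.subtype (Subgroup.subtype_injective K)
    · intro c hc
      rw [Subgroup.mem_subgroupOf]
      exact hSR ⟨c, hc, rfl⟩
  rw [← h1, Subgroup.subgroupOf_map_subtype, inf_eq_left.mpr hRK]

/-- Sylow's conjugacy theorem inside a subgroup -/
theorem sylow_sub_conj {p : ℕ} [Fact p.Prime] [Finite G] (K : Subgroup G) (S : Sylow p K)
    (R : Subgroup G) (hRK : R ≤ K) (hR : IsPGroup p R) :
    ∃ k ∈ K, conjSub k R ≤ (S : Subgroup K).map K.subtype := by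
  have hR' : IsPGroup p (R.subgroupOf K) :=
    hR.comap_of_injective K.subtype (Subgroup.subtype_injective K)
  obtain ⟨S₁, hS₁⟩ := hR'.exists_le_sylow
  obtain ⟨k, hk⟩ := MulAction.exists_smul_eq K S₁ S
  refine ⟨k.1, k.2, ?_⟩
  intro x hx
  rw [mem_conjSub] at hx
  have hxK : k.1⁻¹ * x * k.1 ∈ K := hRK hx
  have h1 : (⟨k.1⁻¹ * x * k.1, hxK⟩ : K) ∈ (S₁ : Subgroup K) :=
    hS₁ (Subgroup.mem_subgroupOf.mpr hx)
  have h2 := Subgroup.smul_mem_pointwise_smul _ (MulAut.conj k) (S₁ : Subgroup K) h1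
  rw [← Sylow.coe_subgroup_smul, hk, MulAut.smul_def, MulAut.conj_apply] at h2
  refine ⟨_, h2, ?_⟩
  simp only [Subgroup.coe_subtype, Subgroup.coe_mul, Subgroup.coe_inv]
  group

end SylowSub

end Cfsg.Agent.Lib.Helper2
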