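import Mathlib
import Cfsg.Prelude.Def_Characters
import Cfsg.Prelude.Def_OddOrderChar
import Cfsg.Agent.Lib.Helper2.TIFrob
import Cfsg.Agent.Lib.Helper10.Coherence2
import Cfsg.Agent.Lib.Helper24.IntLemmas
import Cfsg.Agent.Lib.Helper24.IrrFacts

/-!
T.I. subgroups with Frobenius normalizer: consequences of coherence (Feit, *Characters of finite
groups*, §23).
-/

set_option autoImplicit false
namespace Cfsg.Agent.Lib.Helper2
universe u
open Cfsg Cfsg.Agent.CharLib Cfsg.Agent.Lib.Helper6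
open scoped ComplexConjugate

section const
variable {N : Type u} [Group N] [Fintype N]

/-- A class function orthogonal to all `ψ(1)φ - φ(1)ψ` (`φ, ψ` irreducible, non-constant on `A`)
is constant on `A ∖ {1}`; the constant is rational if the function has integral multiplicities. -/
theorem const_of_orth (A : Set N) (Δ : N → ℂ) (hΔ : IsClassFunction N Δ)
    (horth : ∀ φ ψ : IrrCharacter N, (∃ k ∈ A, (φ : N → ℂ) k ≠ (φ : N → ℂ) 1) →
      (∃ k ∈ A, (ψ : N → ℂ) k ≠ (ψ : N → ℂ) 1) →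
      classInner (((ψ : N → ℂ) 1) • (φ : N → ℂ) - ((φ : N → ℂ) 1) • (ψ : N → ℂ)) Δ = 0) :
    ∃ D : ℂ, (∀ k ∈ A, k ≠ 1 → Δ k = D) ∧
      ((∀ φ : IrrCharacter N, ∃ a : ℤ, classInner Δ (φ : N → ℂ) = a) → ∃ r : ℚ, D = r) := by
  classical
  letI := fintypeIrr N
  have hdec := classFunction_eq_sum hΔ
  have hdeg_ne : ∀ φ : IrrCharacter N, (φ : N → ℂ) 1 ≠ 0 :=
    fun φ => Cfsg.Agent.Lib.Helper10.irr_one_ne_zero φ.2
  have hdeg_real : ∀ φ : IrrCharacter N, conj ((φ : N → ℂ) 1) = (φ : N → ℂ) 1 :=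
    fun φ => IsCharacter.conj_apply_one (IsIrrCharacter.isCharacter φ.2)
  have hdeg_nat : ∀ φ : IrrCharacter N, ∃ n : ℕ, (φ : N → ℂ) 1 = n :=
    fun φ => IsCharacter.apply_one (IsIrrCharacter.isCharacter φ.2)
  have hcol : ∀ k : N, k ≠ 1 →
      ∑ φ : IrrCharacter N, (φ : N → ℂ) k * (φ : N → ℂ) 1 = 0 := by
    intro k hk
    have h := sum_irr_mul_conj k (1 : N)
    have h0 : classIndicator (1 : N) k = 0 := by
      unfold classIndicator
      rw [if_neg]
      intro hc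
      exact hk (isConj_one_left.mp hc)
    rw [h0, zero_mul] at h
    rw [← h]
    apply Finset.sum_congr rfl
    intro φ _
    rw [hdeg_real]
  have hval : ∀ k : N, Δ k = ∑ φ : IrrCharacter N,
      classInner Δ (φ : N → ℂ) * (φ : N → ℂ) k := by
    intro k
    have := congrFun hdec k
    rw [Finset.sum_apply] at this
    simpa using this
  by_cases hP : ∃ φ₀ : IrrCharacter N, ∃ k ∈ A, (φ₀ : N → ℂ) k ≠ (φ₀ : N → ℂ) 1
  · obtain ⟨φ₀, hφ₀⟩ := hP
    set c : ℂ := classInner Δ (φ₀ : N → ℂ) / (φ₀ : N → ℂ) 1 with hc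
    have hca : ∀ φ : IrrCharacter N, (∃ k ∈ A, (φ : N → ℂ) k ≠ (φ : N → ℂ) 1) →
        classInner Δ (φ : N → ℂ) = c * (φ : N → ℂ) 1 := by
      intro φ hφ
      have h := horth φ φ₀ hφ hφ₀
      rw [classInner_sub_left, classInner_smul_left, classInner_smul_left,
        Cfsg.Agent.Lib.Helper10.classInner_conj_symm (φ : N → ℂ) Δ,
        Cfsg.Agent.Lib.Helper10.classInner_conj_symm (φ₀ : N → ℂ) Δ] at h
      have h' := congrArg conj h
      simp only [map_sub, map_mul, Complex.conj_conj, map_zero, hdeg_real] at h'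
      rw [hc, div_mul_eq_mul_div, eq_div_iff (hdeg_ne φ₀)]
      linear_combination h'
    refine ⟨-c * (∑ φ : IrrCharacter N,
        if (∃ k ∈ A, (φ : N → ℂ) k ≠ (φ : N → ℂ) 1) then 0 else (φ : N → ℂ) 1 * (φ : N → ℂ) 1) +
      ∑ φ : IrrCharacter N, if (∃ k ∈ A, (φ : N → ℂ) k ≠ (φ : N → ℂ) 1) then 0
        else classInner Δ (φ : N → ℂ) * (φ : N → ℂ) 1, ?_, ?_⟩
    · intro k hk hk1
      have hcol' := hcol k hk1
      have hsum : ∑ φ : IrrCharacter N,
          (if (∃ k ∈ A, (φ : N → ℂ) k ≠ (φ : N → ℂ) 1) then (φ : N → ℂ) k * (φ : N → ℂ) 1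
            else 0) +
          ∑ φ : IrrCharacter N,
          (if (∃ k ∈ A, (φ : N → ℂ) k ≠ (φ : N → ℂ) 1) then 0
            else (φ : N → ℂ) 1 * (φ : N → ℂ) 1) =
          ∑ φ : IrrCharacter N, (φ : N → ℂ) k * (φ : N → ℂ) 1 := by
        rw [← Finset.sum_add_distrib]
        apply Finset.sum_congr rfl
        intro φ _
        split_ifs with hφ
        · rw [add_zero]
        · rw [zero_add]
          push Not at hφ
          rw [hφ k hk]
      have hgoal : ∑ φ : IrrCharacter N, classInner Δ (φ : N → ℂ) * (φ : N → ℂ) k =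
          c * ∑ φ : IrrCharacter N,
          (if (∃ k ∈ A, (φ : N → ℂ) k ≠ (φ : N → ℂ) 1) then (φ : N → ℂ) k * (φ : N → ℂ) 1
            else 0) + ∑ φ : IrrCharacter N, (if (∃ k ∈ A, (φ : N → ℂ) k ≠ (φ : N → ℂ) 1) then 0
        else classInner Δ (φ : N → ℂ) * (φ : N → ℂ) 1) := by
        rw [Finset.mul_sum, ← Finset.sum_add_distrib]
        apply Finset.sum_congr rfl
        intro φ _
        split_ifs with hφ
        · rw [hca φ hφ, add_zero]
          ring
        · push Not at hφ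
          rw [hφ k hk, mul_zero, zero_add]
      rw [hval k, hgoal]
      linear_combination c * hsum + c * hcol'
    · intro hint
      have hmem : -c * (∑ φ : IrrCharacter N,
          if (∃ k ∈ A, (φ : N → ℂ) k ≠ (φ : N → ℂ) 1) then 0
            else (φ : N → ℂ) 1 * (φ : N → ℂ) 1) +
          ∑ φ : IrrCharacter N, (if (∃ k ∈ A, (φ : N → ℂ) k ≠ (φ : N → ℂ) 1) then 0
            else classInner Δ (φ : N → ℂ) * (φ : N → ℂ) 1) ∈ (algebraMap ℚ ℂ).fieldRange := by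
        have hdeg_mem : ∀ φ : IrrCharacter N, (φ : N → ℂ) 1 ∈ (algebraMap ℚ ℂ).fieldRange := by
          intro φ
          obtain ⟨n, hn⟩ := hdeg_nat φ
          rw [hn]
          exact natCast_mem _ n
        have ha_mem : ∀ φ : IrrCharacter N,
            classInner Δ (φ : N → ℂ) ∈ (algebraMap ℚ ℂ).fieldRange := by
          intro φ
          obtain ⟨n, hn⟩ := hint φ
          rw [hn]
          exact intCast_mem _ n
        apply add_mem
        · apply mul_mem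
          · apply neg_mem
            rw [hc]
            exact div_mem (ha_mem φ₀) (hdeg_mem φ₀)
          · apply sum_mem
            intro φ _
            split_ifs
            · exact zero_mem _
            · exact mul_mem (hdeg_mem φ) (hdeg_mem φ)
        · apply sum_mem
          intro φ _
          split_ifs
          · exact zero_mem _
          · exact mul_mem (ha_mem φ) (hdeg_mem φ)
      obtain ⟨r, hr⟩ := hmem
      exact ⟨r, by rw [← hr]; exact (eq_ratCast (algebraMap ℚ ℂ) r)⟩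
  · push Not at hP
    refine ⟨∑ φ : IrrCharacter N, classInner Δ (φ : N → ℂ) * (φ : N → ℂ) 1, ?_, ?_⟩
    · intro k hk _
      rw [hval k]
      apply Finset.sum_congr rfl
      intro φ _
      rw [hP φ k hk]
    · intro hint
      have hmem : ∑ φ : IrrCharacter N, classInner Δ (φ : N → ℂ) * (φ : N → ℂ) 1 ∈
          (algebraMap ℚ ℂ).fieldRange := by
        apply sum_mem
        intro φ _
        obtain ⟨n, hn⟩ := hdeg_nat φ
        obtain ⟨a, ha⟩ := hint φ
        rw [hn, ha]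
        exact mul_mem (intCast_mem _ a) (natCast_mem _ n)
      obtain ⟨r, hr⟩ := hmem
      exact ⟨r, by rw [← hr]; exact (eq_ratCast (algebraMap ℚ ℂ) r)⟩

end const
section coh
variable {G : Type u} [Group G] [Fintype G] (K N : Subgroup G) [Fintype ↥N]

omit [Fintype G] [Fintype ↥N] in
theorem zsmul_fun_apply {X : Type*} (n : ℤ) (f : X → ℂ) (x : X) : (n • f) x = (n : ℂ) * f x := by
  rw [Pi.smul_apply, zsmul_eq_mul]

omit [Fintype G] [Fintype ↥N] in
/-- `ψ(1)φ - φ(1)ψ` as an integral combination -/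
theorem smul_sub_smul_eq_zsmul (φ ψ : ↥N → ℂ) (dφ dψ : ℕ) (hφ : φ 1 = dφ) (hψ : ψ 1 = dψ) :
    (ψ 1) • φ - (φ 1) • ψ = (dψ : ℤ) • φ + (-(dφ : ℤ)) • ψ := by
  funext x
  rw [Pi.sub_apply, Pi.add_apply, zsmul_fun_apply, zsmul_fun_apply, Pi.smul_apply, Pi.smul_apply,
    smul_eq_mul, smul_eq_mul, hφ, hψ]
  push_cast
  ring

omit [Fintype G] [Fintype ↥N] in
/-- the basic element `ψ(1)φ - φ(1)ψ` of `ℤ[S]` vanishing at `1` -/
theorem zsmul_sub_mem_zspanOn (S : Set (↥N → ℂ)) (φ ψ : ↥N → ℂ) (hφS : φ ∈ S) (hψS : ψ ∈ S)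
    (dφ dψ : ℕ) (hφ : φ 1 = dφ) (hψ : ψ 1 = dψ) :
    (dψ : ℤ) • φ + (-(dφ : ℤ)) • ψ ∈ zspanOn S ({1}ᶜ : Set ↥N) := by
  refine ⟨Cfsg.Agent.Lib.Helper10.zspan_add
    (Cfsg.Agent.Lib.Helper10.zspan_zsmul (Cfsg.Agent.Lib.Helper10.subset_zspan hφS) _)
    (Cfsg.Agent.Lib.Helper10.zspan_zsmul (Cfsg.Agent.Lib.Helper10.subset_zspan hψS) _), ?_⟩
  intro x hx
  have hx1 : x = 1 := by
    by_contra h
    exact hx h
  rw [hx1]
  simp only [Pi.add_apply, zsmul_fun_apply, hφ, hψ]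
  push_cast
  ring

/-- proportionality of the differences `star χ - χ` on `K ∖ {1}` -/
theorem coh_proportional
    (hind : ∀ α : ↥N → ℂ, IsClassFunction ↥N α → (∀ x : ↥N, (x : G) ∉ K → α x = 0) →
      ∀ k : ↥N, (k : G) ∈ K → k ≠ 1 → indFun N α k = α k)
    (S : Set (↥N → ℂ)) (hirr : ∀ χ ∈ S, IsIrrCharacter ↥N χ)
    (hvan : ∀ χ ∈ S, ∀ x : ↥N, (x : G) ∉ K → χ x = 0)
    (star : (↥N → ℂ) → (G → ℂ)) (hstar : IsLinearIsometryOn (zspan S) star)
    (hext : ∀ α ∈ zspanOn S ({1}ᶜ : Set ↥N), star α = indFun N α)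
    (χ ξ : ↥N → ℂ) (hχ : χ ∈ S) (hξ : ξ ∈ S) (k : ↥N) (hk : (k : G) ∈ K) (hk1 : k ≠ 1) :
    ξ 1 * (star χ k - χ k) = χ 1 * (star ξ k - ξ k) := by
  obtain ⟨dχ, hdχ⟩ := IsCharacter.apply_one (IsIrrCharacter.isCharacter (hirr χ hχ))
  obtain ⟨dξ, hdξ⟩ := IsCharacter.apply_one (IsIrrCharacter.isCharacter (hirr ξ hξ))
  have hmem := zsmul_sub_mem_zspanOn N S χ ξ hχ hξ dχ dξ hdχ hdξ
  have h1 := hext _ hmem
  have h2 := Cfsg.Agent.Lib.Helper10.isometry_lin2 hstar
    (fun α hα n => Cfsg.Agent.Lib.Helper10.zspan_zsmul hα n)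
    (Cfsg.Agent.Lib.Helper10.subset_zspan hχ) (Cfsg.Agent.Lib.Helper10.subset_zspan hξ)
    (dξ : ℤ) (-(dχ : ℤ))
  have hcls : IsClassFunction ↥N ((dξ : ℤ) • χ + (-(dχ : ℤ)) • ξ) := by
    rw [← Int.cast_smul_eq_zsmul ℂ, ← Int.cast_smul_eq_zsmul ℂ]
    exact IsClassFunction.add
      (IsClassFunction.smul _ (IsCharacter.isClassFunction (IsIrrCharacter.isCharacter (hirr χ hχ))))
      (IsClassFunction.smul _ (IsCharacter.isClassFunction (IsIrrCharacter.isCharacter (hirr ξ hξ))))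
  have hv : ∀ x : ↥N, (x : G) ∉ K → ((dξ : ℤ) • χ + (-(dχ : ℤ)) • ξ) x = 0 := by
    intro x hx
    simp only [Pi.add_apply, Pi.smul_apply, hvan χ hχ x hx, hvan ξ hξ x hx, smul_zero, add_zero]
  have h3 := hind _ hcls hv k hk hk1
  rw [← h1, h2] at h3
  simp only [Pi.add_apply, zsmul_fun_apply] at h3
  push_cast at h3
  rw [hdχ, hdξ]
  linear_combination h3

/-- `Δ_χ = (star χ)|_N - χ` is orthogonal to the basic elements of `ℤ[S]` vanishing at `1` -/
theorem coh_orth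
    (S : Set (↥N → ℂ)) (hirr : ∀ χ ∈ S, IsIrrCharacter ↥N χ)
    (star : (↥N → ℂ) → (G → ℂ)) (hstar : IsLinearIsometryOn (zspan S) star)
    (hext : ∀ α ∈ zspanOn S ({1}ᶜ : Set ↥N), star α = indFun N α)
    (χ φ ψ : ↥N → ℂ) (hχ : χ ∈ S) (hφ : φ ∈ S) (hψ : ψ ∈ S) :
    classInner ((ψ 1) • φ - (φ 1) • ψ) (resFun N (star χ) - χ) = 0 := by
  obtain ⟨dφ, hdφ⟩ := IsCharacter.apply_one (IsIrrCharacter.isCharacter (hirr φ hφ))
  obtain ⟨dψ, hdψ⟩ := IsCharacter.apply_one (IsIrrCharacter.isCharacter (hirr ψ hψ))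
  rw [smul_sub_smul_eq_zsmul N φ ψ dφ dψ hdφ hdψ]
  have hmem := zsmul_sub_mem_zspanOn N S φ ψ hφ hψ dφ dψ hdφ hdψ
  set α : ↥N → ℂ := (dψ : ℤ) • φ + (-(dφ : ℤ)) • ψ with hα
  have h1 := hext _ hmem
  have h2 := hstar.2.2.1 α hmem.1 χ (Cfsg.Agent.Lib.Helper10.subset_zspan hχ)
  have hgen := hstar.2.2.2 χ (Cfsg.Agent.Lib.Helper10.subset_zspan hχ)
  have hcls := Cfsg.Agent.Lib.Helper10.genChar_isClassFunction hgen
  have h3 := Cfsg.Agent.Lib.Helper10.classInner_indFun_right N α (star χ) hcls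
  have h4 : classInner (resFun N (star χ)) α = classInner (star χ) (indFun N α) := by
    rw [h3]
    rfl
  rw [Cfsg.Agent.Lib.Helper10.classInner_sub_right,
    Cfsg.Agent.Lib.Helper10.classInner_conj_symm α (resFun N (star χ)), h4,
    ← Cfsg.Agent.Lib.Helper10.classInner_conj_symm, ← h1, h2, sub_self]

/-- coherence: `star χ - χ` is a rational multiple of `χ(1)` on `K ∖ {1}` -/
theorem coh_const
    (hind : ∀ α : ↥N → ℂ, IsClassFunction ↥N α → (∀ x : ↥N, (x : G) ∉ K → α x = 0) →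
      ∀ k : ↥N, (k : G) ∈ K → k ≠ 1 → indFun N α k = α k)
    (S : Set (↥N → ℂ))
    (hS : S = {χ | IsIrrCharacter ↥N χ ∧ ∃ k : ↥N, (k : G) ∈ K ∧ χ k ≠ χ 1})
    (hvan : ∀ χ ∈ S, ∀ x : ↥N, (x : G) ∉ K → χ x = 0)
    (star : (↥N → ℂ) → (G → ℂ)) (hstar : IsLinearIsometryOn (zspan S) star)
    (hext : ∀ α ∈ zspanOn S ({1}ᶜ : Set ↥N), star α = indFun N α) :
    ∃ c : ℚ, ∀ χ ∈ S, ∀ k : ↥N, (k : G) ∈ K → k ≠ 1 → star χ k - χ k = (c : ℂ) * χ 1 := by
  have hirr : ∀ χ ∈ S, IsIrrCharacter ↥N χ := by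
    intro χ hχ
    rw [hS] at hχ
    exact hχ.1
  by_cases hne : S.Nonempty
  · obtain ⟨χ₀, hχ₀⟩ := hne
    have hgen := hstar.2.2.2 χ₀ (Cfsg.Agent.Lib.Helper10.subset_zspan hχ₀)
    have hgenN : IsGeneralizedCharacter ↥N (resFun N (star χ₀) - χ₀) := by
      apply Cfsg.Agent.Lib.Helper10.genChar_sub
      · obtain ⟨a, b, ha, hb, hab⟩ := hgen
        refine ⟨resFun N a, resFun N b, isCharacter_resFun N ha, isCharacter_resFun N hb, ?_⟩
        rw [hab, map_sub]
      · exact Cfsg.Agent.Lib.Helper10.isGeneralizedCharacter_of_isCharacter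
          (IsIrrCharacter.isCharacter (hirr χ₀ hχ₀))
    obtain ⟨D, hD, hDrat⟩ := const_of_orth {x : ↥N | (x : G) ∈ K} (resFun N (star χ₀) - χ₀)
      (Cfsg.Agent.Lib.Helper10.genChar_isClassFunction hgenN) (by
        intro φ ψ hφ hψ
        have hφS : (φ : ↥N → ℂ) ∈ S := by
          rw [hS]
          obtain ⟨k, hk, hk'⟩ := hφ
          exact ⟨φ.2, k, hk, hk'⟩
        have hψS : (ψ : ↥N → ℂ) ∈ S := by
          rw [hS]
          obtain ⟨k, hk, hk'⟩ := hψ
          exact ⟨ψ.2, k, hk, hk'⟩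
        exact coh_orth N S hirr star hstar hext χ₀ φ ψ hχ₀ hφS hψS)
    obtain ⟨r, hr⟩ := hDrat (fun φ => Cfsg.Agent.Lib.Helper10.genChar_classInner_int hgenN
      (IsIrrCharacter.isCharacter φ.2))
    obtain ⟨d₀, hd₀⟩ := IsCharacter.apply_one (IsIrrCharacter.isCharacter (hirr χ₀ hχ₀))
    have hd₀ne : (d₀ : ℂ) ≠ 0 := by
      rw [← hd₀]
      exact Cfsg.Agent.Lib.Helper10.irr_one_ne_zero (hirr χ₀ hχ₀)
    refine ⟨r / d₀, ?_⟩
    intro χ hχ k hk hk1
    have h1 := coh_proportional K N hind S hirr hvan star hstar hext χ χ₀ hχ hχ₀ k hk hk1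
    have h2 := hD k hk hk1
    simp only [Pi.sub_apply, resFun_apply] at h2
    rw [h2, hr, hd₀] at h1
    push_cast
    field_simp
    linear_combination h1
  · refine ⟨0, ?_⟩
    intro χ hχ
    exact absurd ⟨χ, hχ⟩ hne

end coh

section gcd
open Cfsg.Agent.Lib.Helper24

/-- a rational number whose products with all non-principal irreducible degrees of a finite group
are integers is an integer (the degrees have gcd one) -/
theorem rat_int_of_mul_degrees {H : Type u} [Group H] [Finite H] (q : ℚ)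
    (hq : ∀ τ : IrrCharacter H, (τ : H → ℂ) ≠ (fun _ => 1) →
      ∃ z : ℤ, q * (charDegree (τ : H → ℂ) : ℚ) = z)
    (hne : ∃ τ : IrrCharacter H, (τ : H → ℂ) ≠ (fun _ => 1)) : ∃ m : ℤ, q = m := by
  classical
  letI := fintypeIrr H
  have hden : ∀ τ : IrrCharacter H, (τ : H → ℂ) ≠ (fun _ => 1) →
      q.den ∣ charDegree (τ : H → ℂ) := by
    intro τ hτ
    obtain ⟨z, hz⟩ := hq τ hτ
    have ht := irr_charDegree_pos τ
    have ht' : ((charDegree (τ : H → ℂ) : ℤ) : ℚ) ≠ 0 := by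
      exact_mod_cast ht.ne'
    have h1 : q = (z : ℚ) / ((charDegree (τ : H → ℂ) : ℤ) : ℚ) := by
      rw [eq_div_iff ht']
      exact_mod_cast hz
    have h2 := Rat.den_dvd z (charDegree (τ : H → ℂ) : ℤ)
    rw [Rat.divInt_eq_div, ← h1] at h2
    exact_mod_cast h2
  by_contra hcon
  have hd1 : q.den ≠ 1 := by
    intro h
    exact hcon ⟨q.num, (Rat.coe_int_num_of_den_eq_one h).symm⟩
  obtain ⟨p, hp, hpd⟩ := Nat.exists_prime_and_dvd hd1
  have hsum : ∑ τ : IrrCharacter H, (charDegree (τ : H → ℂ)) ^ 2 = Nat.card H := by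
    have h1 := finsum_irr_apply_one_sq (G := H)
    rw [finsum_eq_sum_of_fintype] at h1
    have h2 : ((∑ τ : IrrCharacter H, (charDegree (τ : H → ℂ)) ^ 2 : ℕ) : ℂ) =
        (Nat.card H : ℂ) := by
      push_cast
      rw [← h1]
      apply Finset.sum_congr rfl
      intro τ _
      rw [irr_apply_one]
    exact_mod_cast h2
  have h1 : charDegree ((⟨fun _ => 1, isIrrCharacter_one⟩ : IrrCharacter H) : H → ℂ) = 1 := by
    have := irr_apply_one (⟨fun _ => 1, isIrrCharacter_one⟩ : IrrCharacter H)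
    have h2 : ((1 : ℕ) : ℂ) = (charDegree
        ((⟨fun _ => 1, isIrrCharacter_one⟩ : IrrCharacter H) : H → ℂ) : ℂ) := by
      rw [← this]
      simp
    exact_mod_cast h2.symm
  rw [← Finset.add_sum_erase _ _ (Finset.mem_univ
    (⟨fun _ => 1, isIrrCharacter_one⟩ : IrrCharacter H)), h1] at hsum
  have hp_sum : p ∣ ∑ τ ∈ Finset.univ.erase (⟨fun _ => 1, isIrrCharacter_one⟩ : IrrCharacter H),
      (charDegree (τ : H → ℂ)) ^ 2 := by
    apply Finset.dvd_sum
    intro τ hτ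
    have hτ' : (τ : H → ℂ) ≠ (fun _ => 1) := by
      intro h0
      exact (Finset.mem_erase.mp hτ).1 (Subtype.ext h0)
    exact dvd_pow (hpd.trans (hden τ hτ')) two_ne_zero
  obtain ⟨τ0, hτ0⟩ := hne
  have hpH : p ∣ Nat.card H := (hpd.trans (hden τ0 hτ0)).trans (irr_charDegree_dvd_card τ0)
  rw [← hsum] at hpH
  have : p ∣ 1 ^ 2 := (Nat.dvd_add_left hp_sum).mp hpH
  rw [one_pow] at this
  exact hp.one_lt.ne' (Nat.dvd_one.mp this)

end gcd

section main
open Cfsg.Agent.Lib.Helper24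
variable {G : Type u} [Group G] [Fintype G] (K : Subgroup G)
  [Fintype ↥(Subgroup.normalizer (K : Set G))]

omit [Fintype ↥(Subgroup.normalizer (K : Set G))] in
/-- values of generalized characters are algebraic integers -/
theorem genChar_isIntegral {θ : G → ℂ} (hθ : IsGeneralizedCharacter G θ) (g : G) :
    IsIntegral ℤ (θ g) := by
  obtain ⟨a, b, ⟨n, ρ, rfl⟩, ⟨m, σ, rfl⟩, rfl⟩ := hθ
  exact IsIntegral.sub (isIntegral_char ρ g) (isIntegral_char σ g)

omit [Fintype ↥(Subgroup.normalizer (K : Set G))] in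
/-- the induction formula on `K ∖ {1}` for the normalizer of a T.I. subgroup -/
theorem tifrob_hind
    (hTI : ∀ g : G, g ∉ Subgroup.normalizer (K : Set G) → ∀ k ∈ K, g * k * g⁻¹ ∈ K → k = 1) :
    ∀ α : ↥(Subgroup.normalizer (K : Set G)) → ℂ,
      IsClassFunction ↥(Subgroup.normalizer (K : Set G)) α →
      (∀ x : ↥(Subgroup.normalizer (K : Set G)), (x : G) ∉ K → α x = 0) →
      ∀ k : ↥(Subgroup.normalizer (K : Set G)), (k : G) ∈ K → k ≠ 1 →
        indFun (Subgroup.normalizer (K : Set G)) α k = α k := by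
  intro α hα hvan k hk hk1
  exact Cfsg.Agent.Lib.Helper10.indFun_apply_of_TI (K : Set G) hTI α hα hvan k hk
    (fun h => hk1 (Subtype.ext h))

/-- Feit (23.?): under coherence, `star χ - χ = m χ(1) / e` on `K ∖ {1}` for a fixed integer `m`
(= S0853) -/
theorem tifrob_coherent_diff
    (hTI : ∀ g : G, g ∉ Subgroup.normalizer (K : Set G) → ∀ k ∈ K, g * k * g⁻¹ ∈ K → k = 1)
    (hC : ∀ k ∈ K, k ≠ 1 → Subgroup.centralizer ({k} : Set G) ≤ K)
    (S : Set (↥(Subgroup.normalizer (K : Set G)) → ℂ))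
    (hS : S = {χ : ↥(Subgroup.normalizer (K : Set G)) → ℂ |
      IsIrrCharacter ↥(Subgroup.normalizer (K : Set G)) χ ∧
      ∃ k : ↥(Subgroup.normalizer (K : Set G)), (k : G) ∈ K ∧ χ k ≠ χ 1})
    (hne : S.Nonempty)
    (star : (↥(Subgroup.normalizer (K : Set G)) → ℂ) → (G → ℂ))
    (hstar : IsLinearIsometryOn (zspan S) star)
    (hext : ∀ α ∈ zspanOn S ({1}ᶜ : Set ↥(Subgroup.normalizer (K : Set G))),
      star α = indFun (Subgroup.normalizer (K : Set G)) α) :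
    ∃ m : ℤ, ∀ χ ∈ S, ∀ k : ↥(Subgroup.normalizer (K : Set G)), (k : G) ∈ K → k ≠ 1 →
      star χ k - χ k = (m : ℂ) * χ 1 /
        ((K.subgroupOf (Subgroup.normalizer (K : Set G))).index : ℂ) := by
  classical
  have hvan : ∀ χ ∈ S, ∀ x : ↥(Subgroup.normalizer (K : Set G)), (x : G) ∉ K → χ x = 0 := by
    intro χ hχ x hx
    rw [hS] at hχ
    exact tifrob_vanish K hC χ hχ.1 hχ.2 x hx
  obtain ⟨c, hc⟩ := coh_const K (Subgroup.normalizer (K : Set G)) (tifrob_hind K hTI) S hS hvan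
    star hstar hext
  obtain ⟨χ₀, hχ₀⟩ := hne
  have hχ₀' := hχ₀
  rw [hS] at hχ₀'
  obtain ⟨hχ₀irr, k₁, hk₁K, hk₁⟩ := hχ₀'
  have hk₁1 : k₁ ≠ 1 := by
    rintro rfl
    exact hk₁ rfl
  obtain ⟨τ₀, hτ₀, hτ₀1, -⟩ := tifrob_exists_induced K hC χ₀ hχ₀irr ⟨k₁, hk₁K, hk₁⟩
  have he0 : ((K.subgroupOf (Subgroup.normalizer (K : Set G))).index : ℂ) ≠ 0 :=
    Nat.cast_ne_zero.mpr Subgroup.index_ne_zero_of_finite
  have hcardN : (Nat.card ↥(Subgroup.normalizer (K : Set G)) : ℂ) =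
      (Nat.card ↥(K.subgroupOf (Subgroup.normalizer (K : Set G))) : ℂ) *
        ((K.subgroupOf (Subgroup.normalizer (K : Set G))).index : ℂ) := by
    rw [← Nat.cast_mul, Subgroup.card_mul_index]
  have hcardK0 : (Nat.card ↥(K.subgroupOf (Subgroup.normalizer (K : Set G))) : ℂ) ≠ 0 :=
    Nat.cast_ne_zero.mpr Nat.card_pos.ne'
  have key := rat_int_of_mul_degrees (H := ↥(K.subgroupOf (Subgroup.normalizer (K : Set G))))
    (c * ((K.subgroupOf (Subgroup.normalizer (K : Set G))).index : ℚ)) (by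
      intro τ hτ
      obtain ⟨hirr, hrel⟩ := tifrob_induced_mem K hC τ.1 τ.2 hτ
      have hmem : indFun (K.subgroupOf (Subgroup.normalizer (K : Set G))) τ.1 ∈ S := by
        rw [hS]
        exact ⟨hirr, hrel⟩
      have h1 := hc _ hmem k₁ hk₁K hk₁1
      have hint : IsIntegral ℤ (star (indFun (K.subgroupOf (Subgroup.normalizer (K : Set G)))
          τ.1) k₁ - indFun (K.subgroupOf (Subgroup.normalizer (K : Set G)))
          τ.1 k₁) :=
        IsIntegral.sub (genChar_isIntegral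
          (hstar.2.2.2 _ (Cfsg.Agent.Lib.Helper10.subset_zspan hmem)) _)
          (irr_isIntegral ⟨_, hirr⟩ k₁)
      rw [h1, Cfsg.Agent.Lib.Helper10.indFun_apply_one, irr_apply_one τ, hcardN] at hint
      have hq : (c : ℂ) * ((Nat.card ↥(K.subgroupOf (Subgroup.normalizer (K : Set G))) : ℂ)⁻¹ *
          ((Nat.card ↥(K.subgroupOf (Subgroup.normalizer (K : Set G))) : ℂ) *
            ((K.subgroupOf (Subgroup.normalizer (K : Set G))).index : ℂ) *
            (charDegree τ.1 : ℂ))) =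
          ((c * ((K.subgroupOf (Subgroup.normalizer (K : Set G))).index : ℚ) *
            (charDegree τ.1 : ℚ) : ℚ) : ℂ) := by
        push_cast
        field_simp
      rw [hq] at hint
      have h2 : IsIntegral ℤ (c * ((K.subgroupOf (Subgroup.normalizer (K : Set G))).index : ℚ) *
            (charDegree τ.1 : ℚ) : ℚ) :=
        (isIntegral_algebraMap_iff (algebraMap ℚ ℂ).injective (R := ℤ)).mp hint
      obtain ⟨z, hz⟩ := IsIntegrallyClosed.isIntegral_iff.mp h2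
      exact ⟨z, by rw [← hz]; simp⟩) ⟨⟨τ₀, hτ₀⟩, hτ₀1⟩
  obtain ⟨m, hm⟩ := key
  refine ⟨m, ?_⟩
  intro χ hχ k hk hk1
  rw [hc χ hχ k hk hk1]
  have hm' : (c : ℂ) * ((K.subgroupOf (Subgroup.normalizer (K : Set G))).index : ℂ) = (m : ℂ) := by
    have := congrArg (fun x : ℚ => (x : ℂ)) hm
    simpa using this
  rw [← hm']
  field_simp

end main

end Cfsg.Agent.Lib.Helper2
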