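import Mathlib
import Cfsg.Agent.Lib.Helper2.TIFrob2

/-!
T.I. subgroups with Frobenius normalizer: under coherence, the irreducible characters `± star χ`
are exactly those not constant on `K ∖ {1}` (Feit §23).
-/

set_option autoImplicit false
namespace Cfsg.Agent.Lib.Helper2
universe u
open Cfsg Cfsg.Agent.CharLib Cfsg.Agent.Lib.Helper6
open scoped ComplexConjugate

section notconst
variable {N : Type u} [Group N] [Fintype N]

/-- an irreducible character supported on `A` and constant on `A ∖ {1}` is constant on `A`,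
as soon as there is another irreducible character supported on `A` other than the principal one -/
theorem eq_apply_one_of_const (A : Set N) (χ ξ : N → ℂ) (hχ : IsIrrCharacter N χ)
    (hξ : IsIrrCharacter N ξ) (hne : χ ≠ ξ) (hξ1 : ξ ≠ (fun _ => 1))
    (hχvan : ∀ x, x ∉ A → χ x = 0) (hξvan : ∀ x, x ∉ A → ξ x = 0) (v : ℂ)
    (hv : ∀ k ∈ A, k ≠ 1 → χ k = v) : v = χ 1 := by
  classical
  have h1 := classInner_irr hχ hξ
  rw [if_neg hne] at h1
  have h2 := classInner_irr hξ (isIrrCharacter_one (G := N))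
  rw [if_neg (show ¬ ξ = 1 from hξ1)] at h2
  have hN0 : (Nat.card N : ℂ) ≠ 0 := Nat.cast_ne_zero.mpr Nat.card_pos.ne'
  unfold classInner at h1 h2
  have h1' : ∑ g : N, χ g * conj (ξ g) = 0 := by
    rcases mul_eq_zero.mp h1 with h | h
    · exact absurd (inv_eq_zero.mp h) hN0
    · exact h
  have h2' : ∑ g : N, ξ g = 0 := by
    rcases mul_eq_zero.mp h2 with h | h
    · exact absurd (inv_eq_zero.mp h) hN0
    · simpa using h
  have h3 : ∑ g : N, conj (ξ g) = 0 := by
    rw [← map_sum, h2', map_zero]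
  have hreal : conj (ξ 1) = ξ 1 := IsCharacter.conj_apply_one (IsIrrCharacter.isCharacter hξ)
  have hterm : ∀ g : N, χ g * conj (ξ g) =
      v * conj (ξ g) + (if g = 1 then (χ 1 - v) * ξ 1 else 0) := by
    intro g
    by_cases hg : g = 1
    · rw [if_pos hg, hg, hreal]
      ring
    · rw [if_neg hg, add_zero]
      by_cases hgA : g ∈ A
      · rw [hv g hgA hg]
      · rw [hξvan g hgA, hχvan g hgA, map_zero, mul_zero, mul_zero]
  rw [Finset.sum_congr rfl (fun g _ => hterm g), Finset.sum_add_distrib, ← Finset.mul_sum, h3,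
    mul_zero, zero_add, Finset.sum_ite_eq' Finset.univ (1 : N), if_pos (Finset.mem_univ _)] at h1'
  have hξ0 := Cfsg.Agent.Lib.Helper10.irr_one_ne_zero hξ
  rcases mul_eq_zero.mp h1' with h | h
  · linear_combination -h
  · exact absurd h hξ0

end notconst

section main3
variable {G : Type u} [Group G] [Fintype G] (K : Subgroup G)
  [Fintype ↥(Subgroup.normalizer (K : Set G))]

/-- = S0852 -/
theorem tifrob_coherent_iff
    (hTI : ∀ g : G, g ∉ Subgroup.normalizer (K : Set G) → ∀ k ∈ K, g * k * g⁻¹ ∈ K → k = 1)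
    (hC : ∀ k ∈ K, k ≠ 1 → Subgroup.centralizer ({k} : Set G) ≤ K)
    (S : Set (↥(Subgroup.normalizer (K : Set G)) → ℂ))
    (hS : S = {χ : ↥(Subgroup.normalizer (K : Set G)) → ℂ |
      IsIrrCharacter ↥(Subgroup.normalizer (K : Set G)) χ ∧
      ∃ k : ↥(Subgroup.normalizer (K : Set G)), (k : G) ∈ K ∧ χ k ≠ χ 1})
    (htwo : ∃ χ ∈ S, ∃ ξ ∈ S, χ ≠ ξ)
    (star : (↥(Subgroup.normalizer (K : Set G)) → ℂ) → (G → ℂ))
    (hstar : IsLinearIsometryOn (zspan S) star)
    (hext : ∀ α ∈ zspanOn S ({1}ᶜ : Set ↥(Subgroup.normalizer (K : Set G))),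
      star α = indFun (Subgroup.normalizer (K : Set G)) α)
    (ψ : G → ℂ) (hψ : IsIrrCharacter G ψ) :
    (∃ χ ∈ S, ψ = star χ ∨ ψ = -star χ) ↔
      ∃ a ∈ K, ∃ b ∈ K, a ≠ 1 ∧ b ≠ 1 ∧ ψ a ≠ ψ b := by
  classical
  have hirr : ∀ χ ∈ S, IsIrrCharacter ↥(Subgroup.normalizer (K : Set G)) χ := by
    intro χ hχ
    rw [hS] at hχ
    exact hχ.1
  have hvan : ∀ χ ∈ S, ∀ x : ↥(Subgroup.normalizer (K : Set G)), (x : G) ∉ K → χ x = 0 := by
    intro χ hχ x hx
    rw [hS] at hχ
    exact tifrob_vanish K hC χ hχ.1 hχ.2 x hx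
  constructor
  · rintro ⟨χ, hχ, hψχ⟩
    obtain ⟨c, hc⟩ := coh_const K (Subgroup.normalizer (K : Set G)) (tifrob_hind K hTI) S hS hvan
      star hstar hext
    by_contra hcon
    push Not at hcon
    -- `star χ` is constant on `K ∖ {1}`
    have hstarconst : ∀ a ∈ K, ∀ b ∈ K, a ≠ 1 → b ≠ 1 → star χ a = star χ b := by
      intro a ha b hb ha1 hb1
      have := hcon a ha b hb ha1 hb1
      rcases hψχ with h | h
      · rw [h] at this
        exact this
      · rw [h] at this
        simpa using this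
    have hχ' := hχ
    rw [hS] at hχ'
    obtain ⟨-, k₁, hk₁K, hk₁⟩ := hχ'
    have hk₁1 : k₁ ≠ 1 := by
      rintro rfl
      exact hk₁ rfl
    have hconst : ∀ k : ↥(Subgroup.normalizer (K : Set G)),
        k ∈ {x : ↥(Subgroup.normalizer (K : Set G)) | (x : G) ∈ K} → k ≠ 1 → χ k = χ k₁ := by
      intro k hk hk1
      have e1 := hc χ hχ k hk hk1
      have e2 := hc χ hχ k₁ hk₁K hk₁1
      have e3 := hstarconst k hk k₁ hk₁K (fun h => hk1 (Subtype.ext h))
        (fun h => hk₁1 (Subtype.ext h))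
      linear_combination e2 - e1 + e3
    -- another member of `S`
    obtain ⟨ξ, hξ, hξχ⟩ : ∃ ξ ∈ S, χ ≠ ξ := by
      obtain ⟨χ₁, hχ₁, ξ₁, hξ₁, hne⟩ := htwo
      by_cases h : χ = χ₁
      · exact ⟨ξ₁, hξ₁, h ▸ hne⟩
      · exact ⟨χ₁, hχ₁, h⟩
    have hξ1 : ξ ≠ (fun _ => 1) := by
      intro h
      rw [hS] at hξ
      obtain ⟨-, k, -, hk⟩ := hξ
      rw [h] at hk
      exact hk rfl
    have := eq_apply_one_of_const {x : ↥(Subgroup.normalizer (K : Set G)) | (x : G) ∈ K} χ ξ
      (hirr χ hχ) (hirr ξ hξ) hξχ hξ1 (fun x hx => hvan χ hχ x hx) (fun x hx => hvan ξ hξ x hx)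
      (χ k₁) hconst
    exact hk₁ this
  · rintro ⟨a, ha, b, hb, ha1, hb1, hab⟩
    by_contra hcon
    push Not at hcon
    have horth0 : ∀ χ ∈ S, classInner ψ (star χ) = 0 := by
      intro χ hχ
      have hgen := hstar.2.2.2 χ (Cfsg.Agent.Lib.Helper10.subset_zspan hχ)
      have hnorm : classInner (star χ) (star χ) = 1 := by
        rw [hstar.2.2.1 χ (Cfsg.Agent.Lib.Helper10.subset_zspan hχ) χ
          (Cfsg.Agent.Lib.Helper10.subset_zspan hχ)]
        exact Cfsg.Agent.Lib.Helper10.classInner_irr_self (hirr χ hχ)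
      obtain ⟨ε, hε, hεirr⟩ := Cfsg.Agent.Lib.Helper10.genChar_norm_one hgen hnorm
      have h1 := classInner_irr hψ hεirr
      have hne : ψ ≠ ε • star χ := by
        obtain ⟨n1, n2⟩ := hcon χ hχ
        rcases hε with rfl | rfl
        · rw [one_smul]
          exact n1
        · rw [neg_one_smul]
          exact n2
      rw [if_neg hne, classInner_smul_right] at h1
      rcases mul_eq_zero.mp h1 with h | h
      · exfalso
        rcases hε with rfl | rfl <;> simp at h
      · exact h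
    obtain ⟨D, hD, -⟩ := const_of_orth {x : ↥(Subgroup.normalizer (K : Set G)) | (x : G) ∈ K}
      (resFun (Subgroup.normalizer (K : Set G)) ψ)
      (IsCharacter.isClassFunction (isCharacter_resFun _ (IsIrrCharacter.isCharacter hψ))) (by
        intro φ ξ hφ hξ
        have hφS : (φ : ↥(Subgroup.normalizer (K : Set G)) → ℂ) ∈ S := by
          rw [hS]
          obtain ⟨k, hk, hk'⟩ := hφ
          exact ⟨φ.2, k, hk, hk'⟩
        have hξS : (ξ : ↥(Subgroup.normalizer (K : Set G)) → ℂ) ∈ S := by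
          rw [hS]
          obtain ⟨k, hk, hk'⟩ := hξ
          exact ⟨ξ.2, k, hk, hk'⟩
        obtain ⟨dφ, hdφ⟩ := IsCharacter.apply_one (IsIrrCharacter.isCharacter φ.2)
        obtain ⟨dξ, hdξ⟩ := IsCharacter.apply_one (IsIrrCharacter.isCharacter ξ.2)
        rw [smul_sub_smul_eq_zsmul _ _ _ dφ dξ hdφ hdξ]
        have hmem := zsmul_sub_mem_zspanOn _ S _ _ hφS hξS dφ dξ hdφ hdξ
        have h1 := hext _ hmem
        have h2 := Cfsg.Agent.Lib.Helper10.isometry_lin2 hstar
          (fun α hα n => Cfsg.Agent.Lib.Helper10.zspan_zsmul hα n)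
          (Cfsg.Agent.Lib.Helper10.subset_zspan hφS) (Cfsg.Agent.Lib.Helper10.subset_zspan hξS)
          (dξ : ℤ) (-(dφ : ℤ))
        have h3 := Cfsg.Agent.Lib.Helper10.classInner_indFun_right
          (Subgroup.normalizer (K : Set G))
          ((dξ : ℤ) • (φ : ↥(Subgroup.normalizer (K : Set G)) → ℂ) +
            (-(dφ : ℤ)) • (ξ : ↥(Subgroup.normalizer (K : Set G)) → ℂ)) ψ
          (IsCharacter.isClassFunction (IsIrrCharacter.isCharacter hψ))
        have h4 : classInner (resFun (Subgroup.normalizer (K : Set G)) ψ)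
            ((dξ : ℤ) • (φ : ↥(Subgroup.normalizer (K : Set G)) → ℂ) +
              (-(dφ : ℤ)) • (ξ : ↥(Subgroup.normalizer (K : Set G)) → ℂ)) = 0 := by
          have h5 : classInner ψ (indFun (Subgroup.normalizer (K : Set G))
              ((dξ : ℤ) • (φ : ↥(Subgroup.normalizer (K : Set G)) → ℂ) +
                (-(dφ : ℤ)) • (ξ : ↥(Subgroup.normalizer (K : Set G)) → ℂ))) = 0 := by
            rw [← h1, h2, Cfsg.Agent.Lib.Helper10.classInner_add_right,
              Cfsg.Agent.Lib.Helper10.classInner_zsmul_right,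
              Cfsg.Agent.Lib.Helper10.classInner_zsmul_right, horth0 _ hφS, horth0 _ hξS]
            ring
          rw [h3] at h5
          exact h5
        rw [Cfsg.Agent.Lib.Helper10.classInner_conj_symm, h4, map_zero])
    have ha' := hD ⟨a, Subgroup.le_normalizer ha⟩ ha (fun h => ha1 (congrArg Subtype.val h))
    have hb' := hD ⟨b, Subgroup.le_normalizer hb⟩ hb (fun h => hb1 (congrArg Subtype.val h))
    rw [resFun_apply] at ha' hb'
    exact hab (ha'.trans hb'.symm)

end main3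
end Cfsg.Agent.Lib.Helper2
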