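import Mathlib
import Cfsg.Prelude.Def_GeometricClasses
import Cfsg.Agent.Lib.Helper25.TensDefs
import Cfsg.Agent.Lib.Helper25.TensStmt

/-!
S5637 leaf TIIb (`stageIIb`): extraction of a single non-scalar block from an element of `U₁`-form.
-/

set_option autoImplicit false
set_option linter.unusedSectionVars false
set_option linter.unusedVariables false

namespace Cfsg.Agent.Lib.Helper2.TensLeaf
open Matrix Cfsg.Agent.Lib.Helper25.Tens Cfsg.Agent.Lib.Helper25.TensLeaves
open scoped Kronecker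

variable {F : Type*} [Field F] {a b : ℕ}

lemma one_kron_mul_apply (B : Matrix (Fin b) (Fin b) F) (Y : Matrix (Idx a b) (Idx a b) F)
    (i : Fin a) (l : Fin b) (p' : Idx a b) :
    (((1 : Matrix (Fin a) (Fin a) F) ⊗ₖ B) * Y) (i, l) p' = ∑ m, B l m * Y (i, m) p' := by
  rw [Matrix.mul_apply, Fintype.sum_prod_type]
  rw [Finset.sum_eq_single i]
  · apply Finset.sum_congr rfl
    intro m _
    rw [Matrix.kroneckerMap_apply, Matrix.one_apply_eq, one_mul]
  · intro i'' _ hi
    apply Finset.sum_eq_zero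
    intro m _
    rw [Matrix.kroneckerMap_apply, Matrix.one_apply_ne (Ne.symm hi), zero_mul, zero_mul]
  · intro h; exact absurd (Finset.mem_univ i) h

lemma mul_one_kron_apply (B : Matrix (Fin b) (Fin b) F) (Y : Matrix (Idx a b) (Idx a b) F)
    (p : Idx a b) (i' : Fin a) (l' : Fin b) :
    (Y * ((1 : Matrix (Fin a) (Fin a) F) ⊗ₖ B)) p (i', l') = ∑ m, Y p (i', m) * B m l' := by
  rw [Matrix.mul_apply, Fintype.sum_prod_type]
  rw [Finset.sum_eq_single i']
  · apply Finset.sum_congr rfl
    intro m _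
    rw [Matrix.kroneckerMap_apply, Matrix.one_apply_eq, one_mul]
  · intro i'' _ hi
    apply Finset.sum_eq_zero
    intro m _
    rw [Matrix.kroneckerMap_apply, Matrix.one_apply_ne hi, zero_mul, mul_zero]
  · intro h; exact absurd (Finset.mem_univ i') h

lemma kron_single_mul_apply (θ : Matrix (Fin a) (Fin a) F) (o j : Fin b)
    (Y : Matrix (Idx a b) (Idx a b) F) (i : Fin a) (l : Fin b) (p' : Idx a b) :
    ((θ ⊗ₖ (Matrix.single o j (1 : F) : Matrix (Fin b) (Fin b) F)) * Y) (i, l) p' =
      if l = o then ∑ i'', θ i i'' * Y (i'', j) p' else 0 := by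
  rw [Matrix.mul_apply, Fintype.sum_prod_type]
  by_cases hl : l = o
  · rw [if_pos hl]
    apply Finset.sum_congr rfl
    intro i'' _
    rw [Finset.sum_eq_single j]
    · rw [Matrix.kroneckerMap_apply, hl, Matrix.single_apply_same, mul_one]
    · intro m _ hm
      rw [Matrix.kroneckerMap_apply, Matrix.single_apply_of_ne, mul_zero, zero_mul]
      intro hcon
      exact hm hcon.2.symm
    · intro h; exact absurd (Finset.mem_univ j) h
  · rw [if_neg hl]
    apply Finset.sum_eq_zero
    intro i'' _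
    apply Finset.sum_eq_zero
    intro m _
    rw [Matrix.kroneckerMap_apply, Matrix.single_apply_of_ne, mul_zero, zero_mul]
    intro hcon
    exact hl hcon.1.symm

/-- the matrix `β = 1 - E_{k₀ j}` -/
lemma beta_apply (k0 j l m : Fin b) :
    ((1 : Matrix (Fin b) (Fin b) F) +
      Matrix.vecMulVec (Pi.single k0 (1 : F)) (-(Pi.single j (1 : F)))) l m =
      (if l = m then 1 else 0) - (if l = k0 then (if m = j then 1 else 0) else 0) := by
  rw [Matrix.add_apply, Matrix.one_apply, Matrix.vecMulVec_apply, Pi.neg_apply, Pi.single_apply,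
    Pi.single_apply]
  by_cases h1 : l = k0 <;> by_cases h2 : m = j <;> simp [h1, h2, sub_eq_add_neg]

lemma exists_ne_two (hb : 3 ≤ b) (p q : Fin b) : ∃ k : Fin b, k ≠ p ∧ k ≠ q := by
  by_contra hcon
  push Not at hcon
  have hsub : (Finset.univ : Finset (Fin b)) ⊆ {p, q} := by
    intro k _
    by_cases hk : k = p
    · rw [hk]; simp
    · rw [hcon k hk]; simp
  have h1 := Finset.card_le_card hsub
  have h2 : ({p, q} : Finset (Fin b)).card ≤ 2 := Finset.card_le_two
  rw [Finset.card_univ, Fintype.card_fin] at h1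
  omega

/-- the key matrix identity `G U = X U G` -/
lemma stageIIb_key (o k0 j : Fin b) (hk0 : k0 ≠ o) (hjo : j ≠ o) (hjk : j ≠ k0)
    (U : Matrix (Idx a b) (Idx a b) F) (hU : U1form o U) :
    ((1 : Matrix (Fin a) (Fin a) F) ⊗ₖ ((1 : Matrix (Fin b) (Fin b) F) +
        Matrix.vecMulVec (Pi.single k0 (1 : F)) (-(Pi.single j (1 : F))))) * U =
      (1 + blk U o k0 ⊗ₖ (Matrix.single o j (1 : F) : Matrix (Fin b) (Fin b) F)) *
        (U * ((1 : Matrix (Fin a) (Fin a) F) ⊗ₖ ((1 : Matrix (Fin b) (Fin b) F) +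
          Matrix.vecMulVec (Pi.single k0 (1 : F)) (-(Pi.single j (1 : F)))))) := by
  classical
  have hUj : ∀ (i'' i' : Fin a) (l' : Fin b),
      U (i'', j) (i', l') = (1 : Matrix (Idx a b) (Idx a b) F) (i'', j) (i', l') :=
    fun i'' i' l' => hU i'' i' j l' (Or.inl hjo)
  have hGmul : ∀ (Y : Matrix (Idx a b) (Idx a b) F) (i : Fin a) (l : Fin b) (p' : Idx a b),
      (((1 : Matrix (Fin a) (Fin a) F) ⊗ₖ ((1 : Matrix (Fin b) (Fin b) F) +
        Matrix.vecMulVec (Pi.single k0 (1 : F)) (-(Pi.single j (1 : F))))) * Y) (i, l) p' =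
        Y (i, l) p' - (if l = k0 then Y (i, j) p' else 0) := by
    intro Y i l p'
    rw [one_kron_mul_apply]
    have hterm : ∀ m : Fin b, ((1 : Matrix (Fin b) (Fin b) F) +
        Matrix.vecMulVec (Pi.single k0 (1 : F)) (-(Pi.single j (1 : F)))) l m * Y (i, m) p' =
        (if l = m then Y (i, m) p' else 0) -
          (if m = j then (if l = k0 then Y (i, m) p' else 0) else 0) := by
      intro m
      rw [beta_apply]
      split_ifs <;> ring
    rw [Finset.sum_congr rfl (fun m _ => hterm m), Finset.sum_sub_distrib, Finset.sum_ite_eq,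
      Finset.sum_ite_eq', if_pos (Finset.mem_univ _), if_pos (Finset.mem_univ _)]
  have hmulG : ∀ (Y : Matrix (Idx a b) (Idx a b) F) (p : Idx a b) (i' : Fin a) (l' : Fin b),
      (Y * ((1 : Matrix (Fin a) (Fin a) F) ⊗ₖ ((1 : Matrix (Fin b) (Fin b) F) +
        Matrix.vecMulVec (Pi.single k0 (1 : F)) (-(Pi.single j (1 : F)))))) p (i', l') =
        Y p (i', l') - (if l' = j then Y p (i', k0) else 0) := by
    intro Y p i' l'
    rw [mul_one_kron_apply]
    have hterm : ∀ m : Fin b, Y p (i', m) * ((1 : Matrix (Fin b) (Fin b) F) +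
        Matrix.vecMulVec (Pi.single k0 (1 : F)) (-(Pi.single j (1 : F)))) m l' =
        (if m = l' then Y p (i', m) else 0) -
          (if m = k0 then (if l' = j then Y p (i', m) else 0) else 0) := by
      intro m
      rw [beta_apply]
      split_ifs <;> ring
    rw [Finset.sum_congr rfl (fun m _ => hterm m), Finset.sum_sub_distrib, Finset.sum_ite_eq',
      Finset.sum_ite_eq', if_pos (Finset.mem_univ _), if_pos (Finset.mem_univ _)]
  ext ⟨i, l⟩ ⟨i', l'⟩
  rw [hGmul, add_mul, one_mul, Matrix.add_apply, kron_single_mul_apply, hmulG]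
  have hsum : ∀ i : Fin a, (∑ i'', blk U o k0 i i'' *
      (U * ((1 : Matrix (Fin a) (Fin a) F) ⊗ₖ ((1 : Matrix (Fin b) (Fin b) F) +
        Matrix.vecMulVec (Pi.single k0 (1 : F)) (-(Pi.single j (1 : F)))))) (i'', j) (i', l')) =
      if j = l' then U (i, o) (i', k0) else 0 := by
    intro i
    have hterm : ∀ i'' : Fin a,
        (U * ((1 : Matrix (Fin a) (Fin a) F) ⊗ₖ ((1 : Matrix (Fin b) (Fin b) F) +
        Matrix.vecMulVec (Pi.single k0 (1 : F)) (-(Pi.single j (1 : F)))))) (i'', j) (i', l') =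
        if i'' = i' then (if j = l' then 1 else 0) else 0 := by
      intro i''
      rw [hmulG, hUj, hUj, Matrix.one_apply, Matrix.one_apply]
      simp only [Prod.mk.injEq]
      by_cases h1 : i'' = i'
      · by_cases h2 : j = l'
        · subst h1; subst h2; simp [hjk]
        · simp [h1, h2, Ne.symm h2]
      · simp [h1]
    simp only [hterm, mul_ite, mul_one, mul_zero, Finset.sum_ite_eq', Finset.mem_univ, if_true]
    by_cases h2 : j = l'
    · simp [h2, blk_apply]
    · simp [h2]
  rw [hsum, hUj]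
  by_cases hl : l = o
  · rw [if_pos hl, if_neg (by rw [hl]; exact Ne.symm hk0), sub_zero, hl]
    by_cases h2 : l' = j
    · rw [if_pos h2, if_pos h2.symm]; ring
    · rw [if_neg h2, if_neg (Ne.symm h2)]; ring
  · rw [if_neg hl, add_zero]
    have hUl : U (i, l) (i', k0) = (1 : Matrix (Idx a b) (Idx a b) F) (i, l) (i', k0) :=
      hU i i' l k0 (Or.inl hl)
    rw [hUl, Matrix.one_apply, Matrix.one_apply]
    simp only [Prod.mk.injEq]
    by_cases h2 : l' = j
    · subst h2
      by_cases h1 : l = k0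
      · subst h1
        by_cases h3 : i = i'
        · subst h3; simp
        · simp [h3]
      · simp [h1]
    · simp [h2, Ne.symm h2]

/-- if all the blocks `blk U o q` are scalar then `U` is a Kronecker product -/
lemma stageIIb_scalar (o : Fin b) (u : GL (Idx a b) F)
    (hU : U1form o ((u : GL (Idx a b) F) : Matrix (Idx a b) (Idx a b) F))
    (hsc : ∀ q : Fin b, q ≠ o → IsScalarMat (blk ((u : GL (Idx a b) F) :
      Matrix (Idx a b) (Idx a b) F) o q)) : u ∈ KG a b F := by
  classical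
  choose t ht using hsc
  set η : Fin b → F := fun q => if hq : q = o then 0 else t q hq with hη
  have hηo : η ⬝ᵥ (Pi.single o (1 : F)) = 0 := by
    rw [dotProduct_single, mul_one, hη]
    simp
  rw [mem_KG_iff]
  refine ⟨1, tv (Pi.single o 1) η hηo, ?_⟩
  rw [tv_val, Units.val_one]
  apply ext_blk
  intro l l'
  rw [blk_kron, Matrix.add_apply, Matrix.one_apply, Matrix.vecMulVec_apply, Pi.single_apply]
  by_cases hl : l = o
  · by_cases hl' : l' = o
    · have h1 := hU
      have : blk ((u : GL (Idx a b) F) : Matrix (Idx a b) (Idx a b) F) l l' =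
          blk (1 : Matrix (Idx a b) (Idx a b) F) l l' := by
        ext i i'
        exact hU i i' l l' (Or.inr hl')
      rw [this, blk_one, hl, hl', hη]
      simp
    · rw [hl, ht l' hl', hη]
      simp [hl', Ne.symm hl']
  · have : blk ((u : GL (Idx a b) F) : Matrix (Idx a b) (Idx a b) F) l l' =
        blk (1 : Matrix (Idx a b) (Idx a b) F) l l' := by
      ext i i'
      exact hU i i' l l' (Or.inl hl)
    rw [this, blk_one, if_neg hl, zero_mul, add_zero]
    by_cases hll : l = l'
    · rw [if_pos hll, if_pos hll, one_smul]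
    · rw [if_neg hll, if_neg hll, zero_smul]

/-- (TIIb) extraction of a single non-scalar block. -/
theorem stageIIb (hb : 3 ≤ b) (o : Fin b) (M : Subgroup (GL (Idx a b) F))
    (hKM : KG a b F ⊓ SLG a b F ≤ M) (h : R3 o M) :
    ∃ j : Fin b, j ≠ o ∧ ∃ θ ∈ Bset o j M, ¬ IsScalarMat θ := by
  classical
  obtain ⟨u, huM, huK, hU⟩ := h
  have hex : ∃ k0 : Fin b, k0 ≠ o ∧ ¬ IsScalarMat (blk ((u : GL (Idx a b) F) :
      Matrix (Idx a b) (Idx a b) F) o k0) := by
    by_contra hcon
    push Not at hcon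
    exact huK (stageIIb_scalar o u hU hcon)
  obtain ⟨k0, hk0, hns⟩ := hex
  obtain ⟨j, hjo, hjk⟩ := exists_ne_two hb o k0
  refine ⟨j, hjo, blk ((u : GL (Idx a b) F) : Matrix (Idx a b) (Idx a b) F) o k0, ?_, hns⟩
  have hβ : (-(Pi.single j (1 : F)) : Fin b → F) ⬝ᵥ (Pi.single k0 (1 : F)) = 0 := by
    rw [dotProduct_single, mul_one, Pi.neg_apply, Pi.single_apply, if_neg (Ne.symm hjk), neg_zero]
  set g : GL (Idx a b) F := kel (1 : GL (Fin a) F) (tv (Pi.single k0 (1 : F)) (-(Pi.single j 1)) hβ)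
    with hg
  have hgM : g ∈ M := hKM (kel_one_tv_mem _ _ hβ)
  have hgv : ((g : GL (Idx a b) F) : Matrix (Idx a b) (Idx a b) F) =
      (1 : Matrix (Fin a) (Fin a) F) ⊗ₖ ((1 : Matrix (Fin b) (Fin b) F) +
        Matrix.vecMulVec (Pi.single k0 (1 : F)) (-(Pi.single j (1 : F)))) := by
    rw [hg, kel_val, tv_val, Units.val_one]
  have key := stageIIb_key o k0 j hk0 hjo hjk _ hU
  rw [← hgv] at key
  change InM M _
  refine ⟨g * u * g⁻¹ * u⁻¹, M.mul_mem (M.mul_mem (M.mul_mem hgM huM) (M.inv_mem hgM))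
    (M.inv_mem huM), ?_⟩
  rw [Units.val_mul, Units.val_mul, Units.val_mul, key]
  rw [Matrix.mul_assoc, Matrix.mul_assoc, Matrix.mul_assoc]
  rw [← Matrix.mul_assoc (g : Matrix (Idx a b) (Idx a b) F), ← Units.val_mul, mul_inv_cancel,
    Units.val_one, Matrix.one_mul, ← Units.val_mul, mul_inv_cancel, Units.val_one, Matrix.mul_one]

end Cfsg.Agent.Lib.Helper2.TensLeaf
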