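/-
helper2: `p`-solvable groups with a T.I. Sylow `p`-subgroup `P` and a faithful character of degree
`d` with `d ^ 2 ≤ |P|` have `P` normal.  (Uses the free-orbit lemma of `TINorm`.)
-/
import Mathlib
import Cfsg.Agent.Lib.Helper2.TINorm
import Cfsg.Prelude.Def_Local

set_option autoImplicit false

namespace Cfsg.Agent.Lib.Helper2.TISolv

open Cfsg Cfsg.Agent.Lib.Helper2.TINorm
open scoped Pointwise

universe u

variable {G : Type u} [Group G] [Finite G] {p : ℕ} [hp : Fact p.Prime]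

omit [Finite G] hp in
/-- Membership in a conjugate Sylow subgroup. -/
theorem mem_smul_sylow_iff' (Q : Sylow p G) (g x : G) :
    x ∈ ((g • Q : Sylow p G) : Subgroup G) ↔ g⁻¹ * x * g ∈ (Q : Subgroup G) := by
  rw [Sylow.smul_def, Sylow.pointwise_smul_def, Subgroup.mem_pointwise_smul_iff_inv_smul_mem,
    MulAut.smul_def, ← map_inv, MulAut.conj_apply, inv_inv]

/-- A T.I. Sylow subgroup: two distinct Sylow subgroups meet trivially. -/
theorem sylow_eq_of_inf_ne_bot (P : Sylow p G)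
    (hTI : ∀ g : G, g ∉ Subgroup.normalizer ((P : Subgroup G) : Set G) →
      (P : Subgroup G) ⊓ (MulAut.conj g • (P : Subgroup G)) = ⊥)
    (Q Q' : Sylow p G) (h : (Q : Subgroup G) ⊓ (Q' : Subgroup G) ≠ ⊥) : Q = Q' := by
  obtain ⟨a, rfl⟩ := MulAction.exists_smul_eq G P Q
  obtain ⟨b, rfl⟩ := MulAction.exists_smul_eq G P Q'
  by_contra hne
  apply h
  rw [eq_bot_iff]
  intro x hx
  rw [Subgroup.mem_inf, mem_smul_sylow_iff', mem_smul_sylow_iff'] at hx
  have hab : a⁻¹ * b ∉ Subgroup.normalizer ((P : Subgroup G) : Set G) := by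
    intro hmem
    apply hne
    have h1 : (a⁻¹ * b) • P = P := Sylow.smul_eq_iff_mem_normalizer.mpr hmem
    calc a • P = a • ((a⁻¹ * b) • P) := by rw [h1]
      _ = b • P := by rw [smul_smul, mul_inv_cancel_left]
  have h2 := hTI (a⁻¹ * b) hab
  have h3 : a⁻¹ * x * a ∈ (P : Subgroup G) ⊓ (MulAut.conj (a⁻¹ * b) • (P : Subgroup G)) := by
    refine Subgroup.mem_inf.mpr ⟨hx.1, ?_⟩
    rw [Subgroup.mem_pointwise_smul_iff_inv_smul_mem, MulAut.smul_def, ← map_inv,
      MulAut.conj_apply, inv_inv]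
    have : (a⁻¹ * b)⁻¹ * (a⁻¹ * x * a) * (a⁻¹ * b) = b⁻¹ * x * b := by group
    rw [this]
    exact hx.2
  rw [h2, Subgroup.mem_bot] at h3
  rw [Subgroup.mem_bot]
  calc x = a * (a⁻¹ * x * a) * a⁻¹ := by group
    _ = 1 := by rw [h3]; group

omit [Finite G] in
/-- In a `p`-solvable group of order divisible by `p` there are normal subgroups `K ≤ L` with `K`
a `p'`-group and `L/K` a nontrivial `p`-group. -/
theorem exists_step_of_isPSolvable (h : IsPSolvable p G) (hpG : p ∣ Nat.card G) :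
    ∃ K L : Subgroup G, K.Normal ∧ L.Normal ∧ K ≤ L ∧ (Nat.card K).Coprime p ∧
      ∃ m : ℕ, 1 ≤ m ∧ Nat.card L = Nat.card K * p ^ m := by
  obtain ⟨n, H, h0, hlast, hmono, hnorm, hstep⟩ := h
  have key : ∀ i : Fin (n + 1), ¬ (Nat.card (H i)).Coprime p →
      ∃ j : Fin n, (Nat.card (H j.castSucc)).Coprime p ∧ ¬ (Nat.card (H j.succ)).Coprime p := by
    intro i
    induction i using Fin.induction with
    | zero =>
      intro hne
      rw [h0, Subgroup.card_bot] at hne
      exact absurd (Nat.coprime_one_left p) hne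
    | succ i ih =>
      intro hne
      by_cases hc : (Nat.card (H i.castSucc)).Coprime p
      · exact ⟨i, hc, hne⟩
      · exact ih hc
  have hG : ¬ (Nat.card (H (Fin.last n))).Coprime p := by
    rw [hlast, Subgroup.card_top]
    intro hc
    exact (Nat.Prime.coprime_iff_not_dvd hp.out).mp hc.symm hpG
  obtain ⟨j, hj1, hj2⟩ := key _ hG
  have hle : H j.castSucc ≤ H j.succ := hmono (Fin.castSucc_lt_succ (i := j)).le
  have hcard : Nat.card (H j.succ) =
      Nat.card (H j.castSucc) * (H j.castSucc).relIndex (H j.succ) := by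
    have := Subgroup.relIndex_mul_relIndex ⊥ (H j.castSucc) (H j.succ) bot_le hle
    rw [Subgroup.relIndex_bot_left, Subgroup.relIndex_bot_left] at this
    exact this.symm
  rcases hstep j with ⟨m, hm⟩ | hc
  · refine ⟨H j.castSucc, H j.succ, hnorm _, hnorm _, hle, hj1, m, ?_, ?_⟩
    · by_contra hm0
      have hm0' : m = 0 := by omega
      apply hj2
      rw [hcard, hm, hm0', pow_zero, mul_one]
      exact hj1
    · rw [hcard, hm]
  · exfalso
    apply hj2
    rw [hcard]
    exact Nat.Coprime.mul_left hj1 hc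

/-- Frattini argument for a T.I. Sylow subgroup: `G = N_G(Q) K` for a suitable Sylow subgroup `Q`. -/
theorem exists_sylow_normalizer_sup
    (hTI' : ∀ Q Q' : Sylow p G, (Q : Subgroup G) ⊓ (Q' : Subgroup G) ≠ ⊥ → Q = Q')
    (K L : Subgroup G) (hL : L.Normal) (hKL : K ≤ L)
    (hKp : (Nat.card K).Coprime p) (m : ℕ) (hm : 1 ≤ m) (hcard : Nat.card L = Nat.card K * p ^ m) :
    ∃ Q : Sylow p G, (Q : Subgroup G) ≠ ⊥ ∧
      Subgroup.normalizer ((Q : Subgroup G) : Set G) ⊔ K = ⊤ := by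
  obtain ⟨R₀⟩ : Nonempty (Sylow p L) := inferInstance
  obtain ⟨Q, hQ⟩ := R₀.exists_comap_subtype_eq
  set R : Subgroup G := (R₀ : Subgroup L).map L.subtype with hRdef
  have hRQ : R ≤ (Q : Subgroup G) := by
    rintro _ ⟨y, hy, rfl⟩
    have h1 : y ∈ (Q : Subgroup G).comap L.subtype := by rw [hQ]; exact hy
    exact h1
  have hRL : R ≤ L := by
    rintro _ ⟨y, -, rfl⟩
    exact y.2
  have hKpos : Nat.card K ≠ 0 := Nat.card_pos.ne'
  have hnd : ¬ p ∣ Nat.card K := (Nat.Prime.coprime_iff_not_dvd hp.out).mp hKp.symm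
  have hfac : (Nat.card L).factorization p = m := by
    rw [hcard, Nat.factorization_mul hKpos (pow_ne_zero _ hp.out.ne_zero), Finsupp.add_apply,
      Nat.factorization_eq_zero_of_not_dvd hnd, Nat.Prime.factorization_pow hp.out]
    simp
  have hRcard : Nat.card R = p ^ m := by
    rw [hRdef, Subgroup.card_map_of_injective (Subgroup.subtype_injective _),
      Sylow.card_eq_multiplicity, hfac]
  have hRbot : R ≠ ⊥ := by
    intro h
    rw [h, Subgroup.card_bot] at hRcard
    have : 1 < p ^ m := Nat.one_lt_pow (by omega) hp.out.one_lt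
    omega
  refine ⟨Q, fun h => hRbot (le_bot_iff.mp (h ▸ hRQ)), ?_⟩
  have hfrat : Subgroup.normalizer (R : Set G) ⊔ L = ⊤ := Sylow.normalizer_sup_eq_top R₀
  have hNR : Subgroup.normalizer (R : Set G) ≤ Subgroup.normalizer ((Q : Subgroup G) : Set G) := by
    intro n hn
    have hRQ' : R ≤ ((n • Q : Sylow p G) : Subgroup G) := by
      intro x hx
      rw [mem_smul_sylow_iff']
      apply hRQ
      have := (Subgroup.mem_normalizer_iff.mp (Subgroup.inv_mem _ hn) x).mp hx
      rwa [inv_inv] at this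
    have h1 : (Q : Subgroup G) ⊓ ((n • Q : Sylow p G) : Subgroup G) ≠ ⊥ := by
      intro h
      apply hRbot
      rw [eq_bot_iff, ← h]
      exact le_inf hRQ hRQ'
    have h2 := hTI' Q (n • Q) h1
    exact Sylow.smul_eq_iff_mem_normalizer.mp h2.symm
  have hKR : K ⊔ R = L := by
    apply Subgroup.eq_of_le_of_card_ge (sup_le hKL hRL)
    have h1 : Nat.card K ∣ Nat.card (K ⊔ R : Subgroup G) := Subgroup.card_dvd_of_le le_sup_left
    have h2 : p ^ m ∣ Nat.card (K ⊔ R : Subgroup G) := by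
      rw [← hRcard]
      exact Subgroup.card_dvd_of_le le_sup_right
    have h3 : Nat.card K * p ^ m ∣ Nat.card (K ⊔ R : Subgroup G) :=
      Nat.Coprime.mul_dvd_of_dvd_of_dvd (Nat.Coprime.pow_right m hKp) h1 h2
    rw [hcard]
    exact Nat.le_of_dvd Nat.card_pos h3
  rw [eq_top_iff, ← hfrat, ← hKR]
  apply sup_le
  · exact hNR.trans le_sup_left
  · apply sup_le le_sup_right
    exact (hRQ.trans Subgroup.le_normalizer).trans le_sup_left

/-- The character-theoretic core: a normal `p'`-subgroup `K` normalizes a T.I. Sylow `p`-subgroup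
`Q ≠ 1` as soon as `G` has a faithful representation of degree `d` with `d ^ 2 ≤ |Q|`. -/
theorem le_normalizer_of_faithful
    (hTI' : ∀ Q Q' : Sylow p G, (Q : Subgroup G) ⊓ (Q' : Subgroup G) ≠ ⊥ → Q = Q')
    (Q : Sylow p G) (hQ1 : (Q : Subgroup G) ≠ ⊥) (K : Subgroup G) (hK : K.Normal)
    (hKp : (Nat.card K).Coprime p)
    {V : Type*} [AddCommGroup V] [Module ℂ V] [FiniteDimensional ℂ V] (ρ : Representation ℂ G V)
    (hfaith : ∀ g : G, ρ g = 1 → g = 1)
    (hdeg : Module.finrank ℂ V ^ 2 ≤ Nat.card (Q : Subgroup G)) :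
    K ≤ Subgroup.normalizer ((Q : Subgroup G) : Set G) := by
  -- the T.I. property in pointwise form
  have hTIQ : ∀ g : G, g ∉ Subgroup.normalizer ((Q : Subgroup G) : Set G) →
      (Q : Subgroup G) ⊓ (MulAut.conj g • (Q : Subgroup G)) = ⊥ := by
    intro g hg
    by_contra hne
    apply hg
    have h1 : (Q : Subgroup G) ⊓ ((g • Q : Sylow p G) : Subgroup G) ≠ ⊥ := hne
    exact Sylow.smul_eq_iff_mem_normalizer.mp (hTI' Q (g • Q) h1).symm
  have hfreeG := free_of_TI Q hTIQ (Subgroup.normalizer ((Q : Subgroup G) : Set G)) le_rfl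
  -- a nontrivial central element of `Q`
  have hQnt : Nontrivial (Q : Subgroup G) := by
    rw [Subgroup.nontrivial_iff_ne_bot]
    exact hQ1
  have hZnt : Nontrivial (Subgroup.center (Q : Subgroup G)) := Q.2.center_nontrivial
  obtain ⟨⟨z, hzc⟩, hz1⟩ := exists_ne (1 : Subgroup.center (Q : Subgroup G))
  have hz1' : (z : G) ≠ 1 := by
    intro h
    apply hz1
    apply Subtype.ext
    apply Subtype.ext
    exact h
  have hzcomm : ∀ y ∈ (Q : Subgroup G), y * (z : G) = (z : G) * y := by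
    intro y hy
    have := Subgroup.mem_center_iff.mp hzc ⟨y, hy⟩
    exact congrArg Subtype.val this
  -- `Q ∩ K = 1`
  have hQK : (Q : Subgroup G) ⊓ K = ⊥ := by
    apply Disjoint.eq_bot
    apply Subgroup.disjoint_of_coprime_natCard
    obtain ⟨k, hk⟩ := Q.2.exists_card_eq
    rw [hk]
    exact Nat.Coprime.pow_left k hKp.symm
  -- the subgroup `G₁ = K Q`
  set G₁ : Subgroup G := K ⊔ (Q : Subgroup G) with hG₁
  have hKG₁ : K ≤ G₁ := le_sup_left
  have hQG₁ : (Q : Subgroup G) ≤ G₁ := le_sup_right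
  let H₁ : Subgroup G₁ := (Subgroup.normalizer ((Q : Subgroup G) : Set G)).subgroupOf G₁
  let P₁ : Subgroup G₁ := (Q : Subgroup G).subgroupOf G₁
  have hP₁H₁ : P₁ ≤ H₁ := by
    intro x hx
    exact Subgroup.le_normalizer (Subgroup.mem_subgroupOf.mp hx)
  have hP₁ : IsPGroup p P₁ := by
    have : IsPGroup p ((Q : Subgroup G).subgroupOf G₁) :=
      Q.2.comap_of_injective G₁.subtype (Subgroup.subtype_injective _)
    exact this
  have hP₁card : Nat.card P₁ = Nat.card (Q : Subgroup G) :=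
    Nat.card_congr (Subgroup.subgroupOfEquivOfLe hQG₁).toEquiv
  have hfree₁ : ∀ x ∈ P₁, ∀ g : G₁, g ∉ H₁ → g⁻¹ * x * g ∈ H₁ → x = 1 := by
    intro x hx g hg hy
    apply Subtype.ext
    exact hfreeG (x : G) (Subgroup.mem_subgroupOf.mp hx) (g : G)
      (fun h => hg (Subgroup.mem_subgroupOf.mpr h)) (Subgroup.mem_subgroupOf.mp hy)
  -- elements of `H₁` commute with `z`
  have hH₁z : ∀ h : G₁, h ∈ H₁ → (h : G) * (z : G) = (z : G) * (h : G) := by
    intro h hh
    have hhN : (h : G) ∈ Subgroup.normalizer ((Q : Subgroup G) : Set G) :=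
      Subgroup.mem_subgroupOf.mp hh
    have hmem : (h : G) ∈ (K ⊔ (Q : Subgroup G) : Subgroup G) := h.2
    rw [sup_comm, ← SetLike.mem_coe, Subgroup.mul_normal] at hmem
    obtain ⟨y, hy, k, hk, hyk⟩ := hmem
    have hkN : k ∈ Subgroup.normalizer ((Q : Subgroup G) : Set G) := by
      have : k = y⁻¹ * (h : G) := by rw [← hyk]; group
      rw [this]
      exact Subgroup.mul_mem _ (Subgroup.inv_mem _ (Subgroup.le_normalizer hy)) hhN
    have hkz : k * (z : G) = (z : G) * k := by
      have h1 : k * (z : G) * k⁻¹ * (z : G)⁻¹ ∈ (Q : Subgroup G) ⊓ K := by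
        refine Subgroup.mem_inf.mpr ⟨?_, ?_⟩
        · exact Subgroup.mul_mem _ ((Subgroup.mem_normalizer_iff.mp hkN _).mp z.2)
            (Subgroup.inv_mem _ z.2)
        · have : k * (z : G) * k⁻¹ * (z : G)⁻¹ = k * ((z : G) * k⁻¹ * (z : G)⁻¹) := by group
          rw [this]
          exact Subgroup.mul_mem _ hk (hK.conj_mem _ (Subgroup.inv_mem _ hk) _)
      rw [hQK, Subgroup.mem_bot] at h1
      calc k * (z : G) = (k * (z : G) * k⁻¹ * (z : G)⁻¹) * ((z : G) * k) := by group
        _ = (z : G) * k := by rw [h1, one_mul]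
    rw [← hyk, mul_assoc, hkz, ← mul_assoc, hzcomm y hy, mul_assoc]
  -- the representation on `End V` restricted to `G₁`
  let Θ₁ : Representation ℂ G₁ (V →ₗ[ℂ] V) := (Representation.linHom ρ ρ).comp G₁.subtype
  have hΘ₁ : ∀ (g : G₁) (T : V →ₗ[ℂ] V), Θ₁ g T = ρ (g : G) ∘ₗ T ∘ₗ ρ ((g : G)⁻¹) := by
    intro g T
    show Representation.linHom ρ ρ (g : G) T = _
    rw [Representation.linHom_apply]
  have hdim : Module.finrank ℂ (V →ₗ[ℂ] V) < Nat.card P₁ + Module.finrank ℂ Θ₁.invariants := by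
    rw [Module.finrank_linearMap, hP₁card]
    rcases Nat.eq_zero_or_pos (Module.finrank ℂ V) with h0 | h0
    · rw [h0]
      have : 0 < Nat.card (Q : Subgroup G) := Nat.card_pos
      omega
    · have hV : Nontrivial V := Module.finrank_pos_iff.mp h0
      have h1 : 0 < Module.finrank ℂ Θ₁.invariants := by
        rw [Module.finrank_pos_iff_exists_ne_zero]
        refine ⟨⟨LinearMap.id, ?_⟩, ?_⟩
        · intro g
          rw [hΘ₁]
          ext v
          simp only [LinearMap.comp_apply, LinearMap.id_apply]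
          rw [← Module.End.mul_apply, ← map_mul, mul_inv_cancel, map_one, Module.End.one_apply]
        · intro h
          have h2 : (LinearMap.id : V →ₗ[ℂ] V) = 0 := congrArg Subtype.val h
          obtain ⟨v, hv⟩ := exists_ne (0 : V)
          apply hv
          have h3 := LinearMap.congr_fun h2 v
          simpa using h3
      have h2 : Module.finrank ℂ V * Module.finrank ℂ V = Module.finrank ℂ V ^ 2 := by ring
      omega
  -- `ρ z` is fixed by `H₁`, hence by `G₁`
  have hfix : ∀ h ∈ H₁, Θ₁ h (ρ (z : G)) = ρ (z : G) := by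
    intro h hh
    rw [hΘ₁]
    have h1 : ρ (h : G) ∘ₗ ρ (z : G) ∘ₗ ρ ((h : G)⁻¹) = ρ ((h : G) * (z : G) * (h : G)⁻¹) := by
      rw [map_mul, map_mul]
      rfl
    rw [h1, hH₁z h hh, mul_inv_cancel_right]
  let _ : Fintype G₁ := Fintype.ofFinite G₁
  have hall := fixed_of_fixed_subgroup (p := p) Θ₁ H₁ P₁ hP₁H₁ hP₁ hfree₁ hdim (ρ (z : G)) hfix
  -- so every `k ∈ K` commutes with `z`, and therefore normalizes `Q`
  intro k hk
  have h1 := hall ⟨k, hKG₁ hk⟩
  rw [hΘ₁] at h1
  have h2 : ρ (k * (z : G) * k⁻¹ * (z : G)⁻¹) = 1 := by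
    have h3 : ρ k ∘ₗ ρ (z : G) ∘ₗ ρ k⁻¹ = ρ (k * (z : G) * k⁻¹) := by
      rw [map_mul, map_mul]
      rfl
    have h4 : ρ (k * (z : G) * k⁻¹) = ρ (z : G) := by
      rw [← h3]
      exact h1
    rw [map_mul, h4, ← map_mul, mul_inv_cancel, map_one]
  have h3 := hfaith _ h2
  have hkz : k * (z : G) * k⁻¹ = (z : G) := by
    calc k * (z : G) * k⁻¹ = (k * (z : G) * k⁻¹ * (z : G)⁻¹) * (z : G) := by group
      _ = (z : G) := by rw [h3, one_mul]
  have h4 : (Q : Subgroup G) ⊓ ((k • Q : Sylow p G) : Subgroup G) ≠ ⊥ := by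
    intro h
    apply hz1'
    have : (z : G) ∈ (Q : Subgroup G) ⊓ ((k • Q : Sylow p G) : Subgroup G) := by
      refine Subgroup.mem_inf.mpr ⟨z.2, ?_⟩
      rw [mem_smul_sylow_iff']
      have : k⁻¹ * (z : G) * k = (z : G) := by
        calc k⁻¹ * (z : G) * k = k⁻¹ * (k * (z : G) * k⁻¹) * k := by rw [hkz]
          _ = (z : G) := by group
      rw [this]
      exact z.2
    rw [h, Subgroup.mem_bot] at this
    exact this
  exact Sylow.smul_eq_iff_mem_normalizer.mp (hTI' Q (k • Q) h4).symm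

/-- A `p`-solvable group with a T.I. Sylow `p`-subgroup `P` and a faithful representation of degree
`d` with `d ^ 2 ≤ |P|` has `P` normal. -/
theorem sylow_normal_of_isPSolvable_of_TI (hsolv : IsPSolvable p G) (P : Sylow p G)
    (hTI : ∀ g : G, g ∉ Subgroup.normalizer ((P : Subgroup G) : Set G) →
      (P : Subgroup G) ⊓ (MulAut.conj g • (P : Subgroup G)) = ⊥)
    {V : Type*} [AddCommGroup V] [Module ℂ V] [FiniteDimensional ℂ V] (ρ : Representation ℂ G V)
    (hfaith : ∀ g : G, ρ g = 1 → g = 1)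
    (hdeg : Module.finrank ℂ V ^ 2 ≤ Nat.card (P : Subgroup G)) : (P : Subgroup G).Normal := by
  by_cases hpG : p ∣ Nat.card G
  · obtain ⟨K, L, hK, hL, hKL, hKp, m, hm, hcard⟩ := exists_step_of_isPSolvable hsolv hpG
    have hTI' := sylow_eq_of_inf_ne_bot P hTI
    obtain ⟨Q, hQ1, hsup⟩ := exists_sylow_normalizer_sup hTI' K L hL hKL hKp m hm hcard
    have hcardQ : Nat.card (Q : Subgroup G) = Nat.card (P : Subgroup G) := by
      rw [Sylow.card_eq_multiplicity, Sylow.card_eq_multiplicity]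
    have hKN := le_normalizer_of_faithful hTI' Q hQ1 K hK hKp ρ hfaith (hcardQ ▸ hdeg)
    have htop : Subgroup.normalizer ((Q : Subgroup G) : Set G) = ⊤ := by
      rw [← hsup]
      exact (sup_eq_left.mpr hKN).symm
    have hQn : (Q : Subgroup G).Normal := Subgroup.normalizer_eq_top_iff.mp htop
    obtain ⟨g, rfl⟩ := MulAction.exists_smul_eq G Q P
    rw [Sylow.smul_eq_of_normal]
    exact hQn
  · have h1 : Nat.card (P : Subgroup G) = 1 := by
      rw [Sylow.card_eq_multiplicity, Nat.factorization_eq_zero_of_not_dvd hpG, pow_zero]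
    have h2 : (P : Subgroup G) = ⊥ := Subgroup.card_eq_one.mp h1
    rw [h2]
    infer_instance

end Cfsg.Agent.Lib.Helper2.TISolv
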