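import Mathlib
import Cfsg.Agent.Lib.Helper8.TW.Defs
import Cfsg.Agent.Lib.Helper8.TW.StageIDefs
import Cfsg.Agent.Lib.Helper26.TWFibA
import Cfsg.Agent.Lib.Helper26.TWFibB
import Cfsg.Agent.Lib.Helper22.TWExtBasic
import Cfsg.Agent.Lib.Helper22.TWExtMore
import Cfsg.Agent.Lib.Helper16.TWImg
import Cfsg.Agent.Lib.Helper16.TWRootA

/-!
S5641 (C7), Stage I market, block (I5) = the delta-argument (helper2):
`exists_maxCfg` (I5-max), `I5a_core` / `I5a`, `fibre_determined` (I5b), `I5c`, `exists_y_eta` (I5d).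
-/

set_option autoImplicit false
set_option linter.unusedSectionVars false
set_option linter.unusedVariables false

namespace Cfsg.Agent.Lib.Helper2.TWLeaf
open Matrix Cfsg.Geo Cfsg.Agent.Lib.Helper18.AschA89 Cfsg.Agent.Lib.Helper8.TW

variable {F : Type*} [Field F] [Fintype F] {t m : ℕ}

/-! ### small linear algebra in `F^m` -/

/-- a functional with value `1` on `z ≠ 0` -/
lemma i5_exists_dot_one (z : Fin m → F) (hz : z ≠ 0) : ∃ ξ : Fin m → F, ξ ⬝ᵥ z = 1 := by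
  obtain ⟨p, hp⟩ : ∃ p, z p ≠ 0 := by
    by_contra h
    push Not at h
    exact hz (funext h)
  refine ⟨Pi.single p (z p)⁻¹, ?_⟩
  rw [single_dotProduct, inv_mul_cancel₀ hp]

/-- a functional killing `z` with value `1` on `y ∉ F z` -/
lemma i5_exists_dot_zero_one (z y : Fin m → F) (hz : z ≠ 0) (hy : ¬ ∃ a : F, y = a • z) :
    ∃ φ : Fin m → F, φ ⬝ᵥ z = 0 ∧ φ ⬝ᵥ y = 1 := by
  obtain ⟨p, hp⟩ : ∃ p, z p ≠ 0 := by
    by_contra h
    push Not at h
    exact hz (funext h)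
  obtain ⟨q, hq⟩ : ∃ q, z p * y q - z q * y p ≠ 0 := by
    by_contra h
    push Not at h
    apply hy
    refine ⟨y p / z p, ?_⟩
    funext q
    have := h q
    rw [Pi.smul_apply, smul_eq_mul]
    field_simp
    linear_combination this
  set d := z p * y q - z q * y p with hd
  refine ⟨d⁻¹ • (z p • Pi.single q 1 - z q • Pi.single p 1), ?_, ?_⟩
  · rw [smul_dotProduct, sub_dotProduct, smul_dotProduct, smul_dotProduct, single_dotProduct,
      single_dotProduct]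
    simp only [smul_eq_mul, one_mul]
    rw [mul_comm (z p) (z q), sub_self, mul_zero]
  · rw [smul_dotProduct, sub_dotProduct, smul_dotProduct, smul_dotProduct, single_dotProduct,
      single_dotProduct]
    simp only [smul_eq_mul, one_mul]
    rw [← hd, inv_mul_cancel₀ hq]

lemma i5_span_inf_span (z y : Fin m → F) (hy : ¬ ∃ a : F, y = a • z) :
    (F ∙ z) ⊓ (F ∙ y) = (⊥ : Submodule F (Fin m → F)) := by
  rw [eq_bot_iff]
  rintro v ⟨hv1, hv2⟩
  rw [SetLike.mem_coe, Submodule.mem_span_singleton] at hv1 hv2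
  obtain ⟨a, rfl⟩ := hv1
  obtain ⟨b, hb⟩ := hv2
  rw [Submodule.mem_bot]
  by_cases hb0 : b = 0
  · rw [← hb, hb0, zero_smul]
  · exfalso
    apply hy
    refine ⟨b⁻¹ * a, ?_⟩
    rw [mul_smul, ← hb, smul_smul, inv_mul_cancel₀ hb0, one_smul]

lemma i5_finrank_span (y : Fin m → F) (hy : y ≠ 0) :
    Module.finrank F (F ∙ y : Submodule F (Fin m → F)) = 1 :=
  finrank_span_singleton hy

lemma i5_tens_add_right (i : Fin (t + 1)) (b : Idx t m → F) (a a' : Fin m → F) :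
    tens i b (a + a') = tens i b a + tens i b a' := by
  funext x
  simp only [tens, Pi.add_apply, mul_add]

lemma i5_ctr_sub (i : Fin (t + 1)) (ξ : Fin m → F) (v w : Idx (t + 1) m → F) :
    ctr i ξ (v - w) = ctr i ξ v - ctr i ξ w := by
  have h := Cfsg.Agent.Lib.Helper22.TWLeaf.ctr_add i ξ (v - w) w
  rw [sub_add_cancel] at h
  rw [h, add_sub_cancel_right]

/-! ### (I5d) -/

/-- I5d (S) choice of `y₁`, `η` -/
theorem exists_y_eta (hm : 3 ≤ m) (z : Fin m → F) (hz : z ≠ 0) :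
    ∃ y₁ η : Fin m → F, (¬ ∃ a : F, y₁ = a • z) ∧ η ≠ 0 ∧ η ⬝ᵥ z = 0 ∧ η ⬝ᵥ y₁ = 0 := by
  classical
  obtain ⟨p, hp⟩ : ∃ p, z p ≠ 0 := by
    by_contra h
    push Not at h
    exact hz (funext h)
  have hcard : Fintype.card (Fin m) = m := Fintype.card_fin m
  obtain ⟨q, hq⟩ : ∃ q : Fin m, q ≠ p := by
    have : Nontrivial (Fin m) := by
      rw [← Fintype.one_lt_card_iff_nontrivial, hcard]; omega
    exact exists_ne p
  obtain ⟨r, -, hr⟩ : ∃ r ∈ (Finset.univ : Finset (Fin m)), r ∉ ({p, q} : Finset (Fin m)) := by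
    apply Finset.exists_mem_notMem_of_card_lt_card
    calc ({p, q} : Finset (Fin m)).card ≤ 2 := Finset.card_le_two
      _ < m := by omega
      _ = (Finset.univ : Finset (Fin m)).card := by rw [Finset.card_univ, hcard]
  have hrp : r ≠ p := fun h => hr (by rw [h]; simp)
  have hrq : r ≠ q := fun h => hr (by rw [h]; simp)
  refine ⟨Pi.single q 1, z p • Pi.single r 1 - z r • Pi.single p 1, ?_, ?_, ?_, ?_⟩
  · rintro ⟨a, ha⟩
    have h1 := congrFun ha p
    rw [Pi.single_eq_of_ne (Ne.symm hq), Pi.smul_apply, smul_eq_mul] at h1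
    have ha0 : a = 0 := by
      rcases mul_eq_zero.mp h1.symm with h | h
      · exact h
      · exact absurd h hp
    have h2 := congrFun ha q
    rw [Pi.single_eq_same, ha0, zero_smul, Pi.zero_apply] at h2
    exact one_ne_zero h2
  · intro h
    have := congrFun h r
    rw [Pi.sub_apply, Pi.smul_apply, Pi.smul_apply, Pi.single_eq_same, Pi.single_eq_of_ne hrp,
      smul_eq_mul, smul_eq_mul, mul_one, mul_zero, sub_zero, Pi.zero_apply] at this
    exact hp this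
  · rw [sub_dotProduct, smul_dotProduct, smul_dotProduct, single_dotProduct, single_dotProduct]
    simp only [smul_eq_mul, one_mul]
    ring
  · rw [sub_dotProduct, smul_dotProduct, smul_dotProduct, single_dotProduct, single_dotProduct,
      Pi.single_eq_of_ne hrq, Pi.single_eq_of_ne (Ne.symm hq)]
    simp

/-! ### (I5-max) -/

/-- I5-max (S) -/
theorem exists_maxCfg (X : Subgroup (GL (Idx t m) F))
    (h : ∃ g ∈ X, g ∉ Gstd t m F ∧ ∃ (r₂ : RD t m F) (j : Fin t) (z : Fin m → F), z ≠ 0 ∧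
      Wf j z ⊓ img g r₂.W ≠ ⊥) :
    ∃ (g : GL (Idx t m) F) (r₂ : RD t m F) (j : Fin t) (z : Fin m → F), MaxCfg X g r₂ j z := by
  classical
  let P : ℕ → Prop := fun n => ∃ g ∈ X, g ∉ Gstd t m F ∧ ∃ (r₂ : RD t m F) (j : Fin t) (z : Fin m → F),
    z ≠ 0 ∧ Wf j z ⊓ img g r₂.W ≠ ⊥ ∧
      Module.finrank F (Wf j z ⊓ img g r₂.W : Submodule F (Idx t m → F)) = n
  have hbd : ∀ n, P n → n ≤ Module.finrank F (Idx t m → F) := by
    rintro n ⟨g, _, _, r₂, j, z, _, _, rfl⟩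
    exact Submodule.finrank_le _
  have hex : ∃ n, P n := by
    obtain ⟨g, hgX, hgG, r₂, j, z, hz, hne⟩ := h
    exact ⟨_, g, hgX, hgG, r₂, j, z, hz, hne, rfl⟩
  obtain ⟨n, hn, hmax⟩ : ∃ n, P n ∧ ∀ k, P k → k ≤ n := by
    refine ⟨Nat.findGreatest P (Module.finrank F (Idx t m → F)), ?_, ?_⟩
    · obtain ⟨n, hn⟩ := hex
      exact Nat.findGreatest_spec (hbd n hn) hn
    · intro k hk
      exact Nat.le_findGreatest (hbd k hk) hk
  obtain ⟨g, hgX, hgG, r₂, j, z, hz, hne, hfr⟩ := hn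
  refine ⟨g, r₂, j, z, hgX, hgG, hz, hne, ?_⟩
  intro g' hg'X hg'G r' j' z' hz'
  by_cases hb : Wf j' z' ⊓ img g' r'.W = ⊥
  · rw [hb, finrank_bot]
    exact Nat.zero_le _
  · rw [hfr]
    exact hmax _ ⟨g', hg'X, hg'G, r', j', z', hz', hb, rfl⟩

/-! ### (I5b) -/

/-- `Wf j z ⊓ fib (j.succAbove a) S` consists of the `tens j u z`, `u ∈ fib a S` -/
lemma i5_mem_inf_iff (j : Fin (t + 1)) (a : Fin t) (z : Fin m → F) (hz : z ≠ 0)
    (S : Submodule F (Fin m → F)) (u : Idx t m → F) :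
    tens j u z ∈ Wf j z ⊓ fib (j.succAbove a) S ↔ u ∈ fib a S := by
  constructor
  · rintro ⟨-, h2⟩
    obtain ⟨ξ, hξ⟩ := i5_exists_dot_one z hz
    have := Cfsg.Agent.Lib.Helper22.TWLeaf.ctr_mem_fib j a S ξ _ h2
    rwa [Cfsg.Agent.Lib.Helper22.TWLeaf.ctr_tens, hξ, one_smul] at this
  · intro hu
    exact ⟨(Cfsg.Agent.Lib.Helper22.TWLeaf.mem_Wf_iff_tens j z hz _).mpr ⟨u, rfl⟩,
      Cfsg.Agent.Lib.Helper22.TWLeaf.tens_mem_fib_succAbove j a S u z hu⟩

/-- I5b (M) a fibre of another type is determined by its intersection with `Wf j z` -/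
theorem fibre_determined (hm : 2 ≤ m) (j j' j'' : Fin t) (hj' : j' ≠ j) (hj'' : j'' ≠ j) (z z' z'' : Fin m → F)
    (hz : z ≠ 0) (hz' : z' ≠ 0) (hz'' : z'' ≠ 0)
    (h : Wf j z ⊓ Wf j' z' = Wf j z ⊓ Wf j'' z'') : Wf j' z' = Wf j'' z'' := by
  obtain ⟨t', rfl⟩ : ∃ t', t = t' + 1 := ⟨t - 1, by have := j.pos; omega⟩
  obtain ⟨a, rfl⟩ := Fin.exists_succAbove_eq hj'
  obtain ⟨b, rfl⟩ := Fin.exists_succAbove_eq hj''
  have key : fib a (F ∙ z') = fib b (F ∙ z'') := by
    apply le_antisymm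
    · intro u hu
      have h1 := (i5_mem_inf_iff j a z hz (F ∙ z') u).mpr hu
      have h2 : tens j u z ∈ Wf j z ⊓ fib (j.succAbove b) (F ∙ z'') := by
        have : tens j u z ∈ Wf j z ⊓ Wf (j.succAbove a) z' := h1
        rw [h] at this
        exact this
      exact (i5_mem_inf_iff j b z hz (F ∙ z'') u).mp h2
    · intro u hu
      have h1 := (i5_mem_inf_iff j b z hz (F ∙ z'') u).mpr hu
      have h2 : tens j u z ∈ Wf j z ⊓ fib (j.succAbove a) (F ∙ z') := by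
        have : tens j u z ∈ Wf j z ⊓ Wf (j.succAbove b) z'' := h1
        rw [← h] at this
        exact this
      exact (i5_mem_inf_iff j a z hz (F ∙ z') u).mp h2
  have hS0 : (F ∙ z' : Submodule F (Fin m → F)) ≠ ⊥ := by
    rw [Ne, Submodule.span_singleton_eq_bot]
    exact hz'
  have hS1 : (F ∙ z' : Submodule F (Fin m → F)) ≠ ⊤ := by
    intro htop
    have h1 := i5_finrank_span (F := F) z' hz'
    rw [htop, finrank_top, Module.finrank_fin_fun] at h1
    omega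
  obtain ⟨hab, hSS⟩ := (Cfsg.Agent.Lib.Helper26.TWLeaf.fib_eq_fib_iff a b _ _ hS0 hS1).mp key
  subst hab
  unfold Wf
  rw [hSS]

end Cfsg.Agent.Lib.Helper2.TWLeaf
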