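import Mathlib
import Cfsg.Agent.Lib.Helper2.TWI5

/-!
S5641 (C7), Stage I market, block (I5): `I5a_core` (I5a with the same-type lemma I4b as a hypothesis) and `I5c`.
-/

set_option autoImplicit false
set_option linter.unusedSectionVars false
set_option linter.unusedVariables false

namespace Cfsg.Agent.Lib.Helper2.TWLeaf
open Matrix Cfsg.Geo Cfsg.Agent.Lib.Helper18.AschA89 Cfsg.Agent.Lib.Helper8.TW

variable {F : Type*} [Field F] [Fintype F] {t m : ℕ}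

/-- box formula for two fibres of lines at different positions -/
lemma i5_box_lines (i j : Fin t) (hij : i ≠ j) (y y' : Fin m → F) (hy : y ≠ 0) (hy' : y' ≠ 0) :
    Module.finrank F (Wf i y ⊓ Wf j y' : Submodule F (Idx t m → F)) = m ^ (t - 2) := by
  unfold Wf
  rw [Cfsg.Agent.Lib.Helper26.TWLeaf.finrank_fib_inf_fib i j hij, i5_finrank_span y hy,
    i5_finrank_span y' hy', mul_one, mul_one]

/-- I5a (L), with the same-type lemma (I4b) for this configuration as a hypothesis -/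
theorem I5a_core {X : Subgroup (GL (Idx t m) F)} (c : Ctx X) (g : GL (Idx t m) F) (r₂ : RD t m F) (j : Fin t)
    (z : Fin m → F) (M : MaxCfg X g r₂ j z) (r₁ r₃ : RD t m F) (x : GL (Idx t m) F)
    (h1 : r₁.i = j) (h2 : r₁.η ⬝ᵥ z = 0) (h3 : ¬ ∃ a : F, r₁.y = a • z) (k : Key g r₁ r₂ x r₃)
    (hst : r₃.i = r₁.i → r₃.W = r₁.W) :
    r₃.i ≠ j ∧ Wf j z ⊓ img g r₂.W = Wf j z ⊓ r₃.W ∧ img g r₂.W ⊓ r₁.C = Wf j z ⊓ img g r₂.W := by
  have hzC : Wf j z ≤ r₁.C := by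
    unfold RD.C Cf Wf
    rw [h1]
    apply Cfsg.Agent.Lib.Helper26.TWLeaf.fib_mono
    rw [Submodule.span_singleton_le_iff_mem]
    exact h2
  have hL0L : Wf j z ⊓ img g r₂.W ≤ img g r₂.W ⊓ r₁.C := le_inf inf_le_right (inf_le_left.trans hzC)
  have hLW3 : img g r₂.W ⊓ r₁.C ≤ r₃.W ⊓ img g r₂.W := le_inf k.h2 inf_le_left
  have hfr : Module.finrank F (r₃.W ⊓ img g r₂.W : Submodule F (Idx t m → F)) ≤
      Module.finrank F (Wf j z ⊓ img g r₂.W : Submodule F (Idx t m → F)) :=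
    M.hmax g M.hgX M.hgG r₂ r₃.i r₃.y r₃.hy
  have e1 : Wf j z ⊓ img g r₂.W = r₃.W ⊓ img g r₂.W :=
    Submodule.eq_of_le_of_finrank_le (hL0L.trans hLW3) hfr
  have e2 : img g r₂.W ⊓ r₁.C = Wf j z ⊓ img g r₂.W :=
    le_antisymm (by rw [e1]; exact hLW3) hL0L
  -- (2)
  have hne : r₃.i ≠ j := by
    intro hj
    have hW31 : r₃.W = r₁.W := hst (hj.trans h1.symm)
    apply M.hne
    rw [eq_bot_iff]
    intro v hv
    have hv1 : v ∈ Wf j z := hv.1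
    have hv3 : v ∈ r₃.W := by
      have : v ∈ r₃.W ⊓ img g r₂.W := e1 ▸ hv
      exact this.1
    rw [hW31] at hv3
    have hv3' : v ∈ Wf j r₁.y := by
      have : r₁.W = Wf j r₁.y := by unfold RD.W; rw [h1]
      rwa [this] at hv3
    have : v ∈ Wf j z ⊓ Wf j r₁.y := ⟨hv1, hv3'⟩
    unfold Wf at this
    rw [← Cfsg.Agent.Lib.Helper26.TWLeaf.fib_inf, i5_span_inf_span z r₁.y h3,
      Cfsg.Agent.Lib.Helper26.TWLeaf.fib_bot] at this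
    exact this
  refine ⟨hne, ?_, e2⟩
  -- (3)
  have hne1 : r₃.i ≠ r₁.i := by rw [h1]; exact hne
  have hsub : r₃.W ⊓ r₁.C ≤ (Wf j z ⊓ img g r₂.W) ⊔ (r₃.W ⊓ r₁.W) := by
    rintro v ⟨hv3, hvC⟩
    obtain ⟨w₁, hw₁, w', hw', rfl⟩ := Submodule.mem_sup.mp (k.h1 hv3)
    have hw₁C : w₁ ∈ r₁.C := Cfsg.Agent.Lib.Helper16.TWLeaf.RD_W_le_C r₁ hw₁
    have hw'C : w' ∈ r₁.C := by
      have := r₁.C.sub_mem hvC hw₁C
      rwa [add_sub_cancel_left] at this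
    have hw'L : w' ∈ Wf j z ⊓ img g r₂.W := by
      rw [← e2]; exact ⟨hw', hw'C⟩
    have hw'3 : w' ∈ r₃.W := by
      have : w' ∈ r₃.W ⊓ img g r₂.W := e1 ▸ hw'L
      exact this.1
    have hw₁3 : w₁ ∈ r₃.W := by
      have := r₃.W.sub_mem hv3 hw'3
      rwa [add_sub_cancel_right] at this
    exact Submodule.mem_sup.mpr ⟨w', hw'L, w₁, ⟨hw₁3, hw₁⟩, add_comm _ _⟩
  have hb1 : Module.finrank F (r₃.W ⊓ r₁.C : Submodule F (Idx t m → F)) = m ^ (t - 2) * (m - 1) := by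
    unfold RD.W RD.C Wf Cf
    rw [Cfsg.Agent.Lib.Helper26.TWLeaf.finrank_fib_inf_fib r₃.i r₁.i hne1, i5_finrank_span r₃.y r₃.hy,
      Cfsg.Agent.Lib.Helper26.TWLeaf.finrank_kerF r₁.η r₁.hη, mul_one]
  have hb2 : Module.finrank F (r₃.W ⊓ r₁.W : Submodule F (Idx t m → F)) = m ^ (t - 2) :=
    i5_box_lines r₃.i r₁.i hne1 r₃.y r₁.y r₃.hy r₁.hy
  have hb3 : Module.finrank F (Wf j z ⊓ r₃.W : Submodule F (Idx t m → F)) = m ^ (t - 2) :=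
    i5_box_lines j r₃.i (Ne.symm hne) z r₃.y M.hz r₃.hy
  have hle : Wf j z ⊓ img g r₂.W ≤ Wf j z ⊓ r₃.W := by
    refine le_inf inf_le_left ?_
    rw [e1]; exact inf_le_left
  have h4 : m ^ (t - 2) * (m - 1) ≤
      Module.finrank F (Wf j z ⊓ img g r₂.W : Submodule F (Idx t m → F)) + m ^ (t - 2) := by
    rw [← hb1, ← hb2]
    exact (Submodule.finrank_mono hsub).trans (Submodule.finrank_add_le_finrank_add_finrank _ _)
  apply Submodule.eq_of_le_of_finrank_le hle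
  rw [hb3]
  have hm := c.hm
  have h5 : m ^ (t - 2) * 2 ≤ m ^ (t - 2) * (m - 1) := Nat.mul_le_mul_left _ (by omega)
  omega

/-- I5c (L) THE FINAL COUNT -/
theorem I5c {X : Subgroup (GL (Idx t m) F)} (c : Ctx X) (g : GL (Idx t m) F) (r₂ : RD t m F) (j : Fin t)
    (z : Fin m → F) (M : MaxCfg X g r₂ j z) (r₁ r₁' r₃ r₃' : RD t m F) (x x' : GL (Idx t m) F)
    (hi : r₁.i = j) (hi' : r₁'.i = j) (hy' : r₁'.y = r₁.y + z) (hη' : r₁'.η = r₁.η)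
    (hηz : r₁.η ⬝ᵥ z = 0) (hyz : ¬ ∃ a : F, r₁.y = a • z)
    (k : Key g r₁ r₂ x r₃) (k' : Key g r₁' r₂ x' r₃')
    (hne : r₃.i ≠ j) (hW : r₃'.W = r₃.W)
    (hL0 : Wf j z ⊓ img g r₂.W = Wf j z ⊓ r₃.W)
    (hL : img g r₂.W ⊓ r₁.C = Wf j z ⊓ img g r₂.W) : False := by
  have hm := c.hm
  have ht := c.ht
  obtain ⟨t', rfl⟩ : ∃ t', t = t' + 1 := ⟨t - 1, by omega⟩
  obtain ⟨ĵ, hĵ⟩ := Fin.exists_succAbove_eq hne
  obtain ⟨φ, hφz, hφy⟩ := i5_exists_dot_zero_one z r₁.y M.hz hyz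
  obtain ⟨ξ, hξ⟩ := i5_exists_dot_one z M.hz
  have hW1 : r₁.W = Wf j r₁.y := by unfold RD.W; rw [hi]
  have hW1' : r₁'.W = Wf j (r₁.y + z) := by unfold RD.W; rw [hi', hy']
  have hyz0 : r₁.y + z ≠ 0 := by rw [← hy']; exact r₁'.hy
  have hW3 : r₃.W = fib (j.succAbove ĵ) (F ∙ r₃.y) := by unfold RD.W Wf; rw [hĵ]
  have hC1 : r₁.C = Cf j r₁.η := by unfold RD.C; rw [hi]
  -- the covering
  have hcov : r₃.W ≤ (r₃.W ⊓ Wf j r₁.y) ⊔ (r₃.W ⊓ img g r₂.W) := by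
    intro v hv
    obtain ⟨a₁, ha₁, w₁, hw₁, e₁⟩ := Submodule.mem_sup.mp (k.h1 hv)
    have hv' : v ∈ r₃'.W := by rw [hW]; exact hv
    obtain ⟨a₂, ha₂, w₂, hw₂, e₂⟩ := Submodule.mem_sup.mp (k'.h1 hv')
    rw [hW1] at ha₁
    rw [hW1'] at ha₂
    obtain ⟨b₁, rfl⟩ := (Cfsg.Agent.Lib.Helper22.TWLeaf.mem_Wf_iff_tens j r₁.y r₁.hy a₁).mp ha₁
    obtain ⟨b₂, rfl⟩ := (Cfsg.Agent.Lib.Helper22.TWLeaf.mem_Wf_iff_tens j (r₁.y + z) hyz0 a₂).mp ha₂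
    -- d := a₁ - a₂ = w₂ - w₁
    have hd : tens j b₁ r₁.y - tens j b₂ (r₁.y + z) = w₂ - w₁ := by
      have : tens j b₁ r₁.y + w₁ = tens j b₂ (r₁.y + z) + w₂ := e₁.trans e₂.symm
      linear_combination (exp := 1) this
    have hdW' : tens j b₁ r₁.y - tens j b₂ (r₁.y + z) ∈ img g r₂.W := by
      rw [hd]; exact (img g r₂.W).sub_mem hw₂ hw₁
    have hdC : tens j b₁ r₁.y - tens j b₂ (r₁.y + z) ∈ r₁.C := by
      rw [hC1, Cfsg.Agent.Lib.Helper22.TWLeaf.mem_Cf_iff_ctr, i5_ctr_sub,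
        Cfsg.Agent.Lib.Helper22.TWLeaf.ctr_tens, Cfsg.Agent.Lib.Helper22.TWLeaf.ctr_tens, r₁.h0,
        dotProduct_add, r₁.h0, hηz, add_zero, zero_smul, zero_smul, sub_zero]
    have hdL : tens j b₁ r₁.y - tens j b₂ (r₁.y + z) ∈ Wf j z ⊓ r₃.W := by
      rw [← hL0, ← hL]; exact ⟨hdW', hdC⟩
    obtain ⟨b₀, hb₀⟩ := (Cfsg.Agent.Lib.Helper22.TWLeaf.mem_Wf_iff_tens j z M.hz _).mp hdL.1
    have hbb : b₁ = b₂ := by
      have h := congrArg (ctr j φ) hb₀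
      rw [i5_ctr_sub, Cfsg.Agent.Lib.Helper22.TWLeaf.ctr_tens, Cfsg.Agent.Lib.Helper22.TWLeaf.ctr_tens,
        Cfsg.Agent.Lib.Helper22.TWLeaf.ctr_tens, dotProduct_add, hφy, hφz, add_zero, one_smul, one_smul,
        zero_smul] at h
      exact sub_eq_zero.mp h
    subst hbb
    have hd2 : tens j b₁ r₁.y - tens j b₁ (r₁.y + z) = - tens j b₁ z := by
      rw [i5_tens_add_right]; abel
    have htz : tens j b₁ z ∈ r₃.W := by
      have := r₃.W.neg_mem hdL.2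
      rwa [hd2, neg_neg] at this
    have hb₁ : b₁ ∈ fib ĵ (F ∙ r₃.y) := by
      rw [hW3] at htz
      have := Cfsg.Agent.Lib.Helper22.TWLeaf.ctr_mem_fib j ĵ _ ξ _ htz
      rwa [Cfsg.Agent.Lib.Helper22.TWLeaf.ctr_tens, hξ, one_smul] at this
    have ha₁3 : tens j b₁ r₁.y ∈ r₃.W := by
      rw [hW3]
      exact Cfsg.Agent.Lib.Helper22.TWLeaf.tens_mem_fib_succAbove j ĵ _ b₁ r₁.y hb₁
    have hw₁3 : w₁ ∈ r₃.W := by
      have := r₃.W.sub_mem hv ha₁3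
      rwa [← e₁, add_sub_cancel_left] at this
    rw [← e₁]
    exact Submodule.mem_sup.mpr ⟨_, ⟨ha₁3, ha₁⟩, w₁, ⟨hw₁3, hw₁⟩, rfl⟩
  -- the count
  have hf3 : Module.finrank F r₃.W = m ^ t' := by
    unfold RD.W Wf
    rw [Cfsg.Agent.Lib.Helper26.TWLeaf.finrank_fib, i5_finrank_span r₃.y r₃.hy, mul_one,
      Nat.add_sub_cancel]
  have hfa : Module.finrank F (r₃.W ⊓ Wf j r₁.y : Submodule F (Idx (t' + 1) m → F)) = m ^ (t' + 1 - 2) :=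
    i5_box_lines r₃.i j hne r₃.y r₁.y r₃.hy r₁.hy
  have hfb : Module.finrank F (r₃.W ⊓ img g r₂.W : Submodule F (Idx (t' + 1) m → F)) ≤ m ^ (t' + 1 - 2) := by
    have h1 : Module.finrank F (r₃.W ⊓ img g r₂.W : Submodule F (Idx (t' + 1) m → F)) ≤
        Module.finrank F (Wf j z ⊓ img g r₂.W : Submodule F (Idx (t' + 1) m → F)) :=
      M.hmax g M.hgX M.hgG r₂ r₃.i r₃.y r₃.hy
    have h2 : Module.finrank F (Wf j z ⊓ r₃.W : Submodule F (Idx (t' + 1) m → F)) = m ^ (t' + 1 - 2) :=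
      i5_box_lines j r₃.i (Ne.symm hne) z r₃.y M.hz r₃.hy
    rw [hL0, h2] at h1
    exact h1
  have hfin : m ^ t' ≤ m ^ (t' + 1 - 2) + m ^ (t' + 1 - 2) := by
    rw [← hf3]
    calc Module.finrank F r₃.W
        ≤ Module.finrank F ((r₃.W ⊓ Wf j r₁.y) ⊔ (r₃.W ⊓ img g r₂.W) : Submodule F (Idx (t' + 1) m → F)) :=
          Submodule.finrank_mono hcov
      _ ≤ _ := Submodule.finrank_add_le_finrank_add_finrank _ _
      _ ≤ _ := by rw [hfa]; exact Nat.add_le_add_left hfb _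
  obtain ⟨s, rfl⟩ : ∃ s, t' = s + 1 := ⟨t' - 1, by omega⟩
  have e : s + 1 + 1 - 2 = s := by omega
  rw [e, pow_succ] at hfin
  have hpos : 0 < m ^ s := Nat.pos_of_ne_zero (pow_ne_zero _ (by omega))
  nlinarith

end Cfsg.Agent.Lib.Helper2.TWLeaf
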