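import Mathlib
import Cfsg.Agent.Lib.Helper2.TWI5ac
import Cfsg.Agent.Lib.Helper1.TWI4F

/-!
S5641 (C7), Stage I market: the exact leaf `I5a` (from `I5a_core` + helper1's `same_type`).
-/

set_option autoImplicit false
set_option linter.unusedSectionVars false
set_option linter.unusedVariables false

namespace Cfsg.Agent.Lib.Helper2.TWLeaf
open Matrix Cfsg.Geo Cfsg.Agent.Lib.Helper18.AschA89 Cfsg.Agent.Lib.Helper8.TW

variable {F : Type*} [Field F] [Fintype F] {t m : ℕ}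

/-- I5a (L) -/
theorem I5a {X : Subgroup (GL (Idx t m) F)} (c : Ctx X) (g : GL (Idx t m) F) (r₂ : RD t m F) (j : Fin t)
    (z : Fin m → F) (M : MaxCfg X g r₂ j z) (r₁ r₃ : RD t m F) (x : GL (Idx t m) F)
    (h1 : r₁.i = j) (h2 : r₁.η ⬝ᵥ z = 0) (h3 : ¬ ∃ a : F, r₁.y = a • z) (k : Key g r₁ r₂ x r₃) :
    r₃.i ≠ j ∧ Wf j z ⊓ img g r₂.W = Wf j z ⊓ r₃.W ∧ img g r₂.W ⊓ r₁.C = Wf j z ⊓ img g r₂.W :=
  I5a_core c g r₂ j z M r₁ r₃ x h1 h2 h3 k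
    (fun hi => Cfsg.Agent.Lib.Helper1.TWLeaf.same_type c g M.hgX M.hgG r₁ r₂ r₃ x k hi)

end Cfsg.Agent.Lib.Helper2.TWLeaf
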