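import Mathlib
import Cfsg.Agent.Lib.Helper8.TW.Defs
import Cfsg.Agent.Lib.Helper20.AschA89WR
import Cfsg.Agent.Lib.Helper20.AschA89F2J
import Cfsg.Agent.Lib.Helper22.TWExtBasic
import Cfsg.Agent.Lib.Helper22.TWExtMore
import Cfsg.Agent.Lib.Helper23.TWG1
import Cfsg.Agent.Lib.Helper19.TWGrow
import Cfsg.Agent.Lib.Helper14.TWIIDefs
import Cfsg.Agent.Lib.Helper12.TWIIBZ
import Cfsg.Agent.Lib.Helper12.TWIIBS
import Cfsg.Agent.Lib.Helper22.TWQK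
import Cfsg.Agent.Lib.Helper2.TWIIBBcore

/-!
S5641 (C7 maximal in SL_n; owner helper8), part (II) STAGE II Case B (sub-planner helper14): leaf IIB-B0 `star_of_caseB` with the EXACT signature of `notes/S5641_IIB_leaves.lean`.  Taker: helper2.
On the cores of `Cfsg.Agent.Lib.Helper2.TWIIBBcore`, helper12's blocks Z and S (`Cfsg.Agent.Lib.Helper12.TWIIBZ`, `TWIIBS`) and
helper22's `K_lemma` (`Cfsg.Agent.Lib.Helper22.TWQK`).
-/

set_option autoImplicit false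
set_option linter.unusedSectionVars false
set_option linter.unusedVariables false

namespace Cfsg.Agent.Lib.Helper2.TWIIBLeaf
open Matrix Cfsg.Geo Cfsg.Agent.Lib.Helper18.AschA89 Cfsg.Agent.Lib.Helper20.AschLeaf Cfsg.Agent.Lib.Helper8.TW
  Cfsg.Agent.Lib.Helper14.TWII

variable {F : Type*} [Field F] {t m : ℕ}

/-- B0 (M) Case B makes `g' = s⁻¹ g` normalise `Q(i,y)` -/
theorem star_of_caseB (hm : 2 ≤ m) (X : Subgroup (GL (Idx (t + 1) m) F)) (hHX : Hstd (t + 1) m F ≤ X)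
    (g s : GL (Idx (t + 1) m) F) (hgX : g ∈ X) (hs : s ∈ Gstd (t + 1) m F) (i i' : Fin (t + 1)) (y y' : Fin m → F)
    (hy : y ≠ 0) (hy' : y' ≠ 0) (hg : img g (Wf i y) = Wf i' y') (hsW : img s (Wf i y) = Wf i' y')
    (hB : ∀ u ∈ X, InZ i' y' u → u ∈ Gstd (t + 1) m F) (η : Fin m → F) (hη : η ⬝ᵥ y = 0) :
    ∃ η'' : Fin m → F, η'' ⬝ᵥ y = 0 ∧
      ((s⁻¹ * g : GL (Idx (t + 1) m) F) : Matrix (Idx (t + 1) m) (Idx (t + 1) m) F) * rootN i y η =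
        rootN i y η'' * ((s⁻¹ * g : GL (Idx (t + 1) m) F) : Matrix (Idx (t + 1) m) (Idx (t + 1) m) F) :=
  star_of_caseB_core
    (fun h hh i y hy h1 h2 => Cfsg.Agent.Lib.Helper22.TWQLeaf.K_lemma hm h hh i y hy h1 h2)
    (fun i i' y y' h u hu hh => Cfsg.Agent.Lib.Helper12.TWIIBLeaf.InZ_conj i i' y y' h u hu hh)
    (fun i y η hη => Cfsg.Agent.Lib.Helper12.TWIIBLeaf.InZ_rootU i y η hη)
    (fun i y η hη => Cfsg.Agent.Lib.Helper12.TWIIBLeaf.rootU_mem_H i y η hη)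
    (fun g S S' h => Cfsg.Agent.Lib.Helper12.TWIIBLeaf.img_inv_eq g S S' h)
    X hHX g s hgX hs i i' y y' hy hy' hg hsW hB η hη

end Cfsg.Agent.Lib.Helper2.TWIIBLeaf
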