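import Mathlib
import Cfsg.Agent.Lib.Helper8.TW.Defs
import Cfsg.Agent.Lib.Helper20.AschA89WR
import Cfsg.Agent.Lib.Helper20.AschA89F2J
import Cfsg.Agent.Lib.Helper22.TWExtBasic
import Cfsg.Agent.Lib.Helper22.TWExtMore
import Cfsg.Agent.Lib.Helper23.TWG1
import Cfsg.Agent.Lib.Helper19.TWGrow
import Cfsg.Agent.Lib.Helper14.TWIIDefs
import Cfsg.Agent.Lib.Helper12.TWIIBZ
import Cfsg.Agent.Lib.Helper12.TWIIBS
import Cfsg.Agent.Lib.Helper22.TWQK
import Cfsg.Agent.Lib.Helper2.TWIIBBcore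

/-!
S5641 (C7 maximal in SL_n; owner helper8), part (II) STAGE II Case B (sub-planner helper14): leaf IIB-B2b `B2_hQ` with the EXACT signature of `notes/S5641_IIB_leaves.lean`.  Taker: helper2.
On the cores of `Cfsg.Agent.Lib.Helper2.TWIIBBcore`, helper12's blocks Z and S (`Cfsg.Agent.Lib.Helper12.TWIIBZ`, `TWIIBS`) and
helper22's `K_lemma` (`Cfsg.Agent.Lib.Helper22.TWQK`).
-/

set_option autoImplicit false
set_option linter.unusedSectionVars false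
set_option linter.unusedVariables false

namespace Cfsg.Agent.Lib.Helper2.TWIIBLeaf
open Matrix Cfsg.Geo Cfsg.Agent.Lib.Helper18.AschA89 Cfsg.Agent.Lib.Helper20.AschLeaf Cfsg.Agent.Lib.Helper8.TW
  Cfsg.Agent.Lib.Helper14.TWII

variable {F : Type*} [Field F] {t m : ℕ}

/-- B2b (M) the group-theoretic input of B2a -/
theorem B2_hQ (hm : 2 ≤ m) (X : Subgroup (GL (Idx (t + 1) m) F)) (hHX : Hstd (t + 1) m F ≤ X)
    (s z g : GL (Idx (t + 1) m) F) (i i' : Fin (t + 1)) (o : Fin m) (y' : Fin m → F) (hy' : y' ≠ 0)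
    (α : GL (Fin m) F) (γ : GL (Idx t m) F)
    (hα : (α : Matrix (Fin m) (Fin m) F) *ᵥ (eo o : Fin m → F) = eo o)
    (hz : InZ i (eo o : Fin m → F) z) (hg : g = s * (slotGL i α * extGL i γ) * z) (hgX : g ∈ X)
    (hs : s ∈ Gstd (t + 1) m F) (hsW : img s (Wf i (eo o : Fin m → F)) = Wf i' y')
    (hB : ∀ u ∈ X, InZ i' y' u → u ∈ Gstd (t + 1) m F)
    (α' : GL (Fin m) F) (hdet : (α' : Matrix (Fin m) (Fin m) F).det = 1)
    (hα' : (α' : Matrix (Fin m) (Fin m) F) *ᵥ (eo o : Fin m → F) = eo o) :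
    ∃ η : Fin m → F, η o = 0 ∧
      (((slotGL i α')⁻¹ * z * slotGL i α' * z⁻¹ : GL (Idx (t + 1) m) F) : Matrix (Idx (t + 1) m) (Idx (t + 1) m) F) =
        1 + rootN i (eo o) η :=
  B2_hQ_core
    (fun h hh i y hy h1 h2 => Cfsg.Agent.Lib.Helper22.TWQLeaf.K_lemma hm h hh i y hy h1 h2)
    (fun i i' y y' h u hu hh => Cfsg.Agent.Lib.Helper12.TWIIBLeaf.InZ_conj i i' y y' h u hu hh)
    (fun i y u u' hu hu' => Cfsg.Agent.Lib.Helper12.TWIIBLeaf.InZ_mul i y u u' hu hu')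
    (fun i y u hu => Cfsg.Agent.Lib.Helper12.TWIIBLeaf.InZ_inv i y u hu)
    (fun g S S' h => Cfsg.Agent.Lib.Helper12.TWIIBLeaf.img_inv_eq g S S' h)
    (fun g h S => Cfsg.Agent.Lib.Helper12.TWIIBLeaf.img_mul' g h S)
    (fun i α hdet => Cfsg.Agent.Lib.Helper12.TWIIBLeaf.slotGL_mem_H i α hdet)
    (fun i α y => Cfsg.Agent.Lib.Helper12.TWIIBLeaf.img_slot_Wf i α y)
    (fun i γ y => Cfsg.Agent.Lib.Helper12.TWIIBLeaf.img_ext_Wf i γ y)
    (fun s h hs hh => Cfsg.Agent.Lib.Helper12.TWIIBLeaf.H_conj_mem s h hs hh)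
    X hHX s z g i i' o y' hy' α γ hα hz hg hgX hs hsW hB α' hdet hα'

end Cfsg.Agent.Lib.Helper2.TWIIBLeaf
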