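import Mathlib
import Cfsg.Agent.Lib.Helper5.TWS.Defs
import Cfsg.Agent.Lib.Helper8.TW.Defs
import Cfsg.Agent.Lib.Helper22.TWQK
import Cfsg.Agent.Lib.Helper12.TWIIBZ
import Cfsg.Agent.Lib.Helper9.TWST
import Cfsg.Agent.Lib.Helper14.TWIIDefs
import Cfsg.Agent.Lib.Helper14.TWSIIDefs

/-!
# S5668 (C7 symplectic) — STAGE II-B, leaf K1 `star_k2` (exact signature of `notes/S5668_II_leaves.lean`)

`(★)` for `k = 2`: an element `g ∈ X` stabilising the fibre `W(i,y)` normalises the root nilpotents `rootN i y ξ`, `ξ ⬝ᵥ y = 0`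
(for `k = 2` these are the multiples of `N_y = rootN i y (sfv y)`), as soon as `X ∩ Z_W ≤ G`.
-/

set_option autoImplicit false
set_option linter.unusedSectionVars false
set_option linter.unusedVariables false

namespace Cfsg.Agent.Lib.Helper2.TWSIILeaf
open Matrix Cfsg.Geo Cfsg.Agent.Lib.Helper18.AschA89 Cfsg.Agent.Lib.Helper8.TW Cfsg.Agent.Lib.Helper5.TWS
  Cfsg.Agent.Lib.Helper14.TWII Cfsg.Agent.Lib.Helper14.TWSII
open Cfsg.Agent.Lib.Helper25.SpT (sf Jm sfv)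

variable {F : Type*} [Field F] [Fintype F] {t k : ℕ}

/-- in dimension two the annihilator of `y ≠ 0` is a line -/
theorem ann_two (y η ξ : Fin 2 → F) (hy0 : y ≠ 0) (hη0 : η ≠ 0) (hη : η ⬝ᵥ y = 0) (hξ : ξ ⬝ᵥ y = 0) :
    ∃ c : F, ξ = c • η := by
  rw [dotProduct, Fin.sum_univ_two] at hη hξ
  -- the determinant vanishes
  have hdet : ξ 0 * η 1 - ξ 1 * η 0 = 0 := by
    by_contra hd
    apply hy0
    have h0 : (ξ 0 * η 1 - ξ 1 * η 0) * y 0 = 0 := by linear_combination η 1 * hξ - ξ 1 * hη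
    have h1 : (ξ 0 * η 1 - ξ 1 * η 0) * y 1 = 0 := by linear_combination ξ 0 * hη - η 0 * hξ
    funext a
    fin_cases a
    · exact (mul_eq_zero.1 h0).resolve_left hd
    · exact (mul_eq_zero.1 h1).resolve_left hd
  by_cases h1 : η 1 = 0
  · have h0 : η 0 ≠ 0 := by
      intro h0
      apply hη0
      funext a
      fin_cases a
      · exact h0
      · exact h1
    refine ⟨ξ 0 / η 0, ?_⟩
    have hξ1 : ξ 1 = 0 := by
      rw [h1, mul_zero, zero_sub, neg_eq_zero] at hdet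
      exact (mul_eq_zero.1 hdet).resolve_right h0
    funext a
    fin_cases a
    · simp only [Fin.zero_eta, Pi.smul_apply, smul_eq_mul]
      field_simp
    · simp only [Fin.mk_one, Pi.smul_apply, smul_eq_mul]
      rw [hξ1, h1, mul_zero]
  · refine ⟨ξ 1 / η 1, ?_⟩
    funext a
    fin_cases a
    · simp only [Fin.zero_eta, Pi.smul_apply, smul_eq_mul]
      field_simp
      linear_combination hdet
    · simp only [Fin.mk_one, Pi.smul_apply, smul_eq_mul]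
      field_simp

/-- `rootN` is linear in the functional -/
lemma rootN_smul_right (i : Fin t) (y η : Fin k → F) (c : F) : rootN i y (c • η) = c • rootN i y η := by
  unfold rootN
  rw [Matrix.vecMulVec_smul, Cfsg.Agent.Lib.Helper8.TW.slot_smul]

/-- K1 (M) **(★) for `k = 2`** -/
theorem star_k2 (hk : k = 2) (X : Subgroup (GL (Idx (t + 1) k) F)) (hHX : HS (t + 1) k F ≤ X) (i : Fin (t + 1))
    (y : Fin k → F) (hy0 : y ≠ 0) (hB : ∀ u ∈ X, InZ i y u → u ∈ Gstd (t + 1) k F)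
    (g : GL (Idx (t + 1) k) F) (hgX : g ∈ X) (hstab : img g (Wf i y) = Wf i y)
    (ξ : Fin k → F) (hξ : ξ ⬝ᵥ y = 0) :
    ∃ ξ'' : Fin k → F, ξ'' ⬝ᵥ y = 0 ∧
      (g : Matrix (Idx (t + 1) k) (Idx (t + 1) k) F) * rootN i y ξ =
        rootN i y ξ'' * (g : Matrix (Idx (t + 1) k) (Idx (t + 1) k) F) := by
  subst hk
  have hk' : Even 2 := ⟨1, rfl⟩
  have hη0 : sfv y ≠ 0 := sfv_ne_zero hk' hy0
  have hηy : sfv y ⬝ᵥ y = 0 := by
    rw [Cfsg.Agent.Lib.Helper25.SpT.sfv_dot]; exact Cfsg.Agent.Lib.Helper25.SpT.sf_self y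
  obtain ⟨c, hc⟩ := ann_two y (sfv y) ξ hy0 hη0 hηy hξ
  -- the root element `1 + c N_y`
  have hr : RS (srd hk' i y hy0) := srd_RS hk' i y hy0
  have huH : (srd hk' i y hy0).elt c ∈ HS (t + 1) 2 F := Cfsg.Agent.Lib.Helper9.TWST.elt_mem_HS hk' hr c
  have hue : (srd hk' i y hy0).elt c = rootU i y ξ hξ := by
    apply Units.ext
    rw [RD.elt_val, rootU_val, hc, rootN_smul_right]
    rfl
  have huZ : InZ i y ((srd hk' i y hy0).elt c) := by
    rw [hue]
    exact Cfsg.Agent.Lib.Helper12.TWIIBLeaf.InZ_rootU i y ξ hξ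
  have huX : (srd hk' i y hy0).elt c ∈ X := hHX huH
  have hcX : g * (srd hk' i y hy0).elt c * g⁻¹ ∈ X := X.mul_mem (X.mul_mem hgX huX) (X.inv_mem hgX)
  have hcZ : InZ i y (g * (srd hk' i y hy0).elt c * g⁻¹) :=
    Cfsg.Agent.Lib.Helper12.TWIIBLeaf.InZ_conj i i y y g _ huZ hstab
  have hcG := hB _ hcX hcZ
  obtain ⟨ξ'', hξ'', hval⟩ := Cfsg.Agent.Lib.Helper22.TWQLeaf.K_lemma (le_refl 2) _ hcG i y hy0 hcZ.2 hcZ.1
  refine ⟨ξ'', hξ'', ?_⟩
  obtain ⟨w, hw⟩ : ∃ w : GL (Idx (t + 1) 2) F, w = g * (srd hk' i y hy0).elt c * g⁻¹ := ⟨_, rfl⟩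
  rw [← hw] at hval
  have e : w * g = g * rootU i y ξ hξ := by
    rw [hw, hue]; group
  have e' := congrArg (fun u : GL (Idx (t + 1) 2) F => (u : Matrix (Idx (t + 1) 2) (Idx (t + 1) 2) F)) e
  simp only [Units.val_mul] at e'
  rw [hval, rootU_val, add_mul, one_mul, mul_add, mul_one] at e'
  exact (add_left_cancel e').symm

end Cfsg.Agent.Lib.Helper2.TWSIILeaf
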