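import Mathlib
import Cfsg.Agent.Lib.Helper20.QuadCW

/-!
helper2: groups of automorphisms preserving an anisotropic quadratic map `W → T` between
elementary abelian 2-groups with `|T| ≤ 4` (part A: counting lemmas, the hypothesis package,
`|W| ≤ 16`, fixed points of elements of prime order).
-/

set_option autoImplicit false

namespace Cfsg.Agent.Lib.Helper2.ThreeInv

/-- fixed-point counting for a permutation of prime order on an invariant subset -/
theorem card_modEq_fixed {W : Type*} [Finite W] {p : ℕ} [hp : Fact p.Prime]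
    (b : Equiv.Perm W) (hb : b ^ p = 1) (P : W → Prop) (hP : ∀ w, P w ↔ P (b w)) :
    Nat.card {w : W // P w} ≡ Nat.card {w : W // P w ∧ b w = w} [MOD p] := by
  classical
  have := Fintype.ofFinite W
  set σ : Equiv.Perm {w : W // P w} := b.subtypePerm (fun w => (hP w).symm) with hσ
  have hσp : σ ^ p ^ 1 = 1 := by
    rw [pow_one, hσ, Equiv.Perm.subtypePerm_pow]
    ext ⟨w, hw⟩
    simp [hb]
  have h1 := Equiv.Perm.card_compl_support_modEq hσp
  have h2 : σ.supportᶜ.card = Nat.card {w : W // P w ∧ b w = w} := by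
    rw [Nat.card_eq_fintype_card]
    rw [← Fintype.card_coe]
    apply Fintype.card_congr
    refine ⟨fun x => ⟨x.1.1, x.1.2, ?_⟩, fun y => ⟨⟨y.1, y.2.1⟩, ?_⟩, ?_, ?_⟩
    · have := x.2
      rw [Finset.mem_compl, Equiv.Perm.mem_support, not_not] at this
      have h3 := congrArg Subtype.val this
      simpa [hσ] using h3
    · rw [Finset.mem_compl, Equiv.Perm.mem_support, not_not]
      apply Subtype.ext
      simpa [hσ] using y.2.2
    · intro x; rfl
    · intro y; rfl
  rw [Nat.card_eq_fintype_card]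
  rw [← h2]
  exact h1.symm

/-- no fixed points in an invariant subset: its size is divisible by `p`. -/
theorem dvd_card_of_no_fixed {W : Type*} [Finite W] {p : ℕ} [hp : Fact p.Prime]
    (b : Equiv.Perm W) (hb : b ^ p = 1) (P : W → Prop) (hP : ∀ w, P w ↔ P (b w))
    (hfix : ∀ w, P w → b w ≠ w) : p ∣ Nat.card {w : W // P w} := by
  have h1 := card_modEq_fixed b hb P hP
  have h2 : Nat.card {w : W // P w ∧ b w = w} = 0 := by
    have : IsEmpty {w : W // P w ∧ b w = w} := ⟨fun x => hfix x.1 x.2.1 x.2.2⟩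
    exact Nat.card_of_isEmpty
  rw [h2] at h1
  exact (Nat.modEq_zero_iff_dvd).mp h1

/-- a number all of whose prime divisors are `2` or `r` is `2 ^ a * r ^ b`. -/
theorem eq_two_pow_mul_pow {n r : ℕ} (hn : n ≠ 0)
    (h : ∀ p : ℕ, p.Prime → p ∣ n → p = 2 ∨ p = r) : ∃ a b : ℕ, n = 2 ^ a * r ^ b := by
  obtain ⟨a, m, hm, rfl⟩ := Nat.exists_eq_two_pow_mul_odd hn
  have hm0 : m ≠ 0 := by
    rintro rfl
    simp at hn
  refine ⟨a, m.primeFactorsList.length, ?_⟩
  congr 1
  apply Nat.eq_prime_pow_of_unique_prime_dvd hm0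
  intro d hd hdm
  rcases h d hd (Dvd.dvd.mul_left hdm _) with h2 | h2
  · exfalso
    rw [h2] at hdm
    exact (Nat.not_even_iff_odd.mpr hm) (even_iff_two_dvd.mpr hdm)
  · exact h2

section Key

variable {W T : Type*} [Group W] [Group T]

/-- the polar map of `q`. -/
def pol (q : W → T) (a b : W) : T := q (a * b) * q a * q b

/-- hypothesis package: `q : W → T` an anisotropic quadratic map between groups of exponent two,
with `|T| ≤ 4`. -/
structure Hyp (q : W → T) : Prop where
  hW : ∀ w : W, w * w = 1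
  hT : ∀ t : T, t * t = 1
  hTc : Nat.card T ≤ 4
  hpol : ∀ a a' b : W, pol q (a * a') b = pol q a b * pol q a' b
  aniso : ∀ w : W, q w = 1 → w = 1

namespace Hyp

variable {q : W → T} (H : Hyp q)
include H

theorem commW (a b : W) : a * b = b * a := Cfsg.Agent.Lib.Helper20.QuadCW.comm_of_sq H.hW a b

theorem commT (a b : T) : a * b = b * a := Cfsg.Agent.Lib.Helper20.QuadCW.comm_of_sq H.hT a b

theorem pol_symm (a b : W) : pol q a b = pol q b a := by
  unfold pol
  rw [H.commW a b, mul_assoc, H.commT (q a) (q b), ← mul_assoc]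

theorem pol_mul_right (a b b' : W) : pol q a (b * b') = pol q a b * pol q a b' := by
  rw [H.pol_symm, H.hpol, H.pol_symm b a, H.pol_symm b' a]

theorem pol_one_left (b : W) : pol q 1 b = 1 := by
  have h := H.hpol 1 1 b
  rw [mul_one] at h
  exact (mul_eq_left.mp h.symm)

theorem q_one : q 1 = 1 := by
  have h := H.pol_one_left 1
  unfold pol at h
  rw [mul_one, H.hT, one_mul] at h
  exact h

theorem q_mul (a b : W) : q (a * b) = q a * q b * pol q a b := by
  unfold pol
  rw [mul_assoc (q (a * b)), H.commT (q (a * b)) (q a * q b), ← mul_assoc, H.hT, one_mul]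

theorem pol_self (a : W) : pol q a a = 1 := by
  unfold pol
  rw [H.hW, H.q_one, one_mul, H.hT]

theorem inv_eq (a : W) : a⁻¹ = a := inv_eq_of_mul_eq_one_right (H.hW a)

theorem q_ne_one {w : W} (hw : w ≠ 1) : q w ≠ 1 := fun h => hw (H.aniso w h)

/-- if the polar form vanishes, `q` is multiplicative on the pair. -/
theorem q_mul_of_pol {a b : W} (h : pol q a b = 1) : q (a * b) = q a * q b := by
  rw [H.q_mul, h, mul_one]

omit H in
theorem isPGroup (H : Hyp q) : IsPGroup 2 W := by
  intro w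
  exact ⟨1, by rw [pow_one, pow_two]; exact H.hW w⟩

variable [Finite W] [Finite T]

theorem card_le : Nat.card W ≤ 16 := by
  have h1 := Cfsg.Agent.Lib.Helper20.QuadCW.card_le_of_quadratic H.hW H.hT q (pol q) H.q_mul
    H.hpol H.pol_mul_right (fun a b ha hb => by rw [H.aniso a ha, H.aniso b hb, mul_one, H.q_one])
  have h2 : Nat.card {a : W // q a = 1} = 1 := by
    rw [Nat.card_eq_one_iff_unique]
    exact ⟨⟨fun a b => Subtype.ext ((H.aniso a.1 a.2).trans (H.aniso b.1 b.2).symm)⟩,
      ⟨⟨1, H.q_one⟩⟩⟩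
  rw [h2, one_mul] at h1
  have h3 : Nat.card T ^ 2 ≤ 4 ^ 2 := Nat.pow_le_pow_left H.hTc 2
  omega

theorem exists_card : ∃ n : ℕ, n ≤ 4 ∧ Nat.card W = 2 ^ n := by
  obtain ⟨n, hn⟩ := (IsPGroup.iff_card.mp H.isPGroup)
  refine ⟨n, ?_, hn⟩
  have h := H.card_le
  rw [hn] at h
  by_contra hlt
  push Not at hlt
  have : 2 ^ 5 ≤ 2 ^ n := Nat.pow_le_pow_right (by norm_num) hlt
  omega

end Hyp

end Key

end Cfsg.Agent.Lib.Helper2.ThreeInv
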