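import Mathlib
import Cfsg.Agent.Lib.Helper2.ThreeInvA

/-!
helper2: part B: fixed points of automorphisms of prime order preserving an anisotropic
quadratic map; elements of order 7 do not exist.
-/

set_option autoImplicit false

namespace Cfsg.Agent.Lib.Helper2.ThreeInv

section Card

theorem natCard_subtype_eq_filter {α : Type*} [Fintype α] (P : α → Prop) [DecidablePred P] :
    Nat.card {a : α // P a} = (Finset.univ.filter P).card := by
  rw [Nat.card_eq_fintype_card, Fintype.card_subtype]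

variable {α : Type*} [Finite α]

theorem card_add_le (P1 P2 Q : α → Prop) (h1 : ∀ a, P1 a → Q a) (h2 : ∀ a, P2 a → Q a)
    (hd : ∀ a, P1 a → P2 a → False) :
    Nat.card {a : α // P1 a} + Nat.card {a : α // P2 a} ≤ Nat.card {a : α // Q a} := by
  classical
  have := Fintype.ofFinite α
  rw [natCard_subtype_eq_filter, natCard_subtype_eq_filter, natCard_subtype_eq_filter,
    ← Finset.card_union_of_disjoint]
  · apply Finset.card_le_card
    intro a ha
    rw [Finset.mem_union, Finset.mem_filter, Finset.mem_filter] at ha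
    rw [Finset.mem_filter]
    rcases ha with ha | ha
    · exact ⟨Finset.mem_univ _, h1 a ha.2⟩
    · exact ⟨Finset.mem_univ _, h2 a ha.2⟩
  · rw [Finset.disjoint_left]
    intro a ha hb
    rw [Finset.mem_filter] at ha hb
    exact hd a ha.2 hb.2

theorem card_add_add_le (P1 P2 P3 Q : α → Prop) (h1 : ∀ a, P1 a → Q a) (h2 : ∀ a, P2 a → Q a)
    (h3 : ∀ a, P3 a → Q a) (h12 : ∀ a, P1 a → P2 a → False) (h13 : ∀ a, P1 a → P3 a → False)
    (h23 : ∀ a, P2 a → P3 a → False) :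
    Nat.card {a : α // P1 a} + Nat.card {a : α // P2 a} + Nat.card {a : α // P3 a} ≤
      Nat.card {a : α // Q a} := by
  have e1 := card_add_le P1 P2 (fun a => P1 a ∨ P2 a) (fun a h => Or.inl h) (fun a h => Or.inr h)
    h12
  have e2 := card_add_le (fun a => P1 a ∨ P2 a) P3 Q
    (fun a h => h.elim (h1 a) (h2 a)) h3 (fun a h h' => h.elim (fun h => h13 a h h')
      (fun h => h23 a h h'))
  have e3 : Nat.card {a : α // P1 a ∨ P2 a} ≤ Nat.card {a : α // P1 a} + Nat.card {a : α // P2 a} := by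
    classical
    have := Fintype.ofFinite α
    rw [natCard_subtype_eq_filter, natCard_subtype_eq_filter, natCard_subtype_eq_filter,
      Finset.filter_or]
    exact Finset.card_union_le _ _
  omega

theorem card_ne_one_succ {G : Type*} [Group G] [Finite G] (U : Subgroup G) :
    Nat.card {w : G // w ∈ U ∧ w ≠ 1} + 1 = Nat.card U := by
  classical
  have := Fintype.ofFinite G
  have e : Nat.card U = Nat.card {w : G // w ∈ U} := rfl
  rw [e, natCard_subtype_eq_filter, natCard_subtype_eq_filter]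
  have h1 : (Finset.univ.filter (fun w : G => w ∈ U)) =
      insert 1 (Finset.univ.filter (fun w : G => w ∈ U ∧ w ≠ 1)) := by
    ext w
    rw [Finset.mem_insert, Finset.mem_filter, Finset.mem_filter]
    constructor
    · intro h
      by_cases hw : w = 1
      · exact Or.inl hw
      · exact Or.inr ⟨Finset.mem_univ _, h.2, hw⟩
    · rintro (h | h)
      · rw [h]; exact ⟨Finset.mem_univ _, U.one_mem⟩
      · exact ⟨Finset.mem_univ _, h.2.1⟩
  rw [h1, Finset.card_insert_of_notMem]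
  rw [Finset.mem_filter]
  intro h
  exact h.2.2 rfl

theorem natCard_subgroup_eq_filter {G : Type*} [Group G] [Fintype G] (U : Subgroup G)
    [DecidablePred (fun w : G => w ∈ U)] :
    Nat.card U = (Finset.univ.filter (fun w : G => w ∈ U)).card := by
  rw [← natCard_subtype_eq_filter]

theorem exists_mem_notMem {G : Type*} [Group G] [Finite G] (U : Subgroup G) (S : Finset G)
    (h : S.card < Nat.card U) : ∃ x ∈ U, x ∉ S := by
  classical
  have := Fintype.ofFinite G
  by_contra hcon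
  push Not at hcon
  have hU := natCard_subgroup_eq_filter U
  have : (Finset.univ.filter (fun w : G => w ∈ U)).card ≤ S.card := by
    apply Finset.card_le_card
    intro w hw
    rw [Finset.mem_filter] at hw
    exact hcon w hw.2
  omega

end Card

section Fix

variable {W T : Type*} [Group W] [Group T]

/-- fixed points of an automorphism -/
def fixSub (b : MulAut W) : Subgroup W where
  carrier := {w | b w = w}
  one_mem' := map_one b
  mul_mem' := fun {x y} hx hy => by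
    show b (x * y) = x * y
    rw [map_mul, hx, hy]
  inv_mem' := fun {x} hx => by
    show b x⁻¹ = x⁻¹
    rw [map_inv, hx]

theorem mem_fixSub {b : MulAut W} {w : W} : w ∈ fixSub b ↔ b w = w := Iff.rfl

theorem fixSub_ne_top {b : MulAut W} (hb : b ≠ 1) : fixSub b ≠ ⊤ := by
  intro h
  apply hb
  ext w
  have : w ∈ fixSub b := by rw [h]; trivial
  exact this

theorem card_modEq_fixed' [Finite W] {p : ℕ} [Fact p.Prime] (b : MulAut W) (hb : b ^ p = 1)
    (P : W → Prop) (hP : ∀ w, P w ↔ P (b w)) :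
    Nat.card {w : W // P w} ≡ Nat.card {w : W // P w ∧ b w = w} [MOD p] :=
  card_modEq_fixed (MulAut.toPerm W b) (by rw [← map_pow, hb, map_one]) P hP

theorem dvd_card_of_no_fixed' [Finite W] {p : ℕ} [Fact p.Prime] (b : MulAut W) (hb : b ^ p = 1)
    (P : W → Prop) (hP : ∀ w, P w ↔ P (b w)) (hfix : ∀ w, P w → b w ≠ w) :
    p ∣ Nat.card {w : W // P w} :=
  dvd_card_of_no_fixed (MulAut.toPerm W b) (by rw [← map_pow, hb, map_one]) P hP hfix

theorem card_modEq_fixSub [Finite W] {p : ℕ} [Fact p.Prime] (b : MulAut W) (hb : b ^ p = 1) :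
    Nat.card W ≡ Nat.card (fixSub b) [MOD p] := by
  have h := card_modEq_fixed' b hb (fun _ => True) (fun _ => Iff.rfl)
  have e1 : Nat.card {w : W // True} = Nat.card W :=
    Nat.card_congr (Equiv.subtypeUnivEquiv (fun _ => trivial))
  have e2 : Nat.card {w : W // True ∧ b w = w} = Nat.card (fixSub b) :=
    Nat.card_congr (Equiv.subtypeEquivRight (fun w => by rw [mem_fixSub, true_and]))
  rw [e1, e2] at h
  exact h

theorem prime_cases_aux : ∀ n : Fin 5, ∀ m : Fin 5, ∀ p : Fin 16, m.1 < n.1 → Nat.Prime p.1 → p.1 ≠ 2 →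
    p.1 ∣ 2 ^ n.1 - 2 ^ m.1 →
    (p.1 = 3 ∧ ((n.1 = 4 ∧ m.1 = 2) ∨ (n.1 = 4 ∧ m.1 = 0) ∨ (n.1 = 3 ∧ m.1 = 1) ∨
      (n.1 = 2 ∧ m.1 = 0))) ∨
      (p.1 = 5 ∧ n.1 = 4 ∧ m.1 = 0) ∨ (p.1 = 7 ∧ ((n.1 = 4 ∧ m.1 = 1) ∨ (n.1 = 3 ∧ m.1 = 0))) := by
  decide

theorem prime_cases {p n m : ℕ} (hp : p.Prime) (hn : n ≤ 4) (hm : m < n)
    (h : 2 ^ n ≡ 2 ^ m [MOD p]) (hp2 : p ≠ 2) :
    (p = 3 ∧ ((n = 4 ∧ m = 2) ∨ (n = 4 ∧ m = 0) ∨ (n = 3 ∧ m = 1) ∨ (n = 2 ∧ m = 0))) ∨
      (p = 5 ∧ n = 4 ∧ m = 0) ∨ (p = 7 ∧ ((n = 4 ∧ m = 1) ∨ (n = 3 ∧ m = 0))) := by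
  have hle : 2 ^ m ≤ 2 ^ n := Nat.pow_le_pow_right (by norm_num) hm.le
  have hlt : 2 ^ m < 2 ^ n := Nat.pow_lt_pow_right (by norm_num) hm
  have hd : p ∣ 2 ^ n - 2 ^ m := (Nat.modEq_iff_dvd' hle).mp h.symm
  have h16 : 2 ^ n ≤ 2 ^ 4 := Nat.pow_le_pow_right (by norm_num) hn
  have hpos : 0 < 2 ^ m := Nat.pos_of_ne_zero (by positivity)
  have hp16 : p < 16 := by
    have := Nat.le_of_dvd (by omega) hd
    omega
  exact prime_cases_aux ⟨n, by omega⟩ ⟨m, by omega⟩ ⟨p, hp16⟩ hm hp hp2 hd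

end Fix

section Key

variable {W T : Type*} [Group W] [Group T] [Finite W] [Finite T] {q : W → T}

/-- sizes of `W` and of the fixed-point subgroup for an automorphism of odd prime order. -/
theorem fix_cases (H : Hyp q) (b : MulAut W) {p : ℕ} (hp : p.Prime) (hb : b ^ p = 1) (hb1 : b ≠ 1)
    (hp2 : p ≠ 2) :
    (p = 3 ∧ ((Nat.card W = 16 ∧ Nat.card (fixSub b) = 4) ∨
        (Nat.card W = 16 ∧ Nat.card (fixSub b) = 1) ∨
        (Nat.card W = 8 ∧ Nat.card (fixSub b) = 2) ∨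
        (Nat.card W = 4 ∧ Nat.card (fixSub b) = 1))) ∨
      (p = 5 ∧ Nat.card W = 16 ∧ Nat.card (fixSub b) = 1) ∨
      (p = 7 ∧ ((Nat.card W = 16 ∧ Nat.card (fixSub b) = 2) ∨
        (Nat.card W = 8 ∧ Nat.card (fixSub b) = 1))) := by
  have : Fact p.Prime := ⟨hp⟩
  obtain ⟨n, hn4, hN⟩ := H.exists_card
  have hdvd : Nat.card (fixSub b) ∣ Nat.card W := Subgroup.card_subgroup_dvd_card _
  rw [hN] at hdvd
  obtain ⟨m, hmn, hf⟩ := (Nat.dvd_prime_pow Nat.prime_two).mp hdvd
  have hne : m ≠ n := by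
    intro h
    apply fixSub_ne_top hb1
    apply (Subgroup.card_eq_iff_eq_top _).mp
    rw [hf, hN, h]
  have hlt : m < n := lt_of_le_of_ne hmn hne
  have hmod := card_modEq_fixSub b hb
  rw [hN, hf] at hmod
  rw [hN, hf]
  rcases prime_cases hp hn4 hlt hmod hp2 with ⟨h3, h⟩ | ⟨h5, h⟩ | ⟨h7, h⟩
  · left
    refine ⟨h3, ?_⟩
    rcases h with ⟨rfl, rfl⟩ | ⟨rfl, rfl⟩ | ⟨rfl, rfl⟩ | ⟨rfl, rfl⟩ <;> norm_num
  · right; left
    obtain ⟨rfl, rfl⟩ := h
    exact ⟨h5, by norm_num, by norm_num⟩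
  · right; right
    refine ⟨h7, ?_⟩
    rcases h with ⟨rfl, rfl⟩ | ⟨rfl, rfl⟩ <;> norm_num

/-- the endomorphism `w ↦ w * b w`. -/
def commHom (H : Hyp q) (b : MulAut W) : W →* W :=
  MonoidHom.mk' (fun w => w * b w) (by
    intro x y
    rw [map_mul, mul_assoc, ← mul_assoc y, H.commW y (b x), mul_assoc, ← mul_assoc])

omit [Finite W] [Finite T] in
theorem commHom_apply (H : Hyp q) (b : MulAut W) (w : W) : commHom H b w = w * b w := rfl

omit [Finite W] [Finite T] in
theorem commHom_ker (H : Hyp q) (b : MulAut W) : (commHom H b).ker = fixSub b := by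
  ext w
  rw [MonoidHom.mem_ker, commHom_apply, mem_fixSub]
  constructor
  · intro h
    have h1 : b w = w⁻¹ := (inv_eq_of_mul_eq_one_right h).symm
    rw [h1, H.inv_eq]
  · intro h
    rw [h, H.hW]

/-- no automorphism of order seven preserves `q`. -/
theorem no_seven (H : Hyp q) (b : MulAut W) (hbq : ∀ w, q (b w) = q w) (hb : b ^ 7 = 1)
    (hb1 : b ≠ 1) : False := by
  have : Fact (Nat.Prime 7) := ⟨by norm_num⟩
  have hcases := fix_cases H b (by norm_num : Nat.Prime 7) hb hb1 (by norm_num)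
  have hNf : Nat.card W = 8 * Nat.card (fixSub b) := by
    rcases hcases with ⟨h, -⟩ | ⟨h, -⟩ | ⟨-, h⟩
    · omega
    · omega
    · rcases h with ⟨h1, h2⟩ | ⟨h1, h2⟩ <;> omega
  have hfpos : 0 < Nat.card (fixSub b) := Nat.card_pos
  set φ := commHom H b with hφ
  set U : Subgroup W := φ.range with hU
  have hUcard : Nat.card U = 8 := by
    have h1 := Subgroup.card_mul_index φ.ker
    rw [Subgroup.index_ker, commHom_ker] at h1
    rw [hNf, mul_comm] at h1
    exact Nat.eq_of_mul_eq_mul_right hfpos h1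
  have hbφ : ∀ (c : MulAut W) (x : W), c (φ x) = c x * c (b x) := by
    intro c x
    rw [hφ, commHom_apply, map_mul]
  -- invariance of U
  have hUinv : ∀ w, w ∈ U ↔ b w ∈ U := by
    intro w
    constructor
    · rintro ⟨x, rfl⟩
      exact ⟨b x, by rw [hφ, commHom_apply, commHom_apply, map_mul]⟩
    · rintro ⟨x, hx⟩
      refine ⟨b⁻¹ x, ?_⟩
      apply b.injective
      rw [← hx, hφ, commHom_apply, commHom_apply, map_mul, MulAut.apply_inv_self]
  -- no fixed points on U \ 1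
  have hb8 : ∀ x : W, b (b x) = x → b x = x := by
    intro x hx
    have h2 : ∀ k : ℕ, (b ^ (2 * k)) x = x := by
      intro k
      induction k with
      | zero => simp
      | succ k ih =>
        rw [Nat.mul_succ, pow_add, MulAut.mul_apply, pow_two, MulAut.mul_apply, hx, ih]
    have h8 : b ^ (2 * 4) = b := by
      have : b ^ (2 * 4) = b ^ 7 * b := by rw [← pow_succ]
      rw [this, hb, one_mul]
    have := h2 4
    rw [h8] at this
    exact this
  have hnofix : ∀ w, w ∈ U → w ≠ 1 → b w ≠ w := by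
    rintro w ⟨x, rfl⟩ hw1 hfix
    apply hw1
    rw [hφ, commHom_apply] at hfix ⊢
    rw [map_mul, H.commW x (b x)] at hfix
    have h3 : b (b x) = x := mul_left_cancel hfix
    rw [hb8 x h3, H.hW]
  -- q is constant on U \ 1
  have hconst : ∀ u v, u ∈ U → u ≠ 1 → v ∈ U → v ≠ 1 → q u = q v := by
    intro u v hu hu1 hv hv1
    by_contra hne
    have hP : ∀ c : T, ∀ w, (w ∈ U ∧ w ≠ 1 ∧ q w = c) ↔ (b w ∈ U ∧ b w ≠ 1 ∧ q (b w) = c) := by
      intro c w
      rw [← hUinv w, hbq w]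
      constructor
      · rintro ⟨h1, h2, h3⟩
        refine ⟨h1, fun h => h2 ?_, h3⟩
        apply b.injective
        rw [h, map_one]
      · rintro ⟨h1, h2, h3⟩
        refine ⟨h1, fun h => h2 ?_, h3⟩
        rw [h, map_one]
    have hd1 := dvd_card_of_no_fixed' b hb (fun w => w ∈ U ∧ w ≠ 1 ∧ q w = q u) (hP (q u))
      (fun w hw => hnofix w hw.1 hw.2.1)
    have hd2 := dvd_card_of_no_fixed' b hb (fun w => w ∈ U ∧ w ≠ 1 ∧ q w = q v) (hP (q v))
      (fun w hw => hnofix w hw.1 hw.2.1)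
    have hpos1 : 0 < Nat.card {w : W // w ∈ U ∧ w ≠ 1 ∧ q w = q u} :=
      Nat.card_pos_iff.mpr ⟨⟨⟨u, hu, hu1, rfl⟩⟩, inferInstance⟩
    have hpos2 : 0 < Nat.card {w : W // w ∈ U ∧ w ≠ 1 ∧ q w = q v} :=
      Nat.card_pos_iff.mpr ⟨⟨⟨v, hv, hv1, rfl⟩⟩, inferInstance⟩
    have hle := card_add_le (fun w : W => w ∈ U ∧ w ≠ 1 ∧ q w = q u)
      (fun w : W => w ∈ U ∧ w ≠ 1 ∧ q w = q v) (fun w : W => w ∈ U ∧ w ≠ 1)
      (fun w h => ⟨h.1, h.2.1⟩) (fun w h => ⟨h.1, h.2.1⟩)
      (fun w h1 h2 => hne (h1.2.2.symm.trans h2.2.2))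
    have h7 := card_ne_one_succ U
    have := Nat.le_of_dvd hpos1 hd1
    have := Nat.le_of_dvd hpos2 hd2
    omega
  -- choose three elements
  classical
  obtain ⟨u, hu, hu'⟩ := exists_mem_notMem U {1} (by rw [Finset.card_singleton, hUcard]; norm_num)
  obtain ⟨v, hv, hv'⟩ := exists_mem_notMem U {1, u} (by
    have := Finset.card_le_two (a := (1 : W)) (b := u)
    rw [hUcard]; omega)
  obtain ⟨v', hv2, hv2'⟩ := exists_mem_notMem U ({1, u, v, u * v} : Finset W) (by
    have := Finset.card_le_four (a := (1 : W)) (b := u) (c := v) (d := u * v)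
    rw [hUcard]; omega)
  simp only [Finset.mem_singleton, Finset.mem_insert, not_or] at hu' hv' hv2'
  have hu1 : u ≠ 1 := hu'
  have hv1 : v ≠ 1 := hv'.1
  have hvu : v ≠ u := hv'.2
  obtain ⟨hv'1, hv'u, hv'v, hv'uv⟩ := hv2'
  set c := q u with hc
  have hne1 : ∀ x y : W, x ≠ y → x * y ≠ 1 := by
    intro x y hxy h
    apply hxy
    have := inv_eq_of_mul_eq_one_left h
    rw [H.inv_eq] at this
    exact this.symm
  have hpolc : ∀ x y : W, x ∈ U → y ∈ U → x ≠ 1 → y ≠ 1 → x ≠ y → pol q x y = c := by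
    intro x y hx hy hx1 hy1 hxy
    unfold pol
    rw [hconst (x * y) u (U.mul_mem hx hy) (hne1 x y hxy) hu hu1, hconst x u hx hx1 hu hu1,
      hconst y u hy hy1 hu hu1, H.hT, one_mul]
  have h1 := H.pol_mul_right u v v'
  have hvv' : v * v' ≠ u := by
    intro h
    apply hv'uv
    rw [← h, H.commW v v', mul_assoc, H.hW, mul_one]
  rw [hpolc u (v * v') hu (U.mul_mem hv hv2) hu1 (hne1 v v' (Ne.symm hv'v)) (Ne.symm hvv'),
    hpolc u v hu hv hu1 hv1 (Ne.symm hvu), hpolc u v' hu hv2 hu1 hv'1 (Ne.symm hv'u), H.hT] at h1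
  exact hu1 (H.aniso u h1)

end Key

end Cfsg.Agent.Lib.Helper2.ThreeInv
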