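import Mathlib
import Cfsg.Agent.S0144
import Cfsg.Agent.Lib.Helper2.ThreeInvB

/-!
helper2: part C: elements of order 3 and 5 do not coexist; the stabiliser of an anisotropic
quadratic map `W → T` (`|T| ≤ 4`) in `Aut W` is solvable.
-/

set_option autoImplicit false

namespace Cfsg.Agent.Lib.Helper2.ThreeInv

section Key

variable {W T : Type*} [Group W] [Group T] [Finite W] [Finite T] {q : W → T}

/-- the polar map `pol q u ·` as a homomorphism. -/
def polHom (H : Hyp q) (u : W) : W →* T := MonoidHom.mk' (pol q u) (H.pol_mul_right u)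

omit [Finite W] [Finite T] in
theorem polHom_apply (H : Hyp q) (u w : W) : polHom H u w = pol q u w := rfl

/-- if `|W| = 16`, `q` takes three distinct non-identity values `q u`, `q v`, `q (u * v)`. -/
theorem exists_three (H : Hyp q) (hN : Nat.card W = 16) :
    ∃ u v : W, u ≠ 1 ∧ v ≠ 1 ∧ u * v ≠ 1 ∧ q u ≠ q v ∧ q u ≠ q (u * v) ∧ q v ≠ q (u * v) := by
  classical
  obtain ⟨u, -, hu⟩ := exists_mem_notMem (⊤ : Subgroup W) {1}
    (by rw [Finset.card_singleton, Subgroup.card_top, hN]; norm_num)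
  rw [Finset.mem_singleton] at hu
  have hker : 4 ≤ Nat.card (polHom H u).ker := by
    have h1 := Subgroup.card_mul_index (polHom H u).ker
    rw [Subgroup.index_ker, hN] at h1
    have h2 : Nat.card (polHom H u).range ≤ 4 :=
      (Nat.card_le_card_of_injective _ Subtype.val_injective).trans H.hTc
    by_contra hlt
    push Not at hlt
    have : Nat.card (polHom H u).ker * Nat.card (polHom H u).range ≤ 3 * 4 :=
      Nat.mul_le_mul (by omega) h2
    omega
  obtain ⟨v, hvK, hv⟩ := exists_mem_notMem (polHom H u).ker {1, u} (by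
    have := Finset.card_le_two (a := (1 : W)) (b := u)
    omega)
  simp only [Finset.mem_singleton, Finset.mem_insert, not_or] at hv
  rw [MonoidHom.mem_ker, polHom_apply] at hvK
  have huv : u * v ≠ 1 := by
    intro h
    apply hv.2
    have := inv_eq_of_mul_eq_one_left h
    rw [H.inv_eq] at this
    exact this
  have hmul : q (u * v) = q u * q v := H.q_mul_of_pol hvK
  have hqu := H.q_ne_one hu
  have hqv := H.q_ne_one hv.1
  have hquv := H.q_ne_one huv
  refine ⟨u, v, hu, hv.1, huv, ?_, ?_, ?_⟩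
  · intro h
    rw [hmul, h, H.hT] at hquv
    exact hquv rfl
  · intro h
    rw [hmul] at h
    exact hqv (left_eq_mul.mp h)
  · intro h
    rw [hmul] at h
    exact hqu (right_eq_mul.mp h)

/-- elements of order three and five preserving `q` do not coexist. -/
theorem no_five_three (H : Hyp q) (g h : MulAut W) (hgq : ∀ w, q (g w) = q w)
    (hhq : ∀ w, q (h w) = q w) (hg : g ^ 5 = 1) (hg1 : g ≠ 1) (hh : h ^ 3 = 1) (hh1 : h ≠ 1) :
    False := by
  have : Fact (Nat.Prime 5) := ⟨by norm_num⟩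
  have : Fact (Nat.Prime 3) := ⟨by norm_num⟩
  have hcg := fix_cases H g (by norm_num : Nat.Prime 5) hg hg1 (by norm_num)
  have hN : Nat.card W = 16 := by
    rcases hcg with ⟨h, -⟩ | ⟨-, h, -⟩ | ⟨h, -⟩
    · omega
    · exact h
    · omega
  have hfg : Nat.card (fixSub g) = 1 := by
    rcases hcg with ⟨h, -⟩ | ⟨-, -, h⟩ | ⟨h, -⟩
    · omega
    · exact h
    · omega
  have hgfix : ∀ w, w ≠ 1 → g w ≠ w := by
    intro w hw hfix
    apply hw
    have h1 : fixSub g = ⊥ := Subgroup.card_eq_one.mp hfg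
    have h2 : w ∈ fixSub g := hfix
    rw [h1, Subgroup.mem_bot] at h2
    exact h2
  have hch := fix_cases H h (by norm_num : Nat.Prime 3) hh hh1 (by norm_num)
  have hfh : Nat.card (fixSub h) ≤ 4 := by
    rcases hch with ⟨-, h⟩ | ⟨h, -⟩ | ⟨h, -⟩
    · rcases h with ⟨-, h⟩ | ⟨-, h⟩ | ⟨-, h⟩ | ⟨-, h⟩ <;> omega
    · omega
    · omega
  obtain ⟨u, v, hu, hv, huv, h12, h13, h23⟩ := exists_three H hN
  -- level sets
  have hinv : ∀ (b : MulAut W), (∀ w, q (b w) = q w) → ∀ c : T, ∀ w,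
      (w ≠ 1 ∧ q w = c) ↔ (b w ≠ 1 ∧ q (b w) = c) := by
    intro b hb c w
    rw [hb w]
    constructor
    · rintro ⟨h1, h2⟩
      refine ⟨fun h => h1 ?_, h2⟩
      apply b.injective
      rw [h, map_one]
    · rintro ⟨h1, h2⟩
      refine ⟨fun h => h1 ?_, h2⟩
      rw [h, map_one]
  have h5 : ∀ c : T, 5 ∣ Nat.card {w : W // w ≠ 1 ∧ q w = c} := fun c =>
    dvd_card_of_no_fixed' g hg _ (hinv g hgq c) (fun w hw => hgfix w hw.1)
  have hpos : ∀ x : W, x ≠ 1 → 0 < Nat.card {w : W // w ≠ 1 ∧ q w = q x} := fun x hx =>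
    Nat.card_pos_iff.mpr ⟨⟨⟨x, hx, rfl⟩⟩, inferInstance⟩
  have hge : ∀ x : W, x ≠ 1 → 5 ≤ Nat.card {w : W // w ≠ 1 ∧ q w = q x} := fun x hx =>
    Nat.le_of_dvd (hpos x hx) (h5 _)
  have htot : Nat.card {w : W // w ∈ (⊤ : Subgroup W) ∧ w ≠ 1} = 15 := by
    have := card_ne_one_succ (⊤ : Subgroup W)
    rw [Subgroup.card_top, hN] at this
    omega
  have hsum := card_add_add_le (fun w : W => w ≠ 1 ∧ q w = q u) (fun w : W => w ≠ 1 ∧ q w = q v)
    (fun w : W => w ≠ 1 ∧ q w = q (u * v)) (fun w : W => w ∈ (⊤ : Subgroup W) ∧ w ≠ 1)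
    (fun w h => ⟨Subgroup.mem_top w, h.1⟩) (fun w h => ⟨Subgroup.mem_top w, h.1⟩)
    (fun w h => ⟨Subgroup.mem_top w, h.1⟩)
    (fun w h1 h2 => h12 (h1.2.symm.trans h2.2)) (fun w h1 h2 => h13 (h1.2.symm.trans h2.2))
    (fun w h1 h2 => h23 (h1.2.symm.trans h2.2))
  rw [htot] at hsum
  have e1 := hge u hu
  have e2 := hge v hv
  have e3 := hge (u * v) huv
  have c1 : Nat.card {w : W // w ≠ 1 ∧ q w = q u} = 5 := by omega
  have c2 : Nat.card {w : W // w ≠ 1 ∧ q w = q v} = 5 := by omega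
  have c3 : Nat.card {w : W // w ≠ 1 ∧ q w = q (u * v)} = 5 := by omega
  -- fixed points of h
  have hfix2 : ∀ c : T, Nat.card {w : W // w ≠ 1 ∧ q w = c} = 5 →
      2 ≤ Nat.card {w : W // (w ≠ 1 ∧ q w = c) ∧ h w = w} := by
    intro c hc
    have hm := card_modEq_fixed' h hh _ (hinv h hhq c)
    rw [hc] at hm
    have : Nat.card {w : W // (w ≠ 1 ∧ q w = c) ∧ h w = w} % 3 = 2 := by
      have := hm.symm
      unfold Nat.ModEq at this
      omega
    omega
  have f1 := hfix2 _ c1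
  have f2 := hfix2 _ c2
  have f3 := hfix2 _ c3
  have hsum2 := card_add_add_le (fun w : W => (w ≠ 1 ∧ q w = q u) ∧ h w = w)
    (fun w : W => (w ≠ 1 ∧ q w = q v) ∧ h w = w)
    (fun w : W => (w ≠ 1 ∧ q w = q (u * v)) ∧ h w = w)
    (fun w : W => w ∈ fixSub h ∧ w ≠ 1)
    (fun w h => ⟨h.2, h.1.1⟩) (fun w h => ⟨h.2, h.1.1⟩) (fun w h => ⟨h.2, h.1.1⟩)
    (fun w h1 h2 => h12 (h1.1.2.symm.trans h2.1.2)) (fun w h1 h2 => h13 (h1.1.2.symm.trans h2.1.2))
    (fun w h1 h2 => h23 (h1.1.2.symm.trans h2.1.2))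
  have := card_ne_one_succ (fixSub h)
  omega

/-- **Key lemma**: a group of automorphisms of `W` preserving an anisotropic quadratic map
`q : W → T` (`W`, `T` of exponent two, `|T| ≤ 4`) is solvable. -/
theorem stab_solvable (H : Hyp q) (B : Subgroup (MulAut W))
    (hB : ∀ b ∈ B, ∀ w, q (b w) = q w) : Group.IsSolvable B := by
  have hfin : Finite (MulAut W) := Finite.of_injective (fun b : MulAut W => (b : W → W))
    (fun a b h => by ext w; exact congrFun h w)
  have hn0 : Nat.card B ≠ 0 := Nat.card_pos.ne'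
  -- elements of prime order
  have hel : ∀ p : ℕ, p.Prime → p ∣ Nat.card B → ∃ b ∈ B, b ^ p = 1 ∧ b ≠ 1 := by
    intro p hp hdvd
    have : Fact p.Prime := ⟨hp⟩
    obtain ⟨b, hb⟩ := exists_prime_orderOf_dvd_card' p hdvd
    refine ⟨b.1, b.2, ?_, ?_⟩
    · have := pow_orderOf_eq_one b
      rw [hb] at this
      have h2 := congrArg Subtype.val this
      simpa using h2
    · intro h1
      have : b = 1 := Subtype.ext h1
      rw [this, orderOf_one] at hb
      exact hp.one_lt.ne hb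
  have hprimes : ∀ p : ℕ, p.Prime → p ∣ Nat.card B → p = 2 ∨ p = 3 ∨ p = 5 := by
    intro p hp hdvd
    obtain ⟨b, hbB, hbp, hb1⟩ := hel p hp hdvd
    by_cases hp2 : p = 2
    · exact Or.inl hp2
    rcases fix_cases H b hp hbp hb1 hp2 with ⟨h, -⟩ | ⟨h, -⟩ | ⟨h, -⟩
    · exact Or.inr (Or.inl h)
    · exact Or.inr (Or.inr h)
    · exfalso
      rw [h] at hbp
      exact no_seven H b (hB b hbB) hbp hb1
  by_cases h5 : 5 ∣ Nat.card B
  · obtain ⟨g, hgB, hg5, hg1⟩ := hel 5 (by norm_num) h5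
    obtain ⟨a, c, hac⟩ := eq_two_pow_mul_pow (r := 5) hn0 (by
      intro p hp hdvd
      rcases hprimes p hp hdvd with h | h | h
      · exact Or.inl h
      · exfalso
        rw [h] at hdvd
        obtain ⟨h', hhB, hh3, hh1⟩ := hel 3 (by norm_num) hdvd
        exact no_five_three H g h' (hB g hgB) (hB h' hhB) hg5 hg1 hh3 hh1
      · exact Or.inr h)
    exact Cfsg.Agent.S0144.result 2 5 a c (by norm_num) (by norm_num) hac
  · obtain ⟨a, c, hac⟩ := eq_two_pow_mul_pow (r := 3) hn0 (by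
      intro p hp hdvd
      rcases hprimes p hp hdvd with h | h | h
      · exact Or.inl h
      · exact Or.inr h
      · exfalso
        rw [h] at hdvd
        exact h5 hdvd)
    exact Cfsg.Agent.S0144.result 2 3 a c (by norm_num) (by norm_num) hac

end Key

end Cfsg.Agent.Lib.Helper2.ThreeInv
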