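import Mathlib

/-!
helper2: a finite 2-group with exactly three involutions: the centraliser `E` of the set of
involutions has index at most two and every automorphism acts trivially on `X / E`.
Also: an automorphism of odd order of an abelian 2-group acting trivially modulo squares is
trivial.
-/

set_option autoImplicit false

namespace Cfsg.Agent.Lib.Helper2.ThreeInv

section Inv

variable {X : Type*} [Group X]

/-- a set of group elements stable under all automorphisms is stable in the iff sense. -/
theorem iff_of_forall_mem {S : Set X} (h : ∀ α : MulAut X, ∀ x ∈ S, α x ∈ S) (α : MulAut X)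
    (x : X) : x ∈ S ↔ α x ∈ S := by
  constructor
  · exact h α x
  · intro hx
    have := h α⁻¹ _ hx
    rwa [MulAut.inv_apply_self] at this

/-- the centraliser of the set of involutions. -/
def invCent (X : Type*) [Group X] : Subgroup X := Subgroup.centralizer {x : X | orderOf x = 2}

theorem invCent_inv (α : MulAut X) (x : X) : x ∈ invCent X ↔ α x ∈ invCent X := by
  apply iff_of_forall_mem (S := (invCent X : Set X))
  intro β y hy
  rw [SetLike.mem_coe, invCent, Subgroup.mem_centralizer_iff] at hy ⊢
  intro t ht
  have ht' : orderOf (β⁻¹ t) = 2 := by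
    change orderOf t = 2 at ht
    rw [← ht]
    exact MulEquiv.orderOf_eq β⁻¹ t
  have := congrArg β (hy _ ht')
  rwa [map_mul, map_mul, MulAut.apply_inv_self] at this

/-- the conjugation action on the involutions. -/
def invPerm (X : Type*) [Group X] : X →* Equiv.Perm {x : X // orderOf x = 2} where
  toFun g :=
    { toFun := fun t => ⟨g * t.1 * g⁻¹, by
        have := MulEquiv.orderOf_eq (MulAut.conj g) t.1
        rw [MulAut.conj_apply] at this
        rw [this]; exact t.2⟩
      invFun := fun t => ⟨g⁻¹ * t.1 * g, by
        have := MulEquiv.orderOf_eq (MulAut.conj g⁻¹) t.1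
        rw [MulAut.conj_apply, inv_inv] at this
        rw [this]; exact t.2⟩
      left_inv := fun t => Subtype.ext (by simp [mul_assoc])
      right_inv := fun t => Subtype.ext (by simp [mul_assoc]) }
  map_one' := by
    ext t
    simp
  map_mul' := by
    intro g h
    ext t
    simp [mul_assoc]

theorem invPerm_ker : (invPerm X).ker = invCent X := by
  ext g
  rw [MonoidHom.mem_ker, invCent, Subgroup.mem_centralizer_iff]
  constructor
  · intro h t ht
    have := congrArg (fun σ : Equiv.Perm {x : X // orderOf x = 2} => (σ ⟨t, ht⟩).1) h
    simp only [invPerm, MonoidHom.coe_mk, OneHom.coe_mk, Equiv.coe_fn_mk,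
      Equiv.Perm.coe_one, id_eq] at this
    calc t * g = (g * t * g⁻¹) * g := by rw [this]
      _ = g * t := by group
  · intro h
    ext t
    simp only [invPerm, MonoidHom.coe_mk, OneHom.coe_mk, Equiv.coe_fn_mk,
      Equiv.Perm.coe_one, id_eq]
    rw [← h t.1 t.2]
    group

theorem invCent_index [Finite X] (h2 : IsPGroup 2 X)
    (h3 : Nat.card {x : X // orderOf x = 2} = 3) : (invCent X).index ∣ 2 := by
  have hfin : Finite {x : X // orderOf x = 2} := inferInstance
  have h1 : (invCent X).index ∣ 6 := by
    rw [← invPerm_ker, Subgroup.index_ker]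
    have := Subgroup.card_subgroup_dvd_card (invPerm X).range
    have e : Nat.card (Equiv.Perm {x : X // orderOf x = 2}) = 6 := by
      have := Fintype.ofFinite {x : X // orderOf x = 2}
      classical
      rw [Nat.card_eq_fintype_card, Fintype.card_perm, ← Nat.card_eq_fintype_card, h3]
      rfl
    rwa [e] at this
  obtain ⟨k, hk⟩ := h2.index (invCent X)
  rw [hk] at h1 ⊢
  rcases k with _ | _ | k
  · norm_num
  · norm_num
  · exfalso
    have : 4 ∣ 6 := (Dvd.intro_left (2 ^ k) (by ring)).trans h1
    omega

/-- every automorphism acts trivially on `X / E`. -/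
theorem inv_mul_mem_invCent [Finite X] (h2 : IsPGroup 2 X)
    (h3 : Nat.card {x : X // orderOf x = 2} = 3) (α : MulAut X) (x : X) :
    x⁻¹ * α x ∈ invCent X := by
  have hidx := invCent_index h2 h3
  rcases (Nat.dvd_prime Nat.prime_two).mp hidx with h | h
  · rw [Subgroup.index_eq_one] at h
    rw [h]; trivial
  · rw [Subgroup.mul_mem_iff_of_index_two h, inv_mem_iff]
    exact invCent_inv α x

end Inv

end Cfsg.Agent.Lib.Helper2.ThreeInv
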