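import Mathlib
import Cfsg.Agent.Lib.Helper1.CritExtra

/-!
helper2: an automorphism of odd order of a 2-group acting trivially modulo squares on an
invariant abelian subgroup fixes that subgroup elementwise.
-/

set_option autoImplicit false

namespace Cfsg.Agent.Lib.Helper2.ThreeInv

section Sq

variable {X : Type*} [Group X]

/-- the subgroup of squares of a commutative subgroup. -/
def sqSub (Y : Subgroup X) (hY : ∀ a ∈ Y, ∀ b ∈ Y, a * b = b * a) : Subgroup X where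
  carrier := {y | ∃ s ∈ Y, s * s = y}
  one_mem' := ⟨1, Y.one_mem, mul_one 1⟩
  mul_mem' := by
    rintro _ _ ⟨s, hs, rfl⟩ ⟨t, ht, rfl⟩
    refine ⟨s * t, Y.mul_mem hs ht, ?_⟩
    rw [mul_assoc, ← mul_assoc t, hY t ht s hs, mul_assoc, ← mul_assoc]
  inv_mem' := by
    rintro _ ⟨s, hs, rfl⟩
    exact ⟨s⁻¹, Y.inv_mem hs, by rw [mul_inv_rev]⟩

theorem mem_sqSub {Y : Subgroup X} {hY : ∀ a ∈ Y, ∀ b ∈ Y, a * b = b * a} {y : X} :
    y ∈ sqSub Y hY ↔ ∃ s ∈ Y, s * s = y := Iff.rfl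

theorem sqSub_le (Y : Subgroup X) (hY : ∀ a ∈ Y, ∀ b ∈ Y, a * b = b * a) : sqSub Y hY ≤ Y := by
  rintro _ ⟨s, hs, rfl⟩
  exact Y.mul_mem hs hs

theorem card_sqSub_lt [Finite X] (h2 : IsPGroup 2 X) (Y : Subgroup X)
    (hY : ∀ a ∈ Y, ∀ b ∈ Y, a * b = b * a) (hne : Y ≠ ⊥) :
    Nat.card (sqSub Y hY) < Nat.card Y := by
  classical
  have := Fintype.ofFinite X
  -- an involution in Y
  have hdvd : 2 ∣ Nat.card Y := by
    obtain ⟨k, hk⟩ := (IsPGroup.iff_card).mp (h2.to_subgroup Y)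
    rcases k with _ | k
    · exfalso
      apply hne
      rw [pow_zero] at hk
      exact Subgroup.card_eq_one.mp hk
    · rw [hk, pow_succ]
      exact Dvd.intro_left _ rfl
  have : Fact (Nat.Prime 2) := ⟨Nat.prime_two⟩
  obtain ⟨t, ht⟩ := exists_prime_orderOf_dvd_card' 2 hdvd
  have ht1 : t ≠ 1 := by
    intro h
    rw [h, orderOf_one] at ht
    norm_num at ht
  have htt : t * t = 1 := by
    have := pow_orderOf_eq_one t
    rwa [ht, pow_two] at this
  let f : Y → sqSub Y hY := fun s => ⟨s.1 * s.1, ⟨s.1, s.2, rfl⟩⟩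
  have hsurj : Function.Surjective f := by
    rintro ⟨y, s, hs, rfl⟩
    exact ⟨⟨s, hs⟩, rfl⟩
  have hninj : ¬ Function.Injective f := by
    intro hinj
    apply ht1
    have h1 : f t = f 1 := by
      apply Subtype.ext
      show t.1 * t.1 = (1 : Y).1 * (1 : Y).1
      have := congrArg Subtype.val htt
      simpa using this
    exact hinj h1
  rw [Nat.card_eq_fintype_card, Nat.card_eq_fintype_card]
  exact Fintype.card_lt_of_surjective_not_injective f hsurj hninj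

/-- an automorphism of odd order acting trivially modulo squares on an invariant commutative
subgroup fixes it elementwise. -/
theorem fix_of_sq [Finite X] (h2 : IsPGroup 2 X) (β : MulAut X) (hβ : (orderOf β).Coprime 2) :
    ∀ (n : ℕ) (Y : Subgroup X), Nat.card Y = n → ∀ hY : (∀ a ∈ Y, ∀ b ∈ Y, a * b = b * a),
      (∀ y ∈ Y, β y ∈ Y) → (∀ y ∈ Y, y⁻¹ * β y ∈ sqSub Y hY) → ∀ y ∈ Y, β y = y := by
  intro n
  induction n using Nat.strong_induction_on with
  | _ n IH =>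
  intro Y hn hY hinv hsq
  by_cases hbot : Y = ⊥
  · intro y hy
    rw [hbot, Subgroup.mem_bot] at hy
    rw [hy, map_one]
  have hY' : ∀ a ∈ sqSub Y hY, ∀ b ∈ sqSub Y hY, a * b = b * a := fun a ha b hb =>
    hY a (sqSub_le Y hY ha) b (sqSub_le Y hY hb)
  have hlt := card_sqSub_lt h2 Y hY hbot
  rw [hn] at hlt
  have hinv' : ∀ y ∈ sqSub Y hY, β y ∈ sqSub Y hY := by
    rintro _ ⟨s, hs, rfl⟩
    exact ⟨β s, hinv s hs, by rw [map_mul]⟩
  have hsq' : ∀ y ∈ sqSub Y hY, y⁻¹ * β y ∈ sqSub (sqSub Y hY) hY' := by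
    rintro _ ⟨s, hs, rfl⟩
    refine ⟨s⁻¹ * β s, hsq s hs, ?_⟩
    have hc : β s * s⁻¹ = s⁻¹ * β s := hY _ (hinv s hs) _ (Y.inv_mem hs)
    rw [map_mul, mul_inv_rev]
    calc s⁻¹ * β s * (s⁻¹ * β s) = s⁻¹ * (β s * s⁻¹) * β s := by group
      _ = s⁻¹ * (s⁻¹ * β s) * β s := by rw [hc]
      _ = s⁻¹ * s⁻¹ * (β s * β s) := by group
  have hfix' := IH _ hlt (sqSub Y hY) rfl hY' hinv' hsq'
  intro y hy
  have hu := hsq y hy
  have h1 : β y = y * (y⁻¹ * β y) := by group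
  have h3 := Cfsg.Agent.Lib.Helper1.CritExtra.eq_one_of_fixed_of_coprime h2 β hβ y _ h1
    (hfix' _ hu)
  rw [h3, mul_one] at h1
  exact h1

end Sq

end Cfsg.Agent.Lib.Helper2.ThreeInv
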