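import Mathlib
import Cfsg.Agent.Lib.Helper17.SecAut
import Cfsg.Agent.Lib.Helper2.ThreeInvC

/-!
helper2: the squaring map `D / Z → Z / S` of a class-two configuration `S ≤ Z ≤ D`
(`Z` central in `D`, squares and commutators of `D` in `Z`, `S` the squares of `Z`) is an
anisotropic quadratic map in the sense of `Hyp`.
-/

set_option autoImplicit false
open scoped commutatorElement

namespace Cfsg.Agent.Lib.Helper2.ThreeInv

section Cfg

variable {X : Type*} [Group X]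

/-- class-two configuration. -/
structure Cfg (D Z S : Subgroup X) : Prop where
  ZD : Z ≤ D
  SZ : S ≤ Z
  cent : ∀ z ∈ Z, ∀ d ∈ D, d * z = z * d
  sq : ∀ x ∈ D, x * x ∈ Z
  comm : ∀ x ∈ D, ∀ y ∈ D, ⁅x, y⁆ ∈ Z
  sqS : ∀ z ∈ Z, z * z ∈ S
  aniso : ∀ x ∈ D, x * x ∈ S → x ∈ Z

variable {D Z S : Subgroup X}

theorem Cfg.normalZ (h : Cfg D Z S) : (Z.subgroupOf D).Normal := by
  refine ⟨fun n hn g => ?_⟩
  rw [Subgroup.mem_subgroupOf] at hn ⊢
  have h1 := h.cent _ hn _ g.2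
  have : ((g * n * g⁻¹ : D) : X) = n := by
    push_cast
    rw [h1, mul_assoc, mul_inv_cancel, mul_one]
  rw [this]
  exact hn

theorem Cfg.normalS (h : Cfg D Z S) : (S.subgroupOf Z).Normal := by
  refine ⟨fun n hn g => ?_⟩
  rw [Subgroup.mem_subgroupOf] at hn ⊢
  have h1 := h.cent _ (h.SZ hn) _ (h.ZD g.2)
  have : ((g * n * g⁻¹ : Z) : X) = n := by
    push_cast
    rw [h1, mul_assoc, mul_inv_cancel, mul_one]
  rw [this]
  exact hn

/-- squaring, as a map `D → Z`. -/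
def Cfg.sqZ (h : Cfg D Z S) (x : D) : Z := ⟨x.1 * x.1, h.sq x.1 x.2⟩

/-- the commutator, as a map `D → D → Z`. -/
def Cfg.cm (h : Cfg D Z S) (x y : D) : Z := ⟨⁅x.1, y.1⁆, h.comm x.1 x.2 y.1 y.2⟩

/-- the squaring map on the sections. -/
def Cfg.qMap (h : Cfg D Z S) : (D ⧸ Z.subgroupOf D) → (Z ⧸ S.subgroupOf Z) :=
  Quotient.lift (fun x : D => (QuotientGroup.mk (h.sqZ x) : Z ⧸ S.subgroupOf Z)) (by
    intro a b hab
    have hab' : a⁻¹ * b ∈ Z.subgroupOf D := QuotientGroup.leftRel_apply.mp hab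
    rw [Subgroup.mem_subgroupOf] at hab'
    rw [QuotientGroup.eq, Subgroup.mem_subgroupOf]
    -- b = a * z
    set z : X := ((a⁻¹ * b : D) : X) with hz
    have hb : b.1 = a.1 * z := by rw [hz]; push_cast; group
    have hcz : a.1 * z = z * a.1 := h.cent z hab' a.1 a.2
    have : (((h.sqZ a)⁻¹ * h.sqZ b : Z) : X) = z * z := by
      show (a.1 * a.1)⁻¹ * (b.1 * b.1) = z * z
      rw [hb]
      calc (a.1 * a.1)⁻¹ * (a.1 * z * (a.1 * z)) = a.1⁻¹ * a.1⁻¹ * a.1 * (z * a.1) * z := by group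
        _ = a.1⁻¹ * a.1⁻¹ * a.1 * (a.1 * z) * z := by rw [hcz]
        _ = z * z := by group
    rw [this]
    exact h.sqS z hab')

theorem Cfg.qMap_mk (h : Cfg D Z S) (x : D) :
    h.qMap (QuotientGroup.mk x) = QuotientGroup.mk (h.sqZ x) := rfl

theorem Cfg.sq_mul (h : Cfg D Z S) (x y : X) (hx : x ∈ D) (hy : y ∈ D) :
    x * y * (x * y) = ⁅y, x⁆ * (x * x) * (y * y) := by
  have hxc : x * ⁅y, x⁆ = ⁅y, x⁆ * x := h.cent _ (h.comm y hy x hx) x hx
  calc x * y * (x * y) = (x * ⁅y, x⁆) * x * y * y := by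
        rw [commutatorElement_def]; group
    _ = (⁅y, x⁆ * x) * x * y * y := by rw [hxc]
    _ = ⁅y, x⁆ * (x * x) * (y * y) := by group

theorem Cfg.comm_mul (h : Cfg D Z S) (x x' y : X) (hx : x ∈ D) (hx' : x' ∈ D) (hy : y ∈ D) :
    ⁅y, x * x'⁆ = ⁅y, x⁆ * ⁅y, x'⁆ := by
  have hxc : x * ⁅y, x'⁆ = ⁅y, x'⁆ * x := h.cent _ (h.comm y hy x' hx') x hx
  have hxc' : ⁅y, x'⁆ * x⁻¹ = x⁻¹ * ⁅y, x'⁆ := by
    calc ⁅y, x'⁆ * x⁻¹ = x⁻¹ * (x * ⁅y, x'⁆) * x⁻¹ := by group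
      _ = x⁻¹ * (⁅y, x'⁆ * x) * x⁻¹ := by rw [hxc]
      _ = x⁻¹ * ⁅y, x'⁆ := by group
  calc ⁅y, x * x'⁆ = y * x * y⁻¹ * (⁅y, x'⁆ * x⁻¹) := by
        rw [commutatorElement_def, commutatorElement_def]; group
    _ = y * x * y⁻¹ * (x⁻¹ * ⁅y, x'⁆) := by rw [hxc']
    _ = ⁅y, x⁆ * ⁅y, x'⁆ := by rw [commutatorElement_def y x]; group

section Q

variable (h : Cfg D Z S) [hn1 : (Z.subgroupOf D).Normal] [hn2 : (S.subgroupOf Z).Normal]

theorem Cfg.pol_mk (x y : D) :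
    pol h.qMap (QuotientGroup.mk x) (QuotientGroup.mk y) = QuotientGroup.mk (h.cm y x) := by
  unfold pol
  rw [← QuotientGroup.mk_mul, h.qMap_mk, h.qMap_mk, h.qMap_mk, ← QuotientGroup.mk_mul,
    ← QuotientGroup.mk_mul, QuotientGroup.eq, Subgroup.mem_subgroupOf]
  have e : (((h.sqZ (x * y) * h.sqZ x * h.sqZ y)⁻¹ * h.cm y x : Z) : X) =
      ((x.1 * x.1 * (y.1 * y.1)) * (x.1 * x.1 * (y.1 * y.1)))⁻¹ := by
    show (((x * y : D) : X) * ((x * y : D) : X) * (x.1 * x.1) * (y.1 * y.1))⁻¹ * ⁅y.1, x.1⁆ = _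
    push_cast
    rw [h.sq_mul x.1 y.1 x.2 y.2]
    group
  rw [e]
  exact S.inv_mem (h.sqS _ (Z.mul_mem (h.sq x.1 x.2) (h.sq y.1 y.2)))

theorem Cfg.hyp (hcard : Nat.card (Z ⧸ S.subgroupOf Z) ≤ 4) : Hyp h.qMap := by
  refine ⟨?_, ?_, hcard, ?_, ?_⟩
  · intro w
    induction w using QuotientGroup.induction_on with
    | H x =>
      rw [← QuotientGroup.mk_mul, QuotientGroup.eq_one_iff, Subgroup.mem_subgroupOf]
      exact h.sq x.1 x.2
  · intro t
    induction t using QuotientGroup.induction_on with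
    | H z =>
      rw [← QuotientGroup.mk_mul, QuotientGroup.eq_one_iff, Subgroup.mem_subgroupOf]
      exact h.sqS z.1 z.2
  · intro a a' b
    induction a using QuotientGroup.induction_on with
    | H x =>
    induction a' using QuotientGroup.induction_on with
    | H x' =>
    induction b using QuotientGroup.induction_on with
    | H y =>
      rw [← QuotientGroup.mk_mul, h.pol_mk, h.pol_mk, h.pol_mk, ← QuotientGroup.mk_mul]
      congr 1
      apply Subtype.ext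
      show ⁅y.1, ((x * x' : D) : X)⁆ = ⁅y.1, x.1⁆ * ⁅y.1, x'.1⁆
      push_cast
      exact h.comm_mul x.1 x'.1 y.1 x.2 x'.2 y.2
  · intro w hw
    induction w using QuotientGroup.induction_on with
    | H x =>
      rw [h.qMap_mk, QuotientGroup.eq_one_iff, Subgroup.mem_subgroupOf] at hw
      rw [QuotientGroup.eq_one_iff, Subgroup.mem_subgroupOf]
      exact h.aniso x.1 x.2 hw

end Q

end Cfg

end Cfsg.Agent.Lib.Helper2.ThreeInv
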