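import Mathlib
import Cfsg.Agent.S0093
import Cfsg.Agent.S0121
import Cfsg.Agent.S0144
import Cfsg.Agent.Lib.Helper1.CritExtra
import Cfsg.Agent.Lib.Helper17.SecAut
import Cfsg.Agent.Lib.Helper2.ThreeInvD
import Cfsg.Agent.Lib.Helper2.ThreeInvE
import Cfsg.Agent.Lib.Helper2.ThreeInvF

/-!
helper2: a finite 2-group with exactly three involutions has a solvable automorphism group.
-/

set_option autoImplicit false
open scoped commutatorElement

namespace Cfsg.Agent.Lib.Helper2.ThreeInv

open Cfsg.Agent.Lib.Helper17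

section Gen

variable {X : Type*} [Group X]

/-- invariance of `D ⊓ C(D)`. -/
theorem center_inv {D : Subgroup X} (hD : ∀ α : MulAut X, ∀ x, x ∈ D ↔ α x ∈ D) (α : MulAut X)
    (x : X) : x ∈ D ⊓ Subgroup.centralizer (D : Set X) ↔
      α x ∈ D ⊓ Subgroup.centralizer (D : Set X) := by
  apply iff_of_forall_mem (S := ((D ⊓ Subgroup.centralizer (D : Set X) : Subgroup X) : Set X))
  intro β y hy
  rw [SetLike.mem_coe, Subgroup.mem_inf, Subgroup.mem_centralizer_iff] at hy ⊢
  refine ⟨(hD β y).mp hy.1, fun d hd => ?_⟩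
  have hd' : β⁻¹ d ∈ D := by
    rw [hD β, MulAut.apply_inv_self]; exact hd
  have := congrArg β (hy.2 _ hd')
  rwa [map_mul, map_mul, MulAut.apply_inv_self] at this

theorem sqSub_inv {Y : Subgroup X} (hY : ∀ a ∈ Y, ∀ b ∈ Y, a * b = b * a)
    (hinv : ∀ α : MulAut X, ∀ x, x ∈ Y ↔ α x ∈ Y) (α : MulAut X) (x : X) :
    x ∈ sqSub Y hY ↔ α x ∈ sqSub Y hY := by
  apply iff_of_forall_mem (S := ((sqSub Y hY : Subgroup X) : Set X))
  rintro β _ ⟨s, hs, rfl⟩
  exact ⟨β s, (hinv β s).mp hs, by rw [map_mul]⟩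

/-- all automorphisms, as elements of `presSub M N`, when `M`, `N` are invariant. -/
def toPresAll (M N : Subgroup X) (hM : ∀ α : MulAut X, ∀ x, x ∈ M ↔ α x ∈ M)
    (hN : ∀ α : MulAut X, ∀ x, x ∈ N ↔ α x ∈ N) : MulAut X →* presSub M N where
  toFun α := ⟨α, hM α, hN α⟩
  map_one' := rfl
  map_mul' _ _ := rfl

/-- the automorphism group of a group of order at most four is solvable. -/
theorem solvable_mulAut_of_card_le_four (T : Type*) [Group T] [Finite T] (hT : Nat.card T ≤ 4) :
    Group.IsSolvable (MulAut T) := by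
  have hfin : Finite (MulAut T) := Finite.of_injective (fun b : MulAut T => (b : T → T))
    (fun a b h => by ext w; exact congrFun h w)
  have hinj : Function.Injective (MulAut.toPerm T) := by
    intro a b h
    ext w
    exact congrFun (congrArg (fun σ : Equiv.Perm T => (σ : T → T)) h) w
  have h1 : Nat.card (MulAut T) ∣ 24 := by
    have := Subgroup.card_dvd_of_injective (MulAut.toPerm T) hinj
    rw [Nat.card_perm] at this
    exact this.trans (Nat.factorial_dvd_factorial hT)
  obtain ⟨a, b, hab⟩ := eq_two_pow_mul_pow (n := Nat.card (MulAut T)) (r := 3) Nat.card_pos.ne' (by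
    intro p hp hdvd
    have h24 : p ∣ 2 ^ 3 * 3 := hdvd.trans h1
    rcases (Nat.Prime.dvd_mul hp).mp h24 with h | h
    · exact Or.inl ((Nat.prime_dvd_prime_iff_eq hp Nat.prime_two).mp (hp.dvd_of_dvd_pow h))
    · exact Or.inr ((Nat.prime_dvd_prime_iff_eq hp Nat.prime_three).mp h))
  exact Cfsg.Agent.S0144.result 2 3 a b Nat.prime_two Nat.prime_three hab

/-- `|Z / Z²| ≤ 4` for a commutative subgroup `Z` of a group with three involutions. -/
theorem card_quot_sq_le [Finite X] (h3 : Nat.card {x : X // orderOf x = 2} = 3) (Z : Subgroup X)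
    (hZ : ∀ a ∈ Z, ∀ b ∈ Z, a * b = b * a) [((sqSub Z hZ).subgroupOf Z).Normal] :
    Nat.card (Z ⧸ (sqSub Z hZ).subgroupOf Z) ≤ 4 := by
  classical
  let f : Z →* Z := MonoidHom.mk' (fun z => z * z) (by
    intro a b
    have hc : b * a = a * b := Subtype.ext (hZ b.1 b.2 a.1 a.2)
    calc a * b * (a * b) = a * (b * a) * b := by group
      _ = a * (a * b) * b := by rw [hc]
      _ = a * a * (b * b) := by group)
  have hf : ∀ z : Z, f z = z * z := fun z => rfl
  have hrange : f.range = (sqSub Z hZ).subgroupOf Z := by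
    ext z
    rw [MonoidHom.mem_range, Subgroup.mem_subgroupOf, mem_sqSub]
    constructor
    · rintro ⟨w, rfl⟩
      exact ⟨w.1, w.2, rfl⟩
    · rintro ⟨s, hs, hsz⟩
      exact ⟨⟨s, hs⟩, Subtype.ext hsz⟩
  -- the kernel has at most four elements
  have hker : Nat.card f.ker ≤ 4 := by
    have e1 : Nat.card (f.ker.map Z.subtype) = Nat.card f.ker :=
      Subgroup.card_map_of_injective Z.subtype_injective
    rw [← e1, ← card_ne_one_succ (f.ker.map Z.subtype)]
    have : Nat.card {w : X // w ∈ f.ker.map Z.subtype ∧ w ≠ 1} ≤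
        Nat.card {x : X // orderOf x = 2} := by
      apply Nat.card_le_card_of_injective (fun w => (⟨w.1, by
        obtain ⟨⟨z, hz, hzw⟩, hw1⟩ := w.2
        rw [SetLike.mem_coe, MonoidHom.mem_ker, hf] at hz
        have h1 : w.1 * w.1 = 1 := by
          rw [← hzw]
          have := congrArg Subtype.val hz
          simpa using this
        exact orderOf_eq_prime (by rw [pow_two]; exact h1) hw1⟩ : {x : X // orderOf x = 2}))
      intro a b hab
      have := congrArg (fun t : {x : X // orderOf x = 2} => t.1) hab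
      exact Subtype.ext this
    omega
  have hk := Subgroup.card_mul_index f.ker
  rw [Subgroup.index_ker] at hk
  have hr := Subgroup.card_mul_index f.range
  rw [← hrange, ← Subgroup.index_eq_card]
  have hpos : 0 < Nat.card f.range := Nat.card_pos
  have : f.range.index = Nat.card f.ker := by
    have h4 : Nat.card f.range * f.range.index = Nat.card f.range * Nat.card f.ker := by
      rw [hr, ← hk, mul_comm]
    exact Nat.eq_of_mul_eq_mul_left hpos h4
  rw [this]
  exact hker

/-- **Main theorem**: a finite 2-group with exactly three involutions has a solvable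
automorphism group. -/
theorem main [Finite X] (h2 : IsPGroup 2 X) (h3 : Nat.card {x : X // orderOf x = 2} = 3) :
    Group.IsSolvable (MulAut X) := by
  classical
  have hprime : Fact (Nat.Prime 2) := ⟨Nat.prime_two⟩
  have hfinA : Finite (MulAut X) := Finite.of_injective (fun b : MulAut X => (b : X → X))
    (fun a b h => by ext w; exact congrFun h w)
  obtain ⟨C, hCchar, hC1, hC2, hC3⟩ := Cfsg.Agent.S0093.result h2
  have hCrit := Cfsg.Agent.Lib.Helper1.CritExtra.critHyp_of_critical h2 C hC1 hC2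
  have hCinv : ∀ α : MulAut X, ∀ x, x ∈ C ↔ α x ∈ C := by
    intro α x
    have := hCchar.fixed α
    conv_lhs => rw [← this]
    rfl
  obtain ⟨D, hD⟩ : ∃ D : Subgroup X, D = C ⊓ invCent X := ⟨_, rfl⟩
  have hDC : D ≤ C := hD ▸ inf_le_left
  have hDE : D ≤ invCent X := hD ▸ inf_le_right
  have hDinv : ∀ α : MulAut X, ∀ x, x ∈ D ↔ α x ∈ D := by
    intro α x
    rw [hD, Subgroup.mem_inf, Subgroup.mem_inf, ← hCinv α x, ← invCent_inv α x]
  obtain ⟨Z, hZ⟩ : ∃ Z : Subgroup X, Z = D ⊓ Subgroup.centralizer (D : Set X) := ⟨_, rfl⟩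
  have hZD : Z ≤ D := hZ ▸ inf_le_left
  have hZcent : ∀ z ∈ Z, ∀ d ∈ D, d * z = z * d := by
    intro z hz d hd
    rw [hZ] at hz
    exact Subgroup.mem_centralizer_iff.mp hz.2 d hd
  have hZmem : ∀ c ∈ D, (∀ d ∈ D, d * c = c * d) → c ∈ Z := by
    intro c hc h
    rw [hZ]
    exact ⟨hc, Subgroup.mem_centralizer_iff.mpr h⟩
  have hZinv : ∀ α : MulAut X, ∀ x, x ∈ Z ↔ α x ∈ Z := by
    intro α x
    rw [hZ]
    exact center_inv hDinv α x
  have hZcomm : ∀ a ∈ Z, ∀ b ∈ Z, a * b = b * a := fun a ha b hb => hZcent b hb a (hZD ha)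
  obtain ⟨S, hS⟩ : ∃ S : Subgroup X, S = sqSub Z hZcomm := ⟨_, rfl⟩
  have hSinv : ∀ α : MulAut X, ∀ x, x ∈ S ↔ α x ∈ S := by
    intro α x
    rw [hS]
    exact sqSub_inv hZcomm hZinv α x
  -- involutions of D are central in D
  have hinvol : ∀ t ∈ D, t * t = 1 → t ∈ Z := by
    intro t ht htt
    by_cases ht1 : t = 1
    · rw [ht1]; exact Z.one_mem
    have hord : orderOf t = 2 := orderOf_eq_prime (by rw [pow_two]; exact htt) ht1
    apply hZmem t ht
    intro d hd
    have hdE := hDE hd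
    rw [invCent, Subgroup.mem_centralizer_iff] at hdE
    exact (hdE t hord).symm
  have hcfg : Cfg D Z S := by
    refine ⟨hZD, ?_, hZcent, ?_, ?_, ?_, ?_⟩
    · rw [hS]; exact sqSub_le Z hZcomm
    · intro x hx
      apply hZmem _ (D.mul_mem hx hx)
      intro d hd
      have := hCrit.pow_cent x (hDC hx) d (hDC hd)
      rw [pow_two] at this
      exact this.symm
    · intro x hx y hy
      apply hZmem
      · rw [hD]
        refine ⟨hCrit.comm_mem x (hDC hx) y, ?_⟩
        rw [commutatorElement_def]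
        exact (invCent X).mul_mem ((invCent X).mul_mem ((invCent X).mul_mem (hDE hx) (hDE hy))
          ((invCent X).inv_mem (hDE hx))) ((invCent X).inv_mem (hDE hy))
      · intro d hd
        exact (hCrit.comm_cent x (hDC hx) y d (hDC hd)).symm
    · intro z hz
      rw [hS]
      exact ⟨z, hz, rfl⟩
    · intro x hx hxS
      rw [hS] at hxS
      obtain ⟨z, hz, hzx⟩ := hxS
      have hzc : x * z⁻¹ = z⁻¹ * x := hZcent _ (Z.inv_mem hz) x hx
      have htt : (x * z⁻¹) * (x * z⁻¹) = 1 := by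
        calc (x * z⁻¹) * (x * z⁻¹) = x * (z⁻¹ * x) * z⁻¹ := by group
          _ = x * (x * z⁻¹) * z⁻¹ := by rw [hzc]
          _ = (x * x) * (z * z)⁻¹ := by group
          _ = 1 := by rw [hzx, mul_inv_cancel]
      have ht := hinvol (x * z⁻¹) (D.mul_mem hx (D.inv_mem (hZD hz))) htt
      have : x = (x * z⁻¹) * z := by group
      rw [this]
      exact Z.mul_mem ht hz
  have hn1 := hcfg.normalZ
  have hn2 := hcfg.normalS
  have hcard : Nat.card (Z ⧸ S.subgroupOf Z) ≤ 4 := by
    subst hS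
    exact card_quot_sq_le h3 Z hZcomm
  have hyp := hcfg.hyp hcard
  -- the two actions
  obtain ⟨ψT, hψT⟩ : ∃ ψT : MulAut X →* MulAut (Z ⧸ S.subgroupOf Z),
      ψT = (secHom Z S).comp (toPresAll Z S hZinv hSinv) := ⟨_, rfl⟩
  obtain ⟨ψW, hψW⟩ : ∃ ψW : MulAut X →* MulAut (D ⧸ Z.subgroupOf D),
      ψW = (secHom D Z).comp (toPresAll D Z hDinv hZinv) := ⟨_, rfl⟩
  have hψT1 : ∀ α : MulAut X, ψT α = 1 ↔ ∀ m ∈ Z, m⁻¹ * α m ∈ S := by
    intro α
    rw [hψT, MonoidHom.comp_apply, secHom_eq_one_iff]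
    rfl
  have hψW1 : ∀ α : MulAut X, ψW α = 1 ↔ ∀ m ∈ D, m⁻¹ * α m ∈ Z := by
    intro α
    rw [hψW, MonoidHom.comp_apply, secHom_eq_one_iff]
    rfl
  have hψTmk : ∀ (α : MulAut X) (z : Z), ψT α (QuotientGroup.mk z) =
      QuotientGroup.mk (resAut α Z (hZinv α) z) := by
    intro α z
    rw [hψT]
    rfl
  have hψWmk : ∀ (α : MulAut X) (x : D), ψW α (QuotientGroup.mk x) =
      QuotientGroup.mk (resAut α D (hDinv α) x) := by
    intro α x
    rw [hψW]
    rfl
  -- the image of ker ψT in Aut W preserves q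
  have hBq : ∀ b ∈ ψT.ker.map ψW, ∀ w, hcfg.qMap (b w) = hcfg.qMap w := by
    rintro _ ⟨α, hα, rfl⟩ w
    induction w using QuotientGroup.induction_on with
    | H x =>
      rw [hψWmk, hcfg.qMap_mk, hcfg.qMap_mk]
      have e : hcfg.sqZ (resAut α D (hDinv α) x) = resAut α Z (hZinv α) (hcfg.sqZ x) := by
        apply Subtype.ext
        show α x.1 * α x.1 = α (x.1 * x.1)
        rw [map_mul]
      rw [e, ← hψTmk, MonoidHom.mem_ker.mp hα, MulAut.one_apply]
  have hBsolv : Group.IsSolvable (ψT.ker.map ψW) := stab_solvable hyp _ hBq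
  -- the stability group is a 2-group
  have hodd : ∀ β : MulAut X, (orderOf β).Coprime 2 → ψT β = 1 → ψW β = 1 → β = 1 := by
    intro β hβ hT hW
    have hfixZ : ∀ z ∈ Z, β z = z := by
      apply fix_of_sq h2 β hβ _ Z rfl hZcomm (fun y hy => (hZinv β y).mp hy)
      intro y hy
      have := (hψT1 β).mp hT y hy
      rwa [hS] at this
    have hfixD : ∀ x ∈ D, β x = x := by
      intro x hx
      have hu := (hψW1 β).mp hW x hx
      have h1 : β x = x * (x⁻¹ * β x) := by group
      have h3 := Cfsg.Agent.Lib.Helper1.CritExtra.eq_one_of_fixed_of_coprime h2 β hβ x _ h1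
        (hfixZ _ hu)
      rw [h3, mul_one] at h1
      exact h1
    have hfixC : ∀ x ∈ C, β x = x := by
      intro x hx
      have hu : x⁻¹ * β x ∈ D := by
        rw [hD]
        exact ⟨C.mul_mem (C.inv_mem hx) ((hCinv β x).mp hx), inv_mul_mem_invCent h2 h3 β x⟩
      have h1 : β x = x * (x⁻¹ * β x) := by group
      have h3' := Cfsg.Agent.Lib.Helper1.CritExtra.eq_one_of_fixed_of_coprime h2 β hβ x _ h1
        (hfixD _ hu)
      rw [h3', mul_one] at h1
      exact h1
    exact Cfsg.Agent.S0121.result h2 C hCchar hC1 hC2 hC3 β hβ hfixC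
  have hN3 : IsPGroup 2 (ψT.ker ⊓ ψW.ker : Subgroup (MulAut X)) := by
    rintro ⟨α, hα⟩
    have hαT : ψT α = 1 := MonoidHom.mem_ker.mp hα.1
    have hαW : ψW α = 1 := MonoidHom.mem_ker.mp hα.2
    have hord : orderOf α ≠ 0 := (orderOf_pos α).ne'
    obtain ⟨k, m, hm, hkm⟩ := Nat.exists_eq_two_pow_mul_odd hord
    refine ⟨k, ?_⟩
    apply Subtype.ext
    show α ^ 2 ^ k = 1
    apply hodd
    · have h1 : (α ^ 2 ^ k) ^ m = 1 := by
        rw [← pow_mul, ← hkm, pow_orderOf_eq_one]
      have h2' : orderOf (α ^ 2 ^ k) ∣ m := orderOf_dvd_of_pow_eq_one h1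
      have hoddm : Odd (orderOf (α ^ 2 ^ k)) := Odd.of_dvd_nat hm h2'
      exact Nat.coprime_two_right.mpr hoddm
    · rw [map_pow, hαT, one_pow]
    · rw [map_pow, hαW, one_pow]
  have hN3nil : Group.IsNilpotent (ψT.ker ⊓ ψW.ker : Subgroup (MulAut X)) := hN3.isNilpotent
  have hN3solv : Group.IsSolvable (ψT.ker ⊓ ψW.ker : Subgroup (MulAut X)) := inferInstance
  have hN2solv : Group.IsSolvable ψT.ker := by
    apply Group.isSolvable_of_ker_le_range
      (Subgroup.inclusion (inf_le_left : ψT.ker ⊓ ψW.ker ≤ ψT.ker)) (ψW.subgroupMap ψT.ker)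
    intro x hx
    rw [MonoidHom.mem_ker] at hx
    have h1 : ψW x.1 = 1 := by
      have := congrArg Subtype.val hx
      simpa using this
    exact ⟨⟨x.1, x.2, MonoidHom.mem_ker.mpr h1⟩, rfl⟩
  have hTsolv : Group.IsSolvable (MulAut (Z ⧸ S.subgroupOf Z)) :=
    solvable_mulAut_of_card_le_four _ hcard
  apply Group.isSolvable_of_ker_le_range ψT.ker.subtype ψT
  rw [Subgroup.range_subtype]

end Gen

end Cfsg.Agent.Lib.Helper2.ThreeInv
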